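import Groth.Agent.Lib.Helper9.ProperOver1

namespace Groth.Agent.Lib.Helper9.ProperOver

open CategoryTheory CategoryTheory.Limits AlgebraicGeometry TopologicalSpace MorphismProperty
open Scheme

universe u

variable {X S : Scheme.{u}}

/-- the ideal sheaf of the reduced induced structure -/
noncomputable abbrev red (Z : Set X) (hZ : IsClosed Z) : X.IdealSheafData :=
  IdealSheafData.vanishingIdeal ⟨Z, hZ⟩

theorem range_redι (Z : Set X) (hZ : IsClosed Z) :
    Set.range (red Z hZ).subschemeι.base = Z := by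
  have := IdealSheafData.range_subschemeι (red Z hZ)
  rw [IdealSheafData.coe_support_vanishingIdeal] at this
  exact this

theorem isProperOver_iff (f : X ⟶ S) (Z : Set X) (hZ : IsClosed Z) :
    ClSub.IsProperOver f Z ↔ IsProper ((red Z hZ).subschemeι ≫ f) :=
  ⟨fun ⟨_, h⟩ => h, fun h => ⟨hZ, h⟩⟩

/-- a closed immersion with range `Z` receives a surjective closed immersion from the reduced
structure -/
theorem exists_lift_red {T : Scheme.{u}} (i : T ⟶ X) [IsClosedImmersion i] (Z : Set X)
    (hZ : IsClosed Z) (hi : Set.range i.base = Z) :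
    ∃ ρ : (red Z hZ).subscheme ⟶ T, ρ ≫ i = (red Z hZ).subschemeι ∧ IsClosedImmersion ρ ∧
      Function.Surjective ρ.base := by
  have hker : i.ker ≤ (red Z hZ).subschemeι.ker := by
    rw [IdealSheafData.ker_subschemeι, ← IdealSheafData.le_support_iff_le_vanishingIdeal]
    intro z hz
    show z ∈ ((Hom.ker i).support : Set X)
    rw [Scheme.Hom.support_ker]
    apply subset_closure
    rw [hi]; exact hz
  refine ⟨IsClosedImmersion.lift i _ hker, IsClosedImmersion.lift_fac i _ hker, ?_, ?_⟩
  · have : IsClosedImmersion (IsClosedImmersion.lift i _ hker ≫ i) := by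
      rw [IsClosedImmersion.lift_fac]; infer_instance
    exact IsClosedImmersion.of_comp (IsClosedImmersion.lift i _ hker) i
  · intro t
    have ht : i.base t ∈ Set.range (red Z hZ).subschemeι.base := by
      rw [range_redι, ← hi]; exact ⟨t, rfl⟩
    obtain ⟨z, hz⟩ := ht
    refine ⟨z, i.isClosedEmbedding.injective ?_⟩
    rw [← hz]
    exact congrArg (fun φ : (red Z hZ).subscheme ⟶ X => φ.base z)
      (IsClosedImmersion.lift_fac i _ hker)

/-- independence of the closed subscheme structure -/
theorem isProper_iff_of_range_eq (f : X ⟶ S) [LocallyOfFiniteType f] {T : Scheme.{u}} (i : T ⟶ X)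
    [IsClosedImmersion i] (Z : Set X) (hZ : IsClosed Z) (hi : Set.range i.base = Z) :
    IsProper (i ≫ f) ↔ IsProper ((red Z hZ).subschemeι ≫ f) := by
  obtain ⟨ρ, hρ, hρc, hρs⟩ := exists_lift_red i Z hZ hi
  constructor
  · intro h
    rw [← hρ, Category.assoc]
    infer_instance
  · intro h
    have h1 : ∀ _ : Unit, UniversallyClosed ρ := fun _ => inferInstance
    have h2 : ∀ _ : Unit, IsProper (ρ ≫ i ≫ f) := fun _ => by
      rw [← Category.assoc, hρ]; exact h
    exact @isProper_of_finite_cover _ _ (i ≫ f) Unit _ (fun _ : Unit => (red Z hZ).subscheme)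
      (fun _ => ρ) inferInstance h1 h2 (fun t => ⟨(), hρs t⟩)

/-- S0787 -/
theorem isProperOver_tfae (f : X ⟶ S) [LocallyOfFiniteType f] (Z : Set X) (hZ : IsClosed Z) :
    (ClSub.IsProperOver f Z ↔ ∃ (T : Scheme.{u}) (i : T ⟶ X), IsClosedImmersion i ∧
        Set.range ⇑i = Z ∧ IsProper (i ≫ f)) ∧
    (ClSub.IsProperOver f Z ↔ ∀ (T : Scheme.{u}) (i : T ⟶ X), IsClosedImmersion i →
        Set.range ⇑i = Z → IsProper (i ≫ f)) := by
  rw [isProperOver_iff f Z hZ]
  refine ⟨⟨fun h => ⟨_, (red Z hZ).subschemeι, inferInstance, range_redι Z hZ, h⟩, ?_⟩,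
    ⟨?_, fun h => h _ (red Z hZ).subschemeι inferInstance (range_redι Z hZ)⟩⟩
  · rintro ⟨T, i, hi, hr, hp⟩
    exact (isProper_iff_of_range_eq f i Z hZ hr).mp hp
  · intro h T i hi hr
    exact (isProper_iff_of_range_eq f i Z hZ hr).mpr h

/-- S0791 -/
theorem isProperOver_iUnion (f : X ⟶ S) [LocallyOfFiniteType f]
    (ι : Type) [Finite ι] (Z : ι → Set X) (hZ : ∀ i, ClSub.IsProperOver f (Z i)) :
    ClSub.IsProperOver f (Set.iUnion Z) := by
  have hZc : ∀ i, IsClosed (Z i) := fun i => (hZ i).1
  have hU : IsClosed (Set.iUnion Z) := isClosed_iUnion_of_finite hZc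
  rw [isProperOver_iff f _ hU]
  have hle : ∀ i, red (Set.iUnion Z) hU ≤ red (Z i) (hZc i) := fun i =>
    IdealSheafData.vanishingIdeal_antimono (Set.subset_iUnion Z i)
  have hfac : ∀ i, IdealSheafData.inclusion (hle i) ≫ (red (Set.iUnion Z) hU).subschemeι =
      (red (Z i) (hZc i)).subschemeι := fun i => IdealSheafData.inclusion_subschemeι (hle i)
  have : ∀ i, UniversallyClosed (IdealSheafData.inclusion (hle i)) := fun i => by
    have : IsClosedImmersion (IdealSheafData.inclusion (hle i) ≫
        (red (Set.iUnion Z) hU).subschemeι) := by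
      rw [hfac]; infer_instance
    have := IsClosedImmersion.of_comp (IdealSheafData.inclusion (hle i))
      (red (Set.iUnion Z) hU).subschemeι
    infer_instance
  have : ∀ i, IsProper (IdealSheafData.inclusion (hle i) ≫
      (red (Set.iUnion Z) hU).subschemeι ≫ f) := fun i => by
    rw [← Category.assoc, hfac]
    exact (isProperOver_iff f _ (hZc i)).mp (hZ i)
  refine isProper_of_finite_cover _ (fun i => (red (Z i) (hZc i)).subscheme)
    (fun i => IdealSheafData.inclusion (hle i)) ?_
  intro t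
  have ht : (red (Set.iUnion Z) hU).subschemeι.base t ∈ Set.iUnion Z :=
    (range_redι _ hU).le ⟨t, rfl⟩
  obtain ⟨i, hi⟩ := Set.mem_iUnion.mp ht
  obtain ⟨z, hz⟩ := (range_redι _ (hZc i)).ge hi
  refine ⟨i, z, (red (Set.iUnion Z) hU).subschemeι.isClosedEmbedding.injective ?_⟩
  rw [← hz]
  exact congrArg (fun φ : (red (Z i) (hZc i)).subscheme ⟶ X => φ.base z) (hfac i)

end Groth.Agent.Lib.Helper9.ProperOver
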