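import Groth.Agent.Lib.Helper9.ProperOver2

namespace Groth.Agent.Lib.Helper9.ProperOver

open CategoryTheory CategoryTheory.Limits AlgebraicGeometry TopologicalSpace MorphismProperty
open Scheme

universe u

theorem isProperOver_image {X Y S : Scheme.{u}} (q : Y ⟶ S) [LocallyOfFiniteType q] (f : X ⟶ Y)
    (Z : Set X) (hZ : IsClosed Z) [UniversallyClosed ((red Z hZ).subschemeι ≫ f)]
    (hp : IsProper ((red Z hZ).subschemeι ≫ f ≫ q)) :
    ClSub.IsProperOver q (f.base '' Z) := by
  have hrange : Set.range ((red Z hZ).subschemeι ≫ f).base = f.base '' Z := by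
    rw [Scheme.Hom.comp_base, TopCat.coe_comp, Set.range_comp, range_redι]
  have hW : IsClosed (f.base '' Z) := by
    rw [← hrange]
    exact ((red Z hZ).subschemeι ≫ f).isClosedMap.isClosed_range
  rw [isProperOver_iff q _ hW]
  have hker : (red (f.base '' Z) hW).subschemeι.ker ≤ ((red Z hZ).subschemeι ≫ f).ker := by
    rw [IdealSheafData.ker_subschemeι, Scheme.Hom.ker_comp, IdealSheafData.ker_subschemeι,
      IdealSheafData.map_vanishingIdeal]
    apply IdealSheafData.vanishingIdeal_antimono
    rw [TopologicalSpace.Closeds.closure_le]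
    exact subset_rfl
  set ρ := IsClosedImmersion.lift (red (f.base '' Z) hW).subschemeι
    ((red Z hZ).subschemeι ≫ f) hker with hρdef
  have hfac : ρ ≫ (red (f.base '' Z) hW).subschemeι = (red Z hZ).subschemeι ≫ f :=
    IsClosedImmersion.lift_fac _ _ hker
  have hρuc : UniversallyClosed ρ := by
    refine MorphismProperty.of_postcomp (W := @UniversallyClosed) (W' := @IsSeparated) ρ
      (red (f.base '' Z) hW).subschemeι inferInstance ?_
    rw [hfac]; infer_instance
  have hρs : Function.Surjective ρ.base := by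
    intro w
    have hw : (red (f.base '' Z) hW).subschemeι.base w ∈ f.base '' Z :=
      (range_redι _ hW).le ⟨w, rfl⟩
    obtain ⟨z, hz⟩ := hrange.ge hw
    refine ⟨z, (red (f.base '' Z) hW).subschemeι.isClosedEmbedding.injective ?_⟩
    rw [← hz]
    exact congrArg (fun φ : (red Z hZ).subscheme ⟶ Y => φ.base z) hfac
  have h1 : ∀ _ : Unit, UniversallyClosed ρ := fun _ => hρuc
  have h2 : ∀ _ : Unit, IsProper (ρ ≫ (red (f.base '' Z) hW).subschemeι ≫ q) := fun _ => by
    rw [← Category.assoc, hfac, Category.assoc]; exact hp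
  exact @isProper_of_finite_cover _ _ ((red (f.base '' Z) hW).subschemeι ≫ q) Unit _
    (fun _ : Unit => (red Z hZ).subscheme) (fun _ => ρ) inferInstance h1 h2
    (fun t => ⟨(), hρs t⟩)

/-- S0789 -/
theorem isProperOver_image_of_universallyClosed {X Y S : Scheme.{u}} (p : X ⟶ S) (q : Y ⟶ S)
    [LocallyOfFiniteType p] [LocallyOfFiniteType q] (f : X ⟶ Y) [UniversallyClosed f]
    (w : f ≫ q = p) (Z : Set X) (hZ : ClSub.IsProperOver p Z) :
    ClSub.IsProperOver q (⇑f '' Z) := by
  obtain ⟨hZc, hp⟩ := hZ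
  subst w
  exact isProperOver_image q f Z hZc hp

/-- S0788 -/
theorem isProperOver_image_of_isSeparated {X Y S : Scheme.{u}} (p : X ⟶ S) (q : Y ⟶ S)
    [LocallyOfFiniteType p] [LocallyOfFiniteType q] [IsSeparated q] (f : X ⟶ Y) (w : f ≫ q = p)
    (Z : Set X) (hZ : ClSub.IsProperOver p Z) : ClSub.IsProperOver q (⇑f '' Z) := by
  obtain ⟨hZc, hp⟩ := hZ
  subst w
  have : IsProper ((red Z hZc).subschemeι ≫ f) := by
    refine MorphismProperty.of_postcomp (W := @IsProper) (W' := @IsSeparated) _ q inferInstance ?_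
    rw [Category.assoc]; exact hp
  exact isProperOver_image q f Z hZc hp

/-- S0790 -/
theorem isProperOver_preimage_of_isProper {X Y S : Scheme.{u}} (p : X ⟶ S) (q : Y ⟶ S)
    [LocallyOfFiniteType p] [LocallyOfFiniteType q] (f : X ⟶ Y) [IsProper f] (w : f ≫ q = p)
    (Z : Set Y) (hZ : ClSub.IsProperOver q Z) : ClSub.IsProperOver p (⇑f ⁻¹' Z) := by
  obtain ⟨hZc, hp⟩ := hZ
  have hcl : IsClosed (f.base ⁻¹' Z) := hZc.preimage f.continuous
  refine (isProperOver_tfae p _ hcl).1.mpr
    ⟨pullback f (red Z hZc).subschemeι, pullback.fst f (red Z hZc).subschemeι, inferInstance, ?_, ?_⟩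
  · have := Scheme.Pullback.range_fst f (red Z hZc).subschemeι
    rw [this, range_redι]
  · have : pullback.fst f (red Z hZc).subschemeι ≫ p =
        pullback.snd f (red Z hZc).subschemeι ≫ (red Z hZc).subschemeι ≫ q := by
      rw [← w, ← Category.assoc, pullback.condition, Category.assoc]
    rw [this]
    infer_instance

/-- S0793 -/
theorem isProperOver_preimage_of_isPullback {X S X' S' : Scheme.{u}} (f : X ⟶ S)
    [LocallyOfFiniteType f] (g : S' ⟶ S) (g' : X' ⟶ X) (f' : X' ⟶ S') (sq : IsPullback g' f' f g)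
    (Z : Set X) (hZ : ClSub.IsProperOver f Z) : ClSub.IsProperOver f' (⇑g' ⁻¹' Z) := by
  obtain ⟨hZc, hp⟩ := hZ
  have hcl : IsClosed (g'.base ⁻¹' Z) := hZc.preimage g'.continuous
  have : LocallyOfFiniteType f' := MorphismProperty.of_isPullback sq inferInstance
  refine (isProperOver_tfae f' _ hcl).1.mpr
    ⟨pullback g' (red Z hZc).subschemeι, pullback.fst g' (red Z hZc).subschemeι, inferInstance,
      ?_, ?_⟩
  · have := Scheme.Pullback.range_fst g' (red Z hZc).subschemeι
    rw [this, range_redι]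
  · have top := (IsPullback.of_hasPullback g' (red Z hZc).subschemeι).flip
    have big := top.paste_vert sq
    exact MorphismProperty.of_isPullback big hp

end Groth.Agent.Lib.Helper9.ProperOver
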