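import Groth.Prelude.Def_HTop2
import Mathlib.AlgebraicGeometry.Morphisms.UniversallyInjective
import Mathlib.AlgebraicGeometry.Morphisms.UniversallyClosed
import Mathlib.AlgebraicGeometry.Morphisms.Integral
import Mathlib.AlgebraicGeometry.ResidueField
import Mathlib.RingTheory.LocalRing.ResidueField.Ideal
import Mathlib.RingTheory.RingHom.PurelyInseparable

/-!
# Universal homeomorphisms of affine schemes with trivial residue field extensions, ring-theoretically
-/

set_option autoImplicit false
universe u
open CategoryTheory AlgebraicGeometry MorphismProperty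

namespace Groth.Agent.Lib.Helper9.UnivHomeoRing

theorem isUnivHomeo_iff {X Y : Scheme.{u}} (f : X ⟶ Y) :
    FlatMor.IsUnivHomeo f ↔ UniversallyClosed f ∧ UniversallyInjective f ∧ Surjective f := by
  constructor
  · intro h
    refine ⟨⟨fun X' Y' i₁ i₂ f' hf => (h i₁ i₂ f' hf).isClosedMap⟩,
      ⟨fun X' Y' i₁ i₂ f' hf => (h i₁ i₂ f' hf).injective⟩,
      ⟨(h _ _ _ IsPullback.of_id_snd).surjective⟩⟩
  · rintro ⟨hc, hi, hs⟩ X' Y' i₁ i₂ f' hf
    have h1 : IsClosedMap f' := hc.universally_isClosedMap i₁ i₂ f' hf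
    have h2 : Function.Injective f' := hi.universally_injective i₁ i₂ f' hf
    have h3 : Surjective f' := MorphismProperty.of_isPullback (P := @Surjective) hf.flip hs
    exact (isHomeomorph_iff_continuous_isClosedMap_bijective).mpr ⟨f'.continuous, h1, h2, h3.surj⟩

set_option backward.isDefEq.respectTransparency.types false in
/-- The residue field map of `Spec.map φ` agrees with the ring-theoretic one. -/
theorem residueFieldMap_SpecMap {R S : CommRingCat.{u}} (φ : R ⟶ S) (x : Spec S) :
    (Scheme.Spec.residueFieldIso R ((Spec.map φ) x)).inv ≫ (Spec.map φ).residueFieldMap x ≫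
      (Scheme.Spec.residueFieldIso S x).hom =
    CommRingCat.ofHom (Ideal.ResidueField.map (PrimeSpectrum.comap φ.hom x).asIdeal x.asIdeal
      φ.hom rfl) := by
  have h1 : CommRingCat.ofHom (algebraMap R ((Spec.map φ) x).asIdeal.ResidueField) ≫
      (Scheme.Spec.residueFieldIso R ((Spec.map φ) x)).inv ≫ (Spec.map φ).residueFieldMap x ≫
      (Scheme.Spec.residueFieldIso S x).hom =
      φ ≫ CommRingCat.ofHom (algebraMap S x.asIdeal.ResidueField) := by
    rw [Scheme.Spec.algebraMap_residueFieldIso_inv_assoc]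
    rw [Scheme.residue_residueFieldMap_assoc, Scheme.Hom.germ_stalkMap_assoc]
    have h2 : φ ≫ CommRingCat.ofHom (algebraMap S x.asIdeal.ResidueField) =
        φ ≫ (CommRingCat.ofHom (algebraMap S x.asIdeal.ResidueField) ≫
          (Scheme.Spec.residueFieldIso S x).inv) ≫ (Scheme.Spec.residueFieldIso S x).hom := by
      rw [Category.assoc, Iso.inv_hom_id, Category.comp_id]
    rw [h2, Scheme.Spec.algebraMap_residueFieldIso_inv]
    simp only [Category.assoc]
    rw [Scheme.ΓSpecIso_inv_naturality_assoc]
    rfl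
  apply CommRingCat.hom_ext
  apply Ideal.ResidueField.ringHom_ext
  have h3 := congrArg CommRingCat.Hom.hom h1
  refine h3.trans ?_
  ext a
  exact (Ideal.ResidueField.map_algebraMap _ _ _ _ a).symm

set_option backward.isDefEq.respectTransparency.types false in
theorem isIso_residueFieldMap_SpecMap_iff {R S : CommRingCat.{u}} (φ : R ⟶ S) (x : Spec S) :
    IsIso ((Spec.map φ).residueFieldMap x) ↔
      Function.Bijective (Ideal.ResidueField.map (PrimeSpectrum.comap φ.hom x).asIdeal x.asIdeal
        φ.hom rfl) := by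
  have h := residueFieldMap_SpecMap φ x
  constructor
  · intro hiso
    have h1 : IsIso (CommRingCat.ofHom (Ideal.ResidueField.map
        (PrimeSpectrum.comap φ.hom x).asIdeal x.asIdeal φ.hom rfl)) := by
      rw [← h]
      exact (isIso_comp_left_iff _ _).mpr ((isIso_comp_right_iff _ _).mpr hiso)
    exact (ConcreteCategory.isIso_iff_bijective _).mp h1
  · intro hb
    have h1 : IsIso (CommRingCat.ofHom (Ideal.ResidueField.map
        (PrimeSpectrum.comap φ.hom x).asIdeal x.asIdeal φ.hom rfl)) :=
      (ConcreteCategory.isIso_iff_bijective _).mpr hb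
    rw [← h] at h1
    have h2 := (isIso_comp_left_iff _ _).mp h1
    exact (isIso_comp_right_iff _ _).mp h2

theorem isPurelyInseparable_of_surjective {F E : Type*} [CommRing F] [Ring E] [Algebra F E]
    (h : Function.Surjective (algebraMap F E)) : IsPurelyInseparable F E :=
  ⟨⟨fun x => by obtain ⟨y, rfl⟩ := h x; exact isIntegral_algebraMap⟩, fun x _ => h x⟩

theorem ringHom_isPurelyInseparable_of_surjective {F E : Type*} [CommRing F] [CommRing E]
    (f : F →+* E) (h : Function.Surjective f) : f.IsPurelyInseparable := by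
  let _ := f.toAlgebra
  exact isPurelyInseparable_of_surjective h

/-- B1 -/
theorem isUnivHomeo_and_residueFieldsIso_of {A B : Type u} [CommRing A] [CommRing B] (φ : A →+* B)
    (hint : φ.IsIntegral) (hbij : Function.Bijective (PrimeSpectrum.comap φ))
    (hres : ∀ q : PrimeSpectrum B, Function.Bijective
      (Ideal.ResidueField.map (PrimeSpectrum.comap φ q).asIdeal q.asIdeal φ rfl)) :
    FlatMor.IsUnivHomeo (Spec.map (CommRingCat.ofHom φ)) ∧
      HTop.ResidueFieldsIso (Spec.map (CommRingCat.ofHom φ)) := by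
  have hiso : ∀ x : Spec (CommRingCat.of B),
      IsIso ((Spec.map (CommRingCat.ofHom φ)).residueFieldMap x) :=
    fun x => (isIso_residueFieldMap_SpecMap_iff _ x).mpr (hres x)
  refine ⟨(isUnivHomeo_iff _).mpr ⟨?_, ?_, ?_⟩, hiso⟩
  · have : IsIntegralHom (Spec.map (CommRingCat.ofHom φ)) := IsIntegralHom.SpecMap_iff.mpr hint
    infer_instance
  · refine ((tfae_universallyInjective (Spec.map (CommRingCat.ofHom φ))).out 0 2).mpr ?_
    refine ⟨hbij.1, fun x => ?_⟩
    apply ringHom_isPurelyInseparable_of_surjective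
    have := hiso x
    exact ((ConcreteCategory.isIso_iff_bijective _).mp this).2
  · exact ⟨hbij.2⟩

/-- B2 -/
theorem of_isUnivHomeo_of_residueFieldsIso {A B : Type u} [CommRing A] [CommRing B] (φ : A →+* B)
    (h1 : FlatMor.IsUnivHomeo (Spec.map (CommRingCat.ofHom φ)))
    (h2 : HTop.ResidueFieldsIso (Spec.map (CommRingCat.ofHom φ))) :
    φ.IsIntegral ∧ Function.Bijective (PrimeSpectrum.comap φ) ∧
    ∀ q : PrimeSpectrum B, Function.Bijective
      (Ideal.ResidueField.map (PrimeSpectrum.comap φ q).asIdeal q.asIdeal φ rfl) := by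
  obtain ⟨hc, hi, hs⟩ := (isUnivHomeo_iff _).mp h1
  refine ⟨?_, ⟨(Spec.map (CommRingCat.ofHom φ)).injective, hs.surj⟩, fun q => ?_⟩
  · have : IsIntegralHom (Spec.map (CommRingCat.ofHom φ)) :=
      IsIntegralHom.iff_universallyClosed_and_isAffineHom.mpr ⟨hc, inferInstance⟩
    exact IsIntegralHom.SpecMap_iff.mp this
  · exact (isIso_residueFieldMap_SpecMap_iff (CommRingCat.ofHom φ) q).mp (h2 q)

end Groth.Agent.Lib.Helper9.UnivHomeoRing
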