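import Mathlib.RingTheory.LocalProperties.IntegrallyClosed
import Mathlib.RingTheory.Localization.LocalizationLocalization
import Mathlib.RingTheory.Ideal.MinimalPrime.Localization
import Mathlib.RingTheory.Localization.Away.Basic
import Groth.Prelude.Def_EGA4b

/-!
# Normal rings with finitely many minimal primes: local structure
-/

set_option autoImplicit false
universe u

namespace Groth.Agent.Lib.Helper9.NormalLoc

variable {A : Type u} [CommRing A]

theorem isReduced_of_isNormalRing (hn : EGA4.IsNormalRing A) : IsReduced A := by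
  constructor
  rintro a ⟨n, hn0⟩
  by_contra ha
  have hI : (Submodule.span A {a}).annihilator ≠ ⊤ := by
    intro h
    have : (1 : A) ∈ (Submodule.span A {a}).annihilator := h ▸ Submodule.mem_top
    rw [Submodule.mem_annihilator_span_singleton] at this
    exact ha (by simpa using this)
  obtain ⟨P, hP, hle⟩ := Ideal.exists_le_maximal _ hI
  haveI : P.IsPrime := hP.isPrime
  obtain ⟨hdom, -⟩ := hn P
  have h0 : algebraMap A (Localization.AtPrime P) a = 0 := by
    have : algebraMap A (Localization.AtPrime P) a ^ n = 0 := by rw [← map_pow, hn0, map_zero]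
    exact eq_zero_of_pow_eq_zero this
  rw [IsLocalization.map_eq_zero_iff P.primeCompl] at h0
  obtain ⟨m, hm⟩ := h0
  apply m.2
  apply hle
  rw [Submodule.mem_annihilator_span_singleton]
  exact hm

theorem exists_away (hn : EGA4.IsNormalRing A) (hA : (minimalPrimes A).Finite) (P : Ideal A)
    [P.IsPrime] :
    ∃ (f : A) (p₀ : Ideal A), f ∉ P ∧ p₀ ∈ minimalPrimes A ∧ p₀ ≤ P ∧
      RingHom.ker (algebraMap A (Localization.Away f)) = p₀ ∧
      IsDomain (Localization.Away f) ∧ IsIntegrallyClosed (Localization.Away f) := by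
  classical
  haveI : IsReduced A := isReduced_of_isNormalRing hn
  obtain ⟨hdom, -⟩ := hn P
  set L := Localization.AtPrime P with hL
  set p₀ : Ideal A := RingHom.ker (algebraMap A L) with hp₀
  haveI hp₀prime : p₀.IsPrime := RingHom.ker_isPrime _
  -- elements of `p₀` are killed by something outside `P`
  have hker : ∀ a, a ∈ p₀ ↔ ∃ s : A, s ∉ P ∧ s * a = 0 := by
    intro a
    rw [hp₀, RingHom.mem_ker, IsLocalization.map_eq_zero_iff P.primeCompl]
    constructor
    · rintro ⟨m, hm⟩
      exact ⟨m.1, m.2, hm⟩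
    · rintro ⟨s, hs, hsa⟩
      exact ⟨⟨s, hs⟩, hsa⟩
  have hle_of : ∀ p' : Ideal A, p'.IsPrime → p' ≤ P → p₀ ≤ p' := by
    intro p' hp' hp'P a ha
    obtain ⟨s, hs, hsa⟩ := (hker a).mp ha
    have : s * a ∈ p' := hsa ▸ p'.zero_mem
    exact (hp'.mem_or_mem this).resolve_left (fun h => hs (hp'P h))
  have hp₀P : p₀ ≤ P := hle_of P inferInstance le_rfl
  have hp₀min : p₀ ∈ minimalPrimes A := by
    obtain ⟨p, hp, hple⟩ := Ideal.exists_minimalPrimes_le (bot_le : (⊥ : Ideal A) ≤ p₀)
    have : p₀ ≤ p := hle_of p hp.1.1 (hple.trans hp₀P)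
    rw [le_antisymm this hple]
    exact hp
  have hother : ∀ p' ∈ minimalPrimes A, p' ≠ p₀ → ¬ p' ≤ P := by
    intro p' hp' hne hle
    have h1 : p₀ ≤ p' := hle_of p' hp'.1.1 hle
    exact hne (le_antisymm (hp'.2 ⟨hp₀prime, bot_le⟩ h1) h1)
  -- choose `f`
  have hninf : ¬ (hA.toFinset.erase p₀).inf id ≤ P := by
    rw [Ideal.IsPrime.inf_le' inferInstance]
    rintro ⟨p', hp', hp'P⟩
    rw [Finset.mem_erase, Set.Finite.mem_toFinset] at hp'
    exact hother p' hp'.2 hp'.1 hp'P
  obtain ⟨f, hfmem, hfP⟩ := SetLike.not_le_iff_exists.mp hninf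
  have hf_other : ∀ p' ∈ minimalPrimes A, p' ≠ p₀ → f ∈ p' := by
    intro p' hp' hne
    rw [Submodule.mem_finsetInf] at hfmem
    exact hfmem p' (Finset.mem_erase.mpr ⟨hne, (Set.Finite.mem_toFinset hA).mpr hp'⟩)
  have hK : ∀ a ∈ p₀, f * a = 0 := by
    intro a ha
    have hnil : f * a ∈ nilradical A := by
      rw [nilradical_eq_sInf, Ideal.mem_sInf]
      intro J hJ
      haveI : J.IsPrime := hJ
      obtain ⟨p', hp', hp'J⟩ := Ideal.exists_minimalPrimes_le (bot_le : (⊥ : Ideal A) ≤ J)
      by_cases hpp : p' = p₀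
      · exact hp'J (hpp ▸ Ideal.mul_mem_left _ f ha)
      · exact hp'J (Ideal.mul_mem_right _ _ (hf_other p' hp' hpp))
    exact (mem_nilradical.mp hnil).eq_zero
  have hfp₀ : f ∉ p₀ := fun h => hfP (hp₀P h)
  have hkerB : RingHom.ker (algebraMap A (Localization.Away f)) = p₀ := by
    ext a
    rw [RingHom.mem_ker, IsLocalization.map_eq_zero_iff (Submonoid.powers f)]
    constructor
    · rintro ⟨⟨m, n, rfl⟩, hm⟩
      have : f ^ n * a ∈ p₀ := by
        change f ^ n * a = 0 at hm
        rw [hm]; exact p₀.zero_mem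
      exact (hp₀prime.mem_or_mem this).resolve_left (fun h => hfp₀ (hp₀prime.mem_of_pow_mem n h))
    · intro ha
      exact ⟨⟨f, Submonoid.mem_powers f⟩, hK a ha⟩
  -- the domain structure
  have hunit : IsUnit (algebraMap A L f) := IsLocalization.map_units L (⟨f, hfP⟩ : P.primeCompl)
  let ψ : Localization.Away f →+* L := IsLocalization.Away.lift f hunit
  have hψinj : Function.Injective ψ := by
    rw [injective_iff_map_eq_zero]
    intro b hb
    obtain ⟨a, s, rfl⟩ := IsLocalization.exists_mk'_eq (Submonoid.powers f) b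
    have h1 : ψ (algebraMap A (Localization.Away f) a) = 0 := by
      rw [← IsLocalization.mk'_spec (Localization.Away f) a s, map_mul, hb, zero_mul]
    have h2 : algebraMap A L a = 0 := by
      rw [← h1]
      exact (IsLocalization.Away.lift_eq f hunit a).symm
    have h3 : a ∈ p₀ := h2
    have h4 : algebraMap A (Localization.Away f) a = 0 := by
      rw [← RingHom.mem_ker, hkerB]; exact h3
    rw [IsLocalization.mk'_eq_zero_iff]
    exact (IsLocalization.map_eq_zero_iff (Submonoid.powers f) _ a).mp h4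
  haveI hBdom : IsDomain (Localization.Away f) := Function.Injective.isDomain ψ hψinj
  refine ⟨f, p₀, hfP, hp₀min, hp₀P, hkerB, hBdom, ?_⟩
  apply IsIntegrallyClosed.of_localization_maximal
  intro m _ hm
  haveI : m.IsPrime := hm.isPrime
  haveI : (m.comap (algebraMap A (Localization.Away f))).IsPrime := Ideal.comap_isPrime _ _
  haveI := (hn (m.comap (algebraMap A (Localization.Away f)))).2
  exact IsIntegrallyClosed.of_equiv (IsLocalization.algEquiv
    (m.comap (algebraMap A (Localization.Away f))).primeCompl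
    (Localization.AtPrime (m.comap (algebraMap A (Localization.Away f))))
    (Localization.AtPrime m)).toRingEquiv

end Groth.Agent.Lib.Helper9.NormalLoc
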