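import Groth.Agent.Lib.Helper9.UnivHomeoRing2
import Mathlib.FieldTheory.IsAlgClosed.Basic
import Mathlib.FieldTheory.IsAlgClosed.AlgebraicClosure
import Mathlib.RingTheory.Ideal.GoingUp

/-!
# Radicial ring maps, extension of points along integral maps
-/

set_option autoImplicit false
set_option linter.style.haveILetI false
universe u
open CategoryTheory AlgebraicGeometry MorphismProperty

namespace Groth.Agent.Lib.Helper9.UnivHomeoRing

/-- Extension of a point with values in an algebraically closed field along an injective integral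
ring map. -/
theorem exists_ringHom_extension {R S Ω : Type*} [CommRing R] [CommRing S] [Field Ω] [IsAlgClosed Ω]
    [Algebra R S] [Algebra.IsIntegral R S] (hinj : Function.Injective (algebraMap R S))
    (g : R →+* Ω) : ∃ g' : S →+* Ω, g'.comp (algebraMap R S) = g := by
  let p : Ideal R := RingHom.ker g
  haveI : p.IsPrime := RingHom.ker_isPrime g
  have hker : (⊥ : Ideal S).comap (algebraMap R S) ≤ p := by
    intro x hx
    have h0 : algebraMap R S x = 0 := hx
    rw [hinj (h0.trans (map_zero _).symm)]
    exact p.zero_mem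
  obtain ⟨q, -, hq_prime, hq⟩ := Ideal.exists_ideal_over_prime_of_isIntegral p (⊥ : Ideal S) hker
  haveI := hq_prime
  haveI : q.LiesOver p := ⟨hq.symm⟩
  letI : Algebra (R ⧸ p) Ω := (RingHom.kerLift g).toAlgebra
  haveI : FaithfulSMul (R ⧸ p) Ω :=
    (faithfulSMul_iff_algebraMap_injective _ _).mpr (RingHom.kerLift_injective g)
  let h : (S ⧸ q) →ₐ[R ⧸ p] Ω := IsAlgClosed.lift
  refine ⟨h.toRingHom.comp (Ideal.Quotient.mk q), ?_⟩
  ext x
  have h1 := h.commutes (Ideal.Quotient.mk p x)
  rw [Ideal.Quotient.algebraMap_mk_of_liesOver] at h1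
  exact h1

theorem exists_ringHom_extension' {R S Ω : Type*} [CommRing R] [CommRing S] [Field Ω]
    [IsAlgClosed Ω] (f : R →+* S) (hint : f.IsIntegral) (hinj : Function.Injective f)
    (g : R →+* Ω) : ∃ g' : S →+* Ω, g'.comp f = g := by
  letI := f.toAlgebra
  haveI : Algebra.IsIntegral R S := ⟨hint⟩
  exact exists_ringHom_extension hinj g

/-- A ring map is radicial if ring maps to fields are determined by their restriction along it. -/
def IsRadicial {A B : Type u} [CommRing A] [CommRing B] (φ : A →+* B) : Prop :=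
  ∀ (K : Type u) [Field K] (g₁ g₂ : B →+* K), g₁.comp φ = g₂.comp φ → g₁ = g₂

theorem universallyClosed_SpecMap_iff {A B : Type u} [CommRing A] [CommRing B] (φ : A →+* B) :
    UniversallyClosed (Spec.map (CommRingCat.ofHom φ)) ↔ φ.IsIntegral := by
  constructor
  · intro hc
    have : IsIntegralHom (Spec.map (CommRingCat.ofHom φ)) :=
      IsIntegralHom.iff_universallyClosed_and_isAffineHom.mpr ⟨hc, inferInstance⟩
    exact IsIntegralHom.SpecMap_iff.mp this
  · intro hint
    have : IsIntegralHom (Spec.map (CommRingCat.ofHom φ)) := IsIntegralHom.SpecMap_iff.mpr hint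
    infer_instance

theorem universallyInjective_SpecMap_iff {A B : Type u} [CommRing A] [CommRing B] (φ : A →+* B) :
    UniversallyInjective (Spec.map (CommRingCat.ofHom φ)) ↔ IsRadicial φ := by
  constructor
  · intro hi K _ g₁ g₂ hg
    have h2 : ∀ (K : Type u) [Field K], Function.Injective
        (fun g : Spec (.of K) ⟶ Spec (.of B) ↦ g ≫ Spec.map (CommRingCat.ofHom φ)) :=
      ((tfae_universallyInjective (Spec.map (CommRingCat.ofHom φ))).out 0 1).mp hi
    have h3 : Spec.map (CommRingCat.ofHom g₁) = Spec.map (CommRingCat.ofHom g₂) := by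
      apply h2 K
      change Spec.map (CommRingCat.ofHom g₁) ≫ Spec.map (CommRingCat.ofHom φ) =
        Spec.map (CommRingCat.ofHom g₂) ≫ Spec.map (CommRingCat.ofHom φ)
      rw [← Spec.map_comp, ← Spec.map_comp, ← CommRingCat.ofHom_comp, ← CommRingCat.ofHom_comp, hg]
    have h4 := Spec.map_injective h3
    exact congrArg CommRingCat.Hom.hom h4
  · intro hK
    have h2 : ∀ (K : Type u) [Field K], Function.Injective
        (fun g : Spec (.of K) ⟶ Spec (.of B) ↦ g ≫ Spec.map (CommRingCat.ofHom φ)) := by
      intro K _ g₁ g₂ hg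
      obtain ⟨ψ₁, rfl⟩ := Spec.map_surjective g₁
      obtain ⟨ψ₂, rfl⟩ := Spec.map_surjective g₂
      change Spec.map ψ₁ ≫ Spec.map (CommRingCat.ofHom φ) =
          Spec.map ψ₂ ≫ Spec.map (CommRingCat.ofHom φ) at hg
      rw [← Spec.map_comp, ← Spec.map_comp] at hg
      have h4 := congrArg CommRingCat.Hom.hom (Spec.map_injective hg)
      simp only [CommRingCat.hom_comp, CommRingCat.hom_ofHom] at h4
      have := hK K ψ₁.hom ψ₂.hom h4
      congr 1
      exact CommRingCat.hom_ext this
    exact ((tfae_universallyInjective (Spec.map (CommRingCat.ofHom φ))).out 0 1).mpr h2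

theorem isUnivHomeo_SpecMap_iff' {A B : Type u} [CommRing A] [CommRing B] (φ : A →+* B) :
    FlatMor.IsUnivHomeo (Spec.map (CommRingCat.ofHom φ)) ↔
      φ.IsIntegral ∧ Function.Surjective (PrimeSpectrum.comap φ) ∧ IsRadicial φ :=
  isUnivHomeo_SpecMap_iff φ

/-- Radicial maps descend along injective integral maps. -/
theorem isRadicial_of_comp {A B' B : Type u} [CommRing A] [CommRing B'] [CommRing B]
    (f : A →+* B') (g : B' →+* B) (hg : Function.Injective g) (hint : g.IsIntegral)
    (h : IsRadicial (g.comp f)) : IsRadicial f := by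
  intro K _ g₁ g₂ h12
  let ι : K →+* AlgebraicClosure K := algebraMap K (AlgebraicClosure K)
  obtain ⟨e₁, he₁⟩ := exists_ringHom_extension' g hint hg (ι.comp g₁)
  obtain ⟨e₂, he₂⟩ := exists_ringHom_extension' g hint hg (ι.comp g₂)
  have h3 : e₁ = e₂ := by
    apply h (AlgebraicClosure K)
    rw [← RingHom.comp_assoc, ← RingHom.comp_assoc, he₁, he₂, RingHom.comp_assoc,
      RingHom.comp_assoc, h12]
  have h4 : ι.comp g₁ = ι.comp g₂ := by rw [← he₁, ← he₂, h3]
  refine RingHom.ext fun b => ι.injective ?_
  exact congrArg (fun ψ => ψ b) (congrArg DFunLike.coe h4)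

/-- All residue field maps of `φ` are surjective (generic form). -/
def ResSurj {A B : Type u} [CommRing A] [CommRing B] (φ : A →+* B) : Prop :=
  ∀ (q : Ideal B) [q.IsPrime] (p : Ideal A) [p.IsPrime] (hp : p = Ideal.comap φ q),
    Function.Surjective (Ideal.ResidueField.map p q φ hp)

theorem resSurj_iff {A B : Type u} [CommRing A] [CommRing B] (φ : A →+* B) :
    ResSurj φ ↔ ∀ q : PrimeSpectrum B, Function.Surjective (Ideal.ResidueField.map
      (PrimeSpectrum.comap φ q).asIdeal q.asIdeal φ rfl) := by
  constructor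
  · intro h q
    exact h q.asIdeal (PrimeSpectrum.comap φ q).asIdeal rfl
  · intro h q _ p _ hp
    subst hp
    exact h ⟨q, inferInstance⟩

theorem resSurj_iff_SpecMap {A B : Type u} [CommRing A] [CommRing B] (φ : A →+* B) :
    ResSurj φ ↔ ∀ x : Spec (CommRingCat.of B),
      Function.Surjective ((Spec.map (CommRingCat.ofHom φ)).residueFieldMap x) := by
  rw [resSurj_iff]
  constructor
  · intro h x
    exact (surjective_residueFieldMap_SpecMap_iff (CommRingCat.ofHom φ) x).mpr (h x)
  · intro h q
    exact (surjective_residueFieldMap_SpecMap_iff (CommRingCat.ofHom φ) q).mp (h q)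

/-- Surjectivity of residue field maps descends along injective integral maps. -/
theorem resSurj_of_comp {A B' B : Type u} [CommRing A] [CommRing B'] [CommRing B]
    (f : A →+* B') (g : B' →+* B) (hg : Function.Injective g) (hint : g.IsIntegral)
    (h : ResSurj (g.comp f)) : ResSurj f := by
  intro c _ p _ hp
  letI := g.toAlgebra
  haveI : Algebra.IsIntegral B' B := ⟨hint⟩
  have hker : (⊥ : Ideal B).comap (algebraMap B' B) ≤ c := by
    intro x hx
    have h0 : g x = 0 := hx
    rw [hg (h0.trans (map_zero _).symm)]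
    exact c.zero_mem
  obtain ⟨q, -, hq_prime, hq⟩ :=
    Ideal.exists_ideal_over_prime_of_isIntegral c (⊥ : Ideal B) hker
  have hq' : c = Ideal.comap g q := hq.symm
  haveI := hq_prime
  have hpq : p = Ideal.comap (g.comp f) q := by
    rw [hp, hq', Ideal.comap_comap]
  have hcomp : (Ideal.ResidueField.map c q g hq').comp (Ideal.ResidueField.map p c f hp) =
      Ideal.ResidueField.map p q (g.comp f) hpq := by
    apply Ideal.ResidueField.ringHom_ext
    refine RingHom.ext fun a => ?_
    simp only [RingHom.comp_apply]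
    rw [Ideal.ResidueField.map_algebraMap, Ideal.ResidueField.map_algebraMap,
      Ideal.ResidueField.map_algebraMap]
    rfl
  intro y
  obtain ⟨z, hz⟩ := h q p hpq (Ideal.ResidueField.map c q g hq' y)
  refine ⟨z, (Ideal.ResidueField.map c q g hq').injective ?_⟩
  rw [← hz]
  exact congrArg (fun ψ => ψ z) (congrArg DFunLike.coe hcomp)

end Groth.Agent.Lib.Helper9.UnivHomeoRing
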