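import Groth.Prelude.Def_PBC
import Mathlib.CategoryTheory.ObjectProperty.Ind
import Mathlib.Algebra.Category.Ring.FinitePresentation
import Mathlib.RingTheory.Etale.Basic

namespace Groth.Agent.Lib.Helper9.IndEt

open CategoryTheory CategoryTheory.Limits TensorProduct

universe u

/-- the property of being an étale algebra, for objects under `A` -/
def etaleProp (A : Type u) [CommRing A] : ObjectProperty (Under (CommRingCat.of A)) :=
  fun X => letI := X.hom.hom.toAlgebra; Algebra.Etale A X.right

theorem etaleProp_le_isFinitelyPresentable (A : Type u) [CommRing A] :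
    etaleProp A ≤ ObjectProperty.isFinitelyPresentable.{u} (Under (CommRingCat.of A)) := by
  intro X hX
  apply CommRingCat.isFinitelyPresentable_under
  letI := X.hom.hom.toAlgebra
  haveI : Algebra.Etale A X.right := hX
  have : Algebra.FinitePresentation A X.right := inferInstance
  exact this

theorem isIndEtale_iff_ind (A B : Type u) [CommRing A] [CommRing B] [Algebra A B] :
    EtPBC.IsIndEtale A B ↔
      (etaleProp A).ind.{u} (Under.mk (CommRingCat.ofHom (algebraMap A B))) := by
  constructor
  · rintro ⟨J, hJ, hJf, D, c, hc, hEt, ⟨e⟩⟩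
    refine ⟨J, hJ, hJf, ColimitPresentation.ofIso ⟨D, c.ι, ?_⟩ e, fun j => hEt j⟩
    exact hc
  · rintro ⟨J, hJ, hJf, pres, h⟩
    exact ⟨J, hJ, hJf, pres.diag, Cocone.mk _ pres.ι, pres.isColimit, fun j => h j, ⟨Iso.refl _⟩⟩

theorem isIndEtale_of_isColimit_filtered (A B : Type u) [CommRing A] [CommRing B] [Algebra A B]
    {J : Type u} [SmallCategory J] [IsFiltered J] (D : J ⥤ Under (CommRingCat.of A))
    (hD : ∀ j, letI := (D.obj j).hom.hom.toAlgebra; EtPBC.IsIndEtale A ↥(D.obj j).right)
    (c : Cocone D) (hc : IsColimit c)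
    (e : c.pt ≅ Under.mk (CommRingCat.ofHom (algebraMap A B))) :
    EtPBC.IsIndEtale A B := by
  rw [isIndEtale_iff_ind, ← ObjectProperty.ind_ind (etaleProp_le_isFinitelyPresentable A)]
  refine ⟨J, inferInstance, inferInstance, ColimitPresentation.ofIso ⟨D, c.ι, hc⟩ e, fun j => ?_⟩
  letI := (D.obj j).hom.hom.toAlgebra
  exact (isIndEtale_iff_ind A (D.obj j).right).mp (hD j)

end Groth.Agent.Lib.Helper9.IndEt
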