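import Mathlib

set_option autoImplicit false
universe u
open CategoryTheory CategoryTheory.Limits AlgebraicGeometry TopologicalSpace

namespace Groth.Agent.Lib.Helper9.LimClosed

variable {I : Type u} [SmallCategory I] [IsCofiltered I] (D : I ⥤ Scheme.{u})
  (c : Cone D) (hc : IsLimit c) [∀ {i j : I} (f : i ⟶ j), IsAffineHom (D.map f)]

include hc in
/-- sections of the limit over the preimage of an affine open come from a finite stage -/
lemma exists_appLE_π_eq (i₀ : I) (W : (D.obj i₀).Opens) (hW : IsAffineOpen W)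
    (s : Γ(c.pt, c.π.app i₀ ⁻¹ᵁ W)) :
    ∃ (j : I) (u : j ⟶ i₀) (x : Γ(D.obj j, D.map u ⁻¹ᵁ W)),
      (c.π.app j).appLE (D.map u ⁻¹ᵁ W) (c.π.app i₀ ⁻¹ᵁ W)
        (by rw [← Scheme.Hom.comp_preimage, c.w]) x = s := by
  have hA : ∀ j : Over i₀, IsAffine ((opensDiagram D i₀ W).obj j) := fun j =>
    hW.preimage (D.map j.hom)
  obtain ⟨j, x', hx'⟩ := exists_appTop_π_eq_of_isAffine_of_isLimit (opensDiagram D i₀ W)
    (opensCone D c i₀ W) (isLimitOpensCone D c hc i₀ W)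
    ((c.π.app i₀ ⁻¹ᵁ W).topIso.inv s)
  refine ⟨j.left, j.hom, (D.map j.hom ⁻¹ᵁ W).topIso.hom x', ?_⟩
  have h3 : ((c.π.app j.left).resLE (D.map j.hom ⁻¹ᵁ W) (c.π.app i₀ ⁻¹ᵁ W)
      (by rw [← Scheme.Hom.comp_preimage, c.w])).appTop x' =
      (c.π.app i₀ ⁻¹ᵁ W).topIso.inv s := hx'
  rw [Scheme.Hom.appTop, Scheme.Hom.resLE_app_top] at h3
  simp only [CommRingCat.comp_apply] at h3
  have hinj : Function.Injective (c.π.app i₀ ⁻¹ᵁ W).topIso.inv :=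
    (ConcreteCategory.bijective_of_isIso (c.π.app i₀ ⁻¹ᵁ W).topIso.inv).1
  exact hinj h3

lemma appLE_congr_hom {X Y : Scheme.{u}} {f f' : X ⟶ Y} (hf : f = f') (U : Y.Opens)
    (V : X.Opens) (e : V ≤ f ⁻¹ᵁ U) :
    f.appLE U V e = f'.appLE U V (hf ▸ e) := by
  subst hf; rfl

variable {S : Scheme.{u}} (t : D ⟶ (Functor.const I).obj S)

include hc in
lemma exists_surjective_app {Y : Scheme.{u}} (h : Y ⟶ c.pt) [IsClosedImmersion h] (i₀ : I)
    [LocallyOfFiniteType (h ≫ c.π.app i₀ ≫ t.app i₀)]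
    (W : (D.obj i₀).Opens) (hW : IsAffineOpen W) (V : S.Opens) (hV : IsAffineOpen V)
    (hWV : W ≤ t.app i₀ ⁻¹ᵁ V) :
    ∃ (j : I) (u : j ⟶ i₀), ∀ (k : I) (v : k ⟶ j),
      Function.Surjective ((h ≫ c.π.app k).app (D.map (v ≫ u) ⁻¹ᵁ W)) := by
  classical
  have hπ : IsAffineHom (c.π.app i₀) := isAffineHom_π_app D c hc i₀
  set U : c.pt.Opens := c.π.app i₀ ⁻¹ᵁ W with hU
  have hUa : IsAffineOpen U := hW.preimage (c.π.app i₀)
  set Z : Y.Opens := h ⁻¹ᵁ U with hZ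
  have hZa : IsAffineOpen Z := hUa.preimage h
  have hZV : Z ≤ (h ≫ c.π.app i₀ ≫ t.app i₀) ⁻¹ᵁ V := by
    intro y hy
    exact hWV hy
  have hft := HasRingHomProperty.appLE (P := @LocallyOfFiniteType)
    (h ≫ c.π.app i₀ ≫ t.app i₀) inferInstance ⟨V, hV⟩ ⟨Z, hZa⟩ hZV
  set φ := (h ≫ c.π.app i₀ ≫ t.app i₀).appLE V Z hZV with hφ
  letI : Algebra Γ(S, V) Γ(Y, Z) := φ.hom.toAlgebra
  have hft' : Algebra.FiniteType Γ(S, V) Γ(Y, Z) := hft
  obtain ⟨G, hG⟩ := (Algebra.FiniteType.out : (⊤ : Subalgebra Γ(S, V) Γ(Y, Z)).FG)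
  -- lift the generators
  have hlift : ∀ y : Γ(Y, Z), ∃ (j : I) (u : j ⟶ i₀) (x : Γ(D.obj j, D.map u ⁻¹ᵁ W)),
      (h ≫ c.π.app j).appLE (D.map u ⁻¹ᵁ W) Z
        (by rw [hZ, hU, Scheme.Hom.comp_preimage, ← Scheme.Hom.comp_preimage (c.π.app j), c.w]) x
        = y := by
    intro y
    obtain ⟨x, rfl⟩ := h.app_surjective U hUa y
    obtain ⟨j, u, x', rfl⟩ := exists_appLE_π_eq D c hc i₀ W hW x
    refine ⟨j, u, x', ?_⟩
    rw [← Scheme.Hom.appLE_comp_appLE h (c.π.app j) (D.map u ⁻¹ᵁ W) U Z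
      (by rw [hU, ← Scheme.Hom.comp_preimage, c.w]) le_rfl, CommRingCat.comp_apply,
      Scheme.Hom.appLE_eq_app]
  choose jy uy xy hxy using hlift
  obtain ⟨j, u, w, hw⟩ := IsCofiltered.wideCospan (I := ↥G) (fun y => uy y.1)
  refine ⟨j, u, fun k v => ?_⟩
  have hZk : Z = (h ≫ c.π.app k) ⁻¹ᵁ (D.map (v ≫ u) ⁻¹ᵁ W) := by
    rw [hZ, hU, Scheme.Hom.comp_preimage, ← Scheme.Hom.comp_preimage (c.π.app k), c.w]
  rw [Scheme.Hom.app_eq_appLE]
  refine (Scheme.Hom.appLE_congr (h ≫ c.π.app k) (U := D.map (v ≫ u) ⁻¹ᵁ W)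
    (V := Z) hZk.le rfl hZk (fun φ => Function.Surjective φ)).1 ?_
  set ρ := (h ≫ c.π.app k).appLE (D.map (v ≫ u) ⁻¹ᵁ W) Z hZk.le with hρ
  -- the structure map factors through ρ
  have hWk : D.map (v ≫ u) ⁻¹ᵁ W ≤ t.app k ⁻¹ᵁ V := by
    have hnat : D.map (v ≫ u) ≫ t.app i₀ = t.app k := by
      simp
    rw [← hnat, Scheme.Hom.comp_preimage]
    exact Scheme.Hom.preimage_mono _ hWV
  have hφρ : φ = (t.app k).appLE V (D.map (v ≫ u) ⁻¹ᵁ W) hWk ≫ ρ := by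
    rw [hρ, Scheme.Hom.appLE_comp_appLE, hφ]
    apply appLE_congr_hom
    have hnat : D.map (v ≫ u) ≫ t.app i₀ = t.app k := by
      simp
    rw [Category.assoc, ← hnat, ← Category.assoc (c.π.app k), c.w]
  let T : Subalgebra Γ(S, V) Γ(Y, Z) :=
    { ρ.hom.rangeS with
      algebraMap_mem' := fun r => ⟨((t.app k).appLE V (D.map (v ≫ u) ⁻¹ᵁ W) hWk).hom r, by
        change ρ.hom _ = φ.hom r
        rw [hφρ]; rfl⟩ }
  have hGT : (G : Set Γ(Y, Z)) ⊆ T := by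
    intro y hy
    have hy' : y ∈ G := hy
    have hjk : D.map (v ≫ u) ⁻¹ᵁ W ≤ D.map (v ≫ w ⟨y, hy'⟩) ⁻¹ᵁ (D.map (uy y) ⁻¹ᵁ W) := by
      rw [← Scheme.Hom.comp_preimage, ← D.map_comp, Category.assoc, hw ⟨y, hy'⟩]
    refine ⟨((D.map (v ≫ w ⟨y, hy'⟩)).appLE (D.map (uy y) ⁻¹ᵁ W) (D.map (v ≫ u) ⁻¹ᵁ W) hjk).hom
      (xy y), ?_⟩
    change ρ.hom _ = y
    rw [← CommRingCat.comp_apply, hρ, Scheme.Hom.appLE_comp_appLE]
    refine Eq.trans ?_ (hxy y)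
    exact congrArg (fun ψ : Γ(D.obj (jy y), D.map (uy y) ⁻¹ᵁ W) ⟶ Γ(Y, Z) => ψ.hom (xy y))
      (appLE_congr_hom (by rw [Category.assoc, c.w]) _ _ _)
  have htop : T = ⊤ := by
    apply top_le_iff.1
    rw [← hG]
    exact Algebra.adjoin_le hGT
  intro z
  have hz : z ∈ T := by rw [htop]; trivial
  obtain ⟨s, hs⟩ := hz
  exact ⟨s, hs⟩

lemma isClosedImmersion_morphismRestrict_of_surjective {X Y : Scheme.{u}} (g : Y ⟶ X)
    (W : X.Opens) (hW : IsAffineOpen W) (hgW : IsAffineOpen (g ⁻¹ᵁ W))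
    (hs : Function.Surjective (g.app W)) : IsClosedImmersion (g ∣_ W) := by
  have : IsAffine ↑W := hW
  have : IsAffine ↑(g ⁻¹ᵁ W) := hgW
  apply IsClosedImmersion.of_surjective_of_isAffine
  rw [← Scheme.Hom.resLE_eq_morphismRestrict, Scheme.Hom.appTop, Scheme.Hom.resLE_app_top,
    Scheme.Hom.appLE_eq_app]
  intro z
  obtain ⟨s, hs'⟩ := hs ((g ⁻¹ᵁ W).topIso.hom z)
  refine ⟨W.topIso.inv s, ?_⟩
  simp only [CommRingCat.comp_apply]
  rw [← CommRingCat.comp_apply W.topIso.inv, Iso.inv_hom_id]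
  change (g ⁻¹ᵁ W).topIso.inv (g.app W s) = z
  rw [hs', ← CommRingCat.comp_apply, Iso.hom_inv_id]
  rfl

include hc in
theorem exists_isClosedImmersion {Y : Scheme.{u}} (h : Y ⟶ c.pt) [IsClosedImmersion h] (i₀ : I)
    [CompactSpace (D.obj i₀)] [LocallyOfFiniteType (h ≫ c.π.app i₀ ≫ t.app i₀)] :
    ∃ (j : I) (_ : j ⟶ i₀), IsClosedImmersion (h ≫ c.π.app j) := by
  classical
  have hcov : ∀ x : D.obj i₀, ∃ (W : (D.obj i₀).Opens) (V : S.Opens),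
      IsAffineOpen W ∧ IsAffineOpen V ∧ x ∈ W ∧ W ≤ t.app i₀ ⁻¹ᵁ V := by
    intro x
    obtain ⟨_, ⟨V, hV, rfl⟩, hxV, -⟩ := S.isBasis_affineOpens.exists_subset_of_mem_open
      (Set.mem_univ (t.app i₀ x)) isOpen_univ
    obtain ⟨_, ⟨W, hW, rfl⟩, hxW, hWV⟩ :=
      (D.obj i₀).isBasis_affineOpens.exists_subset_of_mem_open
        (show x ∈ ((t.app i₀ ⁻¹ᵁ V : (D.obj i₀).Opens) : Set _) from hxV) (t.app i₀ ⁻¹ᵁ V).isOpen
    exact ⟨W, V, hW, hV, hxW, hWV⟩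
  choose W V hW hV hxW hWV using hcov
  obtain ⟨F, hF⟩ := isCompact_univ.elim_finite_subcover (fun x => (W x : Set (D.obj i₀)))
    (fun x => (W x).isOpen) (fun x _ => Set.mem_iUnion.2 ⟨x, hxW x⟩)
  choose jx ux hjx using fun x =>
    exists_surjective_app D c hc t h i₀ (W x) (hW x) (V x) (hV x) (hWV x)
  obtain ⟨j, u, w, hw⟩ := IsCofiltered.wideCospan (I := ↥F) (fun x => ux x.1)
  refine ⟨j, u, ?_⟩
  have hπj : IsAffineHom (c.π.app j) := isAffineHom_π_app D c hc j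
  refine IsZariskiLocalAtTarget.of_iSup_eq_top (P := @IsClosedImmersion)
    (fun x : ↥F => D.map u ⁻¹ᵁ W x.1) ?_ ?_
  · apply top_le_iff.1
    intro z _
    have hz := hF (Set.mem_univ (D.map u z))
    simp only [Set.mem_iUnion] at hz
    obtain ⟨x, hxF, hzx⟩ := hz
    exact Opens.mem_iSup.2 ⟨⟨x, hxF⟩, hzx⟩
  · intro x
    have hs := hjx x.1 j (w x)
    rw [hw x] at hs
    have hW' : IsAffineOpen (D.map u ⁻¹ᵁ W x.1) := (hW x.1).preimage (D.map u)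
    exact isClosedImmersion_morphismRestrict_of_surjective _ _ hW'
      (hW'.preimage (h ≫ c.π.app j)) hs

end Groth.Agent.Lib.Helper9.LimClosed

namespace Groth.Agent.Lib.Helper9.LimClosed

theorem exists_isClosedImmersion_over {I : Type u} [SmallCategory I] [IsCofiltered I]
    (S : Scheme.{u}) (D : I ⥤ Over S) (c : Limits.Cone D) (hc : Limits.IsLimit c)
    [∀ (i j : I) (f : i ⟶ j), IsAffineHom (D.map f).left] [∀ i, CompactSpace (D.obj i).left]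
    {Y : Scheme.{u}} (h : Y ⟶ c.pt.left) [IsClosedImmersion h]
    [LocallyOfFiniteType (h ≫ c.pt.hom)] :
    ∃ i : I, IsClosedImmersion (h ≫ (c.π.app i).left) := by
  obtain ⟨i₀⟩ := IsCofiltered.nonempty (C := I)
  let D' := D ⋙ Over.forget S
  let c' := (Over.forget S).mapCone c
  have hc' : IsLimit c' := isLimitOfPreserves (Over.forget S) hc
  let t : D' ⟶ (Functor.const I).obj S := { app := fun i => (D.obj i).hom }
  have hA : ∀ {i j : I} (f : i ⟶ j), IsAffineHom (D'.map f) := fun {i j} f => by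
    change IsAffineHom (D.map f).left; infer_instance
  have hC : CompactSpace (D'.obj i₀) := by
    change CompactSpace (D.obj i₀).left; infer_instance
  let h' : Y ⟶ c'.pt := h
  have hci : IsClosedImmersion h' := ‹IsClosedImmersion h›
  have hlft : LocallyOfFiniteType (h' ≫ c'.π.app i₀ ≫ t.app i₀) := by
    have h1 : (c.π.app i₀).left ≫ (D.obj i₀).hom = c.pt.hom := Over.w (c.π.app i₀)
    change LocallyOfFiniteType (h ≫ (c.π.app i₀).left ≫ (D.obj i₀).hom)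
    rw [h1]; infer_instance
  obtain ⟨j, -, hj⟩ := exists_isClosedImmersion D' c' hc' t (Y := Y) h' i₀
  exact ⟨j, hj⟩

end Groth.Agent.Lib.Helper9.LimClosed
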