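import Groth.Agent.Lib.Helper9.SepLim3
set_option autoImplicit false
set_option linter.style.haveILetI false
set_option linter.unusedSectionVars false
universe u v
open CategoryTheory CategoryTheory.Limits AlgebraicGeometry TopologicalSpace

namespace Groth.Agent.Lib.Helper9.SepLim

open Groth.Agent.Lib.Helper9.LimClosed

lemma isSeparated_ι_comp_congr {X S : Scheme.{u}} (f : X ⟶ S) {U U' : X.Opens} (e : U = U')
    (h : IsSeparated (U.ι ≫ f)) : IsSeparated (U'.ι ≫ f) := by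
  subst e; exact h

/-- A morphism whose range is covered by opens `V i` of the target such that the restrictions
`f⁻¹ (V i) ⟶ S` are separated is separated. -/
lemma isSeparated_of_cover_range {X S : Scheme.{u}} (f : X ⟶ S) {ι : Type v} (V : ι → S.Opens)
    (hcov : Set.range f ⊆ ⋃ i, (V i : Set S)) (h : ∀ i, IsSeparated ((f ⁻¹ᵁ V i).ι ≫ f)) :
    IsSeparated f := by
  set Ω : S.Opens := ⨆ i, V i with hΩ
  have hr : Set.range f ⊆ Set.range Ω.ι := by
    rw [Scheme.Opens.range_ι]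
    intro x hx
    obtain ⟨i, hi⟩ := Set.mem_iUnion.1 (hcov hx)
    exact Opens.mem_iSup.2 ⟨i, hi⟩
  set f' : X ⟶ Ω.toScheme := IsOpenImmersion.lift Ω.ι f hr with hf'def
  have hf' : f' ≫ Ω.ι = f := IsOpenImmersion.lift_fac _ _ _
  suffices hs : IsSeparated f' by
    rw [← hf']; infer_instance
  have hU : ⨆ i, Ω.ι ⁻¹ᵁ V i = ⊤ := by
    apply top_le_iff.1
    intro x _
    obtain ⟨i, hi⟩ := Opens.mem_iSup.1 x.2
    exact Opens.mem_iSup.2 ⟨i, hi⟩
  rw [IsZariskiLocalAtTarget.iff_of_iSup_eq_top (P := @IsSeparated) (fun i => Ω.ι ⁻¹ᵁ V i) hU]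
  intro i
  have e1 : f' ⁻¹ᵁ (Ω.ι ⁻¹ᵁ V i) = f ⁻¹ᵁ V i := by
    rw [← Scheme.Hom.comp_preimage, hf']
  have h2 : IsSeparated ((f' ∣_ (Ω.ι ⁻¹ᵁ V i)) ≫ (Ω.ι ⁻¹ᵁ V i).ι ≫ Ω.ι) := by
    rw [← Category.assoc, morphismRestrict_ι, Category.assoc, hf']
    exact isSeparated_ι_comp_congr f e1.symm (h i)
  exact IsSeparated.of_comp _ ((Ω.ι ⁻¹ᵁ V i).ι ≫ Ω.ι)

variable {I : Type u} [SmallCategory I] [IsCofiltered I] (D : I ⥤ Scheme.{u})
  (c : Cone D) (hc : IsLimit c) [∀ {i j : I} (f : i ⟶ j), IsAffineHom (D.map f)]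
  [∀ i, CompactSpace (D.obj i)] [∀ i, QuasiSeparatedSpace (D.obj i)]
  {S : Scheme.{u}} (t : D ⟶ (Functor.const I).obj S)

/-- the components of `t` with the expected type -/
def tApp (i : I) : D.obj i ⟶ S := t.app i

omit [IsCofiltered I] [∀ {i j : I} (f : i ⟶ j), IsAffineHom (D.map f)]
  [∀ i, CompactSpace (D.obj i)] [∀ i, QuasiSeparatedSpace (D.obj i)] in
lemma tApp_naturality {i j : I} (u : i ⟶ j) : D.map u ≫ tApp D t j = tApp D t i :=
  t_naturality D t u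

omit [IsCofiltered I] [∀ {i j : I} (f : i ⟶ j), IsAffineHom (D.map f)]
  [∀ i, CompactSpace (D.obj i)] [∀ i, QuasiSeparatedSpace (D.obj i)] in
lemma le_t_preimage (i₀ : I) (V : S.Opens) (j : Over i₀) :
    D.map j.hom ⁻¹ᵁ (tApp D t i₀ ⁻¹ᵁ V) ≤ tApp D t j.left ⁻¹ᵁ V := by
  rw [← Scheme.Hom.comp_preimage, tApp_naturality]

/-- the structure maps of the restricted diagram over the open `V` of `S` -/
noncomputable def tRes (i₀ : I) (V : S.Opens) :
    opensDiagram D i₀ (tApp D t i₀ ⁻¹ᵁ V) ⟶ (Functor.const (Over i₀)).obj V.toScheme where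
  app j := (tApp D t j.left).resLE V (D.map j.hom ⁻¹ᵁ (tApp D t i₀ ⁻¹ᵁ V))
    (le_t_preimage D t i₀ V j)
  naturality j k f := by
    have h1 : (D.map f.left).resLE (D.map k.hom ⁻¹ᵁ (tApp D t i₀ ⁻¹ᵁ V))
        (D.map j.hom ⁻¹ᵁ (tApp D t i₀ ⁻¹ᵁ V))
        (by rw [← Scheme.Hom.comp_preimage (D.map f.left) (D.map k.hom), ← D.map_comp,
          Over.w f]) ≫
        (tApp D t k.left).resLE V (D.map k.hom ⁻¹ᵁ (tApp D t i₀ ⁻¹ᵁ V))
          (le_t_preimage D t i₀ V k) =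
        (tApp D t j.left).resLE V (D.map j.hom ⁻¹ᵁ (tApp D t i₀ ⁻¹ᵁ V))
          (le_t_preimage D t i₀ V j) := by
      rw [← cancel_mono V.ι, Category.assoc, Scheme.Hom.resLE_comp_ι,
        Scheme.Hom.resLE_comp_ι_assoc, Scheme.Hom.resLE_comp_ι, tApp_naturality]
    exact h1.trans (Category.comp_id _).symm

include hc in
/-- One affine open of the base. -/
lemma exists_stage_of_affineOpen [QuasiSeparatedSpace S] (i₀ : I)
    [IsSeparated (c.π.app i₀ ≫ tApp D t i₀)] (V : S.Opens) (hV : IsAffineOpen V) :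
    ∃ (j : Over i₀), ∀ (k : Over i₀) (_ : k ⟶ j),
      IsSeparated ((D.map k.hom ⁻¹ᵁ (tApp D t i₀ ⁻¹ᵁ V)).ι ≫ tApp D t k.left) := by
  set W : (D.obj i₀).Opens := tApp D t i₀ ⁻¹ᵁ V with hW
  have hqc : QuasiCompact (tApp D t i₀) := quasiCompact_of_compactSpace (Y := S) (tApp D t i₀)
  have hWc : IsCompact (W : Set (D.obj i₀)) :=
    QuasiCompact.isCompact_preimage (f := tApp D t i₀) _ V.isOpen hV.isCompact
  haveI h1 : ∀ j : Over i₀, CompactSpace ((opensDiagram D i₀ W).obj j) := fun j =>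
    isCompact_iff_compactSpace.mp
      (QuasiCompact.isCompact_preimage (f := D.map j.hom) _ W.isOpen hWc)
  haveI h2 : ∀ j : Over i₀, QuasiSeparatedSpace ((opensDiagram D i₀ W).obj j) := fun j =>
    (D.map j.hom ⁻¹ᵁ W).ι.isOpenEmbedding.quasiSeparatedSpace
  haveI : IsAffine V.toScheme := hV
  haveI hsep : IsSeparated ((opensCone D c i₀ W).π.app (Over.mk (𝟙 i₀)) ≫
      (tRes D t i₀ V).app (Over.mk (𝟙 i₀))) := by
    have h3 : IsSeparated (((opensCone D c i₀ W).π.app (Over.mk (𝟙 i₀)) ≫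
        (tRes D t i₀ V).app (Over.mk (𝟙 i₀))) ≫ V.ι) := by
      have h4 : ((opensCone D c i₀ W).π.app (Over.mk (𝟙 i₀)) ≫
          (tRes D t i₀ V).app (Over.mk (𝟙 i₀))) ≫ V.ι =
          (c.π.app i₀ ⁻¹ᵁ W).ι ≫ c.π.app i₀ ≫ tApp D t i₀ := by
        change ((c.π.app i₀).resLE (D.map (𝟙 i₀) ⁻¹ᵁ W) (c.π.app i₀ ⁻¹ᵁ W) _ ≫
          (tApp D t i₀).resLE V (D.map (𝟙 i₀) ⁻¹ᵁ W) _) ≫ V.ι = _
        rw [Category.assoc, Scheme.Hom.resLE_comp_ι, Scheme.Hom.resLE_comp_ι_assoc]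
      rw [h4]
      exact MorphismProperty.comp_mem (W := @IsSeparated) _ _
        (inferInstance : IsSeparated (c.π.app i₀ ⁻¹ᵁ W).ι)
        (inferInstance : IsSeparated (c.π.app i₀ ≫ tApp D t i₀))
    exact IsSeparated.of_comp _ V.ι
  obtain ⟨j, _, hj⟩ := exists_isSeparated_of_isAffine (opensDiagram D i₀ W) (opensCone D c i₀ W)
    (isLimitOpensCone D c hc i₀ W) (tRes D t i₀ V) (Over.mk (𝟙 i₀))
  refine ⟨j, fun k r => ?_⟩
  have h5 := hj k r
  have h6 : (tRes D t i₀ V).app k ≫ V.ι = (D.map k.hom ⁻¹ᵁ W).ι ≫ tApp D t k.left := by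
    change (tApp D t k.left).resLE V (D.map k.hom ⁻¹ᵁ W) _ ≫ V.ι = _
    rw [Scheme.Hom.resLE_comp_ι]
  rw [← h6]
  exact MorphismProperty.comp_mem (W := @IsSeparated) _ _ h5
    (inferInstance : IsSeparated V.ι)


include hc in
/-- Separatedness over a quasi-separated base descends to all late enough stages. -/
theorem exists_isSeparated [QuasiSeparatedSpace S] (i₀ : I)
    [hsep : IsSeparated (c.π.app i₀ ≫ t.app i₀)] :
    ∃ i₁ : I, ∀ (i : I) (_ : i ⟶ i₁), IsSeparated (t.app i) := by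
  classical
  haveI : IsSeparated (c.π.app i₀ ≫ tApp D t i₀) := hsep
  have hrc : IsCompact (Set.range (tApp D t i₀)) := isCompact_range (tApp D t i₀).continuous
  obtain ⟨F, hF⟩ := hrc.elim_finite_subcover (fun V : S.affineOpens => (V.1 : Set S))
    (fun V => V.1.isOpen) (fun x _ => by
      obtain ⟨_, ⟨V, hV, rfl⟩, hxV, -⟩ := S.isBasis_affineOpens.exists_subset_of_mem_open
        (Set.mem_univ x) isOpen_univ
      exact Set.mem_iUnion.2 ⟨⟨V, hV⟩, hxV⟩)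
  choose j hj using fun V : S.affineOpens => exists_stage_of_affineOpen D c hc t i₀ V.1 V.2
  obtain ⟨i₁, u₁, w, hw⟩ := IsCofiltered.wideCospan (I := ↥F) (fun V => (j V.1).hom)
  refine ⟨i₁, fun i r => ?_⟩
  change IsSeparated (tApp D t i)
  apply isSeparated_of_cover_range (tApp D t i) (fun V : ↥F => V.1.1)
  · rintro _ ⟨x, rfl⟩
    have h1 : tApp D t i x = tApp D t i₀ (D.map (r ≫ u₁) x) := by
      rw [← tApp_naturality D t (r ≫ u₁)]; rfl
    have hx := hF ⟨D.map (r ≫ u₁) x, h1.symm⟩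
    simp only [Set.mem_iUnion] at hx
    obtain ⟨V, hVF, hxV⟩ := hx
    exact Set.mem_iUnion.2 ⟨⟨V, hVF⟩, hxV⟩
  · intro V
    let k : Over i₀ := Over.mk (r ≫ u₁)
    let φ : k ⟶ j V.1 := Over.homMk (r ≫ w V) (by simp [k, hw])
    have h1 := hj V.1 k φ
    have e : D.map k.hom ⁻¹ᵁ (tApp D t i₀ ⁻¹ᵁ V.1.1) = tApp D t i ⁻¹ᵁ V.1.1 := by
      rw [← Scheme.Hom.comp_preimage, tApp_naturality]
      rfl
    exact isSeparated_ι_comp_congr _ e h1

end Groth.Agent.Lib.Helper9.SepLim
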