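import Groth.Prelude.Def_FEt
import Mathlib.AlgebraicGeometry.Morphisms.FormallyUnramified
import Mathlib.AlgebraicGeometry.Morphisms.Separated
import Mathlib.AlgebraicGeometry.Morphisms.Etale
import Mathlib.AlgebraicGeometry.Morphisms.Finite
import Mathlib.AlgebraicGeometry.Morphisms.UniversallyOpen
import Mathlib.AlgebraicGeometry.PullbackCarrier

universe u

open CategoryTheory CategoryTheory.Limits AlgebraicGeometry TopologicalSpace

namespace Groth.Agent.Lib.Helper9.FEtFaithful

/-- The locus where two morphisms into a separated unramified scheme agree is clopen, and the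
morphisms are equal if it is everything. -/
theorem exists_clopen_eqLocus {U V Y : Scheme.{u}} (u : U ⟶ Y) (v : V ⟶ Y) [IsSeparated v]
    [FormallyUnramified v] [LocallyOfFiniteType v] (a b : U ⟶ V) (ha : a ≫ v = u)
    (hb : b ≫ v = u) :
    ∃ E : Set U, IsClopen E ∧
      (∀ {T : Scheme.{u}} (t : T ⟶ U), t ≫ a = t ≫ b → Set.range t.base ⊆ E) ∧
      (E = Set.univ → a = b) := by
  let c : U ⟶ pullback v v := pullback.lift a b (ha.trans hb.symm)
  let Δ := pullback.diagonal v
  have hc1 : c ≫ pullback.fst v v = a := pullback.lift_fst _ _ _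
  have hc2 : c ≫ pullback.snd v v = b := pullback.lift_snd _ _ _
  refine ⟨c.base ⁻¹' Set.range Δ.base, ⟨?_, ?_⟩, ?_, ?_⟩
  · exact Δ.isClosedEmbedding.isClosed_range.preimage c.continuous
  · exact Δ.isOpenEmbedding.isOpen_range.preimage c.continuous
  · intro T t ht
    rintro _ ⟨z, rfl⟩
    have h1 : t ≫ c = (t ≫ a) ≫ Δ := by
      apply pullback.hom_ext
      · rw [Category.assoc, hc1, Category.assoc, pullback.diagonal_fst, Category.comp_id]
      · rw [Category.assoc, hc2, Category.assoc, pullback.diagonal_snd, Category.comp_id, ht]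
    refine ⟨(t ≫ a) z, ?_⟩
    rw [← Scheme.Hom.comp_apply, ← h1, Scheme.Hom.comp_apply]
  · intro hE
    have hr : Set.range c.base ⊆ Set.range Δ.base := by
      rintro _ ⟨x, rfl⟩
      have : x ∈ c.base ⁻¹' Set.range Δ.base := by rw [hE]; trivial
      exact this
    have h2 : IsOpenImmersion.lift Δ c hr ≫ Δ = c := IsOpenImmersion.lift_fac _ _ _
    rw [← hc1, ← hc2, ← h2, Category.assoc, Category.assoc, pullback.diagonal_fst,
      pullback.diagonal_snd]


/-- Criterion for faithfulness of restriction of finite étale covers. -/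
theorem faithful_restrict_of {X Y : Scheme.{u}} (f : X ⟶ Y)
    (H : ∀ (A : FEt.Cat Y) (E : Set A.left), IsClopen E →
      A.hom.base ⁻¹' (Set.range f.base) ⊆ E → E = Set.univ) :
    (FEt.restrict f).Faithful := by
  refine ⟨fun {A B} a b hab => ?_⟩
  have hB : IsFinite B.hom ∧ Etale B.hom := B.prop
  haveI := hB.1
  haveI := hB.2
  obtain ⟨E, hE, h1, h2⟩ := exists_clopen_eqLocus A.hom B.hom a.left b.left
    (Over.w a.hom) (Over.w b.hom)
  have hl : pullback.fst A.hom f ≫ a.left = pullback.fst A.hom f ≫ b.left := by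
    have := congrArg (fun φ => φ.left ≫ pullback.fst B.hom f) hab
    simp only [FEt.restrict, MorphismProperty.Over.pullback_map_left] at this
    exact (pullback.lift_fst _ _ _).symm.trans (this.trans (pullback.lift_fst _ _ _))
  have h3 := h1 (pullback.fst A.hom f) hl
  rw [Scheme.Pullback.range_fst] at h3
  have h4 := h2 (H A E hE h3)
  exact MorphismProperty.Over.Hom.ext h4

end Groth.Agent.Lib.Helper9.FEtFaithful
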