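import Groth.Agent.Lib.Helper9.VCov1
import Mathlib.AlgebraicGeometry.ValuativeCriterion
import Mathlib.RingTheory.Valuation.LocalSubring

namespace Groth.Agent.Lib.Helper9.VCov

open CategoryTheory CategoryTheory.Limits AlgebraicGeometry TopologicalSpace IsLocalRing

universe u

/-- the generic point of the spectrum of a domain -/
noncomputable def genPt (W : CommRingCat.{u}) [IsDomain W] : Spec W :=
  (⟨⊥, Ideal.isPrime_bot⟩ : PrimeSpectrum W)

/-- the closed point of the spectrum of a local ring, as a point of the scheme -/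
noncomputable def clPt (W : CommRingCat.{u}) [IsLocalRing W] : Spec W :=
  (closedPoint W : PrimeSpectrum W)

theorem genPt_specializes (W : CommRingCat.{u}) [IsDomain W] (x : Spec W) : genPt W ⤳ x := by
  exact (PrimeSpectrum.le_iff_specializes (⟨⊥, Ideal.isPrime_bot⟩ : PrimeSpectrum W) x).mp
    (show (⊥ : Ideal W) ≤ PrimeSpectrum.asIdeal x from bot_le)

set_option backward.isDefEq.respectTransparency.types false in
/-- every specialization in a scheme is realised by a valuation ring (in the same universe). -/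
theorem exists_valuationRing_of_specializes {P : Scheme.{u}} {w' w : P} (h : w' ⤳ w) :
    ∃ (W : CommRingCat.{u}) (_ : IsDomain W) (_ : ValuationRing W) (k : Spec W ⟶ P),
      k (genPt W) = w' ∧ k (clPt W) = w := by
  let φ : P.presheaf.stalk w ⟶ P.residueField w' :=
    P.presheaf.stalkSpecializes h ≫ P.residue w'
  obtain ⟨A, hA, hA_local⟩ := exists_factor_valuationRing φ.hom
  let ψ : P.presheaf.stalk w ⟶ .of A := CommRingCat.ofHom (φ.hom.codRestrict _ hA)
  have hw : P.fromSpecResidueField w' =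
      Spec.map (CommRingCat.ofHom (algebraMap A (P.residueField w'))) ≫
        Spec.map ψ ≫ P.fromSpecStalk w := by
    rw [Scheme.fromSpecResidueField, ← Scheme.SpecMap_stalkSpecializes_fromSpecStalk h]
    simp_rw [← Spec.map_comp_assoc]
    rfl
  refine ⟨.of A, inferInstance, inferInstance, Spec.map ψ ≫ P.fromSpecStalk w, ?_, ?_⟩
  · have h1 : (Spec.map (CommRingCat.ofHom (algebraMap A (P.residueField w'))))
        (closedPoint (P.residueField w')) = genPt (.of A) := by
      apply PrimeSpectrum.ext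
      change Ideal.comap (algebraMap A (P.residueField w')) (maximalIdeal _) = ⊥
      rw [IsLocalRing.maximalIdeal_eq_bot, Ideal.comap_bot_of_injective]
      exact A.subtype_injective
    rw [← h1, ← Scheme.Hom.comp_apply, ← hw]
    exact Scheme.fromSpecResidueField_apply w' _
  · have : Spec.map ψ (closedPoint A) = closedPoint (P.presheaf.stalk w) :=
      comap_closedPoint (S := A) (φ.hom.codRestrict A.toSubring hA)
    change (Spec.map ψ ≫ P.fromSpecStalk w) (closedPoint A) = w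
    rw [Scheme.Hom.comp_apply, this, P.fromSpecStalk_closedPoint]

theorem specMap_genPt {V W : CommRingCat.{u}} [IsDomain V] [IsDomain W] (φ : V ⟶ W)
    (hφ : Function.Injective φ.hom) : Spec.map φ (genPt W) = genPt V := by
  apply PrimeSpectrum.ext
  change Ideal.comap φ.hom ⊥ = ⊥
  exact Ideal.comap_bot_of_injective _ hφ

theorem specMap_closedPoint {V W : CommRingCat.{u}} [IsLocalRing V] [IsLocalRing W] (φ : V ⟶ W)
    [IsLocalHom φ.hom] : Spec.map φ (clPt W) = clPt V :=
  comap_closedPoint φ.hom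

universe w

/-- the valuative lifting property gives lifting of specializations after any base change. -/
theorem specLift_of_hasValLift {T : Scheme.{u}} (E : PreZeroHypercover.{w} T)
    (hE : HTop.HasValLift E) {Z : Scheme.{u}} (g : Z ⟶ T) {z' z : Z} (h : z' ⤳ z) :
    ∃ (j : E.I₀) (w' w : ↑(pullback g (E.f j))), w' ⤳ w ∧ pullback.fst g (E.f j) w' = z' ∧
      pullback.fst g (E.f j) w = z := by
  obtain ⟨V, hV1, hV2, k, hk1, hk2⟩ := exists_valuationRing_of_specializes h
  obtain ⟨W, hW1, hW2, φ, ⟨hφ1, hφ2⟩, j, g', hg'⟩ := hE V (k ≫ g)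
  let l : Spec W ⟶ pullback g (E.f j) := pullback.lift (Spec.map φ ≫ k) g' (by
    rw [Category.assoc, hg'])
  have hl : l ≫ pullback.fst g (E.f j) = Spec.map φ ≫ k := pullback.lift_fst _ _ _
  refine ⟨j, l (genPt W), l (clPt W), (genPt_specializes W _).map l.continuous, ?_, ?_⟩
  · rw [← Scheme.Hom.comp_apply, hl, Scheme.Hom.comp_apply, specMap_genPt φ hφ1, hk1]
  · rw [← Scheme.Hom.comp_apply, hl, Scheme.Hom.comp_apply, specMap_closedPoint φ, hk2]

/-- conversely, lifting of specializations after base change gives the valuative lifting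
property. -/
theorem hasValLift_of_specLift {T : Scheme.{u}} (E : PreZeroHypercover.{w} T)
    (H : ∀ (Z : Scheme.{u}) (g : Z ⟶ T) (z' z : Z), z' ⤳ z →
      ∃ (j : E.I₀) (w' w : ↑(pullback g (E.f j))), w' ⤳ w ∧ pullback.fst g (E.f j) w' = z' ∧
        pullback.fst g (E.f j) w = z) : HTop.HasValLift E := by
  intro V _ _ g
  obtain ⟨j, w', w, hw, hw1, hw2⟩ := H (Spec V) g (genPt V) (clPt V)
    (genPt_specializes V _)
  obtain ⟨W, hW1, hW2, k, hk1, hk2⟩ := exists_valuationRing_of_specializes hw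
  let φ : V ⟶ W := Spec.preimage (k ≫ pullback.fst g (E.f j))
  have hφ : Spec.map φ = k ≫ pullback.fst g (E.f j) := Spec.map_preimage _
  have h1 : Spec.map φ (genPt W) = genPt V := by
    rw [hφ, Scheme.Hom.comp_apply, hk1, hw1]
  have h2 : Spec.map φ (clPt W) = clPt V := by
    rw [hφ, Scheme.Hom.comp_apply, hk2, hw2]
  refine ⟨W, hW1, hW2, φ, ⟨?_, ?_⟩, j, k ≫ pullback.snd g (E.f j), ?_⟩
  · have h3 := congrArg PrimeSpectrum.asIdeal h1
    change Ideal.comap φ.hom ⊥ = ⊥ at h3
    rw [injective_iff_map_eq_zero]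
    intro a ha
    have : a ∈ Ideal.comap φ.hom ⊥ := by
      rw [Ideal.mem_comap, ha]; exact Ideal.zero_mem _
    rw [h3] at this
    exact this
  · have h3 := congrArg PrimeSpectrum.asIdeal h2
    change Ideal.comap φ.hom (maximalIdeal W) = maximalIdeal V at h3
    exact ((IsLocalRing.local_hom_TFAE φ.hom).out 0 4).mpr h3
  · rw [Category.assoc, ← pullback.condition, ← Category.assoc, hφ]

theorem hasValLift_of_isVCover {T : Scheme.{u}} (E : PreZeroHypercover.{w} T)
    (hE : HTop.IsVCover E) : HTop.HasValLift E := by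
  intro V _ _ g
  obtain ⟨_, ⟨U₀, hU, rfl⟩, hxU, -⟩ := T.isBasis_affineOpens.exists_subset_of_mem_open
    (Set.mem_univ (g (clPt V))) isOpen_univ
  let U : T.Opens := U₀
  have hr : Set.range g ⊆ Set.range U.ι := by
    rw [Scheme.Opens.range_ι]; exact range_subset_of_closedPoint_mem V g U hxU
  let gU : Spec V ⟶ U := IsOpenImmersion.lift U.ι g hr
  have hgU : gU ≫ U.ι = g := IsOpenImmersion.lift_fac _ _ _
  obtain ⟨F, hF, hFE⟩ := hE ⟨U, hU⟩
  obtain ⟨W, hW1, hW2, φ, hφ, j, g'', hg''⟩ := hF.lift V gU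
  obtain ⟨i, h, hh⟩ := hFE j
  refine ⟨W, hW1, hW2, φ, hφ, i, g'' ≫ h, ?_⟩
  rw [Category.assoc, hh, ← Category.assoc, hg'', Category.assoc, hgU]

theorem isVCover_singleton_of_hasValLift {X Y : Scheme.{u}} (f : X ⟶ Y) [QuasiCompact f]
    (hE : HTop.HasValLift (PreZeroHypercover.singleton.{w} f)) :
    HTop.IsVCover (PreZeroHypercover.singleton.{w} f) := by
  classical
  intro U
  have hc : IsCompact (f ⁻¹ᵁ U.1 : Set X) := f.isCompact_preimage U.2.isCompact
  obtain ⟨s, hs, e⟩ := isCompact_iff_finite_and_eq_biUnion_affineOpens.mp hc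
  let n := hs.toFinset.card
  let idx : Fin n → X.affineOpens := fun k => (hs.toFinset.equivFin.symm k).1
  have hidx : ∀ k, idx k ∈ s := fun k => hs.mem_toFinset.mp (hs.toFinset.equivFin.symm k).2
  have hsub : ∀ k, ((idx k).1 : Set X) ⊆ f ⁻¹ᵁ U.1 := by
    intro k x hx
    change x ∈ f ⁻¹ᵁ U.1
    rw [e]
    exact Opens.mem_iSup.mpr ⟨idx k, Opens.mem_iSup.mpr ⟨hidx k, hx⟩⟩
  have hrange : ∀ k, Set.range ((idx k).1.ι ≫ f) ⊆ Set.range U.1.ι := by
    intro k
    rw [Scheme.Opens.range_ι]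
    rintro _ ⟨x, rfl⟩
    have hx : (idx k).1.ι x ∈ ((idx k).1 : Set X) := by
      have : (idx k).1.ι x ∈ Set.range (idx k).1.ι := ⟨x, rfl⟩
      rwa [Scheme.Opens.range_ι] at this
    exact hsub k hx
  let F : PreZeroHypercover.{0} (U.1 : Scheme.{u}) :=
    { I₀ := Fin n
      X := fun k => ((idx k).1 : Scheme.{u})
      f := fun k => IsOpenImmersion.lift U.1.ι ((idx k).1.ι ≫ f) (hrange k) }
  have hF : ∀ k, F.f k ≫ U.1.ι = (idx k).1.ι ≫ f := fun k => IsOpenImmersion.lift_fac _ _ _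
  refine ⟨F, ⟨U.2, inferInstanceAs (Finite (Fin n)), fun k => (idx k).2, ?_⟩, ?_⟩
  · intro R _ _ g
    obtain ⟨W, hW1, hW2, φ, hφ, j, g', hg'⟩ := hE R (g ≫ U.1.ι)
    change Spec W ⟶ X at g'
    change g' ≫ f = Spec.map φ ≫ g ≫ U.1.ι at hg'
    have hmem : g' (clPt W) ∈ (f ⁻¹ᵁ U.1 : Set X) := by
      change f (g' (clPt W)) ∈ (U.1 : Set Y)
      rw [← Scheme.Hom.comp_apply, hg', ← Category.assoc, Scheme.Hom.comp_apply]
      have : U.1.ι ((Spec.map φ ≫ g) (clPt W)) ∈ Set.range U.1.ι := ⟨_, rfl⟩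
      rwa [Scheme.Opens.range_ι] at this
    change g' (clPt W) ∈ f ⁻¹ᵁ U.1 at hmem
    rw [e] at hmem
    obtain ⟨V, hV'⟩ := Opens.mem_iSup.mp hmem
    obtain ⟨hVs, hV⟩ := Opens.mem_iSup.mp hV'
    let k : Fin n := hs.toFinset.equivFin ⟨V, hs.mem_toFinset.mpr hVs⟩
    have hk : idx k = V := by simp [idx, k]
    have hr : Set.range g' ⊆ Set.range (idx k).1.ι := by
      rw [Scheme.Opens.range_ι, hk]
      exact range_subset_of_closedPoint_mem W g' V.1 hV
    let l : Spec W ⟶ (idx k).1 := IsOpenImmersion.lift (idx k).1.ι g' hr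
    have hl : l ≫ (idx k).1.ι = g' := IsOpenImmersion.lift_fac _ _ _
    refine ⟨W, hW1, hW2, φ, hφ, k, l, ?_⟩
    rw [← cancel_mono U.1.ι, Category.assoc, hF k, ← Category.assoc, hl, hg', Category.assoc]
  · intro k
    exact ⟨PUnit.unit, (idx k).1.ι, (hF k).symm⟩

/-- S7476. -/
theorem isVCover_singleton_tfae {X Y : Scheme.{u}} (f : X ⟶ Y) [QuasiCompact f] :
    (HTop.IsVCover (PreZeroHypercover.singleton.{w} f) ↔
      HTop.HasValLift (PreZeroHypercover.singleton.{w} f)) ∧
    (HTop.HasValLift (PreZeroHypercover.singleton.{w} f) ↔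
      ∀ (Z : Scheme.{u}) (g : Z ⟶ Y) (z' z : Z), z' ⤳ z →
        ∃ w' w : ↑(pullback g f), w' ⤳ w ∧ pullback.fst g f w' = z' ∧
          pullback.fst g f w = z) := by
  refine ⟨⟨hasValLift_of_isVCover _, isVCover_singleton_of_hasValLift f⟩, ⟨?_, ?_⟩⟩
  · intro hE Z g z' z h
    obtain ⟨j, w', w, h1, h2, h3⟩ := specLift_of_hasValLift _ hE g h
    exact ⟨w', w, h1, h2, h3⟩
  · intro H
    apply hasValLift_of_specLift
    intro Z g z' z h
    obtain ⟨w', w, h1, h2, h3⟩ := H Z g z' z h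
    exact ⟨PUnit.unit, w', w, h1, h2, h3⟩

end Groth.Agent.Lib.Helper9.VCov
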