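import Mathlib
import Groth.Prelude.Def_HilbD
set_option autoImplicit false
set_option linter.style.haveILetI false
set_option linter.unusedSectionVars false
set_option linter.unusedVariables false
universe u
open CategoryTheory CategoryTheory.Limits AlgebraicGeometry

namespace Groth.Agent.Lib.Helper9.Hilb1

variable {X S : Scheme.{u}} (f : X ⟶ S)

/-- the graph section of an `S`-morphism `x : T ⟶ X` -/
noncomputable def graph (T : Over S) (x : T.left ⟶ X) (hx : x ≫ f = T.hom) :
    T.left ⟶ PicF.XT f T :=
  pullback.lift x (𝟙 T.left) (by simpa using hx)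

@[reassoc (attr := simp)]
theorem graph_fst (T : Over S) (x : T.left ⟶ X) (hx : x ≫ f = T.hom) :
    graph f T x hx ≫ pullback.fst f T.hom = x := pullback.lift_fst _ _ _

@[reassoc (attr := simp)]
theorem graph_snd (T : Over S) (x : T.left ⟶ X) (hx : x ≫ f = T.hom) :
    graph f T x hx ≫ PicF.XTproj f T = 𝟙 _ := pullback.lift_snd _ _ _

theorem secGraph_eq (T : Over S) (x : T.left ⟶ X) (hx : x ≫ f = T.hom) :
    HilbD.secGraph f T x hx = (graph f T x hx).ker := rfl

/-- `pull` is the Mathlib `comap` -/
theorem pull_eq_comap {T T' : Over S} (g : T' ⟶ T) (I : (PicF.XT f T).IdealSheafData) :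
    HilbD.pull f g I = I.comap (PicF.XTmap f g) := by
  unfold HilbD.pull Scheme.IdealSheafData.comap
  rw [← Scheme.Hom.ker_comp_of_isIso (pullbackSymmetry _ _).hom (pullback.fst _ _)]
  congr 1
  simp

@[reassoc]
theorem XTmap_fst {T T' : Over S} (g : T' ⟶ T) :
    PicF.XTmap f g ≫ pullback.fst f T.hom = pullback.fst f T'.hom := by
  unfold PicF.XTmap
  rw [pullback.lift_fst, Category.comp_id]

@[reassoc]
theorem XTmap_snd {T T' : Over S} (g : T' ⟶ T) :
    PicF.XTmap f g ≫ pullback.snd f T.hom = pullback.snd f T'.hom ≫ g.left := by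
  unfold PicF.XTmap
  rw [pullback.lift_snd]

/-- the graph is the pullback of the diagonal -/
theorem isPullback_graph {T : Over S} (g : T ⟶ Over.mk f) :
    IsPullback (graph f T g.left (Over.w g)) g.left (PicF.XTmap f g)
      (graph f (Over.mk f) (𝟙 X) (Category.id_comp f)) := by
  -- the right square
  have hright : IsPullback (PicF.XTmap f g) (PicF.XTproj f T) (PicF.XTproj f (Over.mk f))
      g.left := by
    have hbig : IsPullback (PicF.XTmap f g ≫ pullback.fst f (Over.mk f).hom) (PicF.XTproj f T) f
        (g.left ≫ f) := by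
      rw [XTmap_fst]
      have h2 : g.left ≫ f = T.hom := Over.w g
      rw [h2]
      exact IsPullback.of_hasPullback f T.hom
    have hr : IsPullback (pullback.fst f (Over.mk f).hom) (PicF.XTproj f (Over.mk f)) f f :=
      IsPullback.of_hasPullback f f
    exact IsPullback.of_right hbig (XTmap_snd f g) hr
  have houter : IsPullback (graph f T g.left (Over.w g) ≫ PicF.XTproj f T) g.left g.left
      (graph f (Over.mk f) (𝟙 X) (Category.id_comp f) ≫ PicF.XTproj f (Over.mk f)) := by
    rw [graph_snd, graph_snd]
    exact IsPullback.of_horiz_isIso ⟨by simp⟩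
  refine IsPullback.of_right houter ?_ hright.flip
  apply pullback.hom_ext
  · rw [Category.assoc, XTmap_fst, graph_fst, Category.assoc, graph_fst]
    exact (Category.comp_id _).symm
  · rw [Category.assoc, XTmap_snd, ← Category.assoc]
    erw [graph_snd]
    rw [Category.assoc]
    erw [graph_snd]
    simp

section sep
variable [IsSeparated f]

instance isClosedImmersion_diag :
    IsClosedImmersion (graph f (Over.mk f) (𝟙 X) (Category.id_comp f)) := by
  have : graph f (Over.mk f) (𝟙 X) (Category.id_comp f) = pullback.diagonal f := rfl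
  rw [this]
  infer_instance

theorem isClosedImmersion_graph (T : Over S) (x : T.left ⟶ X) (hx : x ≫ f = T.hom) :
    IsClosedImmersion (graph f T x hx) := by
  have h := isPullback_graph f (T := T) (Over.homMk x hx)
  exact MorphismProperty.of_isPullback (P := @IsClosedImmersion) h.flip (isClosedImmersion_diag f)

/-- the pullback of the diagonal ideal is the graph ideal -/
theorem pull_diag {T : Over S} (g : T ⟶ Over.mk f) :
    HilbD.pull f g (graph f (Over.mk f) (𝟙 X) (Category.id_comp f)).ker =
      (graph f T g.left (Over.w g)).ker := by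
  rw [pull_eq_comap, ← Scheme.IdealSheafData.ker_fst_of_isClosedImmersion]
  have h := isPullback_graph f g
  rw [← h.isoPullback_hom_fst, Scheme.Hom.ker_comp_of_isIso]

/-- the ideal of a graph is a point of the Hilbert functor of degree one -/
theorem graph_mem (T : Over S) (x : T.left ⟶ X) (hx : x ≫ f = T.hom) :
    Mor2.IsFinLocFreeOfDeg 1 ((graph f T x hx).ker.subschemeι ≫ PicF.XTproj f T) := by
  haveI := isClosedImmersion_graph f T x hx
  have hiso : (graph f T x hx).ker.subschemeι ≫ PicF.XTproj f T =
      inv (graph f T x hx).toImage := by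
    apply IsIso.eq_inv_of_hom_inv_id
    change (graph f T x hx).toImage ≫ (graph f T x hx).imageι ≫ _ = _
    rw [Scheme.Hom.toImage_imageι_assoc, graph_snd]
  rw [hiso]
  refine ⟨⟨inferInstance, inferInstance, inferInstance⟩, fun y => ?_⟩
  rw [Scheme.Hom.finrank_eq_one_of_isIso]
  rfl

/-- a degree one family is the graph of a unique section -/
theorem exists_graph_of_obj (T : Over S) (Z' : HilbD.Obj f 1 T) :
    ∃ (x : T.left ⟶ X) (hx : x ≫ f = T.hom), (graph f T x hx).ker = Z'.1 := by
  obtain ⟨I, hI⟩ := Z'
  obtain ⟨⟨h1, h2, h3⟩, h4⟩ := hI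
  haveI := h1
  haveI := h2
  haveI := h3
  haveI : IsIso (I.subschemeι ≫ PicF.XTproj f T) := by
    rw [Scheme.Hom.isIso_iff_finrank_eq]
    funext y
    exact h4 y
  let σ : T.left ⟶ PicF.XT f T := inv (I.subschemeι ≫ PicF.XTproj f T) ≫ I.subschemeι
  have hσ : σ ≫ PicF.XTproj f T = 𝟙 _ := by
    simp only [σ, Category.assoc]
    exact IsIso.inv_hom_id _
  let x : T.left ⟶ X := σ ≫ pullback.fst f T.hom
  have hx : x ≫ f = T.hom := by
    simp only [x, Category.assoc]
    rw [pullback.condition, ← Category.assoc]
    erw [hσ]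
    simp
  refine ⟨x, hx, ?_⟩
  have hg : graph f T x hx = σ := by
    apply pullback.hom_ext
    · rw [graph_fst]
    · erw [graph_snd, hσ]
  rw [hg]
  change (inv (I.subschemeι ≫ PicF.XTproj f T) ≫ I.subschemeι).ker = I
  rw [Scheme.Hom.ker_comp_of_isIso, Scheme.IdealSheafData.ker_subschemeι]

theorem graph_injective (T : Over S) (x x' : T.left ⟶ X) (hx : x ≫ f = T.hom)
    (hx' : x' ≫ f = T.hom) (h : (graph f T x hx).ker = (graph f T x' hx').ker) : x = x' := by
  haveI := isClosedImmersion_graph f T x hx
  haveI := isClosedImmersion_graph f T x' hx'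
  let e : T.left ⟶ T.left := IsClosedImmersion.lift (graph f T x hx) (graph f T x' hx') h.le
  have he : e ≫ graph f T x hx = graph f T x' hx' := IsClosedImmersion.lift_fac _ _ _
  have he1 : e = 𝟙 _ := by
    have := congrArg (fun m => m ≫ PicF.XTproj f T) he
    simp only [Category.assoc] at this
    rw [graph_snd, graph_snd, Category.comp_id] at this
    exact this
  rw [he1, Category.id_comp] at he
  have := congrArg (fun m => m ≫ pullback.fst f T.hom) he
  simp only [graph_fst] at this
  exact this

theorem main :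
    ∃ Δ : HilbD.Obj f 1 (Over.mk f),
      Δ.1 = HilbD.secGraph f (Over.mk f) (𝟙 X) (Category.id_comp f) ∧
      HilbD.IsUniversal f 1 (Over.mk f) Δ := by
  refine ⟨⟨(graph f (Over.mk f) (𝟙 X) (Category.id_comp f)).ker,
    graph_mem f (Over.mk f) (𝟙 X) (Category.id_comp f)⟩, rfl, ?_⟩
  intro T Z'
  obtain ⟨x, hx, hxZ⟩ := exists_graph_of_obj f T Z'
  refine ⟨Over.homMk x hx, ?_, ?_⟩
  · change HilbD.pull f _ (graph f (Over.mk f) (𝟙 X) (Category.id_comp f)).ker = Z'.1
    rw [pull_diag]
    exact hxZ
  · intro g' hg'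
    change HilbD.pull f _ (graph f (Over.mk f) (𝟙 X) (Category.id_comp f)).ker = Z'.1 at hg'
    rw [pull_diag, ← hxZ] at hg'
    have := graph_injective f T g'.left x (Over.w g') hx hg'
    ext1
    exact this

end sep

end Groth.Agent.Lib.Helper9.Hilb1
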