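import Groth.Agent.Lib.Helper9.HSheaf6
import Groth.Agent.Lib.Helper29.StrictTransform

set_option autoImplicit false
universe u
open CategoryTheory CategoryTheory.Limits AlgebraicGeometry TopologicalSpace

namespace Groth.Agent.Lib.Helper9.ABlow

open Groth.Agent.Lib.Helper29.EffCart Groth.Agent.Lib.Helper9.AdmCoprod
open Groth.Agent.Lib.Helper9.MProd

variable {X Y : Scheme.{u}}

lemma htop_iff (J : X.IdealSheafData) : HTop.IsLocPrincipal J ↔ MProd.IsLocPrincipal J := Iff.rfl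

lemma isLocPrincipal_comap (I : Y.IdealSheafData) (hI : HTop.IsLocPrincipal I) (f : X ⟶ Y) :
    HTop.IsLocPrincipal (I.comap f) := by
  intro x
  obtain ⟨V, hxV, t, hV⟩ := hI (f x)
  obtain ⟨_, ⟨W, hW, rfl⟩, hxW, hWV⟩ :=
    X.isBasis_affineOpens.exists_subset_of_mem_open (show x ∈ ((f ⁻¹ᵁ V.1 : X.Opens) : Set X) from hxV)
      (f ⁻¹ᵁ V.1).isOpen
  refine ⟨⟨W, hW⟩, hxW, (f.appLE V.1 W hWV).hom t, ?_⟩
  rw [ideal_comap_eq_map I f V ⟨W, hW⟩ hWV, hV, Ideal.map_span, Set.image_singleton]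

lemma awayFrom_eq (J : X.IdealSheafData) : HTop.awayFrom J = ModPair.interior J := rfl

/-- A locally principal ideal is finitely generated on every affine open. -/
theorem fg_of_isLocPrincipal (E : X.IdealSheafData) (hE : HTop.IsLocPrincipal E)
    (U : X.affineOpens) : (E.ideal U).FG := by
  let t : Set Γ(X, U.1) := {f | ∃ g, E.ideal (X.affineBasicOpen f) = Ideal.span {g}}
  have ht : Ideal.span t = ⊤ := by
    rw [← U.2.self_le_iSup_basicOpen_iff]
    intro x hx
    obtain ⟨W, hxW, t₀, hW⟩ := hE x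
    obtain ⟨f, g, hfg, hxf⟩ := exists_basicOpen_le_affine_inter U.2 W.2 x ⟨hx, hxW⟩
    have ht' : E.ideal (X.affineBasicOpen g) =
        Ideal.span {(X.presheaf.map (homOfLE (X.basicOpen_le g)).op).hom t₀} := by
      rw [← E.map_ideal_basicOpen W g, hW, Ideal.map_span, Set.image_singleton]
    have heq : X.affineBasicOpen f = X.affineBasicOpen g := Subtype.ext hfg
    have key : ∀ V : X.affineOpens, V = X.affineBasicOpen g →
        ∃ g' : Γ(X, V.1), E.ideal V = Ideal.span {g'} := by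
      rintro V rfl; exact ⟨_, ht'⟩
    exact Opens.mem_iSup.2 ⟨⟨f, key _ heq⟩, hxf⟩
  refine Ideal.fg_of_localizationSpan t ht ?_
  rintro ⟨f, g, hg⟩
  have inst := U.2.isLocalization_basicOpen f
  have hmap : (X.presheaf.map (homOfLE (X.basicOpen_le f)).op).hom = algebraMap _ _ := rfl
  have h1 : ((E.ideal U).map (algebraMap Γ(X, U.1) Γ(X, X.basicOpen f))).FG := by
    have h0 : (E.ideal (X.affineBasicOpen f)).FG := hg ▸ Submodule.fg_span_singleton g
    rw [← hmap, E.map_ideal_basicOpen U f]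
    exact h0
  let φ : Γ(X, X.basicOpen f) ≃ₐ[Γ(X, U.1)] Localization.Away f :=
    IsLocalization.algEquiv (Submonoid.powers f) _ _
  have h2 : ((E.ideal U).map (algebraMap Γ(X, U.1) Γ(X, X.basicOpen f))).map
      (φ : Γ(X, X.basicOpen f) →+* Localization.Away f) =
      (E.ideal U).map (algebraMap Γ(X, U.1) (Localization.Away f)) := by
    rw [Ideal.map_map]
    congr 1
    ext r
    simp [φ]
  rw [← h2]
  exact h1.map _

lemma isCompact_awayFrom_inter (I : X.IdealSheafData) (hI : HTop.IsLocPrincipal I)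
    (W : X.affineOpens) : IsCompact ((HTop.awayFrom I : Set X) ∩ W.1) := by
  obtain ⟨S, hS⟩ := fg_of_isLocPrincipal I hI W
  have : (HTop.awayFrom I : Set X) ∩ W.1 = ⋃ f ∈ S, (X.basicOpen f : Set X) := by
    ext x
    simp only [Set.mem_inter_iff, SetLike.mem_coe, Set.mem_iUnion, exists_prop]
    constructor
    · rintro ⟨h1, h2⟩
      rw [awayFrom_eq, mem_interior_iff, Scheme.IdealSheafData.mem_support_iff_of_mem h2, ← hS,
        Scheme.zeroLocus_span, Scheme.mem_zeroLocus_iff] at h1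
      push Not at h1
      obtain ⟨f, hf, hxf⟩ := h1
      exact ⟨f, hf, hxf⟩
    · rintro ⟨f, hf, hxf⟩
      have h2 : x ∈ W.1 := X.basicOpen_le f hxf
      refine ⟨?_, h2⟩
      rw [awayFrom_eq, mem_interior_iff, Scheme.IdealSheafData.mem_support_iff_of_mem h2, ← hS,
        Scheme.zeroLocus_span, Scheme.mem_zeroLocus_iff]
      push Not
      exact ⟨f, hf, hxf⟩
  rw [this]
  exact S.finite_toSet.isCompact_biUnion (fun f _ => (W.2.basicOpen f).isCompact)

lemma quasiCompact_awayFrom_ι (I : X.IdealSheafData) (hI : HTop.IsLocPrincipal I) :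
    QuasiCompact (HTop.awayFrom I).ι := by
  rw [quasiCompact_iff_forall_isAffineOpen]
  intro W hW
  have h1 := isCompact_awayFrom_inter I hI ⟨W, hW⟩
  rw [(HTop.awayFrom I).ι.isEmbedding.isCompact_iff]
  convert h1 using 1
  ext x
  constructor
  · rintro ⟨y, hy, rfl⟩
    exact ⟨y.2, hy⟩
  · rintro ⟨h0, hW⟩
    exact ⟨⟨x, h0⟩, hW, rfl⟩

/-- The locally principal ideal becomes effective Cartier on the closed subscheme cut out by the
sections supported on it. -/
theorem isEffCartier_comap_supportedOn (J : X.IdealSheafData) (hJ : HTop.IsLocPrincipal J) :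
    BlowUp.IsEffCartierIdeal (J.comap (HTop.supportedOn J).subschemeι) := by
  haveI := quasiCompact_awayFrom_ι J hJ
  exact isEffCartier_comap_imageι' J hJ (HTop.awayFrom J) le_rfl

/-- A morphism under which `𝓔` becomes effective Cartier kills the sections supported on `𝓔`. -/
theorem supportedOn_le_ker (𝓔 : X.IdealSheafData) {T : Scheme.{u}} (m : T ⟶ X)
    (hT : BlowUp.IsEffCartierIdeal (𝓔.comap m)) : HTop.supportedOn 𝓔 ≤ m.ker := by
  rw [le_ker_iff_comap_eq_bot]
  set T₀ : T.Opens := (𝓔.comap m).support.compl with hT₀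
  have hdense : T₀.ι.ker = ⊥ := ker_ι_compl_support_eq_bot _ hT
  have hrange : Set.range (T₀.ι ≫ m) ⊆ Set.range (HTop.awayFrom 𝓔).ι := by
    rintro _ ⟨x, rfl⟩
    rw [Scheme.Opens.range_ι]
    change (T₀.ι ≫ m) x ∉ 𝓔.support
    have hx : T₀.ι x ∉ (𝓔.comap m).support := x.2
    rw [Scheme.IdealSheafData.support_comap] at hx
    exact hx
  let q := IsOpenImmersion.lift (HTop.awayFrom 𝓔).ι (T₀.ι ≫ m) hrange
  have hq : q ≫ (HTop.awayFrom 𝓔).ι = T₀.ι ≫ m := IsOpenImmersion.lift_fac _ _ _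
  have h0 : (HTop.supportedOn 𝓔).comap (HTop.awayFrom 𝓔).ι = ⊥ := by
    rw [← le_ker_iff_comap_eq_bot, HTop.supportedOn]
  have h1 : ((HTop.supportedOn 𝓔).comap m).comap T₀.ι = ⊥ := by
    rw [← Scheme.IdealSheafData.comap_comp, ← hq, Scheme.IdealSheafData.comap_comp, h0,
      Scheme.IdealSheafData.comap_bot]
  have h2 : (HTop.supportedOn 𝓔).comap m ≤ T₀.ι.ker := by
    rw [le_ker_iff_comap_eq_bot]; exact h1
  rw [hdense] at h2
  exact le_bot_iff.1 h2

lemma ker_eq_comap_of_isPullback {Z Z₁ : Scheme.{u}} {i : Z ⟶ X} [IsClosedImmersion i]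
    {g : Y ⟶ X} {i₁ : Z₁ ⟶ Y} {gZ : Z₁ ⟶ Z} (hZ : IsPullback gZ i₁ i g) :
    i₁.ker = i.ker.comap g := by
  rw [← Scheme.IdealSheafData.ker_fst_of_isClosedImmersion i g,
    ← hZ.flip.isoPullback_hom_fst, Scheme.Hom.ker_comp_of_isIso]

end Groth.Agent.Lib.Helper9.ABlow
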