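import Mathlib
import Groth.Prelude.Def_BlowUp2
import Groth.Agent.Lib.Helper29.RelEffCart
import Groth.Agent.Lib.Helper29.ColonSheaf

set_option autoImplicit false
universe u
open CategoryTheory AlgebraicGeometry TopologicalSpace

namespace Groth.Agent.Lib.Helper9.ColonE

open Groth.Agent.Lib.Helper29.EffCart Groth.Agent.Lib.Helper29.Colon

section Alg
variable {R : Type*} [CommRing R]

lemma colon_span_mul (a' e : R) (he : e ∈ nonZeroDivisors R) :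
    (Ideal.span {a' * e}).colon ((Ideal.span {e} : Ideal R) : Set R) = Ideal.span {a'} := by
  ext r
  rw [Ideal.colon_span, Submodule.mem_colon_singleton, smul_eq_mul, Ideal.mem_span_singleton',
    Ideal.mem_span_singleton']
  constructor
  · rintro ⟨c, hc⟩
    refine ⟨c, ?_⟩
    have : (c * a' - r) * e = 0 := by rw [sub_mul]; rw [mul_assoc, hc]; ring
    have := (mem_nonZeroDivisors_iff_right.1 he) _ this
    exact sub_eq_zero.1 this
  · rintro ⟨c, rfl⟩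
    exact ⟨c, by ring⟩

lemma nzd_of_mul_nzd (a' e : R) (h : a' * e ∈ nonZeroDivisors R) : a' ∈ nonZeroDivisors R := by
  rw [mem_nonZeroDivisors_iff_right] at h ⊢
  intro x hx
  apply h
  rw [← mul_assoc, hx, zero_mul]

lemma coprime_of_sup_eq (a' b' e : R) (he : e ∈ nonZeroDivisors R)
    (h : Ideal.span {a' * e} ⊔ Ideal.span {b' * e} = Ideal.span {e}) :
    Ideal.span {a'} ⊔ Ideal.span {b'} = (⊤ : Ideal R) := by
  have h1 : e ∈ Ideal.span {a' * e} ⊔ Ideal.span {b' * e} := h ▸ Ideal.mem_span_singleton_self e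
  obtain ⟨x, hx, y, hy, hxy⟩ := Submodule.mem_sup.1 h1
  obtain ⟨s, rfl⟩ := Ideal.mem_span_singleton'.1 hx
  obtain ⟨t, rfl⟩ := Ideal.mem_span_singleton'.1 hy
  have : (s * a' + t * b' - 1) * e = 0 := by
    rw [sub_mul, add_mul, one_mul]
    have : s * a' * e + t * b' * e = e := by linear_combination hxy
    rw [this, sub_self]
  have h2 := sub_eq_zero.1 ((mem_nonZeroDivisors_iff_right.1 he) _ this)
  rw [Ideal.eq_top_iff_one, ← h2]
  exact Submodule.add_mem_sup (Ideal.mem_span_singleton'.2 ⟨s, rfl⟩)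
    (Ideal.mem_span_singleton'.2 ⟨t, rfl⟩)

lemma inter_le_mul (a' b' e : R) (he : e ∈ nonZeroDivisors R)
    (h : Ideal.span {a'} ⊔ Ideal.span {b'} = (⊤ : Ideal R)) :
    Ideal.span {a' * e} ⊓ Ideal.span {b' * e} ≤
      Ideal.span {a'} * Ideal.span {b'} * Ideal.span {e} := by
  rintro d ⟨hd1, hd2⟩
  obtain ⟨x, rfl⟩ := Ideal.mem_span_singleton'.1 hd1
  obtain ⟨y, hy⟩ := Ideal.mem_span_singleton'.1 hd2
  have h1 : (1 : R) ∈ Ideal.span {a'} ⊔ Ideal.span {b'} := h ▸ Submodule.mem_top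
  obtain ⟨p, hp, q, hq, hpq⟩ := Submodule.mem_sup.1 h1
  obtain ⟨s, rfl⟩ := Ideal.mem_span_singleton'.1 hp
  obtain ⟨t, rfl⟩ := Ideal.mem_span_singleton'.1 hq
  have h3 : (x * a' - y * b') * e = 0 := by
    rw [sub_mul, sub_eq_zero, mul_assoc, mul_assoc]; exact hy.symm
  have h4 : x * a' = y * b' := sub_eq_zero.1 ((mem_nonZeroDivisors_iff_right.1 he) _ h3)
  have hx : x = (y * s + t * x) * b' := by
    calc x = x * (s * a' + t * b') := by rw [hpq, mul_one]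
      _ = s * (x * a') + t * x * b' := by ring
      _ = s * (y * b') + t * x * b' := by rw [h4]
      _ = (y * s + t * x) * b' := by ring
  rw [Ideal.span_singleton_mul_span_singleton, Ideal.span_singleton_mul_span_singleton,
    Ideal.mem_span_singleton']
  refine ⟨y * s + t * x, ?_⟩
  linear_combination (-(a' * e)) * hx

end Alg

variable {X : Scheme.{u}}

/-- An effective Cartier ideal is finitely generated on every affine open. -/
theorem fg_of_isEffCartierIdeal (E : X.IdealSheafData) (hE : BlowUp.IsEffCartierIdeal E)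
    (U : X.affineOpens) : (E.ideal U).FG := by
  let t : Set Γ(X, U.1) := {f | ∃ g, E.ideal (X.affineBasicOpen f) = Ideal.span {g}}
  have ht : Ideal.span t = ⊤ := by
    rw [← U.2.self_le_iSup_basicOpen_iff]
    intro x hx
    obtain ⟨W, hxW, t₀, ht₀, hW⟩ := hE x
    obtain ⟨f, g, hfg, hxf⟩ := exists_basicOpen_le_affine_inter U.2 W.2 x ⟨hx, hxW⟩
    obtain ⟨t', -, ht'⟩ := principal_nzd_basicOpen E W t₀ ht₀ hW g
    have heq : X.affineBasicOpen f = X.affineBasicOpen g := Subtype.ext hfg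
    have key : ∀ V : X.affineOpens, V = X.affineBasicOpen g →
        ∃ g' : Γ(X, V.1), E.ideal V = Ideal.span {g'} := by
      rintro V rfl; exact ⟨t', ht'⟩
    exact Opens.mem_iSup.2 ⟨⟨f, key _ heq⟩, hxf⟩
  refine Ideal.fg_of_localizationSpan t ht ?_
  rintro ⟨f, g, hg⟩
  have inst := U.2.isLocalization_basicOpen f
  have hmap : (X.presheaf.map (homOfLE (X.basicOpen_le f)).op).hom = algebraMap _ _ := rfl
  have h1 : ((E.ideal U).map (algebraMap Γ(X, U.1) Γ(X, X.basicOpen f))).FG := by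
    have h0 : (E.ideal (X.affineBasicOpen f)).FG := hg ▸ Submodule.fg_span_singleton g
    rw [← hmap, E.map_ideal_basicOpen U f]
    exact h0
  let φ : Γ(X, X.basicOpen f) ≃ₐ[Γ(X, U.1)] Localization.Away f :=
    IsLocalization.algEquiv (Submonoid.powers f) _ _
  have h2 : ((E.ideal U).map (algebraMap Γ(X, U.1) Γ(X, X.basicOpen f))).map
      (φ : Γ(X, X.basicOpen f) →+* Localization.Away f) =
      (E.ideal U).map (algebraMap Γ(X, U.1) (Localization.Away f)) := by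
    rw [Ideal.map_map]
    congr 1
    ext r
    simp [φ]
  rw [← h2]
  exact h1.map _

/-- The colon ideal sheaf `(I : E)` for an effective Cartier ideal `E`. -/
noncomputable def colonE (I E : X.IdealSheafData) (hE : BlowUp.IsEffCartierIdeal E) :
    X.IdealSheafData where
  ideal U := (I.ideal U).colon (E.ideal U : Set Γ(X, U.1))
  map_ideal_basicOpen U f := by
    have inst := U.2.isLocalization_basicOpen f
    have hmap : (X.presheaf.map (homOfLE (X.basicOpen_le f)).op).hom = algebraMap _ _ := rfl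
    have h := colon_map_localization (B := Γ(X, X.basicOpen f)) (Submonoid.powers f)
      (I.ideal U) (E.ideal U) (fg_of_isEffCartierIdeal E hE U)
    rw [← I.map_ideal_basicOpen U f, ← E.map_ideal_basicOpen U f, hmap]
    exact h

@[simp] lemma colonE_ideal (I E : X.IdealSheafData) (hE : BlowUp.IsEffCartierIdeal E)
    (U : X.affineOpens) :
    (colonE I E hE).ideal U = (I.ideal U).colon (E.ideal U : Set Γ(X, U.1)) := rfl


lemma exists_affine_principal_nzd₃ (I₁ I₂ I₃ : X.IdealSheafData)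
    (h₁ : BlowUp.IsEffCartierIdeal I₁) (h₂ : BlowUp.IsEffCartierIdeal I₂)
    (h₃ : BlowUp.IsEffCartierIdeal I₃) (x : X) :
    ∃ W : X.affineOpens, x ∈ W.1 ∧
      (∃ t₁ : Γ(X, W.1), t₁ ∈ nonZeroDivisors Γ(X, W.1) ∧ I₁.ideal W = Ideal.span {t₁}) ∧
      (∃ t₂ : Γ(X, W.1), t₂ ∈ nonZeroDivisors Γ(X, W.1) ∧ I₂.ideal W = Ideal.span {t₂}) ∧
      (∃ t₃ : Γ(X, W.1), t₃ ∈ nonZeroDivisors Γ(X, W.1) ∧ I₃.ideal W = Ideal.span {t₃}) := by
  obtain ⟨W₁, hxW₁, -, ⟨t₁, ht₁, hI₁⟩, ⟨t₂, ht₂, hI₂⟩⟩ :=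
    exists_affine_principal_nzd_le₂ I₁ I₂ h₁ h₂ x ⊤ trivial
  obtain ⟨U₃, hxU₃, t₃, ht₃, hI₃⟩ := h₃ x
  obtain ⟨f, g, hfg, hxf⟩ := exists_basicOpen_le_affine_inter W₁.2 U₃.2 x ⟨hxW₁, hxU₃⟩
  have p₁ := principal_nzd_basicOpen I₁ W₁ t₁ ht₁ hI₁ f
  have p₂ := principal_nzd_basicOpen I₂ W₁ t₂ ht₂ hI₂ f
  have p₃ := principal_nzd_basicOpen I₃ U₃ t₃ ht₃ hI₃ g
  have heq : X.affineBasicOpen f = X.affineBasicOpen g := Subtype.ext hfg
  rw [← heq] at p₃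
  exact ⟨X.affineBasicOpen f, hxf, p₁, p₂, p₃⟩

theorem effCartier_sub_inter_coprime (I₁ I₂ : X.IdealSheafData)
    (h₁ : BlowUp.IsEffCartierIdeal I₁) (h₂ : BlowUp.IsEffCartierIdeal I₂)
    (hE : BlowUp.IsEffCartierIdeal (I₁ ⊔ I₂)) :
    ∃ I₁' I₂' : X.IdealSheafData, BlowUp.IsEffCartierIdeal I₁' ∧ BlowUp.IsEffCartierIdeal I₂' ∧
      I₁ = I₁' * (I₁ ⊔ I₂) ∧ I₂ = I₂' * (I₁ ⊔ I₂) ∧ I₁' ⊔ I₂' = ⊤ ∧
      ∀ D : X.IdealSheafData, BlowUp.IsEffCartierIdeal D → D ≤ I₁ → D ≤ I₂ →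
        D ≤ I₁' * I₂' * (I₁ ⊔ I₂) := by
  have loc : ∀ x : X, ∃ W : X.affineOpens, x ∈ W.1 ∧ ∃ a' b' e : Γ(X, W.1),
      e ∈ nonZeroDivisors Γ(X, W.1) ∧ a' * e ∈ nonZeroDivisors Γ(X, W.1) ∧
      b' * e ∈ nonZeroDivisors Γ(X, W.1) ∧ I₁.ideal W = Ideal.span {a' * e} ∧
      I₂.ideal W = Ideal.span {b' * e} ∧ (I₁ ⊔ I₂).ideal W = Ideal.span {e} := by
    intro x
    obtain ⟨W, hxW, ⟨a, ha, hI₁⟩, ⟨b, hb, hI₂⟩, ⟨e, he, hIE⟩⟩ :=
      exists_affine_principal_nzd₃ I₁ I₂ (I₁ ⊔ I₂) h₁ h₂ hE x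
    have hale : a ∈ Ideal.span {e} :=
      hIE ▸ (le_sup_left : I₁ ≤ I₁ ⊔ I₂) W (hI₁ ▸ Ideal.mem_span_singleton_self a)
    have hble : b ∈ Ideal.span {e} :=
      hIE ▸ (le_sup_right : I₂ ≤ I₁ ⊔ I₂) W (hI₂ ▸ Ideal.mem_span_singleton_self b)
    obtain ⟨a', rfl⟩ := Ideal.mem_span_singleton'.1 hale
    obtain ⟨b', rfl⟩ := Ideal.mem_span_singleton'.1 hble
    exact ⟨W, hxW, a', b', e, he, ha, hb, hI₁, hI₂, hIE⟩
  choose W hxW a' b' e he ha hb hI₁ hI₂ hIE using loc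
  have hcov : ⨆ x, (W x).1 = ⊤ := by
    rw [eq_top_iff]
    intro x _
    exact TopologicalSpace.Opens.mem_iSup.2 ⟨x, hxW x⟩
  have hc1 : ∀ x, (colonE I₁ (I₁ ⊔ I₂) hE).ideal (W x) = Ideal.span {a' x} := fun x => by
    rw [colonE_ideal, hI₁, hIE, colon_span_mul _ _ (he x)]
  have hc2 : ∀ x, (colonE I₂ (I₁ ⊔ I₂) hE).ideal (W x) = Ideal.span {b' x} := fun x => by
    rw [colonE_ideal, hI₂, hIE, colon_span_mul _ _ (he x)]
  have hsup : ∀ x, Ideal.span {a' x * e x} ⊔ Ideal.span {b' x * e x} = Ideal.span {e x} := by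
    intro x
    rw [← hI₁, ← hI₂, ← hIE]
    rfl
  have hcop : ∀ x, Ideal.span {a' x} ⊔ Ideal.span {b' x} = (⊤ : Ideal Γ(X, (W x).1)) :=
    fun x => coprime_of_sup_eq _ _ _ (he x) (hsup x)
  refine ⟨colonE I₁ (I₁ ⊔ I₂) hE, colonE I₂ (I₁ ⊔ I₂) hE, ?_, ?_, ?_, ?_, ?_, ?_⟩
  · intro x
    exact ⟨W x, hxW x, a' x, nzd_of_mul_nzd _ _ (ha x), hc1 x⟩
  · intro x
    exact ⟨W x, hxW x, b' x, nzd_of_mul_nzd _ _ (hb x), hc2 x⟩
  · refine Scheme.IdealSheafData.ext_of_iSup_eq_top W hcov ?_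
    intro x
    change I₁.ideal (W x) = (colonE I₁ (I₁ ⊔ I₂) hE).ideal (W x) * (I₁ ⊔ I₂).ideal (W x)
    rw [hc1, hI₁, hIE, Ideal.span_singleton_mul_span_singleton]
  · refine Scheme.IdealSheafData.ext_of_iSup_eq_top W hcov ?_
    intro x
    change I₂.ideal (W x) = (colonE I₂ (I₁ ⊔ I₂) hE).ideal (W x) * (I₁ ⊔ I₂).ideal (W x)
    rw [hc2, hI₂, hIE, Ideal.span_singleton_mul_span_singleton]
  · refine Scheme.IdealSheafData.ext_of_iSup_eq_top W hcov ?_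
    intro x
    change (colonE I₁ (I₁ ⊔ I₂) hE).ideal (W x) ⊔ (colonE I₂ (I₁ ⊔ I₂) hE).ideal (W x) = ⊤
    rw [hc1, hc2, hcop]
  · intro D _ hD1 hD2
    refine Scheme.IdealSheafData.le_of_iSup_eq_top W hcov ?_
    intro x
    change D.ideal (W x) ≤ ((colonE I₁ (I₁ ⊔ I₂) hE).ideal (W x) *
      (colonE I₂ (I₁ ⊔ I₂) hE).ideal (W x)) * (I₁ ⊔ I₂).ideal (W x)
    rw [hc1, hc2, hIE]
    refine le_trans ?_ (inter_le_mul _ _ _ (he x) (hcop x))
    rw [← hI₁, ← hI₂]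
    exact le_inf (hD1 _) (hD2 _)

end Groth.Agent.Lib.Helper9.ColonE
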