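import Mathlib
import Groth.Prelude.Def_W4c6modpairsegaMP
import Groth.Agent.Lib.Helper29.IdealComap
import Groth.Agent.Lib.Helper9.ColonE

set_option autoImplicit false
universe u
open CategoryTheory CategoryTheory.Limits AlgebraicGeometry TopologicalSpace

namespace Groth.Agent.Lib.Helper9.AdmCoprod

open Groth.Agent.Lib.Helper29.EffCart Groth.Agent.Lib.Helper9.ColonE

variable {X : Scheme.{u}}

lemma isUnit_of_basicOpen_eq {U : X.Opens} (f : Γ(X, U)) (h : X.basicOpen f = U) : IsUnit f := by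
  refine RingedSpace.isUnit_of_isUnit_germ (X := X.toRingedSpace) U f fun x hx => ?_
  have hx' : x ∈ X.basicOpen f := by rw [h]; exact hx
  exact (X.mem_basicOpen f x hx).1 hx'

lemma mem_interior_iff (I : X.IdealSheafData) (x : X) :
    x ∈ ModPair.interior I ↔ x ∉ I.support := Iff.rfl

lemma mem_interior_iff_of_span (I : X.IdealSheafData) (W : X.affineOpens) (t : Γ(X, W.1))
    (hW : I.ideal W = Ideal.span {t}) (x : X) (hx : x ∈ W.1) :
    x ∈ ModPair.interior I ↔ x ∈ X.basicOpen t := by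
  rw [mem_interior_iff, Scheme.IdealSheafData.mem_support_iff_of_mem hx, hW,
    Scheme.zeroLocus_span, Scheme.mem_zeroLocus_iff]
  simp

lemma isCompact_interior_inter (I : X.IdealSheafData) (hI : BlowUp.IsEffCartierIdeal I)
    (W : X.affineOpens) : IsCompact ((ModPair.interior I : Set X) ∩ W.1) := by
  obtain ⟨S, hS⟩ := fg_of_isEffCartierIdeal I hI W
  have : (ModPair.interior I : Set X) ∩ W.1 = ⋃ f ∈ S, (X.basicOpen f : Set X) := by
    ext x
    simp only [Set.mem_inter_iff, SetLike.mem_coe, Set.mem_iUnion, exists_prop]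
    constructor
    · rintro ⟨h1, h2⟩
      rw [mem_interior_iff, Scheme.IdealSheafData.mem_support_iff_of_mem h2, ← hS,
        Scheme.zeroLocus_span, Scheme.mem_zeroLocus_iff] at h1
      push Not at h1
      obtain ⟨f, hf, hxf⟩ := h1
      exact ⟨f, hf, hxf⟩
    · rintro ⟨f, hf, hxf⟩
      have h2 : x ∈ W.1 := X.basicOpen_le f hxf
      refine ⟨?_, h2⟩
      rw [mem_interior_iff, Scheme.IdealSheafData.mem_support_iff_of_mem h2, ← hS,
        Scheme.zeroLocus_span, Scheme.mem_zeroLocus_iff]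
      push Not
      exact ⟨f, hf, hxf⟩
  rw [this]
  exact S.finite_toSet.isCompact_biUnion (fun f _ => (W.2.basicOpen f).isCompact)

lemma quasiCompact_ι (I : X.IdealSheafData) (hI : BlowUp.IsEffCartierIdeal I) (U₀ U₁ : X.Opens)
    (hU : U₀ ⊔ U₁ = ModPair.interior I) (hd : Disjoint U₀ U₁) : QuasiCompact U₀.ι := by
  rw [quasiCompact_iff_forall_isAffineOpen]
  intro W hW
  have h1 : IsCompact ((U₀ : Set X) ∩ W) := by
    have hc := isCompact_interior_inter I hI ⟨W, hW⟩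
    have : (U₀ : Set X) ∩ W = ((ModPair.interior I : Set X) ∩ W) ∩ (U₁ : Set X)ᶜ := by
      ext x
      rw [← hU]
      simp only [Set.mem_inter_iff, SetLike.mem_coe, Opens.coe_sup, Set.mem_union,
        Set.mem_compl_iff]
      constructor
      · rintro ⟨h0, hW⟩
        exact ⟨⟨Or.inl h0, hW⟩, fun h1 => (disjoint_iff.1 hd).le ⟨h0, h1⟩⟩
      · rintro ⟨⟨h0 | h1, hW⟩, hn⟩
        · exact ⟨h0, hW⟩
        · exact absurd h1 hn
    rw [this]
    exact hc.inter_right U₁.isOpen.isClosed_compl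
  rw [U₀.ι.isEmbedding.isCompact_iff]
  convert h1 using 1
  ext x
  constructor
  · rintro ⟨y, hy, rfl⟩
    exact ⟨y.2, hy⟩
  · rintro ⟨h0, hW⟩
    exact ⟨⟨x, h0⟩, hW, rfl⟩


lemma isEffCartier_comap_imageι (I : X.IdealSheafData) (hI : BlowUp.IsEffCartierIdeal I)
    (U₀ : X.Opens) [QuasiCompact U₀.ι] (hle : U₀ ≤ ModPair.interior I) :
    BlowUp.IsEffCartierIdeal (I.comap U₀.ι.imageι) := by
  intro y
  obtain ⟨W, hxW, t, ht, hW⟩ := hI (U₀.ι.imageι y)
  have hV : IsAffineOpen (U₀.ι.imageι ⁻¹ᵁ W.1) := W.2.preimage U₀.ι.imageι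
  refine ⟨⟨_, hV⟩, hxW, (U₀.ι.imageι.app W.1).hom t, ?_, ?_⟩
  · rw [mem_nonZeroDivisors_iff_right]
    intro r hr
    obtain ⟨s, rfl⟩ := U₀.ι.ker.subschemeι_app_surjective W r
    have hr' : (U₀.ι.ker.subschemeι.app W.1).hom (s * t) = 0 := by rw [map_mul]; exact hr
    have h1 : s * t ∈ U₀.ι.ker.ideal W := by
      rw [← U₀.ι.ker.ker_subschemeι_app W]; exact hr'
    rw [Scheme.Hom.ker_apply, RingHom.mem_ker, map_mul] at h1
    have hunit : IsUnit ((U₀.ι.app W.1).hom t) := by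
      apply isUnit_of_basicOpen_eq
      rw [← Scheme.preimage_basicOpen]
      ext u
      constructor
      · intro h; exact X.basicOpen_le t h
      · intro h; exact (mem_interior_iff_of_span I W t hW _ h).1 (hle u.2)
    have h2 : (U₀.ι.app W.1).hom s = 0 := (hunit.mul_left_eq_zero).1 h1
    have h3 : s ∈ U₀.ι.ker.ideal W := by
      rw [Scheme.Hom.ker_apply, RingHom.mem_ker]; exact h2
    rw [← U₀.ι.ker.ker_subschemeι_app W] at h3
    exact h3
  · rw [ideal_comap_eq_map I U₀.ι.imageι W ⟨_, hV⟩ le_rfl, hW, Ideal.map_span,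
      Set.image_singleton, ← Scheme.Hom.app_eq_appLE]


lemma effCartier_at_of_comap {A Y : Scheme.{u}} (ι : A ⟶ Y) [IsOpenImmersion ι]
    (J : Y.IdealSheafData) (a : A)
    (h : ∃ W : A.affineOpens, a ∈ W.1 ∧ ∃ t : Γ(A, W.1), t ∈ nonZeroDivisors Γ(A, W.1) ∧
      (J.comap ι).ideal W = Ideal.span {t}) :
    ∃ V : Y.affineOpens, ι a ∈ V.1 ∧ ∃ t : Γ(Y, V.1), t ∈ nonZeroDivisors Γ(Y, V.1) ∧
      J.ideal V = Ideal.span {t} := by
  obtain ⟨W, hxW, t, ht, hW⟩ := h
  have hbij := ConcreteCategory.bijective_of_isIso (ι.appIso W.1).inv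
  refine ⟨⟨ι ''ᵁ W.1, W.2.image_of_isOpenImmersion _⟩, ⟨a, hxW, rfl⟩,
    (ι.appIso W.1).inv.hom t, ?_, ?_⟩
  · rw [mem_nonZeroDivisors_iff_right] at ht ⊢
    intro r hr
    obtain ⟨r', rfl⟩ := hbij.2 r
    rw [← map_mul] at hr
    have : r' * t = 0 := hbij.1 (by rw [hr, map_zero])
    rw [ht r' this, map_zero]
  · rw [Scheme.IdealSheafData.ideal_comap_of_isOpenImmersion] at hW
    have h2 := congrArg (Ideal.map (ι.appIso W.1).inv.hom) hW
    rw [Ideal.map_comap_of_surjective _ hbij.2, Ideal.map_span, Set.image_singleton] at h2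
    exact h2

lemma isEffCartier_of_coprod {A B : Scheme.{u}} (J : (A ⨿ B).IdealSheafData)
    (hA : BlowUp.IsEffCartierIdeal (J.comap coprod.inl))
    (hB : BlowUp.IsEffCartierIdeal (J.comap coprod.inr)) :
    BlowUp.IsEffCartierIdeal J := by
  intro y
  obtain ⟨(a | b), rfl⟩ := (coprodMk A B).surjective y
  · rw [coprodMk_inl]
    exact effCartier_at_of_comap coprod.inl J a (hA a)
  · rw [coprodMk_inr]
    exact effCartier_at_of_comap coprod.inr J b (hB b)

lemma isOpenImmersion_coprodDesc {A B Y : Scheme.{u}} (α : A ⟶ Y) (β : B ⟶ Y)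
    [IsOpenImmersion α] [IsOpenImmersion β]
    (hd : Disjoint (Set.range α) (Set.range β)) : IsOpenImmersion (coprod.desc α β) := by
  rw [IsOpenImmersion.iff_isIso_stalkMap]
  constructor
  · have h1 : ⇑(coprod.desc α β : A ⨿ B ⟶ Y) ∘ coprodMk A B = Sum.elim α β := by
      ext (a | b)
      · change (coprod.desc α β : A ⨿ B ⟶ Y) (coprodMk A B (Sum.inl a)) = α a
        rw [coprodMk_inl, ← Scheme.Hom.comp_apply, coprod.inl_desc]
      · change (coprod.desc α β : A ⨿ B ⟶ Y) (coprodMk A B (Sum.inr b)) = β b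
        rw [coprodMk_inr, ← Scheme.Hom.comp_apply, coprod.inr_desc]
    have h2 : Topology.IsOpenEmbedding (Sum.elim α β) := by
      refine Topology.IsOpenEmbedding.sumElim α.isOpenEmbedding β.isOpenEmbedding ?_
      rintro (a | b) (a' | b') e
      · exact congrArg _ (α.isOpenEmbedding.injective e)
      · exact absurd rfl (Set.disjoint_iff_forall_ne.1 hd ⟨a, rfl⟩ ⟨b', e.symm⟩)
      · exact absurd rfl (Set.disjoint_iff_forall_ne.1 hd ⟨a', e.symm⟩ ⟨b, rfl⟩)
      · exact congrArg _ (β.isOpenEmbedding.injective e)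
    have : ⇑(coprod.desc α β : A ⨿ B ⟶ Y) = Sum.elim α β ∘ (coprodMk A B).symm := by
      rw [← h1]; ext; simp
    rw [this]
    exact h2.comp (coprodMk A B).symm.isOpenEmbedding
  · intro x
    obtain ⟨(a | b), rfl⟩ := (coprodMk A B).surjective x
    · rw [coprodMk_inl]
      refine IsIso.of_isIso_fac_right
        (f := (coprod.inl : A ⟶ A ⨿ B).stalkMap a)
        (h := (Y.presheaf.stalkCongr (.of_eq ?_)).hom ≫ α.stalkMap a) ?_
      · rw [← Scheme.Hom.comp_apply, coprod.inl_desc]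
      · simp [← Scheme.Hom.stalkMap_comp, Scheme.Hom.stalkMap_congr_hom _ _ (coprod.inl_desc _ _)]
    · rw [coprodMk_inr]
      refine IsIso.of_isIso_fac_right
        (f := (coprod.inr : B ⟶ A ⨿ B).stalkMap b)
        (h := (Y.presheaf.stalkCongr (.of_eq ?_)).hom ≫ β.stalkMap b) ?_
      · rw [← Scheme.Hom.comp_apply, coprod.inr_desc]
      · simp [← Scheme.Hom.stalkMap_comp, Scheme.Hom.stalkMap_congr_hom _ _ (coprod.inr_desc _ _)]


instance isOpenImmersion_toImage (U₀ : X.Opens) : IsOpenImmersion U₀.ι.toImage := by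
  refine MorphismProperty.of_postcomp (W := @IsOpenImmersion)
    (W' := MorphismProperty.monomorphisms Scheme) U₀.ι.toImage U₀.ι.imageι
    (inferInstanceAs (Mono U₀.ι.imageι)) ?_
  rw [Scheme.Hom.toImage_imageι]
  infer_instance

lemma range_imageι_subset (U₀ : X.Opens) [QuasiCompact U₀.ι] :
    Set.range U₀.ι.imageι ⊆ closure (U₀ : Set X) := by
  rw [Scheme.IdealSheafData.range_subschemeι, Scheme.Hom.support_ker, Scheme.Opens.range_ι]

lemma exists_toImage_eq (U₀ U₁ : X.Opens) [QuasiCompact U₀.ι] (hd : Disjoint U₀ U₁)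
    (y : U₀.ι.image) (hy : U₀.ι.imageι y ∈ U₀ ⊔ U₁) : ∃ u : U₀, U₀.ι.toImage u = y := by
  have h1 : U₀.ι.imageι y ∈ closure (U₀ : Set X) := range_imageι_subset U₀ ⟨y, rfl⟩
  have hd' : Disjoint (U₀ : Set X) (U₁ : Set X) := by
    rw [Set.disjoint_iff]
    intro x hx
    exact (disjoint_iff.1 hd).le hx
  have h2 : U₀.ι.imageι y ∉ U₁ := fun h =>
    Set.disjoint_iff.1 (hd'.closure_left U₁.isOpen) ⟨h1, h⟩
  have h3 : U₀.ι.imageι y ∈ U₀ := by
    rcases hy with h | h
    · exact h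
    · exact absurd h h2
  refine ⟨⟨_, h3⟩, ?_⟩
  apply U₀.ι.imageι.isEmbedding.injective
  rw [← Scheme.Hom.comp_apply, Scheme.Hom.toImage_imageι]
  rfl


theorem main (I : X.IdealSheafData) (hI : BlowUp.IsEffCartierIdeal I) (U₀ U₁ : X.Opens)
    (hU : U₀ ⊔ U₁ = ModPair.interior I) (hd : Disjoint U₀ U₁) :
    BlowUp.IsEffCartierIdeal (I.comap (coprod.desc U₀.ι.imageι U₁.ι.imageι)) ∧
      ModPair.IsAdmBlowup (I.comap (coprod.desc U₀.ι.imageι U₁.ι.imageι)) I
        (coprod.desc U₀.ι.imageι U₁.ι.imageι) := by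
  have qc₀ : QuasiCompact U₀.ι := quasiCompact_ι I hI U₀ U₁ hU hd
  have qc₁ : QuasiCompact U₁.ι :=
    quasiCompact_ι I hI U₁ U₀ (by rw [sup_comm]; exact hU) hd.symm
  refine ⟨?_, rfl, inferInstance, ?_⟩
  · apply isEffCartier_of_coprod
    · rw [← Scheme.IdealSheafData.comap_comp, coprod.inl_desc]
      exact isEffCartier_comap_imageι I hI U₀ (hU ▸ le_sup_left)
    · rw [← Scheme.IdealSheafData.comap_comp, coprod.inr_desc]
      exact isEffCartier_comap_imageι I hI U₁ (hU ▸ le_sup_right)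
  · rw [← hU]
    have hd' : Disjoint (U₀ : Set X) (U₁ : Set X) := by
      rw [Set.disjoint_iff]
      intro x hx
      exact (disjoint_iff.1 hd).le hx
    let h : U₀.ι.image ⨿ U₁.ι.image ⟶ X := coprod.desc U₀.ι.imageι U₁.ι.imageι
    let j : (U₀ : Scheme.{u}) ⨿ (U₁ : Scheme.{u}) ⟶ U₀.ι.image ⨿ U₁.ι.image :=
      coprod.map U₀.ι.toImage U₁.ι.toImage
    let k : (U₀ : Scheme.{u}) ⨿ (U₁ : Scheme.{u}) ⟶ X := coprod.desc U₀.ι U₁.ι
    have hjk : j ≫ h = k := by
      apply coprod.hom_ext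
      · simp only [j, h, k, coprod.inl_map_assoc, coprod.inl_desc, Category.assoc,
          Scheme.Hom.toImage_imageι]
      · simp only [j, h, k, coprod.inr_map_assoc, coprod.inr_desc, Category.assoc,
          Scheme.Hom.toImage_imageι]
    haveI : IsOpenImmersion k := isOpenImmersion_coprodDesc _ _ (by
      rw [Scheme.Opens.range_ι, Scheme.Opens.range_ι]; exact hd')
    have hk : Set.range k = ((U₀ ⊔ U₁ : X.Opens) : Set X) := by
      ext x
      constructor
      · rintro ⟨p, rfl⟩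
        obtain ⟨(a | b), rfl⟩ := (coprodMk _ _).surjective p
        · rw [coprodMk_inl, ← Scheme.Hom.comp_apply, coprod.inl_desc]
          exact Or.inl a.2
        · rw [coprodMk_inr, ← Scheme.Hom.comp_apply, coprod.inr_desc]
          exact Or.inr b.2
      · rintro (hx | hx)
        · refine ⟨(coprod.inl : (U₀ : Scheme.{u}) ⟶ _) ⟨x, hx⟩, ?_⟩
          rw [← Scheme.Hom.comp_apply, coprod.inl_desc]; rfl
        · refine ⟨(coprod.inr : (U₁ : Scheme.{u}) ⟶ _) ⟨x, hx⟩, ?_⟩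
          rw [← Scheme.Hom.comp_apply, coprod.inr_desc]; rfl
    have hj : Set.range j = ((h ⁻¹ᵁ (U₀ ⊔ U₁) : (U₀.ι.image ⨿ U₁.ι.image).Opens) : Set _) := by
      ext y
      constructor
      · rintro ⟨p, rfl⟩
        change h (j p) ∈ ((U₀ ⊔ U₁ : X.Opens) : Set X)
        rw [← Scheme.Hom.comp_apply, hjk, ← hk]
        exact ⟨p, rfl⟩
      · intro hy
        change h y ∈ U₀ ⊔ U₁ at hy
        obtain ⟨(a | b), rfl⟩ := (coprodMk _ _).surjective y
        · rw [coprodMk_inl] at hy ⊢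
          rw [← Scheme.Hom.comp_apply, coprod.inl_desc] at hy
          obtain ⟨u, rfl⟩ := exists_toImage_eq U₀ U₁ hd a hy
          refine ⟨(coprod.inl : (U₀ : Scheme.{u}) ⟶ _) u, ?_⟩
          rw [← Scheme.Hom.comp_apply, coprod.inl_map, Scheme.Hom.comp_apply]
        · rw [coprodMk_inr] at hy ⊢
          rw [← Scheme.Hom.comp_apply, coprod.inr_desc] at hy
          obtain ⟨u, rfl⟩ := exists_toImage_eq U₁ U₀ hd.symm b (by rw [sup_comm]; exact hy)
          refine ⟨(coprod.inr : (U₁ : Scheme.{u}) ⟶ _) u, ?_⟩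
          rw [← Scheme.Hom.comp_apply, coprod.inr_map, Scheme.Hom.comp_apply]
    let e₁ := IsOpenImmersion.isoOfRangeEq j (h ⁻¹ᵁ (U₀ ⊔ U₁)).ι
      (by rw [hj, Scheme.Opens.range_ι])
    let e₂ := IsOpenImmersion.isoOfRangeEq k (U₀ ⊔ U₁).ι (by rw [hk, Scheme.Opens.range_ι])
    have : h ∣_ (U₀ ⊔ U₁) = e₁.inv ≫ e₂.hom := by
      rw [← cancel_mono (U₀ ⊔ U₁).ι, morphismRestrict_ι, Category.assoc,
        IsOpenImmersion.isoOfRangeEq_hom_fac, ← hjk,
        IsOpenImmersion.isoOfRangeEq_inv_fac_assoc]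
    change IsIso (h ∣_ (U₀ ⊔ U₁))
    rw [this]
    infer_instance

end Groth.Agent.Lib.Helper9.AdmCoprod
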