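import Mathlib
import Groth.Prelude.Def_W4c6modpairsegaMP
import Groth.Agent.Lib.Helper29.IdealComap
import Groth.Agent.Lib.Helper9.AdmCoprod

set_option autoImplicit false
universe u
open CategoryTheory CategoryTheory.Limits AlgebraicGeometry TopologicalSpace

namespace Groth.Agent.Lib.Helper9.MProd

open Groth.Agent.Lib.Helper29.EffCart Groth.Agent.Lib.Helper9.AdmCoprod

variable {X Y : Scheme.{u}}

lemma interior_comap (I : Y.IdealSheafData) (f : X ⟶ Y) :
    ModPair.interior (I.comap f) = f ⁻¹ᵁ ModPair.interior I := by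
  ext x
  change x ∉ (I.comap f).support ↔ f x ∉ I.support
  rw [Scheme.IdealSheafData.support_comap]
  rfl

lemma interior_mono {I J : X.IdealSheafData} (h : I ≤ J) :
    ModPair.interior I ≤ ModPair.interior J := by
  intro x hx hx'
  exact hx (Scheme.IdealSheafData.support_antitone h hx')

/-- Locally generated by one section. -/
def IsLocPrincipal (J : X.IdealSheafData) : Prop :=
  ∀ x : X, ∃ W : X.affineOpens, x ∈ W.1 ∧ ∃ t : Γ(X, W.1), J.ideal W = Ideal.span {t}

lemma isLocPrincipal_comap (I : Y.IdealSheafData) (hI : BlowUp.IsEffCartierIdeal I) (f : X ⟶ Y) :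
    IsLocPrincipal (I.comap f) := by
  intro x
  obtain ⟨V, hxV, t, -, hV⟩ := hI (f x)
  obtain ⟨_, ⟨W, hW, rfl⟩, hxW, hWV⟩ :=
    X.isBasis_affineOpens.exists_subset_of_mem_open (show x ∈ ((f ⁻¹ᵁ V.1 : X.Opens) : Set X) from hxV)
      (f ⁻¹ᵁ V.1).isOpen
  refine ⟨⟨W, hW⟩, hxW, (f.appLE V.1 W hWV).hom t, ?_⟩
  rw [ideal_comap_eq_map I f V ⟨W, hW⟩ hWV, hV, Ideal.map_span, Set.image_singleton]

lemma isEffCartier_comap_imageι' (J : X.IdealSheafData) (hJ : IsLocPrincipal J)
    (U₀ : X.Opens) [QuasiCompact U₀.ι] (hle : U₀ ≤ ModPair.interior J) :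
    BlowUp.IsEffCartierIdeal (J.comap U₀.ι.imageι) := by
  intro y
  obtain ⟨W, hxW, t, hW⟩ := hJ (U₀.ι.imageι y)
  have hV : IsAffineOpen (U₀.ι.imageι ⁻¹ᵁ W.1) := W.2.preimage U₀.ι.imageι
  refine ⟨⟨_, hV⟩, hxW, (U₀.ι.imageι.app W.1).hom t, ?_, ?_⟩
  · rw [mem_nonZeroDivisors_iff_right]
    intro r hr
    obtain ⟨s, rfl⟩ := U₀.ι.ker.subschemeι_app_surjective W r
    have hr' : (U₀.ι.ker.subschemeι.app W.1).hom (s * t) = 0 := by rw [map_mul]; exact hr
    have h1 : s * t ∈ U₀.ι.ker.ideal W := by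
      rw [← U₀.ι.ker.ker_subschemeι_app W]; exact hr'
    rw [Scheme.Hom.ker_apply, RingHom.mem_ker, map_mul] at h1
    have hunit : IsUnit ((U₀.ι.app W.1).hom t) := by
      apply isUnit_of_basicOpen_eq
      rw [← Scheme.preimage_basicOpen]
      ext u
      constructor
      · intro h; exact X.basicOpen_le t h
      · intro h; exact (mem_interior_iff_of_span J W t hW _ h).1 (hle u.2)
    have h2 : (U₀.ι.app W.1).hom s = 0 := (hunit.mul_left_eq_zero).1 h1
    have h3 : s ∈ U₀.ι.ker.ideal W := by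
      rw [Scheme.Hom.ker_apply, RingHom.mem_ker]; exact h2
    rw [← U₀.ι.ker.ker_subschemeι_app W] at h3
    exact h3
  · rw [ideal_comap_eq_map J U₀.ι.imageι W ⟨_, hV⟩ le_rfl, hW, Ideal.map_span,
      Set.image_singleton, ← Scheme.Hom.app_eq_appLE]

/-- Restricting the scheme-theoretic closure of `f⁻¹V` over `V`. -/
lemma isIso_imageι_comp_restrict {P T : Scheme.{u}} (f : P ⟶ T) (V : T.Opens)
    (hiso : IsIso (f ∣_ V)) : IsIso (((f ⁻¹ᵁ V).ι.imageι ≫ f) ∣_ V) := by
  set U := f ⁻¹ᵁ V with hU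
  let q := U.ι.imageι ≫ f
  have hr : Set.range U.ι.toImage = ((q ⁻¹ᵁ V : U.ι.image.Opens) : Set _) := by
    ext y
    constructor
    · rintro ⟨u, rfl⟩
      change f (U.ι.imageι (U.ι.toImage u)) ∈ V
      rw [← Scheme.Hom.comp_apply U.ι.toImage U.ι.imageι, Scheme.Hom.toImage_imageι]
      exact u.2
    · intro hy
      have hy' : U.ι.imageι y ∈ U := hy
      refine ⟨⟨_, hy'⟩, ?_⟩
      apply U.ι.imageι.isEmbedding.injective
      rw [← Scheme.Hom.comp_apply, Scheme.Hom.toImage_imageι]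
      rfl
  let e := IsOpenImmersion.isoOfRangeEq U.ι.toImage (q ⁻¹ᵁ V).ι
    (by rw [hr, Scheme.Opens.range_ι])
  have : q ∣_ V = e.inv ≫ (f ∣_ V) := by
    rw [← cancel_mono V.ι, morphismRestrict_ι, Category.assoc, morphismRestrict_ι]
    have h1 : e.inv ≫ U.ι.toImage = (q ⁻¹ᵁ V).ι := IsOpenImmersion.isoOfRangeEq_inv_fac _ _ _
    calc (q ⁻¹ᵁ V).ι ≫ q = (e.inv ≫ U.ι.toImage) ≫ U.ι.imageι ≫ f := by rw [h1]
      _ = e.inv ≫ (U.ι.toImage ≫ U.ι.imageι) ≫ f := by simp only [Category.assoc]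
      _ = e.inv ≫ U.ι ≫ f := by rw [Scheme.Hom.toImage_imageι]
  change IsIso (q ∣_ V)
  rw [this]
  infer_instance


lemma isIso_snd_restrict {S T X : Scheme.{u}} (s : X ⟶ S) (g : T ⟶ S) (O : S.Opens)
    (V : T.Opens) (hVO : V ≤ g ⁻¹ᵁ O) (hiso : IsIso (s ∣_ O)) :
    IsIso (pullback.snd s g ∣_ V) := by
  let g' : (V : Scheme.{u}) ⟶ O := IsOpenImmersion.lift O.ι (V.ι ≫ g) (by
    rw [Scheme.Opens.range_ι]
    rintro _ ⟨v, rfl⟩
    exact hVO v.2)
  have hg' : g' ≫ O.ι = V.ι ≫ g := IsOpenImmersion.lift_fac _ _ _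
  have left := (isPullback_morphismRestrict (pullback.snd s g) V).flip
  have right := IsPullback.of_hasPullback s g
  have outer := left.paste_horiz right
  rw [← hg'] at outer
  have t := (isPullback_morphismRestrict s O).flip
  have := IsPullback.of_right' outer t
  exact this.isIso_snd_of_isIso

theorem main_aux {S T X : Scheme.{u}} (IS : S.IdealSheafData)
    (IT : T.IdealSheafData) (IX : X.IdealSheafData)
    (hT : BlowUp.IsEffCartierIdeal IT)
    (g : T ⟶ S) (hg : ModPair.IsAmbient IT IS g) (s : X ⟶ S) (hs : ModPair.IsAdmBlowup IX IS s)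
    (U : (pullback s g).Opens) (hU : U = pullback.snd s g ⁻¹ᵁ ModPair.interior IT) :
    BlowUp.IsEffCartierIdeal (IT.comap (U.ι.imageι ≫ pullback.snd s g)) ∧
      ModPair.IsAdmBlowup (IT.comap (U.ι.imageι ≫ pullback.snd s g)) IT
        (U.ι.imageι ≫ pullback.snd s g) ∧
      ModPair.IsAmbient (IT.comap (U.ι.imageι ≫ pullback.snd s g)) IX
        (U.ι.imageι ≫ pullback.fst s g) := by
  subst hU
  obtain ⟨hmin, hprop, hiso⟩ := hs
  have hV : ModPair.interior IT ≤ g ⁻¹ᵁ ModPair.interior IS := by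
    rw [← interior_comap]; exact interior_mono hg
  have qcV : QuasiCompact (ModPair.interior IT).ι :=
    quasiCompact_ι IT hT (ModPair.interior IT) ⊥ (by simp) disjoint_bot_right
  have qcU : QuasiCompact (pullback.snd s g ⁻¹ᵁ ModPair.interior IT).ι :=
    MorphismProperty.of_isPullback (P := @QuasiCompact)
      (isPullback_morphismRestrict (pullback.snd s g) (ModPair.interior IT)) qcV
  refine ⟨?_, ⟨rfl, ?_, ?_⟩, ?_⟩
  · rw [Scheme.IdealSheafData.comap_comp]
    exact isEffCartier_comap_imageι' _ (isLocPrincipal_comap IT hT _) _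
      (le_of_eq (interior_comap IT _).symm)
  · infer_instance
  · exact isIso_imageι_comp_restrict _ _ (isIso_snd_restrict s g _ _ hV hiso)
  · change _ ≤ _
    have hmin' : IX = IS.comap s := hmin
    rw [hmin', ← Scheme.IdealSheafData.comap_comp, Category.assoc, pullback.condition,
      ← Category.assoc, Scheme.IdealSheafData.comap_comp _ _ g]
    exact Scheme.IdealSheafData.comap_mono _ hg

theorem main {S T X : Scheme.{u}} (IS : S.IdealSheafData)
    (IT : T.IdealSheafData) (IX : X.IdealSheafData)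
    (hT : BlowUp.IsEffCartierIdeal IT)
    (g : T ⟶ S) (hg : ModPair.IsAmbient IT IS g) (s : X ⟶ S) (hs : ModPair.IsAdmBlowup IX IS s) :
    BlowUp.IsEffCartierIdeal (IT.comap (ModPair.mprodι s g IX IT ≫ pullback.snd s g)) ∧
      ModPair.IsAdmBlowup (IT.comap (ModPair.mprodι s g IX IT ≫ pullback.snd s g)) IT
        (ModPair.mprodι s g IX IT ≫ pullback.snd s g) ∧
      ModPair.IsAmbient (IT.comap (ModPair.mprodι s g IX IT ≫ pullback.snd s g)) IX
        (ModPair.mprodι s g IX IT ≫ pullback.fst s g) := by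
  have hV : ModPair.interior IT ≤ g ⁻¹ᵁ ModPair.interior IS := by
    rw [← interior_comap]; exact interior_mono hg
  have hU : ModPair.prodInterior s g IX IT = pullback.snd s g ⁻¹ᵁ ModPair.interior IT := by
    unfold ModPair.prodInterior
    rw [inf_eq_right]
    have hmin' : IX = IS.comap s := hs.1
    have : ModPair.interior IX = s ⁻¹ᵁ ModPair.interior IS := by rw [hmin', interior_comap]
    rw [this]
    intro p hp
    change s (pullback.fst s g p) ∈ ModPair.interior IS
    rw [← Scheme.Hom.comp_apply, pullback.condition, Scheme.Hom.comp_apply]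
    exact hV hp
  exact main_aux IS IT IX hT g hg s hs _ hU

end Groth.Agent.Lib.Helper9.MProd
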