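import Mathlib
import Groth.Prelude.Def_W4c6modpairsegaMP
import Groth.Agent.Lib.Helper29.BlowUpUP2
import Groth.Agent.Lib.Helper9.MProd

set_option autoImplicit false
universe u
open CategoryTheory CategoryTheory.Limits AlgebraicGeometry TopologicalSpace

namespace Groth.Agent.Lib.Helper9.MProd3

open Groth.Agent.Lib.Helper29.EffCart Groth.Agent.Lib.Helper9.AdmCoprod
  Groth.Agent.Lib.Helper9.MProd Groth.Agent.Lib.Helper9.ColonE

section Alg
variable {R : Type*} [CommRing R]

lemma eq_span_of_mul_span_eq (K : Ideal R) (k₀ e : R) (he : e ∈ nonZeroDivisors R)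
    (h : K * Ideal.span {e} = Ideal.span {k₀ * e}) : K = Ideal.span {k₀} := by
  have hc : ∀ x y : R, x * e = y * e → x = y := fun x y hxy =>
    sub_eq_zero.1 ((mem_nonZeroDivisors_iff_right.1 he) _ (by rw [sub_mul, hxy, sub_self]))
  apply le_antisymm
  · intro k hk
    have : k * e ∈ K * Ideal.span {e} := Ideal.mul_mem_mul hk (Ideal.mem_span_singleton_self e)
    rw [h, Ideal.mem_span_singleton'] at this
    obtain ⟨r, hr⟩ := this
    rw [Ideal.mem_span_singleton']
    exact ⟨r, hc _ _ (by rw [← hr]; ring)⟩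
  · rw [Ideal.span_singleton_le_iff_mem]
    have : k₀ * e ∈ K * Ideal.span {e} := h ▸ Ideal.mem_span_singleton_self _
    rw [Ideal.mem_mul_span_singleton] at this
    obtain ⟨z, hz, hze⟩ := this
    rw [← hc _ _ hze]
    exact hz

end Alg

variable {Y : Scheme.{u}}

lemma of_mul_eq (K A B E : Y.IdealSheafData) (hA : BlowUp.IsEffCartierIdeal A)
    (hB : BlowUp.IsEffCartierIdeal B) (hE : BlowUp.IsEffCartierIdeal E)
    (hAE : A ≤ E) (hBE : B ≤ E) (h : K * E = A * B) :
    BlowUp.IsEffCartierIdeal K ∧ K ≤ A ∧ K ≤ B := by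
  have loc : ∀ x : Y, ∃ W : Y.affineOpens, x ∈ W.1 ∧ ∃ a' b' e : Γ(Y, W.1),
      e ∈ nonZeroDivisors Γ(Y, W.1) ∧ a' * e ∈ nonZeroDivisors Γ(Y, W.1) ∧
      b' * e ∈ nonZeroDivisors Γ(Y, W.1) ∧ A.ideal W = Ideal.span {a' * e} ∧
      B.ideal W = Ideal.span {b' * e} ∧ E.ideal W = Ideal.span {e} := by
    intro x
    obtain ⟨W, hxW, ⟨a, ha, hI₁⟩, ⟨b, hb, hI₂⟩, ⟨e, he, hIE⟩⟩ :=
      exists_affine_principal_nzd₃ A B E hA hB hE x
    have hale : a ∈ Ideal.span {e} :=
      hIE ▸ hAE W (hI₁ ▸ Ideal.mem_span_singleton_self a)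
    have hble : b ∈ Ideal.span {e} :=
      hIE ▸ hBE W (hI₂ ▸ Ideal.mem_span_singleton_self b)
    obtain ⟨a', rfl⟩ := Ideal.mem_span_singleton'.1 hale
    obtain ⟨b', rfl⟩ := Ideal.mem_span_singleton'.1 hble
    exact ⟨W, hxW, a', b', e, he, ha, hb, hI₁, hI₂, hIE⟩
  choose W hxW a' b' e he ha hb hI₁ hI₂ hIE using loc
  have hcov : ⨆ x, (W x).1 = ⊤ := by
    rw [eq_top_iff]
    intro x _
    exact TopologicalSpace.Opens.mem_iSup.2 ⟨x, hxW x⟩
  have hK : ∀ x, K.ideal (W x) = Ideal.span {a' x * b' x * e x} := by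
    intro x
    apply eq_span_of_mul_span_eq _ _ _ (he x)
    have h1 : (K * E).ideal (W x) = (A * B).ideal (W x) := by rw [h]
    change K.ideal (W x) * E.ideal (W x) = A.ideal (W x) * B.ideal (W x) at h1
    rw [hIE, hI₁, hI₂, Ideal.span_singleton_mul_span_singleton] at h1
    rw [h1]
    congr 2
    ring
  refine ⟨?_, ?_, ?_⟩
  · intro x
    refine ⟨W x, hxW x, a' x * b' x * e x, ?_, hK x⟩
    have : a' x * b' x * e x = a' x * (b' x * e x) := by ring
    rw [this]
    exact mul_mem (nzd_of_mul_nzd _ _ (ha x)) (hb x)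
  · refine Scheme.IdealSheafData.le_of_iSup_eq_top W hcov fun x => ?_
    rw [hK, hI₁, Ideal.span_singleton_le_iff_mem, Ideal.mem_span_singleton']
    exact ⟨b' x, by ring⟩
  · refine Scheme.IdealSheafData.le_of_iSup_eq_top W hcov fun x => ?_
    rw [hK, hI₂, Ideal.span_singleton_le_iff_mem, Ideal.mem_span_singleton']
    exact ⟨a' x, by ring⟩

lemma interior_of_mul_eq (K A B E : Y.IdealSheafData) (hKA : K ≤ A) (hKB : K ≤ B)
    (h : K * E = A * B) : ModPair.interior K = ModPair.interior A ⊓ ModPair.interior B := by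
  ext x
  change x ∉ K.support ↔ x ∉ A.support ∧ x ∉ B.support
  constructor
  · intro hx
    exact ⟨fun hA => hx (Scheme.IdealSheafData.support_antitone hKA hA),
      fun hB => hx (Scheme.IdealSheafData.support_antitone hKB hB)⟩
  · rintro ⟨hA, hB⟩ hK
    have h1 : x ∈ (K * E).support := by
      rw [Scheme.IdealSheafData.support_mul]; exact Or.inl hK
    rw [h, Scheme.IdealSheafData.support_mul] at h1
    rcases h1 with h1 | h1
    · exact hA h1
    · exact hB h1

lemma quasiCompact_ι_inf {P : Scheme.{u}} (U V : P.Opens) [QuasiCompact U.ι] [QuasiCompact V.ι] :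
    QuasiCompact (U ⊓ V).ι := by
  have h1 : QuasiCompact (P.homOfLE (inf_le_left : U ⊓ V ≤ U)) :=
    MorphismProperty.of_isPullback (P := @QuasiCompact) (isPullback_opens_inf U V).flip
      inferInstance
  rw [← P.homOfLE_ι (inf_le_left : U ⊓ V ≤ U)]
  infer_instance


lemma quasiCompact_prodInterior_ι {S T X : Scheme.{u}} (J : T.IdealSheafData)
    (I : X.IdealSheafData) (hT : BlowUp.IsEffCartierIdeal J) (hX : BlowUp.IsEffCartierIdeal I)
    (f : X ⟶ S) (g : T ⟶ S) : QuasiCompact (ModPair.prodInterior f g I J).ι := by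
  have qcX : QuasiCompact (ModPair.interior I).ι :=
    quasiCompact_ι I hX (ModPair.interior I) ⊥ (by simp) disjoint_bot_right
  have qcT : QuasiCompact (ModPair.interior J).ι :=
    quasiCompact_ι J hT (ModPair.interior J) ⊥ (by simp) disjoint_bot_right
  have qc1 : QuasiCompact (pullback.fst f g ⁻¹ᵁ ModPair.interior I).ι :=
    MorphismProperty.of_isPullback (P := @QuasiCompact)
      (isPullback_morphismRestrict (pullback.fst f g) (ModPair.interior I)) qcX
  have qc2 : QuasiCompact (pullback.snd f g ⁻¹ᵁ ModPair.interior J).ι :=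
    MorphismProperty.of_isPullback (P := @QuasiCompact)
      (isPullback_morphismRestrict (pullback.snd f g) (ModPair.interior J)) qcT
  exact quasiCompact_ι_inf _ _

lemma isEffCartier_comap_mprodι_fst {S T X : Scheme.{u}} (J : T.IdealSheafData)
    (I : X.IdealSheafData) (hT : BlowUp.IsEffCartierIdeal J) (hX : BlowUp.IsEffCartierIdeal I)
    (f : X ⟶ S) (g : T ⟶ S) :
    BlowUp.IsEffCartierIdeal (I.comap (ModPair.mprodι f g I J ≫ pullback.fst f g)) := by
  have := quasiCompact_prodInterior_ι J I hT hX f g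
  rw [Scheme.IdealSheafData.comap_comp]
  refine isEffCartier_comap_imageι' _ (isLocPrincipal_comap I hX _) _ ?_
  rw [interior_comap]
  exact inf_le_left

lemma isEffCartier_comap_mprodι_snd {S T X : Scheme.{u}} (J : T.IdealSheafData)
    (I : X.IdealSheafData) (hT : BlowUp.IsEffCartierIdeal J) (hX : BlowUp.IsEffCartierIdeal I)
    (f : X ⟶ S) (g : T ⟶ S) :
    BlowUp.IsEffCartierIdeal (J.comap (ModPair.mprodι f g I J ≫ pullback.snd f g)) := by
  have := quasiCompact_prodInterior_ι J I hT hX f g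
  rw [Scheme.IdealSheafData.comap_comp]
  refine isEffCartier_comap_imageι' _ (isLocPrincipal_comap J hT _) _ ?_
  rw [interior_comap]
  exact inf_le_right

theorem main {S T X Y : Scheme.{u}}
    (J : T.IdealSheafData) (I : X.IdealSheafData)
    (hT : BlowUp.IsEffCartierIdeal J) (hX : BlowUp.IsEffCartierIdeal I)
    (f : X ⟶ S) (g : T ⟶ S)
    (π : Y ⟶ ModPair.mprod f g I J) (K : Y.IdealSheafData) (hY : ModPair.IsAmbProd f g I J π K) :
    BlowUp.IsEffCartierIdeal K ∧
      ModPair.IsAmbient K I (π ≫ ModPair.mprodι f g I J ≫ pullback.fst f g) ∧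
      ModPair.IsAmbient K J (π ≫ ModPair.mprodι f g I J ≫ pullback.snd f g) ∧
      ModPair.interior K = (π ≫ ModPair.mprodι f g I J) ⁻¹ᵁ ModPair.prodInterior f g I J := by
  obtain ⟨hbl, hK⟩ := hY
  have hA₀ := isEffCartier_comap_mprodι_fst J I hT hX f g
  have hB₀ := isEffCartier_comap_mprodι_snd J I hT hX f g
  have hA := Groth.Agent.Lib.Helper29.EffCart.IsBlowUp.isEffCartierIdeal_comap hbl _ hA₀
  have hB := Groth.Agent.Lib.Helper29.EffCart.IsBlowUp.isEffCartierIdeal_comap hbl _ hB₀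
  have hE := hbl.1
  have hAE : (I.comap (ModPair.mprodι f g I J ≫ pullback.fst f g)).comap π ≤
      (ModPair.prodCentre f g I J).comap π :=
    Scheme.IdealSheafData.comap_mono _ le_sup_left
  have hBE : (J.comap (ModPair.mprodι f g I J ≫ pullback.snd f g)).comap π ≤
      (ModPair.prodCentre f g I J).comap π :=
    Scheme.IdealSheafData.comap_mono _ le_sup_right
  obtain ⟨h1, h2, h3⟩ := of_mul_eq K _ _ _ hA hB hE hAE hBE hK
  refine ⟨h1, ?_, ?_, ?_⟩
  · change _ ≤ _
    rw [Scheme.IdealSheafData.comap_comp]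
    exact h2
  · change _ ≤ _
    rw [Scheme.IdealSheafData.comap_comp]
    exact h3
  · rw [interior_of_mul_eq K _ _ _ h2 h3 hK, interior_comap, interior_comap, interior_comap,
      interior_comap]
    rfl

end Groth.Agent.Lib.Helper9.MProd3
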