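import Mathlib
import Groth.Prelude.Def_W4c6modpairsegaMP
import Groth.Agent.Lib.Helper29.BlowUpUP2
import Groth.Agent.Lib.Helper9.MProd3

set_option autoImplicit false
universe u
open CategoryTheory CategoryTheory.Limits AlgebraicGeometry TopologicalSpace

namespace Groth.Agent.Lib.Helper9.MProd4

open Groth.Agent.Lib.Helper29.EffCart Groth.Agent.Lib.Helper9.AdmCoprod
  Groth.Agent.Lib.Helper9.MProd Groth.Agent.Lib.Helper9.ColonE

variable {Y : Scheme.{u}}

lemma isEffCartier_of_le (J K : Y.IdealSheafData) (hJ : BlowUp.IsEffCartierIdeal J)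
    (hK : IsLocPrincipal K) (hle : J ≤ K) : BlowUp.IsEffCartierIdeal K := by
  intro x
  obtain ⟨W₁, hxW₁, t₁, ht₁, hI₁⟩ := hJ x
  obtain ⟨W₂, hxW₂, t₂, hI₂⟩ := hK x
  obtain ⟨f, g, hfg, hxf⟩ := exists_basicOpen_le_affine_inter W₁.2 W₂.2 x ⟨hxW₁, hxW₂⟩
  obtain ⟨t₁', ht₁', hI₁'⟩ := principal_nzd_basicOpen J W₁ t₁ ht₁ hI₁ f
  have p₂ : ∃ t₂' : Γ(Y, (Y.affineBasicOpen g).1),
      K.ideal (Y.affineBasicOpen g) = Ideal.span {t₂'} := by
    refine ⟨(Y.presheaf.map (homOfLE (Y.basicOpen_le g)).op).hom t₂, ?_⟩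
    rw [← K.map_ideal_basicOpen W₂ g, hI₂, Ideal.map_span, Set.image_singleton]
    rfl
  have heq : Y.affineBasicOpen f = Y.affineBasicOpen g := Subtype.ext hfg
  rw [← heq] at p₂
  obtain ⟨t₂', hI₂'⟩ := p₂
  have key : ∀ (V : Y.affineOpens) (a b : Γ(Y, V.1)), a ∈ nonZeroDivisors Γ(Y, V.1) →
      J.ideal V = Ideal.span {a} → K.ideal V = Ideal.span {b} →
      b ∈ nonZeroDivisors Γ(Y, V.1) := by
    intro V a b ha hJV hKV
    have : a ∈ Ideal.span {b} := hKV ▸ hle V (hJV ▸ Ideal.mem_span_singleton_self a)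
    obtain ⟨c, rfl⟩ := Ideal.mem_span_singleton'.1 this
    rw [mem_nonZeroDivisors_iff_right] at ha ⊢
    intro r hr
    apply ha
    rw [mul_comm c b, ← mul_assoc, hr, zero_mul]
  exact ⟨Y.affineBasicOpen f, hxf, t₂', key _ t₁' t₂' ht₁' hI₁' hI₂', hI₂'⟩

lemma interior_mul (A B : Y.IdealSheafData) :
    ModPair.interior (A * B) = ModPair.interior A ⊓ ModPair.interior B := by
  ext x
  change x ∉ (A * B).support ↔ x ∉ A.support ∧ x ∉ B.support
  rw [Scheme.IdealSheafData.support_mul]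
  change ¬ (x ∈ A.support ∨ x ∈ B.support) ↔ _
  exact not_or

lemma ker_ι_eq_bot_of_eq_interior (D : Y.IdealSheafData) (hD : BlowUp.IsEffCartierIdeal D)
    (U : Y.Opens) (hU : U = ModPair.interior D) : U.ι.ker = ⊥ := by
  subst hU
  exact ker_ι_compl_support_eq_bot D hD

theorem main19341 {X T S : Scheme.{u}}
    (IS : S.IdealSheafData) (IX : X.IdealSheafData) (IT : T.IdealSheafData)
    (hS : BlowUp.IsEffCartierIdeal IS)
    (f : X ⟶ S) (g : T ⟶ S)
    (hf : ModPair.IsAmbient IX IS f)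
    (h₁ : BlowUp.IsEffCartierIdeal (IX.comap (pullback.fst f g)))
    (h₂ : BlowUp.IsEffCartierIdeal (IT.comap (pullback.snd f g))) :
    BlowUp.IsEffCartierIdeal (IS.comap (pullback.fst f g ≫ f)) ∧
      IsIso (ModPair.mprodι f g IX IT) := by
  constructor
  · refine isEffCartier_of_le _ _ h₁ (isLocPrincipal_comap IS hS _) ?_
    rw [Scheme.IdealSheafData.comap_comp]
    exact Scheme.IdealSheafData.comap_mono _ hf
  · rw [Scheme.isIso_subschemeι_iff_eq_bot]
    refine ker_ι_eq_bot_of_eq_interior _ (isEffCartierIdeal_mul _ _ h₁ h₂) _ ?_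
    rw [interior_mul, interior_comap, interior_comap]
    rfl

theorem main18743 {S T X : Scheme.{u}} (IS : S.IdealSheafData)
    (IT : T.IdealSheafData) (IX : X.IdealSheafData)
    (hX : BlowUp.IsEffCartierIdeal IX)
    (p : X ⟶ S) (hp : ModPair.IsAmbient IX IS p) (f : T ⟶ S) (hf : ModPair.IsMinimal IT IS f)
    [Flat f] :
    IsSchemeTheoreticallyDominant (ModPair.prodInterior p f IX IT).ι ∧
      IsIso (ModPair.mprodι p f IX IT) ∧
      BlowUp.IsEffCartierIdeal (IX.comap (pullback.fst p f)) := by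
  have h3 : BlowUp.IsEffCartierIdeal (IX.comap (pullback.fst p f)) :=
    isEffCartierIdeal_comap_of_flat _ IX hX
  have hV : ModPair.interior IX ≤ p ⁻¹ᵁ ModPair.interior IS := by
    rw [← interior_comap]; exact interior_mono hp
  have hU : ModPair.prodInterior p f IX IT = ModPair.interior (IX.comap (pullback.fst p f)) := by
    rw [interior_comap]
    unfold ModPair.prodInterior
    rw [inf_eq_left]
    have hf' : IT = IS.comap f := hf
    have : ModPair.interior IT = f ⁻¹ᵁ ModPair.interior IS := by rw [hf', interior_comap]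
    rw [this]
    intro q hq
    change f (pullback.snd p f q) ∈ ModPair.interior IS
    rw [← Scheme.Hom.comp_apply, ← pullback.condition, Scheme.Hom.comp_apply]
    exact hV hq
  have hker := ker_ι_eq_bot_of_eq_interior _ h3 _ hU
  refine ⟨⟨hker⟩, ?_, h3⟩
  rw [Scheme.isIso_subschemeι_iff_eq_bot]
  exact hker

end Groth.Agent.Lib.Helper9.MProd4
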