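import Mathlib.RingTheory.Valuation.LocalSubring
import Mathlib.RingTheory.Ideal.MinimalPrime.Localization
import Mathlib.RingTheory.Localization.AtPrime.Basic
import Mathlib.RingTheory.Localization.FractionRing

namespace Groth.Agent.Lib.Helper9.ValData

universe u

open IsLocalRing

/-- the multiplicative set `(B ∖ 𝔭)·f^ℕ`. -/
def mulSet {B : Type u} [CommRing B] (𝔭 : Ideal B) [𝔭.IsPrime] (f : B) : Submonoid B where
  carrier := {x | ∃ s, s ∉ 𝔭 ∧ ∃ n : ℕ, x = s * f ^ n}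
  one_mem' := ⟨1, (Ideal.ne_top_iff_one 𝔭).mp (Ideal.IsPrime.ne_top inferInstance), 0, by simp⟩
  mul_mem' := by
    rintro _ _ ⟨s, hs, n, rfl⟩ ⟨t, ht, m, rfl⟩
    refine ⟨s * t, fun h => ?_, n + m, by ring⟩
    rcases Ideal.IsPrime.mem_or_mem inferInstance h with h | h
    · exact hs h
    · exact ht h

theorem exists_maximal_prime {B : Type u} [CommRing B] (𝔭 : Ideal B) [𝔭.IsPrime] (f : B)
    (hf : f ∈ nonZeroDivisors B) :
    ∃ 𝔮 : Ideal B, 𝔮.IsPrime ∧ 𝔮 ≤ 𝔭 ∧ f ∉ 𝔮 ∧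
      ∀ 𝔮' : Ideal B, 𝔮'.IsPrime → 𝔮 ≤ 𝔮' → 𝔮' ≤ 𝔭 → f ∉ 𝔮' → 𝔮' = 𝔮 := by
  let M := mulSet 𝔭 f
  have h0 : Disjoint ((⊥ : Ideal B) : Set B) M := by
    rw [Set.disjoint_left]
    rintro x (hx : x ∈ (⊥ : Ideal B)) ⟨s, hs, n, hxs⟩
    rw [Ideal.mem_bot] at hx
    have hfn : f ^ n ∈ nonZeroDivisors B := pow_mem hf n
    have : s = 0 := (mem_nonZeroDivisors_iff_right.mp hfn) s (by rw [← hxs, hx])
    exact hs (this ▸ Ideal.zero_mem _)
  obtain ⟨𝔮, -, hq⟩ := zorn_le_nonempty₀ {p : Ideal B | Disjoint (p : Set B) M}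
    (fun c hc hc' x hx ↦ by
      have : Nonempty c := ⟨⟨x, hx⟩⟩
      refine ⟨sSup c, Set.disjoint_left.mpr fun y hy ↦ ?_, fun _ ↦ le_sSup⟩
      have ⟨p, hp⟩ := (Submodule.mem_iSup_of_directed _ hc'.directed).mp (sSup_eq_iSup' c ▸ hy)
      exact Set.disjoint_left.mp (hc p.2) hp) ⊥ h0
  have hdis : Disjoint (𝔮 : Set B) M := hq.1
  have hprime : 𝔮.IsPrime :=
    Ideal.isPrime_of_maximally_disjoint _ _ hq.1 (fun _ ↦ hq.not_prop_of_gt)
  rw [Set.disjoint_left] at hdis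
  refine ⟨𝔮, hprime, ?_, ?_, ?_⟩
  · intro b hb
    by_contra hbp
    exact hdis hb ⟨b, hbp, 0, by simp⟩
  · intro hfq
    exact hdis hfq ⟨1, (Ideal.ne_top_iff_one 𝔭).mp (Ideal.IsPrime.ne_top inferInstance), 1,
      by simp⟩
  · intro 𝔮' h𝔮' hle hle' hf'
    refine (hq.eq_of_ge ?_ hle)
    change Disjoint (𝔮' : Set B) M
    rw [Set.disjoint_left]
    rintro x hx ⟨s, hs, n, rfl⟩
    rcases h𝔮'.mem_or_mem hx with h | h
    · exact hs (hle' h)
    · exact hf' (h𝔮'.mem_of_pow_mem n h)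

theorem exists_valuationRing_data (B : Type u) [CommRing B] (𝔭 : Ideal B) [𝔭.IsPrime] (f : B)
    (hf : f ∈ nonZeroDivisors B) :
    ∃ (R : Type u) (_ : CommRing R) (_ : IsDomain R) (_ : ValuationRing R) (φ : B →+* R),
      φ f ≠ 0 ∧ (∀ b ∈ 𝔭, φ b ∈ maximalIdeal R) ∧
        ∀ P : Ideal R, P.IsPrime → φ f ∉ P → P = ⊥ := by
  obtain ⟨𝔮, h𝔮, hle, hfq, hmax⟩ := exists_maximal_prime 𝔭 f hf
  let K := FractionRing (B ⧸ 𝔮)
  let g : B →+* K := (algebraMap (B ⧸ 𝔮) K).comp (Ideal.Quotient.mk 𝔮)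
  have hg0 : ∀ b, g b = 0 ↔ b ∈ 𝔮 := by
    intro b
    change algebraMap (B ⧸ 𝔮) K (Ideal.Quotient.mk 𝔮 b) = 0 ↔ _
    rw [map_eq_zero_iff _ (IsFractionRing.injective (B ⧸ 𝔮) K), Ideal.Quotient.eq_zero_iff_mem]
  let ψ : Localization.AtPrime 𝔭 →+* K := IsLocalization.lift (M := 𝔭.primeCompl) (g := g)
    (fun y => IsUnit.mk0 _ (fun h => y.2 (hle ((hg0 _).mp h))))
  have hψ : ∀ b, ψ (algebraMap B (Localization.AtPrime 𝔭) b) = g b := fun b =>
    IsLocalization.lift_eq _ b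
  obtain ⟨A, hA, hloc⟩ := IsLocalRing.exists_factor_valuationRing ψ
  let φ : B →+* A := (ψ.codRestrict A.toSubring hA).comp (algebraMap B (Localization.AtPrime 𝔭))
  have hφ : ∀ b, ((φ b : A) : K) = g b := fun b => hψ b
  have hφ0 : ∀ b, φ b = 0 ↔ b ∈ 𝔮 := by
    intro b
    rw [← hg0, ← hφ]
    exact ⟨fun h => by rw [h]; rfl, fun h => Subtype.ext h⟩
  refine ⟨A, inferInstance, inferInstance, inferInstance, φ, ?_, ?_, ?_⟩
  · intro h
    exact hfq ((hφ0 f).mp h)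
  · intro b hb
    rw [mem_maximalIdeal, mem_nonunits_iff]
    intro hu
    have h1 : IsUnit (algebraMap B (Localization.AtPrime 𝔭) b) :=
      (isUnit_map_iff (ψ.codRestrict A.toSubring hA) _).mp hu
    have h2 := (IsLocalization.AtPrime.isUnit_to_map_iff (Localization.AtPrime 𝔭) 𝔭 b).mp h1
    exact h2 hb
  · intro P hP hfP
    have hq' : P.comap φ = 𝔮 := by
      apply hmax (P.comap φ) (Ideal.comap_isPrime φ P)
      · intro b hb
        rw [Ideal.mem_comap, (hφ0 b).mpr hb]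
        exact Ideal.zero_mem _
      · intro b hb
        by_contra hbp
        have h1 : IsUnit (algebraMap B (Localization.AtPrime 𝔭) b) :=
          (IsLocalization.AtPrime.isUnit_to_map_iff (Localization.AtPrime 𝔭) 𝔭 b).mpr hbp
        have h2 : IsUnit (φ b) := h1.map (ψ.codRestrict A.toSubring hA)
        exact hP.ne_top (Ideal.eq_top_of_isUnit_mem _ (Ideal.mem_comap.mp hb) h2)
      · exact hfP
    rw [eq_bot_iff]
    intro r hr
    rw [Ideal.mem_bot]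
    by_contra hr0
    obtain ⟨a, b, hb, hab⟩ := IsFractionRing.div_surjective (A := B ⧸ 𝔮) ((r : A) : K)
    obtain ⟨a', rfl⟩ := Ideal.Quotient.mk_surjective a
    obtain ⟨b', rfl⟩ := Ideal.Quotient.mk_surjective b
    have hb0 : g b' ≠ 0 := by
      intro h
      rw [hg0] at h
      exact (nonZeroDivisors.ne_zero hb) (Ideal.Quotient.eq_zero_iff_mem.mpr h)
    have h1 : r * φ b' = φ a' := by
      apply Subtype.ext
      change (r : K) * ((φ b' : A) : K) = ((φ a' : A) : K)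
      rw [hφ, hφ, ← hab]
      change _ / g b' * g b' = g a'
      rw [div_mul_cancel₀ _ hb0]
      rfl
    have h2 : a' ∈ P.comap φ := by
      rw [Ideal.mem_comap, ← h1]
      exact Ideal.mul_mem_right _ _ hr
    rw [hq', ← hφ0] at h2
    rw [h2] at h1
    rcases mul_eq_zero.mp h1 with h | h
    · exact hr0 h
    · exact hb0 (by rw [← hφ, h]; rfl)

end Groth.Agent.Lib.Helper9.ValData
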