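import Mathlib
import Groth.Prelude.Def_W4c6modpairsegaMP
import Groth.Agent.Lib.Helper29.EffCart3
import Groth.Agent.Lib.Helper9.ValData
import Groth.Agent.Lib.Helper9.MProd4

set_option autoImplicit false
universe u
open CategoryTheory CategoryTheory.Limits AlgebraicGeometry TopologicalSpace

namespace Groth.Agent.Lib.Helper9.ClosedCov

open Groth.Agent.Lib.Helper29.EffCart Groth.Agent.Lib.Helper9.AdmCoprod
  Groth.Agent.Lib.Helper9.MProd Groth.Agent.Lib.Helper9.ColonE

variable {S : Scheme.{u}}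

lemma exists_specializes_interior (I : S.IdealSheafData) (hI : BlowUp.IsEffCartierIdeal I)
    (s : S) : ∃ u ∈ ModPair.interior I, u ⤳ s := by
  obtain ⟨W, hsW, t, ht, hW⟩ := hI s
  let 𝔭 := W.2.primeIdealOf ⟨s, hsW⟩
  obtain ⟨𝔮, h𝔮, hle, hnot, -⟩ :=
    Groth.Agent.Lib.Helper9.ValData.exists_maximal_prime 𝔭.asIdeal t ht
  refine ⟨W.2.fromSpec ⟨𝔮, h𝔮⟩, ?_, ?_⟩
  · rw [mem_interior_iff_of_span I W t hW _ (fromSpec_mem W _)]
    exact (fromSpec_mem_basicOpen_iff W ⟨𝔮, h𝔮⟩ t).2 hnot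
  · have h1 : (⟨𝔮, h𝔮⟩ : PrimeSpectrum Γ(S, W.1)) ⤳ 𝔭 :=
      (PrimeSpectrum.le_iff_specializes _ _).1 hle
    have h2 := h1.map W.2.fromSpec.continuous
    rwa [W.2.fromSpec_primeIdealOf] at h2

lemma isEffCartier_comap_imageι_gen {V : Scheme.{u}} (J : S.IdealSheafData)
    (hJ : IsLocPrincipal J) (φ : V ⟶ S) [QuasiCompact φ]
    (hr : ∀ v, φ v ∈ ModPair.interior J) :
    BlowUp.IsEffCartierIdeal (J.comap φ.imageι) := by
  intro y
  obtain ⟨W, hxW, t, hW⟩ := hJ (φ.imageι y)
  have hV : IsAffineOpen (φ.imageι ⁻¹ᵁ W.1) := W.2.preimage φ.imageι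
  refine ⟨⟨_, hV⟩, hxW, (φ.imageι.app W.1).hom t, ?_, ?_⟩
  · rw [mem_nonZeroDivisors_iff_right]
    intro r hr'
    obtain ⟨s, rfl⟩ := φ.ker.subschemeι_app_surjective W r
    have hr'' : (φ.ker.subschemeι.app W.1).hom (s * t) = 0 := by rw [map_mul]; exact hr'
    have h1 : s * t ∈ φ.ker.ideal W := by
      rw [← φ.ker.ker_subschemeι_app W]; exact hr''
    rw [Scheme.Hom.ker_apply, RingHom.mem_ker, map_mul] at h1
    have hunit : IsUnit ((φ.app W.1).hom t) := by
      apply isUnit_of_basicOpen_eq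
      rw [← Scheme.preimage_basicOpen]
      ext v
      constructor
      · intro h; exact S.basicOpen_le t h
      · intro h; exact (mem_interior_iff_of_span J W t hW _ h).1 (hr v)
    have h2 : (φ.app W.1).hom s = 0 := (hunit.mul_left_eq_zero).1 h1
    have h3 : s ∈ φ.ker.ideal W := by
      rw [Scheme.Hom.ker_apply, RingHom.mem_ker]; exact h2
    rw [← φ.ker.ker_subschemeι_app W] at h3
    exact h3
  · rw [ideal_comap_eq_map J φ.imageι W ⟨_, hV⟩ le_rfl, hW, Ideal.map_span,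
      Set.image_singleton, ← Scheme.Hom.app_eq_appLE]


lemma toImage_isOpenImmersion {V : Scheme.{u}} (O : S.Opens) (g : V ⟶ O) [IsClosedImmersion g]
    [QuasiCompact O.ι] :
    IsOpenImmersion (g ≫ O.ι).toImage ∧
      Set.range (g ≫ O.ι).toImage = (g ≫ O.ι).imageι ⁻¹' (O : Set S) := by
  set φ := g ≫ O.ι with hφ
  set Z' : φ.image.Opens := φ.imageι ⁻¹ᵁ O with hZ'
  have hrange : Set.range φ.toImage ⊆ Set.range Z'.ι := by
    rw [Scheme.Opens.range_ι]
    rintro _ ⟨v, rfl⟩
    change φ.imageι (φ.toImage v) ∈ O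
    rw [← Scheme.Hom.comp_apply φ.toImage φ.imageι, Scheme.Hom.toImage_imageι]
    exact (g v).2
  let τ' : V ⟶ Z' := IsOpenImmersion.lift Z'.ι φ.toImage hrange
  have hτ' : τ' ≫ Z'.ι = φ.toImage := IsOpenImmersion.lift_fac _ _ _
  have hcl : IsClosedImmersion (φ.imageι ∣_ O) :=
    MorphismProperty.of_isPullback (P := @IsClosedImmersion)
      (isPullback_morphismRestrict φ.imageι O).flip inferInstance
  have h : τ' ≫ (φ.imageι ∣_ O) = g := by
    rw [← cancel_mono O.ι, Category.assoc, morphismRestrict_ι, ← Category.assoc, hτ',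
      Scheme.Hom.toImage_imageι]
  have H1 : IsPullback g (𝟙 V) O.ι φ := IsPullback.of_vert_isIso_mono ⟨by simp [hφ]⟩
  have H2 := isPullback_morphismRestrict φ.imageι O
  have h' : g.ker = (φ.imageι ∣_ O).ker := by
    ext W : 2
    rw [Scheme.ker_ideal_of_isPullback_of_isOpenImmersion φ g (𝟙 V) O.ι H1 W,
      Scheme.ker_ideal_of_isPullback_of_isOpenImmersion φ.imageι _ _ O.ι H2 W,
      Scheme.IdealSheafData.ker_subschemeι]
  have hiso : IsIso τ' := IsClosedImmersion.isIso_of_ker_eq g (φ.imageι ∣_ O) τ' h h'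
  constructor
  · rw [← hτ']
    infer_instance
  · rw [← hτ', Scheme.Hom.comp_base, TopCat.coe_comp, Set.range_comp,
      Set.range_eq_univ.2 (ConcreteCategory.bijective_of_isIso τ'.base).2, Set.image_univ,
      Scheme.Opens.range_ι]
    rfl


theorem main (I : S.IdealSheafData)
    (hI : BlowUp.IsEffCartierIdeal I) {ι : Type u} (V : ι → Scheme.{u})
    (g : ∀ i, V i ⟶ (ModPair.interior I : Scheme.{u})) [∀ i, IsClosedImmersion (g i)]
    (hsurj : ∀ u : (ModPair.interior I : Scheme.{u}), ∃ (i : ι) (v : V i), (g i).base v = u) :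
    (∀ s : S, ∃ (i : ι) (v : (g i ≫ (ModPair.interior I).ι).image),
        (g i ≫ (ModPair.interior I).ι).imageι.base v = s) ∧
      (∀ i, BlowUp.IsEffCartierIdeal (I.comap (g i ≫ (ModPair.interior I).ι).imageι)) ∧
      ∀ i, IsOpenImmersion (g i ≫ (ModPair.interior I).ι).toImage ∧
        Set.range (g i ≫ (ModPair.interior I).ι).toImage.base =
          (g i ≫ (ModPair.interior I).ι).imageι.base ⁻¹' (ModPair.interior I : Set S) := by
  have qc : QuasiCompact (ModPair.interior I).ι :=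
    quasiCompact_ι I hI (ModPair.interior I) ⊥ (by simp) disjoint_bot_right
  refine ⟨?_, ?_, ?_⟩
  · intro s
    obtain ⟨u, hu, hus⟩ := exists_specializes_interior I hI s
    obtain ⟨i, v, hv⟩ := hsurj ⟨u, hu⟩
    have h1 : s ∈ closure (Set.range (g i ≫ (ModPair.interior I).ι)) := by
      refine closure_mono ?_ (specializes_iff_mem_closure.1 hus)
      intro x (hx : x = u)
      rw [hx]
      refine ⟨v, ?_⟩
      rw [Scheme.Hom.comp_apply]
      change ((g i).base v).1 = u
      rw [hv]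
    rw [← Scheme.Hom.support_ker, ← Scheme.IdealSheafData.range_subschemeι] at h1
    obtain ⟨z, hz⟩ := h1
    exact ⟨i, z, hz⟩
  · intro i
    refine isEffCartier_comap_imageι_gen I (fun x => ?_) _ ?_
    · obtain ⟨W, hxW, t, -, hW⟩ := hI x
      exact ⟨W, hxW, t, hW⟩
    · intro v
      rw [Scheme.Hom.comp_apply]
      exact ((g i) v).2
  · intro i
    exact toImage_isOpenImmersion (ModPair.interior I) (g i)

end Groth.Agent.Lib.Helper9.ClosedCov
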