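import Groth.Agent.Lib.Helper9.LimClosed3

set_option autoImplicit false
universe u
open CategoryTheory CategoryTheory.Limits AlgebraicGeometry TopologicalSpace

namespace Groth.Agent.Lib.Helper9.LimClosed

section algebra

/-- a finite algebra over an algebra generated by finitely many elements with integral images
is finite over the base -/
theorem finite_of_integral_gens {A B C : Type*} [CommRing A] [CommRing B] [CommRing C]
    [Algebra A B] [Algebra B C] [Algebra A C] [IsScalarTower A B C] [Module.Finite B C]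
    (G : Set B) (hGf : G.Finite) (hG : Algebra.adjoin A G = ⊤)
    (hint : ∀ x ∈ G, IsIntegral A (algebraMap B C x)) : Module.Finite A C := by
  classical
  let φ : B →ₐ[A] C := IsScalarTower.toAlgHom A B C
  let B' : Subalgebra A C := Algebra.adjoin A (φ '' G)
  have hB'fin : Module.Finite A B' :=
    Algebra.finite_adjoin_of_finite_of_isIntegral (hGf.image _)
      (by rintro _ ⟨x, hx, rfl⟩; exact hint x hx)
  have hrange : ∀ b : B, algebraMap B C b ∈ B' := by
    intro b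
    have hb : b ∈ Algebra.adjoin A G := by rw [hG]; trivial
    have : φ b ∈ (Algebra.adjoin A G).map φ := ⟨b, hb, rfl⟩
    rw [AlgHom.map_adjoin] at this
    exact this
  have hfin : Module.Finite B' C := by
    obtain ⟨T, hT⟩ := (Module.Finite.fg_top : (⊤ : Submodule B C).FG)
    refine ⟨⟨T, ?_⟩⟩
    rw [eq_top_iff]
    intro c hc0
    have hc : c ∈ Submodule.span B (T : Set C) := by rw [hT]; trivial
    clear hc0
    induction hc using Submodule.span_induction with
    | mem x hx => exact Submodule.subset_span hx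
    | zero => exact Submodule.zero_mem _
    | add x y _ _ hx hy => exact Submodule.add_mem _ hx hy
    | smul b x _ hx =>
      have : b • x = (⟨algebraMap B C b, hrange b⟩ : B') • x := by
        rw [Algebra.smul_def]; rfl
      rw [this]
      exact Submodule.smul_mem _ _ hx
  exact Module.Finite.trans B' C

end algebra

lemma finite_appTop_morphismRestrict {X Y : Scheme.{u}} (g : Y ⟶ X) (W : X.Opens)
    (hf : (g.app W).hom.Finite) : ((g ∣_ W).appTop).hom.Finite := by
  rw [← Scheme.Hom.resLE_eq_morphismRestrict, Scheme.Hom.appTop, Scheme.Hom.resLE_app_top,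
    Scheme.Hom.appLE_eq_app]
  simp only [CommRingCat.hom_comp]
  refine RingHom.Finite.comp (RingHom.Finite.comp ?_ hf) ?_
  · exact RingHom.Finite.of_surjective _
      (ConcreteCategory.bijective_of_isIso (g ⁻¹ᵁ W).topIso.inv).2
  · exact RingHom.Finite.of_surjective _
      (ConcreteCategory.bijective_of_isIso W.topIso.hom).2

variable {I : Type u} [SmallCategory I] [IsCofiltered I] (D : I ⥤ Scheme.{u})
  (c : Cone D) (hc : IsLimit c) [∀ {i j : I} (f : i ⟶ j), IsAffineHom (D.map f)]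
  {S : Scheme.{u}} (t : D ⟶ (Functor.const I).obj S)

include hc in
lemma exists_finite_app_t [∀ {i j : I} (f : i ⟶ j), IsFinite (D.map f)]
    (j₀ : I) [IsAffineHom (t.app j₀)] [LocallyOfFiniteType (t.app j₀)]
    [IsIntegralHom (c.π.app j₀ ≫ t.app j₀)] (V : S.Opens) (hV : IsAffineOpen V) :
    ∃ (l : I) (_ : l ⟶ j₀), ∀ (k : I) (_ : k ⟶ l), ((t.app k).app V).hom.Finite := by
  classical
  set W : (D.obj j₀).Opens := t.app j₀ ⁻¹ᵁ V with hWdef
  have hW : IsAffineOpen W := hV.preimage (t.app j₀)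
  have hft := HasRingHomProperty.appLE (P := @LocallyOfFiniteType)
    (t.app j₀) inferInstance ⟨V, hV⟩ ⟨W, hW⟩ le_rfl
  set α := (t.app j₀).appLE V W le_rfl with hα
  letI : Algebra Γ(S, V) Γ(D.obj j₀, W) := α.hom.toAlgebra
  have hft' : Algebra.FiniteType Γ(S, V) Γ(D.obj j₀, W) := hft
  obtain ⟨G, hG⟩ := (Algebra.FiniteType.out : (⊤ : Subalgebra Γ(S, V) Γ(D.obj j₀, W)).FG)
  have hstage : ∀ x : Γ(D.obj j₀, W), ∃ (p : Polynomial Γ(S, V)) (_ : p.Monic) (k : I)
      (f : k ⟶ j₀), (D.map f).app W (p.eval₂ α.hom x) = 0 := by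
    intro x
    obtain ⟨p, hp, hpx⟩ := (c.π.app j₀ ≫ t.app j₀).isIntegral_app V hV ((c.π.app j₀).app W x)
    have h1 : (c.π.app j₀ ≫ t.app j₀).app V = (t.app j₀).app V ≫ (c.π.app j₀).app W :=
      Scheme.Hom.comp_app _ _ _
    have h2 : ((c.π.app j₀).app W).hom (p.eval₂ α.hom x) = 0 := by
      rw [Polynomial.hom_eval₂]
      rw [h1] at hpx
      rw [hα, Scheme.Hom.appLE_eq_app]
      exact hpx
    obtain ⟨k, f, hk⟩ := exists_app_map_eq_zero_of_isLimit D c hc hW.isCompact _ h2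
    exact ⟨p, hp, k, f, hk⟩
  choose px hpx kx fx hx using hstage
  obtain ⟨l, v, w, hw⟩ := IsCofiltered.wideCospan (I := ↥G) (fun x => fx x.1)
  refine ⟨l, v, fun k r => ?_⟩
  set O : (D.obj k).Opens := D.map (r ≫ v) ⁻¹ᵁ W with hO
  have hOV : O = t.app k ⁻¹ᵁ V := by
    rw [hO, hWdef, ← Scheme.Hom.comp_preimage, t_naturality]
  rw [Scheme.Hom.app_eq_appLE]
  refine (Scheme.Hom.appLE_congr (t.app k) (U := V) (V := O) hOV.le rfl hOV
    (fun φ => φ.hom.Finite)).1 ?_
  set ρ := (t.app k).appLE V O hOV.le with hρ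
  set σ := (D.map (r ≫ v)).appLE W O le_rfl with hσ
  have hσf : σ.hom.Finite := by
    rw [hσ, Scheme.Hom.appLE_eq_app]
    exact (D.map (r ≫ v)).finite_app W hW
  have h1 : α ≫ σ = ρ := by
    rw [hα, hσ, Scheme.Hom.appLE_comp_appLE, hρ]
    exact appLE_congr_hom (t_naturality D t (r ≫ v)) _ _ _
  have h2 : ∀ x ∈ G, σ.hom ((px x).eval₂ α.hom x) = 0 := by
    intro x hxG
    have hcomp : D.map (r ≫ w ⟨x, hxG⟩) ≫ D.map (fx x) = D.map (r ≫ v) := by
      rw [← D.map_comp, Category.assoc, hw ⟨x, hxG⟩]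
    have hle : O ≤ D.map (r ≫ w ⟨x, hxG⟩) ⁻¹ᵁ (D.map (fx x) ⁻¹ᵁ W) := by
      change O ≤ (D.map (r ≫ w ⟨x, hxG⟩) ≫ D.map (fx x)) ⁻¹ᵁ W
      rw [hcomp]
    have h4 : (D.map (r ≫ w ⟨x, hxG⟩) ≫ D.map (fx x)).appLE W O
        (by rw [hcomp]) = σ := by
      rw [hσ]
      exact appLE_congr_hom hcomp _ _ _
    have key : ∀ y : Γ(D.obj j₀, W),
        ((D.map (r ≫ w ⟨x, hxG⟩)).appLE (D.map (fx x) ⁻¹ᵁ W) O hle).hom
          (((D.map (fx x)).app W).hom y) = σ.hom y := by
      intro y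
      rw [← h4, ← Scheme.Hom.appLE_comp_appLE (D.map (r ≫ w ⟨x, hxG⟩)) (D.map (fx x)) W
        (D.map (fx x) ⁻¹ᵁ W) O le_rfl hle, Scheme.Hom.appLE_eq_app]
      rfl
    rw [← key, hx x, map_zero]
  letI : Algebra Γ(D.obj j₀, W) Γ(D.obj k, O) := σ.hom.toAlgebra
  letI : Algebra Γ(S, V) Γ(D.obj k, O) := ρ.hom.toAlgebra
  haveI : IsScalarTower Γ(S, V) Γ(D.obj j₀, W) Γ(D.obj k, O) :=
    IsScalarTower.of_algebraMap_eq (fun a => by
      change ρ.hom a = σ.hom (α.hom a)
      rw [← h1]; rfl)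
  haveI : Module.Finite Γ(D.obj j₀, W) Γ(D.obj k, O) := hσf
  have hint : ∀ x ∈ (G : Set Γ(D.obj j₀, W)),
      IsIntegral Γ(S, V) (algebraMap Γ(D.obj j₀, W) Γ(D.obj k, O) x) := by
    intro x hxG
    refine ⟨px x, hpx x, ?_⟩
    have h5 := h2 x hxG
    rw [Polynomial.hom_eval₂] at h5
    have h5' : (px x).eval₂ ((σ.hom.comp α.hom : Γ(S, V) →+* Γ(D.obj k, O))) (σ.hom x) = 0 := h5
    have h6 : (σ.hom.comp α.hom : Γ(S, V) →+* Γ(D.obj k, O)) = ρ.hom := by
      rw [← h1]; rfl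
    rw [h6] at h5'
    exact h5'
  have hfinal : Module.Finite Γ(S, V) Γ(D.obj k, O) :=
    finite_of_integral_gens (A := Γ(S, V)) (B := Γ(D.obj j₀, W)) (C := Γ(D.obj k, O))
      (G : Set Γ(D.obj j₀, W)) G.finite_toSet hG hint
  exact hfinal

include hc in
theorem exists_isFinite_t [CompactSpace S] [QuasiSeparatedSpace S]
    [∀ i, CompactSpace (D.obj i)] [∀ i, QuasiSeparatedSpace (D.obj i)]
    [∀ {i j : I} (f : i ⟶ j), IsFinite (D.map f)]
    [∀ i, LocallyOfFiniteType (t.app i)] (i₀ : I) [IsIntegralHom (c.π.app i₀ ≫ t.app i₀)] :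
    ∃ l : I, ∀ (k : I) (_ : k ⟶ l), IsFinite (t.app k) := by
  classical
  obtain ⟨j₀, u₀, hj₀⟩ := exists_isAffineHom D c hc t i₀
  have hcomp : c.π.app j₀ ≫ t.app j₀ = c.π.app i₀ ≫ t.app i₀ := by
    rw [← t_naturality D t u₀, ← Category.assoc, c.w]
  have hci : IsIntegralHom (c.π.app j₀ ≫ t.app j₀) := by rw [hcomp]; infer_instance
  obtain ⟨F, hF⟩ := isCompact_univ.elim_finite_subcover (fun V : S.affineOpens => (V.1 : Set S))
    (fun V => V.1.isOpen) (fun x _ => by
      obtain ⟨_, ⟨V, hV, rfl⟩, hxV, -⟩ := S.isBasis_affineOpens.exists_subset_of_mem_open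
        (Set.mem_univ x) isOpen_univ
      exact Set.mem_iUnion.2 ⟨⟨V, hV⟩, hxV⟩)
  choose lV vV hlV using fun V : S.affineOpens =>
    exists_finite_app_t D c hc t j₀ V.1 V.2
  obtain ⟨l, v, w, hw⟩ := IsCofiltered.wideCospan (I := ↥F) (fun V => vV V.1)
  refine ⟨l, fun k r => ?_⟩
  have haff : IsAffineHom (t.app k) := by
    rw [← t_naturality D t (r ≫ v)]; infer_instance
  rw [HasAffineProperty.iff_of_iSup_eq_top (P := @IsFinite) (fun V : ↥F => V.1)]
  · intro V
    refine ⟨V.1.2.preimage (t.app k), ?_⟩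
    exact finite_appTop_morphismRestrict (t.app k) V.1.1 (hlV V.1 k (r ≫ w V))
  · apply top_le_iff.1
    intro x _
    have hx := hF (Set.mem_univ x)
    simp only [Set.mem_iUnion] at hx
    obtain ⟨V, hVF, hxV⟩ := hx
    exact Opens.mem_iSup.2 ⟨⟨V, hVF⟩, hxV⟩

end Groth.Agent.Lib.Helper9.LimClosed

namespace Groth.Agent.Lib.Helper9.LimClosed

theorem exists_isFinite_over {I : Type u} [SmallCategory I] [IsCofiltered I] (S : Scheme.{u})
    [CompactSpace S] [QuasiSeparatedSpace S] (D : I ⥤ Over S) (c : Limits.Cone D)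
    (hc : Limits.IsLimit c)
    [∀ (i j : I) (f : i ⟶ j), IsFinite (D.map f).left] [∀ i, CompactSpace (D.obj i).left]
    [∀ i, QuasiSeparatedSpace (D.obj i).left] [∀ i, LocallyOfFiniteType (D.obj i).hom]
    [IsIntegralHom c.pt.hom] :
    ∃ i₀ : I, ∀ (i : I) (_ : i ⟶ i₀), IsFinite (D.obj i).hom := by
  obtain ⟨i₀⟩ := IsCofiltered.nonempty (C := I)
  let D' := D ⋙ Over.forget S
  let c' := (Over.forget S).mapCone c
  have hc' : IsLimit c' := isLimitOfPreserves (Over.forget S) hc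
  let t : D' ⟶ (Functor.const I).obj S := { app := fun i => (D.obj i).hom }
  have hF : ∀ {i j : I} (f : i ⟶ j), IsFinite (D'.map f) := fun {i j} f => by
    change IsFinite (D.map f).left; infer_instance
  have hA : ∀ {i j : I} (f : i ⟶ j), IsAffineHom (D'.map f) := fun {i j} f => inferInstance
  have hC : ∀ i, CompactSpace (D'.obj i) := fun i => by
    change CompactSpace (D.obj i).left; infer_instance
  have hQ : ∀ i, QuasiSeparatedSpace (D'.obj i) := fun i => by
    change QuasiSeparatedSpace (D.obj i).left; infer_instance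
  have hL : ∀ i, LocallyOfFiniteType (t.app i) := fun i => by
    change LocallyOfFiniteType (D.obj i).hom; infer_instance
  have hint : IsIntegralHom (c'.π.app i₀ ≫ t.app i₀) := by
    have h1 : (c.π.app i₀).left ≫ (D.obj i₀).hom = c.pt.hom := Over.w (c.π.app i₀)
    change IsIntegralHom ((c.π.app i₀).left ≫ (D.obj i₀).hom)
    rw [h1]; infer_instance
  obtain ⟨l, hl⟩ := exists_isFinite_t D' c' hc' t i₀
  exact ⟨l, fun i r => hl i r⟩

end Groth.Agent.Lib.Helper9.LimClosed
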