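import Groth.Prelude.Def_MoreMor
import Mathlib.AlgebraicGeometry.Morphisms.FiniteType
import Mathlib.RingTheory.RingHom.FiniteType
import Mathlib.AlgebraicGeometry.IdealSheaf.Basic

namespace Groth.Agent.Lib.Helper9.ThickFT

open CategoryTheory AlgebraicGeometry

universe u

theorem finiteType_of_quotient_nilpotent {A B : Type*} [CommRing A] [CommRing B] [Algebra A B]
    (I : Ideal B) (hI : IsNilpotent I) (hfg : I.FG) [h : Algebra.FiniteType A (B ⧸ I)] :
    Algebra.FiniteType A B := by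
  classical
  obtain ⟨s, hs⟩ := h.out
  obtain ⟨t, ht⟩ := hfg
  choose lift hlift using (fun x : B ⧸ I => Ideal.Quotient.mk_surjective x)
  let s' : Finset B := s.image lift
  refine ⟨⟨s' ∪ t, ?_⟩⟩
  set S : Subalgebra A B := Algebra.adjoin A ((s' ∪ t : Finset B) : Set B) with hS
  have hmk : ∀ b : B, ∃ σ ∈ S, b - σ ∈ I := by
    have hmap : S.map (Ideal.Quotient.mkₐ A I) = ⊤ := by
      rw [eq_top_iff, ← hs, Algebra.adjoin_le_iff]
      intro x hx
      refine ⟨lift x, Algebra.subset_adjoin ?_, hlift x⟩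
      simp only [Finset.coe_union, Set.mem_union, Finset.mem_coe]
      left
      exact Finset.mem_image.mpr ⟨x, hx, rfl⟩
    intro b
    have hb : Ideal.Quotient.mkₐ A I b ∈ S.map (Ideal.Quotient.mkₐ A I) := by
      rw [hmap]; trivial
    obtain ⟨σ, hσ, hσb⟩ := hb
    refine ⟨σ, hσ, ?_⟩
    rw [← Ideal.Quotient.eq]
    exact hσb.symm
  have htS : ∀ e ∈ t, e ∈ S := fun e he => Algebra.subset_adjoin (by
    simp only [Finset.coe_union, Set.mem_union, Finset.mem_coe]; right; exact he)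
  -- I^n is generated by S ∩ I^n
  have hgen : ∀ n : ℕ, I ^ n ≤ Ideal.span ((S : Set B) ∩ (I ^ n : Ideal B)) := by
    intro n
    induction n with
    | zero =>
      intro x _
      have : (1 : B) ∈ Ideal.span ((S : Set B) ∩ (I ^ 0 : Ideal B)) :=
        Ideal.subset_span ⟨S.one_mem, by simp⟩
      have := Ideal.mul_mem_left _ x this
      simpa using this
    | succ n ih =>
      rw [pow_succ]
      refine (Ideal.mul_mono ih (le_of_eq ht.symm)).trans ?_
      rw [Ideal.span_mul_span']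
      apply Ideal.span_mono
      rintro _ ⟨a, ⟨haS, haI⟩, e, he, rfl⟩
      refine ⟨S.mul_mem haS (htS e he), ?_⟩
      exact Ideal.mul_mem_mul haI (ht ▸ Ideal.subset_span he)
  have hstep : ∀ n : ℕ, ∀ b ∈ I ^ n, ∃ σ ∈ S, σ ∈ I ^ n ∧ b - σ ∈ I ^ (n + 1) := by
    intro n b hb
    have hb' := hgen n hb
    clear hb
    induction hb' using Submodule.span_induction with
    | mem x hx => exact ⟨x, hx.1, hx.2, by simp⟩
    | zero => exact ⟨0, S.zero_mem, zero_mem _, by simp⟩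
    | add x y _ _ hx hy =>
      obtain ⟨σ, h1, h2, h3⟩ := hx
      obtain ⟨τ, k1, k2, k3⟩ := hy
      refine ⟨σ + τ, S.add_mem h1 k1, add_mem h2 k2, ?_⟩
      have : x + y - (σ + τ) = (x - σ) + (y - τ) := by ring
      rw [this]
      exact add_mem h3 k3
    | smul c x _ hx =>
      obtain ⟨σ, h1, h2, h3⟩ := hx
      obtain ⟨σc, hc1, hc2⟩ := hmk c
      refine ⟨σc * σ, S.mul_mem hc1 h1, Ideal.mul_mem_left _ _ h2, ?_⟩
      have : c • x - σc * σ = c * (x - σ) + (c - σc) * σ := by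
        simp only [smul_eq_mul]; ring
      rw [this]
      refine add_mem (Ideal.mul_mem_left _ _ h3) ?_
      rw [pow_succ']
      exact Ideal.mul_mem_mul hc2 h2
  obtain ⟨N, hN⟩ := hI
  have hdown : ∀ k : ℕ, k ≤ N → ∀ b ∈ I ^ (N - k), b ∈ S := by
    intro k
    induction k with
    | zero =>
      intro _ b hb
      simp only [Nat.sub_zero, hN] at hb
      have : b = 0 := by simpa using hb
      rw [this]; exact S.zero_mem
    | succ k ih =>
      intro hk b hb
      obtain ⟨σ, h1, _, h3⟩ := hstep _ b hb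
      have : N - (k + 1) + 1 = N - k := by omega
      rw [this] at h3
      have := ih (by omega) _ h3
      have h4 : b = (b - σ) + σ := by ring
      rw [h4]
      exact S.add_mem this h1
  rw [eq_top_iff]
  intro b _
  exact hdown N le_rfl b (by simp)


theorem ringHom_finiteType_of_comp_surjective_nilpotent {A B C : Type*} [CommRing A] [CommRing B]
    [CommRing C] (φ : A →+* B) (ψ : B →+* C) (hψ : Function.Surjective ψ)
    (hnil : IsNilpotent (RingHom.ker ψ)) (hfg : (RingHom.ker ψ).FG)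
    (h : (ψ.comp φ).FiniteType) : φ.FiniteType := by
  letI := φ.toAlgebra
  have h1 : ((Ideal.Quotient.mk (RingHom.ker ψ)).comp φ).FiniteType := by
    have h2 : (Ideal.Quotient.mk (RingHom.ker ψ)).comp φ =
        ((RingHom.quotientKerEquivOfSurjective hψ).symm.toRingHom).comp (ψ.comp φ) := by
      rw [← RingHom.comp_assoc, RingHom.quotientKerEquivOfSurjective_symm_comp]
    rw [h2]
    exact RingHom.FiniteType.comp
      (RingHom.FiniteType.of_surjective _ (RingHom.quotientKerEquivOfSurjective hψ).symm.surjective) h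
  haveI : Algebra.FiniteType A (B ⧸ RingHom.ker ψ) := by
    have h3 : (algebraMap A (B ⧸ RingHom.ker ψ)).FiniteType := h1
    exact RingHom.finiteType_algebraMap.mp h3
  have h4 := finiteType_of_quotient_nilpotent (A := A) (RingHom.ker ψ) hnil hfg
  have h5 : (algebraMap A B).FiniteType := RingHom.finiteType_algebraMap.mpr h4
  exact h5

theorem locallyOfFiniteType_of_thickening {X X₀ Y Y₀ : Scheme.{u}}
    (F : Y ⟶ X) (F₀ : Y₀ ⟶ X₀) (i : Y₀ ⟶ Y) (j : X₀ ⟶ X)
    [IsClosedImmersion i] [IsClosedImmersion j]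
    (hinil : ∀ U : Y.affineOpens, IsNilpotent (i.ker.ideal U))
    (hfg : ∀ U : Y.affineOpens, (i.ker.ideal U).FG)
    (w : F₀ ≫ j = i ≫ F) [LocallyOfFiniteType F₀] : LocallyOfFiniteType F := by
  rw [HasRingHomProperty.iff_appLE (P := @LocallyOfFiniteType)]
  intro U V e
  have hV₀ : IsAffineOpen (i ⁻¹ᵁ V.1) := V.2.preimage i
  have hU₀ : IsAffineOpen (j ⁻¹ᵁ U.1) := U.2.preimage j
  have e₀ : i ⁻¹ᵁ V.1 ≤ F₀ ⁻¹ᵁ (j ⁻¹ᵁ U.1) := by
    intro y hy
    change j (F₀ y) ∈ U.1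
    have h1 : j (F₀ y) = F (i y) := by
      have := congrArg (fun g => g.base y) w
      simpa using this
    rw [h1]
    exact e hy
  have hF₀ : RingHom.FiniteType (F₀.appLE (j ⁻¹ᵁ U.1) (i ⁻¹ᵁ V.1) e₀).hom :=
    (HasRingHomProperty.iff_appLE (P := @LocallyOfFiniteType)).mp ‹_› ⟨_, hU₀⟩ ⟨_, hV₀⟩ e₀
  have hj : Function.Surjective (j.app U.1).hom := j.app_surjective U.1 U.2
  have hi : Function.Surjective (i.app V.1).hom := i.app_surjective V.1 V.2
  have hcomp : (F.appLE U.1 V.1 e ≫ i.app V.1) = j.app U.1 ≫ F₀.appLE (j ⁻¹ᵁ U.1) (i ⁻¹ᵁ V.1) e₀ := by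
    have e₀' : i ⁻¹ᵁ V.1 ≤ (F₀ ≫ j) ⁻¹ᵁ U.1 := e₀
    have h1 : j.app U.1 ≫ F₀.appLE (j ⁻¹ᵁ U.1) (i ⁻¹ᵁ V.1) e₀ = (F₀ ≫ j).appLE U.1 (i ⁻¹ᵁ V.1) e₀' :=
      (Scheme.Hom.comp_appLE F₀ j U.1 _ e₀').symm
    have h2 : F.appLE U.1 V.1 e ≫ i.app V.1 = (i ≫ F).appLE U.1 (i ⁻¹ᵁ V.1) (w ▸ e₀') := by
      rw [Scheme.Hom.app_eq_appLE, Scheme.Hom.appLE_comp_appLE]
    rw [h1, h2]
    have : ∀ (g g' : Y₀ ⟶ X) (_ : g = g') h h', g.appLE U.1 (i ⁻¹ᵁ V.1) h = g'.appLE U.1 (i ⁻¹ᵁ V.1) h' := by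
      rintro g _ rfl _ _; rfl
    exact this _ _ w.symm _ _
  refine ringHom_finiteType_of_comp_surjective_nilpotent (F.appLE U.1 V.1 e).hom (i.app V.1).hom hi ?_ ?_ ?_
  · rw [← Scheme.Hom.ker_apply]
    exact hinil V
  · rw [← Scheme.Hom.ker_apply]
    exact hfg V
  · rw [← CommRingCat.hom_comp, hcomp, CommRingCat.hom_comp]
    exact RingHom.FiniteType.comp hF₀ (RingHom.FiniteType.of_surjective _ hj)

theorem locallyOfFiniteType_iff_of_thickening {X X₀ Y Y₀ : Scheme.{u}}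
    (F : Y ⟶ X) (F₀ : Y₀ ⟶ X₀) (i : Y₀ ⟶ Y) (j : X₀ ⟶ X)
    [IsClosedImmersion i] [IsClosedImmersion j]
    (hinil : ∀ U : Y.affineOpens, IsNilpotent (i.ker.ideal U))
    (hfg : ∀ U : Y.affineOpens, (i.ker.ideal U).FG)
    (w : F₀ ≫ j = i ≫ F) : LocallyOfFiniteType F ↔ LocallyOfFiniteType F₀ := by
  constructor
  · intro h
    haveI : LocallyOfFiniteType (F₀ ≫ j) := by
      rw [w]; infer_instance
    exact locallyOfFiniteType_of_comp F₀ j
  · intro h
    exact locallyOfFiniteType_of_thickening F F₀ i j hinil hfg w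

end Groth.Agent.Lib.Helper9.ThickFT
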