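import Groth.Agent.S9697
set_option autoImplicit false
set_option linter.style.haveILetI false
set_option linter.unusedSectionVars false
universe u v
open CategoryTheory CategoryTheory.Limits AlgebraicGeometry TopologicalSpace

namespace Groth.Agent.Lib.Helper9.ClImmNhd

variable {X Y : Scheme.{u}} (f : X ⟶ Y) (y : Y)

/-- If the fibre over `y` is `Spec κ(y)`, then there is at most one point of `X ×_Y X` whose
second projection lies over `y`. -/
lemma subsingleton_snd_preimage [hiso : IsIso (f.fiberToSpecResidueField y)] :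
    (pullback.snd f f ⁻¹' (f ⁻¹' {y})).Subsingleton := by
  set t := f.fiberToSpecResidueField y with ht
  -- the base change of `f` to the fibre
  have h1 : IsIso (pullback.snd f (t ≫ Y.fromSpecResidueField y)) := by
    have h2 : IsIso (pullback.snd (pullback.snd f (Y.fromSpecResidueField y)) t) := by
      haveI : IsIso (pullback.snd f (Y.fromSpecResidueField y)) := hiso
      infer_instance
    rw [← pullbackLeftPullbackSndIso_hom_snd f (Y.fromSpecResidueField y) t] at h2
    exact (IsIso.of_isIso_comp_left (pullbackLeftPullbackSndIso f (Y.fromSpecResidueField y) t).hom _)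
  let m : pullback f (t ≫ Y.fromSpecResidueField y) ⟶ pullback f f :=
    pullback.map f (t ≫ Y.fromSpecResidueField y) f f (𝟙 X) (f.fiberι y) (𝟙 Y)
      (by simp) (by rw [Category.comp_id]; exact (f.fiber_fac y).symm)
  have hr : Set.range m = pullback.snd f f ⁻¹' (f ⁻¹' {y}) := by
    rw [Scheme.Pullback.range_map, f.range_fiberι y]
    simp
  have hsub : Subsingleton ↥(pullback f (t ≫ Y.fromSpecResidueField y)) := by
    have hinj : Function.Injective
        (pullback.snd f (t ≫ Y.fromSpecResidueField y) ≫ t) := by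
      have : IsIso (pullback.snd f (t ≫ Y.fromSpecResidueField y) ≫ t) := inferInstance
      exact (ConcreteCategory.bijective_of_isIso
        ((pullback.snd f (t ≫ Y.fromSpecResidueField y) ≫ t).base)).injective
    exact hinj.subsingleton
  rw [← hr]
  rintro _ ⟨a, rfl⟩ _ ⟨b, rfl⟩
  rw [Subsingleton.elim a b]


/-- A neighbourhood of the point of the fibre on which `f` is formally unramified. -/
lemma exists_unramified_nhd [LocallyOfFiniteType f] [hiso : IsIso (f.fiberToSpecResidueField y)]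
    (x : X) (hx : f x = y) :
    ∃ W : X.Opens, x ∈ W ∧ FormallyUnramified (W.ι ≫ f) := by
  obtain ⟨x', hx'⟩ : ∃ x' : f.fiber y, f.fiberι y x' = x := by
    have : x ∈ Set.range (f.fiberι y) := by rw [f.range_fiberι y]; exact hx
    exact this
  have h1 : ∃ U' : (pullback f (Y.fromSpecResidueField y)).Opens, x' ∈ U' ∧
      FormallyUnramified (U'.ι ≫ pullback.snd f (Y.fromSpecResidueField y)) := by
    refine ⟨⊤, trivial, ?_⟩
    haveI : IsIso (pullback.snd f (Y.fromSpecResidueField y)) := hiso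
    infer_instance
  obtain ⟨W, hxW, hW⟩ := (Groth.Agent.S9697.result f (Y.fromSpecResidueField y) x').1 h1
  exact ⟨W, hx' ▸ hxW, hW⟩

/-- The core statement: a universally closed morphism locally of finite type whose fibre over
`y` is `Spec κ(y)` is a closed immersion over a neighbourhood of `y`. -/
theorem exists_isClosedImmersion_of_isIso [LocallyOfFiniteType f] [UniversallyClosed f]
    [hiso : IsIso (f.fiberToSpecResidueField y)] :
    ∃ U : Y.Opens, y ∈ U ∧ IsClosedImmersion (f ∣_ U) := by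
  -- the point of the fibre
  obtain ⟨x, hx⟩ : ∃ x : X, f x = y := by
    have : Nonempty ↥(f.fiber y) := by
      have : Nonempty ↥(Spec (Y.residueField y)) := inferInstance
      exact this.map (inv (f.fiberToSpecResidueField y)).base
    obtain ⟨x'⟩ := this
    refine ⟨f.fiberι y x', ?_⟩
    have : f.fiberι y x' ∈ Set.range (f.fiberι y) := ⟨x', rfl⟩
    rw [f.range_fiberι y] at this
    exact this
  obtain ⟨W, hxW, hW⟩ := exists_unramified_nhd f y x hx
  -- the open `Δ(W)` of `X ×_Y X`
  have hoi : IsOpenImmersion (W.ι ≫ pullback.diagonal f) := by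
    rw [pullback.comp_diagonal]
    infer_instance
  set O : (pullback f f).Opens := (W.ι ≫ pullback.diagonal f).opensRange with hO
  set p : pullback f f ⟶ Y := pullback.fst f f ≫ f with hp
  have hpc : IsClosedMap p := p.isClosedMap
  have hK : IsClosed (p '' ((O : Set ↥(pullback f f))ᶜ)) := hpc _ O.isOpen.isClosed_compl
  have hyK : y ∉ p '' ((O : Set ↥(pullback f f))ᶜ) := by
    rintro ⟨z, hzC, hzy⟩
    apply hzC
    have h1 : z ∈ pullback.snd f f ⁻¹' (f ⁻¹' {y}) := by
      change f (pullback.snd f f z) = y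
      rw [← Scheme.Hom.comp_apply, ← pullback.condition]
      exact hzy
    have h2 : pullback.diagonal f x ∈ pullback.snd f f ⁻¹' (f ⁻¹' {y}) := by
      change (pullback.diagonal f ≫ pullback.snd f f ≫ f) x = y
      rw [pullback.diagonal_snd_assoc]
      exact hx
    rw [subsingleton_snd_preimage f y h1 h2]
    exact ⟨⟨x, hxW⟩, rfl⟩
  let U₁ : Y.Opens := ⟨(p '' ((O : Set ↥(pullback f f))ᶜ))ᶜ, hK.isOpen_compl⟩
  refine ⟨U₁, hyK, ?_⟩
  -- points over `U₁` lie in `W`
  have hmem : ∀ z : ↥(pullback f f), p z ∈ U₁ → z ∈ O := by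
    intro z hz
    by_contra hzO
    exact hz ⟨z, hzO, rfl⟩
  have hle : f ⁻¹ᵁ U₁ ≤ W := by
    intro x' hx'
    have h1 : pullback.diagonal f x' ∈ O := by
      apply hmem
      change (pullback.fst f f ≫ f) (pullback.diagonal f x') ∈ U₁
      rw [← Scheme.Hom.comp_apply, pullback.diagonal_fst_assoc]
      exact hx'
    obtain ⟨w, hw⟩ := h1
    have h2 := congrArg (pullback.fst f f) hw
    rw [← Scheme.Hom.comp_apply, ← Scheme.Hom.comp_apply, Category.assoc,
      pullback.diagonal_fst, Category.comp_id] at h2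
    have h3 : W.ι w = x' := h2
    rw [← h3]
    exact w.2
  set X₁ : X.Opens := f ⁻¹ᵁ U₁ with hX₁
  set g₁ : X₁.toScheme ⟶ Y := X₁.ι ≫ f with hg₁
  haveI hfu : FormallyUnramified g₁ := by
    have h1 : g₁ = X.homOfLE hle ≫ (W.ι ≫ f) := by rw [hg₁, Scheme.homOfLE_ι_assoc]
    rw [h1]
    exact MorphismProperty.comp_mem (W := @FormallyUnramified) _ _ inferInstance hW
  haveI : LocallyOfFiniteType g₁ := inferInstance
  have hoi₁ : IsOpenImmersion (pullback.diagonal g₁) := inferInstance
  let m₁ : pullback g₁ g₁ ⟶ pullback f f :=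
    pullback.map g₁ g₁ f f X₁.ι X₁.ι (𝟙 Y) (Category.comp_id _) (Category.comp_id _)
  have hm₁ : X₁.ι ≫ pullback.diagonal f = pullback.diagonal g₁ ≫ m₁ :=
    pullback.comp_diagonal X₁.ι f
  have hm₁fst : m₁ ≫ pullback.fst f f = pullback.fst g₁ g₁ ≫ X₁.ι := pullback.lift_fst _ _ _
  have hsurj : (pullback.diagonal g₁).opensRange = ⊤ := by
    apply top_le_iff.1
    intro z₁ _
    have h1 : m₁ z₁ ∈ O := by
      apply hmem
      change (m₁ ≫ pullback.fst f f ≫ f) z₁ ∈ U₁
      rw [reassoc_of% hm₁fst]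
      exact (pullback.fst g₁ g₁ z₁).2
    obtain ⟨w, hw⟩ := h1
    have h2 := congrArg (pullback.fst f f) hw
    rw [← Scheme.Hom.comp_apply, ← Scheme.Hom.comp_apply, Category.assoc,
      pullback.diagonal_fst, Category.comp_id, hm₁fst] at h2
    refine ⟨pullback.fst g₁ g₁ z₁, ?_⟩
    apply m₁.isOpenEmbedding.injective
    rw [← Scheme.Hom.comp_apply, ← hm₁, ← hw, Scheme.Hom.comp_apply, Scheme.Hom.comp_apply]
    exact congrArg _ h2.symm
  haveI : IsIso (pullback.diagonal g₁) :=
    isIso_of_isOpenImmersion_of_opensRange_eq_top _ hsurj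
  haveI hmono₁ : Mono g₁ := (pullback.isIso_diagonal_iff g₁).1 inferInstance
  haveI hmono : Mono (f ∣_ U₁) := by
    haveI : Mono ((f ∣_ U₁) ≫ U₁.ι) := by
      rw [morphismRestrict_ι]; exact hmono₁
    exact mono_of_mono (f ∣_ U₁) U₁.ι
  haveI : UniversallyClosed (f ∣_ U₁) := IsZariskiLocalAtTarget.restrict ‹_› U₁
  haveI : LocallyOfFiniteType (f ∣_ U₁) := IsZariskiLocalAtTarget.restrict ‹_› U₁
  exact (IsClosedImmersion.iff_isProper_and_mono _).2 ⟨{ }, hmono⟩


/-- The empty-fibre case. -/
theorem exists_isClosedImmersion_of_isEmpty [UniversallyClosed f] (he : IsEmpty ↥(f.fiber y)) :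
    ∃ U : Y.Opens, y ∈ U ∧ IsClosedImmersion (f ∣_ U) := by
  have hcl : IsClosed (Set.range f) := by
    rw [← Set.image_univ]; exact f.isClosedMap _ isClosed_univ
  have hy : y ∉ Set.range f := by
    rintro ⟨x, hx⟩
    have : x ∈ Set.range (f.fiberι y) := by rw [f.range_fiberι y]; exact hx
    obtain ⟨x', -⟩ := this
    exact he.elim x'
  let U : Y.Opens := ⟨(Set.range f)ᶜ, hcl.isOpen_compl⟩
  refine ⟨U, hy, ?_⟩
  haveI : IsEmpty ↥((f ⁻¹ᵁ U : X.Opens) : Scheme.{u}) := ⟨fun x => x.2 ⟨x.1, rfl⟩⟩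
  infer_instance

/-- Comparison of the fibre of `f` at `y` with the fibre of the restriction `f ∣_ V`. -/
lemma fiber_restrict_iff (V : Y.Opens) (yV : ↥V) (y' : Y) (e : V.ι yV = y') :
    (IsEmpty ↥((f ∣_ V).fiber yV) ↔ IsEmpty ↥(f.fiber y')) ∧
    (IsIso ((f ∣_ V).fiberToSpecResidueField yV) ↔ IsIso (f.fiberToSpecResidueField y')) := by
  subst e
  have h := (isPullback_morphismRestrict f V).flip
  obtain ⟨top, hpb⟩ : ∃ top : (f ∣_ V).fiber yV ⟶ f.fiber (V.ι yV),
      IsPullback top ((f ∣_ V).fiberToSpecResidueField yV)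
        (f.fiberToSpecResidueField (V.ι yV)) (Spec.map (V.ι.residueFieldMap yV)) :=
    ⟨_, isPullback_fiberToSpecResidueField_of_isPullback h yV⟩
  haveI : IsIso (Spec.map (V.ι.residueFieldMap yV)) := inferInstance
  haveI htop : IsIso top := hpb.isIso_fst_of_isIso
  constructor
  · constructor
    · intro he
      exact ⟨fun z => he.elim ((inv top).base z)⟩
    · intro he
      exact ⟨fun z => he.elim (top.base z)⟩
  · have hw := hpb.w
    constructor
    · intro hi
      have : IsIso (top ≫ f.fiberToSpecResidueField (V.ι yV)) := by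
        rw [hw]; infer_instance
      exact IsIso.of_isIso_comp_left top _
    · intro hi
      have : IsIso ((f ∣_ V).fiberToSpecResidueField yV ≫
          Spec.map (V.ι.residueFieldMap yV)) := by
        rw [← hw]; infer_instance
      exact IsIso.of_isIso_comp_right _ (Spec.map (V.ι.residueFieldMap yV))

/-- A closed immersion into the spectrum of a field is empty or an isomorphism. -/
lemma isEmpty_or_isIso_of_isClosedImmersion {Z : Scheme.{u}} {K : Type u} [Field K]
    (h : Z ⟶ Spec (.of K)) [IsClosedImmersion h] : IsEmpty ↥Z ∨ IsIso h := by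
  by_cases hZ : IsEmpty ↥Z
  · exact Or.inl hZ
  · right
    rw [not_isEmpty_iff] at hZ
    obtain ⟨hA, hs⟩ := IsClosedImmersion.isAffine_surjective_of_isAffine h
    have hfield : IsField Γ(Spec (.of K), ⊤) :=
      (Scheme.ΓSpecIso (.of K)).commRingCatIsoToRingEquiv.toMulEquiv.isField
        (Field.toIsField K)
    letI := hfield.toField
    haveI : Nontrivial Γ(Z, ⊤) := @Scheme.component_nontrivial Z ⊤ ⟨⟨hZ.some, trivial⟩⟩
    have hinj : Function.Injective h.appTop.hom := RingHom.injective _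
    have hbij : Function.Bijective h.appTop.hom := ⟨hinj, hs⟩
    have hiso : IsIso h.appTop := (ConcreteCategory.isIso_iff_bijective _).2 hbij
    exact (HasAffineProperty.iff_of_isAffine
      (P := MorphismProperty.isomorphisms Scheme.{u})).2 ⟨hA, hiso⟩


/-- EGA IV 18.12.?: closed immersion near `y` iff fibre empty or `Spec κ(y)`, and universally
closed near `y`. -/
theorem main [LocallyOfFiniteType f] :
    (∃ U : Y.Opens, y ∈ U ∧ IsClosedImmersion (f ∣_ U)) ↔
      ((IsEmpty ↥(f.fiber y) ∨ IsIso (f.fiberToSpecResidueField y)) ∧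
        ∃ V : Y.Opens, y ∈ V ∧ UniversallyClosed (f ∣_ V)) := by
  constructor
  · rintro ⟨U, hyU, hU⟩
    refine ⟨?_, U, hyU, inferInstance⟩
    obtain ⟨h1, h2⟩ := fiber_restrict_iff f U ⟨y, hyU⟩ y rfl
    rw [← h1, ← h2]
    haveI : IsClosedImmersion ((f ∣_ U).fiberToSpecResidueField ⟨y, hyU⟩) :=
      MorphismProperty.pullback_snd _ _ hU
    exact isEmpty_or_isIso_of_isClosedImmersion
      (K := ↑((U : Scheme.{u}).residueField ⟨y, hyU⟩)) _
  · rintro ⟨hfib, V, hyV, hV⟩
    obtain ⟨h1, h2⟩ := fiber_restrict_iff f V ⟨y, hyV⟩ y rfl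
    haveI : LocallyOfFiniteType (f ∣_ V) := IsZariskiLocalAtTarget.restrict ‹_› V
    have key : ∃ U' : V.toScheme.Opens, (⟨y, hyV⟩ : ↥V) ∈ U' ∧
        IsClosedImmersion (f ∣_ V ∣_ U') := by
      rcases hfib with he | hi
      · exact exists_isClosedImmersion_of_isEmpty (f ∣_ V) _ (h1.2 he)
      · haveI := h2.2 hi
        exact exists_isClosedImmersion_of_isIso (f ∣_ V) _
    obtain ⟨U', hyU', hU'⟩ := key
    refine ⟨V.ι ''ᵁ U', ⟨⟨y, hyV⟩, hyU', rfl⟩, ?_⟩
    exact (MorphismProperty.arrow_mk_iso_iff @IsClosedImmersion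
      (morphismRestrictRestrict f V U')).1 hU'

end Groth.Agent.Lib.Helper9.ClImmNhd
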