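import Mathlib.AlgebraicGeometry.Sites.Fpqc
import Mathlib.AlgebraicGeometry.Morphisms.FlatDescent

set_option autoImplicit false
universe u
open CategoryTheory CategoryTheory.Limits AlgebraicGeometry MorphismProperty

namespace Groth.Agent.Lib.Helper9.FpqcLoc

/-- Two pullback squares over the same cospan: transfer a property of the second projection. -/
theorem prop_snd_of_isPullback {P : MorphismProperty Scheme.{u}} [P.RespectsIso]
    {X Y Z T₁ T₂ : Scheme.{u}} {f : X ⟶ Z} {g : Y ⟶ Z} {a₁ : T₁ ⟶ X} {b₁ : T₁ ⟶ Y}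
    {a₂ : T₂ ⟶ X} {b₂ : T₂ ⟶ Y} (sq₁ : IsPullback a₁ b₁ f g) (sq₂ : IsPullback a₂ b₂ f g)
    (hP : P b₁) : P b₂ := by
  have : b₂ = (sq₂.isoIsPullback _ _ sq₁).hom ≫ b₁ :=
    (IsPullback.isoIsPullback_hom_snd _ _ sq₂ sq₁).symm
  rw [this]
  exact (P.cancel_left_of_respectsIso _ _).2 hP

set_option backward.isDefEq.respectTransparency.types false in
/-- Descent along a finite jointly surjective family of flat morphisms from affine schemes to an
affine scheme. -/
theorem of_finite_affine_family {P : MorphismProperty Scheme.{u}} [IsZariskiLocalAtTarget P]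
    [P.DescendsAlong (@Surjective ⊓ @Flat ⊓ @QuasiCompact)]
    {U Z : Scheme.{u}} [IsAffine Z] (h : U ⟶ Z) {m : ℕ} (W : Fin m → Scheme.{u})
    (c : ∀ j, W j ⟶ Z) [∀ j, IsAffine (W j)] (hc : ∀ j, Flat (c j))
    (hs : ∀ z : Z, ∃ j, z ∈ Set.range (c j))
    (hP : ∀ j, P (pullback.snd h (c j))) : P h := by
  let π : (∐ W) ⟶ Z := Sigma.desc c
  have hπf : Flat π := IsZariskiLocalAtSource.sigmaDesc (P := @Flat) hc
  have hπs : Surjective π := by
    refine ⟨fun z => ?_⟩
    obtain ⟨j, w, rfl⟩ := hs z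
    refine ⟨(Sigma.ι W j) w, ?_⟩
    rw [← Scheme.Hom.comp_apply, Sigma.ι_desc]
  have hπq : QuasiCompact π := inferInstance
  refine of_isPullback_of_descendsAlong (P := P) (Q := @Surjective ⊓ @Flat ⊓ @QuasiCompact)
    (IsPullback.of_hasPullback π h) ⟨⟨hπs, hπf⟩, hπq⟩ ?_
  rw [IsZariskiLocalAtTarget.iff_of_openCover (P := P) (sigmaOpenCover W)]
  intro j
  change P (pullback.snd (pullback.fst π h) (Sigma.ι W j))
  have sq1 := (IsPullback.of_hasPullback (pullback.fst π h) (Sigma.ι W j)).flip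
  have sq2 := sq1.paste_vert (IsPullback.of_hasPullback π h)
  have hj : Sigma.ι W j ≫ π = c j := Sigma.ι_desc _ _
  rw [hj] at sq2
  exact prop_snd_of_isPullback (IsPullback.of_hasPullback h (c j)) sq2.flip (hP j)


universe v

set_option backward.isDefEq.respectTransparency.types false in
/-- Descent along a flat family which is a quasi-compact cover. -/
theorem of_quasiCompactCover {P : MorphismProperty Scheme.{u}} [IsZariskiLocalAtTarget P]
    [P.DescendsAlong (@Surjective ⊓ @Flat ⊓ @QuasiCompact)]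
    {X Y : Scheme.{u}} (f : X ⟶ Y) (𝒰 : PreZeroHypercover.{v} Y) [QuasiCompactCover 𝒰]
    (hflat : ∀ i, Flat (𝒰.f i))
    (h : ∀ i, P (pullback.snd f (𝒰.f i))) : P f := by
  rw [IsZariskiLocalAtTarget.iff_of_openCover (P := P) Y.affineCover]
  intro k
  change P (pullback.snd f (Y.affineCover.f k))
  set ι := Y.affineCover.f k with hι
  obtain ⟨n, idx, V, hV, hU⟩ := QuasiCompactCover.exists_isAffineOpen_of_isCompact 𝒰
    (U := ι.opensRange) (isAffineOpen_opensRange ι).isCompact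
  have hle : ∀ j, Set.range ((V j).ι ≫ 𝒰.f (idx j)) ⊆ Set.range ι := by
    intro j
    rintro _ ⟨x, rfl⟩
    have : (𝒰.f (idx j)) ((V j).ι x) ∈ (ι.opensRange : Set Y) := by
      rw [← hU]
      exact Set.mem_iUnion.2 ⟨j, ⟨(V j).ι x, (Scheme.Opens.range_ι (V j)) ▸ Set.mem_range_self x, rfl⟩⟩
    simpa using this
  let c : ∀ j, (V j).toScheme ⟶ Y.affineCover.X k :=
    fun j => IsOpenImmersion.lift ι ((V j).ι ≫ 𝒰.f (idx j)) (hle j)
  have hc : ∀ j, c j ≫ ι = (V j).ι ≫ 𝒰.f (idx j) := fun j => IsOpenImmersion.lift_fac _ _ _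
  have : ∀ j, IsAffine (V j).toScheme := fun j => hV j
  refine of_finite_affine_family (pullback.snd f ι) (fun j => (V j).toScheme) c ?_ ?_ ?_
  · intro j
    have : Flat (c j ≫ ι) := by rw [hc]; infer_instance
    exact MorphismProperty.of_postcomp (W := @Flat) (W' := MorphismProperty.monomorphisms _)
      (c j) ι (inferInstanceAs (Mono ι)) this
  · intro z
    have : ι z ∈ (ι.opensRange : Set Y) := ⟨z, rfl⟩
    rw [← hU] at this
    obtain ⟨j, x, hx, hxz⟩ := Set.mem_iUnion.1 this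
    refine ⟨j, ⟨x, hx⟩, ?_⟩
    apply ι.injective
    calc ι (c j ⟨x, hx⟩) = (c j ≫ ι) ⟨x, hx⟩ := rfl
      _ = ((V j).ι ≫ 𝒰.f (idx j)) ⟨x, hx⟩ := by rw [hc]
      _ = ι z := hxz
  · intro j
    have sqA := (IsPullback.of_hasPullback (pullback.snd f ι) (c j))
    have sqB := (IsPullback.of_hasPullback f ι)
    have sq1 := (sqA.flip.paste_vert sqB.flip).flip
    rw [hc j] at sq1
    have sqC := IsPullback.of_hasPullback (pullback.snd f (𝒰.f (idx j))) (V j).ι
    have sqD := IsPullback.of_hasPullback f (𝒰.f (idx j))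
    have sq2 := (sqC.flip.paste_vert sqD.flip).flip
    have hC : P (pullback.snd (pullback.snd f (𝒰.f (idx j))) (V j).ι) :=
      IsZariskiLocalAtTarget.of_isPullback (iY := (V j).ι) sqC (h (idx j))
    exact prop_snd_of_isPullback sq2 sq1 hC


/-- Descent along an fpqc covering family. -/
theorem of_fpqcCover {P : MorphismProperty Scheme.{u}} [IsZariskiLocalAtTarget P]
    [P.DescendsAlong (@Surjective ⊓ @Flat ⊓ @QuasiCompact)]
    {X Y : Scheme.{u}} (f : X ⟶ Y) (𝒰 : Scheme.Cover.{v} Scheme.fpqcPrecoverage Y)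
    (h : ∀ i, P (pullback.snd f (𝒰.f i))) : P f := by
  have hm : 𝒰.presieve₀ ∈ Scheme.propQCPrecoverage @Flat Y := 𝒰.mem₀
  have : QuasiCompactCover 𝒰.toPreZeroHypercover := by
    rw [← Scheme.presieve₀_mem_qcPrecoverage_iff]
    exact hm.1
  have hfl : ∀ i, Flat (𝒰.f i) :=
    ((Scheme.presieve₀_mem_precoverage_iff 𝒰.toPreZeroHypercover).1 hm.2).2
  exact of_quasiCompactCover f 𝒰.toPreZeroHypercover hfl h

/-- Descent along a presieve of the fpqc precoverage. -/
theorem of_mem_fpqcPrecoverage {P : MorphismProperty Scheme.{u}} [IsZariskiLocalAtTarget P]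
    [P.DescendsAlong (@Surjective ⊓ @Flat ⊓ @QuasiCompact)]
    {X Y : Scheme.{u}} (f : X ⟶ Y) {R : Presieve Y} (hR : R ∈ Scheme.fpqcPrecoverage Y)
    (h : ∀ ⦃U : Scheme.{u}⦄ (g : U ⟶ Y), R g → P (pullback.snd f g)) : P f := by
  obtain ⟨𝒰, rfl⟩ := R.exists_eq_preZeroHypercover
  exact of_fpqcCover f (⟨𝒰, hR⟩ : Scheme.Cover Scheme.fpqcPrecoverage Y) fun i => h _ ⟨i⟩

/-- A Zariski-local property stable under base change and descending along fpqc morphisms is
local at the target for the fpqc precoverage. -/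
theorem isLocalAtTarget_fpqc (P : MorphismProperty Scheme.{u}) [IsZariskiLocalAtTarget P]
    [P.IsStableUnderBaseChange]
    [P.DescendsAlong (@Surjective ⊓ @Flat ⊓ @QuasiCompact)] :
    P.IsLocalAtTarget Scheme.fpqcPrecoverage :=
  .mk_of_isStableUnderBaseChange fun f 𝒰 h => of_fpqcCover f 𝒰 h

end Groth.Agent.Lib.Helper9.FpqcLoc
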