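import Groth.Prelude.Def_NonAbH2
import Groth.Agent.Lib.Helper9.FpqcLoc1

set_option autoImplicit false
universe u
open CategoryTheory CategoryTheory.Limits AlgebraicGeometry MorphismProperty
open MonoidalCategory CartesianMonoidalCategory MonObj GrpObj

namespace Groth.Agent.Lib.Helper9.Tors

variable {S : Scheme.{u}} {G X : Over S} [GrpObj G]

/-- The structure morphism of a group object is surjective (it has the unit section). -/
theorem surjective_hom (G : Over S) [GrpObj G] : Surjective G.hom := by
  have e : (η[G]).left ≫ G.hom = 𝟙 S := by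
    have := Over.w (η[G])
    simpa using this
  have : Surjective ((η[G]).left ≫ G.hom) := by rw [e]; exact ⟨fun x => ⟨x, by simp⟩⟩
  exact Surjective.of_comp (η[G]).left G.hom

/-- For a pseudo-torsor, the second projection `X ×_S X ⟶ X` inherits every property of `G ⟶ S`
stable under base change. -/
theorem prop_snd_of_isPseudoTorsor {P : MorphismProperty Scheme.{u}} [P.IsStableUnderBaseChange]
    (a : AlgGrp.Action G X) (h : NonAbH1.IsPseudoTorsorSch a) (hG : P G.hom) :
    P (pullback.snd X.hom X.hom) := by
  have hiso : IsIso (lift a.act (snd G X)) := h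
  have e : (lift a.act (snd G X)).left ≫ (snd X X).left = (snd G X).left := by
    rw [← Over.comp_left, lift_snd]
  have h1 : P ((snd G X).left) := P.pullback_snd _ _ hG
  rw [← e] at h1
  have : IsIso (lift a.act (snd G X)).left :=
    inferInstanceAs (IsIso ((Over.forget S).map (lift a.act (snd G X))))
  exact (P.cancel_left_of_respectsIso _ _).1 h1

/-- For a pseudo-torsor with a section over `f : S' ⟶ S`, the base change `X ×_S S' ⟶ S'` inherits
every property of `G ⟶ S` stable under base change. -/
theorem prop_pullback_snd_of_hasSectionOver {P : MorphismProperty Scheme.{u}}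
    [P.IsStableUnderBaseChange]
    (a : AlgGrp.Action G X) (h : NonAbH1.IsPseudoTorsorSch a) {S' : Scheme.{u}} (f : S' ⟶ S)
    (hs : NonAbH1.HasSectionOver X f) (hG : P G.hom) :
    P (pullback.snd X.hom f) := by
  obtain ⟨s, rfl⟩ := hs
  have h0 := prop_snd_of_isPseudoTorsor a h hG
  have sqA := IsPullback.of_hasPullback (pullback.snd X.hom X.hom) s
  have sqB := IsPullback.of_hasPullback X.hom X.hom
  have sq1 := (sqA.flip.paste_vert sqB.flip).flip
  have h1 : P (pullback.snd (pullback.snd X.hom X.hom) s) := P.pullback_snd _ _ h0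
  exact FpqcLoc.prop_snd_of_isPullback sq1 (IsPullback.of_hasPullback X.hom (s ≫ X.hom)) h1

/-- fpqc torsors inherit fpqc-local properties of the group. -/
theorem prop_hom_of_isTorsorFor_fpqc {P : MorphismProperty Scheme.{u}} [IsZariskiLocalAtTarget P]
    [P.IsStableUnderBaseChange] [P.DescendsAlong (@Surjective ⊓ @Flat ⊓ @QuasiCompact)]
    (a : AlgGrp.Action G X) (h : NonAbH1.IsTorsorFor Scheme.fpqcPrecoverage a) (hG : P G.hom) :
    P X.hom := by
  obtain ⟨hps, R, hR, hsec⟩ := h
  exact FpqcLoc.of_mem_fpqcPrecoverage X.hom hR fun U g hg =>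
    prop_pullback_snd_of_hasSectionOver a hps g (hsec g hg) hG

end Groth.Agent.Lib.Helper9.Tors
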