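import Mathlib
import Groth.Prelude.Def_GalTw2
import Groth.Agent.Lib.Helper27.GalTwDesc
import Groth.Agent.Lib.Helper27.GalTwGrp

set_option backward.isDefEq.respectTransparency false
set_option maxHeartbeats 800000
set_option synthInstance.maxHeartbeats 400000
set_option autoImplicit false
set_option linter.unusedSectionVars false
set_option linter.unusedVariables false
universe u
open CategoryTheory CategoryTheory.Limits AlgebraicGeometry Opposite MonoidalCategory CartesianMonoidalCategory

namespace Groth.Agent.Lib.Helper9.GalGrp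

open GalTw MonObj
open Groth.Agent.Lib.Helper27.GalTwDesc

section adj

variable {S S' : Scheme.{u}} (p : S' ⟶ S)

/-- the adjunction bijection is multiplicative -/
theorem homEquiv_mul (G : Over S) [GrpObj G] (A : Over S') (z w : (Over.map p).obj A ⟶ G) :
    (Over.mapPullbackAdj p).homEquiv A G (z * w) =
      (Over.mapPullbackAdj p).homEquiv A G z * (Over.mapPullbackAdj p).homEquiv A G w := by
  rw [Adjunction.homEquiv_unit, Adjunction.homEquiv_unit, Adjunction.homEquiv_unit]
  rw [Functor.map_mul, MonObj.comp_mul]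

theorem homEquiv_left_fst (G : Over S) (A : Over S') (z : (Over.map p).obj A ⟶ G) :
    ((Over.mapPullbackAdj p).homEquiv A G z).left ≫ pullback.fst G.hom p = z.left := by
  rw [Adjunction.homEquiv_unit]
  simp
  exact Category.id_comp _

theorem homEquiv_symm_left (G : Over S) (A : Over S') (x : A ⟶ (Over.pullback p).obj G) :
    (((Over.mapPullbackAdj p).homEquiv A G).symm x).left = x.left ≫ pullback.fst G.hom p := by
  rw [Adjunction.homEquiv_counit]
  simp

noncomputable local instance instGrpHom (G : Over S) [GrpObj G] (A : Over S') :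
    Group (A ⟶ (Over.pullback p).obj G) := Hom.group

theorem homEquiv_one (G : Over S) [GrpObj G] (A : Over S') :
    (Over.mapPullbackAdj p).homEquiv A G (1 : (Over.map p).obj A ⟶ G) = 1 := by
  rw [Adjunction.homEquiv_unit, Functor.map_one, MonObj.comp_one]

theorem homEquiv_symm_mul (G : Over S) [GrpObj G] (A : Over S') (x y : A ⟶ (Over.pullback p).obj G) :
    ((Over.mapPullbackAdj p).homEquiv A G).symm (x * y) =
      ((Over.mapPullbackAdj p).homEquiv A G).symm x * ((Over.mapPullbackAdj p).homEquiv A G).symm y := by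
  apply ((Over.mapPullbackAdj p).homEquiv A G).injective
  rw [homEquiv_mul, Equiv.apply_symm_apply, Equiv.apply_symm_apply, Equiv.apply_symm_apply]

theorem homEquiv_symm_one (G : Over S) [GrpObj G] (A : Over S') :
    ((Over.mapPullbackAdj p).homEquiv A G).symm (1 : A ⟶ (Over.pullback p).obj G) = 1 := by
  apply ((Over.mapPullbackAdj p).homEquiv A G).injective
  rw [homEquiv_one, Equiv.apply_symm_apply]

end adj

section tw

variable {k : Type u} [Field k] {K : Type u} [Field K] [Algebra k K]

/-- the `k`-automorphism of `T_K` (viewed over `k`) induced by `σ` -/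
noncomputable def gam (σ : K ≃ₐ[k] K) (T : Over (Spec (CommRingCat.of k))) :
    (Over.map (SGA7.pt (K := k) K).hom).obj (bcK K T) ⟶
      (Over.map (SGA7.pt (K := k) K).hom).obj (bcK K T) :=
  Over.homMk (galMap K σ T) (by
    change galMap K σ T ≫ pullback.snd T.hom (SGA7.pt (K := k) K).hom ≫ (SGA7.pt (K := k) K).hom =
      pullback.snd T.hom (SGA7.pt (K := k) K).hom ≫ (SGA7.pt (K := k) K).hom
    rw [galMap_snd_assoc, specMap_comp_pt])

variable (T G₀ : Over (Spec (CommRingCat.of k))) [GrpObj G₀]

noncomputable local instance instGrpHomK (T G₀ : Over (Spec (CommRingCat.of k))) [GrpObj G₀] :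
    Group (bcK K T ⟶ bcK K G₀) := Hom.group

theorem symm_twHom (σ : K ≃ₐ[k] K) (x : bcK K T ⟶ bcK K G₀) :
    ((Over.mapPullbackAdj (SGA7.pt (K := k) K).hom).homEquiv (bcK K T) G₀).symm (twHom σ x) =
      gam σ T ≫ ((Over.mapPullbackAdj (SGA7.pt (K := k) K).hom).homEquiv (bcK K T) G₀).symm x := by
  apply Over.OverMorphism.ext
  rw [homEquiv_symm_left, Over.comp_left, homEquiv_symm_left, twHom_left]
  change (galMap K σ T ≫ x.left ≫ galMap K σ⁻¹ G₀) ≫ pullback.fst G₀.hom (SGA7.pt (K := k) K).hom =
    galMap K σ T ≫ x.left ≫ pullback.fst G₀.hom (SGA7.pt (K := k) K).hom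
  simp only [Category.assoc, galMap_fst]

theorem twHom_mul' (σ : K ≃ₐ[k] K) (x y : bcK K T ⟶ bcK K G₀) :
    twHom σ (x * y) = twHom σ x * twHom σ y := by
  apply ((Over.mapPullbackAdj (SGA7.pt (K := k) K).hom).homEquiv (bcK K T) G₀).symm.injective
  rw [symm_twHom, homEquiv_symm_mul, homEquiv_symm_mul, symm_twHom, symm_twHom, MonObj.comp_mul]

theorem twHom_one' (σ : K ≃ₐ[k] K) :
    twHom σ (1 : bcK K T ⟶ bcK K G₀) = 1 := by
  apply ((Over.mapPullbackAdj (SGA7.pt (K := k) K).hom).homEquiv (bcK K T) G₀).symm.injective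
  rw [symm_twHom, homEquiv_symm_one, MonObj.comp_one]

end tw

end Groth.Agent.Lib.Helper9.GalGrp
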