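import Mathlib
import Groth.Prelude.Def_SGA3x
import Groth.Prelude.Def_Red
import Groth.Agent.Lib.Helper9.GalGrp1
import Groth.Agent.Lib.Helper14.MTDescent
import Groth.Agent.Lib.Helper14.MTSplitD

set_option backward.isDefEq.respectTransparency false
set_option maxHeartbeats 800000
set_option synthInstance.maxHeartbeats 400000
set_option autoImplicit false
set_option linter.unusedSectionVars false
set_option linter.unusedVariables false
universe u
open CategoryTheory CategoryTheory.Limits AlgebraicGeometry Opposite MonoidalCategory CartesianMonoidalCategory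

namespace Groth.Agent.Lib.Helper9.RC

open MonObj
open Groth.Agent.Lib.Helper9.GalGrp
open Groth.Agent.Lib.Helper14

section bcc

variable {Z T T' : Scheme.{u}}

theorem pc_inv_left_fst (g : T' ⟶ T) (t : T ⟶ Z) (X : Over Z) :
    ((Over.pullbackComp g t).inv.app X).left ≫ pullback.fst X.hom (g ≫ t) =
      pullback.fst (pullback.snd X.hom t) g ≫ pullback.fst X.hom t := by
  simp [Over.pullbackComp, conjugateIsoEquiv]
  exact Category.id_comp _

/-- iterated base change is base change along the composite -/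
noncomputable def bcc (g : T' ⟶ T) (t : T ⟶ Z) (t' : T' ⟶ Z) (h : g ≫ t = t') (X : Over Z) :
    Red.bc g (Red.bc t X) ≅ Red.bc t' X :=
  ((Over.pullbackComp g t).app X).symm ≪≫ eqToIso (by subst h; rfl)

theorem bcc_hom_left_fst (g : T' ⟶ T) (t : T ⟶ Z) (t' : T' ⟶ Z) (h : g ≫ t = t') (X : Over Z) :
    (bcc g t t' h X).hom.left ≫ pullback.fst X.hom t' =
      pullback.fst (Red.bc t X).hom g ≫ pullback.fst X.hom t := by
  subst h
  simp only [bcc, eqToIso_refl, Iso.trans_refl, Iso.symm_hom, Iso.app_inv]
  exact pc_inv_left_fst g t X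

theorem bcc_inv_left_fst (g : T' ⟶ T) (t : T ⟶ Z) (t' : T' ⟶ Z) (h : g ≫ t = t') (X : Over Z) :
    (bcc g t t' h X).inv.left ≫ pullback.fst (Red.bc t X).hom g ≫ pullback.fst X.hom t =
      pullback.fst X.hom t' := by
  rw [← bcc_hom_left_fst g t t' h X, ← Over.comp_left_assoc, Iso.inv_hom_id]
  simp

open scoped Obj in
instance isMonHom_bcc_hom (g : T' ⟶ T) (t : T ⟶ Z) (t' : T' ⟶ Z) (h : g ≫ t = t') (X : Over Z)
    [GrpObj X] : IsMonHom (bcc g t t' h X).hom := by
  subst h
  have : (bcc g t (g ≫ t) rfl X).hom = (Over.pullbackComp g t).inv.app X := by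
    simp [bcc]
  rw [this]
  exact MTDescent.isMonHom_comp_app (Over.pullbackComp g t).inv X

open scoped Obj in
instance isMonHom_bcc_inv (g : T' ⟶ T) (t : T ⟶ Z) (t' : T' ⟶ Z) (h : g ≫ t = t') (X : Over Z)
    [GrpObj X] : IsMonHom (bcc g t t' h X).inv := by
  infer_instance

end bcc

section central

variable {S S' : Scheme.{u}} (p : S' ⟶ S)

noncomputable local instance instGrpHom' (G : Over S) [GrpObj G] (A : Over S') :
    Group (A ⟶ (Over.pullback p).obj G) := Hom.group

/-- the base change of a central homomorphism is central -/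
theorem central_bc {H G : Over S} [GrpObj H] [GrpObj G] (v : H ⟶ G)
    (hc : ∀ (X : Over S) (x : X ⟶ H) (g : X ⟶ G), (x ≫ v) * g = g * (x ≫ v))
    (X : Over S') (x : X ⟶ Red.bc p H) (g : X ⟶ Red.bc p G) :
    (x ≫ (Over.pullback p).map v) * g = g * (x ≫ (Over.pullback p).map v) := by
  apply ((Over.mapPullbackAdj p).homEquiv X G).symm.injective
  rw [homEquiv_symm_mul, homEquiv_symm_mul]
  have e : ((Over.mapPullbackAdj p).homEquiv X G).symm (x ≫ (Over.pullback p).map v) =
      ((Over.mapPullbackAdj p).homEquiv X H).symm x ≫ v := by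
    rw [Adjunction.homEquiv_naturality_right_symm]
  rw [e]
  exact hc _ _ _

end central

end Groth.Agent.Lib.Helper9.RC
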