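import Groth.Agent.Lib.Helper9.RC7

set_option backward.isDefEq.respectTransparency false
set_option maxHeartbeats 800000
set_option synthInstance.maxHeartbeats 400000
set_option autoImplicit false
set_option linter.unusedSectionVars false
set_option linter.unusedVariables false
universe u
open CategoryTheory CategoryTheory.Limits AlgebraicGeometry Opposite MonoidalCategory CartesianMonoidalCategory

namespace Groth.Agent.Lib.Helper9.RC

open MonObj
open Groth.Agent.Lib.Helper9.GalGrp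
open Groth.Agent.Lib.Helper14

section univ

variable {S S' : Scheme.{u}} (f : S' ⟶ S) [Flat f] [Surjective f]
  (hcov : ∀ V : S.Opens, IsAffineOpen V →
      ∃ W : S'.Opens, IsCompact (W : Set S') ∧ f.base '' (W : Set S') = (V : Set S))
  (G : Over S) [GrpObj G] (Z' : Over S') [GrpObj Z']
  (z' : Z' ⟶ Red.bc f G) [IsMonHom z'] [Mono z']
  (Z₀ : Over S) [GrpObj Z₀] (z : Z₀ ⟶ G) [IsMonHom z] (e : Red.bc f Z₀ ≅ Z')
  (he : e.hom ≫ z' = (Over.pullback f).map z)
  (hU : ∀ (S'' : Scheme.{u}) (f' : S'' ⟶ S') (H : Over S'') [GrpObj H]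
      (v : H ⟶ Red.bc f' (Red.bc f G)) [IsMonHom v], SGA3x.IsMultTypeFT H →
      (∀ (X : Over S'') (x : X ⟶ H) (g : X ⟶ Red.bc f' (Red.bc f G)), (x ≫ v) * g = g * (x ≫ v)) →
      ∃ w : H ⟶ Red.bc f' Z', w ≫ (Over.pullback f').map z' = v)

include he hcov hU in
theorem univ_z {S₁ : Scheme.{u}} (f₁ : S₁ ⟶ S) (H : Over S₁) [GrpObj H] (v : H ⟶ Red.bc f₁ G)
    [IsMonHom v] (hH : SGA3x.IsMultTypeFT H)
    (hcv : ∀ (X : Over S₁) (x : X ⟶ H) (g : X ⟶ Red.bc f₁ G), (x ≫ v) * g = g * (x ≫ v)) :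
    ∃ w : H ⟶ Red.bc f₁ Z₀, w ≫ (Over.pullback f₁).map z = v := by
  let q₁ : pullback f₁ f ⟶ S₁ := pullback.fst f₁ f
  let q₂ : pullback f₁ f ⟶ S' := pullback.snd f₁ f
  have hq : q₁ ≫ f₁ = q₂ ≫ f := pullback.condition
  have hf := mem_fpqc_of_cov f hcov
  have hf₁ : Presieve.ofArrows (fun _ : PUnit.{u + 1} => pullback f₁ f) (fun _ => q₁) ∈
      Scheme.fpqcPrecoverage S₁ :=
    Scheme.fpqcPrecoverage.mem_coverings_of_isPullback (fun _ : PUnit.{u + 1} => f) hf f₁ _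
      (fun _ => q₂) (fun _ => IsPullback.of_hasPullback f₁ f)
  haveI : Mono z := mono_z f G Z' z' Z₀ z e he
  haveI : Mono ((Over.pullback f₁).map z) := inferInstance
  let c₁ := cmp q₁ f₁ q₂ f hq G
  let vH : Red.bc q₁ H ⟶ Red.bc q₂ (Red.bc f G) := (Over.pullback q₁).map v ≫ c₁.hom
  haveI : IsMonHom vH := by
    change IsMonHom ((Over.pullback q₁).map v ≫ c₁.hom)
    infer_instance
  have hMT' : SGA3x.IsMultTypeFT (Red.bc q₁ H) := MTSplitD.locTriv_bc H _ hH q₁
  have hcen : ∀ (X : Over (pullback f₁ f)) (x : X ⟶ Red.bc q₁ H)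
      (g : X ⟶ Red.bc q₂ (Red.bc f G)), (x ≫ vH) * g = g * (x ≫ vH) := by
    intro X x g
    have hg : g = (g ≫ c₁.inv) ≫ c₁.hom := by simp
    have e1 : x ≫ vH = (x ≫ (Over.pullback q₁).map v) ≫ c₁.hom := by
      simp [vH]
    rw [e1, hg, ← MonObj.mul_comp, ← MonObj.mul_comp]
    congr 1
    exact central_bc q₁ v hcv X x (g ≫ c₁.inv)
  obtain ⟨w₂, hw₂⟩ := hU _ q₂ (Red.bc q₁ H) vH hMT' hcen
  let c₂ := cmp q₁ f₁ q₂ f hq Z₀
  refine factor_of_bc q₁ hf₁ ((Over.pullback f₁).map z) v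
    (w₂ ≫ (Over.pullback q₂).map e.inv ≫ c₂.inv) ?_
  have nat := cmp_natural q₁ f₁ q₂ f hq z
  have nat' : c₂.inv ≫ (Over.pullback q₁).map ((Over.pullback f₁).map z) =
      (Over.pullback q₂).map ((Over.pullback f).map z) ≫ c₁.inv := by
    rw [Iso.inv_comp_eq, ← Category.assoc, Iso.eq_comp_inv]
    exact nat
  have hE : (Over.pullback q₂).map e.inv ≫ (Over.pullback q₂).map ((Over.pullback f).map z) =
      (Over.pullback q₂).map z' := by
    rw [← Functor.map_comp, he' f G Z' z' Z₀ z e he]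
  calc (w₂ ≫ (Over.pullback q₂).map e.inv ≫ c₂.inv) ≫
        (Over.pullback q₁).map ((Over.pullback f₁).map z)
      = w₂ ≫ (Over.pullback q₂).map e.inv ≫
          (c₂.inv ≫ (Over.pullback q₁).map ((Over.pullback f₁).map z)) := by
        simp only [Category.assoc]
    _ = w₂ ≫ ((Over.pullback q₂).map e.inv ≫ (Over.pullback q₂).map ((Over.pullback f).map z)) ≫
          c₁.inv := by
        rw [nat']; simp only [Category.assoc]
    _ = (w₂ ≫ (Over.pullback q₂).map z') ≫ c₁.inv := by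
        rw [hE, Category.assoc]
    _ = (Over.pullback q₁).map v := by
        rw [hw₂]
        simp [vH]

end univ

end Groth.Agent.Lib.Helper9.RC
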