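import Mathlib
import Groth.Prelude.Def_GalTw2
import Groth.Agent.Lib.Helper27.GalTwDesc
import Groth.Agent.Lib.Helper27.GalTwGrp
import Groth.Agent.Lib.Helper9.GalGrp1

set_option backward.isDefEq.respectTransparency false
set_option maxHeartbeats 800000
set_option synthInstance.maxHeartbeats 400000
set_option autoImplicit false
set_option linter.unusedSectionVars false
set_option linter.unusedVariables false
universe u
open CategoryTheory CategoryTheory.Limits AlgebraicGeometry Opposite MonoidalCategory CartesianMonoidalCategory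

namespace Groth.Agent.Lib.Helper9.GalGrp

open GalTw MonObj
open Groth.Agent.Lib.Helper27.GalTwDesc

section fix

variable {k : Type u} [Field k] {K : Type u} [Field K] [Algebra k K]
variable {G₀ : Over (Spec (CommRingCat.of k))} [GrpObj G₀]
variable (a : GpH1.OneCocycle (K ≃ₐ[k] K) (Aut (bcK K G₀))) (ha : ∀ σ : K ≃ₐ[k] K, a σ ∈ grpAuts K G₀)

noncomputable instance instGrpHomK' (T : Over (Spec (CommRingCat.of k))) :
    Group (bcK K T ⟶ bcK K G₀) := Hom.group

/-- the twisted action on `Hom(T_K, G₀_K)` as a monoid hom -/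
noncomputable def twM (σ : K ≃ₐ[k] K) (T : Over (Spec (CommRingCat.of k))) :
    (bcK K T ⟶ bcK K G₀) →* (bcK K T ⟶ bcK K G₀) where
  toFun x := twHom σ x ≫ (a σ).hom
  map_one' := by
    haveI : IsMonHom (a σ).hom := ha σ
    rw [twHom_one', MonObj.one_comp]
  map_mul' x y := by
    haveI : IsMonHom (a σ).hom := ha σ
    rw [twHom_mul', MonObj.mul_comp]

/-- the subgroup of fixed points -/
noncomputable def Fix (T : Over (Spec (CommRingCat.of k))) : Subgroup (bcK K T ⟶ bcK K G₀) :=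
  ⨅ σ : K ≃ₐ[k] K, (twM a ha σ T).eqLocus (MonoidHom.id _)

theorem mem_Fix (T : Over (Spec (CommRingCat.of k))) (x : bcK K T ⟶ bcK K G₀) :
    x ∈ Fix a ha T ↔ ∀ σ : K ≃ₐ[k] K, twHom σ x ≫ (a σ).hom = x := by
  unfold Fix
  rw [Subgroup.mem_iInf]
  rfl

/-- precomposition as a monoid hom -/
noncomputable def preM {T T' : Over (Spec (CommRingCat.of k))} (u : T' ⟶ T) :
    (bcK K T ⟶ bcK K G₀) →* (bcK K T' ⟶ bcK K G₀) where
  toFun x := bcMap u ≫ x
  map_one' := MonObj.comp_one _
  map_mul' x y := MonObj.comp_mul _ _ _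

theorem preM_mem {T T' : Over (Spec (CommRingCat.of k))} (u : T' ⟶ T) (x : bcK K T ⟶ bcK K G₀)
    (hx : x ∈ Fix a ha T) : bcMap u ≫ x ∈ Fix a ha T' := by
  rw [mem_Fix] at hx ⊢
  intro σ
  rw [twHom_comp, twHom_bcMap, Category.assoc, hx σ]

/-- restriction of precomposition to fixed points -/
noncomputable def resM {T T' : Over (Spec (CommRingCat.of k))} (u : T' ⟶ T) :
    Fix a ha T →* Fix a ha T' :=
  ((preM (K := K) (G₀ := G₀) u).comp (Fix a ha T).subtype).codRestrict (Fix a ha T')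
    (fun x => preM_mem a ha u x.1 x.2)

theorem resM_coe {T T' : Over (Spec (CommRingCat.of k))} (u : T' ⟶ T) (x : Fix a ha T) :
    (resM a ha u x : bcK K T' ⟶ bcK K G₀) = bcMap u ≫ x.1 := rfl

/-- the presheaf of groups of fixed points -/
noncomputable def FixF : (Over (Spec (CommRingCat.of k)))ᵒᵖ ⥤ GrpCat.{u} where
  obj T := GrpCat.of (Fix a ha T.unop)
  map u := GrpCat.ofHom (resM a ha u.unop)
  map_id T := by
    ext x
    refine congrArg Over.Hom.left ?_
    change bcMap (𝟙 _) ≫ x.1 = x.1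
    rw [bcMap_id, Category.id_comp]
  map_comp u v := by
    ext x
    refine congrArg Over.Hom.left ?_
    change bcMap (v.unop ≫ u.unop) ≫ x.1 = bcMap v.unop ≫ bcMap u.unop ≫ x.1
    rw [bcMap_comp, Category.assoc]

section rep

variable [FiniteDimensional k K] [IsGalois k K]
variable {G : Over (Spec (CommRingCat.of k))} (φ : bcK K G ≅ bcK K G₀)
  (hφ : ∀ σ : K ≃ₐ[k] K, cocycle φ σ = a σ)

include hφ in
theorem tw_inv (σ : K ≃ₐ[k] K) : twHom σ φ.inv ≫ φ.hom = (a σ).hom := by
  rw [← hφ σ]; rfl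

include hφ in
theorem mem_of_bcMap (T : Over (Spec (CommRingCat.of k))) (g : T ⟶ G) :
    bcMap g ≫ φ.hom ∈ Fix a ha T := by
  rw [mem_Fix]
  intro σ
  have e : twHom σ φ.hom ≫ twHom σ φ.inv = 𝟙 _ := by
    rw [← twHom_comp, φ.hom_inv_id, twHom_id]
  rw [twHom_comp, twHom_bcMap, Category.assoc, ← tw_inv a φ hφ σ, reassoc_of% e]

include hφ in
theorem exists_of_mem (T : Over (Spec (CommRingCat.of k))) (x : bcK K T ⟶ bcK K G₀)
    (hx : x ∈ Fix a ha T) : ∃ g : T ⟶ G, bcMap g ≫ φ.hom = x := by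
  rw [mem_Fix] at hx
  obtain ⟨g, hg⟩ := exists_bcMap_eq (x ≫ φ.inv) (fun σ => by
    rw [twHom_comp]
    have h1 := hx σ
    rw [← tw_inv a φ hφ σ, ← Category.assoc] at h1
    have h2 := congrArg (fun t => t ≫ φ.inv) h1
    simp only [Category.assoc, φ.hom_inv_id, Category.comp_id] at h2
    exact h2)
  exact ⟨g, by rw [hg, Category.assoc, φ.inv_hom_id, Category.comp_id]⟩

/-- the bijection `Hom(T, G) ≃ Fix(T)` -/
noncomputable def hEquiv (T : Over (Spec (CommRingCat.of k))) : (T ⟶ G) ≃ Fix a ha T :=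
  Equiv.ofBijective (fun g => ⟨bcMap g ≫ φ.hom, mem_of_bcMap a ha φ hφ T g⟩)
    ⟨fun g g' h => by
      have h1 : bcMap (K := K) g ≫ φ.hom = bcMap g' ≫ φ.hom := congrArg Subtype.val h
      exact bcMap_injective (K := K) ((cancel_mono φ.hom).mp h1),
     fun x => by
      obtain ⟨g, hg⟩ := exists_of_mem a ha φ hφ T x.1 x.2
      exact ⟨g, Subtype.ext hg⟩⟩

theorem hEquiv_coe (T : Over (Spec (CommRingCat.of k))) (g : T ⟶ G) :
    (hEquiv a ha φ hφ T g : bcK K T ⟶ bcK K G₀) = bcMap g ≫ φ.hom := rfl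

/-- `G` represents the presheaf of fixed points -/
noncomputable def rep : (FixF a ha ⋙ forget GrpCat).RepresentableBy G where
  homEquiv {T} := hEquiv a ha φ hφ T
  homEquiv_comp {T T'} u g := by
    apply Subtype.ext
    change bcMap (u ≫ g) ≫ φ.hom = bcMap u ≫ bcMap g ≫ φ.hom
    rw [bcMap_comp, Category.assoc]

/-- the group structure on the twisted form -/
@[instance_reducible]
noncomputable def grpObj : GrpObj G := GrpObj.ofRepresentableBy G (FixF a ha) (rep a ha φ hφ)

theorem bcMap_mul (T : Over (Spec (CommRingCat.of k))) (g g' : T ⟶ G) :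
    letI := grpObj a ha φ hφ
    bcMap (K := K) (g * g') ≫ φ.hom = (bcMap g ≫ φ.hom) * (bcMap g' ≫ φ.hom) := by
  letI := grpObj a ha φ hφ
  have h := ((yonedaGrpObjIsoOfRepresentableBy G (FixF a ha) (rep a ha φ hφ)).hom.app (op T)).hom.map_mul g g'
  exact congrArg Subtype.val h

end rep

end fix

end Groth.Agent.Lib.Helper9.GalGrp
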