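import Mathlib
import Groth.Prelude.Def_GalTw2
import Groth.Agent.Lib.Helper27.GalTwDesc
import Groth.Agent.Lib.Helper27.GalTwGrp
import Groth.Agent.Lib.Helper9.GalGrp2

set_option backward.isDefEq.respectTransparency false
set_option maxHeartbeats 800000
set_option synthInstance.maxHeartbeats 400000
set_option autoImplicit false
set_option linter.unusedSectionVars false
set_option linter.unusedVariables false
universe u
open CategoryTheory CategoryTheory.Limits AlgebraicGeometry Opposite MonoidalCategory CartesianMonoidalCategory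

namespace Groth.Agent.Lib.Helper9.GalGrp

open GalTw MonObj
open Groth.Agent.Lib.Helper27.GalTwDesc

section crit

universe v₁ u₁
variable {C : Type u₁} [Category.{v₁} C] [CartesianMonoidalCategory C]

theorem isMonHom_of_hom {M N : C} [MonObj M] [MonObj N] (f : M ⟶ N)
    (h1 : ∀ X : C, (1 : X ⟶ M) ≫ f = 1)
    (hm : ∀ (X : C) (a b : X ⟶ M), (a * b) ≫ f = a ≫ f * b ≫ f) : IsMonHom f where
  one_hom := by
    have h := h1 (𝟙_ C)
    rw [Hom.one_def, Hom.one_def] at h
    have e : toUnit (𝟙_ C) = 𝟙 _ := toUnit_unique _ _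
    rw [e, Category.id_comp, Category.id_comp] at h
    exact h
  mul_hom := by
    have h := hm (M ⊗ M) (fst M M) (snd M M)
    rw [Hom.mul_def, Hom.mul_def, lift_fst_snd, Category.id_comp] at h
    rw [h]
    congr 1
    ext <;> simp

end crit

section main

variable {k : Type u} [Field k] {K : Type u} [Field K] [Algebra k K]
variable {G₀ : Over (Spec (CommRingCat.of k))} [GrpObj G₀]
variable (a : GpH1.OneCocycle (K ≃ₐ[k] K) (Aut (bcK K G₀))) (ha : ∀ σ : K ≃ₐ[k] K, a σ ∈ grpAuts K G₀)
variable [FiniteDimensional k K] [IsGalois k K]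
variable {G : Over (Spec (CommRingCat.of k))} (φ : bcK K G ≅ bcK K G₀)
  (hφ : ∀ σ : K ≃ₐ[k] K, cocycle φ σ = a σ)

theorem bcMap_one (T : Over (Spec (CommRingCat.of k))) :
    letI := grpObj a ha φ hφ
    bcMap (K := K) (1 : T ⟶ G) ≫ φ.hom = 1 := by
  letI := grpObj a ha φ hφ
  have h := ((yonedaGrpObjIsoOfRepresentableBy G (FixF a ha) (rep a ha φ hφ)).hom.app (op T)).hom.map_one
  exact congrArg Subtype.val h

theorem isMonHom_φ :
    letI := grpObj a ha φ hφ
    IsMonHom φ.hom := by
  letI := grpObj a ha φ hφ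
  apply isMonHom_of_hom
  · intro A
    have e1 : (1 : A ⟶ bcK K G) =
        (Over.mapPullbackAdj (SGA7.pt (K := k) K).hom).homEquiv A G 1 := (homEquiv_one _ G A).symm
    rw [e1, Adjunction.homEquiv_unit, Category.assoc]
    have := bcMap_one a ha φ hφ ((Over.map (SGA7.pt (K := k) K).hom).obj A)
    change _ ≫ bcMap (K := K) 1 ≫ φ.hom = 1
    rw [this, MonObj.comp_one]
  · intro A x y
    let e := (Over.mapPullbackAdj (SGA7.pt (K := k) K).hom).homEquiv A G
    have hx : x = e (e.symm x) := (e.apply_symm_apply x).symm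
    have hy : y = e (e.symm y) := (e.apply_symm_apply y).symm
    have hxy : x * y = e (e.symm x * e.symm y) := by
      rw [homEquiv_mul, ← hx, ← hy]
    have e2 : ∀ z, e z = (Over.mapPullbackAdj (SGA7.pt (K := k) K).hom).unit.app A ≫ bcMap (K := K) z :=
      fun z => Adjunction.homEquiv_unit _ _ _ _
    rw [hxy, e2, Category.assoc, bcMap_mul a ha φ hφ, MonObj.comp_mul]
    congr 1
    · conv_rhs => rw [hx, e2, Category.assoc]
    · conv_rhs => rw [hy, e2, Category.assoc]

end main

end Groth.Agent.Lib.Helper9.GalGrp
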