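import Groth.Agent.Lib.Helper9.MonomialIdeal
import Mathlib.Algebra.MvPolynomial.Rename

set_option autoImplicit false
universe u v
open W4c1hilbpn MvPolynomial

namespace Groth.Agent.Lib.Helper9

variable {σ : Type v} {k : Type u} [Field k]

/-- Membership in a monomial ideal can be checked on the support. -/
theorem mem_iff_support_subset_exps (I : Ideal (MvPolynomial σ k)) (hI : IsMonomial I)
    (p : MvPolynomial σ k) : p ∈ I ↔ ∀ β ∈ p.support, β ∈ exps I := by
  constructor
  · intro hp β hβ
    exact hI p hp β hβ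
  · intro h
    rw [as_sum p]
    refine Submodule.sum_mem _ fun β hβ => ?_
    have h1 : monomial β (coeff β p) = coeff β p • monomial β (1 : k) := by
      rw [smul_monomial, smul_eq_mul, mul_one]
    rw [h1]
    exact Submodule.smul_of_tower_mem I _ (h β hβ)

/-- Membership of `q * x^γ` in a monomial ideal. -/
theorem mul_monomial_mem_iff (I : Ideal (MvPolynomial σ k)) (hI : IsMonomial I)
    (q : MvPolynomial σ k) (γ : σ →₀ ℕ) :
    q * monomial γ (1 : k) ∈ I ↔ ∀ β ∈ q.support, β + γ ∈ exps I := by
  constructor
  · intro hq β hβ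
    apply hI _ hq
    rw [mem_support_iff, coeff_mul_monomial, mul_one]
    exact mem_support_iff.mp hβ
  · intro h
    have hq : q * monomial γ (1 : k) =
        ∑ β ∈ q.support, monomial β (coeff β q) * monomial γ (1 : k) := by
      conv_lhs => rw [as_sum q]
      rw [Finset.sum_mul]
    rw [hq]
    refine Submodule.sum_mem _ fun β hβ => ?_
    rw [monomial_mul, mul_one]
    have h1 : monomial (β + γ) (coeff β q) = coeff β q • monomial (β + γ) (1 : k) := by
      rw [smul_monomial, smul_eq_mul, mul_one]
    rw [h1]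
    exact Submodule.smul_of_tower_mem I _ (h β hβ)

/-- The embedding of exponent vectors of `k[y,z]` in those of `k[x,y,z]` used for slices. -/
theorem mapDomain_succ_add_single (β : Fin 2 →₀ ℕ) (a : ℕ) :
    Finsupp.mapDomain Fin.succ β + Finsupp.single (0 : Fin 3) a = e3 a (β 0) (β 1) := by
  ext x
  refine Fin.cases ?_ (fun y => ?_) x
  · rw [Finsupp.add_apply, Finsupp.mapDomain_of_notMem_range, Finsupp.single_eq_same, zero_add]
    · rfl
    · rintro ⟨y, hy⟩
      exact Fin.succ_ne_zero y hy
  · rw [Finsupp.add_apply, Finsupp.mapDomain_apply (Fin.succ_injective _),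
      Finsupp.single_eq_of_ne (Fin.succ_ne_zero y), add_zero]
    fin_cases y <;> rfl

/-- Membership in a slice of a monomial ideal. -/
theorem mem_sliceX_iff (I : Ideal (MvPolynomial (Fin 3) k)) (hI : IsMonomial I)
    (f : MvPolynomial (Fin 2) k) (a : ℕ) :
    f ∈ sliceX I a ↔ ∀ β ∈ f.support, e3 a (β 0) (β 1) ∈ exps I := by
  classical
  unfold sliceX
  rw [Ideal.mem_comap, Submodule.mem_colon_singleton, smul_eq_mul, X_pow_eq_monomial,
    mul_monomial_mem_iff I hI]
  show (∀ β ∈ (rename Fin.succ f).support, _) ↔ _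
  rw [support_rename_of_injective (Fin.succ_injective _)]
  constructor
  · intro h β hβ
    have := h _ (Finset.mem_image_of_mem _ hβ)
    rwa [mapDomain_succ_add_single] at this
  · intro h γ hγ
    obtain ⟨β, hβ, rfl⟩ := Finset.mem_image.mp hγ
    rw [mapDomain_succ_add_single]
    exact h β hβ

end Groth.Agent.Lib.Helper9
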