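import Groth.Agent.Lib.Helper9.PhSheaf1
import Groth.Prelude.Def_MoreMor

namespace Groth.Agent.Lib.Helper9.VCov

open CategoryTheory CategoryTheory.Limits AlgebraicGeometry TopologicalSpace IsLocalRing

universe u w w' v

set_option backward.isDefEq.respectTransparency.types false in
theorem isPhCover_singleton_of_proper_surjective {X Y : Scheme.{u}} (f : X ⟶ Y) [IsProper f]
    [Surjective f] : HTop.IsPhCover (PreZeroHypercover.singleton.{w} f) := by
  classical
  refine ⟨fun _ => (inferInstance : LocallyOfFiniteType f), ?_⟩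
  intro U
  have hc : IsCompact (f ⁻¹ᵁ U.1 : Set X) := f.isCompact_preimage U.2.isCompact
  obtain ⟨s, hs, e⟩ := isCompact_iff_finite_and_eq_biUnion_affineOpens.mp hc
  let n := hs.toFinset.card
  let idx : Fin n → X.affineOpens := fun k => (hs.toFinset.equivFin.symm k).1
  have hidx : ∀ k, idx k ∈ s := fun k => hs.mem_toFinset.mp (hs.toFinset.equivFin.symm k).2
  have hle : ∀ k, (idx k).1 ≤ f ⁻¹ᵁ U.1 := by
    intro k x hx
    change x ∈ f ⁻¹ᵁ U.1
    rw [e]
    exact Opens.mem_iSup.mpr ⟨idx k, Opens.mem_iSup.mpr ⟨hidx k, hx⟩⟩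
  let F : PreZeroHypercover.{0} (U.1 : Scheme.{u}) :=
    { I₀ := Fin n
      X := fun k => ((idx k).1 : Scheme.{u})
      f := fun k => X.homOfLE (hle k) ≫ (f ∣_ U.1) }
  have hF : ∀ k, F.f k ≫ U.1.ι = (idx k).1.ι ≫ f := fun k => by
    change (X.homOfLE (hle k) ≫ (f ∣_ U.1)) ≫ U.1.ι = _
    rw [Category.assoc, morphismRestrict_ι, ← Category.assoc, Scheme.homOfLE_ι]
  refine ⟨F, ⟨U.2, inferInstanceAs (Finite (Fin n)), fun k => (idx k).2, ?_⟩, ?_⟩
  · refine ⟨(f ⁻¹ᵁ U.1 : Scheme.{u}), f ∣_ U.1, fun k => X.homOfLE (hle k),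
      IsZariskiLocalAtTarget.restrict ‹IsProper f› U.1,
      IsZariskiLocalAtTarget.restrict ‹Surjective f› U.1,
      fun k => inferInstance, fun k => rfl, fun x => ?_⟩
    obtain ⟨x₀, hx₀⟩ : ∃ x₀ : X, x₀ = (f ⁻¹ᵁ U.1).ι x := ⟨_, rfl⟩
    have hx : x₀ ∈ ⨆ i ∈ s, (i : X.Opens) := by
      rw [← e, hx₀]
      have : (f ⁻¹ᵁ U.1).ι x ∈ Set.range (f ⁻¹ᵁ U.1).ι := ⟨x, rfl⟩
      rwa [Scheme.Opens.range_ι] at this
    obtain ⟨V, hV'⟩ := Opens.mem_iSup.mp hx
    obtain ⟨hVs, hV⟩ := Opens.mem_iSup.mp hV'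
    let k : Fin n := hs.toFinset.equivFin ⟨V, hs.mem_toFinset.mpr hVs⟩
    have hk : idx k = V := by simp [idx, k]
    refine ⟨k, ⟨⟨x₀, by rw [hk]; exact hV⟩, ?_⟩⟩
    apply (f ⁻¹ᵁ U.1).ι.isOpenEmbedding.injective
    rw [← hx₀]
    change (X.homOfLE (hle k) ≫ (f ⁻¹ᵁ U.1).ι) _ = x₀
    rw [Scheme.homOfLE_ι]
    rfl
  · intro k
    exact ⟨PUnit.unit, (idx k).1.ι, (hF k).symm⟩

theorem bijective_map_of_mono_of_isSheafFor {C : Type*} [Category C] (F : Cᵒᵖ ⥤ Type v)
    {X X' : C} (f : X ⟶ X') [Mono f] (h : Presieve.IsSheafFor F (Presieve.singleton f)) :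
    Function.Bijective (F.map f.op) := by
  rw [← Presieve.ofArrows_pUnit.{0}, Presieve.isSheafFor_arrows_iff] at h
  constructor
  · intro a b hab
    obtain ⟨t, -, ht⟩ := h (fun _ => F.map f.op a) (by
      intro i j Z gi gj hg
      have : gi = gj := (cancel_mono f).mp hg
      rw [this])
    rw [ht a (fun _ => rfl), ht b (fun _ => hab.symm)]
  · intro s
    obtain ⟨t, ht, -⟩ := h (fun _ => s) (by
      intro i j Z gi gj hg
      have : gi = gj := (cancel_mono f).mp hg
      rw [this])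
    exact ⟨t, ht ⟨⟩⟩

/-- sheaf condition over a base for families whose underlying family is covering. -/
theorem isSheafFor_ofArrows_over {J : Precoverage Scheme.{u}} (S : Scheme.{u})
    (F : (Over S)ᵒᵖ ⥤ Type v) (hF : Presieve.IsSheaf (J.toGrothendieck.over S) F) {Y : Over S}
    {I : Type w} (Z : I → Over S) (g : ∀ i, Z i ⟶ Y)
    (h : Presieve.ofArrows (fun i => (Z i).left) (fun i => (g i).left) ∈ J Y.left) :
    Presieve.IsSheafFor F (Presieve.ofArrows Z g) := by
  rw [Presieve.isSheafFor_iff_generate]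
  apply hF
  rw [GrothendieckTopology.mem_over_iff, ← Sieve.ofArrows, Sieve.overEquiv_ofArrows]
  exact Precoverage.generate_mem_toGrothendieck h

theorem isSheafFor_singleton_over {J : Precoverage Scheme.{u}} (S : Scheme.{u})
    (F : (Over S)ᵒᵖ ⥤ Type v) (hF : Presieve.IsSheaf (J.toGrothendieck.over S) F) {X Y : Over S}
    (f : X ⟶ Y) (h : Presieve.singleton f.left ∈ J Y.left) :
    Presieve.IsSheafFor F (Presieve.singleton f) := by
  rw [← Presieve.ofArrows_pUnit.{0}]
  apply isSheafFor_ofArrows_over S F hF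
  rw [Presieve.ofArrows_pUnit.{0}]
  exact h

/-- S8991 -/
theorem phSheaf_map_bijective_of_thickening (S : Scheme.{u}) (F : HTop.ShPh S) {X X' : Over S}
    (f : X ⟶ X') (hf : MoreMor.IsThickening f.left) : Function.Bijective (F.obj.map f.op) := by
  haveI := hf.1
  haveI := hf.2
  haveI : Mono f := (Over.forget S).mono_of_mono_map (inferInstanceAs (Mono f.left))
  apply bijective_map_of_mono_of_isSheafFor
  apply isSheafFor_singleton_over S F.obj ((isSheaf_iff_isSheaf_of_type _ _).mp F.property)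
  rw [← PreZeroHypercover.presieve₀_singleton.{_, _, 0} f.left,
    HTop.presieve₀_mem_phPrecoverage_iff]
  exact isPhCover_singleton_of_proper_surjective f.left

/-- S8988 -/
theorem hSheaf_map_bijective_of_thickening (S : Scheme.{u}) (F : HTop.ShH S) {X X' : Over S}
    (f : X ⟶ X') (hf : MoreMor.IsThickening f.left) [LocallyOfFinitePresentation f.left] :
    Function.Bijective (F.obj.map f.op) := by
  haveI := hf.1
  haveI := hf.2
  haveI : Mono f := (Over.forget S).mono_of_mono_map (inferInstanceAs (Mono f.left))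
  apply bijective_map_of_mono_of_isSheafFor
  apply isSheafFor_singleton_over S F.obj ((isSheaf_iff_isSheaf_of_type _ _).mp F.property)
  rw [← PreZeroHypercover.presieve₀_singleton.{_, _, 0} f.left,
    HTop.presieve₀_mem_hPrecoverage_iff]
  exact isHCover_singleton_of_proper_surjective f.left

end Groth.Agent.Lib.Helper9.VCov
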