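import Mathlib
import Groth.Prelude.Def_AlgSpInf
import Groth.Agent.Lib.Helper9.PhSheaf2
import Groth.Agent.Lib.Helper3.AlgSpProper
import Groth.Agent.S9883

set_option autoImplicit false
set_option backward.isDefEq.respectTransparency.types false
universe u
open CategoryTheory CategoryTheory.Limits AlgebraicGeometry IsLocalRing Opposite
open AlgSp
open Groth.Agent.Lib.Helper3

namespace Groth.Agent.Lib.Helper9.AlgSpFU

variable {S : Scheme.{u}}

/-- maps from a representable sheaf to a sheaf agree if they agree on a Zariski open cover -/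
theorem hom_ext_of_openCover {F : Sp S} {V : Over S} (𝒰 : V.left.OpenCover)
    (x x' : (yon S).obj V ⟶ F)
    (h : ∀ i, (yon S).map (Over.homMk (𝒰.f i) rfl : Over.mk (𝒰.f i ≫ V.hom) ⟶ V) ≫ x =
      (yon S).map (Over.homMk (𝒰.f i) rfl : Over.mk (𝒰.f i ≫ V.hom) ⟶ V) ≫ x') : x = x' := by
  apply (AlgSp.J S).uliftYonedaEquiv.{u+1}.injective
  have hsh : Presieve.IsSheafFor F.obj (Presieve.ofArrows (fun i => Over.mk (𝒰.f i ≫ V.hom))
      (fun i => (Over.homMk (𝒰.f i) rfl : Over.mk (𝒰.f i ≫ V.hom) ⟶ V))) := by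
    apply Groth.Agent.Lib.Helper9.VCov.isSheafFor_ofArrows_over S F.obj
      ((isSheaf_iff_isSheaf_of_type _ _).mp F.property)
    change Presieve.ofArrows 𝒰.X 𝒰.f ∈ Scheme.fppfPrecoverage V.left
    rw [Scheme.fppfPrecoverage, Scheme.ofArrows_mem_precoverage_iff]
    refine ⟨fun y => ⟨𝒰.idx y, 𝒰.covers y⟩, fun i => ⟨inferInstance, inferInstance⟩⟩
  apply hsh.isSeparatedFor.ext
  rintro Y f ⟨i⟩
  have := congrArg (AlgSp.J S).uliftYonedaEquiv.{u+1} (h i)
  rw [← (AlgSp.J S).uliftYonedaEquiv_naturality, ← (AlgSp.J S).uliftYonedaEquiv_naturality] at this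
  exact this


/-- A square-zero closed immersion into an affine scheme over `S` is isomorphic over `S` to a
standard pair `Spec (A ⧸ I) ⟶ Spec A`. -/
theorem exists_infSq_data {V W : Over S} (hV : IsAffine V.left) (s : W ⟶ V)
    (hs : IsClosedImmersion s.left) (hK : sqZero s.left) :
    ∃ (A : Type u) (_ : CommRing A) (I : Ideal A) (_ : I ^ 2 = ⊥) (str : Spec (.of A) ⟶ S)
      (E' : V ≅ Over.mk str)
      (E : W ≅ Over.mk (Spec.map (CommRingCat.ofHom (Ideal.Quotient.mk I)) ≫ str)),
      E.hom ≫ (Over.homMk (Spec.map (CommRingCat.ofHom (Ideal.Quotient.mk I))) rfl :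
        Over.mk (Spec.map (CommRingCat.ofHom (Ideal.Quotient.mk I)) ≫ str) ⟶ Over.mk str) =
        s ≫ E'.hom := by
  have : IsAffine V.left := hV
  have : IsClosedImmersion s.left := hs
  let e' : V.left ≅ Spec Γ(V.left, ⊤) := V.left.isoSpec
  have hci : IsClosedImmersion (s.left ≫ e'.hom) := inferInstance
  obtain ⟨I, e, hg⟩ := (IsClosedImmersion.Spec_iff (f := s.left ≫ e'.hom)).mp hci
  have hKK : ∀ x y : Γ(V.left, ⊤), s.left.appTop x = 0 → s.left.appTop y = 0 → x * y = 0 := by
    intro x y hx hy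
    have hker : s.left.ker * s.left.ker = ⊥ := hK
    have h1 := congrArg (fun I => I.ideal ⟨⊤, isAffineOpen_top V.left⟩) hker
    simp only [Scheme.IdealSheafData.ideal_mul, Pi.mul_apply, Scheme.Hom.ker_apply,
      Scheme.IdealSheafData.ideal_bot, Pi.bot_apply] at h1
    have h2 : x * y ∈ RingHom.ker (s.left.app ⊤).hom * RingHom.ker (s.left.app ⊤).hom :=
      Ideal.mul_mem_mul hx hy
    rw [h1] at h2
    exact h2
  have hI : I ^ 2 = ⊥ := by
    rw [pow_two, eq_bot_iff, Ideal.mul_le]
    intro x hx y hy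
    have key : ∀ z ∈ I, s.left.appTop z = 0 := by
      intro z hz
      have h1 : (s.left ≫ e'.hom).appTop ((Scheme.ΓSpecIso Γ(V.left, ⊤)).inv z) =
          s.left.appTop z := by
        rw [Scheme.Hom.comp_appTop]
        change s.left.appTop (V.left.toSpecΓ.appTop ((Scheme.ΓSpecIso Γ(V.left, ⊤)).inv z)) = _
        rw [Scheme.toSpecΓ_appTop]
        simp
      rw [← h1, hg, Scheme.Hom.comp_appTop]
      have h2 : (Spec.map (CommRingCat.ofHom (Ideal.Quotient.mk I))).appTop
          ((Scheme.ΓSpecIso Γ(V.left, ⊤)).inv z) = 0 := by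
        have := congrArg (fun φ => φ z) (congrArg (fun φ => φ.hom)
          (Scheme.ΓSpecIso_inv_naturality (CommRingCat.ofHom (Ideal.Quotient.mk I))))
        simp only [CommRingCat.hom_comp, RingHom.coe_comp, Function.comp_apply,
          CommRingCat.hom_ofHom] at this
        exact this.symm.trans (by rw [Ideal.Quotient.eq_zero_iff_mem.mpr hz, map_zero])
      change e.hom.appTop ((Spec.map (CommRingCat.ofHom (Ideal.Quotient.mk I))).appTop
        ((Scheme.ΓSpecIso Γ(V.left, ⊤)).inv z)) = 0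
      rw [h2, map_zero]
    have := hKK x y (key x hx) (key y hy)
    rw [this]
    exact Ideal.zero_mem _
  let str : Spec (.of Γ(V.left, ⊤)) ⟶ S := e'.inv ≫ V.hom
  let E' : V ≅ Over.mk str := Over.isoMk e' (by simp [str])
  have hW : e.hom ≫ (Spec.map (CommRingCat.ofHom (Ideal.Quotient.mk I)) ≫ str) = W.hom := by
    rw [← Category.assoc, ← hg, Category.assoc]
    simp only [str, Iso.hom_inv_id_assoc]
    exact Over.w s
  let E : W ≅ Over.mk (Spec.map (CommRingCat.ofHom (Ideal.Quotient.mk I)) ≫ str) :=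
    Over.isoMk e hW
  refine ⟨Γ(V.left, ⊤), inferInstance, I, hI, str, E', E, ?_⟩
  ext
  exact hg.symm

/-- uniqueness of lifts along a square-zero closed immersion into an affine scheme, for a formally
unramified map of sheaves -/
theorem uniq_of_affine_sqZero {F G : Sp S} (f : F ⟶ G) (hf : IsFormallyUnramifiedMor f)
    {V W : Over S} (hV : IsAffine V.left) (s : W ⟶ V)
    (hs : IsClosedImmersion s.left) (hK : sqZero s.left)
    (l l' : (yon S).obj V ⟶ F) (h1 : (yon S).map s ≫ l = (yon S).map s ≫ l')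
    (h2 : l ≫ f = l' ≫ f) : l = l' := by
  obtain ⟨A, _, I, hI, str, E', E, hE⟩ := exists_infSq_data hV s hs hK
  let sq : InfSq f :=
    { A := A
      I := I
      sq_zero := hI
      str := str
      top := (yon S).map E.inv ≫ (yon S).map s ≫ l
      bot := (yon S).map E'.inv ≫ l ≫ f
      comm := by
        have e1 : E.inv ≫ s = (Over.homMk (Spec.map (CommRingCat.ofHom (Ideal.Quotient.mk I))) rfl :
            Over.mk (Spec.map (CommRingCat.ofHom (Ideal.Quotient.mk I)) ≫ str) ⟶ Over.mk str) ≫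
            E'.inv := by
          rw [Iso.inv_comp_eq, ← Category.assoc, hE, Category.assoc, Iso.hom_inv_id, Category.comp_id]
        calc ((yon S).map E.inv ≫ (yon S).map s ≫ l) ≫ f
            = (yon S).map (E.inv ≫ s) ≫ l ≫ f := by
              rw [Functor.map_comp]; simp only [Category.assoc]
          _ = _ := by rw [e1, Functor.map_comp, Category.assoc] }
  have e1 : E.inv ≫ s = sq.j ≫ E'.inv := by
    rw [Iso.inv_comp_eq, ← Category.assoc]
    rw [hE, Category.assoc, Iso.hom_inv_id, Category.comp_id]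
  have key := hf sq ((yon S).map E'.inv ≫ l) ((yon S).map E'.inv ≫ l')
    (by
      change (yon S).map sq.j ≫ (yon S).map E'.inv ≫ l = (yon S).map E.inv ≫ (yon S).map s ≫ l
      rw [← Category.assoc, ← Functor.map_comp, ← e1, Functor.map_comp, Category.assoc])
    (by rw [Category.assoc])
    (by
      change (yon S).map sq.j ≫ (yon S).map E'.inv ≫ l' = (yon S).map E.inv ≫ (yon S).map s ≫ l
      rw [← Category.assoc, ← Functor.map_comp, ← e1, Functor.map_comp, Category.assoc, h1])
    (by
      change ((yon S).map E'.inv ≫ l') ≫ f = (yon S).map E'.inv ≫ l ≫ f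
      rw [Category.assoc, h2])
  have hiso : IsIso ((yon S).map E'.inv) := inferInstance
  exact (cancel_epi ((yon S).map E'.inv)).1 key

/-- S10624 -/
theorem formallyUnramified_lift_unique {X Y : Space S} (f : X ⟶ Y)
    (hf : IsFormallyUnramifiedMor f.hom) {T T' : Space S} (j : T ⟶ T') (hj : IsFOThickMor j.hom)
    (l l' : T' ⟶ X) (h1 : j ≫ l = j ≫ l') (h2 : l ≫ f = l' ≫ f) : l = l' := by
  apply ObjectProperty.hom_ext
  obtain ⟨V, p, hpe, hps⟩ := T'.property.atlas
  have hp : Sheaf.IsLocallySurjective p :=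
    Groth.Agent.S9883.isLocallySurjective_of_etale_surjective p hpe hps
  have : Epi p := inferInstance
  rw [← cancel_epi p]
  apply hom_ext_of_openCover V.left.affineCover
  intro i
  let ι : Over.mk (V.left.affineCover.f i ≫ V.hom) ⟶ V := Over.homMk (V.left.affineCover.f i) rfl
  have hιe : RepWith @Etale ((yon S).map ι) :=
    (repWith_yon_map_iff @Etale ι).2 (inferInstanceAs (Etale (V.left.affineCover.f i)))
  have hte : RepWith @Etale ((yon S).map ι ≫ p) :=
    (RepWith @Etale.{u}).comp_mem _ _ hιe hpe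
  have haff : IsAffine (Over.mk (V.left.affineCover.f i ≫ V.hom)).left :=
    inferInstanceAs (IsAffine (V.left.affineCover.X i))
  -- pull back the thickening
  obtain ⟨t, ht⟩ : ∃ t : (yon S).obj (Over.mk (V.left.affineCover.f i ≫ V.hom)) ⟶ T'.obj,
      t = (yon S).map ι ≫ p := ⟨_, rfl⟩
  rw [← ht] at hte
  obtain ⟨W, fstW, sndW, sq⟩ : ∃ (W : Over S) (fstW : (yon S).obj W ⟶ T.obj)
      (sndW : W ⟶ Over.mk (V.left.affineCover.f i ≫ V.hom)),
      IsPullback fstW ((yon S).map sndW) j.hom t := ⟨_, _, _, hj.1.rep.isPullback t⟩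
  have hthick : thick sndW.left := hj.1.2 _ _ _ sq
  have hsqz : sqZero sndW.left := hj.2 _ _ _ haff hte sq
  have h1' : j.hom ≫ l.hom = j.hom ≫ l'.hom := congrArg (fun φ => φ.hom) h1
  have h2' : l.hom ≫ f.hom = l'.hom ≫ f.hom := congrArg (fun φ => φ.hom) h2
  have key := uniq_of_affine_sqZero f.hom hf haff sndW
    hthick.1 hsqz (t ≫ l.hom) (t ≫ l'.hom)
    (by
      rw [← Category.assoc, ← Category.assoc, ← sq.w, Category.assoc, Category.assoc, h1'])
    (by
      rw [Category.assoc, Category.assoc, h2'])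
  rw [ht] at key
  simpa only [Category.assoc] using key

end Groth.Agent.Lib.Helper9.AlgSpFU
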