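import Mathlib
import Groth.Prelude.Def_AlgSpInf
import Groth.Agent.Lib.Helper9.AlgSpFU
import Groth.Agent.S9883

set_option autoImplicit false
set_option backward.isDefEq.respectTransparency.types false
universe u
open CategoryTheory CategoryTheory.Limits AlgebraicGeometry IsLocalRing Opposite
open AlgSp
open Groth.Agent.Lib.Helper3

namespace Groth.Agent.Lib.Helper9.AlgSpGlue

variable {S : Scheme.{u}}

theorem exists_glue_of_openCover {F : Sp S} {V : Over S} (𝒰 : V.left.OpenCover)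
    (x : ∀ i, (yon S).obj (Over.mk (𝒰.f i ≫ V.hom)) ⟶ F)
    (hx : ∀ i j (Z : Over S) (gi : Z ⟶ Over.mk (𝒰.f i ≫ V.hom))
      (gj : Z ⟶ Over.mk (𝒰.f j ≫ V.hom)),
      gi ≫ (Over.homMk (𝒰.f i) rfl : Over.mk (𝒰.f i ≫ V.hom) ⟶ V) =
        gj ≫ (Over.homMk (𝒰.f j) rfl : Over.mk (𝒰.f j ≫ V.hom) ⟶ V) →
      (yon S).map gi ≫ x i = (yon S).map gj ≫ x j) :
    ∃ l : (yon S).obj V ⟶ F, ∀ i,
      (yon S).map (Over.homMk (𝒰.f i) rfl : Over.mk (𝒰.f i ≫ V.hom) ⟶ V) ≫ l = x i := by
  have hsh : Presieve.IsSheafFor F.obj (Presieve.ofArrows (fun i => Over.mk (𝒰.f i ≫ V.hom))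
      (fun i => (Over.homMk (𝒰.f i) rfl : Over.mk (𝒰.f i ≫ V.hom) ⟶ V))) := by
    apply Groth.Agent.Lib.Helper9.VCov.isSheafFor_ofArrows_over S F.obj
      ((isSheaf_iff_isSheaf_of_type _ _).mp F.property)
    change Presieve.ofArrows 𝒰.X 𝒰.f ∈ Scheme.fppfPrecoverage V.left
    rw [Scheme.fppfPrecoverage, Scheme.ofArrows_mem_precoverage_iff]
    refine ⟨fun y => ⟨𝒰.idx y, 𝒰.covers y⟩, fun i => ⟨inferInstance, inferInstance⟩⟩
  rw [Presieve.isSheafFor_arrows_iff] at hsh
  obtain ⟨t, ht, -⟩ := hsh (fun i => (AlgSp.J S).uliftYonedaEquiv.{u+1} (x i)) (by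
    intro i j Z gi gj hg
    have := congrArg (AlgSp.J S).uliftYonedaEquiv.{u+1} (hx i j Z gi gj hg)
    rw [← (AlgSp.J S).uliftYonedaEquiv_naturality,
      ← (AlgSp.J S).uliftYonedaEquiv_naturality] at this
    exact this)
  refine ⟨(AlgSp.J S).uliftYonedaEquiv.{u+1}.symm t, fun i => ?_⟩
  apply (AlgSp.J S).uliftYonedaEquiv.{u+1}.injective
  rw [← (AlgSp.J S).uliftYonedaEquiv_naturality, Equiv.apply_symm_apply]
  exact ht i

section

variable {F G T T' : Sp S} (φ : F ⟶ G) (j : T ⟶ T') (top : T ⟶ F) (bot : T' ⟶ G)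

def IsLift {V : Over S} (t : (yon S).obj V ⟶ T') (l : (yon S).obj V ⟶ F) : Prop :=
  l ≫ φ = t ≫ bot ∧ ∀ (W' : Over S) (u : (yon S).obj W' ⟶ T) (v : W' ⟶ V),
    u ≫ j = (yon S).map v ≫ t → (yon S).map v ≫ l = u ≫ top

variable {φ j top bot}

theorem IsLift.restrict {V V' : Over S} {t : (yon S).obj V ⟶ T'} {l : (yon S).obj V ⟶ F}
    (h : IsLift φ j top bot t l) (g : V' ⟶ V) :
    IsLift φ j top bot ((yon S).map g ≫ t) ((yon S).map g ≫ l) := by
  refine ⟨by rw [Category.assoc, h.1, Category.assoc], fun W' u v huv => ?_⟩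
  rw [← Category.assoc, ← Functor.map_comp]
  apply h.2
  rw [huv, Functor.map_comp, Category.assoc]

def AffineHyp (φ : F ⟶ G) (j : T ⟶ T') (top : T ⟶ F) (bot : T' ⟶ G) : Prop :=
  ∀ (V W : Over S) (t : (yon S).obj V ⟶ T') (fstW : (yon S).obj W ⟶ T) (sndW : W ⟶ V),
    IsAffine V.left → RepWith @Etale t → IsPullback fstW ((yon S).map sndW) j t →
    ∃! l : (yon S).obj V ⟶ F, (yon S).map sndW ≫ l = fstW ≫ top ∧ l ≫ φ = t ≫ bot

theorem isLift_iff_of_isPullback {V W : Over S} {t : (yon S).obj V ⟶ T'}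
    {fstW : (yon S).obj W ⟶ T} {sndW : W ⟶ V} (sq : IsPullback fstW ((yon S).map sndW) j t)
    (l : (yon S).obj V ⟶ F) :
    IsLift φ j top bot t l ↔ ((yon S).map sndW ≫ l = fstW ≫ top ∧ l ≫ φ = t ≫ bot) := by
  constructor
  · intro h
    exact ⟨h.2 W fstW sndW sq.w, h.1⟩
  · rintro ⟨h1, h2⟩
    refine ⟨h2, fun W' u v huv => ?_⟩
    have hk1 : sq.lift u ((yon S).map v) huv ≫ fstW = u := sq.lift_fst _ _ _
    have hk2 : sq.lift u ((yon S).map v) huv ≫ (yon S).map sndW = (yon S).map v := sq.lift_snd _ _ _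
    rw [← hk2, Category.assoc, h1, ← Category.assoc, hk1]

theorem existsUnique_isLift_affine (hj : Representable j) (H : AffineHyp φ j top bot)
    {V : Over S} (hV : IsAffine V.left) (t : (yon S).obj V ⟶ T') (ht : RepWith @Etale t) :
    ∃! l : (yon S).obj V ⟶ F, IsLift φ j top bot t l := by
  have sq := hj.isPullback t
  obtain ⟨l, hl, hu⟩ := H V _ t _ _ hV ht sq
  refine ⟨l, (isLift_iff_of_isPullback sq l).2 hl, fun l' hl' => ?_⟩
  exact hu l' ((isLift_iff_of_isPullback sq l').1 hl')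

theorem isLift_unique (hj : Representable j) (H : AffineHyp φ j top bot)
    {V : Over S} (t : (yon S).obj V ⟶ T') (ht : RepWith @Etale t)
    (l l' : (yon S).obj V ⟶ F) (hl : IsLift φ j top bot t l) (hl' : IsLift φ j top bot t l') :
    l = l' := by
  apply Groth.Agent.Lib.Helper9.AlgSpFU.hom_ext_of_openCover V.left.affineCover
  intro i
  let ι : Over.mk (V.left.affineCover.f i ≫ V.hom) ⟶ V := Over.homMk (V.left.affineCover.f i) rfl
  have hιe : RepWith @Etale ((yon S).map ι) :=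
    (repWith_yon_map_iff @Etale ι).2 (inferInstanceAs (Etale (V.left.affineCover.f i)))
  have hte : RepWith @Etale ((yon S).map ι ≫ t) := (RepWith @Etale.{u}).comp_mem _ _ hιe ht
  have haff : IsAffine (Over.mk (V.left.affineCover.f i ≫ V.hom)).left :=
    inferInstanceAs (IsAffine (V.left.affineCover.X i))
  exact (existsUnique_isLift_affine hj H haff _ hte).unique (hl.restrict ι) (hl'.restrict ι)

theorem exists_isLift (hj : Representable j) (H : AffineHyp φ j top bot)
    {V : Over S} (t : (yon S).obj V ⟶ T') (ht : RepWith @Etale t) :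
    ∃ l : (yon S).obj V ⟶ F, IsLift φ j top bot t l := by
  let 𝒰 := V.left.affineCover
  let ι : ∀ i, Over.mk (𝒰.f i ≫ V.hom) ⟶ V := fun i => Over.homMk (𝒰.f i) rfl
  have hιe : ∀ i, RepWith @Etale ((yon S).map (ι i)) := fun i =>
    (repWith_yon_map_iff @Etale (ι i)).2 (inferInstanceAs (Etale (𝒰.f i)))
  have hte : ∀ i, RepWith @Etale ((yon S).map (ι i) ≫ t) := fun i =>
    (RepWith @Etale.{u}).comp_mem _ _ (hιe i) ht
  have haff : ∀ i, IsAffine (Over.mk (𝒰.f i ≫ V.hom)).left := fun i =>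
    inferInstanceAs (IsAffine (𝒰.X i))
  choose li hli _ using fun i => existsUnique_isLift_affine hj H (haff i) _ (hte i)
  have hcompat : ∀ i j' (Z : Over S) (gi : Z ⟶ Over.mk (𝒰.f i ≫ V.hom))
      (gj : Z ⟶ Over.mk (𝒰.f j' ≫ V.hom)), gi ≫ ι i = gj ≫ ι j' →
      (yon S).map gi ≫ li i = (yon S).map gj ≫ li j' := by
    intro i j' Z gi gj hg
    have hsqP := IsPullback.of_hasPullback (ι i) (ι j')
    have hsqP' := hsqP.map (Over.forget S)
    have hopen : IsOpenImmersion (pullback.fst (ι i) (ι j')).left :=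
      MorphismProperty.of_isPullback (P := @IsOpenImmersion) hsqP'.flip
        (inferInstanceAs (IsOpenImmersion (𝒰.f j')))
    have hopen2 : IsOpenImmersion (pullback.fst (ι i) (ι j') ≫ ι i).left := by
      rw [Over.comp_left]
      have : IsOpenImmersion (ι i).left := inferInstanceAs (IsOpenImmersion (𝒰.f i))
      infer_instance
    have htP : RepWith @Etale ((yon S).map (pullback.fst (ι i) (ι j') ≫ ι i) ≫ t) :=
      (RepWith @Etale.{u}).comp_mem _ _
        ((repWith_yon_map_iff @Etale _).2 (by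
          infer_instance)) ht
    have h1 : IsLift φ j top bot ((yon S).map (pullback.fst (ι i) (ι j') ≫ ι i) ≫ t)
        ((yon S).map (pullback.fst (ι i) (ι j')) ≫ li i) := by
      have := (hli i).restrict (pullback.fst (ι i) (ι j'))
      rwa [← Category.assoc, ← Functor.map_comp] at this
    have h2 : IsLift φ j top bot ((yon S).map (pullback.fst (ι i) (ι j') ≫ ι i) ≫ t)
        ((yon S).map (pullback.snd (ι i) (ι j')) ≫ li j') := by
      have := (hli j').restrict (pullback.snd (ι i) (ι j'))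
      rwa [← Category.assoc, ← Functor.map_comp, ← pullback.condition] at this
    have hP := isLift_unique hj H _ htP _ _ h1 h2
    have e1 : gi = pullback.lift gi gj hg ≫ pullback.fst (ι i) (ι j') := (pullback.lift_fst _ _ _).symm
    have e2 : gj = pullback.lift gi gj hg ≫ pullback.snd (ι i) (ι j') := (pullback.lift_snd _ _ _).symm
    rw [e1, Functor.map_comp, Category.assoc, hP, ← Category.assoc, ← Functor.map_comp, ← e2]
  obtain ⟨l, hl⟩ := exists_glue_of_openCover 𝒰 li hcompat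
  refine ⟨l, ?_, ?_⟩
  · apply Groth.Agent.Lib.Helper9.AlgSpFU.hom_ext_of_openCover 𝒰
    intro i
    change (yon S).map (ι i) ≫ l ≫ φ = (yon S).map (ι i) ≫ t ≫ bot
    rw [← Category.assoc, hl i, (hli i).1, Category.assoc]
  · intro W' u v huv
    let 𝒰' : W'.left.OpenCover := 𝒰.pullback₁ v.left
    apply Groth.Agent.Lib.Helper9.AlgSpFU.hom_ext_of_openCover 𝒰'
    intro i
    let ι' : Over.mk (𝒰'.f i ≫ W'.hom) ⟶ W' := Over.homMk (𝒰'.f i) rfl
    have hvi : pullback.snd v.left (𝒰.f i) ≫ (𝒰.f i ≫ V.hom) = 𝒰'.f i ≫ W'.hom := by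
      rw [← Category.assoc, ← pullback.condition, Category.assoc, Over.w v]
      rfl
    let vi : Over.mk (𝒰'.f i ≫ W'.hom) ⟶ Over.mk (𝒰.f i ≫ V.hom) :=
      Over.homMk (pullback.snd v.left (𝒰.f i)) hvi
    have hcomm : ι' ≫ v = vi ≫ ι i := by
      ext
      exact pullback.condition
    change (yon S).map ι' ≫ (yon S).map v ≫ l = (yon S).map ι' ≫ u ≫ top
    rw [← Category.assoc, ← Functor.map_comp, hcomm, Functor.map_comp, Category.assoc, hl i]
    rw [← Category.assoc]
    apply (hli i).2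
    rw [Category.assoc, huv, ← Category.assoc, ← Functor.map_comp, hcomm, Functor.map_comp,
      Category.assoc]

theorem existsUnique_lift (hT' : IsAlgSpace T') (hj : Representable j)
    (H : AffineHyp φ j top bot) : ∃! l : T' ⟶ F, j ≫ l = top ∧ l ≫ φ = bot := by
  obtain ⟨V, p, hpe, hps⟩ := hT'.atlas
  have hp : Sheaf.IsLocallySurjective p :=
    Groth.Agent.S9883.isLocallySurjective_of_etale_surjective p hpe hps
  have hpepi : Epi p := inferInstance
  obtain ⟨lV, hlV⟩ := exists_isLift hj H p hpe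
  -- the kernel pair condition
  have hker : ∀ {Z : Sp S} (g₁ g₂ : Z ⟶ (yon S).obj V), g₁ ≫ p = g₂ ≫ p → g₁ ≫ lV = g₂ ≫ lV := by
    intro Z g₁ g₂ hg
    have sqR := hpe.rep.isPullback p
    obtain ⟨r₁, hr₁⟩ := (yon S).map_surjective (hpe.rep.fst p)
    have hr₂e : RepWith @Etale ((yon S).map (hpe.rep.snd p)) :=
      (repWith_yon_map_iff @Etale _).2 (hpe.property_snd p)
    have htR : RepWith @Etale ((yon S).map (hpe.rep.snd p) ≫ p) :=
      (RepWith @Etale.{u}).comp_mem _ _ hr₂e hpe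
    have h2 := hlV.restrict (hpe.rep.snd p)
    have h1 := hlV.restrict r₁
    rw [hr₁, sqR.w] at h1
    have hR := isLift_unique hj H _ htR _ _ h1 h2
    have e1 : g₁ = sqR.lift g₁ g₂ hg ≫ hpe.rep.fst p := (sqR.lift_fst _ _ _).symm
    have e2 : g₂ = sqR.lift g₁ g₂ hg ≫ (yon S).map (hpe.rep.snd p) := (sqR.lift_snd _ _ _).symm
    rw [e1, Category.assoc, hR, ← Category.assoc, ← e2]
  have hreg : RegularEpi p := regularEpiOfEpi p
  obtain ⟨l, hl⟩ := RegularEpi.desc' hreg lV (hker _ _ hreg.w)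
  have hA : l ≫ φ = bot := by
    rw [← cancel_epi p, ← Category.assoc, hl, hlV.1]
  have hB : j ≫ l = top := by
    have sq := hj.isPullback p
    have hfe : RepWith @Etale (hj.fst p) := MorphismProperty.of_isPullback sq.flip hpe
    have hfs : RepWith @Surjective (hj.fst p) := MorphismProperty.of_isPullback sq.flip hps
    have : Sheaf.IsLocallySurjective (hj.fst p) :=
      Groth.Agent.S9883.isLocallySurjective_of_etale_surjective _ hfe hfs
    have : Epi (hj.fst p) := inferInstance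
    rw [← cancel_epi (hj.fst p), ← Category.assoc, sq.w, Category.assoc, hl]
    exact hlV.2 _ _ _ sq.w
  refine ⟨l, ⟨hB, hA⟩, ?_⟩
  rintro l' ⟨hB', hA'⟩
  have hl' : IsLift φ j top bot p (p ≫ l') := by
    refine ⟨by rw [Category.assoc, hA'], fun W' u v huv => ?_⟩
    rw [← Category.assoc, ← huv, Category.assoc, hB']
  have := isLift_unique hj H p hpe _ _ hl' hlV
  rw [← cancel_epi p, this, hl]

end

end Groth.Agent.Lib.Helper9.AlgSpGlue
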