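import Mathlib
import Groth.Prelude.Def_AlgSpInf
import Groth.Agent.Lib.Helper9.AlgSpFU
import Groth.Agent.Lib.Helper9.AlgSpGlue

set_option autoImplicit false
set_option backward.isDefEq.respectTransparency.types false
universe u
open CategoryTheory CategoryTheory.Limits AlgebraicGeometry IsLocalRing Opposite
open AlgSp
open Groth.Agent.Lib.Helper3
open Groth.Agent.Lib.Helper9.AlgSpFU Groth.Agent.Lib.Helper9.AlgSpGlue

namespace Groth.Agent.Lib.Helper9.AlgSpFE

variable {S : Scheme.{u}}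

/-- unique existence of lifts along a square-zero closed immersion into an affine scheme, for a
formally etale map of sheaves -/
theorem existsUnique_of_affine_sqZero {F G : Sp S} (f : F ⟶ G) (hf : IsFormallyEtaleMor f)
    {V W : Over S} (hV : IsAffine V.left) (s : W ⟶ V)
    (hs : IsClosedImmersion s.left) (hK : sqZero s.left)
    (top₀ : (yon S).obj W ⟶ F) (bot₀ : (yon S).obj V ⟶ G) (w : top₀ ≫ f = (yon S).map s ≫ bot₀) :
    ∃! l : (yon S).obj V ⟶ F, (yon S).map s ≫ l = top₀ ∧ l ≫ f = bot₀ := by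
  obtain ⟨A, _, I, hI, str, E', E, hE⟩ := exists_infSq_data hV s hs hK
  have e1 : E.inv ≫ s = (Over.homMk (Spec.map (CommRingCat.ofHom (Ideal.Quotient.mk I))) rfl :
      Over.mk (Spec.map (CommRingCat.ofHom (Ideal.Quotient.mk I)) ≫ str) ⟶ Over.mk str) ≫
      E'.inv := by
    rw [Iso.inv_comp_eq, ← Category.assoc, hE, Category.assoc, Iso.hom_inv_id, Category.comp_id]
  let sq : InfSq f :=
    { A := A
      I := I
      sq_zero := hI
      str := str
      top := (yon S).map E.inv ≫ top₀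
      bot := (yon S).map E'.inv ≫ bot₀
      comm := by
        calc ((yon S).map E.inv ≫ top₀) ≫ f
            = (yon S).map (E.inv ≫ s) ≫ bot₀ := by
              rw [Category.assoc, w, Functor.map_comp, Category.assoc]
          _ = _ := by rw [e1, Functor.map_comp, Category.assoc] }
  have e1' : E.inv ≫ s = sq.j ≫ E'.inv := e1
  obtain ⟨l₀, ⟨hl1, hl2⟩, hu⟩ := hf sq
  change (yon S).map sq.j ≫ l₀ = (yon S).map E.inv ≫ top₀ at hl1
  change l₀ ≫ f = (yon S).map E'.inv ≫ bot₀ at hl2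
  have hiso : IsIso ((yon S).map E'.inv) := inferInstance
  have hiso2 : IsIso ((yon S).map E.inv) := inferInstance
  have hEE : (yon S).map E'.hom ≫ (yon S).map E'.inv = 𝟙 _ := by
    rw [← Functor.map_comp, Iso.hom_inv_id, CategoryTheory.Functor.map_id]
  have hEE2 : (yon S).map E'.inv ≫ (yon S).map E'.hom = 𝟙 _ := by
    rw [← Functor.map_comp, Iso.inv_hom_id, CategoryTheory.Functor.map_id]
  refine ⟨(yon S).map E'.hom ≫ l₀, ⟨?_, ?_⟩, ?_⟩
  · rw [← cancel_epi ((yon S).map E.inv), ← hl1, ← Category.assoc, ← Category.assoc,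
      ← Functor.map_comp, e1', Functor.map_comp, Category.assoc, Category.assoc,
      ← Category.assoc ((yon S).map E'.inv), hEE2, Category.id_comp]
  · rw [Category.assoc, hl2, ← Category.assoc, hEE, Category.id_comp]
  · rintro l' ⟨h1, h2⟩
    have := hu ((yon S).map E'.inv ≫ l') ⟨?_, ?_⟩
    · rw [← this, ← Category.assoc, hEE, Category.id_comp]
    · change (yon S).map sq.j ≫ (yon S).map E'.inv ≫ l' = (yon S).map E.inv ≫ top₀
      rw [← Category.assoc, ← Functor.map_comp, ← e1', Functor.map_comp, Category.assoc, h1]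
    · change ((yon S).map E'.inv ≫ l') ≫ f = (yon S).map E'.inv ≫ bot₀
      rw [Category.assoc, h2]

/-- sheaf-level form of S10625 -/
theorem formallyEtale_lift_existsUnique' {F G : Sp S} (f : F ⟶ G)
    (hf : IsFormallyEtaleMor f) {T T' : Sp S} (hT' : IsAlgSpace T') (j : T ⟶ T')
    (hj : IsFOThickMor j) (a : T ⟶ F) (b : T' ⟶ G) (w : a ≫ f = j ≫ b) :
    ∃! l : T' ⟶ F, j ≫ l = a ∧ l ≫ f = b := by
  have H : AffineHyp f j a b := by
    intro V W t fstW sndW hV ht sq
    have hthick : thick sndW.left := hj.1.2 _ _ _ sq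
    have hsqz : sqZero sndW.left := hj.2 _ _ _ hV ht sq
    apply existsUnique_of_affine_sqZero f hf hV sndW hthick.1 hsqz
    rw [Category.assoc, w, ← Category.assoc, sq.w, Category.assoc]
  exact existsUnique_lift hT' hj.1.rep H

/-- S10625 -/
theorem formallyEtale_lift_existsUnique {X Y : Space S} (f : X ⟶ Y)
    (hf : IsFormallyEtaleMor f.hom) {T T' : Space S} (j : T ⟶ T') (hj : IsFOThickMor j.hom)
    (a : T ⟶ X) (b : T' ⟶ Y) (w : a ≫ f = j ≫ b) :
    ∃! l : T' ⟶ X, j ≫ l = a ∧ l ≫ f = b := by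
  have w' : a.hom ≫ f.hom = j.hom ≫ b.hom := congrArg (fun φ => φ.hom) w
  obtain ⟨l, ⟨hl1, hl2⟩, hu⟩ :=
    formallyEtale_lift_existsUnique' f.hom hf T'.property j.hom hj a.hom b.hom w'
  refine ⟨ObjectProperty.homMk l, ⟨?_, ?_⟩, ?_⟩
  · apply ObjectProperty.hom_ext; exact hl1
  · apply ObjectProperty.hom_ext; exact hl2
  · rintro l' ⟨h1, h2⟩
    apply ObjectProperty.hom_ext
    exact hu l'.hom ⟨congrArg (fun φ => φ.hom) h1, congrArg (fun φ => φ.hom) h2⟩

/-- S10631 -/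
theorem isUnivFOThick_comp_formallyEtale {Z Z' Y X : Sp S} (hZ : Z ⟶ Y) (g : Y ⟶ X)
    (i : Z ⟶ Z') (h' : Z' ⟶ Y) (HU : IsUnivFOThick hZ i h') (hg : IsFormallyEtaleMor g) :
    IsUnivFOThick (hZ ≫ g) i (h' ≫ g) := by
  refine ⟨HU.1, by rw [← Category.assoc, HU.2.1], fun T T' hT hT' j a b hj hjb => ?_⟩
  obtain ⟨b', ⟨hb'1, hb'2⟩, hb'u⟩ :=
    formallyEtale_lift_existsUnique' g hg hT' j hj (a ≫ hZ) b (by rw [Category.assoc, hjb])
  obtain ⟨a', ⟨ha'1, ha'2⟩, ha'u⟩ := HU.2.2 hT hT' j a b' hj hb'1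
  refine ⟨a', ⟨ha'1, by rw [← Category.assoc, ha'2, hb'2]⟩, ?_⟩
  rintro a'' ⟨h1, h2⟩
  apply ha'u
  refine ⟨h1, ?_⟩
  apply hb'u
  refine ⟨?_, by rw [Category.assoc, h2]⟩
  rw [← Category.assoc, h1, Category.assoc, HU.2.1]

end Groth.Agent.Lib.Helper9.AlgSpFE
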