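import Mathlib
import Groth.Prelude.Def_AlgSpInf
import Groth.Agent.Lib.Helper9.AlgSpFE

set_option autoImplicit false
set_option backward.isDefEq.respectTransparency.types false
universe u
open CategoryTheory CategoryTheory.Limits AlgebraicGeometry IsLocalRing Opposite
open AlgSp
open Groth.Agent.Lib.Helper3
open Groth.Agent.Lib.Helper9.AlgSpFU Groth.Agent.Lib.Helper9.AlgSpGlue

namespace Groth.Agent.Lib.Helper9.AlgSpFE2

variable {S : Scheme.{u}}

/-- base change of a first order thickening to an etale chart is a first order thickening -/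
theorem isFOThickMor_yon_map_of_isPullback {T T' : Sp S} (j : T ⟶ T') (hj : IsFOThickMor j)
    {V W : Over S} (t : (yon S).obj V ⟶ T') (ht : RepWith @Etale t)
    (fstW : (yon S).obj W ⟶ T) (sndW : W ⟶ V) (sq : IsPullback fstW ((yon S).map sndW) j t) :
    IsFOThickMor ((yon S).map sndW) := by
  refine ⟨(isThickMor_yon_map_iff sndW).2 (hj.1.2 _ _ _ sq), ?_⟩
  intro V'' W'' b' fst'' snd'' haff hb' sq''
  exact hj.2 (b' ≫ t) (fst'' ≫ fstW) snd'' haff ((RepWith @Etale.{u}).comp_mem _ _ hb' ht)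
    (sq''.paste_horiz sq)

/-- S10630 -/
theorem isUnivFOThick_iff_affine_test {Z Z' X : Space S} (h : Z ⟶ X) (i : Z ⟶ Z')
    (h' : Z' ⟶ X) (hi : IsFOThickMor i.hom) (w : i ≫ h' = h) :
    IsUnivFOThick h.hom i.hom h'.hom ↔
      ∀ (T T' : Over S) (j : T ⟶ T'), IsAffine T'.left → IsFOThickMor ((yon S).map j) →
        ∀ (a : (yon S).obj T ⟶ Z.obj) (b : (yon S).obj T' ⟶ X.obj),
          (yon S).map j ≫ b = a ≫ h.hom →
          ∃! a' : (yon S).obj T' ⟶ Z'.obj, (yon S).map j ≫ a' = a ≫ i.hom ∧ a' ≫ h'.hom = b := by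
  constructor
  · intro HU T T' j _ hj a b hjb
    exact HU.2.2 (IsAlgSpace.yon_obj T) (IsAlgSpace.yon_obj T') ((yon S).map j) a b hj hjb
  · intro Haff
    refine ⟨hi, congrArg (fun φ => φ.hom) w, fun T T' hT hT' j a b hj hjb => ?_⟩
    apply existsUnique_lift hT' hj.1.rep
    intro V W t fstW sndW hV ht sq
    have := Haff W V sndW hV (isFOThickMor_yon_map_of_isPullback j hj t ht fstW sndW sq)
      (fstW ≫ a) (t ≫ b) (by
        rw [← Category.assoc, ← sq.w, Category.assoc, hjb, Category.assoc])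
    simpa only [Category.assoc] using this

end Groth.Agent.Lib.Helper9.AlgSpFE2
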