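import Mathlib
import Groth.Prelude.Def_W4stkschemesremainderFib
import Groth.Agent.Lib.Helper4.AffineDescent
set_option autoImplicit false
universe u
open CategoryTheory CategoryTheory.Limits AlgebraicGeometry TensorProduct

namespace Groth.Agent.Lib.Helper9.BddFibLib

theorem finite_finrank_iff_of_isPushout {K k A A' : Type u} [Field K] [Field k] [Algebra K k]
    [CommRing A] [CommRing A'] [Algebra K A] [Algebra k A'] [Algebra A A'] [Algebra K A']
    [IsScalarTower K k A'] [IsScalarTower K A A'] (h : Algebra.IsPushout K k A A') (n : ℕ) :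
    (Module.Finite K A ∧ Module.finrank K A ≤ n) ↔ (Module.Finite k A' ∧ Module.finrank k A' ≤ n) := by
  have hbc : IsBaseChange k (IsScalarTower.toAlgHom K A A').toLinearMap := h.out
  let e : k ⊗[K] A ≃ₗ[k] A' := hbc.equiv
  have hfr : Module.finrank k A' = Module.finrank K A := by
    rw [← e.finrank_eq, Module.finrank_baseChange]
  constructor
  · rintro ⟨hfin, hle⟩
    exact ⟨Module.Finite.equiv e, hfr ▸ hle⟩
  · rintro ⟨hfin, hle⟩
    refine ⟨?_, hfr ▸ hle⟩
    have h1 : Module.Finite k (k ⊗[K] A) := Module.Finite.equiv e.symm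
    have h2 : Module.rank k (k ⊗[K] A) < Cardinal.aleph0 := Module.rank_lt_aleph0 k _
    rw [Module.rank_baseChange] at h2
    have h3 : Module.rank K A < Cardinal.aleph0 := by
      simpa using h2
    exact Module.rank_lt_aleph0_iff.mp h3

section
variable {K k : Type u} [Field K] [Field k] (φ : K →+* k)
  {T T' : Scheme.{u}} (p : T ⟶ Spec (CommRingCat.of K)) (p' : T' ⟶ Spec (CommRingCat.of k)) (g' : T' ⟶ T)

instance flat_specMap_field : Flat (Spec.map (CommRingCat.ofHom φ)) := by
  rw [Flat.SpecMap_iff]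
  algebraize [φ]
  show Module.Flat K k
  infer_instance

instance surjective_specMap_field : Surjective (Spec.map (CommRingCat.ofHom φ)) := by
  constructor
  intro x
  refine ⟨IsLocalRing.closedPoint k, Subsingleton.elim _ _⟩

/-- the pushout square of sections, with K and k in the corners -/
theorem isPushout_sections (h : IsPullback g' p' p (Spec.map (CommRingCat.ofHom φ))) [IsAffine T] :
    IsPushout (CommRingCat.ofHom φ) ((Scheme.ΓSpecIso (CommRingCat.of K)).inv ≫ p.appTop)
      ((Scheme.ΓSpecIso (CommRingCat.of k)).inv ≫ p'.appTop) g'.appTop := by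
  have h1 := (Groth.Agent.Lib.Helper4.AffineDescent.isPushout_appTop h).flip
  -- h1 : IsPushout (Spec.map φ).appTop p.appTop p'.appTop g'.appTop
  have hnat : (Scheme.ΓSpecIso (CommRingCat.of K)).inv ≫ (Spec.map (CommRingCat.ofHom φ)).appTop =
      CommRingCat.ofHom φ ≫ (Scheme.ΓSpecIso (CommRingCat.of k)).inv := by
    rw [Iso.inv_comp_eq, ← Category.assoc, Iso.eq_comp_inv]
    exact Scheme.ΓSpecIso_naturality (CommRingCat.ofHom φ)
  have sq : IsPushout (CommRingCat.ofHom φ) (Scheme.ΓSpecIso (CommRingCat.of K)).inv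
      (Scheme.ΓSpecIso (CommRingCat.of k)).inv (Spec.map (CommRingCat.ofHom φ)).appTop :=
    IsPushout.of_vert_isIso ⟨hnat.symm⟩
  exact sq.paste_vert h1

theorem isAffine_iff_of_isPullback (h : IsPullback g' p' p (Spec.map (CommRingCat.ofHom φ))) :
    IsAffine T ↔ IsAffine T' := by
  constructor
  · intro hT
    have : IsAffineHom p := isAffineHom_of_isAffine p
    have : IsAffineHom p' := MorphismProperty.of_isPullback (P := @IsAffineHom) h inferInstance
    exact isAffine_of_isAffineHom p'
  · intro hT'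
    exact Groth.Agent.Lib.Helper4.AffineDescent.isAffine_of_isPullback h

theorem finiteOfDegLE_iff_of_isPullback (h : IsPullback g' p' p (Spec.map (CommRingCat.ofHom φ)))
    (n : ℕ) :
    BddFib.FiniteOfDegLE (CommRingCat.of K) p n ↔ BddFib.FiniteOfDegLE (CommRingCat.of k) p' n := by
  unfold BddFib.FiniteOfDegLE
  by_cases hT : IsAffine T
  swap
  · have hT' : ¬ IsAffine T' := fun h' => hT ((isAffine_iff_of_isPullback φ p p' g' h).mpr h')
    simp [hT, hT']
  have hT' : IsAffine T' := (isAffine_iff_of_isPullback φ p p' g' h).mp hT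
  have hpo := isPushout_sections φ p p' g' h
  letI a1 : Algebra K k := φ.toAlgebra
  letI a2 : Algebra K Γ(T, ⊤) := BddFib.secAlgebra (CommRingCat.of K) p
  letI a3 : Algebra k Γ(T', ⊤) := BddFib.secAlgebra (CommRingCat.of k) p'
  letI a4 : Algebra Γ(T, ⊤) Γ(T', ⊤) := g'.appTop.hom.toAlgebra
  letI a5 : Algebra K Γ(T', ⊤) := ((algebraMap k Γ(T', ⊤)).comp φ).toAlgebra
  haveI t1 : IsScalarTower K k Γ(T', ⊤) := IsScalarTower.of_algebraMap_eq' rfl
  haveI t2 : IsScalarTower K Γ(T, ⊤) Γ(T', ⊤) := by
    refine IsScalarTower.of_algebraMap_eq' ?_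
    have := congrArg CommRingCat.Hom.hom hpo.w
    exact this
  have hP : Algebra.IsPushout K k Γ(T, ⊤) Γ(T', ⊤) := by
    refine CommRingCat.isPushout_iff_isPushout.mp ?_
    exact hpo
  have key := finite_finrank_iff_of_isPushout hP n
  simp only [hT, hT', true_and]
  exact key

end

/-- Field-valued base change square vs the fibre at the image point. -/
theorem finiteOfDegLE_fiber_iff {X Y P : Scheme.{u}} (f : X ⟶ Y) {k : Type u} [Field k]
    (g : Spec (CommRingCat.of k) ⟶ Y) (a : P ⟶ X) (b : P ⟶ Spec (CommRingCat.of k))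
    (h : IsPullback a b f g) (n : ℕ) :
    BddFib.FiniteOfDegLE (Y.residueField (g (IsLocalRing.closedPoint k)))
      (f.fiberToSpecResidueField (g (IsLocalRing.closedPoint k))) n ↔
    BddFib.FiniteOfDegLE (CommRingCat.of k) b n := by
  set y := g (IsLocalRing.closedPoint k) with hy
  let φ : Y.residueField y ⟶ CommRingCat.of k := Scheme.descResidueField (Scheme.stalkClosedPointTo g)
  have hφ : Spec.map φ ≫ Y.fromSpecResidueField y = g :=
    Scheme.descResidueField_stalkClosedPointTo_fromSpecResidueField k Y g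
  have hR : IsPullback (f.fiberι y) (f.fiberToSpecResidueField y) f (Y.fromSpecResidueField y) :=
    IsPullback.of_hasPullback _ _
  let c : P ⟶ f.fiber y := hR.lift a (b ≫ Spec.map φ) (by rw [Category.assoc, hφ, h.w])
  have hc1 : c ≫ f.fiberι y = a := hR.lift_fst _ _ _
  have hc2 : c ≫ f.fiberToSpecResidueField y = b ≫ Spec.map φ := hR.lift_snd _ _ _
  have hL : IsPullback c b (f.fiberToSpecResidueField y) (Spec.map φ) := by
    refine IsPullback.of_right ?_ hc2 hR
    rw [hc1, hφ]
    exact h
  exact finiteOfDegLE_iff_of_isPullback (K := ↑(Y.residueField y)) φ.hom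
    (f.fiberToSpecResidueField y) b c hL n

theorem fibreDegLE_iff_forall_field_points {X Y : Scheme.{u}} (f : X ⟶ Y) (n : ℕ) :
    BddFib.FibreDegLE f n ↔ ∀ (k : Type u) [Field k] (g : Spec (CommRingCat.of k) ⟶ Y),
      BddFib.FiniteOfDegLE (CommRingCat.of k) (Limits.pullback.snd f g) n := by
  constructor
  · intro hf k _ g
    exact (finiteOfDegLE_fiber_iff f g _ _ (IsPullback.of_hasPullback f g) n).mp (hf _)
  · intro h y
    exact h (Y.residueField y) (Y.fromSpecResidueField y)

theorem fibreDegLE_of_isPullback {X Y X' Y' : Scheme.{u}} (f : X ⟶ Y) (g : Y' ⟶ Y) (f' : X' ⟶ Y')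
    (g' : X' ⟶ X) (h : IsPullback g' f' f g) (n : ℕ) (hf : BddFib.FibreDegLE f n) :
    BddFib.FibreDegLE f' n := by
  intro y'
  have hR : IsPullback (f'.fiberι y') (f'.fiberToSpecResidueField y') f' (Y'.fromSpecResidueField y') :=
    IsPullback.of_hasPullback _ _
  have hbig := hR.paste_horiz h
  exact (finiteOfDegLE_fiber_iff (k := ↑(Y'.residueField y')) f
    (Y'.fromSpecResidueField y' ≫ g) _ _ hbig n).mp (hf _)

theorem fibreDegLE_of_isPullback_of_surjective {X Y X' Y' : Scheme.{u}} (f : X ⟶ Y) (g : Y' ⟶ Y)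
    [Surjective g] (f' : X' ⟶ Y') (g' : X' ⟶ X) (h : IsPullback g' f' f g) (n : ℕ)
    (hf' : BddFib.FibreDegLE f' n) : BddFib.FibreDegLE f n := by
  intro y
  obtain ⟨y', rfl⟩ := g.surjective y
  have hR : IsPullback (f'.fiberι y') (f'.fiberToSpecResidueField y') f' (Y'.fromSpecResidueField y') :=
    IsPullback.of_hasPullback _ _
  have hbig := hR.paste_horiz h
  have key := (finiteOfDegLE_fiber_iff (k := ↑(Y'.residueField y')) f
    (Y'.fromSpecResidueField y' ≫ g) _ _ hbig n).mpr (hf' y')
  have hpt : (Y'.fromSpecResidueField y' ≫ g) (IsLocalRing.closedPoint ↑(Y'.residueField y')) = g y' := by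
    rw [Scheme.Hom.comp_apply, Scheme.fromSpecResidueField_apply]
  rw [hpt] at key
  exact key

theorem card_primeSpectrum_le_finrank (k B : Type*) [Field k] [CommRing B] [Algebra k B]
    [Module.Finite k B] :
    Finite (PrimeSpectrum B) ∧ Nat.card (PrimeSpectrum B) ≤ Module.finrank k B := by
  have hart : IsArtinianRing B := IsArtinianRing.of_finite k B
  have hfin : Finite (PrimeSpectrum B) := inferInstance
  refine ⟨hfin, ?_⟩
  letI := Fintype.ofFinite (PrimeSpectrum B)
  rw [IsArtinianRing.finrank_eq_sum_primeSpectrum B k, Nat.card_eq_fintype_card, ← Finset.card_univ,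
    Finset.card_eq_sum_ones]
  refine Finset.sum_le_sum (fun p _ => ?_)
  have hsurj : Function.Surjective (algebraMap B (Localization.AtPrime p.asIdeal)) :=
    IsArtinianRing.localization_surjective p.asIdeal.primeCompl _
  have : Module.Finite k (Localization.AtPrime p.asIdeal) :=
    Module.Finite.of_surjective (IsScalarTower.toAlgHom k B (Localization.AtPrime p.asIdeal)).toLinearMap
      hsurj
  exact Module.finrank_pos

theorem finite_card_le_of_finiteOfDegLE {k : Type u} [Field k] {T : Scheme.{u}}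
    (p : T ⟶ Spec (CommRingCat.of k)) (n : ℕ) (h : BddFib.FiniteOfDegLE (CommRingCat.of k) p n) :
    Finite ↥T ∧ Nat.card ↥T ≤ n := by
  letI : Algebra k Γ(T, ⊤) := BddFib.secAlgebra (CommRingCat.of k) p
  obtain ⟨haff, hfin, hle⟩ := h
  obtain ⟨h1, h2⟩ := card_primeSpectrum_le_finrank k Γ(T, ⊤)
  let e : ↥T ≃ PrimeSpectrum Γ(T, ⊤) := (Scheme.homeoOfIso T.isoSpec).toEquiv
  have hF : Finite ↥T := Finite.of_equiv _ e.symm
  refine ⟨hF, ?_⟩
  rw [Nat.card_congr e]
  exact h2.trans hle

theorem natCard_pullback_le_of_fibreDegLE {X Y : Scheme.{u}} (f : X ⟶ Y) (n : ℕ)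
    (hf : BddFib.FibreDegLE f n) (k : Type u) [Field k] (g : Spec (CommRingCat.of k) ⟶ Y) :
    Finite ↥(Limits.pullback f g) ∧ Nat.card ↥(Limits.pullback f g) ≤ n :=
  finite_card_le_of_finiteOfDegLE _ n ((fibreDegLE_iff_forall_field_points f n).mp hf k g)

theorem fibreDegLE_one_of_isImmersion {X Y : Scheme.{u}} (f : X ⟶ Y) [IsImmersion f] :
    BddFib.FibreDegLE f 1 := by
  intro y
  have himm : IsImmersion (f.fiberToSpecResidueField y) :=
    MorphismProperty.pullback_snd (P := @IsImmersion) _ _ inferInstance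
  have hsub : Subsingleton ↥(Spec (Y.residueField y)) :=
    inferInstanceAs (Subsingleton (PrimeSpectrum (Y.residueField y)))
  have hcl : IsClosedImmersion (f.fiberToSpecResidueField y) :=
    IsClosedImmersion.of_isPreimmersion _ (Set.subsingleton_of_subsingleton).isClosed
  have haff : IsAffine (f.fiber y) := isAffine_of_isAffineHom (f.fiberToSpecResidueField y)
  letI : Algebra (Y.residueField y) Γ(f.fiber y, ⊤) :=
    BddFib.secAlgebra (Y.residueField y) (f.fiberToSpecResidueField y)
  have hsurj : Function.Surjective (algebraMap (Y.residueField y) Γ(f.fiber y, ⊤)) := by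
    have h1 : Function.Surjective (f.fiberToSpecResidueField y).appTop.hom :=
      (IsClosedImmersion.isAffine_surjective_of_isAffine (f.fiberToSpecResidueField y)).2
    have h2 : Function.Surjective (Scheme.ΓSpecIso (Y.residueField y)).inv.hom :=
      (ConcreteCategory.bijective_of_isIso (Scheme.ΓSpecIso (Y.residueField y)).inv).2
    exact h1.comp h2
  refine ⟨haff, ?_, ?_⟩
  · exact Module.Finite.of_surjective (Algebra.linearMap (Y.residueField y) Γ(f.fiber y, ⊤)) hsurj
  · have := LinearMap.finrank_le_finrank_of_surjective (f := Algebra.linearMap (Y.residueField y) Γ(f.fiber y, ⊤)) hsurj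
    simpa using this

end Groth.Agent.Lib.Helper9.BddFibLib
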