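import Mathlib
import Groth.Agent.Lib.Helper9.BddFibLib
set_option autoImplicit false
universe u
open CategoryTheory CategoryTheory.Limits AlgebraicGeometry TensorProduct

namespace Groth.Agent.Lib.Helper9.BddFibLib4
open Groth.Agent.Lib.Helper9.BddFibLib

/-- finite `k`-scheme (in the sense of `FiniteOfDegLE`) has discrete topology -/
theorem discreteTopology_of_finiteOfDegLE {k : Type u} [Field k] {T : Scheme.{u}}
    (p : T ⟶ Spec (CommRingCat.of k)) (n : ℕ) (h : BddFib.FiniteOfDegLE (CommRingCat.of k) p n) :
    DiscreteTopology ↥T := by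
  letI : Algebra k Γ(T, ⊤) := BddFib.secAlgebra (CommRingCat.of k) p
  obtain ⟨haff, hfin, hle⟩ := h
  have : IsArtinianRing Γ(T, ⊤) := IsArtinianRing.of_finite k _
  have : DiscreteTopology ↥(Spec Γ(T, ⊤)) :=
    inferInstanceAs (DiscreteTopology (PrimeSpectrum Γ(T, ⊤)))
  exact (Scheme.homeoOfIso T.isoSpec).isEmbedding.discreteTopology

/-- descent of `FiniteOfDegLE` along a flat surjective morphism over a field -/
theorem finiteOfDegLE_of_flat_surjective {k : Type u} [Field k] {S T : Scheme.{u}}
    (q : S ⟶ T) [Flat q] [Surjective q]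
    (p : T ⟶ Spec (CommRingCat.of k)) (n : ℕ)
    (h : BddFib.FiniteOfDegLE (CommRingCat.of k) (q ≫ p) n) :
    BddFib.FiniteOfDegLE (CommRingCat.of k) p n := by
  have hSfin := (finite_card_le_of_finiteOfDegLE _ n h).1
  have hSdisc := discreteTopology_of_finiteOfDegLE _ n h
  have hqc : QuasiCompact q := by
    refine ⟨fun U _ _ => ?_⟩
    exact (Set.toFinite _).isCompact
  have hquot := Flat.isQuotientMap_of_surjective q
  have hTfin : Finite ↥T := Finite.of_surjective _ q.surjective
  have hTdisc : DiscreteTopology ↥T := by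
    rw [discreteTopology_iff_forall_isOpen]
    intro s
    exact hquot.isOpen_preimage.mp (isOpen_discrete _)
  have hTaff : IsAffine T := inferInstance
  obtain ⟨haff, hfin, hle⟩ := h
  letI a1 : Algebra k Γ(T, ⊤) := BddFib.secAlgebra (CommRingCat.of k) p
  letI a2 : Algebra k Γ(S, ⊤) := BddFib.secAlgebra (CommRingCat.of k) (q ≫ p)
  have hff : q.appTop.hom.FaithfullyFlat :=
    (Flat.flat_and_surjective_iff_faithfullyFlat_of_isAffine q).mp ⟨inferInstance, inferInstance⟩
  have hinj : Function.Injective q.appTop.hom := hff.injective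
  let L : Γ(T, ⊤) →ₗ[k] Γ(S, ⊤) :=
    { toFun := q.appTop.hom
      map_add' := map_add _
      map_smul' := by
        intro c x
        simp only [Algebra.smul_def, map_mul, RingHom.id_apply]
        congr 1 }
  have hLinj : Function.Injective L := hinj
  refine ⟨hTaff, ?_, ?_⟩
  · exact Module.Finite.of_injective L hLinj
  · exact (LinearMap.finrank_le_finrank_of_injective hLinj).trans hle

theorem fibreDegLE_of_flat_surjective_triangle {X Y Z : Scheme.{u}} (f : X ⟶ Y) (h : Y ⟶ Z)
    [Flat f] [Surjective f] (n : ℕ) (hg : BddFib.FibreDegLE (f ≫ h) n) : BddFib.FibreDegLE h n := by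
  rw [fibreDegLE_iff_forall_field_points]
  intro k _ g
  have h1 : IsPullback (pullback.fst f (pullback.fst h g)) (pullback.snd f (pullback.fst h g)) f
      (pullback.fst h g) := IsPullback.of_hasPullback _ _
  have h2 : IsPullback (pullback.fst h g) (pullback.snd h g) h g := IsPullback.of_hasPullback _ _
  have h3 := h1.paste_vert h2
  have h4 := (finiteOfDegLE_fiber_iff (f ≫ h) g _ _ h3 n).mp (hg _)
  exact finiteOfDegLE_of_flat_surjective (pullback.snd f (pullback.fst h g)) (pullback.snd h g) n h4

end Groth.Agent.Lib.Helper9.BddFibLib4
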