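import Mathlib
import Groth.Agent.Lib.Helper9.BddFibLib4
set_option autoImplicit false
universe u
open CategoryTheory CategoryTheory.Limits AlgebraicGeometry TensorProduct

namespace Groth.Agent.Lib.Helper9.BddFibLib5
open Groth.Agent.Lib.Helper9.BddFibLib Groth.Agent.Lib.Helper9.BddFibLib4


theorem finite_and_finrank_le_of_exact {k A B C : Type*} [Field k] [AddCommGroup A] [Module k A]
    [AddCommGroup B] [Module k B] [AddCommGroup C] [Module k C]
    (f : A →ₗ[k] B) (g : B →ₗ[k] C) (hg : Function.Surjective g) (hex : Function.Exact f g)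
    [Module.Finite k A] [Module.Finite k C] :
    Module.Finite k B ∧ Module.finrank k B ≤ Module.finrank k A + Module.finrank k C := by
  have hker : LinearMap.ker g = LinearMap.range f := (LinearMap.exact_iff.mp hex)
  have h1 : Module.Finite k (LinearMap.ker g) := by
    rw [hker]
    exact Module.Finite.range f
  have h2 : Module.Finite k (B ⧸ LinearMap.ker g) :=
    Module.Finite.equiv (g.quotKerEquivOfSurjective hg).symm
  have hB : Module.Finite k B := Module.Finite.of_submodule_quotient (LinearMap.ker g)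
  refine ⟨hB, ?_⟩
  have h3 := LinearMap.finrank_range_add_finrank_ker g
  rw [LinearMap.range_eq_top.mpr hg, finrank_top, hker] at h3
  have h4 := LinearMap.finrank_range_le f
  omega



theorem tensor_bound {k B M : Type u} [Field k] [CommRing B] [Algebra k B] [AddCommGroup M]
    [Module B M] (n : ℕ)
    (hfib : ∀ 𝔭 : Ideal B, 𝔭.IsMaximal → Module.Finite k ((B ⧸ 𝔭) ⊗[B] M) ∧
      Module.finrank k ((B ⧸ 𝔭) ⊗[B] M) ≤ n * Module.finrank k (B ⧸ 𝔭)) :
    ∀ (d : ℕ) (L : Type u) [AddCommGroup L] [Module B L] [Module k L] [IsScalarTower k B L]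
      [Module.Finite k L], Module.finrank k L ≤ d →
      Module.Finite k (L ⊗[B] M) ∧ Module.finrank k (L ⊗[B] M) ≤ n * Module.finrank k L := by
  intro d
  induction d with
  | zero =>
    intro L _ _ _ _ _ hd
    have hL : Subsingleton L := by
      have : Module.finrank k L = 0 := by omega
      exact Module.finrank_zero_iff.mp this
    have hLM : Subsingleton (L ⊗[B] M) := inferInstance
    refine ⟨inferInstance, ?_⟩
    rw [Module.finrank_zero_of_subsingleton]
    exact Nat.zero_le _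
  | succ d ih =>
    intro L _ _ _ _ _ hd
    by_cases hL : Subsingleton L
    · have hLM : Subsingleton (L ⊗[B] M) := inferInstance
      refine ⟨inferInstance, ?_⟩
      rw [Module.finrank_zero_of_subsingleton]
      exact Nat.zero_le _
    rw [not_subsingleton_iff_nontrivial] at hL
    have hN : IsNoetherian B L := isNoetherian_of_tower k inferInstance
    obtain ⟨L', hL'⟩ : ∃ L' : Submodule B L, IsCoatom L' := by
      rcases eq_top_or_exists_le_coatom (⊥ : Submodule B L) with h | ⟨L', h, -⟩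
      · exact absurd h bot_ne_top
      · exact ⟨L', h⟩
    have hsimple : IsSimpleModule B (L ⧸ L') := isSimpleModule_iff_isCoatom.mpr hL'
    obtain ⟨𝔭, h𝔭, ⟨e⟩⟩ := isSimpleModule_iff_quot_maximal.mp hsimple
    obtain ⟨hfin𝔭, hle𝔭⟩ := hfib 𝔭 h𝔭
    -- dimension count for L
    let g0 : L →ₗ[k] (B ⧸ 𝔭) := (e.toLinearMap ∘ₗ L'.mkQ).restrictScalars k
    have hg0 : Function.Surjective g0 := e.surjective.comp L'.mkQ_surjective
    have hker0 : LinearMap.ker g0 = L'.restrictScalars k := by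
      ext x
      simp only [LinearMap.mem_ker, Submodule.restrictScalars_mem]
      change e (L'.mkQ x) = 0 ↔ _
      rw [LinearEquiv.map_eq_zero_iff, Submodule.mkQ_apply, Submodule.Quotient.mk_eq_zero]
    have hfinL' : Module.Finite k L' :=
      inferInstanceAs (Module.Finite k (L'.restrictScalars k))
    have hcount : Module.finrank k L = Module.finrank k L' + Module.finrank k (B ⧸ 𝔭) := by
      have h3 := LinearMap.finrank_range_add_finrank_ker g0
      rw [LinearMap.range_eq_top.mpr hg0, finrank_top, hker0] at h3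
      have h4 : Module.finrank k (L'.restrictScalars k) = Module.finrank k L' := rfl
      omega
    have hfin𝔭' : Module.Finite k (B ⧸ 𝔭) := Module.Finite.of_surjective g0 hg0
    have hpos : 0 < Module.finrank k (B ⧸ 𝔭) := by
      have : Nontrivial (B ⧸ 𝔭) := Ideal.Quotient.nontrivial_iff.mpr h𝔭.ne_top
      exact Module.finrank_pos
    obtain ⟨hfin', hle'⟩ := ih L' (by omega)
    -- exact sequence
    let F : L' ⊗[B] M →ₗ[k] L ⊗[B] M := (LinearMap.rTensor M L'.subtype).restrictScalars k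
    let G : L ⊗[B] M →ₗ[k] (B ⧸ 𝔭) ⊗[B] M :=
      (LinearMap.rTensor M (e.toLinearMap ∘ₗ L'.mkQ)).restrictScalars k
    have hG : Function.Surjective G := by
      refine LinearMap.rTensor_surjective M ?_
      exact e.surjective.comp L'.mkQ_surjective
    have hex : Function.Exact F G := by
      refine rTensor_exact M ?_ ?_
      · exact (LinearMap.exact_subtype_mkQ L').comp_injective _ e.injective (map_zero e)
      · exact e.surjective.comp L'.mkQ_surjective
    obtain ⟨h1, h2⟩ := finite_and_finrank_le_of_exact F G hG hex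
    refine ⟨h1, ?_⟩
    rw [hcount, mul_add]
    omega

theorem finrank_le_mul_of_fibers {k B M : Type u} [Field k] [CommRing B] [Algebra k B]
    [Module.Finite k B] [AddCommGroup M] [Module B M] [Module k M] [IsScalarTower k B M] (n : ℕ)
    (hfib : ∀ 𝔭 : Ideal B, 𝔭.IsMaximal → Module.Finite (B ⧸ 𝔭) ((B ⧸ 𝔭) ⊗[B] M) ∧
      Module.finrank (B ⧸ 𝔭) ((B ⧸ 𝔭) ⊗[B] M) ≤ n) :
    Module.Finite k M ∧ Module.finrank k M ≤ n * Module.finrank k B := by
  have hfib' : ∀ 𝔭 : Ideal B, 𝔭.IsMaximal → Module.Finite k ((B ⧸ 𝔭) ⊗[B] M) ∧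
      Module.finrank k ((B ⧸ 𝔭) ⊗[B] M) ≤ n * Module.finrank k (B ⧸ 𝔭) := by
    intro 𝔭 h𝔭
    obtain ⟨h1, h2⟩ := hfib 𝔭 h𝔭
    letI := Ideal.Quotient.field 𝔭
    have hq : Module.Finite k (B ⧸ 𝔭) :=
      Module.Finite.of_surjective (Ideal.Quotient.mkₐ k 𝔭).toLinearMap
        (Ideal.Quotient.mkₐ_surjective k 𝔭)
    have tower : IsScalarTower k (B ⧸ 𝔭) ((B ⧸ 𝔭) ⊗[B] M) := inferInstance
    refine ⟨Module.Finite.trans (B ⧸ 𝔭) _, ?_⟩
    rw [← Module.finrank_mul_finrank k (B ⧸ 𝔭) ((B ⧸ 𝔭) ⊗[B] M), mul_comm]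
    exact Nat.mul_le_mul_right _ h2
  obtain ⟨h1, h2⟩ := tensor_bound n hfib' (Module.finrank k B) B le_rfl
  let e : B ⊗[B] M ≃ₗ[k] M := (TensorProduct.lid B M).restrictScalars k
  exact ⟨Module.Finite.equiv e, by rw [← e.finrank_eq]; exact h2⟩



theorem isPushout_appTop_of_isAffine {X Y S T : Scheme.{u}} {f : T ⟶ S} {g : Y ⟶ X} {iX : X ⟶ S}
    {iY : Y ⟶ T} (H : IsPullback g iY iX f) [IsAffine S] [IsAffine T] [IsAffine X] :
    IsPushout iX.appTop f.appTop g.appTop iY.appTop := by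
  have h1 : IsIso (pushoutSection H (US := ⊤) (UT := ⊤) (UX := ⊤) le_top le_top
      (UY := ⊤) (by simp)) :=
    isIso_pushoutSection_of_isAffineOpen H _ _ _ (isAffineOpen_top S)
      (isAffineOpen_top T) (isAffineOpen_top X)
  have h2 := (isIso_pushoutSection_iff H (US := ⊤) (UT := ⊤) (UX := ⊤) le_top le_top
      (UY := ⊤) (by simp)).mp h1
  convert h2 using 1 <;> simp [Scheme.Hom.appTop, Scheme.Hom.app_eq_appLE]



/-- total space of a morphism with finite fibres over a finite discrete scheme is finite discrete -/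
theorem finite_discrete_of_fibreDegLE {W T : Scheme.{u}} (w : W ⟶ T) (n : ℕ)
    (hw : BddFib.FibreDegLE w n) [Finite T] [DiscreteTopology T] :
    Finite W ∧ DiscreteTopology W := by
  constructor
  · have hfib : ∀ t : T, (w ⁻¹' {t}).Finite := by
      intro t
      have := (finite_card_le_of_finiteOfDegLE _ n (hw t)).1
      exact Set.finite_coe_iff.mp (Finite.of_equiv _ (w.fiberHomeo t).toEquiv)
    have huniv : (Set.univ : Set W) = ⋃ t : T, w ⁻¹' {t} := by ext x; simp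
    rw [← Set.finite_univ_iff, huniv]
    exact Set.finite_iUnion hfib
  · rw [discreteTopology_iff_isOpen_singleton]
    intro x
    have hopen : IsOpen (w ⁻¹' {w x}) := (isOpen_discrete _).preimage w.continuous
    have hd0 : DiscreteTopology (w.fiber (w x)) := discreteTopology_of_finiteOfDegLE _ n (hw (w x))
    have hd : DiscreteTopology (w ⁻¹' {w x}) :=
      (w.fiberHomeo (w x)).symm.isEmbedding.discreteTopology
    have h1 : IsOpen ({⟨x, rfl⟩} : Set (w ⁻¹' {w x})) := isOpen_discrete _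
    have h2 := hopen.isOpenEmbedding_subtypeVal.isOpenMap _ h1
    simpa using h2



theorem isoSpec_inv_appTop' (T : Scheme.{u}) [IsAffine T] :
    T.isoSpec.inv.appTop = (Scheme.ΓSpecIso Γ(T, ⊤)).inv := by
  have h1 : T.isoSpec.inv.appTop ≫ T.isoSpec.hom.appTop = 𝟙 _ := by
    rw [← Scheme.Hom.comp_appTop, Iso.hom_inv_id]
    rfl
  rw [Scheme.isoSpec_hom, Scheme.toSpecΓ_appTop] at h1
  rw [← cancel_mono (Scheme.ΓSpecIso Γ(T, ⊤)).hom, h1, Iso.inv_hom_id]

theorem specMap_comp_isoSpec_inv_appTop (T : Scheme.{u}) [IsAffine T] {K : CommRingCat.{u}}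
    (φ : Γ(T, ⊤) ⟶ K) :
    (Spec.map φ ≫ T.isoSpec.inv).appTop ≫ (Scheme.ΓSpecIso K).hom = φ := by
  rw [Scheme.Hom.comp_appTop, isoSpec_inv_appTop', Category.assoc, Scheme.ΓSpecIso_naturality,
    Iso.inv_hom_id_assoc]



/-- composition: a morphism with fibre degrees ≤ n over a finite k-scheme of degree ≤ m -/
theorem finiteOfDegLE_comp {k : Type u} [Field k] {W T : Scheme.{u}} (w : W ⟶ T)
    (p : T ⟶ Spec (CommRingCat.of k)) (n m : ℕ)
    (hp : BddFib.FiniteOfDegLE (CommRingCat.of k) p m) (hw : BddFib.FibreDegLE w n) :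
    BddFib.FiniteOfDegLE (CommRingCat.of k) (w ≫ p) (n * m) := by
  have hTfin := (finite_card_le_of_finiteOfDegLE p m hp).1
  have hTdisc := discreteTopology_of_finiteOfDegLE p m hp
  obtain ⟨hWfin, hWdisc⟩ := finite_discrete_of_fibreDegLE w n hw
  have hWaff : IsAffine W := inferInstance
  obtain ⟨hTaff, hBfin, hBle⟩ := hp
  letI a1 : Algebra k Γ(T, ⊤) := BddFib.secAlgebra (CommRingCat.of k) p
  letI a2 : Algebra k Γ(W, ⊤) := BddFib.secAlgebra (CommRingCat.of k) (w ≫ p)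
  letI a3 : Algebra Γ(T, ⊤) Γ(W, ⊤) := w.appTop.hom.toAlgebra
  haveI tw : IsScalarTower k Γ(T, ⊤) Γ(W, ⊤) := IsScalarTower.of_algebraMap_eq' (by
    change ((Scheme.ΓSpecIso (CommRingCat.of k)).inv ≫ (w ≫ p).appTop).hom =
      (w.appTop.hom).comp ((Scheme.ΓSpecIso (CommRingCat.of k)).inv ≫ p.appTop).hom
    rw [Scheme.Hom.comp_appTop]
    rfl)
  have key := finrank_le_mul_of_fibers (k := k) (B := Γ(T, ⊤)) (M := Γ(W, ⊤)) n ?_
  · exact ⟨hWaff, key.1, key.2.trans (Nat.mul_le_mul_left _ hBle)⟩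
  intro 𝔭 h𝔭
  letI fK := Ideal.Quotient.field 𝔭
  let φ : Γ(T, ⊤) ⟶ CommRingCat.of (Γ(T, ⊤) ⧸ 𝔭) := CommRingCat.ofHom (Ideal.Quotient.mk 𝔭)
  let j : Spec (CommRingCat.of (Γ(T, ⊤) ⧸ 𝔭)) ⟶ T := Spec.map φ ≫ T.isoSpec.inv
  have hK := (fibreDegLE_iff_forall_field_points w n).mp hw (Γ(T, ⊤) ⧸ 𝔭) j
  obtain ⟨hPaff, hPfin, hPle⟩ := hK
  have hpo := (isPushout_appTop_of_isAffine (IsPullback.of_hasPullback w j)).flip
  have hj : j.appTop ≫ (Scheme.ΓSpecIso (CommRingCat.of (Γ(T, ⊤) ⧸ 𝔭))).hom = φ :=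
    specMap_comp_isoSpec_inv_appTop T φ
  have hpo2 : IsPushout φ w.appTop
      ((Scheme.ΓSpecIso (CommRingCat.of (Γ(T, ⊤) ⧸ 𝔭))).inv ≫ (pullback.snd w j).appTop)
      (pullback.fst w j).appTop := by
    refine IsPushout.of_iso hpo (Iso.refl _) (Scheme.ΓSpecIso (CommRingCat.of (Γ(T, ⊤) ⧸ 𝔭)))
      (Iso.refl _) (Iso.refl _) ?_ ?_ ?_ ?_
    · simp [hj]
    · simp
    · simp
    · simp
  letI b1 : Algebra (Γ(T, ⊤) ⧸ 𝔭) Γ(pullback w j, ⊤) :=
    BddFib.secAlgebra (CommRingCat.of (Γ(T, ⊤) ⧸ 𝔭)) (pullback.snd w j)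
  letI b2 : Algebra Γ(W, ⊤) Γ(pullback w j, ⊤) := (pullback.fst w j).appTop.hom.toAlgebra
  letI b3 : Algebra Γ(T, ⊤) Γ(pullback w j, ⊤) :=
    ((algebraMap (Γ(T, ⊤) ⧸ 𝔭) Γ(pullback w j, ⊤)).comp (algebraMap Γ(T, ⊤) (Γ(T, ⊤) ⧸ 𝔭))).toAlgebra
  haveI t1 : IsScalarTower Γ(T, ⊤) (Γ(T, ⊤) ⧸ 𝔭) Γ(pullback w j, ⊤) :=
    IsScalarTower.of_algebraMap_eq' rfl
  haveI t2 : IsScalarTower Γ(T, ⊤) Γ(W, ⊤) Γ(pullback w j, ⊤) := by
    refine IsScalarTower.of_algebraMap_eq' ?_
    have := congrArg CommRingCat.Hom.hom hpo2.w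
    exact this
  have hP : Algebra.IsPushout Γ(T, ⊤) (Γ(T, ⊤) ⧸ 𝔭) Γ(W, ⊤) Γ(pullback w j, ⊤) := by
    refine CommRingCat.isPushout_iff_isPushout.mp ?_
    exact hpo2
  let e := hP.equiv
  exact ⟨Module.Finite.equiv e.symm.toLinearEquiv, by
    rw [e.toLinearEquiv.finrank_eq]; exact hPle⟩

theorem fibreDegLE_comp {X Y Z : Scheme.{u}} (f : X ⟶ Y) (g : Y ⟶ Z) (n m : ℕ)
    (hf : BddFib.FibreDegLE f n) (hg : BddFib.FibreDegLE g m) :
    BddFib.FibreDegLE (f ≫ g) (n * m) := by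
  rw [fibreDegLE_iff_forall_field_points]
  intro k _ z
  have h1 : IsPullback (pullback.fst f (pullback.fst g z)) (pullback.snd f (pullback.fst g z)) f
      (pullback.fst g z) := IsPullback.of_hasPullback _ _
  have h2 : IsPullback (pullback.fst g z) (pullback.snd g z) g z := IsPullback.of_hasPullback _ _
  have h3 := h1.paste_vert h2
  have hp := (fibreDegLE_iff_forall_field_points g m).mp hg k z
  have hw := fibreDegLE_of_isPullback f (pullback.fst g z) (pullback.snd f _) (pullback.fst f _) h1 n hf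
  have h4 := finiteOfDegLE_comp (pullback.snd f (pullback.fst g z)) (pullback.snd g z) n m hp hw
  exact (finiteOfDegLE_fiber_iff (f ≫ g) z _ _ (IsPullback.of_hasPullback _ _) (n * m)).mp
    ((finiteOfDegLE_fiber_iff (f ≫ g) z _ _ h3 (n * m)).mpr h4)


end Groth.Agent.Lib.Helper9.BddFibLib5
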