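import Mathlib
import Groth.Agent.Lib.Helper9.BddFibLib5
set_option autoImplicit false
universe u
open CategoryTheory CategoryTheory.Limits AlgebraicGeometry TensorProduct

namespace Groth.Agent.Lib.Helper9.BddFibLib6
open Groth.Agent.Lib.Helper9.BddFibLib Groth.Agent.Lib.Helper9.BddFibLib4
  Groth.Agent.Lib.Helper9.BddFibLib5


/-- field points of `Spec S → Spec R`: the fibre is `Spec (K ⊗ S)` -/
theorem finiteOfDegLE_pullback_specMap {R S K : Type u} [CommRing R] [CommRing S] [Field K]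
    [Algebra R S] [Algebra R K] (n : ℕ) :
    BddFib.FiniteOfDegLE (CommRingCat.of K)
      (pullback.snd (Spec.map (CommRingCat.ofHom (algebraMap R S)))
        (Spec.map (CommRingCat.ofHom (algebraMap R K)))) n ↔
    (Module.Finite K (K ⊗[R] S) ∧ Module.finrank K (K ⊗[R] S) ≤ n) := by
  set φ := CommRingCat.ofHom (algebraMap R S)
  set ψ := CommRingCat.ofHom (algebraMap R K)
  have hPaff : IsAffine (pullback (Spec.map φ) (Spec.map ψ)) := inferInstance
  have hpo := (isPushout_appTop_of_isAffine (IsPullback.of_hasPullback (Spec.map φ) (Spec.map ψ))).flip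
  -- hpo : IsPushout (Spec.map ψ).appTop (Spec.map φ).appTop snd.appTop fst.appTop
  have hpo2 : IsPushout ψ φ
      ((Scheme.ΓSpecIso (CommRingCat.of K)).inv ≫ (pullback.snd (Spec.map φ) (Spec.map ψ)).appTop)
      ((Scheme.ΓSpecIso (CommRingCat.of S)).inv ≫ (pullback.fst (Spec.map φ) (Spec.map ψ)).appTop) := by
    refine IsPushout.of_iso hpo (Scheme.ΓSpecIso (CommRingCat.of R))
      (Scheme.ΓSpecIso (CommRingCat.of K)) (Scheme.ΓSpecIso (CommRingCat.of S)) (Iso.refl _)
      ?_ ?_ ?_ ?_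
    · exact Scheme.ΓSpecIso_naturality ψ
    · exact Scheme.ΓSpecIso_naturality φ
    · simp
    · simp
  letI b1 : Algebra K Γ(pullback (Spec.map φ) (Spec.map ψ), ⊤) :=
    BddFib.secAlgebra (CommRingCat.of K) (pullback.snd (Spec.map φ) (Spec.map ψ))
  letI b2 : Algebra S Γ(pullback (Spec.map φ) (Spec.map ψ), ⊤) :=
    ((Scheme.ΓSpecIso (CommRingCat.of S)).inv ≫
      (pullback.fst (Spec.map φ) (Spec.map ψ)).appTop).hom.toAlgebra
  letI b3 : Algebra R Γ(pullback (Spec.map φ) (Spec.map ψ), ⊤) :=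
    ((algebraMap K Γ(pullback (Spec.map φ) (Spec.map ψ), ⊤)).comp (algebraMap R K)).toAlgebra
  haveI t1 : IsScalarTower R K Γ(pullback (Spec.map φ) (Spec.map ψ), ⊤) :=
    IsScalarTower.of_algebraMap_eq' rfl
  haveI t2 : IsScalarTower R S Γ(pullback (Spec.map φ) (Spec.map ψ), ⊤) := by
    refine IsScalarTower.of_algebraMap_eq' ?_
    have := congrArg CommRingCat.Hom.hom hpo2.w
    exact this
  have hP : Algebra.IsPushout R K S Γ(pullback (Spec.map φ) (Spec.map ψ), ⊤) := by
    refine CommRingCat.isPushout_iff_isPushout.mp ?_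
    exact hpo2
  let e := hP.equiv
  unfold BddFib.FiniteOfDegLE
  simp only [hPaff, true_and]
  constructor
  · rintro ⟨h1, h2⟩
    exact ⟨Module.Finite.equiv e.symm.toLinearEquiv, by rw [e.toLinearEquiv.finrank_eq]; exact h2⟩
  · rintro ⟨h1, h2⟩
    exact ⟨Module.Finite.equiv e.toLinearEquiv, by rw [← e.toLinearEquiv.finrank_eq]; exact h2⟩



/-- a field point of `Spec R` comes from a ring map -/
theorem fibreDegLE_specMap_iff {R S : Type u} [CommRing R] [CommRing S] [Algebra R S] (n : ℕ) :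
    BddFib.FibreDegLE (Spec.map (CommRingCat.ofHom (algebraMap R S))) n ↔
    ∀ (K : Type u) [Field K] [Algebra R K],
      Module.Finite K (K ⊗[R] S) ∧ Module.finrank K (K ⊗[R] S) ≤ n := by
  rw [fibreDegLE_iff_forall_field_points]
  constructor
  · intro h K _ _
    exact (finiteOfDegLE_pullback_specMap n).mp (h K (Spec.map (CommRingCat.ofHom (algebraMap R K))))
  · intro h K _ g
    letI : Algebra R K := (Spec.preimage g).hom.toAlgebra
    have hg : g = Spec.map (CommRingCat.ofHom (algebraMap R K)) := (Spec.map_preimage g).symm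
    rw [hg]
    exact (finiteOfDegLE_pullback_specMap n).mpr (h K)

theorem fibreDegLE_specMap_of_span {R S : Type u} [CommRing R] [CommRing S] [Algebra R S]
    (s : Finset S) (hs : Submodule.span R (s : Set S) = ⊤) :
    BddFib.FibreDegLE (Spec.map (CommRingCat.ofHom (algebraMap R S))) s.card := by
  classical
  rw [fibreDegLE_specMap_iff]
  intro K _ _
  have hfin : Module.Finite R S := ⟨⟨s, hs⟩⟩
  refine ⟨inferInstance, ?_⟩
  have h1 : Submodule.span K (TensorProduct.mk R K S 1 '' (s : Set S)) = ⊤ := by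
    rw [← Submodule.baseChange_span, hs, Submodule.baseChange_top]
  have h2 := finrank_span_le_card (R := K) (TensorProduct.mk R K S 1 '' (s : Set S))
  rw [h1, finrank_top] at h2
  refine h2.trans ?_
  rw [Set.toFinset_image]
  refine Finset.card_image_le.trans ?_
  simp



theorem germ_eq_zero_of_appTop_eq_zero {T T₁ : Scheme.{u}} (q₁ : T₁ ⟶ T) [IsOpenImmersion q₁]
    (s : Γ(T, ⊤)) (h1 : q₁.appTop s = 0) (x₁ : T₁) (hx : q₁ x₁ ∈ (⊤ : T.Opens)) :
    T.presheaf.germ ⊤ (q₁ x₁) hx s = 0 := by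
  have hinj : Function.Injective (q₁.stalkMap x₁) :=
    (ConcreteCategory.bijective_of_isIso (q₁.stalkMap x₁)).1
  apply hinj
  rw [map_zero, Scheme.Hom.germ_stalkMap_apply q₁ ⊤ x₁ hx s]
  change (T₁.presheaf.germ _ x₁ _) (q₁.appTop s) = 0
  rw [h1, map_zero]

/-- a global section killed by two jointly surjective open immersions vanishes -/
theorem section_eq_zero_of_openCover {T T₁ T₂ : Scheme.{u}} (q₁ : T₁ ⟶ T) (q₂ : T₂ ⟶ T)
    [IsOpenImmersion q₁] [IsOpenImmersion q₂]
    (hcov : Set.range q₁ ∪ Set.range q₂ = Set.univ) (s : Γ(T, ⊤))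
    (h1 : q₁.appTop s = 0) (h2 : q₂.appTop s = 0) : s = 0 := by
  refine TopCat.Presheaf.section_ext T.sheaf ⊤ s 0 ?_
  intro x hx
  have hx' : x ∈ Set.range q₁ ∪ Set.range q₂ := hcov ▸ Set.mem_univ x
  change T.presheaf.germ ⊤ x hx s = T.presheaf.germ ⊤ x hx 0
  rw [map_zero]
  rcases hx' with ⟨x₁, rfl⟩ | ⟨x₂, rfl⟩
  · exact germ_eq_zero_of_appTop_eq_zero q₁ s h1 x₁ hx
  · exact germ_eq_zero_of_appTop_eq_zero q₂ s h2 x₂ hx



/-- finite `k`-schemes glue along a two-member open cover -/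
theorem finiteOfDegLE_of_openCover {k : Type u} [Field k] {T T₁ T₂ : Scheme.{u}}
    (p : T ⟶ Spec (CommRingCat.of k)) (q₁ : T₁ ⟶ T) (q₂ : T₂ ⟶ T)
    [IsOpenImmersion q₁] [IsOpenImmersion q₂]
    (hcov : Set.range q₁ ∪ Set.range q₂ = Set.univ) (a b : ℕ)
    (h1 : BddFib.FiniteOfDegLE (CommRingCat.of k) (q₁ ≫ p) a)
    (h2 : BddFib.FiniteOfDegLE (CommRingCat.of k) (q₂ ≫ p) b) :
    BddFib.FiniteOfDegLE (CommRingCat.of k) p (a + b) := by
  have hf1 := (finite_card_le_of_finiteOfDegLE _ a h1).1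
  have hf2 := (finite_card_le_of_finiteOfDegLE _ b h2).1
  have hd1 := discreteTopology_of_finiteOfDegLE _ a h1
  have hd2 := discreteTopology_of_finiteOfDegLE _ b h2
  have hTfin : Finite T := by
    rw [← Set.finite_univ_iff, ← hcov]
    exact (Set.finite_range _).union (Set.finite_range _)
  have hTdisc : DiscreteTopology T := by
    rw [discreteTopology_iff_isOpen_singleton]
    intro x
    have hx' : x ∈ Set.range q₁ ∪ Set.range q₂ := hcov ▸ Set.mem_univ x
    rcases hx' with ⟨x₁, rfl⟩ | ⟨x₂, rfl⟩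
    · have := q₁.isOpenEmbedding.isOpenMap _ (isOpen_discrete {x₁})
      simpa using this
    · have := q₂.isOpenEmbedding.isOpenMap _ (isOpen_discrete {x₂})
      simpa using this
  have hTaff : IsAffine T := inferInstance
  obtain ⟨-, hfin1, hle1⟩ := h1
  obtain ⟨-, hfin2, hle2⟩ := h2
  letI a0 : Algebra k Γ(T, ⊤) := BddFib.secAlgebra (CommRingCat.of k) p
  letI a1 : Algebra k Γ(T₁, ⊤) := BddFib.secAlgebra (CommRingCat.of k) (q₁ ≫ p)
  letI a2 : Algebra k Γ(T₂, ⊤) := BddFib.secAlgebra (CommRingCat.of k) (q₂ ≫ p)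
  let L1 : Γ(T, ⊤) →ₗ[k] Γ(T₁, ⊤) :=
    { toFun := q₁.appTop.hom
      map_add' := map_add _
      map_smul' := by
        intro c x
        simp only [Algebra.smul_def, map_mul, RingHom.id_apply]
        congr 1 }
  let L2 : Γ(T, ⊤) →ₗ[k] Γ(T₂, ⊤) :=
    { toFun := q₂.appTop.hom
      map_add' := map_add _
      map_smul' := by
        intro c x
        simp only [Algebra.smul_def, map_mul, RingHom.id_apply]
        congr 1 }
  let L : Γ(T, ⊤) →ₗ[k] Γ(T₁, ⊤) × Γ(T₂, ⊤) := L1.prod L2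
  have hLinj : Function.Injective L := by
    rw [← LinearMap.ker_eq_bot, LinearMap.ker_eq_bot']
    intro s hs
    have hs1 : q₁.appTop s = 0 := congrArg Prod.fst hs
    have hs2 : q₂.appTop s = 0 := congrArg Prod.snd hs
    exact section_eq_zero_of_openCover q₁ q₂ hcov s hs1 hs2
  refine ⟨hTaff, Module.Finite.of_injective L hLinj, ?_⟩
  have h3 := LinearMap.finrank_le_finrank_of_injective hLinj
  rw [Module.finrank_prod] at h3
  have hle1' : Module.finrank k Γ(T₁, ⊤) ≤ a := hle1
  have hle2' : Module.finrank k Γ(T₂, ⊤) ≤ b := hle2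
  change Module.finrank k Γ(T, ⊤) ≤ a + b
  omega

theorem fibreDegLE_of_openCover {X Y X₁ X₂ : Scheme.{u}} (f : X ⟶ Y) (j₁ : X₁ ⟶ X) (j₂ : X₂ ⟶ X)
    [IsOpenImmersion j₁] [IsOpenImmersion j₂]
    (hcov : Set.range j₁ ∪ Set.range j₂ = Set.univ) (a b : ℕ)
    (h1 : BddFib.FibreDegLE (j₁ ≫ f) a) (h2 : BddFib.FibreDegLE (j₂ ≫ f) b) :
    BddFib.FibreDegLE f (a + b) := by
  rw [fibreDegLE_iff_forall_field_points]
  intro k _ g
  have hb : IsPullback (pullback.fst f g) (pullback.snd f g) f g := IsPullback.of_hasPullback _ _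
  have ht1 : IsPullback (pullback.fst j₁ (pullback.fst f g)) (pullback.snd j₁ (pullback.fst f g)) j₁
      (pullback.fst f g) := IsPullback.of_hasPullback _ _
  have ht2 : IsPullback (pullback.fst j₂ (pullback.fst f g)) (pullback.snd j₂ (pullback.fst f g)) j₂
      (pullback.fst f g) := IsPullback.of_hasPullback _ _
  have hp1 := ht1.paste_vert hb
  have hp2 := ht2.paste_vert hb
  have hF1 := (finiteOfDegLE_fiber_iff (j₁ ≫ f) g _ _ hp1 a).mp (h1 _)
  have hF2 := (finiteOfDegLE_fiber_iff (j₂ ≫ f) g _ _ hp2 b).mp (h2 _)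
  refine finiteOfDegLE_of_openCover (pullback.snd f g) (pullback.snd j₁ (pullback.fst f g))
    (pullback.snd j₂ (pullback.fst f g)) ?_ a b hF1 hF2
  rw [Scheme.Pullback.range_snd, Scheme.Pullback.range_snd, ← Set.preimage_union, hcov,
    Set.preimage_univ]



/-- local structure of a quasi-finite algebra of finite type (Zariski's main theorem) -/
theorem exists_fibreDegLE_away {R S : Type u} [CommRing R] [CommRing S] [Algebra R S]
    [Algebra.FiniteType R S] [Algebra.QuasiFinite R S] (p : PrimeSpectrum S) :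
    ∃ (r : S) (N : ℕ), r ∉ p.asIdeal ∧
      BddFib.FibreDegLE (Spec.map (CommRingCat.ofHom (algebraMap S (Localization.Away r))) ≫
        Spec.map (CommRingCat.ofHom (algebraMap R S))) N := by
  obtain ⟨S', hfg, r, hrp, hbij⟩ :=
    Algebra.QuasiFiniteAt.exists_fg_and_exists_notMem_and_awayMap_bijective (R := R) p.asIdeal
  have hfin : Module.Finite R S' := ⟨(Submodule.fg_top _).mpr hfg⟩
  obtain ⟨s, hs⟩ := hfin.1
  refine ⟨r.1, 1 * (1 * s.card), hrp, ?_⟩
  let ψ : CommRingCat.of (Localization.Away r) ⟶ CommRingCat.of (Localization.Away r.1) :=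
    CommRingCat.ofHom (Localization.awayMap S'.val.toRingHom r)
  have hψ : IsIso ψ := by
    have : ψ = (RingEquiv.ofBijective _ hbij).toCommRingCatIso.hom := rfl
    rw [this]
    infer_instance
  have heq : Spec.map (CommRingCat.ofHom (algebraMap S (Localization.Away r.1))) ≫
        Spec.map (CommRingCat.ofHom (algebraMap R S)) =
      Spec.map ψ ≫ (Spec.map (CommRingCat.ofHom (algebraMap S' (Localization.Away r))) ≫
        Spec.map (CommRingCat.ofHom (algebraMap R S'))) := by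
    rw [← Spec.map_comp, ← Spec.map_comp, ← Spec.map_comp]
    congr 1
    ext x
    simp only [CommRingCat.hom_comp, CommRingCat.hom_ofHom, RingHom.coe_comp, Function.comp_apply, ψ]
    have hcomp : ∀ y : S', Localization.awayMap S'.val.toRingHom r
        (algebraMap S' (Localization.Away r) y) =
        algebraMap S (Localization.Away r.1) (S'.val y) := fun y => IsLocalization.map_eq _ y
    exact (hcomp (algebraMap R S' x)).symm
  rw [heq]
  refine fibreDegLE_comp _ _ 1 _ (fibreDegLE_one_of_isImmersion _) ?_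
  refine fibreDegLE_comp _ _ 1 _ (fibreDegLE_one_of_isImmersion _) ?_
  exact fibreDegLE_specMap_of_span s hs



/-- universal boundedness is local on a quasi-compact source -/
theorem univBounded_of_locally {X Y : Scheme.{u}} (f : X ⟶ Y) [CompactSpace X]
    (H : ∀ x : X, ∃ (U : Scheme.{u}) (j : U ⟶ X), IsOpenImmersion j ∧ x ∈ Set.range j ∧
      BddFib.UnivBounded (j ≫ f)) : BddFib.UnivBounded f := by
  let P : Set X → Prop := fun s => ∃ W : X.Opens, s ⊆ (W : Set X) ∧ BddFib.UnivBounded (W.ι ≫ f)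
  have hP : P Set.univ := by
    refine isCompact_univ.induction_on (p := P) ?_ ?_ ?_ ?_
    · refine ⟨⊥, Set.empty_subset _, 1, ?_⟩
      have : IsEmpty ((⊥ : X.Opens) : Scheme.{u}) := ⟨fun x => x.2⟩
      exact fibreDegLE_one_of_isImmersion _
    · rintro s t hst ⟨W, hW, hb⟩
      exact ⟨W, hst.trans hW, hb⟩
    · rintro s t ⟨W₁, hW₁, a, ha⟩ ⟨W₂, hW₂, b, hb⟩
      refine ⟨W₁ ⊔ W₂, ?_, a + b, ?_⟩
      · exact Set.union_subset (hW₁.trans (by exact_mod_cast (le_sup_left : W₁ ≤ W₁ ⊔ W₂)))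
          (hW₂.trans (by exact_mod_cast (le_sup_right : W₂ ≤ W₁ ⊔ W₂)))
      · refine fibreDegLE_of_openCover ((W₁ ⊔ W₂).ι ≫ f) (X.homOfLE le_sup_left)
          (X.homOfLE le_sup_right) ?_ a b ?_ ?_
        · rw [Set.eq_univ_iff_forall]
          rintro ⟨x, hx⟩
          rcases hx with hx | hx
          · exact Or.inl ⟨⟨x, hx⟩, Scheme.homOfLE_apply' _ x hx⟩
          · exact Or.inr ⟨⟨x, hx⟩, Scheme.homOfLE_apply' _ x hx⟩
        · rw [← Category.assoc, Scheme.homOfLE_ι]; exact ha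
        · rw [← Category.assoc, Scheme.homOfLE_ι]; exact hb
    · intro x _
      obtain ⟨U, j, hj, hx, N, hN⟩ := H x
      refine ⟨Set.range j, ?_, j.opensRange, le_rfl, 1 * N, ?_⟩
      · rw [nhdsWithin_univ]
        exact j.isOpenEmbedding.isOpen_range.mem_nhds hx
      · rw [← Scheme.Hom.isoOpensRange_inv_comp, Category.assoc]
        exact fibreDegLE_comp _ _ 1 N (fibreDegLE_one_of_isImmersion _) hN
  obtain ⟨W, hW, N, hN⟩ := hP
  have hsurj : Surjective W.ι := by
    constructor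
    intro x
    exact ⟨⟨x, hW (Set.mem_univ x)⟩, rfl⟩
  exact ⟨N, fibreDegLE_of_flat_surjective_triangle W.ι f N hN⟩



theorem univBounded_of_locallyQuasiFinite {X Y : Scheme.{u}} (f : X ⟶ Y) [LocallyQuasiFinite f]
    [LocallyOfFiniteType f] [CompactSpace X] : BddFib.UnivBounded f := by
  refine univBounded_of_locally f ?_
  intro x
  obtain ⟨V, hV, hxV, -⟩ := exists_isAffineOpen_mem_and_subset (x := f x) (U := ⊤) trivial
  obtain ⟨U, hU, hxU, hUV⟩ := exists_isAffineOpen_mem_and_subset (x := x) (U := f ⁻¹ᵁ V) hxV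
  have hft : (f.appLE V U hUV).hom.FiniteType := f.finiteType_appLE hV hU hUV
  have hqf : (f.appLE V U hUV).hom.QuasiFinite :=
    LocallyQuasiFinite.quasiFinite_appLE hV hU hUV
  algebraize [(f.appLE V U hUV).hom]
  obtain ⟨r, N, hr, hN⟩ := exists_fibreDegLE_away (R := Γ(Y, V)) (S := Γ(X, U))
    (hU.primeIdealOf ⟨x, hxU⟩)
  refine ⟨_, Spec.map (CommRingCat.ofHom (algebraMap Γ(X, U) (Localization.Away r))) ≫ hU.fromSpec,
    inferInstance, ?_, N * 1, ?_⟩
  · have hmem : hU.primeIdealOf ⟨x, hxU⟩ ∈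
        Set.range (Spec.map (CommRingCat.ofHom (algebraMap Γ(X, U) (Localization.Away r)))) := by
      have := PrimeSpectrum.localization_away_comap_range (Localization.Away r) r
      change hU.primeIdealOf ⟨x, hxU⟩ ∈
        Set.range (PrimeSpectrum.comap (algebraMap Γ(X, U) (Localization.Away r)))
      rw [this]
      exact hr
    obtain ⟨z, hz⟩ := hmem
    refine ⟨z, ?_⟩
    rw [Scheme.Hom.comp_apply, hz, hU.fromSpec_primeIdealOf]
  · have heq : (Spec.map (CommRingCat.ofHom (algebraMap Γ(X, U) (Localization.Away r))) ≫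
        hU.fromSpec) ≫ f =
        (Spec.map (CommRingCat.ofHom (algebraMap Γ(X, U) (Localization.Away r))) ≫
          Spec.map (CommRingCat.ofHom (algebraMap Γ(Y, V) Γ(X, U)))) ≫ hV.fromSpec := by
      rw [Category.assoc, Category.assoc]
      congr 1
      exact (IsAffineOpen.SpecMap_appLE_fromSpec f hV hU hUV).symm
    rw [heq]
    exact fibreDegLE_comp _ _ N 1 hN (fibreDegLE_one_of_isImmersion _)


end Groth.Agent.Lib.Helper9.BddFibLib6
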