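import Groth.Agent.Lib.Helper9.FPColim
import Mathlib.Algebra.Category.Ring.FilteredColimits
import Mathlib.Algebra.Category.Ring.Colimits
import Mathlib.CategoryTheory.Limits.Preserves.Over
import Mathlib.CategoryTheory.Limits.Constructions.Over.Connected
import Mathlib.CategoryTheory.Limits.Types.Filtered

/-!
# Presenting an algebra as a directed colimit of finitely presented algebras (categorical level)
-/

set_option autoImplicit false
universe u

open CategoryTheory Limits

namespace Groth.Agent.Lib.Helper9.FPColim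

attribute [local instance] IsFiltered.isConnected

/-- Recognition of filtered colimits in `Under A`. -/
noncomputable def isColimitUnder {A : CommRingCat.{u}} {J : Type u} [SmallCategory J] [IsFiltered J]
    (F : J ⥤ Under A) (c : Cocone F)
    (hsurj : ∀ x : c.pt.right, ∃ j, ∃ y : (F.obj j).right, x = (c.ι.app j).right.hom y)
    (hinj : ∀ j (x y : (F.obj j).right), (c.ι.app j).right.hom x = (c.ι.app j).right.hom y →
      ∃ k, ∃ f : j ⟶ k, (F.map f).right.hom x = (F.map f).right.hom y) : IsColimit c := by
  haveI : ReflectsColimitsOfShape J (forget CommRingCat.{u}) :=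
    reflectsColimitsOfShape_of_reflectsIsomorphisms
  apply isColimitOfReflects (Under.forget A ⋙ forget CommRingCat)
  exact Types.FilteredColimit.isColimitOf' _ _ hsurj hinj

variable {A B : Type u} [CommRing A] [CommRing B] [Algebra A B]
variable (P : Idx A B → Prop)

/-- The object attached to an index. -/
noncomputable def objOf (i : Idx A B) : Under (CommRingCat.of A) :=
  Under.mk (Y := CommRingCat.of (Q i)) (CommRingCat.ofHom (algebraMap A (Q i)))

/-- The object `B`. -/
noncomputable def objB : Under (CommRingCat.of A) :=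
  Under.mk (Y := CommRingCat.of B) (CommRingCat.ofHom (algebraMap A B))

/-- The transition morphisms. -/
noncomputable def homOf {i j : Idx A B} (h : i ≤ j) : objOf i ⟶ objOf j :=
  Under.homMk (U := objOf i) (V := objOf j) (CommRingCat.ofHom (tr h).toRingHom) (by
    ext a
    exact (tr h).commutes a)

/-- The cocone morphisms. -/
noncomputable def legOf (i : Idx A B) : objOf i ⟶ objB (A := A) (B := B) :=
  Under.homMk (U := objOf i) (V := objB) (CommRingCat.ofHom (leg i).toRingHom) (by
    ext a
    exact (leg i).commutes a)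

theorem homOf_right_apply {i j : Idx A B} (h : i ≤ j) (x : Q i) :
    (homOf h).right.hom x = tr h x := rfl

theorem legOf_right_apply (i : Idx A B) (x : Q i) :
    (legOf i).right.hom x = leg i x := rfl

/-- The diagram of finitely presented algebras. -/
noncomputable def diag : {i : Idx A B // P i} ⥤ Under (CommRingCat.of A) where
  obj j := objOf j.1
  map {j k} f := homOf (show j.1 ≤ k.1 from leOfHom f)
  map_id j := by
    ext x
    exact tr_refl j.1 x
  map_comp {i j k} f g := by
    ext x
    exact (tr_trans (show i.1 ≤ j.1 from leOfHom f) (show j.1 ≤ k.1 from leOfHom g) x).symm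

/-- The cocone with point `B`. -/
noncomputable def cocone : Cocone (diag P) where
  pt := objB
  ι :=
  { app := fun j => legOf j.1
    naturality := fun j k f => by
      ext x
      exact leg_tr (show j.1 ≤ k.1 from leOfHom f) x }

variable (hC : ∀ i : Idx A B, ∃ j, P j ∧ i ≤ j)

include hC in
theorem isDirected_sub : IsDirected {i : Idx A B // P i} (· ≤ ·) := by
  refine ⟨fun i j => ?_⟩
  obtain ⟨k, hk, hle⟩ := hC (i.1.sup j.1)
  exact ⟨⟨k, hk⟩, (Idx.le_sup_left i.1 j.1).trans hle, (Idx.le_sup_right i.1 j.1).trans hle⟩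

include hC in
theorem nonempty_sub : Nonempty {i : Idx A B // P i} := by
  obtain ⟨k, hk, -⟩ := hC ⟨∅, ∅, fun t ht => absurd ht (Finset.notMem_empty t),
    fun t ht => absurd ht (Finset.notMem_empty t)⟩
  exact ⟨⟨k, hk⟩⟩

include hC in
theorem exists_presentation :
    ∃ (J : Type u) (_ : SmallCategory J) (_ : IsFiltered J) (F : J ⥤ Under (CommRingCat.of A))
      (c : Cocone F) (_ : IsColimit c),
      (∀ j, ∃ i : Idx A B, P i ∧ F.obj j = objOf i) ∧ c.pt = objB (A := A) (B := B) := by
  haveI := isDirected_sub P hC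
  haveI := nonempty_sub P hC
  refine ⟨{i : Idx A B // P i}, inferInstance, inferInstance, diag P, cocone P, ?_,
    fun j => ⟨j.1, j.2, rfl⟩, rfl⟩
  apply isColimitUnder
  · intro b
    change B at b
    obtain ⟨k, hk, hle⟩ := hC (Idx.single b)
    have hb : b ∈ k.S := hle.1 (Finset.mem_singleton_self b)
    refine ⟨⟨k, hk⟩, q k (MvPolynomial.X b), ?_⟩
    change b = leg k (q k (MvPolynomial.X b))
    rw [leg_q k (X_mem_supported' (Finset.mem_coe.mpr hb)), ev_X]
  · intro j x y hxy
    change Q j.1 at x y
    change leg j.1 x = leg j.1 y at hxy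
    obtain ⟨r₁, hr₁, rfl⟩ := exists_q_eq j.1 x
    obtain ⟨r₂, hr₂, rfl⟩ := exists_q_eq j.1 y
    rw [leg_q _ hr₁, leg_q _ hr₂] at hxy
    have h0 : ev A B (r₁ - r₂) = 0 := by rw [map_sub, hxy, sub_self]
    have hmem : r₁ - r₂ ∈ MvPolynomial.supported A (j.1.S : Set B) := Subalgebra.sub_mem _ hr₁ hr₂
    obtain ⟨k, hk, hle⟩ := hC (j.1.addRel (r₁ - r₂) hmem h0)
    have hjk : j.1 ≤ k := (Idx.le_addRel j.1 _ hmem h0).trans hle
    have hjk' : j ≤ (⟨k, hk⟩ : {i : Idx A B // P i}) := hjk
    refine ⟨⟨k, hk⟩, homOfLE hjk', ?_⟩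
    change tr hjk (q j.1 r₁) = tr hjk (q j.1 r₂)
    rw [tr_q _ hr₁, tr_q _ hr₂, ← sub_eq_zero, ← map_sub]
    exact q_eq_zero_of_mem k (hle.2 (Idx.mem_addRel j.1 _ hmem h0))

end Groth.Agent.Lib.Helper9.FPColim
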