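import Mathlib.AlgebraicGeometry.Morphisms.FinitePresentation
import Groth.Agent.Lib.Helper9.FPColim2

set_option autoImplicit false
set_option linter.style.haveILetI false
set_option linter.unusedSectionVars false
universe u v w
open CategoryTheory CategoryTheory.Limits AlgebraicGeometry TopologicalSpace Opposite

namespace Groth.Agent.Lib.Helper9.LfpLift

/-- cancellation for morphisms locally of finite presentation (same proof as in other seats' libs) -/
theorem locallyOfFinitePresentation_of_comp {X Y Z : Scheme.{u}} (f : X ⟶ Y) (g : Y ⟶ Z)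
    [LocallyOfFinitePresentation (f ≫ g)] [LocallyOfFiniteType g] :
    LocallyOfFinitePresentation f := by
  rw [HasRingHomProperty.iff_exists_appLE (P := @LocallyOfFinitePresentation)
    (RingHom.finitePresentation_stableUnderComposition.stableUnderCompositionWithLocalizationAway
      RingHom.finitePresentation_holdsForLocalizationAway).left]
  intro x
  obtain ⟨_, ⟨Z0, hZ0, rfl⟩, hxZ0, -⟩ :=
    Z.isBasis_affineOpens.exists_subset_of_mem_open (Set.mem_univ (g (f x))) isOpen_univ
  obtain ⟨V, hV, hxV, hVZ0⟩ := exists_isAffineOpen_mem_and_subset (x := f x) (U := g ⁻¹ᵁ Z0) hxZ0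
  obtain ⟨W, hW, hxW, hWV⟩ := exists_isAffineOpen_mem_and_subset (x := x) (U := f ⁻¹ᵁ V) hxV
  refine ⟨⟨V, hV⟩, ⟨W, hW⟩, hxW, hWV, ?_⟩
  have h1 := (f ≫ g).finitePresentation_appLE hZ0 hW
    (hWV.trans ((TopologicalSpace.Opens.map f.base).map (homOfLE hVZ0)).le)
  rw [← Scheme.Hom.appLE_comp_appLE f g Z0 V W hVZ0 hWV, CommRingCat.hom_comp] at h1
  exact RingHom.FinitePresentation.of_comp_finiteType _ h1 (g.finiteType_appLE hZ0 hV hVZ0)

variable {X S : Scheme.{u}} (f : X ⟶ S)

/-- A retract (over `S`) of a scheme locally of finite presentation over `S` is locally of finite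
presentation. -/
theorem of_retract {V W : Scheme.{u}} (v : V ⟶ S) (w : W ⟶ S) [LocallyOfFinitePresentation w]
    (i : V ⟶ W) (r : W ⟶ V) (hir : i ≫ r = 𝟙 V) (hi : i ≫ w = v) (hr : r ≫ v = w) :
    LocallyOfFinitePresentation v := by
  haveI : LocallyOfFiniteType (r ≫ v) := by rw [hr]; infer_instance
  haveI : LocallyOfFiniteType r := locallyOfFiniteType_of_comp r v
  haveI : LocallyOfFinitePresentation (i ≫ r) := by rw [hir]; infer_instance
  haveI : LocallyOfFinitePresentation i := locallyOfFinitePresentation_of_comp i r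
  rw [← hi]
  infer_instance

/-- The key step: if an open `V ⊆ X` factors over `S` through a scheme locally of finite
presentation over `S`, then `V` is locally of finite presentation over `S`. -/
theorem of_factor {V : X.Opens} {T : Scheme.{u}} (τ : T ⟶ S) [LocallyOfFinitePresentation τ]
    (p : (V : Scheme.{u}) ⟶ T) (g : T ⟶ X) (h1 : g ≫ f = τ) (h2 : p ≫ g = V.ι) :
    LocallyOfFinitePresentation (V.ι ≫ f) := by
  let W : T.Opens := g ⁻¹ᵁ V
  have hrange : Set.range p ⊆ Set.range W.ι := by
    rintro _ ⟨v, rfl⟩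
    rw [Scheme.Opens.range_ι]
    change g (p v) ∈ V
    have : g (p v) = V.ι v := by
      rw [← h2]; rfl
    rw [this]
    exact v.2
  let i : (V : Scheme.{u}) ⟶ W := IsOpenImmersion.lift W.ι p hrange
  have hi : i ≫ W.ι = p := IsOpenImmersion.lift_fac _ _ _
  let r : (W : Scheme.{u}) ⟶ V := g ∣_ V
  have hr : r ≫ V.ι = W.ι ≫ g := morphismRestrict_ι g V
  refine of_retract (V.ι ≫ f) (W.ι ≫ τ) i r ?_ ?_ ?_
  · rw [← cancel_mono V.ι, Category.assoc, hr, reassoc_of% hi, h2, Category.id_comp]
  · rw [reassoc_of% hi, ← h1, reassoc_of% h2]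
  · rw [reassoc_of% hr, h1]

/-- Locality at the source in the form used below. -/
theorem of_forall_exists_nhds
    (H : ∀ x : X, ∃ V : X.Opens, x ∈ V ∧ LocallyOfFinitePresentation (V.ι ≫ f)) :
    LocallyOfFinitePresentation f := by
  choose V hxV hV using H
  refine IsZariskiLocalAtSource.of_iSup_eq_top (P := @LocallyOfFinitePresentation) V ?_ hV
  rw [eq_top_iff]
  intro x _
  exact Opens.mem_iSup.mpr ⟨x, hxV x⟩

end Groth.Agent.Lib.Helper9.LfpLift
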