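import Groth.Agent.Lib.Helper9.ImmDesc1
import Groth.Agent.S0083
import Mathlib.AlgebraicGeometry.PullbackCarrier
import Mathlib.AlgebraicGeometry.Morphisms.UniversallyOpen

set_option autoImplicit false
universe u
open CategoryTheory CategoryTheory.Limits AlgebraicGeometry MorphismProperty

namespace Groth.Agent.Lib.Helper9.ImmDesc

set_option backward.isDefEq.respectTransparency.types false in
theorem descendsAlong_isImmersion_fppf :
    DescendsAlong (@IsImmersion : MorphismProperty Scheme.{u})
      (@Surjective ⊓ @Flat ⊓ @LocallyOfFinitePresentation : MorphismProperty Scheme.{u}) := by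
  have hcl : DescendsAlong @IsClosedImmersion
      (@Surjective ⊓ @Flat ⊓ @QuasiCompact : MorphismProperty Scheme.{u}) :=
    Groth.Agent.S0083.result.{u}
  have hcl' : DescendsAlong @IsClosedImmersion
      (@Surjective ⊓ @Flat ⊓ @LocallyOfFinitePresentation : MorphismProperty Scheme.{u}) :=
    inferInstance
  apply DescendsAlong.mk'
  intro Y' X Y q f _ hq hfi
  have hq1 : Surjective q := hq.1.1
  have hq2 : Flat q := hq.1.2
  have hq3 : LocallyOfFinitePresentation q := hq.2
  have hqo : IsOpenMap q := q.isOpenMap
  have hquot : Topology.IsQuotientMap q := hqo.isQuotientMap q.continuous q.surjective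
  have hA' : IsLocallyClosed (q ⁻¹' Set.range f) := by
    rw [← Scheme.Pullback.range_fst]
    exact (pullback.fst q f).isLocallyClosed_range
  have hcob : IsOpen (coborder (Set.range f)) := by
    rw [← hquot.isOpen_preimage, ← coborder_preimage hqo q.continuous]
    exact hA'.isOpen_coborder
  let U : Y.Opens := ⟨coborder (Set.range f), hcob⟩
  have hfU : Set.range f ⊆ Set.range U.ι := by
    rw [Scheme.Opens.range_ι]; exact subset_coborder
  let fU : X ⟶ U := IsOpenImmersion.lift U.ι f hfU
  have hfU' : fU ≫ U.ι = f := IsOpenImmersion.lift_fac _ _ _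
  suffices IsClosedImmersion fU by rw [← hfU']; infer_instance
  let qU : pullback q U.ι ⟶ U := pullback.snd q U.ι
  let j : pullback q U.ι ⟶ Y' := pullback.fst q U.ι
  have hqU : (@Surjective ⊓ @Flat ⊓ @LocallyOfFinitePresentation : MorphismProperty Scheme.{u}) qU :=
    ⟨⟨inferInstance, inferInstance⟩, inferInstance⟩
  refine of_pullback_fst_of_descendsAlong (P := @IsClosedImmersion)
    (Q := (@Surjective ⊓ @Flat ⊓ @LocallyOfFinitePresentation : MorphismProperty Scheme.{u}))
    (f := qU) (g := fU) hqU ?_
  -- the base change is an immersion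
  have sq1 : IsPullback (pullback.snd qU fU) (pullback.fst qU fU) fU qU :=
    (IsPullback.of_hasPullback qU fU).flip
  have sq2 : IsPullback qU j U.ι q := (IsPullback.of_hasPullback q U.ι).flip
  have big : IsPullback (pullback.snd qU fU) (pullback.fst qU fU ≫ j) (fU ≫ U.ι) q :=
    sq1.paste_vert sq2
  rw [hfU'] at big
  have h1 : IsImmersion (pullback.fst qU fU ≫ j) := by
    rw [← big.flip.isoPullback_hom_fst]
    infer_instance
  have h2 : IsImmersion (pullback.fst qU fU) := IsImmersion.of_comp _ j
  -- closed range
  have hr : Set.range fU = U.ι ⁻¹' Set.range f := by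
    ext u; constructor
    · rintro ⟨x, rfl⟩
      exact ⟨x, by rw [← hfU']; rfl⟩
    · rintro ⟨x, hx⟩
      refine ⟨x, U.ι.injective ?_⟩
      rw [← hx, ← hfU']; rfl
  have hcl2 : IsClosed (Set.range fU) := by
    rw [hr]
    exact isClosed_preimage_val_coborder
  have h3 : IsClosed (Set.range (pullback.fst qU fU)) := by
    rw [Scheme.Pullback.range_fst]
    exact hcl2.preimage qU.continuous
  exact IsClosedImmersion.of_isPreimmersion _ h3

end Groth.Agent.Lib.Helper9.ImmDesc
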