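import Mathlib
import Groth.Prelude.Def_W4stkchowintpicEnv

set_option autoImplicit false
set_option linter.style.haveILetI false
universe u
open CategoryTheory AlgebraicGeometry Limits

namespace Groth.Agent.Lib.Helper9.CDec

/-- Every residue field point lifts. -/
def ResLift {Y X : Scheme.{u}} (f : Y ⟶ X) : Prop :=
  ∀ x : X, ∃ l : Spec (X.residueField x) ⟶ Y, l ≫ f = X.fromSpecResidueField x

theorem resLift_of_isCompletelyDecomposed {Y X : Scheme.{u}} (f : Y ⟶ X)
    (h : Cyc.IsCompletelyDecomposed f) : ResLift f := by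
  intro x
  obtain ⟨y, rfl, hs⟩ := h x
  have : IsIso (f.residueFieldMap y) := by
    rw [ConcreteCategory.isIso_iff_bijective]
    exact ⟨(f.residueFieldMap y).hom.injective, hs⟩
  refine ⟨Spec.map (inv (f.residueFieldMap y)) ≫ Y.fromSpecResidueField y, ?_⟩
  rw [Category.assoc, ← Scheme.Hom.SpecMap_residueFieldMap_fromSpecResidueField,
    ← Spec.map_comp_assoc]
  simp

theorem isCompletelyDecomposed_of_resLift {Y X : Scheme.{u}} (f : Y ⟶ X)
    (h : ResLift f) : Cyc.IsCompletelyDecomposed f := by
  intro x
  obtain ⟨l, hl⟩ := h x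
  have key : ∀ (x' : X) (l' : Spec (X.residueField x') ⟶ Y) (y : Y)
      (ψ : Y.residueField y ⟶ X.residueField x'),
      Spec.map ψ ≫ Y.fromSpecResidueField y = l' → l' ≫ f = X.fromSpecResidueField x' →
      f y = x' → Function.Surjective (f.residueFieldMap y).hom := by
    intro x' l' y ψ h1 h2 h3
    subst h3
    rw [← h1, Category.assoc, ← Scheme.Hom.SpecMap_residueFieldMap_fromSpecResidueField,
      ← Spec.map_comp_assoc] at h2
    have h' : Spec.map (f.residueFieldMap y ≫ ψ) = 𝟙 _ := by
      rw [← cancel_mono (X.fromSpecResidueField (f y))]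
      simpa using h2
    have h'' : f.residueFieldMap y ≫ ψ = 𝟙 _ := by
      apply Spec.map_injective
      simpa using h'
    intro t
    refine ⟨ψ.hom t, ?_⟩
    apply ψ.hom.injective
    exact congr($(h'') (ψ.hom t))
  have hb' := Scheme.descResidueField_stalkClosedPointTo_fromSpecResidueField
    (X.residueField x) Y l
  let ψ₀ : Y.residueField (l (IsLocalRing.closedPoint (X.residueField x))) ⟶
      .of (X.residueField x) :=
    Scheme.descResidueField (K := X.residueField x) (Scheme.stalkClosedPointTo l)
  refine ⟨l (IsLocalRing.closedPoint (X.residueField x)), ?_, key x l _ ψ₀ hb' hl ?_⟩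
  · have := congr($(hl).base (IsLocalRing.closedPoint (X.residueField x)))
    simpa using this
  · have := congr($(hl).base (IsLocalRing.closedPoint (X.residueField x)))
    simpa using this

theorem resLift_snd {X X' Y : Scheme.{u}} (f : Y ⟶ X) (g : X' ⟶ X) (h : ResLift f) :
    ResLift (pullback.snd f g) := by
  intro x'
  obtain ⟨l, hl⟩ := h (g x')
  refine ⟨pullback.lift (Spec.map (g.residueFieldMap x') ≫ l) (X'.fromSpecResidueField x') ?_,
    pullback.lift_snd _ _ _⟩
  rw [Category.assoc, hl, Scheme.Hom.SpecMap_residueFieldMap_fromSpecResidueField]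

theorem isCompletelyDecomposed_snd (X X' Y : Scheme.{u}) (f : Y ⟶ X) (g : X' ⟶ X)
    (hcd : Cyc.IsCompletelyDecomposed f) : Cyc.IsCompletelyDecomposed (pullback.snd f g) :=
  isCompletelyDecomposed_of_resLift _ (resLift_snd f g (resLift_of_isCompletelyDecomposed f hcd))

end Groth.Agent.Lib.Helper9.CDec
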