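import Mathlib.AlgebraicGeometry.AffineTransitionLimit

namespace Groth.Agent.Lib.Helper9.LimSec

open CategoryTheory CategoryTheory.Limits AlgebraicGeometry

universe u

variable {I : Type u} [Category.{u} I] (D : I ⥤ Scheme.{u}) (c : Cone D) (hc : IsLimit c)

/-- preimage of `U` at stage `k`. -/
noncomputable abbrev Uo {i : I} (U : (D.obj i).Opens) (k : Over i) : (D.obj k.left).Opens :=
  D.map k.hom ⁻¹ᵁ U

/-- preimage of `U` in the limit. -/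
noncomputable abbrev Uinf {i : I} (U : (D.obj i).Opens) : c.pt.Opens := c.π.app i ⁻¹ᵁ U

theorem Uinf_le {i : I} (U : (D.obj i).Opens) (k : Over i) :
    Uinf D c U ≤ c.π.app k.left ⁻¹ᵁ Uo D U k := by
  rw [← Scheme.Hom.comp_preimage, c.w]

theorem Uo_le {i : I} (U : (D.obj i).Opens) {k₁ k₂ : Over i} (f : k₁ ⟶ k₂) :
    Uo D U k₁ ≤ D.map f.left ⁻¹ᵁ Uo D U k₂ := by
  rw [← Scheme.Hom.comp_preimage, ← D.map_comp, Over.w f]

/-- restriction from stage `i` to stage `k`. -/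
noncomputable abbrev ρ {i : I} (U : (D.obj i).Opens) (k : Over i) :
    Γ(D.obj i, U) ⟶ Γ(D.obj k.left, Uo D U k) := (D.map k.hom).app U

/-- restriction from stage `k` to the limit. -/
noncomputable abbrev τ {i : I} (U : (D.obj i).Opens) (k : Over i) :
    Γ(D.obj k.left, Uo D U k) ⟶ Γ(c.pt, Uinf D c U) :=
  (c.π.app k.left).appLE (Uo D U k) (Uinf D c U) (Uinf_le D c U k)

/-- transition maps on sections. -/
noncomputable abbrev σ {i : I} (U : (D.obj i).Opens) {k₁ k₂ : Over i} (f : k₁ ⟶ k₂) :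
    Γ(D.obj k₂.left, Uo D U k₂) ⟶ Γ(D.obj k₁.left, Uo D U k₁) :=
  (D.map f.left).appLE (Uo D U k₂) (Uo D U k₁) (Uo_le D U f)

theorem appLE_congr_hom {A B : Scheme.{u}} {g g' : A ⟶ B} (hg : g = g') (U : B.Opens) (W : A.Opens)
    (h : W ≤ g ⁻¹ᵁ U) : g.appLE U W h = g'.appLE U W (hg ▸ h) := by
  subst hg; rfl

theorem ρ_τ {i : I} (U : (D.obj i).Opens) (k : Over i) :
    ρ D U k ≫ τ D c U k = (c.π.app i).app U := by
  rw [ρ, τ, Scheme.Hom.app_eq_appLE, Scheme.Hom.appLE_comp_appLE,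
    appLE_congr_hom (c.w k.hom), Scheme.Hom.app_eq_appLE]

theorem ρ_σ {i : I} (U : (D.obj i).Opens) {k₁ k₂ : Over i} (f : k₁ ⟶ k₂) :
    ρ D U k₂ ≫ σ D U f = ρ D U k₁ := by
  change (D.map k₂.hom).app U ≫ _ = (D.map k₁.hom).app U
  rw [Scheme.Hom.app_eq_appLE, Scheme.Hom.app_eq_appLE, Scheme.Hom.appLE_comp_appLE,
    appLE_congr_hom (show D.map f.left ≫ D.map k₂.hom = D.map k₁.hom by
      rw [← D.map_comp, Over.w f])]

theorem σ_τ {i : I} (U : (D.obj i).Opens) {k₁ k₂ : Over i} (f : k₁ ⟶ k₂) :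
    σ D U f ≫ τ D c U k₁ = τ D c U k₂ := by
  rw [σ, τ, Scheme.Hom.appLE_comp_appLE, appLE_congr_hom (c.w f.left)]

theorem σ_comp {i : I} (U : (D.obj i).Opens) {k₁ k₂ k₃ : Over i} (f : k₁ ⟶ k₂) (g : k₂ ⟶ k₃) :
    σ D U g ≫ σ D U f = σ D U (f ≫ g) := by
  rw [σ, σ, Scheme.Hom.appLE_comp_appLE, appLE_congr_hom (show D.map f.left ≫ D.map g.left =
    D.map (f ≫ g).left by rw [← D.map_comp]; rfl)]

include hc in
theorem exists_τ_eq [IsCofiltered I] [∀ {i j : I} (f : i ⟶ j), IsAffineHom (D.map f)] {i : I}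
    (U : (D.obj i).Opens) (hU : IsAffineOpen U) (x : Γ(c.pt, Uinf D c U)) :
    ∃ (k : Over i) (y : Γ(D.obj k.left, Uo D U k)), (τ D c U k).hom y = x := by
  have : ∀ k, IsAffine ((opensDiagram D i U).obj k) := fun k => hU.preimage (D.map k.hom)
  obtain ⟨k, y', hy'⟩ := exists_appTop_π_eq_of_isAffine_of_isLimit _ _
    (isLimitOpensCone D c hc i U) ((Uinf D c U).topIso.inv.hom x)
  have key : ((opensCone D c i U).π.app k).appTop =
      (Uo D U k).topIso.hom ≫ τ D c U k ≫ (Uinf D c U).topIso.inv :=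
    Scheme.Hom.resLE_app_top _ _
  rw [key] at hy'
  refine ⟨k, (Uo D U k).topIso.hom.hom y', ?_⟩
  have hinj : Function.Injective (Uinf D c U).topIso.inv.hom :=
    (ConcreteCategory.bijective_of_isIso _).1
  exact hinj hy'

include hc in
theorem exists_σ_eq_zero [IsCofiltered I] [∀ {i j : I} (f : i ⟶ j), IsAffineHom (D.map f)] {i : I}
    (U : (D.obj i).Opens) (hU : IsAffineOpen U) (k : Over i) (y : Γ(D.obj k.left, Uo D U k))
    (hy : (τ D c U k).hom y = 0) : ∃ (k' : Over i) (f : k' ⟶ k), (σ D U f).hom y = 0 := by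
  have : ∀ k, IsAffine ((opensDiagram D i U).obj k) := fun k => hU.preimage (D.map k.hom)
  have key : ((opensCone D c i U).π.app k).appTop =
      (Uo D U k).topIso.hom ≫ τ D c U k ≫ (Uinf D c U).topIso.inv :=
    Scheme.Hom.resLE_app_top _ _
  obtain ⟨k', f, hf⟩ := exists_appTop_map_eq_zero_of_isAffine_of_isLimit _ _
    (isLimitOpensCone D c hc i U) k ((Uo D U k).topIso.inv.hom y) (by
      rw [key]
      change (Uinf D c U).topIso.inv.hom ((τ D c U k).hom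
        ((Uo D U k).topIso.hom.hom ((Uo D U k).topIso.inv.hom y))) = 0
      have : (Uo D U k).topIso.hom.hom ((Uo D U k).topIso.inv.hom y) = y := by
        rw [← CommRingCat.comp_apply, Iso.inv_hom_id]; rfl
      rw [this, hy, map_zero])
  have key2 : ((opensDiagram D i U).map f).appTop =
      (Uo D U k).topIso.hom ≫ σ D U f ≫ (Uo D U k').topIso.inv :=
    Scheme.Hom.resLE_app_top _ _
  rw [key2] at hf
  refine ⟨k', f, ?_⟩
  have hinj : Function.Injective (Uo D U k').topIso.inv.hom :=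
    (ConcreteCategory.bijective_of_isIso _).1
  apply hinj
  rw [map_zero]
  have : (Uo D U k).topIso.hom.hom ((Uo D U k).topIso.inv.hom y) = y := by
    rw [← CommRingCat.comp_apply, Iso.inv_hom_id]; rfl
  rw [← this]
  exact hf

theorem mem_map_σ {i : I} (U : (D.obj i).Opens) (𝔟 : Ideal Γ(D.obj i, U)) {k₁ k₂ : Over i}
    (f : k₁ ⟶ k₂) {y : Γ(D.obj k₂.left, Uo D U k₂)} (hy : y ∈ 𝔟.map (ρ D U k₂).hom) :
    (σ D U f).hom y ∈ 𝔟.map (ρ D U k₁).hom := by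
  have h1 : (σ D U f).hom y ∈ (𝔟.map (ρ D U k₂).hom).map (σ D U f).hom :=
    Ideal.mem_map_of_mem _ hy
  rw [Ideal.map_map] at h1
  have h2 : (σ D U f).hom.comp (ρ D U k₂).hom = (ρ D U k₁).hom := by
    rw [← CommRingCat.hom_comp, ρ_σ]
  rwa [h2] at h1

theorem τ_σ_apply {i : I} (U : (D.obj i).Opens) {k₁ k₂ : Over i} (f : k₁ ⟶ k₂)
    (y : Γ(D.obj k₂.left, Uo D U k₂)) :
    (τ D c U k₁).hom ((σ D U f).hom y) = (τ D c U k₂).hom y := by
  rw [← σ_τ D c U f]; rfl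

theorem τ_ρ_apply {i : I} (U : (D.obj i).Opens) (k : Over i) (a : Γ(D.obj i, U)) :
    (τ D c U k).hom ((ρ D U k).hom a) = ((c.π.app i).app U).hom a := by
  rw [← ρ_τ D c U k]; rfl

theorem σ_ρ_apply {i : I} (U : (D.obj i).Opens) {k₁ k₂ : Over i} (f : k₁ ⟶ k₂)
    (a : Γ(D.obj i, U)) :
    (σ D U f).hom ((ρ D U k₂).hom a) = (ρ D U k₁).hom a := by
  rw [← ρ_σ D U f]; rfl

include hc in
theorem exists_of_mem_map [IsCofiltered I] [∀ {i j : I} (f : i ⟶ j), IsAffineHom (D.map f)] {i : I}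
    (U : (D.obj i).Opens) (hU : IsAffineOpen U) (𝔟 : Ideal Γ(D.obj i, U))
    (x : Γ(c.pt, Uinf D c U)) (hx : x ∈ 𝔟.map ((c.π.app i).app U).hom) :
    ∃ (k : Over i) (y : Γ(D.obj k.left, Uo D U k)),
      y ∈ 𝔟.map (ρ D U k).hom ∧ (τ D c U k).hom y = x := by
  induction hx using Submodule.span_induction with
  | mem x hx =>
    obtain ⟨b, hb, rfl⟩ := hx
    exact ⟨Over.mk (𝟙 i), (ρ D U _).hom b, Ideal.mem_map_of_mem _ hb, τ_ρ_apply D c U _ b⟩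
  | zero => exact ⟨Over.mk (𝟙 i), 0, Ideal.zero_mem _, map_zero _⟩
  | add x₁ x₂ _ _ h₁ h₂ =>
    obtain ⟨k₁, y₁, hy₁, rfl⟩ := h₁
    obtain ⟨k₂, y₂, hy₂, rfl⟩ := h₂
    obtain ⟨k₃, f₁, f₂, -⟩ := IsCofilteredOrEmpty.cone_objs k₁ k₂
    refine ⟨k₃, (σ D U f₁).hom y₁ + (σ D U f₂).hom y₂,
      Ideal.add_mem _ (mem_map_σ D U 𝔟 f₁ hy₁) (mem_map_σ D U 𝔟 f₂ hy₂), ?_⟩
    rw [map_add, τ_σ_apply, τ_σ_apply]
  | smul r x _ h =>
    obtain ⟨k₁, y₁, hy₁, rfl⟩ := h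
    obtain ⟨k₀, r₀, rfl⟩ := exists_τ_eq D c hc U hU r
    obtain ⟨k₃, f₀, f₁, -⟩ := IsCofilteredOrEmpty.cone_objs k₀ k₁
    refine ⟨k₃, (σ D U f₀).hom r₀ * (σ D U f₁).hom y₁,
      Ideal.mul_mem_left _ _ (mem_map_σ D U 𝔟 f₁ hy₁), ?_⟩
    rw [map_mul, τ_σ_apply, τ_σ_apply, smul_eq_mul]

include hc in
theorem exists_mem_map_of_mem_map [IsCofiltered I] [∀ {i j : I} (f : i ⟶ j), IsAffineHom (D.map f)]
    {i : I} (U : (D.obj i).Opens) (hU : IsAffineOpen U) (a : Γ(D.obj i, U))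
    (𝔟 : Ideal Γ(D.obj i, U))
    (h : ((c.π.app i).app U).hom a ∈ 𝔟.map ((c.π.app i).app U).hom) :
    ∃ k : Over i, (ρ D U k).hom a ∈ 𝔟.map (ρ D U k).hom := by
  obtain ⟨k, y, hy, hyx⟩ := exists_of_mem_map D c hc U hU 𝔟 _ h
  have h0 : (τ D c U k).hom (y - (ρ D U k).hom a) = 0 := by
    rw [map_sub, hyx, τ_ρ_apply, sub_self]
  obtain ⟨k', f, hf⟩ := exists_σ_eq_zero D c hc U hU k _ h0
  refine ⟨k', ?_⟩
  rw [map_sub, sub_eq_zero, σ_ρ_apply] at hf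
  rw [← hf]
  exact mem_map_σ D U 𝔟 f hy

end Groth.Agent.Lib.Helper9.LimSec
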