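import Groth.Prelude.Def_PBC
import Mathlib.CategoryTheory.Comma.Over.Pullback
import Mathlib.Algebra.Category.Ring.Constructions
import Mathlib.RingTheory.Etale.Basic

namespace Groth.Agent.Lib.Helper9.IndEt

open CategoryTheory CategoryTheory.Limits TensorProduct

universe u

/-- transport of étaleness along an isomorphism in `Under R` -/
theorem etale_of_underIso {R : Type u} [CommRing R] {X Y : Under (CommRingCat.of R)} (i : X ≅ Y)
    (hX : letI := X.hom.hom.toAlgebra; Algebra.Etale R X.right) :
    letI := Y.hom.hom.toAlgebra; Algebra.Etale R Y.right := by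
  let _ := X.hom.hom.toAlgebra
  let _ := Y.hom.hom.toAlgebra
  have hw : X.hom ≫ i.hom.right = Y.hom := Under.w i.hom
  let e : X.right ≃ₐ[R] Y.right :=
    { ((Under.forget _).mapIso i).commRingCatIsoToRingEquiv with
      commutes' := fun r => by
        have := congrArg (fun g => g.hom r) hw
        exact this }
  exact Algebra.Etale.of_equiv e

variable (A A' C : Type u) [CommRing A] [CommRing A'] [CommRing C] [Algebra A A'] [Algebra A C]

/-- the pushout functor along `A → A'` sends `C` to `A' ⊗[A] C` -/
noncomputable def pushoutIso :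
    (Under.pushout (CommRingCat.ofHom (algebraMap A A'))).obj
      (Under.mk (CommRingCat.ofHom (algebraMap A C))) ≅
    Under.mk (CommRingCat.ofHom (algebraMap A' (A' ⊗[A] C))) := by
  have h1 := (CommRingCat.isPushout_tensorProduct A A' C).flip
  have h2 := IsPushout.of_hasPushout (CommRingCat.ofHom (algebraMap A C))
    (CommRingCat.ofHom (algebraMap A A'))
  refine Under.isoMk (h2.isoIsPushout _ _ h1) ?_
  exact (IsPushout.inr_isoIsPushout_hom _ _ h2 h1).trans rfl


theorem isIndEtale_baseChange (B : Type u) [CommRing B] [Algebra A B]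
    (h : EtPBC.IsIndEtale A B) : EtPBC.IsIndEtale A' (A' ⊗[A] B) := by
  obtain ⟨J, hJ, hJf, D, c, hc, hEt, ⟨e⟩⟩ := h
  let f : CommRingCat.of A ⟶ CommRingCat.of A' := CommRingCat.ofHom (algebraMap A A')
  haveI : PreservesColimitsOfSize.{u, u} (Under.pushout f) :=
    (Under.mapPushoutAdj f).leftAdjoint_preservesColimits
  refine ⟨J, hJ, hJf, D ⋙ Under.pushout f, (Under.pushout f).mapCocone c,
    isColimitOfPreserves (Under.pushout f) hc, ?_, ⟨?_⟩⟩
  · intro j
    letI : Algebra A (D.obj j).right := (D.obj j).hom.hom.toAlgebra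
    haveI : Algebra.Etale A (D.obj j).right := hEt j
    have e1 : (D ⋙ Under.pushout f).obj j ≅
        Under.mk (CommRingCat.ofHom (algebraMap A' (A' ⊗[A] (D.obj j).right))) :=
      pushoutIso A A' (D.obj j).right
    refine etale_of_underIso e1.symm ?_
    have key : (algebraMap A' (A' ⊗[A] (D.obj j).right)).toAlgebra =
        (Algebra.TensorProduct.leftAlgebra : Algebra A' (A' ⊗[A] (D.obj j).right)) :=
      Algebra.algebra_ext _ _ (fun r => rfl)
    show @Algebra.Etale A' (A' ⊗[A] (D.obj j).right) _ _
      (algebraMap A' (A' ⊗[A] (D.obj j).right)).toAlgebra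
    rw [key]
    infer_instance
  · exact (Under.pushout f).mapIso e ≪≫ pushoutIso A A' B

end Groth.Agent.Lib.Helper9.IndEt
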