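import Mathlib.RingTheory.Flat.EquationalCriterion
import Mathlib.CategoryTheory.Filtered.Basic

namespace Groth.Agent.Lib.Helper9.FlatColim

open CategoryTheory

universe u₁ u₂ u₃ u₄ v₁ u₅

theorem flat_of_filtered_stages
    {R : Type u₁} {M : Type u₂} [CommRing R] [AddCommGroup M] [Module R M]
    {J : Type u₃} [Category.{v₁} J] [IsFiltered J]
    (Rj : J → Type u₄) [∀ j, CommRing (Rj j)]
    (Mj : J → Type u₅) [∀ j, AddCommGroup (Mj j)] [∀ j, Module (Rj j) (Mj j)]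
    [∀ j, Module.Flat (Rj j) (Mj j)]
    (ρ : ∀ j, Rj j →+* R) (μ : ∀ j, Mj j →+ M)
    (hμ : ∀ j (r : Rj j) (x : Mj j), μ j (r • x) = ρ j r • μ j x)
    (tR : ∀ {j j' : J}, (j ⟶ j') → Rj j →+* Rj j') (tM : ∀ {j j' : J}, (j ⟶ j') → Mj j →+ Mj j')
    (htM : ∀ {j j' : J} (a : j ⟶ j') (r : Rj j) (x : Mj j), tM a (r • x) = tR a r • tM a x)
    (hρ : ∀ {j j' : J} (a : j ⟶ j') (r : Rj j), ρ j' (tR a r) = ρ j r)
    (hμt : ∀ {j j' : J} (a : j ⟶ j') (x : Mj j), μ j' (tM a x) = μ j x)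
    (surjR : ∀ r : R, ∃ j r', ρ j r' = r) (surjM : ∀ x : M, ∃ j x', μ j x' = x)
    (inj : ∀ j (x : Mj j), μ j x = 0 → ∃ (j' : J) (a : j ⟶ j'), tM a x = 0) :
    Module.Flat R M := by
  classical
  refine Module.Flat.of_forall_isTrivialRelation ?_
  intro l f x hfx
  choose jR r' hr' using fun i => surjR (f i)
  choose jM x' hx' using fun i => surjM (x i)
  obtain ⟨j, hj⟩ := IsFiltered.sup_objs_exists (Finset.univ.image jR ∪ Finset.univ.image jM)
  have aR : ∀ i, jR i ⟶ j := fun i =>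
    (hj (Finset.mem_union_left _ (Finset.mem_image_of_mem _ (Finset.mem_univ i)))).some
  have aM : ∀ i, jM i ⟶ j := fun i =>
    (hj (Finset.mem_union_right _ (Finset.mem_image_of_mem _ (Finset.mem_univ i)))).some
  let f' : Fin l → Rj j := fun i => tR (aR i) (r' i)
  let y' : Fin l → Mj j := fun i => tM (aM i) (x' i)
  have hf' : ∀ i, ρ j (f' i) = f i := fun i => (hρ _ _).trans (hr' i)
  have hy' : ∀ i, μ j (y' i) = x i := fun i => (hμt _ _).trans (hx' i)
  have h0 : μ j (∑ i, f' i • y' i) = 0 := by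
    rw [map_sum]
    simp only [hμ, hf', hy']
    exact hfx
  obtain ⟨j', a, ha⟩ := inj j _ h0
  rw [map_sum] at ha
  simp only [htM] at ha
  obtain ⟨k, c, z, hz, hc⟩ := Module.Flat.isTrivialRelation_of_sum_smul_eq_zero ha
  refine ⟨k, fun i n => ρ j' (c i n), fun n => μ j' (z n), ?_, ?_⟩
  · intro i
    have hzi : tM a (y' i) = ∑ n, c i n • z n := hz i
    rw [← hy' i, ← hμt a (y' i), hzi, map_sum]
    simp only [hμ]
  · intro n
    have := congrArg (ρ j') (hc n)
    rw [map_sum, map_zero] at this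
    simp only [map_mul, hρ, hf'] at this
    exact this

end Groth.Agent.Lib.Helper9.FlatColim
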