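import Groth.Prelude.Def_PBC
import Groth.Agent.Lib.Helper9.FlatColim
import Mathlib.CategoryTheory.Limits.Constructions.Over.Connected
import Mathlib.CategoryTheory.Filtered.Connected
import Mathlib.Algebra.Category.Ring.FilteredColimits
import Mathlib.CategoryTheory.Limits.Types.Filtered
import Mathlib.RingTheory.Etale.Weakly

namespace Groth.Agent.Lib.Helper9.IndEt

open CategoryTheory CategoryTheory.Limits TensorProduct

universe u

section

variable {A : Type u} [CommRing A] {J : Type u} [SmallCategory J] [IsFiltered J]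
  (D : J ⥤ Under (CommRingCat.of A)) (c : Cocone D) (hc : IsColimit c)

include hc in
theorem colim_surj (b : c.pt.right) : ∃ (j : J) (x : (D.obj j).right), (c.ι.app j).right.hom x = b := by
  haveI : IsConnected J := IsFiltered.isConnected J
  have h1 := isColimitOfPreserves (Under.forget (CommRingCat.of A) ⋙ forget CommRingCat) hc
  obtain ⟨j, y, hy⟩ := Types.jointly_surjective_of_isColimit h1 b
  exact ⟨j, y, hy⟩

include hc in
theorem colim_inj (j : J) (x y : (D.obj j).right)
    (h : (c.ι.app j).right.hom x = (c.ι.app j).right.hom y) :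
    ∃ (j' : J) (a : j ⟶ j'), (D.map a).right.hom x = (D.map a).right.hom y := by
  haveI : IsConnected J := IsFiltered.isConnected J
  have h1 := isColimitOfPreserves (Under.forget (CommRingCat.of A) ⋙ forget CommRingCat) hc
  obtain ⟨j', a, ha⟩ := (Types.FilteredColimit.isColimit_eq_iff' h1 x y).mp h
  exact ⟨j', a, ha⟩

end


section

variable (A B : Type u) [CommRing A] [CommRing B] [Algebra A B]

theorem flat_of_isIndEtale (h : EtPBC.IsIndEtale A B) : Module.Flat A B := by
  obtain ⟨J, hJ, hJf, D, c, hc, hEt, ⟨e⟩⟩ := h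
  letI : ∀ j, Algebra A (D.obj j).right := fun j => (D.obj j).hom.hom.toAlgebra
  haveI : ∀ j, Algebra.Etale A (D.obj j).right := hEt
  let φ : ∀ j, (D.obj j).right →+* B := fun j => ((c.ι.app j).right ≫ e.hom.right).hom
  have hφA : ∀ j (a : A), φ j (algebraMap A _ a) = algebraMap A B a := by
    intro j a
    have h1 := congrArg (fun g => g.hom a) (Under.w (c.ι.app j ≫ e.hom))
    exact h1
  have hφt : ∀ {j j' : J} (a : j ⟶ j') (x : (D.obj j).right),
      φ j' ((D.map a).right.hom x) = φ j x := by
    intro j j' a x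
    have h1 := congrArg (fun g => g.right.hom x) (c.w a)
    show e.hom.right.hom ((c.ι.app j').right.hom ((D.map a).right.hom x)) =
      e.hom.right.hom ((c.ι.app j).right.hom x)
    exact congrArg e.hom.right.hom h1
  have einj : Function.Injective e.hom.right.hom := by
    intro x y hxy
    have := congrArg e.inv.right.hom hxy
    have h2 : ∀ z, e.inv.right.hom (e.hom.right.hom z) = z := fun z =>
      congrArg (fun g => g.right.hom z) e.hom_inv_id
    rwa [h2, h2] at this
  have esurj : Function.Surjective e.hom.right.hom := by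
    intro y
    exact ⟨e.inv.right.hom y, congrArg (fun g => g.right.hom y) e.inv_hom_id⟩
  refine FlatColim.flat_of_filtered_stages (J := J) (fun _ => A) (fun j => (D.obj j).right)
    (fun _ => RingHom.id A) (fun j => (φ j).toAddMonoidHom) ?_
    (fun _ => RingHom.id A) (fun a => ((D.map a).right.hom).toAddMonoidHom) ?_ ?_ ?_ ?_ ?_ ?_
  · intro j r x
    show φ j (r • x) = r • φ j x
    rw [Algebra.smul_def, map_mul, hφA, ← Algebra.smul_def]
  · intro j j' a r x
    show (D.map a).right.hom (r • x) = r • (D.map a).right.hom x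
    rw [Algebra.smul_def, map_mul, Algebra.smul_def]
    congr 1
    exact congrArg (fun g => g.hom r) (Under.w (D.map a))
  · intro j j' a r
    rfl
  · intro j j' a x
    exact hφt a x
  · intro r
    obtain ⟨j⟩ := IsFiltered.nonempty (C := J)
    exact ⟨j, r, rfl⟩
  · intro b
    obtain ⟨y, rfl⟩ := esurj b
    obtain ⟨j, x, hx⟩ := colim_surj D c hc y
    exact ⟨j, x, congrArg e.hom.right.hom hx⟩
  · intro j x hx
    have : (c.ι.app j).right.hom x = (c.ι.app j).right.hom 0 := by
      apply einj
      rw [map_zero, map_zero]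
      exact hx
    obtain ⟨j', a, ha⟩ := colim_inj D c hc j x 0 this
    exact ⟨j', a, ha.trans (map_zero _)⟩

end

section

variable (A B : Type u) [CommRing A] [CommRing B] [Algebra A B]

theorem map_lmul' {S T : Type u} [CommRing S] [CommRing T] [Algebra A S] [Algebra A T]
    (φ : S →ₐ[A] T) (r : S ⊗[A] S) :
    φ (Algebra.TensorProduct.lmul' A (S := S) r) =
      Algebra.TensorProduct.lmul' A (S := T) (Algebra.TensorProduct.map φ φ r) := by
  have : φ.comp (Algebra.TensorProduct.lmul' A (S := S)) =
      (Algebra.TensorProduct.lmul' A (S := T)).comp (Algebra.TensorProduct.map φ φ) := by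
    apply Algebra.TensorProduct.ext'
    intro a b
    simp
  exact congrArg (fun g => g r) this

theorem flat_lmul'_of_isIndEtale (h : EtPBC.IsIndEtale A B) :
    (Algebra.TensorProduct.lmul' A (S := B)).toRingHom.Flat := by
  obtain ⟨J, hJ, hJf, D, c, hc, hEt, ⟨e⟩⟩ := h
  letI algj : ∀ j, Algebra A (D.obj j).right := fun j => (D.obj j).hom.hom.toAlgebra
  haveI : ∀ j, Algebra.Etale A (D.obj j).right := hEt
  let φ : ∀ j, (D.obj j).right →ₐ[A] B := fun j =>
    { toRingHom := ((c.ι.app j).right ≫ e.hom.right).hom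
      commutes' := fun a => congrArg (fun g => g.hom a) (Under.w (c.ι.app j ≫ e.hom)) }
  let t : ∀ {j j' : J}, (j ⟶ j') → ((D.obj j).right →ₐ[A] (D.obj j').right) := fun {j j'} a =>
    { toRingHom := (D.map a).right.hom
      commutes' := fun r => congrArg (fun g => g.hom r) (Under.w (D.map a)) }
  have hφt : ∀ {j j' : J} (a : j ⟶ j'), (φ j').comp (t a) = φ j := by
    intro j j' a
    ext x
    have h1 := congrArg (fun g => g.right.hom x) (c.w a)
    show e.hom.right.hom ((c.ι.app j').right.hom ((D.map a).right.hom x)) =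
      e.hom.right.hom ((c.ι.app j).right.hom x)
    exact congrArg e.hom.right.hom h1
  have einj : Function.Injective e.hom.right.hom := by
    intro x y hxy
    have := congrArg e.inv.right.hom hxy
    have h2 : ∀ z, e.inv.right.hom (e.hom.right.hom z) = z := fun z =>
      congrArg (fun g => g.right.hom z) e.hom_inv_id
    rwa [h2, h2] at this
  have esurj : Function.Surjective e.hom.right.hom := by
    intro y
    exact ⟨e.inv.right.hom y, congrArg (fun g => g.right.hom y) e.inv_hom_id⟩
  have surjB : ∀ b : B, ∃ (j : J) (x : (D.obj j).right), φ j x = b := by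
    intro b
    obtain ⟨y, rfl⟩ := esurj b
    obtain ⟨j, x, hx⟩ := colim_surj D c hc y
    exact ⟨j, x, congrArg e.hom.right.hom hx⟩
  have hρ : ∀ {j j' : J} (a : j ⟶ j') (r : (D.obj j).right ⊗[A] (D.obj j).right),
      Algebra.TensorProduct.map (φ j') (φ j') (Algebra.TensorProduct.map (t a) (t a) r) =
        Algebra.TensorProduct.map (φ j) (φ j) r := by
    intro j j' a r
    rw [← AlgHom.comp_apply, ← Algebra.TensorProduct.map_comp, hφt a]
  unfold RingHom.Flat
  letI : Algebra (B ⊗[A] B) B := (Algebra.TensorProduct.lmul' A (S := B)).toRingHom.toAlgebra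
  letI algjj : ∀ j, Algebra ((D.obj j).right ⊗[A] (D.obj j).right) (D.obj j).right := fun j =>
    (Algebra.TensorProduct.lmul' A (S := (D.obj j).right)).toRingHom.toAlgebra
  haveI : ∀ j, Module.Flat ((D.obj j).right ⊗[A] (D.obj j).right) (D.obj j).right := fun j =>
    Algebra.WeaklyEtale.flat_lmul' A (D.obj j).right
  refine FlatColim.flat_of_filtered_stages (J := J)
    (fun j => (D.obj j).right ⊗[A] (D.obj j).right) (fun j => (D.obj j).right)
    (fun j => (Algebra.TensorProduct.map (φ j) (φ j)).toRingHom)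
    (fun j => (φ j).toRingHom.toAddMonoidHom) ?_
    (fun a => (Algebra.TensorProduct.map (t a) (t a)).toRingHom)
    (fun a => (t a).toRingHom.toAddMonoidHom) ?_ ?_ ?_ ?_ ?_ ?_
  · intro j r x
    show φ j (r • x) = (Algebra.TensorProduct.map (φ j) (φ j) r) • φ j x
    rw [Algebra.smul_def, Algebra.smul_def, map_mul]
    congr 1
    exact map_lmul' A (φ j) r
  · intro j j' a r x
    show t a (r • x) = (Algebra.TensorProduct.map (t a) (t a) r) • t a x
    rw [Algebra.smul_def, Algebra.smul_def, map_mul]
    congr 1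
    exact map_lmul' A (t a) r
  · intro j j' a r
    exact hρ a r
  · intro j j' a x
    exact congrArg (fun g => g x) (hφt a)
  · intro r
    induction r using TensorProduct.induction_on with
    | zero =>
      obtain ⟨j⟩ := IsFiltered.nonempty (C := J)
      exact ⟨j, 0, map_zero _⟩
    | tmul b₁ b₂ =>
      obtain ⟨j₁, x₁, h₁⟩ := surjB b₁
      obtain ⟨j₂, x₂, h₂⟩ := surjB b₂
      refine ⟨IsFiltered.max j₁ j₂,
        (t (IsFiltered.leftToMax j₁ j₂) x₁) ⊗ₜ (t (IsFiltered.rightToMax j₁ j₂) x₂), ?_⟩
      show Algebra.TensorProduct.map (φ _) (φ _) _ = _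
      rw [Algebra.TensorProduct.map_tmul]
      have e1 := congrArg (fun g => g x₁) (hφt (IsFiltered.leftToMax j₁ j₂))
      have e2 := congrArg (fun g => g x₂) (hφt (IsFiltered.rightToMax j₁ j₂))
      simp only [AlgHom.comp_apply] at e1 e2
      rw [e1, e2, h₁, h₂]
    | add r₁ r₂ ih₁ ih₂ =>
      obtain ⟨j₁, x₁, h₁⟩ := ih₁
      obtain ⟨j₂, x₂, h₂⟩ := ih₂
      refine ⟨IsFiltered.max j₁ j₂,
        Algebra.TensorProduct.map (t (IsFiltered.leftToMax j₁ j₂)) (t (IsFiltered.leftToMax j₁ j₂)) x₁ +
        Algebra.TensorProduct.map (t (IsFiltered.rightToMax j₁ j₂)) (t (IsFiltered.rightToMax j₁ j₂)) x₂, ?_⟩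
      show Algebra.TensorProduct.map (φ _) (φ _) _ = _
      rw [map_add, hρ, hρ]
      exact congrArg₂ (· + ·) h₁ h₂
  · exact surjB
  · intro j x hx
    have : (c.ι.app j).right.hom x = (c.ι.app j).right.hom 0 := by
      apply einj
      rw [map_zero, map_zero]
      exact hx
    obtain ⟨j', a, ha⟩ := colim_inj D c hc j x 0 this
    exact ⟨j', a, ha.trans (map_zero _)⟩

theorem weaklyEtale_of_isIndEtale (h : EtPBC.IsIndEtale A B) : Algebra.WeaklyEtale A B :=
  ⟨flat_of_isIndEtale A B h, flat_lmul'_of_isIndEtale A B h⟩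

end

end Groth.Agent.Lib.Helper9.IndEt
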