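import Groth.Agent.Lib.Helper9.UnivHomeoRing3

/-!
# Descent of universal homeomorphism properties to intermediate rings
-/

set_option autoImplicit false
set_option linter.style.haveILetI false
universe u
open CategoryTheory AlgebraicGeometry MorphismProperty

namespace Groth.Agent.Lib.Helper9.UnivHomeoRing

theorem isIntegral_of_comp_injective {A B' B : Type*} [CommRing A] [CommRing B'] [CommRing B]
    (f : A →+* B') (g : B' →+* B) (hg : Function.Injective g) (h : (g.comp f).IsIntegral) :
    f.IsIntegral ∧ g.IsIntegral := by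
  refine ⟨fun b' => ?_, RingHom.IsIntegral.tower_top f g h⟩
  obtain ⟨p, hp, hp0⟩ := h (g b')
  refine ⟨p, hp, hg ?_⟩
  rw [map_zero, Polynomial.hom_eval₂]
  exact hp0

theorem comap_surjective_of_comp {A B' B : Type*} [CommRing A] [CommRing B'] [CommRing B]
    (f : A →+* B') (g : B' →+* B)
    (h : Function.Surjective (PrimeSpectrum.comap (g.comp f))) :
    Function.Surjective (PrimeSpectrum.comap f) := by
  intro p
  obtain ⟨q, rfl⟩ := h p
  exact ⟨PrimeSpectrum.comap g q, rfl⟩

theorem isUnivHomeo_of_comp_injective {A B' B : Type u} [CommRing A] [CommRing B'] [CommRing B]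
    (f : A →+* B') (g : B' →+* B) (hg : Function.Injective g)
    (h : FlatMor.IsUnivHomeo (Spec.map (CommRingCat.ofHom (g.comp f)))) :
    FlatMor.IsUnivHomeo (Spec.map (CommRingCat.ofHom f)) := by
  rw [isUnivHomeo_SpecMap_iff'] at h ⊢
  obtain ⟨h1, h2, h3⟩ := h
  obtain ⟨hf, hgi⟩ := isIntegral_of_comp_injective f g hg h1
  exact ⟨hf, comap_surjective_of_comp f g h2, isRadicial_of_comp f g hg hgi h3⟩

theorem universallyClosed_of_comp_injective {A B' B : Type u} [CommRing A] [CommRing B']
    [CommRing B] (f : A →+* B') (g : B' →+* B) (hg : Function.Injective g)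
    (h : UniversallyClosed (Spec.map (CommRingCat.ofHom (g.comp f)))) :
    UniversallyClosed (Spec.map (CommRingCat.ofHom f)) := by
  rw [universallyClosed_SpecMap_iff] at h ⊢
  exact (isIntegral_of_comp_injective f g hg h).1

theorem universallyInjective_of_comp_injective {A B' B : Type u} [CommRing A] [CommRing B']
    [CommRing B] (f : A →+* B') (g : B' →+* B) (hg : Function.Injective g)
    (h : UniversallyClosed (Spec.map (CommRingCat.ofHom (g.comp f))))
    (h' : UniversallyInjective (Spec.map (CommRingCat.ofHom (g.comp f)))) :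
    UniversallyInjective (Spec.map (CommRingCat.ofHom f)) := by
  rw [universallyClosed_SpecMap_iff] at h
  rw [universallyInjective_SpecMap_iff] at h' ⊢
  exact isRadicial_of_comp f g hg (isIntegral_of_comp_injective f g hg h).2 h'

end Groth.Agent.Lib.Helper9.UnivHomeoRing
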