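import Groth.Agent.Lib.Helper9.Conductor3
import Groth.Agent.Lib.Helper9.UnivHomeoRing4
import Groth.Agent.S7397
import Mathlib.RingTheory.IntegralClosure.IsIntegral.Basic

/-!
# Stacks 0CNC / 0CND for arbitrary extensions, by reduction to the finite case
-/

set_option autoImplicit false
set_option linter.style.haveILetI false
universe u
open CategoryTheory AlgebraicGeometry

namespace Groth.Agent.Lib.Helper9.Conductor

open Groth.Agent.Lib.Helper9.UnivHomeoRing

variable {A B : Type u} [CommRing A] [CommRing B] (φ : A →+* B)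

/-- No element outside `A` has square and cube in `A`. -/
def NoSqCube : Prop := ¬ ∃ b : B, b ∉ φ.range ∧ b ^ 2 ∈ φ.range ∧ b ^ 3 ∈ φ.range

variable {φ}

theorem star_of_noSqCube (h : NoSqCube φ) : Star φ := by
  intro x N hx
  by_contra hxr
  apply h
  exact Groth.Agent.S7397.result φ.range x hxr (max N 2) (le_max_right _ _)
    (hx _ (le_max_left _ _)) (hx _ ((le_max_left _ _).trans (Nat.le_succ _)))

/-- Generic form of the pure inseparability of residue field maps. -/
theorem isPurelyInseparable_generic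
    (hU : FlatMor.IsUnivHomeo (Spec.map (CommRingCat.ofHom φ)))
    (P : Ideal B) [P.IsPrime] (p : Ideal A) [p.IsPrime] (hP : p = P.comap φ) :
    (Ideal.ResidueField.map p P φ hP).IsPurelyInseparable := by
  subst hP
  exact (of_isUnivHomeo φ hU).2.2 ⟨P, inferInstance⟩

section reduce

variable (hns : ¬ Function.Surjective φ)
  (hU : FlatMor.IsUnivHomeo (Spec.map (CommRingCat.ofHom φ))) (hnsc : NoSqCube φ)

include hns hU hnsc in
/-- The finite subextension generated by an element outside `A`, with all needed properties. -/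
theorem exists_finite_sub :
    ∃ (B' : Type u) (_ : CommRing B') (φ' : A →+* B') (ι : B' →+* B),
      ι.comp φ' = φ ∧ Function.Injective ι ∧ ι.IsIntegral ∧ φ'.Finite ∧
      ¬ Function.Surjective φ' ∧ Star φ' ∧
      FlatMor.IsUnivHomeo (Spec.map (CommRingCat.ofHom φ')) := by
  obtain ⟨b₀, hb₀⟩ : ∃ b₀ : B, b₀ ∉ φ.range := by
    by_contra h
    push Not at h
    exact hns fun x => h x
  letI := φ.toAlgebra
  have hint : φ.IsIntegral := ((isUnivHomeo_SpecMap_iff' φ).mp hU).1
  have hb₀int : IsIntegral A b₀ := hint b₀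
  let B' : Subalgebra A B := Algebra.adjoin A {b₀}
  have hcomp : (algebraMap B' B).comp (algebraMap A B') = φ := rfl
  have hιinj : Function.Injective (algebraMap B' B) := Subtype.val_injective
  have hU' : FlatMor.IsUnivHomeo (Spec.map (CommRingCat.ofHom (algebraMap A B'))) :=
    isUnivHomeo_of_comp_injective _ _ hιinj (hcomp ▸ hU)
  refine ⟨B', inferInstance, algebraMap A B', algebraMap B' B, hcomp, hιinj, ?_, ?_, ?_, ?_, hU'⟩
  · exact (isIntegral_of_comp_injective (algebraMap A B') (algebraMap B' B) hιinj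
      (hcomp ▸ hint)).2
  · rw [RingHom.finite_algebraMap]
    exact Module.Finite.iff_fg.mpr hb₀int.fg_adjoin_singleton
  · intro hs
    obtain ⟨a, ha⟩ := hs ⟨b₀, Algebra.subset_adjoin rfl⟩
    exact hb₀ ⟨a, congrArg Subtype.val ha⟩
  · intro x N hx
    have h1 : (x : B) ∈ φ.range := by
      apply star_of_noSqCube hnsc (x : B) N
      intro m hm
      obtain ⟨a, ha⟩ := hx m hm
      exact ⟨a, by rw [← hcomp, RingHom.comp_apply, ha]; rfl⟩
    obtain ⟨a, ha⟩ := h1
    exact ⟨a, Subtype.ext ha⟩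

include hns hU hnsc in
/-- Stacks 0CND. -/
theorem exists_prime_elt :
    ∃ (ℓ : ℕ) (b : B), ℓ.Prime ∧ b ∉ φ.range ∧ (ℓ : B) * b ∈ φ.range ∧ b ^ ℓ ∈ φ.range := by
  obtain ⟨B', _, φ', ι, hcomp, hιinj, -, hfin, hns', hstar', hU'⟩ :=
    exists_finite_sub hns hU hnsc
  obtain ⟨-, hbij, -⟩ := of_isUnivHomeo φ' hU'
  obtain ⟨ℓ, b', hℓ, hb', hℓb', hb'ℓ⟩ := exists_prime_of_star hfin hstar' hns' hbij.2 hbij.1
    (fun P _ p _ hP => isPurelyInseparable_generic hU' P p hP)
  refine ⟨ℓ, ι b', hℓ, ?_, ?_, ?_⟩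
  · rintro ⟨a, ha⟩
    apply hb'
    refine ⟨a, hιinj ?_⟩
    rw [← ha, ← hcomp]
    rfl
  · obtain ⟨a, ha⟩ := hℓb'
    refine ⟨a, ?_⟩
    rw [← hcomp, RingHom.comp_apply, ha, map_mul, map_natCast]
  · obtain ⟨a, ha⟩ := hb'ℓ
    refine ⟨a, ?_⟩
    rw [← hcomp, RingHom.comp_apply, ha, map_pow]

include hns hU hnsc in
/-- Stacks 0CNC (contrapositive form). -/
theorem false_of_resSurj (hres : ResSurj φ) : False := by
  obtain ⟨B', _, φ', ι, hcomp, hιinj, hιint, hfin, hns', hstar', hU'⟩ :=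
    exists_finite_sub hns hU hnsc
  obtain ⟨-, hbij, -⟩ := of_isUnivHomeo φ' hU'
  have hres' : ResSurj φ' := resSurj_of_comp φ' ι hιinj hιint (hcomp ▸ hres)
  exact hns' (surjective_of_resSurj hfin hstar' hbij.2 hbij.1
    (fun P _ p _ hP => hres' P p hP))

end reduce

end Groth.Agent.Lib.Helper9.Conductor
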