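import Groth.Agent.Lib.Helper9.WeakClosure
import Mathlib.RingTheory.IntegralClosure.IsIntegralClosure.Basic
import Mathlib.Algebra.Field.Subfield.Basic

/-!
# Relative weak normalization and seminormalization of `A` in an `A`-algebra `B`
-/

set_option autoImplicit false
set_option linter.style.haveILetI false
universe u
open CategoryTheory AlgebraicGeometry MorphismProperty TensorProduct

namespace Groth.Agent.Lib.Helper9.UnivHomeoRing

/-- Transfer of universal homeomorphisms along a ring isomorphism of the target. -/
theorem isUnivHomeo_comp_ringEquiv {A E E' : Type u} [CommRing A] [CommRing E] [CommRing E']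
    (f : A →+* E) (e : E ≃+* E')
    (h : FlatMor.IsUnivHomeo (Spec.map (CommRingCat.ofHom f))) :
    FlatMor.IsUnivHomeo (Spec.map (CommRingCat.ofHom (e.toRingHom.comp f))) := by
  apply isUnivHomeo_of_comp_injective (e.toRingHom.comp f) e.symm.toRingHom e.symm.injective
  have : e.symm.toRingHom.comp (e.toRingHom.comp f) = f := by
    refine RingHom.ext fun a => ?_
    exact e.symm_apply_apply (f a)
  rw [this]
  exact h

theorem resSurj_comp_ringEquiv {A E E' : Type u} [CommRing A] [CommRing E] [CommRing E']
    (f : A →+* E) (e : E ≃+* E') (h : ResSurj f) : ResSurj (e.toRingHom.comp f) := by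
  apply resSurj_of_comp (e.toRingHom.comp f) e.symm.toRingHom e.symm.injective
  · exact RingHom.isIntegral_of_surjective _ e.symm.surjective
  · have : e.symm.toRingHom.comp (e.toRingHom.comp f) = f := by
      refine RingHom.ext fun a => ?_
      exact e.symm_apply_apply (f a)
    rw [this]
    exact h

theorem isRadicial_comp_surjective {A C C' : Type u} [CommRing A] [CommRing C] [CommRing C']
    (f : A →+* C) (s : C →+* C') (hs : Function.Surjective s) (h : IsRadicial f) :
    IsRadicial (s.comp f) := by
  intro K _ g₁ g₂ h12
  have h3 : g₁.comp s = g₂.comp s := by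
    apply h K
    rw [RingHom.comp_assoc, RingHom.comp_assoc]
    exact h12
  refine RingHom.ext fun c' => ?_
  obtain ⟨c, rfl⟩ := hs c'
  exact congrArg (fun ψ => ψ c) (congrArg DFunLike.coe h3)

section
variable (A B : Type u) [CommRing A] [CommRing B] [Algebra A B]

/-- `Spec` of the weak closure is universally homeomorphic to `Spec A` (nil kernel version). -/
theorem isUnivHomeo_weakClosure' [Algebra.IsIntegral A B]
    (hker : RingHom.ker (algebraMap A B) ≤ nilradical A) :
    FlatMor.IsUnivHomeo (Spec.map (CommRingCat.ofHom (algebraMap A (weakClosure A B)))) := by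
  rw [isUnivHomeo_SpecMap_iff']
  have hcomp : (algebraMap (weakClosure A B) B).comp (algebraMap A (weakClosure A B)) =
      algebraMap A B := rfl
  have hintAB : (algebraMap A B).IsIntegral := Algebra.IsIntegral.isIntegral
  have hint : (algebraMap A (weakClosure A B)).IsIntegral := by
    rw [← hcomp] at hintAB
    exact (isIntegral_of_comp_injective _ _ Subtype.val_injective hintAB).1
  refine ⟨hint, ?_, isRadicial_weakClosure A B⟩
  intro p
  haveI : Algebra.IsIntegral A (weakClosure A B) := ⟨hint⟩
  have hker' : (⊥ : Ideal (weakClosure A B)).comap (algebraMap A (weakClosure A B)) ≤ p.asIdeal := by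
    intro x hx
    have h0 : algebraMap A (weakClosure A B) x = 0 := hx
    have h1 : x ∈ RingHom.ker (algebraMap A B) := by
      rw [RingHom.mem_ker]
      exact (congrArg (algebraMap (weakClosure A B) B) h0).trans (map_zero _)
    exact nilradical_le_prime p.asIdeal (hker h1)
  obtain ⟨q, -, hq_prime, hq⟩ :=
    Ideal.exists_ideal_over_prime_of_isIntegral p.asIdeal (⊥ : Ideal (weakClosure A B)) hker'
  exact ⟨⟨q, hq_prime⟩, PrimeSpectrum.ext hq⟩

/-- The relative weak normalization of `A` in `B`. -/
noncomputable def relWeakClosure : Subalgebra A B :=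
  (weakClosure A (integralClosure A B)).map (integralClosure A B).val

theorem isUnivHomeo_relWeakClosure (hker : RingHom.ker (algebraMap A B) ≤ nilradical A) :
    FlatMor.IsUnivHomeo (Spec.map (CommRingCat.ofHom (algebraMap A (relWeakClosure A B)))) := by
  haveI : Algebra.IsIntegral A (integralClosure A B) := inferInstance
  have hker₁ : RingHom.ker (algebraMap A (integralClosure A B)) ≤ nilradical A := by
    intro x hx
    apply hker
    rw [RingHom.mem_ker] at hx ⊢
    exact (congrArg (algebraMap (integralClosure A B) B) hx).trans (map_zero _)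
  have h1 := isUnivHomeo_weakClosure' A (integralClosure A B) hker₁
  let e := Subalgebra.equivMapOfInjective (weakClosure A (integralClosure A B))
    (integralClosure A B).val Subtype.val_injective
  have h2 := isUnivHomeo_comp_ringEquiv _ e.toRingEquiv h1
  have h3 : e.toRingEquiv.toRingHom.comp (algebraMap A (weakClosure A (integralClosure A B))) =
      algebraMap A (relWeakClosure A B) := by
    refine RingHom.ext fun a => ?_
    exact e.commutes a
  rw [h3] at h2
  exact h2

theorem range_le_relWeakClosure (C : Type u) [CommRing C] [Algebra A C] (g : C →ₐ[A] B)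
    (hint : (algebraMap A C).IsIntegral) (hC : IsRadicial (algebraMap A C)) :
    g.range ≤ relWeakClosure A B := by
  have hmem : ∀ x : C, g x ∈ integralClosure A B := fun x => by
    have hx : IsIntegral A x := hint x
    exact hx.map g
  let g₁ : C →ₐ[A] integralClosure A B := g.codRestrict _ hmem
  have hrad : IsRadicial (algebraMap A g₁.range) := by
    have := isRadicial_comp_surjective (algebraMap A C) g₁.rangeRestrict.toRingHom
      g₁.rangeRestrict_surjective hC
    have h2 : g₁.rangeRestrict.toRingHom.comp (algebraMap A C) = algebraMap A g₁.range := by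
      refine RingHom.ext fun a => ?_
      exact g₁.rangeRestrict.commutes a
    rw [h2] at this
    exact this
  have hle := le_weakClosure_of_isRadicial A (integralClosure A B) g₁.range hrad
  rintro _ ⟨x, rfl⟩
  exact ⟨g₁ x, hle ⟨x, rfl⟩, rfl⟩

end

section sn
variable (A E : Type u) [CommRing A] [CommRing E] [Algebra A E]

/-- The elements of `E` all of whose residues come from residue fields of `A`. -/
noncomputable def snPart : Subalgebra A E where
  carrier := {x | ∀ (q : Ideal E) [q.IsPrime] (p : Ideal A) [p.IsPrime]
    (hp : p = Ideal.comap (algebraMap A E) q),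
    algebraMap E q.ResidueField x ∈ (Ideal.ResidueField.map p q (algebraMap A E) hp).range}
  mul_mem' hx hy q _ p _ hp := by rw [map_mul]; exact Subring.mul_mem _ (hx q p hp) (hy q p hp)
  one_mem' q _ p _ hp := by rw [map_one]; exact Subring.one_mem _
  add_mem' hx hy q _ p _ hp := by rw [map_add]; exact Subring.add_mem _ (hx q p hp) (hy q p hp)
  zero_mem' q _ p _ hp := by rw [map_zero]; exact Subring.zero_mem _
  algebraMap_mem' a q _ p _ hp :=
    ⟨algebraMap A p.ResidueField a, Ideal.ResidueField.map_algebraMap p q _ hp a⟩

theorem mem_snPart_iff (x : E) : x ∈ snPart A E ↔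
    ∀ (q : Ideal E) [q.IsPrime] (p : Ideal A) [p.IsPrime]
    (hp : p = Ideal.comap (algebraMap A E) q),
    algebraMap E q.ResidueField x ∈ (Ideal.ResidueField.map p q (algebraMap A E) hp).range :=
  Iff.rfl

/-- A field hom into a residue field hitting all residues of ring elements is surjective. -/
theorem surjective_of_forall_algebraMap_mem {S : Type*} [CommRing S] (c : Ideal S) [c.IsPrime]
    {K : Type*} [Field K] (ρ : K →+* c.ResidueField)
    (h : ∀ s : S, algebraMap S c.ResidueField s ∈ ρ.range) : Function.Surjective ρ := by
  intro y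
  obtain ⟨x, t, -, rfl⟩ := IsFractionRing.div_surjective (S ⧸ c) y
  obtain ⟨x, rfl⟩ := Ideal.Quotient.mk_surjective x
  obtain ⟨t, rfl⟩ := Ideal.Quotient.mk_surjective t
  rw [Ideal.algebraMap_quotient_residueField_mk, Ideal.algebraMap_quotient_residueField_mk]
  obtain ⟨a, ha⟩ := h x
  obtain ⟨b, hb⟩ := h t
  exact ⟨a / b, by rw [map_div₀, ha, hb]⟩

theorem resSurj_snPart (hint : (algebraMap A E).IsIntegral) :
    ResSurj (algebraMap A (snPart A E)) := by
  intro c _ p _ hp
  have hcomp : (algebraMap (snPart A E) E).comp (algebraMap A (snPart A E)) = algebraMap A E := rfl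
  have hgi : (algebraMap (snPart A E) E).IsIntegral := by
    rw [← hcomp] at hint
    exact (isIntegral_of_comp_injective _ _ Subtype.val_injective hint).2
  haveI : Algebra.IsIntegral (snPart A E) E := ⟨hgi⟩
  have hker : (⊥ : Ideal E).comap (algebraMap (snPart A E) E) ≤ c := by
    intro x hx
    have h0 : (x : E) = 0 := hx
    have h1 : x = 0 := Subtype.ext h0
    rw [h1]
    exact c.zero_mem
  obtain ⟨q, -, hq_prime, hq⟩ :=
    Ideal.exists_ideal_over_prime_of_isIntegral c (⊥ : Ideal E) hker
  have hq' : c = Ideal.comap (algebraMap (snPart A E) E) q := hq.symm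
  haveI := hq_prime
  have hpq : p = Ideal.comap (algebraMap A E) q := by
    rw [hp, hq', Ideal.comap_comap, hcomp]
  have hcomp' : (Ideal.ResidueField.map c q (algebraMap (snPart A E) E) hq').comp
      (Ideal.ResidueField.map p c (algebraMap A (snPart A E)) hp) =
      Ideal.ResidueField.map p q (algebraMap A E) hpq := by
    apply Ideal.ResidueField.ringHom_ext
    refine RingHom.ext fun a => ?_
    simp only [RingHom.comp_apply]
    rw [Ideal.ResidueField.map_algebraMap, Ideal.ResidueField.map_algebraMap,
      Ideal.ResidueField.map_algebraMap]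
    rfl
  apply surjective_of_forall_algebraMap_mem
  intro s
  obtain ⟨z, hz⟩ := s.2 q p hpq
  refine ⟨z, (Ideal.ResidueField.map c q (algebraMap (snPart A E) E) hq').injective ?_⟩
  rw [Ideal.ResidueField.map_algebraMap]
  rw [← hcomp'] at hz
  exact hz

theorem isUnivHomeo_snPart (h : FlatMor.IsUnivHomeo (Spec.map (CommRingCat.ofHom (algebraMap A E)))) :
    FlatMor.IsUnivHomeo (Spec.map (CommRingCat.ofHom (algebraMap A (snPart A E)))) := by
  have hcomp : (algebraMap (snPart A E) E).comp (algebraMap A (snPart A E)) = algebraMap A E := rfl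
  rw [← hcomp] at h
  exact isUnivHomeo_of_comp_injective _ _ Subtype.val_injective h

/-- Images of `A`-algebras with surjective residue field maps land in the seminormal part. -/
theorem range_le_snPart (C : Type u) [CommRing C] [Algebra A C] (g : C →ₐ[A] E)
    (hC : ResSurj (algebraMap A C)) : g.range ≤ snPart A E := by
  rintro _ ⟨x, rfl⟩
  intro q _ p _ hp
  have hr : Ideal.comap g.toRingHom q = Ideal.comap g.toRingHom q := rfl
  have hpr : p = Ideal.comap (algebraMap A C) (Ideal.comap g.toRingHom q) := by
    rw [hp, Ideal.comap_comap]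
    congr 1
    exact RingHom.ext fun a => (g.commutes a).symm
  obtain ⟨z, hz⟩ := hC (Ideal.comap g.toRingHom q) p hpr (algebraMap C _ x)
  refine ⟨z, ?_⟩
  have hcomp' : (Ideal.ResidueField.map (Ideal.comap g.toRingHom q) q g.toRingHom rfl).comp
      (Ideal.ResidueField.map p (Ideal.comap g.toRingHom q) (algebraMap A C) hpr) =
      Ideal.ResidueField.map p q (algebraMap A E) hp := by
    apply Ideal.ResidueField.ringHom_ext
    refine RingHom.ext fun a => ?_
    simp only [RingHom.comp_apply]
    rw [Ideal.ResidueField.map_algebraMap, Ideal.ResidueField.map_algebraMap,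
      Ideal.ResidueField.map_algebraMap]
    exact congrArg _ (g.commutes a)
  rw [← hcomp', RingHom.comp_apply, hz, Ideal.ResidueField.map_algebraMap]

end sn

end Groth.Agent.Lib.Helper9.UnivHomeoRing
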