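import Groth.Agent.Lib.Helper9.Towers
import Groth.Agent.Lib.Helper9.Conductor4
import Groth.Agent.Lib.Helper9.RelClosure
import Mathlib.Algebra.CharP.Frobenius

/-!
# Universal homeomorphisms as towers of elementary extensions (Stacks 0CNE-type statements)
-/

set_option autoImplicit false
set_option linter.style.haveILetI false
universe u
open CategoryTheory AlgebraicGeometry

namespace Groth.Agent.Lib.Helper9.Towers

open Groth.Agent.Lib.Helper9.UnivHomeoRing Groth.Agent.Lib.Helper9.Conductor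

section twoOfThree

variable {A B' B : Type u} [CommRing A] [CommRing B'] [CommRing B]

theorem isUnivHomeo_snd_of_comp (f : A →+* B') (g : B' →+* B) (hg : Function.Injective g)
    (h : FlatMor.IsUnivHomeo (Spec.map (CommRingCat.ofHom (g.comp f)))) :
    FlatMor.IsUnivHomeo (Spec.map (CommRingCat.ofHom g)) := by
  rw [isUnivHomeo_SpecMap_iff'] at h ⊢
  obtain ⟨h1, -, h3⟩ := h
  have hgi : g.IsIntegral := RingHom.IsIntegral.tower_top f g h1
  refine ⟨hgi, ?_, ?_⟩
  · intro c
    letI := g.toAlgebra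
    haveI : Algebra.IsIntegral B' B := ⟨hgi⟩
    have hker : (⊥ : Ideal B).comap (algebraMap B' B) ≤ c.asIdeal := by
      intro x hx
      have h0 : g x = 0 := hx
      rw [hg (h0.trans (map_zero _).symm)]
      exact c.asIdeal.zero_mem
    obtain ⟨q, -, hq_prime, hq⟩ :=
      Ideal.exists_ideal_over_prime_of_isIntegral c.asIdeal (⊥ : Ideal B) hker
    exact ⟨⟨q, hq_prime⟩, PrimeSpectrum.ext hq⟩
  · intro K _ g₁ g₂ h12
    apply h3 K
    rw [← RingHom.comp_assoc, ← RingHom.comp_assoc, h12]

theorem resSurj_snd_of_comp (f : A →+* B') (g : B' →+* B) (h : ResSurj (g.comp f)) :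
    ResSurj g := by
  intro P _ c _ hc
  have hp : c.comap f = P.comap (g.comp f) := by rw [hc, Ideal.comap_comap]
  have hcomp : (Ideal.ResidueField.map c P g hc).comp (Ideal.ResidueField.map (c.comap f) c f rfl) =
      Ideal.ResidueField.map (c.comap f) P (g.comp f) hp := by
    apply Ideal.ResidueField.ringHom_ext
    refine RingHom.ext fun a => ?_
    simp only [RingHom.comp_apply]
    rw [Ideal.ResidueField.map_algebraMap, Ideal.ResidueField.map_algebraMap,
      Ideal.ResidueField.map_algebraMap]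
    rfl
  have hs := h P (c.comap f) hp
  rw [← hcomp] at hs
  exact Function.Surjective.of_comp hs

end twoOfThree

variable {A B : Type u} [CommRing A] [CommRing B] [Algebra A B]

/-- The seminormal elementary step. -/
def stepSN (S : Subalgebra A B) (b : B) : Prop := b ^ 2 ∈ S ∧ b ^ 3 ∈ S

/-- The weakly normal elementary step. -/
def stepWN (S : Subalgebra A B) (b : B) : Prop :=
  (b ^ 2 ∈ S ∧ b ^ 3 ∈ S) ∨ ∃ p : ℕ, p.Prime ∧ (p : B) * b ∈ S ∧ b ^ p ∈ S

theorem stepSN_mono (S S' : Subalgebra A B) (b : B) (h : S ≤ S') (hb : stepSN S b) :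
    stepSN S' b := ⟨h hb.1, h hb.2⟩

theorem stepWN_mono (S S' : Subalgebra A B) (b : B) (h : S ≤ S') (hb : stepWN S b) :
    stepWN S' b := by
  rcases hb with hb | ⟨p, hp, h1, h2⟩
  · exact Or.inl ⟨h hb.1, h hb.2⟩
  · exact Or.inr ⟨p, hp, h h1, h h2⟩

theorem stepSN_fin (S : Subalgebra A B) (b : B) (hb : stepSN S b) :
    ∃ F : Finset B, (↑F : Set B) ⊆ S ∧ stepSN (Algebra.adjoin A (↑F : Set B)) b := by
  classical
  refine ⟨{b ^ 2, b ^ 3}, ?_, ?_, ?_⟩
  · intro x hx
    simp only [Finset.coe_insert, Finset.coe_singleton, Set.mem_insert_iff,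
      Set.mem_singleton_iff] at hx
    rcases hx with rfl | rfl
    exacts [hb.1, hb.2]
  · exact Algebra.subset_adjoin (by simp)
  · exact Algebra.subset_adjoin (by simp)

theorem stepWN_fin (S : Subalgebra A B) (b : B) (hb : stepWN S b) :
    ∃ F : Finset B, (↑F : Set B) ⊆ S ∧ stepWN (Algebra.adjoin A (↑F : Set B)) b := by
  classical
  rcases hb with hb | ⟨p, hp, h1, h2⟩
  · obtain ⟨F, hF, hFb⟩ := stepSN_fin S b hb
    exact ⟨F, hF, Or.inl hFb⟩
  · refine ⟨{(p : B) * b, b ^ p}, ?_, Or.inr ⟨p, hp, ?_, ?_⟩⟩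
    · intro x hx
      simp only [Finset.coe_insert, Finset.coe_singleton, Set.mem_insert_iff,
        Set.mem_singleton_iff] at hx
      rcases hx with rfl | rfl
      exacts [h1, h2]
    · exact Algebra.subset_adjoin (by simp)
    · exact Algebra.subset_adjoin (by simp)

/-- In a field, an element is determined by its square and cube. -/
theorem eq_of_sq_eq_of_cube_eq {K : Type*} [Field K] {x y : K} (h2 : x ^ 2 = y ^ 2)
    (h3 : x ^ 3 = y ^ 3) : x = y := by
  by_cases hx : x = 0
  · subst hx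
    have : y ^ 2 = 0 := by rw [← h2]; ring
    exact (pow_eq_zero_iff (two_ne_zero)).mp this |>.symm
  · have hx2 : x ^ 2 ≠ 0 := pow_ne_zero _ hx
    have hy2 : y ^ 2 ≠ 0 := h2 ▸ hx2
    have h1 : x = x ^ 3 / x ^ 2 := by field_simp
    have hy : y ≠ 0 := fun h => hy2 (by rw [h]; ring)
    have h1' : y = y ^ 3 / y ^ 2 := by field_simp
    rw [h1, h1', h2, h3]

/-- In a field, an element is determined by its `p`-multiple and `p`-th power. -/
theorem eq_of_mul_eq_of_pow_eq {K : Type*} [Field K] {p : ℕ} (hp : p.Prime) {x y : K}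
    (h1 : (p : K) * x = (p : K) * y) (h2 : x ^ p = y ^ p) : x = y := by
  by_cases hpK : (p : K) = 0
  · haveI : Fact p.Prime := ⟨hp⟩
    haveI : CharP K p := by
      refine (CharP.charP_iff_prime_eq_zero hp).mpr hpK
    exact frobenius_inj K p h2
  · exact mul_left_cancel₀ hpK h1

/-- In a subfield, membership is determined by square and cube. -/
theorem mem_of_sq_mem_of_cube_mem {K : Type*} [Field K] (F : Subfield K) {x : K}
    (h2 : x ^ 2 ∈ F) (h3 : x ^ 3 ∈ F) : x ∈ F := by
  by_cases hx : x = 0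
  · rw [hx]; exact F.zero_mem
  · have h1 : x = x ^ 3 / x ^ 2 := by field_simp
    rw [h1]
    exact F.div_mem h3 h2

section easy

variable (step : Subalgebra A B → B → Prop)
  (hmono : ∀ (S S' : Subalgebra A B) (b : B), S ≤ S' → step S b → step S' b)
  (hB : ∀ E : Finset B, ∃ l : List B,
    (↑E : Set B) ⊆ Algebra.adjoin A {b : B | b ∈ l} ∧ IsTow step l)

include hmono hB in
theorem forall_mem_of_closed (S : Subalgebra A B) (hS : ∀ b : B, step S b → b ∈ S) (b : B) :
    b ∈ S := by
  classical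
  obtain ⟨l, hE, hl⟩ := hB {b}
  exact adjoin_le_of_isTow hmono S hS hl (hE (by simp))

end easy

end Groth.Agent.Lib.Helper9.Towers
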