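import Groth.Agent.Lib.Helper9.Towers4
import Mathlib.RingTheory.Polynomial.Basic
import Mathlib.RingTheory.Adjoin.Polynomial.Basic

/-!
# Quotients `A[X]/(f, g)` generated by one element: universal homeomorphism criterion
-/

set_option autoImplicit false
set_option linter.style.haveILetI false
universe u
open CategoryTheory AlgebraicGeometry Polynomial

namespace Groth.Agent.Lib.Helper9.Towers

open Groth.Agent.Lib.Helper9.UnivHomeoRing

variable {A : Type u} [CommRing A] (I : Ideal A[X])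

theorem adjoin_mk_X_eq_top : Algebra.adjoin A {(Ideal.Quotient.mk I X : A[X] ⧸ I)} = ⊤ := by
  have h1 : (Algebra.adjoin A {(X : A[X])}).map (Ideal.Quotient.mkₐ A I) =
      Algebra.adjoin A {(Ideal.Quotient.mk I X : A[X] ⧸ I)} := by
    rw [AlgHom.map_adjoin]
    congr 1
    simp
  rw [← h1, Polynomial.adjoin_X, Algebra.map_top, AlgHom.range_eq_top]
  exact Ideal.Quotient.mkₐ_surjective A I

/-- Lifting a point: a ring hom `A[X]/I → Ω` from a root. -/
theorem exists_hom_of_root {Ω : Type u} [Field Ω] (ψ : A →+* Ω) (τ : Ω) (S : Set A[X])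
    (hI : I = Ideal.span S) (hτ : ∀ f ∈ S, Polynomial.eval₂ ψ τ f = 0) :
    ∃ θ : (A[X] ⧸ I) →+* Ω, θ.comp (algebraMap A (A[X] ⧸ I)) = ψ := by
  have hle : I ≤ RingHom.ker (Polynomial.eval₂RingHom ψ τ) := by
    rw [hI, Ideal.span_le]
    intro f hf
    exact hτ f hf
  have hle' : ∀ f ∈ I, Polynomial.eval₂RingHom ψ τ f = 0 := fun f hf => (RingHom.mem_ker).mp (hle hf)
  refine ⟨Ideal.Quotient.lift I (Polynomial.eval₂RingHom ψ τ) hle', ?_⟩
  refine RingHom.ext fun a => ?_
  have h1 : algebraMap A (A[X] ⧸ I) a = Ideal.Quotient.mk I (C a) := rfl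
  rw [RingHom.comp_apply, h1, Ideal.Quotient.lift_mk]
  simp

end Groth.Agent.Lib.Helper9.Towers
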