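import Groth.Agent.Lib.Helper9.AWN
import Groth.Agent.Lib.Helper9.Towers2
import Groth.Agent.S7399
import Groth.Agent.S7402
import Groth.Agent.S7403

/-!
# Absolute weak normalizations are absolutely weakly normal rings
-/

set_option autoImplicit false
universe u
open CategoryTheory AlgebraicGeometry Polynomial

namespace Groth.Agent.Lib.Helper9.UnivHomeoRing

section comp
variable {A B C : Type u} [CommRing A] [CommRing B] [CommRing C]

theorem isUnivHomeo_comp (f : A →+* B) (g : B →+* C)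
    (hf : FlatMor.IsUnivHomeo (Spec.map (CommRingCat.ofHom f)))
    (hg : FlatMor.IsUnivHomeo (Spec.map (CommRingCat.ofHom g))) :
    FlatMor.IsUnivHomeo (Spec.map (CommRingCat.ofHom (g.comp f))) := by
  rw [isUnivHomeo_SpecMap_iff'] at hf hg ⊢
  obtain ⟨f1, f2, f3⟩ := hf
  obtain ⟨g1, g2, g3⟩ := hg
  refine ⟨f1.trans _ _ g1, ?_, ?_⟩
  · intro p
    obtain ⟨q, rfl⟩ := f2 p
    obtain ⟨r, rfl⟩ := g2 q
    exact ⟨r, rfl⟩
  · intro K _ g₁ g₂ h
    apply g3 K
    apply f3 K
    rw [RingHom.comp_assoc, RingHom.comp_assoc, h]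

theorem isUnivHomeo_snd_of_comp' (f : A →+* B) (g : B →+* C)
    (hf : FlatMor.IsUnivHomeo (Spec.map (CommRingCat.ofHom f)))
    (hgf : FlatMor.IsUnivHomeo (Spec.map (CommRingCat.ofHom (g.comp f)))) :
    FlatMor.IsUnivHomeo (Spec.map (CommRingCat.ofHom g)) := by
  have hinj : Function.Injective (PrimeSpectrum.comap f) := (of_isUnivHomeo f hf).2.1.1
  rw [isUnivHomeo_SpecMap_iff'] at hgf ⊢
  obtain ⟨h1, h2, h3⟩ := hgf
  refine ⟨RingHom.IsIntegral.tower_top f g h1, ?_, ?_⟩
  · intro c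
    obtain ⟨Q, hQ⟩ := h2 (PrimeSpectrum.comap f c)
    refine ⟨Q, hinj ?_⟩
    rw [← hQ]
    rfl
  · intro K _ g₁ g₂ h12
    apply h3 K
    rw [← RingHom.comp_assoc, ← RingHom.comp_assoc, h12]

theorem isUnivHomeo_of_surjective_of_ker_le (f : A →+* B) (hf : Function.Surjective f)
    (hker : RingHom.ker f ≤ nilradical A) :
    FlatMor.IsUnivHomeo (Spec.map (CommRingCat.ofHom f)) := by
  rw [isUnivHomeo_SpecMap_iff']
  have hint : f.IsIntegral := RingHom.isIntegral_of_surjective f hf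
  refine ⟨hint, ?_, ?_⟩
  · intro p
    letI := f.toAlgebra
    haveI : Algebra.IsIntegral A B := ⟨hint⟩
    have hker' : (⊥ : Ideal B).comap (algebraMap A B) ≤ p.asIdeal := by
      intro a ha
      have h0 : a ∈ RingHom.ker f := ha
      exact nilradical_le_prime p.asIdeal (hker h0)
    obtain ⟨q, -, hq_prime, hq⟩ :=
      Ideal.exists_ideal_over_prime_of_isIntegral p.asIdeal (⊥ : Ideal B) hker'
    exact ⟨⟨q, hq_prime⟩, PrimeSpectrum.ext hq⟩
  · intro K _ g₁ g₂ h
    exact (RingHom.cancel_right hf).mp h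

end comp

section awn
variable {A W : Type u} [CommRing A] [CommRing W] (φ : A →+* W)

theorem IsRingAWN.exists_retraction (hφ : HTop.IsRingAWN φ) {W' : Type u} [CommRing W']
    (ι : W →+* W') (hι : FlatMor.IsUnivHomeo (Spec.map (CommRingCat.ofHom ι))) :
    ∃ r : W' →+* W, r.comp ι = RingHom.id W := by
  obtain ⟨r, hr, -⟩ := hφ.2 W' (ι.comp φ) (isUnivHomeo_comp φ ι hφ.1 hι)
  refine ⟨r, ?_⟩
  obtain ⟨e, -, he⟩ := hφ.2 W φ hφ.1
  have h1 : r.comp ι = e := he _ (show (r.comp ι).comp φ = φ by rw [RingHom.comp_assoc, hr])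
  have h2 : RingHom.id W = e := he _ (show (RingHom.id W).comp φ = φ by rw [RingHom.id_comp])
  rw [h1, ← h2]

theorem IsRingAWN.isReduced (hφ : HTop.IsRingAWN φ) : IsReduced W := by
  obtain ⟨r, hr⟩ := IsRingAWN.exists_retraction φ hφ (Ideal.Quotient.mk (nilradical W))
    (isUnivHomeo_of_surjective_of_ker_le _ Ideal.Quotient.mk_surjective (by rw [Ideal.mk_ker]))
  have hinj : Function.Injective (Ideal.Quotient.mk (nilradical W)) := by
    intro a b hab
    have := congrArg r hab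
    rw [← RingHom.comp_apply, ← RingHom.comp_apply, hr] at this
    exact this
  rw [← nilradical_eq_bot_iff]
  rw [← Ideal.mk_ker (I := nilradical W)]
  exact (RingHom.injective_iff_ker_eq_bot _).mp hinj

/-- In a reduced ring, an element is determined by its square and its cube. -/
theorem eq_of_sq_eq_of_cube_eq_of_isReduced {R : Type*} [CommRing R] [IsReduced R] {a b : R}
    (h2 : a ^ 2 = b ^ 2) (h3 : a ^ 3 = b ^ 3) : a = b := by
  have h : (a - b) ^ 3 = 0 := by
    linear_combination 4 * h3 - (3 * a + 3 * b) * h2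
  exact sub_eq_zero.mp (pow_eq_zero_iff (three_ne_zero) |>.mp h)

/-- In a reduced ring, an element is determined by its `p`-th power and its `p`-multiple. -/
theorem eq_of_mul_eq_of_pow_eq_of_isReduced {R : Type*} [CommRing R] [IsReduced R] {p : ℕ}
    (hp : p.Prime) {a b : R} (h1 : (p : R) * a = (p : R) * b) (h2 : a ^ p = b ^ p) : a = b := by
  rw [← sub_eq_zero]
  have hnil : IsNilpotent (a - b) := by
    rw [nilpotent_iff_mem_prime]
    intro P hP
    haveI := hP
    rw [← Ideal.algebraMap_residueField_eq_zero, map_sub, sub_eq_zero]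
    apply Groth.Agent.Lib.Helper9.Towers.eq_of_mul_eq_of_pow_eq hp
    · have := congrArg (algebraMap R P.ResidueField) h1
      simpa only [map_mul, map_natCast] using this
    · rw [← map_pow, ← map_pow, h2]
  exact hnil.eq_zero

theorem IsRingAWN.isAWNRing (hφ : HTop.IsRingAWN φ) : HTop.IsAWNRing W := by
  haveI : IsReduced W := IsRingAWN.isReduced φ hφ
  refine ⟨?_, ?_⟩
  · intro x y hxy
    set I : Ideal W[X] := Ideal.span ({X ^ 2 - C x, X ^ 3 - C y} : Set W[X]) with hI
    obtain ⟨r, hr⟩ := IsRingAWN.exists_retraction φ hφ (algebraMap W (W[X] ⧸ I))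
      (Groth.Agent.S7402.result W x y hxy).1
    have hr' : ∀ w : W, r (Ideal.Quotient.mk I (C w)) = w := fun w =>
      congrArg (fun ψ => ψ w) (congrArg DFunLike.coe hr)
    refine ⟨r (Ideal.Quotient.mk I X), ⟨?_, ?_⟩, ?_⟩
    · rw [← map_pow, ← map_pow]
      conv_lhs => rw [← hr' x]
      congr 1
      rw [eq_comm, Ideal.Quotient.eq]
      exact Ideal.subset_span (by simp)
    · rw [← map_pow, ← map_pow]
      conv_lhs => rw [← hr' y]
      congr 1
      rw [eq_comm, Ideal.Quotient.eq]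
      exact Ideal.subset_span (by simp)
    · rintro a ⟨ha2, ha3⟩
      apply eq_of_sq_eq_of_cube_eq_of_isReduced
      · rw [← ha2, ← map_pow, ← map_pow]
        conv_lhs => rw [← hr' x]
        congr 1
        rw [eq_comm, Ideal.Quotient.eq]
        exact Ideal.subset_span (by simp)
      · rw [← ha3, ← map_pow, ← map_pow]
        conv_lhs => rw [← hr' y]
        congr 1
        rw [eq_comm, Ideal.Quotient.eq]
        exact Ideal.subset_span (by simp)
  · intro p hp x y hxy
    set I : Ideal W[X] := Ideal.span ({X ^ p - C x, C (p : W) * X - C y} : Set W[X]) with hI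
    obtain ⟨r, hr⟩ := IsRingAWN.exists_retraction φ hφ (algebraMap W (W[X] ⧸ I))
      (Groth.Agent.S7403.result W p hp x y hxy)
    have hr' : ∀ w : W, r (Ideal.Quotient.mk I (C w)) = w := fun w =>
      congrArg (fun ψ => ψ w) (congrArg DFunLike.coe hr)
    have e1 : x = r (Ideal.Quotient.mk I X) ^ p := by
      rw [← map_pow, ← map_pow]
      conv_lhs => rw [← hr' x]
      congr 1
      rw [eq_comm, Ideal.Quotient.eq]
      exact Ideal.subset_span (by simp)
    have e2 : y = (p : W) * r (Ideal.Quotient.mk I X) := by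
      conv_rhs => rw [← hr' (p : W)]
      rw [← map_mul, ← map_mul]
      conv_lhs => rw [← hr' y]
      congr 1
      rw [eq_comm, Ideal.Quotient.eq]
      exact Ideal.subset_span (by simp)
    refine ⟨r (Ideal.Quotient.mk I X), ⟨e1, e2⟩, ?_⟩
    rintro a ⟨ha1, ha2⟩
    apply eq_of_mul_eq_of_pow_eq_of_isReduced hp
    · rw [← ha2, ← e2]
    · rw [← ha1, ← e1]

end awn

section transfer

theorem isAWNRing_of_ringEquiv {R S : Type u} [CommRing R] [CommRing S] (e : R ≃+* S)
    (h : HTop.IsAWNRing R) : HTop.IsAWNRing S := by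
  refine ⟨?_, ?_⟩
  · intro x y hxy
    obtain ⟨a, ⟨h1, h2⟩, h3⟩ := h.1 (e.symm x) (e.symm y) (by rw [← map_pow, ← map_pow, hxy])
    refine ⟨e a, ⟨?_, ?_⟩, ?_⟩
    · rw [← map_pow, ← h1, e.apply_symm_apply]
    · rw [← map_pow, ← h2, e.apply_symm_apply]
    · rintro b ⟨hb1, hb2⟩
      rw [← h3 (e.symm b) ⟨by rw [hb1, map_pow], by rw [hb2, map_pow]⟩, e.apply_symm_apply]
  · intro p hp x y hxy
    obtain ⟨a, ⟨h1, h2⟩, h3⟩ := h.2 p hp (e.symm x) (e.symm y) (by
      rw [← map_pow, ← hxy, map_mul, map_pow, map_natCast])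
    refine ⟨e a, ⟨?_, ?_⟩, ?_⟩
    · rw [← map_pow, ← h1, e.apply_symm_apply]
    · have := congrArg e h2
      rw [e.apply_symm_apply, map_mul, map_natCast] at this
      exact this
    · rintro b ⟨hb1, hb2⟩
      rw [← h3 (e.symm b) ⟨by rw [hb1, map_pow], by rw [hb2, map_mul, map_natCast]⟩,
        e.apply_symm_apply]

theorem isReduced_of_isAWNRing {R : Type u} [CommRing R] (h : HTop.IsAWNRing R) : IsReduced R := by
  rw [isReduced_iff_pow_one_lt 2 (by norm_num)]
  intro n hn
  obtain ⟨a, -, h3⟩ := h.1 0 0 (by ring)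
  have h0 : (0 : R) = a := h3 0 ⟨by ring, by ring⟩
  have h1 : n = a := h3 n ⟨by rw [hn], by rw [pow_succ, hn, zero_mul]⟩
  rw [h1, ← h0]

end transfer

section converse
variable {A B W : Type u} [CommRing A] [CommRing B] [CommRing W]

theorem bijective_of_isAWNRing (φ : A →+* W) (hφ : HTop.IsRingAWN φ) (ψ : A →+* B)
    (hψ : FlatMor.IsUnivHomeo (Spec.map (CommRingCat.ofHom ψ))) (χ : B →+* W)
    (hχ : χ.comp ψ = φ) (hB : HTop.IsAWNRing B) : Function.Bijective χ := by
  haveI : IsReduced W := IsRingAWN.isReduced φ hφ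
  haveI : IsReduced B := isReduced_of_isAWNRing hB
  have hUH : FlatMor.IsUnivHomeo (Spec.map (CommRingCat.ofHom χ)) :=
    isUnivHomeo_snd_of_comp' ψ χ hψ (hχ ▸ hφ.1)
  have hsurj : Function.Surjective (PrimeSpectrum.comap χ) :=
    ((isUnivHomeo_SpecMap_iff' χ).mp hUH).2.1
  have hinj : Function.Injective χ := by
    rw [injective_iff_map_eq_zero]
    intro b hb
    have hnil : IsNilpotent b := by
      rw [nilpotent_iff_mem_prime]
      intro P hP
      obtain ⟨Q, hQ⟩ := hsurj ⟨P, hP⟩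
      have h1 : b ∈ (PrimeSpectrum.comap χ Q).asIdeal := by
        change χ b ∈ Q.asIdeal
        rw [hb]
        exact Q.asIdeal.zero_mem
      rw [hQ] at h1
      exact h1
    exact hnil.eq_zero
  refine ⟨hinj, ?_⟩
  by_contra hns
  rcases Groth.Agent.S7399.result χ hinj hns hUH with ⟨w, hw, ⟨x, hx⟩, ⟨y, hy⟩⟩ |
    ⟨p, w, hp, hw, ⟨y, hy⟩, ⟨x, hx⟩⟩
  · have hxy : x ^ 3 = y ^ 2 := by
      apply hinj
      rw [map_pow, map_pow, hx, hy]
      ring
    obtain ⟨b, ⟨hb1, hb2⟩, -⟩ := hB.1 x y hxy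
    apply hw
    refine ⟨b, ?_⟩
    apply eq_of_sq_eq_of_cube_eq_of_isReduced
    · rw [← map_pow, ← hb1, hx]
    · rw [← map_pow, ← hb2, hy]
  · have hxy : (p : B) ^ p * x = y ^ p := by
      apply hinj
      rw [map_mul, map_pow, map_pow, map_natCast, hx, hy]
      ring
    obtain ⟨b, ⟨hb1, hb2⟩, -⟩ := hB.2 p hp x y hxy
    apply hw
    refine ⟨b, ?_⟩
    apply eq_of_mul_eq_of_pow_eq_of_isReduced hp
    · rw [← hy, hb2, map_mul, map_natCast]
    · rw [← map_pow, ← hb1, hx]

end converse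

end Groth.Agent.Lib.Helper9.UnivHomeoRing
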