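import Groth.Agent.Lib.Helper9.AWN2
import Mathlib.RingTheory.LocalProperties.Reduced

/-!
# Seminormality and absolute weak normality are local on the spectrum
-/

set_option autoImplicit false
universe u

namespace Groth.Agent.Lib.Helper9.SNLocal

open Groth.Agent.Lib.Helper9.UnivHomeoRing

section basics
variable {A : Type u} [CommRing A]

theorem isReduced_of_isSeminormalRing (h : HTop.IsSeminormalRing A) : IsReduced A := by
  rw [isReduced_iff_pow_one_lt 2 (by norm_num)]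
  intro n hn
  obtain ⟨a, -, h3⟩ := h 0 0 (by ring)
  have h0 : (0 : A) = a := h3 0 ⟨by ring, by ring⟩
  have h1 : n = a := h3 n ⟨by rw [hn], by rw [pow_succ, hn, zero_mul]⟩
  rw [h1, ← h0]

theorem isSeminormalRing_iff : HTop.IsSeminormalRing A ↔
    IsReduced A ∧ ∀ x y : A, x ^ 3 = y ^ 2 → ∃ a : A, x = a ^ 2 ∧ y = a ^ 3 := by
  constructor
  · intro h
    refine ⟨isReduced_of_isSeminormalRing h, fun x y hxy => ?_⟩
    obtain ⟨a, ha, -⟩ := h x y hxy
    exact ⟨a, ha⟩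
  · rintro ⟨hred, h⟩ x y hxy
    obtain ⟨a, ha2, ha3⟩ := h x y hxy
    refine ⟨a, ⟨ha2, ha3⟩, ?_⟩
    rintro b ⟨hb2, hb3⟩
    exact eq_of_sq_eq_of_cube_eq_of_isReduced (by rw [← hb2, ha2]) (by rw [← hb3, ha3])

theorem isAWNRing_iff : HTop.IsAWNRing A ↔
    IsReduced A ∧ (∀ x y : A, x ^ 3 = y ^ 2 → ∃ a : A, x = a ^ 2 ∧ y = a ^ 3) ∧
      ∀ p : ℕ, p.Prime → ∀ x y : A, (p : A) ^ p * x = y ^ p → ∃ a : A, x = a ^ p ∧ y = (p : A) * a := by
  constructor
  · intro h
    refine ⟨isReduced_of_isAWNRing h, (isSeminormalRing_iff.mp h.1).2, fun p hp x y hxy => ?_⟩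
    obtain ⟨a, ha, -⟩ := h.2 p hp x y hxy
    exact ⟨a, ha⟩
  · rintro ⟨hred, h1, h2⟩
    refine ⟨isSeminormalRing_iff.mpr ⟨hred, h1⟩, fun p hp x y hxy => ?_⟩
    obtain ⟨a, ha1, ha2⟩ := h2 p hp x y hxy
    refine ⟨a, ⟨ha1, ha2⟩, ?_⟩
    rintro b ⟨hb1, hb2⟩
    exact eq_of_mul_eq_of_pow_eq_of_isReduced hp (by rw [← hb2, ha2]) (by rw [← hb1, ha1])

theorem pow_mul_eq_of_le {f a b : A} {N K : ℕ} (h : f ^ N * a = f ^ N * b) (hK : N ≤ K) :
    f ^ K * a = f ^ K * b := by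
  obtain ⟨d, rfl⟩ := Nat.exists_eq_add_of_le hK
  rw [pow_add, mul_comm (f ^ N), mul_assoc, h, mul_assoc]

theorem eq_of_pow_mul_eq_of_pow_eq [IsReduced A] {p : ℕ} (hp : p.Prime) (m : ℕ) {a b : A}
    (h1 : (p : A) ^ m * a = (p : A) ^ m * b) (h2 : a ^ p = b ^ p) : a = b := by
  induction m with
  | zero => simpa using h1
  | succ m ih =>
    apply ih
    apply eq_of_mul_eq_of_pow_eq_of_isReduced hp
    · rw [← mul_assoc, ← mul_assoc, ← pow_succ']
      exact h1
    · rw [mul_pow, mul_pow, h2]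

theorem ideal_eq_top_of_forall_pow_mem (I : Ideal A) (s : Set A) (hs : Ideal.span s = ⊤)
    (h : ∀ f ∈ s, ∃ n : ℕ, f ^ n ∈ I) : I = ⊤ := by
  rw [← Ideal.radical_eq_top, eq_top_iff, ← hs, Ideal.span_le]
  exact fun f hf => h f hf

end basics

section away
variable {A : Type u} [CommRing A] {S : Type u} [CommRing S] [Algebra A S] (f : A)
  [IsLocalization.Away f S]

include f in
theorem exists_sq_cube_away
    (hA : ∀ x y : A, x ^ 3 = y ^ 2 → ∃ a : A, x = a ^ 2 ∧ y = a ^ 3)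
    (x y : S) (hxy : x ^ 3 = y ^ 2) : ∃ a : S, x = a ^ 2 ∧ y = a ^ 3 := by
  obtain ⟨n, x₁, hx₁⟩ := IsLocalization.Away.surj f x
  obtain ⟨m, y₁, hy₁⟩ := IsLocalization.Away.surj f y
  have hF : IsUnit (algebraMap A S f) := IsLocalization.Away.algebraMap_isUnit f
  obtain ⟨G, hG⟩ := hF.exists_right_inv
  have hx₂ : x * algebraMap A S f ^ (2 * (n + m)) = algebraMap A S (x₁ * f ^ (n + 2 * m)) := by
    rw [map_mul, map_pow, ← hx₁, mul_assoc, ← pow_add]
    congr 2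
    omega
  have hy₂ : y * algebraMap A S f ^ (3 * (n + m)) = algebraMap A S (y₁ * f ^ (3 * n + 2 * m)) := by
    rw [map_mul, map_pow, ← hy₁, mul_assoc, ← pow_add]
    congr 2
    omega
  have hxy₂ : algebraMap A S ((x₁ * f ^ (n + 2 * m)) ^ 3) =
      algebraMap A S ((y₁ * f ^ (3 * n + 2 * m)) ^ 2) := by
    rw [map_pow, map_pow, ← hx₂, ← hy₂, mul_pow, mul_pow, hxy, ← pow_mul, ← pow_mul]
    congr 2
    omega
  obtain ⟨N, hN⟩ := IsLocalization.Away.exists_of_eq f hxy₂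
  have h3 : (f ^ (2 * N) * (x₁ * f ^ (n + 2 * m))) ^ 3 =
      (f ^ (3 * N) * (y₁ * f ^ (3 * n + 2 * m))) ^ 2 := by
    have := pow_mul_eq_of_le hN (show N ≤ 6 * N by omega)
    calc (f ^ (2 * N) * (x₁ * f ^ (n + 2 * m))) ^ 3
        = f ^ (6 * N) * (x₁ * f ^ (n + 2 * m)) ^ 3 := by ring
      _ = f ^ (6 * N) * (y₁ * f ^ (3 * n + 2 * m)) ^ 2 := this
      _ = _ := by ring
  obtain ⟨a₃, ha1, ha2⟩ := hA _ _ h3
  refine ⟨algebraMap A S a₃ * G ^ (n + m + N), ?_, ?_⟩
  · rw [mul_pow, ← map_pow, ← ha1, map_mul, map_pow, ← hx₂]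
    have : algebraMap A S f ^ (2 * N) * (x * algebraMap A S f ^ (2 * (n + m))) *
        (G ^ (n + m + N)) ^ 2 = x * (algebraMap A S f * G) ^ (2 * (n + m + N)) := by ring
    rw [this, hG, one_pow, mul_one]
  · rw [mul_pow, ← map_pow, ← ha2, map_mul, map_pow, ← hy₂]
    have : algebraMap A S f ^ (3 * N) * (y * algebraMap A S f ^ (3 * (n + m))) *
        (G ^ (n + m + N)) ^ 3 = y * (algebraMap A S f * G) ^ (3 * (n + m + N)) := by ring
    rw [this, hG, one_pow, mul_one]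

include f in
theorem exists_pclause_away (p : ℕ) (hp : p.Prime)
    (hA : ∀ x y : A, (p : A) ^ p * x = y ^ p → ∃ a : A, x = a ^ p ∧ y = (p : A) * a)
    (x y : S) (hxy : (p : S) ^ p * x = y ^ p) : ∃ a : S, x = a ^ p ∧ y = (p : S) * a := by
  obtain ⟨n, x₁, hx₁⟩ := IsLocalization.Away.surj f x
  obtain ⟨m, y₁, hy₁⟩ := IsLocalization.Away.surj f y
  have hF : IsUnit (algebraMap A S f) := IsLocalization.Away.algebraMap_isUnit f
  obtain ⟨G, hG⟩ := hF.exists_right_inv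
  have hle : n ≤ p * (m + n) :=
    le_trans (Nat.le_add_left n m) (Nat.le_mul_of_pos_left _ hp.pos)
  have hd : n + (p * (m + n) - n) = p * (m + n) := Nat.add_sub_cancel' hle
  have hx₂ : x * algebraMap A S f ^ (p * (m + n)) =
      algebraMap A S (x₁ * f ^ (p * (m + n) - n)) := by
    rw [map_mul, map_pow, ← hx₁, mul_assoc, ← pow_add, hd]
  have hy₂ : y * algebraMap A S f ^ (m + n) = algebraMap A S (y₁ * f ^ n) := by
    rw [map_mul, map_pow, ← hy₁, mul_assoc, ← pow_add]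
  have hxy₂ : algebraMap A S ((p : A) ^ p * (x₁ * f ^ (p * (m + n) - n))) =
      algebraMap A S ((y₁ * f ^ n) ^ p) := by
    rw [map_mul, map_pow, map_pow, map_natCast, ← hx₂, ← hy₂, mul_pow, ← hxy, ← pow_mul]
    ring
  obtain ⟨N, hN⟩ := IsLocalization.Away.exists_of_eq f hxy₂
  have h3 : (p : A) ^ p * (f ^ (p * N) * (x₁ * f ^ (p * (m + n) - n))) =
      (f ^ N * (y₁ * f ^ n)) ^ p := by
    have := pow_mul_eq_of_le hN (Nat.le_mul_of_pos_left N hp.pos)
    calc (p : A) ^ p * (f ^ (p * N) * (x₁ * f ^ (p * (m + n) - n)))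
        = f ^ (p * N) * ((p : A) ^ p * (x₁ * f ^ (p * (m + n) - n))) := by ring
      _ = f ^ (p * N) * (y₁ * f ^ n) ^ p := this
      _ = _ := by ring
  obtain ⟨a₃, ha1, ha2⟩ := hA _ _ h3
  refine ⟨algebraMap A S a₃ * G ^ (m + n + N), ?_, ?_⟩
  · rw [mul_pow, ← map_pow, ← ha1, map_mul, map_pow, ← hx₂]
    have : algebraMap A S f ^ (p * N) * (x * algebraMap A S f ^ (p * (m + n))) *
        (G ^ (m + n + N)) ^ p = x * (algebraMap A S f * G) ^ (p * (m + n + N)) := by ring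
    rw [this, hG, one_pow, mul_one]
  · have : (p : S) * (algebraMap A S a₃ * G ^ (m + n + N)) =
        algebraMap A S ((p : A) * a₃) * G ^ (m + n + N) := by
      rw [map_mul, map_natCast]
      ring
    rw [this, ← ha2, map_mul, map_pow, ← hy₂]
    have : algebraMap A S f ^ N * (y * algebraMap A S f ^ (m + n)) * G ^ (m + n + N) =
        y * (algebraMap A S f * G) ^ (m + n + N) := by ring
    rw [this, hG, one_pow, mul_one]

end away

section glue
variable {A : Type u} [CommRing A]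

theorem isReduced_of_span (s : Finset A) (hs : Ideal.span (s : Set A) = ⊤)
    (h : ∀ f ∈ s, IsReduced (Localization.Away f)) : IsReduced A := by
  rw [isReduced_iff_pow_one_lt 2 (by norm_num)]
  intro x hx
  let I : Ideal A := LinearMap.ker (LinearMap.toSpanSingleton A A x)
  have hI : I = ⊤ := ideal_eq_top_of_forall_pow_mem I s hs (fun f hf => by
    haveI := h f hf
    have h0 : algebraMap A (Localization.Away f) x = algebraMap A (Localization.Away f) 0 := by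
      rw [map_zero]
      apply (pow_eq_zero_iff (two_ne_zero)).mp
      rw [← map_pow, hx, map_zero]
    obtain ⟨n, hn⟩ := IsLocalization.Away.exists_of_eq f h0
    refine ⟨n, ?_⟩
    change (LinearMap.toSpanSingleton A A x) (f ^ n) = 0
    rw [LinearMap.toSpanSingleton_apply, smul_eq_mul, hn, mul_zero])
  have h1 : (1 : A) ∈ I := hI ▸ Submodule.mem_top
  have h2 : (LinearMap.toSpanSingleton A A x) 1 = 0 := h1
  rwa [LinearMap.toSpanSingleton_apply, one_smul] at h2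

/-- The ideal of `t` such that `(t² x, t³ y)` has a "root". -/
def J [IsReduced A] (x y : A) (hxy : x ^ 3 = y ^ 2) : Ideal A where
  carrier := {t | ∃ b : A, b ^ 2 = t ^ 2 * x ∧ b ^ 3 = t ^ 3 * y}
  zero_mem' := ⟨0, by ring, by ring⟩
  add_mem' := by
    rintro t t' ⟨b, hb2, hb3⟩ ⟨c, hc2, hc3⟩
    have h1 : b * c = t * t' * x := by
      apply eq_of_sq_eq_of_cube_eq_of_isReduced
      · rw [mul_pow, hb2, hc2]
        ring
      · rw [mul_pow, hb3, hc3]
        linear_combination (-(t ^ 3 * t' ^ 3)) * hxy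
    have h2 : b ^ 2 * c = t ^ 2 * t' * y := by
      apply eq_of_sq_eq_of_cube_eq_of_isReduced
      · calc (b ^ 2 * c) ^ 2 = (b ^ 2) ^ 2 * c ^ 2 := by ring
          _ = (t ^ 2 * x) ^ 2 * (t' ^ 2 * x) := by rw [hb2, hc2]
          _ = t ^ 4 * t' ^ 2 * x ^ 3 := by ring
          _ = t ^ 4 * t' ^ 2 * y ^ 2 := by rw [hxy]
          _ = _ := by ring
      · calc (b ^ 2 * c) ^ 3 = (b ^ 3) ^ 2 * c ^ 3 := by ring
          _ = (t ^ 3 * y) ^ 2 * (t' ^ 3 * y) := by rw [hb3, hc3]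
          _ = _ := by ring
    have h3 : b * c ^ 2 = t * t' ^ 2 * y := by
      apply eq_of_sq_eq_of_cube_eq_of_isReduced
      · calc (b * c ^ 2) ^ 2 = b ^ 2 * (c ^ 2) ^ 2 := by ring
          _ = (t ^ 2 * x) * (t' ^ 2 * x) ^ 2 := by rw [hb2, hc2]
          _ = t ^ 2 * t' ^ 4 * x ^ 3 := by ring
          _ = t ^ 2 * t' ^ 4 * y ^ 2 := by rw [hxy]
          _ = _ := by ring
      · calc (b * c ^ 2) ^ 3 = b ^ 3 * (c ^ 3) ^ 2 := by ring
          _ = (t ^ 3 * y) * (t' ^ 3 * y) ^ 2 := by rw [hb3, hc3]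
          _ = _ := by ring
    refine ⟨b + c, ?_, ?_⟩
    · linear_combination hb2 + hc2 + 2 * h1
    · linear_combination hb3 + hc3 + 3 * h2 + 3 * h3
  smul_mem' := by
    rintro r t ⟨b, hb2, hb3⟩
    refine ⟨r * b, ?_, ?_⟩
    · rw [smul_eq_mul, mul_pow, hb2]
      ring
    · rw [smul_eq_mul, mul_pow, hb3]
      ring

theorem pow_mem_J_of_away [IsReduced A] (x y : A) (hxy : x ^ 3 = y ^ 2) (f : A)
    (a : Localization.Away f) (ha2 : algebraMap A _ x = a ^ 2) (ha3 : algebraMap A _ y = a ^ 3) :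
    ∃ K : ℕ, f ^ K ∈ J x y hxy := by
  obtain ⟨n, b₀, hb₀⟩ := IsLocalization.Away.surj f a
  have e2 : algebraMap A (Localization.Away f) (b₀ ^ 2) =
      algebraMap A (Localization.Away f) (x * f ^ (2 * n)) := by
    rw [map_pow, ← hb₀, map_mul, ha2, map_pow]
    ring
  have e3 : algebraMap A (Localization.Away f) (b₀ ^ 3) =
      algebraMap A (Localization.Away f) (y * f ^ (3 * n)) := by
    rw [map_pow, ← hb₀, map_mul, ha3, map_pow]
    ring
  obtain ⟨N₁, hN₁⟩ := IsLocalization.Away.exists_of_eq f e2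
  obtain ⟨N₂, hN₂⟩ := IsLocalization.Away.exists_of_eq f e3
  refine ⟨N₁ + N₂ + n, f ^ (N₁ + N₂) * b₀, ?_, ?_⟩
  · have := pow_mul_eq_of_le hN₁ (show N₁ ≤ 2 * (N₁ + N₂) by omega)
    calc (f ^ (N₁ + N₂) * b₀) ^ 2 = f ^ (2 * (N₁ + N₂)) * b₀ ^ 2 := by ring
      _ = f ^ (2 * (N₁ + N₂)) * (x * f ^ (2 * n)) := this
      _ = _ := by ring
  · have := pow_mul_eq_of_le hN₂ (show N₂ ≤ 3 * (N₁ + N₂) by omega)
    calc (f ^ (N₁ + N₂) * b₀) ^ 3 = f ^ (3 * (N₁ + N₂)) * b₀ ^ 3 := by ring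
      _ = f ^ (3 * (N₁ + N₂)) * (y * f ^ (3 * n)) := this
      _ = _ := by ring

theorem exists_sq_cube_of_span [IsReduced A] (s : Finset A) (hs : Ideal.span (s : Set A) = ⊤)
    (h : ∀ f ∈ s, ∀ x y : Localization.Away f, x ^ 3 = y ^ 2 → ∃ a, x = a ^ 2 ∧ y = a ^ 3)
    (x y : A) (hxy : x ^ 3 = y ^ 2) : ∃ a : A, x = a ^ 2 ∧ y = a ^ 3 := by
  have hJ : J x y hxy = ⊤ := ideal_eq_top_of_forall_pow_mem _ s hs (fun f hf => by
    obtain ⟨a, ha2, ha3⟩ := h f hf (algebraMap A _ x) (algebraMap A _ y)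
      (by rw [← map_pow, ← map_pow, hxy])
    exact pow_mem_J_of_away x y hxy f a ha2 ha3)
  obtain ⟨b, hb2, hb3⟩ : (1 : A) ∈ J x y hxy := hJ ▸ Submodule.mem_top
  exact ⟨b, by rw [hb2]; ring, by rw [hb3]; ring⟩

/-- The ideal of `t` such that `(t^p x, t y)` has a "root". -/
def Jp [IsReduced A] (p : ℕ) (hp : p.Prime) (x y : A) (hxy : (p : A) ^ p * x = y ^ p) :
    Ideal A where
  carrier := {t | ∃ b : A, b ^ p = t ^ p * x ∧ (p : A) * b = t * y}
  zero_mem' := ⟨0, by rw [zero_pow hp.ne_zero, zero_mul], by ring⟩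
  add_mem' := by
    rintro t t' ⟨b, hbp, hb1⟩ ⟨c, hcp, hc1⟩
    have key : ∀ m ≤ p, b ^ m * c ^ (p - m) = t ^ m * t' ^ (p - m) * x := by
      intro m hm
      apply eq_of_pow_mul_eq_of_pow_eq hp p
      · calc (p : A) ^ p * (b ^ m * c ^ (p - m))
            = ((p : A) ^ m * (p : A) ^ (p - m)) * (b ^ m * c ^ (p - m)) := by
              rw [← pow_add, Nat.add_sub_cancel' hm]
          _ = ((p : A) * b) ^ m * ((p : A) * c) ^ (p - m) := by ring
          _ = (t * y) ^ m * (t' * y) ^ (p - m) := by rw [hb1, hc1]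
          _ = t ^ m * t' ^ (p - m) * (y ^ m * y ^ (p - m)) := by ring
          _ = t ^ m * t' ^ (p - m) * y ^ p := by rw [← pow_add, Nat.add_sub_cancel' hm]
          _ = t ^ m * t' ^ (p - m) * ((p : A) ^ p * x) := by rw [hxy]
          _ = _ := by ring
      · calc (b ^ m * c ^ (p - m)) ^ p = (b ^ p) ^ m * (c ^ p) ^ (p - m) := by ring
          _ = (t ^ p * x) ^ m * (t' ^ p * x) ^ (p - m) := by rw [hbp, hcp]
          _ = (t ^ m * t' ^ (p - m)) ^ p * (x ^ m * x ^ (p - m)) := by ring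
          _ = (t ^ m * t' ^ (p - m)) ^ p * x ^ p := by rw [← pow_add, Nat.add_sub_cancel' hm]
          _ = _ := by ring
    refine ⟨b + c, ?_, ?_⟩
    · rw [add_pow, add_pow, Finset.sum_mul]
      apply Finset.sum_congr rfl
      intro m hm
      rw [key m (Nat.lt_succ_iff.mp (Finset.mem_range.mp hm))]
      ring
    · rw [mul_add, hb1, hc1]
      ring
  smul_mem' := by
    rintro r t ⟨b, hbp, hb1⟩
    refine ⟨r * b, ?_, ?_⟩
    · rw [smul_eq_mul, mul_pow, hbp]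
      ring
    · rw [smul_eq_mul, mul_left_comm, hb1]
      ring

theorem pow_mem_Jp_of_away [IsReduced A] (p : ℕ) (hp : p.Prime) (x y : A)
    (hxy : (p : A) ^ p * x = y ^ p) (f : A)
    (a : Localization.Away f) (ha1 : algebraMap A _ x = a ^ p)
    (ha2 : algebraMap A _ y = (p : Localization.Away f) * a) :
    ∃ K : ℕ, f ^ K ∈ Jp p hp x y hxy := by
  obtain ⟨n, b₀, hb₀⟩ := IsLocalization.Away.surj f a
  have e2 : algebraMap A (Localization.Away f) (b₀ ^ p) =
      algebraMap A (Localization.Away f) (x * f ^ (p * n)) := by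
    rw [map_pow, ← hb₀, map_mul, ha1, map_pow]
    ring
  have e3 : algebraMap A (Localization.Away f) ((p : A) * b₀) =
      algebraMap A (Localization.Away f) (y * f ^ n) := by
    rw [map_mul, map_natCast, ← hb₀, map_mul, ha2, map_pow]
    ring
  obtain ⟨N₁, hN₁⟩ := IsLocalization.Away.exists_of_eq f e2
  obtain ⟨N₂, hN₂⟩ := IsLocalization.Away.exists_of_eq f e3
  refine ⟨N₁ + N₂ + n, f ^ (N₁ + N₂) * b₀, ?_, ?_⟩
  · have hle : N₁ ≤ p * (N₁ + N₂) :=
      le_trans (Nat.le_add_right N₁ N₂) (Nat.le_mul_of_pos_left _ hp.pos)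
    have := pow_mul_eq_of_le hN₁ hle
    calc (f ^ (N₁ + N₂) * b₀) ^ p = f ^ (p * (N₁ + N₂)) * b₀ ^ p := by ring
      _ = f ^ (p * (N₁ + N₂)) * (x * f ^ (p * n)) := this
      _ = _ := by ring
  · have := pow_mul_eq_of_le hN₂ (show N₂ ≤ N₁ + N₂ by omega)
    calc (p : A) * (f ^ (N₁ + N₂) * b₀) = f ^ (N₁ + N₂) * ((p : A) * b₀) := by ring
      _ = f ^ (N₁ + N₂) * (y * f ^ n) := this
      _ = _ := by ring

theorem exists_pclause_of_span [IsReduced A] (s : Finset A) (hs : Ideal.span (s : Set A) = ⊤)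
    (p : ℕ) (hp : p.Prime)
    (h : ∀ f ∈ s, ∀ x y : Localization.Away f, (p : Localization.Away f) ^ p * x = y ^ p →
      ∃ a, x = a ^ p ∧ y = (p : Localization.Away f) * a)
    (x y : A) (hxy : (p : A) ^ p * x = y ^ p) : ∃ a : A, x = a ^ p ∧ y = (p : A) * a := by
  have hJ : Jp p hp x y hxy = ⊤ := ideal_eq_top_of_forall_pow_mem _ s hs (fun f hf => by
    obtain ⟨a, ha1, ha2⟩ := h f hf (algebraMap A _ x) (algebraMap A _ y)
      (by rw [← map_pow, ← hxy, map_mul, map_pow, map_natCast])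
    exact pow_mem_Jp_of_away p hp x y hxy f a ha1 ha2)
  obtain ⟨b, hb1, hb2⟩ : (1 : A) ∈ Jp p hp x y hxy := hJ ▸ Submodule.mem_top
  exact ⟨b, by rw [hb1]; ring, by rw [hb2]; ring⟩

end glue

section main

theorem isSeminormalRing_away {A : Type u} [CommRing A] (f : A) (S : Type u) [CommRing S]
    [Algebra A S] [IsLocalization.Away f S]
    (h : HTop.IsSeminormalRing A) : HTop.IsSeminormalRing S := by
  rw [isSeminormalRing_iff] at h ⊢
  obtain ⟨hred, h1⟩ := h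
  exact ⟨isReduced_localizationPreserves (Submonoid.powers f) S hred,
    exists_sq_cube_away f h1⟩

theorem isAWNRing_away {A : Type u} [CommRing A] (f : A) (S : Type u) [CommRing S]
    [Algebra A S] [IsLocalization.Away f S]
    (h : HTop.IsAWNRing A) : HTop.IsAWNRing S := by
  rw [isAWNRing_iff] at h ⊢
  obtain ⟨hred, h1, h2⟩ := h
  exact ⟨isReduced_localizationPreserves (Submonoid.powers f) S hred,
    exists_sq_cube_away f h1, fun p hp => exists_pclause_away f p hp (h2 p hp)⟩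

theorem isSeminormalRing_of_span {A : Type u} [CommRing A] (s : Finset A)
    (hs : Ideal.span (s : Set A) = ⊤)
    (h : ∀ f ∈ s, HTop.IsSeminormalRing (Localization.Away f)) : HTop.IsSeminormalRing A := by
  haveI : IsReduced A := isReduced_of_span s hs (fun f hf => isReduced_of_isSeminormalRing (h f hf))
  rw [isSeminormalRing_iff]
  exact ⟨inferInstance, exists_sq_cube_of_span s hs
    (fun f hf => (isSeminormalRing_iff.mp (h f hf)).2)⟩

theorem isAWNRing_of_span {A : Type u} [CommRing A] (s : Finset A)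
    (hs : Ideal.span (s : Set A) = ⊤)
    (h : ∀ f ∈ s, HTop.IsAWNRing (Localization.Away f)) : HTop.IsAWNRing A := by
  haveI : IsReduced A := isReduced_of_span s hs (fun f hf => isReduced_of_isAWNRing (h f hf))
  rw [isAWNRing_iff]
  exact ⟨inferInstance, exists_sq_cube_of_span s hs
    (fun f hf => (isAWNRing_iff.mp (h f hf)).2.1),
    fun p hp => exists_pclause_of_span s hs p hp
      (fun f hf => (isAWNRing_iff.mp (h f hf)).2.2 p hp)⟩

theorem isSeminormalRing_of_ringEquiv {R S : Type u} [CommRing R] [CommRing S] (e : R ≃+* S)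
    (h : HTop.IsSeminormalRing R) : HTop.IsSeminormalRing S := by
  intro x y hxy
  obtain ⟨a, ⟨h1, h2⟩, h3⟩ := h (e.symm x) (e.symm y) (by rw [← map_pow, ← map_pow, hxy])
  refine ⟨e a, ⟨?_, ?_⟩, ?_⟩
  · rw [← map_pow, ← h1, e.apply_symm_apply]
  · rw [← map_pow, ← h2, e.apply_symm_apply]
  · rintro b ⟨hb1, hb2⟩
    rw [← h3 (e.symm b) ⟨by rw [hb1, map_pow], by rw [hb2, map_pow]⟩, e.apply_symm_apply]

end main

end Groth.Agent.Lib.Helper9.SNLocal
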