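import Mathlib
import Groth.Agent.Lib.Helper9.AWN2
import Groth.Agent.Lib.Helper9.SNLocal

set_option autoImplicit false
set_option linter.style.haveILetI false
universe u
open CategoryTheory AlgebraicGeometry TensorProduct

namespace Groth.Agent.Lib.Helper9.AWN3

open Groth.Agent.Lib.Helper9.UnivHomeoRing

variable {A A' B W W' : Type u} [CommRing A] [CommRing A'] [CommRing B] [CommRing W] [CommRing W']

/-- Base change of a ring map inducing a universal homeomorphism. -/
theorem isUnivHomeo_includeRight [Algebra A B] [Algebra A A']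
    (hψ : FlatMor.IsUnivHomeo (Spec.map (CommRingCat.ofHom (algebraMap A B)))) :
    FlatMor.IsUnivHomeo (Spec.map (CommRingCat.ofHom
      (Algebra.TensorProduct.includeRight.toRingHom : A' →+* B ⊗[A] A'))) := by
  have hpo := CommRingCat.isPushout_tensorProduct A B A'
  have hpb := isPullback_SpecMap_of_isPushout _ _ _ _ hpo
  haveI : (FlatMor.IsUnivHomeo.{u}).IsStableUnderBaseChange :=
    MorphismProperty.universally_isStableUnderBaseChange _
  exact MorphismProperty.of_isPullback (P := FlatMor.IsUnivHomeo) hpb hψ

/-- Maps out of a universal homeomorphism into an absolute weak normalization over a base ring map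
exist uniquely. -/
theorem existsUnique_of_isUnivHomeo (ψ : A →+* B)
    (hψ : FlatMor.IsUnivHomeo (Spec.map (CommRingCat.ofHom ψ))) (g : A →+* A') (φ' : A' →+* W')
    (hφ' : HTop.IsRingAWN φ') : ∃! m : B →+* W', m.comp ψ = φ'.comp g := by
  letI := ψ.toAlgebra
  letI := g.toAlgebra
  letI : Algebra A W' := (φ'.comp g).toAlgebra
  letI : Algebra A' W' := φ'.toAlgebra
  haveI : IsScalarTower A A' W' := .of_algebraMap_eq' rfl
  have hR : FlatMor.IsUnivHomeo (Spec.map (CommRingCat.ofHom
      (Algebra.TensorProduct.includeRight.toRingHom : A' →+* B ⊗[A] A'))) :=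
    isUnivHomeo_includeRight (A := A) (B := B) (A' := A') hψ
  obtain ⟨χ, hχ, hχu⟩ := hφ'.2 (B ⊗[A] A') _ hR
  refine ⟨χ.comp Algebra.TensorProduct.includeLeftRingHom, ?_, ?_⟩
  · ext a
    have h1 : (Algebra.TensorProduct.includeLeftRingHom : B →+* B ⊗[A] A') (ψ a) =
        (Algebra.TensorProduct.includeRight.toRingHom : A' →+* B ⊗[A] A') (g a) := by
      change (algebraMap A B a) ⊗ₜ[A] (1 : A') = (1 : B) ⊗ₜ[A] (algebraMap A A' a)
      rw [Algebra.algebraMap_eq_smul_one, Algebra.algebraMap_eq_smul_one, TensorProduct.smul_tmul]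
    change χ (Algebra.TensorProduct.includeLeftRingHom (ψ a)) = φ' (g a)
    rw [h1, ← hχ]
    rfl
  · intro m hm
    let mA : B →ₐ[A] W' := { m with commutes' := fun a => congrArg (fun θ => θ a) hm }
    let φA : A' →ₐ[A] W' := { φ' with commutes' := fun a => rfl }
    have h2 : (Algebra.TensorProduct.productMap mA φA).toRingHom = χ := by
      apply hχu
      ext a'
      change Algebra.TensorProduct.productMap mA φA ((1 : B) ⊗ₜ[A] a') = φ' a'
      rw [Algebra.TensorProduct.productMap_apply_tmul]
      change m 1 * φ' a' = φ' a'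
      rw [map_one, one_mul]
    rw [← h2]
    ext b
    change m b = Algebra.TensorProduct.productMap mA φA (b ⊗ₜ[A] (1 : A'))
    rw [Algebra.TensorProduct.productMap_apply_tmul]
    change m b = m b * φ' 1
    rw [map_one, mul_one]

/-- Localization of a ring map inducing a universal homeomorphism. -/
theorem isUnivHomeo_localization_away (φ : A →+* W)
    (hφ : FlatMor.IsUnivHomeo (Spec.map (CommRingCat.ofHom φ))) (r : A)
    [Algebra A A'] [IsLocalization.Away r A'] (Wr : Type u) [CommRing Wr] [Algebra W Wr]
    [IsLocalization.Away (φ r) Wr] (ψ : A' →+* Wr)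
    (hψ : ψ.comp (algebraMap A A') = (algebraMap W Wr).comp φ) :
    FlatMor.IsUnivHomeo (Spec.map (CommRingCat.ofHom ψ)) := by
  letI := φ.toAlgebra
  letI : Algebra A' Wr := ψ.toAlgebra
  letI : Algebra A Wr := ((algebraMap W Wr).comp φ).toAlgebra
  haveI : IsScalarTower A W Wr := .of_algebraMap_eq' rfl
  haveI : IsScalarTower A A' Wr := .of_algebraMap_eq' hψ.symm
  haveI : IsLocalization (Algebra.algebraMapSubmonoid W (Submonoid.powers r)) Wr := by
    have : Algebra.algebraMapSubmonoid W (Submonoid.powers r) = Submonoid.powers (φ r) := by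
      rw [Algebra.algebraMapSubmonoid, Submonoid.map_powers]
      rfl
    rw [this]
    infer_instance
  have hpush : Algebra.IsPushout A W A' Wr :=
    (Algebra.isLocalization_iff_isPushout (Submonoid.powers r) A').1 inferInstance
  have hpo := CommRingCat.isPushout_of_isPushout A W A' Wr
  have hpb := isPullback_SpecMap_of_isPushout _ _ _ _ hpo
  haveI : (FlatMor.IsUnivHomeo.{u}).IsStableUnderBaseChange :=
    MorphismProperty.universally_isStableUnderBaseChange _
  exact MorphismProperty.of_isPullback (P := FlatMor.IsUnivHomeo) hpb hφ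

/-- The absolute weak normalization commutes with localization away from an element. -/
theorem isLocalization_away_of_isRingAWN (φ : A →+* W) (hφ : HTop.IsRingAWN φ) (r : A)
    [Algebra A A'] [IsLocalization.Away r A'] (φ' : A' →+* W') (hφ' : HTop.IsRingAWN φ')
    (m : W →+* W') (hm : m.comp φ = φ'.comp (algebraMap A A')) :
    letI := m.toAlgebra
    IsLocalization.Away (φ r) W' := by
  letI := m.toAlgebra
  have hunit : IsUnit (((algebraMap W (Localization.Away (φ r))).comp φ) r) :=
    IsLocalization.Away.algebraMap_isUnit (φ r)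
  let ψ : A' →+* Localization.Away (φ r) := IsLocalization.Away.lift r hunit
  have hψ : ψ.comp (algebraMap A A') = (algebraMap W (Localization.Away (φ r))).comp φ :=
    IsLocalization.Away.lift_comp r hunit
  have hψu := isUnivHomeo_localization_away φ hφ.1 r (Localization.Away (φ r)) ψ hψ
  have hWr : HTop.IsAWNRing (Localization.Away (φ r)) :=
    SNLocal.isAWNRing_away (φ r) _ (IsRingAWN.isAWNRing φ hφ)
  obtain ⟨χ, hχ, -⟩ := hφ'.2 (Localization.Away (φ r)) ψ hψu
  have hbij := bijective_of_isAWNRing φ' hφ' ψ hψu χ hχ hWr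
  have hm' : m = χ.comp (algebraMap W (Localization.Away (φ r))) := by
    obtain ⟨m₀, -, hu⟩ := existsUnique_of_isUnivHomeo φ hφ.1 (algebraMap A A') φ' hφ'
    have h2 : (χ.comp (algebraMap W (Localization.Away (φ r)))).comp φ =
        φ'.comp (algebraMap A A') := by
      rw [RingHom.comp_assoc, ← hψ, ← RingHom.comp_assoc, hχ]
    rw [hu m hm, hu _ h2]
  let e : Localization.Away (φ r) ≃ₐ[W] W' :=
    { RingEquiv.ofBijective χ hbij with
      commutes' := fun w => by
        change χ (algebraMap W (Localization.Away (φ r)) w) = m w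
        rw [hm']
        rfl }
  exact IsLocalization.isLocalization_of_algEquiv (Submonoid.powers (φ r)) e

end Groth.Agent.Lib.Helper9.AWN3
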