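import Mathlib
import Groth.Agent.Lib.Helper9.AWN3
import Groth.Agent.S0415

set_option autoImplicit false
set_option linter.style.haveILetI false
universe u
open CategoryTheory AlgebraicGeometry TensorProduct Limits

namespace Groth.Agent.Lib.Helper9.AWN4

open Groth.Agent.Lib.Helper9.UnivHomeoRing Groth.Agent.Lib.Helper9.AWN3

section ring
variable {A A' A'' : Type u} [CommRing A] [CommRing A'] [CommRing A'']

theorem existsUnique_awnMap (g : A →+* A') :
    ∃! m : AWN A →+* AWN A', m.comp (algebraMap A (AWN A)) = (algebraMap A' (AWN A')).comp g :=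
  existsUnique_of_isUnivHomeo (algebraMap A (AWN A)) (isUnivHomeo_AWN A) g
    (algebraMap A' (AWN A')) (isRingAWN_AWN A')

/-- functoriality of the absolute weak normalization -/
noncomputable def awnMap (g : A →+* A') : AWN A →+* AWN A' := (existsUnique_awnMap g).exists.choose

theorem awnMap_comp_algebraMap (g : A →+* A') :
    (awnMap g).comp (algebraMap A (AWN A)) = (algebraMap A' (AWN A')).comp g :=
  (existsUnique_awnMap g).exists.choose_spec

theorem awnMap_unique (g : A →+* A') (m : AWN A →+* AWN A')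
    (hm : m.comp (algebraMap A (AWN A)) = (algebraMap A' (AWN A')).comp g) : m = awnMap g :=
  (existsUnique_awnMap g).unique hm (awnMap_comp_algebraMap g)

theorem awnMap_id : awnMap (RingHom.id A) = RingHom.id (AWN A) :=
  (awnMap_unique _ _ (by rw [RingHom.id_comp, RingHom.comp_id])).symm

theorem awnMap_comp (g : A →+* A') (g' : A' →+* A'') :
    awnMap (g'.comp g) = (awnMap g').comp (awnMap g) := by
  symm
  apply awnMap_unique
  rw [RingHom.comp_assoc, awnMap_comp_algebraMap, ← RingHom.comp_assoc, awnMap_comp_algebraMap,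
    RingHom.comp_assoc]

end ring

/-- the functor `A ↦ A^awn` -/
noncomputable def awnFunctor : CommRingCat.{u} ⥤ CommRingCat.{u} where
  obj A := .of (AWN A)
  map g := CommRingCat.ofHom (awnMap g.hom)
  map_id A := by
    change CommRingCat.ofHom (awnMap (RingHom.id A)) = _
    rw [awnMap_id]; rfl
  map_comp g g' := by
    change CommRingCat.ofHom (awnMap (g'.hom.comp g.hom)) = _
    rw [awnMap_comp]; rfl

/-- the natural map `A ⟶ A^awn` -/
noncomputable def awnNat : 𝟭 CommRingCat.{u} ⟶ awnFunctor where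
  app A := CommRingCat.ofHom (algebraMap A (AWN A))
  naturality A A' g := by
    ext x
    exact (congrArg (fun θ => θ x) (awnMap_comp_algebraMap g.hom)).symm

variable (X : Scheme.{u})

open Scheme.AffineZariskiSite

/-- the presheaf of absolute weak normalizations on the affine Zariski site -/
noncomputable def awnDiagram : X.AffineZariskiSiteᵒᵖ ⥤ CommRingCat.{u} :=
  ((toOpensFunctor X).op ⋙ X.presheaf) ⋙ awnFunctor

noncomputable def awnDiagramMap : (toOpensFunctor X).op ⋙ X.presheaf ⟶ awnDiagram X where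
  app _ := awnNat.app _
  naturality _ _ _ := awnNat.naturality _

theorem coequifibered_awnDiagramMap : (awnDiagramMap X).Coequifibered := by
  refine coequifibered_iff_forall_isLocalizationAway.mpr fun U r => ?_
  letI : Algebra Γ(X, U.1) Γ(X, X.basicOpen r) :=
    (X.presheaf.map (homOfLE (X.basicOpen_le r)).op).hom.toAlgebra
  haveI : IsLocalization.Away r Γ(X, X.basicOpen r) := U.2.isLocalization_basicOpen r
  exact isLocalization_away_of_isRingAWN (algebraMap Γ(X, U.1) (AWN Γ(X, U.1)))
    (isRingAWN_AWN _) r (A' := Γ(X, X.basicOpen r))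
    (algebraMap Γ(X, X.basicOpen r) (AWN Γ(X, X.basicOpen r))) (isRingAWN_AWN _)
    (awnMap (X.presheaf.map (homOfLE (X.basicOpen_le r)).op).hom)
    (awnMap_comp_algebraMap _)

/-- The relative gluing data for the absolute weak normalization. -/
noncomputable def awnGlueData := relativeGluingData (coequifibered_awnDiagramMap X)

instance : ((awnGlueData X).functor ⋙ Scheme.forget).IsLocallyDirected :=
  Scheme.Cover.RelativeGluingData.instIsLocallyDirectedI₀CompFunctorForgetOfIsThin ..

/-- The absolute weak normalization of a scheme. -/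
noncomputable def awn : Scheme.{u} := (awnGlueData X).glued

/-- The open cover of `awn X` by the spectra of `AWN Γ(X, U)`. -/
noncomputable def awnOpenCover : (awn X).OpenCover := (awnGlueData X).cover

/-- The structure morphism. -/
noncomputable def fromAwn : awn X ⟶ X := (awnGlueData X).toBase

theorem ι_fromAwn (U : X.affineOpens) :
    (awnOpenCover X).f U ≫ fromAwn X =
      Spec.map ((awnDiagramMap X).app (.op U)) ≫ U.2.fromSpec :=
  colimit.ι_desc _ _

theorem fromAwn_preimage (U : X.affineOpens) :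
    fromAwn X ⁻¹ᵁ U = ((awnOpenCover X).f U).opensRange := by
  simpa using! (awnGlueData X).toBase_preimage_eq_opensRange_ι U

instance isUnivHomeo_respectsIso : (FlatMor.IsUnivHomeo.{u}).RespectsIso :=
  MorphismProperty.universally_respectsIso _

instance isUnivHomeo_isZariskiLocalAtTarget : IsZariskiLocalAtTarget FlatMor.IsUnivHomeo.{u} := by
  apply universally_isZariskiLocalAtTarget
  intro X Y f ι U hU H
  simp_rw [topologically, morphismRestrict_base] at H
  exact (hU.isHomeomorph_iff_restrictPreimage f.continuous).mpr H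

theorem isUnivHomeo_fromAwn : FlatMor.IsUnivHomeo (fromAwn X) := by
  rw [IsZariskiLocalAtTarget.iff_of_iSup_eq_top (P := FlatMor.IsUnivHomeo) _
    (iSup_affineOpens_eq_top _)]
  intro U
  let e := IsOpenImmersion.isoOfRangeEq (fromAwn X ⁻¹ᵁ U).ι ((awnOpenCover X).f U)
      (by simpa using congr($(fromAwn_preimage X U).1))
  rw [← MorphismProperty.cancel_left_of_respectsIso FlatMor.IsUnivHomeo e.inv,
    ← MorphismProperty.cancel_right_of_respectsIso FlatMor.IsUnivHomeo _ U.2.isoSpec.hom]
  convert! isUnivHomeo_AWN Γ(X, U)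
  rw [← cancel_mono U.2.fromSpec]
  simp [IsAffineOpen.isoSpec_hom, e, ι_fromAwn]
  rfl

theorem restrict_isoSpec {Z X : Scheme.{u}} (π : Z ⟶ X) (U : X.Opens) (hU : IsAffineOpen U)
    (hU' : IsAffineOpen (π ⁻¹ᵁ U)) :
    hU'.isoSpec.hom ≫ Spec.map (π.app U) = (π ∣_ U) ≫ hU.isoSpec.hom := by
  simp [IsAffineOpen.isoSpec_hom]

theorem isUnivHomeo_SpecMap_app {Z X : Scheme.{u}} (π : Z ⟶ X) (hπ : FlatMor.IsUnivHomeo π)
    (U : X.Opens) (hU : IsAffineOpen U) (hU' : IsAffineOpen (π ⁻¹ᵁ U)) :
    FlatMor.IsUnivHomeo (Spec.map (π.app U)) := by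
  have h1 : FlatMor.IsUnivHomeo (π ∣_ U) := IsZariskiLocalAtTarget.restrict hπ U
  have h2 : Arrow.mk (π ∣_ U) ≅ Arrow.mk (Spec.map (π.app U)) :=
    Arrow.isoMk hU'.isoSpec hU.isoSpec (restrict_isoSpec π U hU hU')
  exact (MorphismProperty.arrow_mk_iso_iff _ h2).1 h1

section desc

variable {X} {Z : Scheme.{u}} (π : Z ⟶ X) (hπ : FlatMor.IsUnivHomeo π)

include hπ in
theorem isAffineHom_of_isUnivHomeo : IsAffineHom π := by
  have := ((Groth.Agent.S0415.result π).1 hπ).1
  infer_instance

include hπ in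
theorem existsUnique_awnDescRing (U : X.affineOpens) :
    ∃! χ : Γ(Z, π ⁻¹ᵁ U.1) →+* AWN Γ(X, U.1),
      χ.comp (π.app U.1).hom = algebraMap Γ(X, U.1) (AWN Γ(X, U.1)) := by
  have := isAffineHom_of_isUnivHomeo π hπ
  exact (isRingAWN_AWN Γ(X, U.1)).2 Γ(Z, π ⁻¹ᵁ U.1) (π.app U.1).hom
    (isUnivHomeo_SpecMap_app π hπ U.1 U.2 (U.2.preimage π))

/-- the ring map `Γ(Z, π⁻¹U) ⟶ AWN Γ(X, U)` -/
noncomputable def awnDescRing (U : X.affineOpens) : Γ(Z, π ⁻¹ᵁ U.1) ⟶ .of (AWN Γ(X, U.1)) :=
  CommRingCat.ofHom (existsUnique_awnDescRing π hπ U).exists.choose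

theorem app_awnDescRing (U : X.affineOpens) :
    π.app U.1 ≫ awnDescRing π hπ U = (awnDiagramMap X).app (.op U) := by
  apply CommRingCat.hom_ext
  exact (existsUnique_awnDescRing π hπ U).exists.choose_spec

theorem awnDescRing_unique (U : X.affineOpens) (θ : Γ(Z, π ⁻¹ᵁ U.1) ⟶ .of (AWN Γ(X, U.1)))
    (hθ : π.app U.1 ≫ θ = (awnDiagramMap X).app (.op U)) : θ = awnDescRing π hπ U := by
  have h1 : θ.hom.comp (π.app U.1).hom = algebraMap Γ(X, U.1) (AWN Γ(X, U.1)) :=
    congrArg CommRingCat.Hom.hom hθ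
  have := (existsUnique_awnDescRing π hπ U).unique h1
    (existsUnique_awnDescRing π hπ U).exists.choose_spec
  exact CommRingCat.hom_ext this

end desc

end Groth.Agent.Lib.Helper9.AWN4
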