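import Mathlib
import Groth.Agent.Lib.Helper9.AWN4

set_option autoImplicit false
set_option linter.style.haveILetI false
universe u
open CategoryTheory AlgebraicGeometry TensorProduct Limits

namespace Groth.Agent.Lib.Helper9.AWN4

open Groth.Agent.Lib.Helper9.UnivHomeoRing Groth.Agent.Lib.Helper9.AWN3
open Scheme.AffineZariskiSite

variable {X : Scheme.{u}} {Z : Scheme.{u}} (π : Z ⟶ X) (hπ : FlatMor.IsUnivHomeo π)

/-- compatibility of the ring maps with restriction -/
theorem awnDescRing_naturality {U V : X.AffineZariskiSite} (i : U ⟶ V) :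
    awnDescRing π hπ V ≫ (awnDiagram X).map i.op =
      Z.presheaf.map (homOfLE (π.preimage_mono (toOpens_mono i.le))).op ≫ awnDescRing π hπ U := by
  have := isAffineHom_of_isUnivHomeo π hπ
  have hψ := isUnivHomeo_SpecMap_app π hπ V.1 V.2 (V.2.preimage π)
  obtain ⟨m₀, -, hu⟩ := existsUnique_of_isUnivHomeo (π.app V.1).hom hψ
    (X.presheaf.map (homOfLE (toOpens_mono i.le)).op).hom
    (algebraMap Γ(X, U.1) (AWN Γ(X, U.1))) (isRingAWN_AWN _)
  apply CommRingCat.hom_ext
  have h1 : (awnDescRing π hπ V ≫ (awnDiagram X).map i.op).hom.comp (π.app V.1).hom =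
      (algebraMap Γ(X, U.1) (AWN Γ(X, U.1))).comp
        (X.presheaf.map (homOfLE (toOpens_mono i.le)).op).hom := by
    have e1 := app_awnDescRing π hπ V
    have e2 := (awnDiagramMap X).naturality i.op
    have : π.app V.1 ≫ awnDescRing π hπ V ≫ (awnDiagram X).map i.op =
        X.presheaf.map (homOfLE (toOpens_mono i.le)).op ≫ (awnDiagramMap X).app (.op U) := by
      rw [← Category.assoc, e1]
      exact e2.symm
    exact congrArg CommRingCat.Hom.hom this
  have h2 : (Z.presheaf.map (homOfLE (π.preimage_mono (toOpens_mono i.le))).op ≫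
      awnDescRing π hπ U).hom.comp (π.app V.1).hom =
      (algebraMap Γ(X, U.1) (AWN Γ(X, U.1))).comp
        (X.presheaf.map (homOfLE (toOpens_mono i.le)).op).hom := by
    have e1 := app_awnDescRing π hπ U
    have : π.app V.1 ≫ Z.presheaf.map (homOfLE (π.preimage_mono (toOpens_mono i.le))).op ≫
        awnDescRing π hπ U =
        X.presheaf.map (homOfLE (toOpens_mono i.le)).op ≫ (awnDiagramMap X).app (.op U) := by
      have e3 := π.naturality (homOfLE (toOpens_mono i.le)).op
      calc π.app V.1 ≫ Z.presheaf.map (homOfLE (π.preimage_mono (toOpens_mono i.le))).op ≫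
            awnDescRing π hπ U
          = (π.app V.1 ≫ Z.presheaf.map (homOfLE (π.preimage_mono (toOpens_mono i.le))).op) ≫
            awnDescRing π hπ U := (Category.assoc _ _ _).symm
        _ = (X.presheaf.map (homOfLE (toOpens_mono i.le)).op ≫ π.app U.1) ≫
            awnDescRing π hπ U := congrArg (· ≫ awnDescRing π hπ U) e3.symm
        _ = X.presheaf.map (homOfLE (toOpens_mono i.le)).op ≫ π.app U.1 ≫
            awnDescRing π hπ U := Category.assoc _ _ _
        _ = _ := congrArg (X.presheaf.map (homOfLE (toOpens_mono i.le)).op ≫ ·) e1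
    exact congrArg CommRingCat.Hom.hom this
  exact (hu _ h1).trans (hu _ h2).symm

/-- the induced morphism from the absolute weak normalization to a universal homeomorphism -/
noncomputable def awnDesc : awn X ⟶ Z := by
  have := isAffineHom_of_isUnivHomeo π hπ
  refine colimit.desc (awnGlueData X).functor
    { pt := Z
      ι :=
        { app := fun U => Spec.map (awnDescRing π hπ U) ≫ (U.2.preimage π).fromSpec
          naturality := ?_ } }
  intro U V i
  dsimp [awnGlueData, relativeGluingData]
  rw [Category.comp_id, ← Spec.map_comp_assoc, ← (V.2.preimage π).map_fromSpec (U.2.preimage π)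
    (homOfLE (π.preimage_mono (toOpens_mono i.le))).op, ← Spec.map_comp_assoc]
  congr 2
  exact awnDescRing_naturality π hπ i

theorem ι_awnDesc (U : X.affineOpens) :
    haveI := isAffineHom_of_isUnivHomeo π hπ
    (awnOpenCover X).f U ≫ awnDesc π hπ =
      Spec.map (awnDescRing π hπ U) ≫ (U.2.preimage π).fromSpec :=
  colimit.ι_desc (F := (awnGlueData X).functor) _ _

set_option backward.isDefEq.respectTransparency false in
theorem ι_awnDesc_comp (U : X.affineOpens) :
    (awnOpenCover X).f U ≫ awnDesc π hπ ≫ π = (awnOpenCover X).f U ≫ fromAwn X := by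
  have := isAffineHom_of_isUnivHomeo π hπ
  rw [← Category.assoc, ι_awnDesc, ι_fromAwn, Category.assoc,
    ← IsAffineOpen.SpecMap_appLE_fromSpec π U.2 (U.2.preimage π) le_rfl, ← Spec.map_comp_assoc,
    ← Scheme.Hom.app_eq_appLE]
  congr 2
  exact app_awnDescRing π hπ U

theorem awnDesc_comp : awnDesc π hπ ≫ π = fromAwn X :=
  colimit.hom_ext fun U => ι_awnDesc_comp π hπ U

set_option backward.isDefEq.respectTransparency false in
theorem ι_comp_eq_of_comp_eq (h : awn X ⟶ Z) (hh : h ≫ π = fromAwn X) (U : X.affineOpens) :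
    (awnOpenCover X).f U ≫ h = (awnOpenCover X).f U ≫ awnDesc π hπ := by
  have := isAffineHom_of_isUnivHomeo π hπ
  rw [ι_awnDesc]
  have hk : ((awnOpenCover X).f U ≫ h) ≫ π =
      Spec.map ((awnDiagramMap X).app (.op U)) ≫ U.2.fromSpec := by
    rw [Category.assoc, hh, ι_fromAwn]
  have hrange : Set.range ((awnOpenCover X).f U ≫ h) ⊆ Set.range (U.2.preimage π).fromSpec := by
    rw [IsAffineOpen.range_fromSpec]
    rintro _ ⟨x, rfl⟩
    change π (((awnOpenCover X).f U ≫ h) x) ∈ U.1
    rw [← Scheme.Hom.comp_apply, hk, Scheme.Hom.comp_apply]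
    have : U.2.fromSpec (Spec.map ((awnDiagramMap X).app (.op U)) x) ∈ Set.range U.2.fromSpec :=
      ⟨_, rfl⟩
    rw [IsAffineOpen.range_fromSpec] at this
    exact this
  let l := IsOpenImmersion.lift (U.2.preimage π).fromSpec ((awnOpenCover X).f U ≫ h) hrange
  have hl : l ≫ (U.2.preimage π).fromSpec = (awnOpenCover X).f U ≫ h :=
    IsOpenImmersion.lift_fac _ _ _
  obtain ⟨θ, hθ⟩ := Spec.map_surjective l
  have hθ' : π.app U.1 ≫ θ = (awnDiagramMap X).app (.op U) := by
    apply Spec.map_injective
    rw [← cancel_mono U.2.fromSpec, ← hk, ← hl, Spec.map_comp, Category.assoc, hθ,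
      Scheme.Hom.app_eq_appLE, IsAffineOpen.SpecMap_appLE_fromSpec π U.2 (U.2.preimage π) le_rfl,
      Category.assoc]
  rw [← hl, ← hθ, awnDescRing_unique π hπ U θ hθ']

theorem awnDesc_unique (h : awn X ⟶ Z) (hh : h ≫ π = fromAwn X) : h = awnDesc π hπ :=
  colimit.hom_ext fun U => ι_comp_eq_of_comp_eq π hπ h hh U

/-- `fromAwn X` is an absolute weak normalization of `X`. -/
theorem isAWNormalization_fromAwn (X : Scheme.{u}) : HTop.IsAWNormalization (fromAwn X) :=
  ⟨isUnivHomeo_fromAwn X, fun _ π hπ =>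
    ⟨awnDesc π hπ, awnDesc_comp π hπ, fun h hh => awnDesc_unique π hπ h hh⟩⟩

end Groth.Agent.Lib.Helper9.AWN4
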