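import Groth.Agent.Lib.Helper9.SNLocal
import Mathlib.AlgebraicGeometry.AffineScheme

/-!
# Affine-local ring properties on schemes
-/

set_option autoImplicit false
universe u

namespace Groth.Agent.Lib.Helper9.SNLocal

open AlgebraicGeometry CategoryTheory

theorem affine_local (X : Scheme.{u}) (P : ∀ (R : Type u) [CommRing R], Prop)
    (hiso : ∀ (R S : Type u) [CommRing R] [CommRing S], (R ≃+* S) → P R → P S)
    (haway : ∀ (R : Type u) [CommRing R] (f : R), P R → P (Localization.Away f))
    (hspan : ∀ (R : Type u) [CommRing R] (s : Finset R), Ideal.span (s : Set R) = ⊤ →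
      (∀ f ∈ s, P (Localization.Away f)) → P R) :
    (∀ x : X, ∃ U : X.affineOpens, x ∈ (U : X.Opens) ∧ P Γ(X, U)) ↔
      ∀ U : X.affineOpens, P Γ(X, U) := by
  have hb : ∀ (U : X.affineOpens) (f : Γ(X, U)),
      Nonempty (Localization.Away f ≃+* Γ(X, X.affineBasicOpen f)) := fun U f => by
    haveI : IsLocalization.Away f Γ(X, X.basicOpen f) := U.2.isLocalization_basicOpen f
    exact ⟨(IsLocalization.algEquiv (Submonoid.powers f) (Localization.Away f)
      Γ(X, X.basicOpen f)).toRingEquiv⟩
  constructor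
  · intro h V
    choose U hxU hPU using h
    refine of_affine_open_cover (P := fun W => P Γ(X, W)) U ?_ V ?_ ?_ hPU
    · rw [eq_top_iff]
      intro x _
      exact TopologicalSpace.Opens.mem_iSup.mpr ⟨x, hxU x⟩
    · intro W f hW
      obtain ⟨e⟩ := hb W f
      exact hiso _ _ e (haway _ f hW)
    · intro W s hs hW
      refine hspan _ s hs (fun f hf => ?_)
      obtain ⟨e⟩ := hb W f
      exact hiso _ _ e.symm (hW ⟨f, hf⟩)
  · intro h x
    obtain ⟨U, hU, hxU, -⟩ := TopologicalSpace.Opens.isBasis_iff_nbhd.mp X.isBasis_affineOpens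
      (TopologicalSpace.Opens.mem_top x)
    exact ⟨⟨U, hU⟩, hxU, h ⟨U, hU⟩⟩

end Groth.Agent.Lib.Helper9.SNLocal
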