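import Mathlib
import Groth.Agent.Lib.Helper9.AWN5
import Groth.Agent.S0416
import Groth.Agent.S7421
import Groth.Agent.S7420

set_option autoImplicit false
set_option linter.style.haveILetI false
universe u
open CategoryTheory AlgebraicGeometry TensorProduct Limits

namespace Groth.Agent.Lib.Helper9.AWN4

open Groth.Agent.Lib.Helper9.UnivHomeoRing Groth.Agent.Lib.Helper9.AWN3
open Scheme.AffineZariskiSite

theorem isAWN_awn (X : Scheme.{u}) : HTop.IsAWN (awn X) := by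
  intro x
  obtain ⟨U, y, rfl⟩ := (awnOpenCover X).exists_eq x
  have hA : IsAffine ((awnOpenCover X).X U) := by
    change IsAffine (Spec _); infer_instance
  have hV : IsAffineOpen ((awnOpenCover X).f U ''ᵁ ⊤) :=
    (isAffineOpen_top _).image_of_isOpenImmersion ((awnOpenCover X).f U)
  refine ⟨⟨_, hV⟩, ⟨y, trivial, rfl⟩, ?_⟩
  let e : Γ(awn X, (awnOpenCover X).f U ''ᵁ ⊤) ≅ CommRingCat.of (AWN Γ(X, U.1)) :=
    ((awnOpenCover X).f U).appIso ⊤ ≪≫ Scheme.ΓSpecIso _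
  exact isAWNRing_of_ringEquiv e.commRingCatIsoToRingEquiv.symm
    (IsRingAWN.isAWNRing _ (isRingAWN_AWN Γ(X, U.1)))

theorem isAWN_of_iso {X Y : Scheme.{u}} (e : X ≅ Y) (hX : HTop.IsAWN X) : HTop.IsAWN Y := by
  intro y
  obtain ⟨U, hxU, hU⟩ := hX (e.inv y)
  have hV : IsAffineOpen (e.inv ⁻¹ᵁ U.1) := U.2.preimage_of_isIso e.inv
  refine ⟨⟨_, hV⟩, hxU, ?_⟩
  have : IsIso (e.inv.app U.1) := inferInstance
  exact isAWNRing_of_ringEquiv (asIso (e.inv.app U.1)).commRingCatIsoToRingEquiv hU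


theorem isUnivHomeo_of_isIso {X Y : Scheme.{u}} (f : X ⟶ Y) [IsIso f] : FlatMor.IsUnivHomeo f :=
  MorphismProperty.of_isIso FlatMor.IsUnivHomeo f

theorem bijective_algebraMap_AWN_of_isAWNRing (A : Type u) [CommRing A] (hA : HTop.IsAWNRing A) :
    Function.Bijective (algebraMap A (AWN A)) := by
  refine bijective_of_isAWNRing (algebraMap A (AWN A)) (isRingAWN_AWN A) (RingHom.id A) ?_
    (algebraMap A (AWN A)) (RingHom.comp_id _) hA
  have : IsIso (Spec.map (CommRingCat.ofHom (RingHom.id A))) := by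
    change IsIso (Spec.map (𝟙 (CommRingCat.of A)))
    infer_instance
  exact isUnivHomeo_of_isIso _

theorem isIso_fromAwn_of_isAWN (X : Scheme.{u}) (hX : HTop.IsAWN X) : IsIso (fromAwn X) := by
  have hΓ := (Groth.Agent.S7420.result X).2.mp hX
  change MorphismProperty.isomorphisms Scheme (fromAwn X)
  rw [IsZariskiLocalAtTarget.iff_of_iSup_eq_top (P := MorphismProperty.isomorphisms Scheme) _
    (iSup_affineOpens_eq_top _)]
  intro U
  let e := IsOpenImmersion.isoOfRangeEq (fromAwn X ⁻¹ᵁ U).ι ((awnOpenCover X).f U)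
      (by simpa using congr($(fromAwn_preimage X U).1))
  rw [← MorphismProperty.cancel_left_of_respectsIso (MorphismProperty.isomorphisms Scheme) e.inv,
    ← MorphismProperty.cancel_right_of_respectsIso (MorphismProperty.isomorphisms Scheme) _
      U.2.isoSpec.hom]
  have hbij := bijective_algebraMap_AWN_of_isAWNRing Γ(X, U) (hΓ U)
  have hiso : IsIso (CommRingCat.ofHom (algebraMap Γ(X, U) (AWN Γ(X, U)))) := by
    rw [ConcreteCategory.isIso_iff_bijective]
    exact hbij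
  have : IsIso (Spec.map (CommRingCat.ofHom (algebraMap Γ(X, U) (AWN Γ(X, U))))) := inferInstance
  convert! this
  rw [← cancel_mono U.2.fromSpec]
  simp [IsAffineOpen.isoSpec_hom, e, ι_fromAwn]
  rfl


theorem isAWNormalization_iso_comp {X'' X' X : Scheme.{u}} (e : X'' ≅ X') (ν : X' ⟶ X)
    (hν : HTop.IsAWNormalization ν) : HTop.IsAWNormalization (e.hom ≫ ν) := by
  refine ⟨(MorphismProperty.cancel_left_of_respectsIso FlatMor.IsUnivHomeo e.hom ν).mpr hν.1, ?_⟩
  intro Y π hπ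
  obtain ⟨h, hh, hu⟩ := hν.2 Y π hπ
  refine ⟨e.hom ≫ h, by simp [hh], ?_⟩
  intro h' hh'
  have := hu (e.inv ≫ h') (by simp [hh'])
  rw [← this]; simp

theorem isAWNormalization_unique {X₁ X₂ X : Scheme.{u}} (ν₁ : X₁ ⟶ X) (ν₂ : X₂ ⟶ X)
    (h₁ : HTop.IsAWNormalization ν₁) (h₂ : HTop.IsAWNormalization ν₂) :
    ∃ e : X₁ ≅ X₂, e.hom ≫ ν₂ = ν₁ := by
  obtain ⟨a, ha, -⟩ := h₁.2 X₂ ν₂ h₂.1
  obtain ⟨b, hb, -⟩ := h₂.2 X₁ ν₁ h₁.1
  have h11 := (h₁.2 X₁ ν₁ h₁.1).unique (y₁ := a ≫ b) (y₂ := 𝟙 _) (by simp [ha, hb]) (by simp)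
  have h22 := (h₂.2 X₂ ν₂ h₂.1).unique (y₁ := b ≫ a) (y₂ := 𝟙 _) (by simp [ha, hb]) (by simp)
  exact ⟨⟨a, b, h11, h22⟩, ha⟩

theorem isAWN_of_isAWNormalization {X' X : Scheme.{u}} (ν : X' ⟶ X)
    (hν : HTop.IsAWNormalization ν) : HTop.IsAWN X' := by
  obtain ⟨e, -⟩ := isAWNormalization_unique (fromAwn X) ν (isAWNormalization_fromAwn X) hν
  exact isAWN_of_iso e (isAWN_awn X)

theorem isAWN_iff_id (X : Scheme.{u}) : HTop.IsAWN X ↔ HTop.IsAWNormalization (𝟙 X) := by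
  constructor
  · intro hX
    have := isIso_fromAwn_of_isAWN X hX
    have h := isAWNormalization_iso_comp (asIso (fromAwn X)).symm (fromAwn X)
      (isAWNormalization_fromAwn X)
    simpa using h
  · exact isAWN_of_isAWNormalization _

theorem isHomeomorph_of_isUnivHomeo {Y X : Scheme.{u}} (π : Y ⟶ X) (hπ : FlatMor.IsUnivHomeo π) :
    IsHomeomorph π.base := hπ _ _ _ (IsPullback.id_vert π)

theorem isIso_of_isAWN_of_isUnivHomeo {Y X : Scheme.{u}} (hX : HTop.IsAWN X) (π : Y ⟶ X)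
    (hπ : FlatMor.IsUnivHomeo π) [AlgebraicGeometry.IsReduced Y] : IsIso π := by
  obtain ⟨s, hs, -⟩ := ((isAWN_iff_id X).mp hX).2 Y π hπ
  have : IsAffineHom π := isAffineHom_of_isUnivHomeo π hπ
  have : IsClosedImmersion (s ≫ π) := by rw [hs]; infer_instance
  have : IsClosedImmersion s := IsClosedImmersion.of_comp s π
  have hsurj : Surjective s := by
    refine ⟨fun y => ⟨π.base y, ?_⟩⟩
    apply (isHomeomorph_of_isUnivHomeo π hπ).injective
    have := congr($(hs).base (π.base y))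
    simpa using this
  have : IsIso s := isIso_of_isClosedImmersion_of_surjective s
  have : π = inv s := by
    rw [← cancel_epi s, hs]; simp
  rw [this]; infer_instance

theorem isAWN_iff_forall_isIso (X : Scheme.{u}) :
    HTop.IsAWN X ↔ ∀ (Y : Scheme.{u}) (π : Y ⟶ X), FlatMor.IsUnivHomeo π →
      AlgebraicGeometry.IsReduced Y → IsIso π := by
  constructor
  · intro hX Y π hπ hY
    exact isIso_of_isAWN_of_isUnivHomeo hX π hπ
  · intro h
    have hred : AlgebraicGeometry.IsReduced (awn X) :=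
      (Groth.Agent.S7421.result.{u}).2 _ (fun x => let ⟨U, hx, hU⟩ := isAWN_awn X x; ⟨U, hx, hU.1⟩)
    have := h _ (fromAwn X) (isUnivHomeo_fromAwn X) hred
    exact isAWN_of_iso (asIso (fromAwn X)) (isAWN_awn X)


theorem isReduced_of_isAWN {X : Scheme.{u}} (hX : HTop.IsAWN X) : AlgebraicGeometry.IsReduced X :=
  (Groth.Agent.S7421.result.{u}).2 _ (fun x => let ⟨U, hx, hU⟩ := hX x; ⟨U, hx, hU.1⟩)

theorem isIso_iff_isAWN {X X' Y : Scheme.{u}} (ν : X' ⟶ X)
    (hν : HTop.IsAWNormalization ν) (π : Y ⟶ X) (hπ : FlatMor.IsUnivHomeo π) (h : X' ⟶ Y)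
    (hh : h ≫ π = ν) : IsIso h ↔ HTop.IsAWN Y := by
  have hX' := isAWN_of_isAWNormalization ν hν
  constructor
  · intro _
    exact isAWN_of_iso (asIso h) hX'
  · intro hY
    have := isReduced_of_isAWN hX'
    exact isIso_of_isAWN_of_isUnivHomeo hY h ((Groth.Agent.S0416.result h π).2 (hh ▸ hν.1) hπ)

end Groth.Agent.Lib.Helper9.AWN4
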