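import Mathlib
import Groth.Agent.S0415
import Groth.Prelude.Def_HTop2

set_option autoImplicit false
set_option linter.style.haveILetI false
universe u
open CategoryTheory AlgebraicGeometry Limits

namespace Groth.Agent.Lib.Helper9.HomAwn

theorem isHomeomorph_of_comp_of_surjective {A B C : Type*} [TopologicalSpace A]
    [TopologicalSpace B] [TopologicalSpace C]
    (a : A → B) (b : B → C) (ha : Continuous a) (hb : Continuous b)
    (hsurj : Function.Surjective a) (hab : IsHomeomorph (b ∘ a)) : IsHomeomorph b := by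
  refine ⟨hb, ?_, ?_⟩
  · intro U hU
    have : b '' U = (b ∘ a) '' (a ⁻¹' U) := by
      rw [Set.image_comp, Set.image_preimage_eq _ hsurj]
    rw [this]
    exact hab.isOpenMap _ (hU.preimage ha)
  · refine ⟨?_, ?_⟩
    · intro x y hxy
      obtain ⟨x', rfl⟩ := hsurj x
      obtain ⟨y', rfl⟩ := hsurj y
      rw [hab.injective hxy]
    · exact Function.Surjective.of_comp hab.surjective

theorem isUnivHomeo_of_comp_of_surjective {X Y Z : Scheme.{u}} (g : X ⟶ Y) (h : Y ⟶ Z)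
    [Surjective g] (hgh : FlatMor.IsUnivHomeo (g ≫ h)) : FlatMor.IsUnivHomeo h := by
  intro Y' Z' i₁ i₂ h' hpb
  have hpb1 : IsPullback (pullback.snd g i₁) (pullback.fst g i₁) i₁ g :=
    (IsPullback.of_hasPullback g i₁).flip
  have hpb2 := hpb1.paste_horiz hpb
  have e2 : IsHomeomorph (pullback.snd g i₁ ≫ h').base := hgh _ _ _ hpb2
  change IsHomeomorph h'.base
  have hs : Surjective (pullback.snd g i₁) := inferInstance
  exact isHomeomorph_of_comp_of_surjective (pullback.snd g i₁).base h'.base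
    (pullback.snd g i₁).continuous h'.continuous hs.surj e2

/-- Key lemma: image of a universal homeomorphism in a separated lft scheme over the base. -/
theorem image_finite_univHomeo {T' T E : Scheme.{u}} (ν : T' ⟶ T) (hν : FlatMor.IsUnivHomeo ν)
    (ρ : E ⟶ T) [IsSeparated ρ] [LocallyOfFiniteType ρ] (k : T' ⟶ E) (hk : k ≫ ρ = ν) :
    Surjective k.toImage ∧ IsFinite (k.imageι ≫ ρ) ∧ FlatMor.IsUnivHomeo (k.imageι ≫ ρ) := by
  have hint : IsIntegralHom ν := ((Groth.Agent.S0415.result ν).1 hν).1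
  have hk' : IsIntegralHom (k ≫ ρ) := hk ▸ hint
  have hki : IsIntegralHom k := MorphismProperty.of_postcomp (W := @IsIntegralHom)
    (W' := @IsSeparated) k ρ inferInstance hk'
  have hti : IsIntegralHom (k.toImage ≫ k.imageι) := by simpa using hki
  have hti' : IsIntegralHom k.toImage := MorphismProperty.of_postcomp (W := @IsIntegralHom)
    (W' := @IsSeparated) k.toImage k.imageι inferInstance hti
  have hsurj : Surjective k.toImage :=
    surjective_of_isDominant_of_isClosed_range _ k.toImage.isClosedMap.isClosed_range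
  have huh : FlatMor.IsUnivHomeo (k.imageι ≫ ρ) := by
    apply isUnivHomeo_of_comp_of_surjective k.toImage
    simpa [hk] using hν
  have hint3 : IsIntegralHom (k.imageι ≫ ρ) := ((Groth.Agent.S0415.result _).1 huh).1
  refine ⟨hsurj, ?_, huh⟩
  rw [IsFinite.iff_isIntegralHom_and_locallyOfFiniteType]
  exact ⟨hint3, inferInstance⟩


theorem residueFieldsIso_of_comp_of_surjective {X Y Z : Scheme.{u}} (g : X ⟶ Y) (h : Y ⟶ Z)
    [Surjective g] (hgh : HTop.ResidueFieldsIso (g ≫ h)) : HTop.ResidueFieldsIso h := by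
  intro y
  obtain ⟨x, rfl⟩ := g.surjective y
  have h1 : IsIso ((g ≫ h).residueFieldMap x) := hgh x
  rw [Scheme.residueFieldMap_comp] at h1
  have hg : IsIso (g.residueFieldMap x) := by
    rw [ConcreteCategory.isIso_iff_bijective]
    refine ⟨(g.residueFieldMap x).hom.injective, ?_⟩
    have := ((ConcreteCategory.isIso_iff_bijective _).mp h1).2
    intro z
    obtain ⟨w, hw⟩ := this z
    exact ⟨(h.residueFieldMap (g x)).hom w, hw⟩
  have h2 : IsIso (h.residueFieldMap (g x) ≫ g.residueFieldMap x) := h1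
  exact IsIso.of_isIso_comp_right (h.residueFieldMap (g x)) (g.residueFieldMap x)

theorem factor_part1 {S X T T' : Scheme.{u}} [X.IsSeparated] (fX : X ⟶ S)
    [LocallyOfFiniteType fX] (fT : T ⟶ S)
    (ν : T' ⟶ T) (hν : FlatMor.IsUnivHomeo ν) (g : T' ⟶ X) (hg : g ≫ fX = ν ≫ fT) :
    ∃ (T₁ : Scheme.{u}) (π : T₁ ⟶ T) (_ : IsFinite π) (_ : FlatMor.IsUnivHomeo π) (g₁ : T₁ ⟶ X)
        (h : T' ⟶ T₁), Surjective h ∧ h ≫ π = ν ∧ g₁ ≫ fX = π ≫ fT ∧ h ≫ g₁ = g := by
  let k : T' ⟶ pullback fX fT := pullback.lift g ν hg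
  have hk : k ≫ pullback.snd fX fT = ν := pullback.lift_snd _ _ _
  obtain ⟨h1, h2, h3⟩ := image_finite_univHomeo ν hν (pullback.snd fX fT) k hk
  refine ⟨k.image, k.imageι ≫ pullback.snd fX fT, h2, h3, k.imageι ≫ pullback.fst fX fT,
    k.toImage, h1, ?_, ?_, ?_⟩
  · simp [hk]
  · simp [pullback.condition]
  · simp only [Scheme.Hom.toImage_imageι_assoc, k]
    exact pullback.lift_fst _ _ _

theorem factor_part2 {X T T' : Scheme.{u}} [X.IsSeparated] (ν : T' ⟶ T)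
    (hν : FlatMor.IsUnivHomeo ν)
    (T₁ T₂ : Scheme.{u}) (π₁ : T₁ ⟶ T) (π₂ : T₂ ⟶ T) [IsFinite π₁] [IsFinite π₂]
    (g₁ : T₁ ⟶ X) (g₂ : T₂ ⟶ X) (h₁ : T' ⟶ T₁) (h₂ : T' ⟶ T₂) (e₁ : h₁ ≫ π₁ = ν)
    (e₂ : h₂ ≫ π₂ = ν) (e : h₁ ≫ g₁ = h₂ ≫ g₂) :
    ∃ (T₃ : Scheme.{u}) (π₃ : T₃ ⟶ T) (_ : IsFinite π₃) (_ : FlatMor.IsUnivHomeo π₃)
      (a₁ : T₃ ⟶ T₁) (a₂ : T₃ ⟶ T₂) (h₃ : T' ⟶ T₃), Surjective h₃ ∧ h₃ ≫ π₃ = ν ∧
        a₁ ≫ π₁ = π₃ ∧ a₂ ≫ π₂ = π₃ ∧ a₁ ≫ g₁ = a₂ ≫ g₂ := by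
  let u : pullback π₁ π₂ ⟶ X := pullback.fst π₁ π₂ ≫ g₁
  let v : pullback π₁ π₂ ⟶ X := pullback.snd π₁ π₂ ≫ g₂
  let ρ : equalizer u v ⟶ T := equalizer.ι u v ≫ pullback.fst π₁ π₂ ≫ π₁
  have hρ : IsFinite ρ := by dsimp only [ρ]; infer_instance
  let k : T' ⟶ equalizer u v :=
    equalizer.lift (pullback.lift h₁ h₂ (e₁.trans e₂.symm)) (by
      simp only [u, v]
      rw [pullback.lift_fst_assoc, pullback.lift_snd_assoc, e])
  have hk : k ≫ ρ = ν := by
    simp only [k, ρ]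
    rw [equalizer.lift_ι_assoc, pullback.lift_fst_assoc, e₁]
  obtain ⟨s1, s2, s3⟩ := image_finite_univHomeo ν hν ρ k hk
  refine ⟨k.image, k.imageι ≫ ρ, s2, s3, k.imageι ≫ equalizer.ι u v ≫ pullback.fst _ _,
    k.imageι ≫ equalizer.ι u v ≫ pullback.snd _ _, k.toImage, s1, ?_, ?_, ?_, ?_⟩
  · simp [hk]
  · simp [ρ]
  · simp [ρ, pullback.condition]
  · have := equalizer.condition u v
    simp only [u, v] at this
    simp only [Category.assoc]
    rw [this]

end Groth.Agent.Lib.Helper9.HomAwn
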