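import Groth.Agent.Lib.Helper9.Towers2

/-!
# Universal homeomorphisms as towers of elementary extensions: the main theorems
-/

set_option autoImplicit false
set_option linter.style.haveILetI false
universe u
open CategoryTheory AlgebraicGeometry

namespace Groth.Agent.Lib.Helper9.Towers

open Groth.Agent.Lib.Helper9.UnivHomeoRing Groth.Agent.Lib.Helper9.Conductor

variable {A B : Type u} [CommRing A] [CommRing B] [Algebra A B]

theorem isUnivHomeo_of_WN (hinj : Function.Injective (algebraMap A B))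
    (hB : ∀ E : Finset B, ∃ l : List B,
      (↑E : Set B) ⊆ Algebra.adjoin A {b : B | b ∈ l} ∧ IsTow (A := A) stepWN l) :
    FlatMor.IsUnivHomeo (Spec.map (CommRingCat.ofHom (algebraMap A B))) := by
  rw [isUnivHomeo_SpecMap_iff']
  have hint : (algebraMap A B).IsIntegral := by
    intro b
    have : b ∈ integralClosure A B := by
      apply forall_mem_of_closed stepWN stepWN_mono hB
      intro b hb
      rcases hb with hb | ⟨p, hp, -, h2⟩
      · exact IsIntegral.of_pow (n := 2) (by norm_num) hb.1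
      · exact IsIntegral.of_pow (n := p) hp.pos h2
    exact this
  refine ⟨hint, ?_, ?_⟩
  · intro c
    haveI : Algebra.IsIntegral A B := ⟨hint⟩
    have hker : (⊥ : Ideal B).comap (algebraMap A B) ≤ c.asIdeal := by
      intro x hx
      have h0 : algebraMap A B x = 0 := hx
      rw [hinj (h0.trans (map_zero _).symm)]
      exact c.asIdeal.zero_mem
    obtain ⟨q, -, hq_prime, hq⟩ :=
      Ideal.exists_ideal_over_prime_of_isIntegral c.asIdeal (⊥ : Ideal B) hker
    exact ⟨⟨q, hq_prime⟩, PrimeSpectrum.ext hq⟩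
  · intro K _ g₁ g₂ h12
    let S : Subalgebra A B :=
      { (RingHom.eqLocus g₁ g₂) with
        algebraMap_mem' := fun a => by
          change g₁ (algebraMap A B a) = g₂ (algebraMap A B a)
          exact congrArg (fun ψ : A →+* K => ψ a) h12 }
    have hmem : ∀ b : B, b ∈ S ↔ g₁ b = g₂ b := fun b => Iff.rfl
    refine RingHom.ext fun b => (hmem b).mp ?_
    apply forall_mem_of_closed stepWN stepWN_mono hB
    intro b hb
    rw [hmem]
    rcases hb with hb | ⟨p, hp, h1, h2⟩
    · apply eq_of_sq_eq_of_cube_eq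
      · rw [← map_pow, ← map_pow]; exact (hmem _).mp hb.1
      · rw [← map_pow, ← map_pow]; exact (hmem _).mp hb.2
    · apply eq_of_mul_eq_of_pow_eq hp
      · have := (hmem _).mp h1
        rwa [map_mul, map_mul, map_natCast, map_natCast] at this
      · rw [← map_pow, ← map_pow]; exact (hmem _).mp h2

theorem resSurj_of_SN
    (hB : ∀ E : Finset B, ∃ l : List B,
      (↑E : Set B) ⊆ Algebra.adjoin A {b : B | b ∈ l} ∧ IsTow (A := A) stepSN l) :
    ResSurj (algebraMap A B) := by
  intro P _ p _ hP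
  apply surjective_of_forall_algebraMap_mem
  let S : Subalgebra A B :=
    { ((Ideal.ResidueField.map p P (algebraMap A B) hP).range.comap
        (algebraMap B P.ResidueField)) with
      algebraMap_mem' := fun a =>
        ⟨algebraMap A p.ResidueField a, Ideal.ResidueField.map_algebraMap p P _ hP a⟩ }
  have hmem : ∀ b : B, b ∈ S ↔ algebraMap B P.ResidueField b ∈
      (Ideal.ResidueField.map p P (algebraMap A B) hP).range := fun b => Iff.rfl
  intro b
  rw [← hmem]
  apply forall_mem_of_closed stepSN stepSN_mono hB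
  intro b hb
  rw [hmem]
  have h2 : algebraMap B P.ResidueField b ^ 2 ∈
      (Ideal.ResidueField.map p P (algebraMap A B) hP).fieldRange := by
    rw [← map_pow]; exact (hmem _).mp hb.1
  have h3 : algebraMap B P.ResidueField b ^ 3 ∈
      (Ideal.ResidueField.map p P (algebraMap A B) hP).fieldRange := by
    rw [← map_pow]; exact (hmem _).mp hb.2
  exact mem_of_sq_mem_of_cube_mem _ h2 h3

theorem forall_inTower_SN
    (hU : FlatMor.IsUnivHomeo (Spec.map (CommRingCat.ofHom (algebraMap A B))))
    (hres : ResSurj (algebraMap A B)) (b : B) : InTower (A := A) stepSN b := by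
  by_contra hb
  let T : Subalgebra A B := towerAlg (step := stepSN) stepSN_mono
  have hcomp : (algebraMap T B).comp (algebraMap A T) = algebraMap A B := rfl
  have hUι := isUnivHomeo_snd_of_comp (algebraMap A T) (algebraMap T B) Subtype.val_injective
    (hcomp ▸ hU)
  have hresι := resSurj_snd_of_comp (algebraMap A T) (algebraMap T B) (hcomp ▸ hres)
  have hns : ¬ Function.Surjective (algebraMap T B) := by
    intro hs
    obtain ⟨t, ht⟩ := hs b
    exact hb (ht ▸ t.2)
  have hnsc : NoSqCube (algebraMap T B) := by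
    rintro ⟨x, hx, ⟨t2, h2⟩, ⟨t3, h3⟩⟩
    apply hx
    have hxT : x ∈ T := mem_towerAlg_of_step stepSN_mono stepSN_fin ⟨h2 ▸ t2.2, h3 ▸ t3.2⟩
    exact ⟨⟨x, hxT⟩, rfl⟩
  exact false_of_resSurj hns hUι hnsc hresι

theorem forall_inTower_WN
    (hU : FlatMor.IsUnivHomeo (Spec.map (CommRingCat.ofHom (algebraMap A B)))) (b : B) :
    InTower (A := A) stepWN b := by
  by_contra hb
  let T : Subalgebra A B := towerAlg (step := stepWN) stepWN_mono
  have hcomp : (algebraMap T B).comp (algebraMap A T) = algebraMap A B := rfl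
  have hUι := isUnivHomeo_snd_of_comp (algebraMap A T) (algebraMap T B) Subtype.val_injective
    (hcomp ▸ hU)
  have hns : ¬ Function.Surjective (algebraMap T B) := by
    intro hs
    obtain ⟨t, ht⟩ := hs b
    exact hb (ht ▸ t.2)
  have hnsc : NoSqCube (algebraMap T B) := by
    rintro ⟨x, hx, ⟨t2, h2⟩, ⟨t3, h3⟩⟩
    apply hx
    have hxT : x ∈ T :=
      mem_towerAlg_of_step stepWN_mono stepWN_fin (Or.inl ⟨h2 ▸ t2.2, h3 ▸ t3.2⟩)
    exact ⟨⟨x, hxT⟩, rfl⟩
  obtain ⟨ℓ, x, hℓ, hx, ⟨t1, h1⟩, ⟨t2, h2⟩⟩ := exists_prime_elt hns hUι hnsc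
  apply hx
  have hxT : x ∈ T :=
    mem_towerAlg_of_step stepWN_mono stepWN_fin (Or.inr ⟨ℓ, hℓ, h1 ▸ t1.2, h2 ▸ t2.2⟩)
  exact ⟨⟨x, hxT⟩, rfl⟩

end Groth.Agent.Lib.Helper9.Towers
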