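import Mathlib
import Groth.Agent.S7400
import Groth.Agent.S7420
import Groth.Agent.S7421
import Groth.Agent.Lib.Helper9.AWN6
import Groth.Agent.Lib.Helper9.HomAwn

set_option autoImplicit false
set_option linter.style.haveILetI false
universe u
open CategoryTheory AlgebraicGeometry Limits

namespace Groth.Agent.Lib.Helper9.SN

open Groth.Agent.Lib.Helper9.UnivHomeoRing

/-- ring-level key lemma -/
theorem surjective_of_isSeminormalRing {A B : Type u} [CommRing A] [CommRing B] (φ : A →+* B)
    (hinj : Function.Injective φ) (hA : HTop.IsSeminormalRing A) [IsReduced B]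
    (hU : FlatMor.IsUnivHomeo (Spec.map (CommRingCat.ofHom φ)))
    (hres : ∀ x : Spec (CommRingCat.of B),
      Function.Surjective ((Spec.map (CommRingCat.ofHom φ)).residueFieldMap x)) :
    Function.Surjective φ := by
  letI := φ.toAlgebra
  have key := (Groth.Agent.S7400.result (A := A) (B := B) hinj).mp ⟨hU, hres⟩
  intro b
  obtain ⟨l, hl, htow⟩ := key {b}
  have hmem : ∀ (n : ℕ) (hn : n < l.length), l.get ⟨n, hn⟩ ∈ (⊥ : Subalgebra A B) := by
    intro n
    induction n using Nat.strong_induction_on with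
    | _ n ih =>
      intro hn
      have hle : Algebra.adjoin A {b : B | ∃ j : Fin l.length, j < (⟨n, hn⟩ : Fin l.length) ∧
          b = l.get j} ≤ ⊥ := by
        rw [Algebra.adjoin_le_iff]
        rintro _ ⟨j, hj, rfl⟩
        exact ih j.1 hj j.2
      obtain ⟨h2, h3⟩ := htow ⟨n, hn⟩
      obtain ⟨x, hx⟩ := Algebra.mem_bot.mp (hle h2)
      obtain ⟨y, hy⟩ := Algebra.mem_bot.mp (hle h3)
      have hxy : x ^ 3 = y ^ 2 := by
        apply hinj
        change algebraMap A B _ = algebraMap A B _
        rw [map_pow, map_pow, hx, hy]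
        ring
      obtain ⟨a, ⟨ha1, ha2⟩, -⟩ := hA x y hxy
      rw [Algebra.mem_bot]
      refine ⟨a, ?_⟩
      apply eq_of_sq_eq_of_cube_eq_of_isReduced
      · rw [← map_pow, ← ha1, hx]
      · rw [← map_pow, ← ha2, hy]
  have hb : b ∈ (⊥ : Subalgebra A B) := by
    have h1 : Algebra.adjoin A {b : B | b ∈ l} ≤ ⊥ := by
      rw [Algebra.adjoin_le_iff]
      intro c hc
      obtain ⟨i, rfl⟩ := List.mem_iff_get.mp hc
      exact hmem i.1 i.2
    exact h1 (hl (by simp))
  obtain ⟨a, ha⟩ := Algebra.mem_bot.mp hb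
  exact ⟨a, ha⟩


section resIso

variable {X Y Z : Scheme.{u}}

theorem residueFieldsIso_comp (f : X ⟶ Y) (g : Y ⟶ Z) (hf : HTop.ResidueFieldsIso f)
    (hg : HTop.ResidueFieldsIso g) : HTop.ResidueFieldsIso (f ≫ g) := by
  intro x
  rw [Scheme.residueFieldMap_comp]
  have h1 : IsIso (f.residueFieldMap x) := hf x
  have h2 : IsIso (g.residueFieldMap (f x)) := hg (f x)
  exact IsIso.comp_isIso' h2 h1

theorem residueFieldsIso_of_isOpenImmersion (f : X ⟶ Y) [IsOpenImmersion f] :
    HTop.ResidueFieldsIso f := fun x => inferInstance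

theorem residueFieldsIso_of_comp_isOpenImmersion (f : X ⟶ Y) (g : Y ⟶ Z) [IsOpenImmersion g]
    (h : HTop.ResidueFieldsIso (f ≫ g)) : HTop.ResidueFieldsIso f := by
  intro x
  have h1 : IsIso ((f ≫ g).residueFieldMap x) := h x
  rw [Scheme.residueFieldMap_comp] at h1
  have h2 : IsIso (g.residueFieldMap (f x) ≫ f.residueFieldMap x) := h1
  exact IsIso.of_isIso_comp_left (g.residueFieldMap (f x)) (f.residueFieldMap x)

theorem residueFieldsIso_SpecMap_app (π : Y ⟶ X) (hπ : HTop.ResidueFieldsIso π)
    (U : X.Opens) (hU : IsAffineOpen U) (hU' : IsAffineOpen (π ⁻¹ᵁ U)) :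
    HTop.ResidueFieldsIso (Spec.map (π.app U)) := by
  apply residueFieldsIso_of_comp_isOpenImmersion _ hU.fromSpec
  have : Spec.map (π.app U) ≫ hU.fromSpec = hU'.fromSpec ≫ π := by
    rw [Scheme.Hom.app_eq_appLE, IsAffineOpen.SpecMap_appLE_fromSpec]
  rw [this]
  exact residueFieldsIso_comp _ _ (residueFieldsIso_of_isOpenImmersion _) hπ

end resIso

open Groth.Agent.Lib.Helper9.AWN4 in
/-- Key lemma, scheme level. -/
theorem isIso_of_isSeminormal {Y X : Scheme.{u}} (π : Y ⟶ X) (hπ : FlatMor.IsUnivHomeo π)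
    (hres : HTop.ResidueFieldsIso π) [IsReduced Y] (hX : HTop.IsSeminormal X) : IsIso π := by
  have hΓ := (Groth.Agent.S7420.result X).1.mp hX
  have haff : IsAffineHom π := isAffineHom_of_isUnivHomeo π hπ
  change MorphismProperty.isomorphisms Scheme π
  rw [IsZariskiLocalAtTarget.iff_of_iSup_eq_top (P := MorphismProperty.isomorphisms Scheme) _
    (iSup_affineOpens_eq_top _)]
  intro U
  have hU' : IsAffineOpen (π ⁻¹ᵁ U.1) := U.2.preimage π
  have h2 : Arrow.mk (π ∣_ U.1) ≅ Arrow.mk (Spec.map (π.app U.1)) :=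
    Arrow.isoMk hU'.isoSpec U.2.isoSpec (restrict_isoSpec π U.1 U.2 hU')
  rw [MorphismProperty.arrow_mk_iso_iff (MorphismProperty.isomorphisms Scheme) h2]
  have hUH := isUnivHomeo_SpecMap_app π hπ U.1 U.2 hU'
  have hRI := residueFieldsIso_SpecMap_app π hres U.1 U.2 hU'
  have hAred : _root_.IsReduced Γ(X, U.1) := (Groth.Agent.S7421.result.{u}).1 _ (hΓ U)
  have hsurjSpec : Function.Surjective (PrimeSpectrum.comap (π.app U.1).hom) :=
    ((isUnivHomeo_SpecMap_iff' (π.app U.1).hom).mp hUH).2.1
  have hinj : Function.Injective (π.app U.1).hom := by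
    rw [injective_iff_map_eq_zero]
    intro a ha
    have hnil : IsNilpotent a := by
      rw [nilpotent_iff_mem_prime]
      intro P hP
      obtain ⟨Q, hQ⟩ := hsurjSpec ⟨P, hP⟩
      have h1 : a ∈ (PrimeSpectrum.comap (π.app U.1).hom Q).asIdeal := by
        change (π.app U.1).hom a ∈ Q.asIdeal
        rw [ha]
        exact Q.asIdeal.zero_mem
      rw [hQ] at h1
      exact h1
    exact hnil.eq_zero
  have hsurj : Function.Surjective (π.app U.1).hom :=
    surjective_of_isSeminormalRing (π.app U.1).hom hinj (hΓ U) hUH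
      (fun x => ((ConcreteCategory.isIso_iff_bijective _).mp (hRI x)).2)
  have : IsIso (π.app U.1) := by
    rw [ConcreteCategory.isIso_iff_bijective]
    exact ⟨hinj, hsurj⟩
  change IsIso (Spec.map (π.app U.1))
  infer_instance


section red

theorem residueFieldsIso_of_isPreimmersion {X Y : Scheme.{u}} (f : X ⟶ Y) [IsPreimmersion f] :
    HTop.ResidueFieldsIso f := by
  intro x
  rw [ConcreteCategory.isIso_iff_bijective]
  refine ⟨(f.residueFieldMap x).hom.injective, ?_⟩
  intro z
  obtain ⟨w, rfl⟩ := X.residue_surjective x z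
  obtain ⟨v, rfl⟩ := f.stalkMap_surjective x w
  refine ⟨Y.residue (f x) v, ?_⟩
  have := congr($(Scheme.residue_residueFieldMap f x) v)
  simpa using this

/-- The reduction of a scheme. -/
noncomputable abbrev red (X : Scheme.{u}) : Scheme.{u} := X.nilradical.subscheme

/-- The closed immersion of the reduction. -/
noncomputable abbrev redι (X : Scheme.{u}) : red X ⟶ X := X.nilradical.subschemeι

instance (X : Scheme.{u}) : Surjective (redι X) := by
  refine ⟨?_⟩
  rw [← Set.range_eq_univ, Scheme.IdealSheafData.range_subschemeι]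
  simp

instance (X : Scheme.{u}) : IsReduced (red X) := by
  have : ∀ U, IsReduced (X.nilradical.subschemeCover.openCover.X U) := by
    intro U
    change IsReduced (Spec (.of (Γ(X, U.1) ⧸ X.nilradical.ideal U)))
    have : _root_.IsReduced (Γ(X, U.1) ⧸ X.nilradical.ideal U) := by
      rw [← Ideal.isRadical_iff_quotient_reduced]
      simp only [Scheme.nilradical, Scheme.IdealSheafData.radical_ideal]
      exact Ideal.radical_isRadical _
    infer_instance
  exact IsReduced.of_openCover _ X.nilradical.subschemeCover.openCover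

theorem isUnivHomeo_of_isClosedImmersion_of_surjective {X Y : Scheme.{u}} (f : X ⟶ Y)
    [IsClosedImmersion f] [Surjective f] : FlatMor.IsUnivHomeo f :=
  (Groth.Agent.S0415.result f).2 ⟨inferInstance, inferInstance, inferInstance⟩

theorem isUnivHomeo_redι (X : Scheme.{u}) : FlatMor.IsUnivHomeo (redι X) :=
  isUnivHomeo_of_isClosedImmersion_of_surjective _

theorem residueFieldsIso_redι (X : Scheme.{u}) : HTop.ResidueFieldsIso (redι X) :=
  residueFieldsIso_of_isPreimmersion _

end red


section uniq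

/-- Two maps from a reduced scheme into a separated universally injective morphism agree as soon
as they agree after composing. -/
theorem eq_of_comp_eq_of_universallyInjective {W Y U : Scheme.{u}} [IsReduced W] (π : Y ⟶ U)
    [IsSeparated π] [UniversallyInjective π] (h h' : W ⟶ Y) (e : h ≫ π = h' ≫ π) : h = h' := by
  have hs : Surjective (pullback.diagonal π) := (UniversallyInjective.iff_diagonal π).mp inferInstance
  let l : W ⟶ pullback π π := pullback.lift h h' e
  have : Surjective (pullback.fst l (pullback.diagonal π)) := inferInstance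
  have : IsIso (pullback.fst l (pullback.diagonal π)) :=
    isIso_of_isClosedImmersion_of_surjective _
  have hl : l = inv (pullback.fst l (pullback.diagonal π)) ≫ pullback.snd l (pullback.diagonal π) ≫
      pullback.diagonal π := by
    rw [IsIso.eq_inv_comp, pullback.condition]
  have h1 : h = l ≫ pullback.fst π π := (pullback.lift_fst _ _ _).symm
  have h2 : h' = l ≫ pullback.snd π π := (pullback.lift_snd _ _ _).symm
  rw [h1, h2, hl]
  simp

end uniq


section fieldLift

/-- Field-valued points lift along `π`. -/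
def FieldLift {Y U : Scheme.{u}} (π : Y ⟶ U) : Prop :=
  ∀ (K : Type u) [Field K] (a : Spec (.of K) ⟶ U), ∃ c : Spec (.of K) ⟶ Y, c ≫ π = a

theorem fieldLift_of_residueFieldsIso {Y U : Scheme.{u}} (π : Y ⟶ U) [Surjective π]
    (hπ : HTop.ResidueFieldsIso π) : FieldLift π := by
  intro K _ a
  have key : ∀ (u : U) (φ : U.residueField u ⟶ .of K),
      ∃ c : Spec (.of K) ⟶ Y, c ≫ π = Spec.map φ ≫ U.fromSpecResidueField u := by
    intro u φ
    obtain ⟨y, rfl⟩ := π.surjective u
    have := hπ y
    refine ⟨Spec.map (inv (π.residueFieldMap y) ≫ φ) ≫ Y.fromSpecResidueField y, ?_⟩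
    rw [Category.assoc, ← Scheme.Hom.SpecMap_residueFieldMap_fromSpecResidueField,
      ← Spec.map_comp_assoc]
    simp
  obtain ⟨c, hc⟩ := key _ (Scheme.descResidueField (Scheme.stalkClosedPointTo a))
  exact ⟨c, hc.trans (Scheme.descResidueField_stalkClosedPointTo_fromSpecResidueField K U a)⟩

theorem fieldLift_of_isPullback {P W Y U : Scheme.{u}} {p₁ : P ⟶ W} {p₂ : P ⟶ Y} {ρ : W ⟶ U}
    {π : Y ⟶ U} (hpb : IsPullback p₁ p₂ ρ π) (hπ : FieldLift π) : FieldLift p₁ := by
  intro K _ a
  obtain ⟨c, hc⟩ := hπ K (a ≫ ρ)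
  exact ⟨hpb.lift a c hc.symm, hpb.lift_fst _ _ _⟩

theorem residueFieldsIso_of_fieldLift {P W : Scheme.{u}} (p : P ⟶ W)
    (hinj : Function.Injective p) (hp : FieldLift p) : HTop.ResidueFieldsIso p := by
  intro z
  obtain ⟨b, hb⟩ := hp (W.residueField (p z)) (W.fromSpecResidueField (p z))
  have key : ∀ (z' : P) (ψ : P.residueField z' ⟶ W.residueField (p z)),
      Spec.map ψ ≫ P.fromSpecResidueField z' ≫ p = W.fromSpecResidueField (p z) → z' = z →
      IsIso (p.residueFieldMap z) := by
    intro z' ψ h hz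
    subst hz
    rw [← Scheme.Hom.SpecMap_residueFieldMap_fromSpecResidueField, ← Spec.map_comp_assoc] at h
    have h' : Spec.map (p.residueFieldMap z' ≫ ψ) = 𝟙 _ := by
      rw [← cancel_mono (W.fromSpecResidueField (p z'))]
      simpa using h
    have h'' : p.residueFieldMap z' ≫ ψ = 𝟙 _ := by
      apply Spec.map_injective
      simpa using h'
    have hψ : IsIso ψ := by
      rw [ConcreteCategory.isIso_iff_bijective]
      refine ⟨ψ.hom.injective, fun t => ⟨(p.residueFieldMap z').hom t, ?_⟩⟩
      exact congr($(h'') t)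
    have h2 : IsIso (p.residueFieldMap z' ≫ ψ) := by rw [h'']; infer_instance
    exact IsIso.of_isIso_comp_right _ ψ
  have hb' := Scheme.descResidueField_stalkClosedPointTo_fromSpecResidueField
    (W.residueField (p z)) P b
  let ψ₀ : P.residueField (b (IsLocalRing.closedPoint (W.residueField (p z)))) ⟶
      .of (W.residueField (p z)) :=
    Scheme.descResidueField (K := W.residueField (p z)) (Scheme.stalkClosedPointTo b)
  refine key _ ψ₀ ?_ ?_
  · rw [← Category.assoc, hb', hb]
  · apply hinj
    have := congr($(hb).base (IsLocalRing.closedPoint (W.residueField (p z))))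
    simpa using this

theorem residueFieldsIso_of_isPullback {P W Y U : Scheme.{u}} {p₁ : P ⟶ W} {p₂ : P ⟶ Y}
    {ρ : W ⟶ U} {π : Y ⟶ U} (hpb : IsPullback p₁ p₂ ρ π) [Surjective π] [UniversallyInjective π]
    (hπ : HTop.ResidueFieldsIso π) : HTop.ResidueFieldsIso p₁ := by
  have : UniversallyInjective p₁ := MorphismProperty.of_isPullback hpb.flip inferInstance
  exact residueFieldsIso_of_fieldLift p₁ p₁.injective
    (fieldLift_of_isPullback hpb (fieldLift_of_residueFieldsIso π hπ))

end fieldLift


section crit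

theorem isReduced_of_isSeminormal {X : Scheme.{u}} (hX : HTop.IsSeminormal X) : IsReduced X :=
  (Groth.Agent.S7421.result.{u}).2 _ hX

/-- A universal homeomorphism with trivial residue field extensions out of a seminormal scheme is
a seminormalization. -/
theorem isSeminormalization_of_isSeminormal {W U : Scheme.{u}} (ρ : W ⟶ U)
    (hρ : FlatMor.IsUnivHomeo ρ) (hρ' : HTop.ResidueFieldsIso ρ) (hW : HTop.IsSeminormal W) :
    HTop.IsSeminormalization ρ := by
  refine ⟨⟨hρ, hρ'⟩, ?_⟩
  intro Y π hπ hπ'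
  have hWred : IsReduced W := isReduced_of_isSeminormal hW
  obtain ⟨hint, hui, hsurj⟩ := (Groth.Agent.S0415.result π).1 hπ
  have hpb := IsPullback.of_hasPullback ρ π
  have h1 : FlatMor.IsUnivHomeo (pullback.fst ρ π) :=
    MorphismProperty.of_isPullback hpb.flip hπ
  have h2 : HTop.ResidueFieldsIso (pullback.fst ρ π) := residueFieldsIso_of_isPullback hpb hπ'
  have hr1 : FlatMor.IsUnivHomeo (redι (pullback ρ π) ≫ pullback.fst ρ π) :=
    MorphismProperty.comp_mem _ _ _ (isUnivHomeo_redι _) h1
  have hr2 : HTop.ResidueFieldsIso (redι (pullback ρ π) ≫ pullback.fst ρ π) :=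
    residueFieldsIso_comp _ _ (residueFieldsIso_redι _) h2
  have hr : IsIso (redι (pullback ρ π) ≫ pullback.fst ρ π) :=
    isIso_of_isSeminormal _ hr1 hr2 hW
  refine ⟨inv (redι (pullback ρ π) ≫ pullback.fst ρ π) ≫ redι _ ≫ pullback.snd ρ π, ?_, ?_⟩
  · simp only [Category.assoc, ← pullback.condition]
    rw [← Category.assoc (redι _), IsIso.inv_hom_id_assoc]
  · intro h' hh'
    apply eq_of_comp_eq_of_universallyInjective π
    rw [hh']
    simp only [Category.assoc, ← pullback.condition]
    rw [← Category.assoc (redι _), IsIso.inv_hom_id_assoc]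

end crit


section statements

theorem isReduced_of_isSeminormalization {X' X : Scheme.{u}} (ν : X' ⟶ X)
    (hν : HTop.IsSeminormalization ν) : IsReduced X' := by
  obtain ⟨⟨h1, h2⟩, h3⟩ := hν
  have hr1 : FlatMor.IsUnivHomeo (redι X' ≫ ν) :=
    MorphismProperty.comp_mem _ _ _ (isUnivHomeo_redι _) h1
  have hr2 : HTop.ResidueFieldsIso (redι X' ≫ ν) :=
    residueFieldsIso_comp _ _ (residueFieldsIso_redι _) h2
  obtain ⟨h, hh, -⟩ := h3 _ (redι X' ≫ ν) hr1 hr2
  have huniq := (h3 _ ν h1 h2).unique (y₁ := h ≫ redι X') (y₂ := 𝟙 _)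
    (by simpa using hh) (by simp)
  have : IsSplitEpi (redι X') := ⟨⟨h, huniq⟩⟩
  have : IsIso (redι X') := isIso_of_mono_of_isSplitEpi _
  exact isReduced_of_isOpenImmersion (inv (redι X'))

theorem isIso_of_isSeminormalization_of_isSeminormal {X' X : Scheme.{u}} (ν : X' ⟶ X)
    (hν : HTop.IsSeminormalization ν) (hX : HTop.IsSeminormal X) : IsIso ν := by
  have := isReduced_of_isSeminormalization ν hν
  exact isIso_of_isSeminormal ν hν.1.1 hν.1.2 hX

theorem isSeminormal_of_isOpenImmersion {V X : Scheme.{u}} (j : V ⟶ X) [IsOpenImmersion j]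
    (hX : HTop.IsSeminormal X) : HTop.IsSeminormal V := by
  have hΓ := (Groth.Agent.S7420.result X).1.mp hX
  intro x
  obtain ⟨_, ⟨W, hW : IsAffineOpen W, rfl⟩, hxW, -⟩ :=
    V.isBasis_affineOpens.exists_subset_of_mem_open (Set.mem_univ x) isOpen_univ
  refine ⟨⟨W, hW⟩, hxW, ?_⟩
  have hjW : IsAffineOpen (j ''ᵁ W) := hW.image_of_isOpenImmersion j
  exact Groth.Agent.Lib.Helper9.SNLocal.isSeminormalRing_of_ringEquiv
    (j.appIso W).commRingCatIsoToRingEquiv (hΓ ⟨_, hjW⟩)

theorem isSeminormalization_restrict {X' X : Scheme.{u}} (ν : X' ⟶ X)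
    (hν : HTop.IsSeminormalization ν) (hX' : HTop.IsSeminormal X') (U : X.Opens) :
    HTop.IsSeminormalization (ν ∣_ U) := by
  apply isSeminormalization_of_isSeminormal
  · exact IsZariskiLocalAtTarget.restrict hν.1.1 U
  · apply residueFieldsIso_of_comp_isOpenImmersion _ U.ι
    rw [morphismRestrict_ι]
    exact residueFieldsIso_comp _ _ (residueFieldsIso_of_isOpenImmersion _) hν.1.2
  · exact isSeminormal_of_isOpenImmersion (ν ⁻¹ᵁ U).ι hX'


theorem exists_lift_of_pointwise {T X Y : Scheme.{u}} (hT : HTop.IsSeminormal T) (f : X ⟶ Y)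
    [IsProper f] [UniversallyInjective f] (g : T ⟶ Y)
    (hlift : ∀ t : T, ∃ l : Spec (T.residueField t) ⟶ X, l ≫ f = T.fromSpecResidueField t ≫ g) :
    ∃ h : T ⟶ X, h ≫ f = g := by
  have hFL : FieldLift (pullback.snd f g) := by
    intro K _ a
    obtain ⟨l, hl⟩ := hlift (a (IsLocalRing.closedPoint K))
    have ha : Spec.map (Scheme.descResidueField (Scheme.stalkClosedPointTo a)) ≫
        T.fromSpecResidueField _ = a :=
      Scheme.descResidueField_stalkClosedPointTo_fromSpecResidueField K T a
    refine ⟨pullback.lift (Spec.map (Scheme.descResidueField (Scheme.stalkClosedPointTo a)) ≫ l) a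
      (by rw [Category.assoc, hl, ← Category.assoc, ha]), pullback.lift_snd _ _ _⟩
  have hsurj : Surjective (pullback.snd f g) := ⟨fun t => by
    obtain ⟨c, hc⟩ := hFL (T.residueField t) (T.fromSpecResidueField t)
    refine ⟨c (IsLocalRing.closedPoint _), ?_⟩
    have := congr($(hc).base (IsLocalRing.closedPoint (T.residueField t)))
    simpa using this⟩
  have hUI : UniversallyInjective (pullback.snd f g) :=
    MorphismProperty.pullback_snd (P := @UniversallyInjective) f g inferInstance
  have hUH : FlatMor.IsUnivHomeo (pullback.snd f g) :=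
    (isUnivHomeo_iff _).2 ⟨inferInstance, hUI, hsurj⟩
  have hRI := residueFieldsIso_of_fieldLift (pullback.snd f g) (pullback.snd f g).injective hFL
  have hr1 : FlatMor.IsUnivHomeo (redι (pullback f g) ≫ pullback.snd f g) :=
    MorphismProperty.comp_mem _ _ _ (isUnivHomeo_redι _) hUH
  have hr2 : HTop.ResidueFieldsIso (redι (pullback f g) ≫ pullback.snd f g) :=
    residueFieldsIso_comp _ _ (residueFieldsIso_redι _) hRI
  have hr : IsIso (redι (pullback f g) ≫ pullback.snd f g) :=
    isIso_of_isSeminormal _ hr1 hr2 hT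
  refine ⟨inv (redι (pullback f g) ≫ pullback.snd f g) ≫ redι _ ≫ pullback.fst f g, ?_⟩
  simp only [Category.assoc, pullback.condition]
  rw [← Category.assoc (redι _), IsIso.inv_hom_id_assoc]

end statements

end Groth.Agent.Lib.Helper9.SN
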