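import Groth.Agent.Lib.Helper9.ABlow3
import Groth.Agent.Lib.Helper29.BlowUpUP2

set_option autoImplicit false
universe u
open CategoryTheory CategoryTheory.Limits AlgebraicGeometry TopologicalSpace

namespace Groth.Agent.Lib.Helper9.BlowIntegral

open Groth.Agent.Lib.Helper29.EffCart Groth.Agent.Lib.Helper9.ABlow

variable {X Y : Scheme.{u}}

lemma exists_not_mem_support [IsIntegral Y] (I : Y.IdealSheafData) (hI : I ≠ ⊥) :
    ∃ y : Y, y ∉ I.support := by
  have : ∃ U : Y.affineOpens, I.ideal U ≠ ⊥ := by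
    by_contra hcon
    push Not at hcon
    apply hI
    ext U : 2
    rw [hcon U]
    rfl
  obtain ⟨U, hU⟩ := this
  obtain ⟨s, hs, hs0⟩ := Submodule.exists_mem_ne_zero_of_ne_bot hU
  have hne : Y.basicOpen s ≠ ⊥ := fun h => hs0 ((basicOpen_eq_bot_iff s).1 h)
  obtain ⟨y, hy⟩ : ∃ y, y ∈ Y.basicOpen s := by
    by_contra hcon
    push Not at hcon
    exact hne (by ext y; simp [hcon y])
  refine ⟨y, fun hsupp => ?_⟩
  have hyU : y ∈ U.1 := Y.basicOpen_le s hy
  rw [Scheme.IdealSheafData.mem_support_iff_of_mem hyU, Scheme.mem_zeroLocus_iff] at hsupp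
  exact hsupp s hs hy

theorem main [IsIntegral Y] (I : Y.IdealSheafData) (hI : I ≠ ⊥)
    (b : X ⟶ Y) (hb : BlowUp.IsBlowUp b I) :
    ∃ (_ : IsIntegral X), ∃ hgen : b.base (genericPoint X) = genericPoint Y,
      Function.Bijective (b.residueFieldMap (genericPoint X)).hom := by
  haveI : IsReduced X := IsBlowUp.isReduced hb
  set U' : Y.Opens := I.support.compl with hU'
  haveI hiso : IsIso (b ∣_ U') := IsBlowUp.isIso_morphismRestrict hb
  set V : X.Opens := b ⁻¹ᵁ U' with hV
  have hVeq : V = (I.comap b).support.compl := by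
    ext x
    change b x ∉ I.support ↔ x ∉ (I.comap b).support
    rw [Scheme.IdealSheafData.support_comap]
    rfl
  haveI hoi : IsOpenImmersion (V.ι ≫ b) := by
    rw [← morphismRestrict_ι]; infer_instance
  -- nonemptiness
  obtain ⟨y, hy⟩ := exists_not_mem_support I hI
  haveI : Nonempty V := by
    obtain ⟨v, -⟩ := (ConcreteCategory.bijective_of_isIso (b ∣_ U').base).2 ⟨y, hy⟩
    exact ⟨v⟩
  haveI : IsIntegral (V : Scheme.{u}) := isIntegral_of_isOpenImmersion (V.ι ≫ b)
  -- density
  haveI : QuasiCompact V.ι := by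
    rw [hVeq]
    exact quasiCompact_awayFrom_ι (I.comap b)
      (fun x => by obtain ⟨W, hx, f, _, hf⟩ := hb.1 x; exact ⟨W, hx, f, hf⟩)
  have hker : V.ι.ker = ⊥ := by
    rw [hVeq]; exact ker_ι_compl_support_eq_bot _ hb.1
  have hdense : closure (V : Set X) = Set.univ := by
    have h1 := Scheme.Hom.support_ker V.ι
    rw [hker, Scheme.IdealSheafData.support_bot, Scheme.Opens.range_ι] at h1
    exact h1.symm
  have hVirr : IsIrreducible (V : Set X) := by
    have := (IrreducibleSpace.isIrreducible_univ V).image V.ι V.ι.continuous.continuousOn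
    rwa [Set.image_univ, Scheme.Opens.range_ι] at this
  haveI : IrreducibleSpace X := by
    rw [irreducibleSpace_def]
    change IsIrreducible (Set.univ : Set X)
    rw [← hdense]
    exact hVirr.closure
  have hint : IsIntegral X := isIntegral_of_irreducibleSpace_of_isReduced X
  refine ⟨hint, ?_, ?_⟩
  · have h1 := genericPoint_eq_of_isOpenImmersion V.ι
    have h2 := genericPoint_eq_of_isOpenImmersion (V.ι ≫ b)
    rw [← h1, ← h2]
    rfl
  · have hmem : genericPoint X ∈ V :=
      ((genericPoint_spec X).mem_open_set_iff V.isOpen).2 ⟨_, Set.mem_univ _, (‹Nonempty V›.some).2⟩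
    have key : ∀ x : X, x ∈ V → Function.Bijective (b.residueFieldMap x).hom := by
      intro x hx
      obtain ⟨v, rfl⟩ : ∃ v : (V : Scheme.{u}), V.ι v = x := ⟨⟨x, hx⟩, rfl⟩
      have h1 := AlgebraicGeometry.Scheme.residueFieldMap_comp V.ι b v
      have hχ : Function.Bijective ((V.ι ≫ b).residueFieldMap v).hom :=
        ConcreteCategory.bijective_of_isIso _
      have hψ : Function.Bijective (V.ι.residueFieldMap v).hom :=
        ConcreteCategory.bijective_of_isIso _
      have hfun : (⇑(V.ι.residueFieldMap v).hom ∘ ⇑(b.residueFieldMap (V.ι v)).hom) =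
          ⇑((V.ι ≫ b).residueFieldMap v).hom := by
        funext z
        exact (DFunLike.congr_fun (congrArg CommRingCat.Hom.hom h1) z).symm
      have hχ2 : Function.Bijective
          (⇑(V.ι.residueFieldMap v).hom ∘ ⇑(b.residueFieldMap (V.ι v)).hom) := hfun ▸ hχ
      exact (Function.Bijective.of_comp_iff' hψ _).1 hχ2
    exact key _ hmem

end Groth.Agent.Lib.Helper9.BlowIntegral
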