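import Groth.Agent.Lib.Helper9.BlowProper6

set_option autoImplicit false
universe u
open CategoryTheory CategoryTheory.Limits AlgebraicGeometry TopologicalSpace

namespace Groth.Agent.Lib.Helper9.BlowProper

open Groth.Agent.Lib.Helper29.EffCart Groth.Agent.Lib.Helper29.AffBlow
open Groth.Agent.Lib.Helper9.BlowExist

section Affine

variable {A : Type u} [CommRing A] {I : Ideal A} {X' : Scheme.{u}}
  {b : X' ⟶ Spec (CommRingCat.of A)}

theorem isProper_affine (hb : BlowUp.IsBlowUp b (idealSheaf I)) (hI : I.FG) : IsProper b := by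
  haveI : IsSeparated b := isSeparated_of_isBlowUp hb
  haveI : LocallyOfFiniteType b := locallyOfFiniteType_of_fg hb hI
  haveI : CompactSpace X' := compactSpace_of_fg hb hI
  haveI : QuasiCompact b := (HasAffineProperty.iff_of_isAffine (P := @QuasiCompact)).2 ‹_›
  haveI : UniversallyClosed b := UniversallyClosed.of_valuativeCriterion b (valuative_existence hb hI)
  exact {}

end Affine

section Global

variable {X X' : Scheme.{u}} {b : X' ⟶ X} {𝓘 : X.IdealSheafData}

/-- The restriction of a blow-up over an open is a blow-up. -/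
theorem isBlowUp_morphismRestrict (hb : BlowUp.IsBlowUp b 𝓘) (U : X.Opens) :
    BlowUp.IsBlowUp (b ∣_ U) (𝓘.comap U.ι) := by
  refine ⟨?_, ?_⟩
  · rw [← Scheme.IdealSheafData.comap_comp, morphismRestrict_ι, Scheme.IdealSheafData.comap_comp]
    exact isEffCartierIdeal_comap_of_flat _ _ hb.1
  · intro Y g hg
    rw [← Scheme.IdealSheafData.comap_comp] at hg
    obtain ⟨h₀, hh₀, hu⟩ := hb.2 Y (g ≫ U.ι) hg
    have hrange : Set.range h₀ ⊆ Set.range (b ⁻¹ᵁ U).ι := by
      rintro _ ⟨y, rfl⟩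
      rw [Scheme.Opens.range_ι]
      change b (h₀ y) ∈ U
      have : b (h₀ y) = (h₀ ≫ b) y := rfl
      rw [this, hh₀]
      exact (g y).2
    let h := IsOpenImmersion.lift (b ⁻¹ᵁ U).ι h₀ hrange
    have hh : h ≫ (b ⁻¹ᵁ U).ι = h₀ := IsOpenImmersion.lift_fac _ _ _
    refine ⟨h, ?_, ?_⟩
    · change h ≫ b ∣_ U = g
      rw [← cancel_mono U.ι, Category.assoc, morphismRestrict_ι, ← Category.assoc, hh, hh₀]
    · intro h' hh'
      change h' ≫ b ∣_ U = g at hh'
      rw [← cancel_mono (b ⁻¹ᵁ U).ι, hh]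
      apply hu
      change (h' ≫ _) ≫ b = _
      rw [Category.assoc, ← morphismRestrict_ι, ← Category.assoc, hh']

/-- Composing a blow-up with an isomorphism of the base. -/
theorem isBlowUp_comp_iso (hb : BlowUp.IsBlowUp b 𝓘) {Y : Scheme.{u}} (e : X ≅ Y) :
    BlowUp.IsBlowUp (b ≫ e.hom) (𝓘.comap e.inv) := by
  have hc : ∀ {T : Scheme.{u}} (g : T ⟶ Y), (𝓘.comap e.inv).comap g = 𝓘.comap (g ≫ e.inv) :=
    fun g => (Scheme.IdealSheafData.comap_comp _ _ _).symm
  refine ⟨?_, ?_⟩
  · rw [hc, Category.assoc, Iso.hom_inv_id, Category.comp_id]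
    exact hb.1
  · intro T g hg
    rw [hc] at hg
    obtain ⟨h₀, hh₀, hu⟩ := hb.2 T (g ≫ e.inv) hg
    refine ⟨h₀, ?_, ?_⟩
    · change h₀ ≫ b ≫ e.hom = g
      rw [← Category.assoc, hh₀, Category.assoc, Iso.inv_hom_id, Category.comp_id]
    · intro h' hh'
      change h' ≫ b ≫ e.hom = g at hh'
      apply hu
      change h' ≫ b = _
      rw [← hh', Category.assoc, Category.assoc, Iso.hom_inv_id, Category.comp_id]

/-- **A blow-up in a finite type quasi-coherent ideal is proper.** -/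
theorem isProper_of_isBlowUp (hb : BlowUp.IsBlowUp b 𝓘) (hfin : BlowUp.IsFiniteTypeIdeal 𝓘) :
    IsProper b := by
  rw [IsZariskiLocalAtTarget.iff_of_iSup_eq_top (P := @IsProper) (fun U : X.affineOpens => U.1)
    (iSup_affineOpens_eq_top X)]
  intro U
  have h1 := isBlowUp_morphismRestrict hb U.1
  have h2 := isBlowUp_comp_iso h1 U.2.isoSpec
  have h3 : (𝓘.comap U.1.ι).comap U.2.isoSpec.inv = idealSheaf (A := Γ(X, U.1)) (𝓘.ideal U) := by
    rw [← Scheme.IdealSheafData.comap_comp, IsAffineOpen.isoSpec_inv_ι]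
    exact comap_fromSpec 𝓘 U
  rw [h3] at h2
  have h4 : IsProper ((b ∣_ U.1) ≫ U.2.isoSpec.hom) := isProper_affine h2 (hfin U)
  exact (MorphismProperty.cancel_right_of_respectsIso (P := @IsProper) _ _).1 h4

end Global

end Groth.Agent.Lib.Helper9.BlowProper
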