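import Groth.Agent.Lib.Helper9.UnivHomeoRing

/-!
# More on universal homeomorphisms of affine schemes, ring-theoretically
-/

set_option autoImplicit false
universe u
open CategoryTheory AlgebraicGeometry MorphismProperty

namespace Groth.Agent.Lib.Helper9.UnivHomeoRing

set_option backward.isDefEq.respectTransparency.types false in
theorem surjective_residueFieldMap_SpecMap_iff {R S : CommRingCat.{u}} (φ : R ⟶ S) (x : Spec S) :
    Function.Surjective ((Spec.map φ).residueFieldMap x) ↔
      Function.Surjective (Ideal.ResidueField.map (PrimeSpectrum.comap φ.hom x).asIdeal x.asIdeal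
        φ.hom rfl) := by
  have h1 := isIso_residueFieldMap_SpecMap_iff φ x
  have h2 := ConcreteCategory.isIso_iff_bijective ((Spec.map φ).residueFieldMap x)
  constructor
  · intro h
    exact (h1.mp (h2.mpr ⟨((Spec.map φ).residueFieldMap x).hom.injective, h⟩)).2
  · intro h
    exact (h2.mp (h1.mpr ⟨RingHom.injective _, h⟩)).2

set_option backward.isDefEq.respectTransparency.types false in
theorem isPurelyInseparable_residueField_map {R S : CommRingCat.{u}} (φ : R ⟶ S) (x : Spec S)
    (h : ((Spec.map φ).residueFieldMap x).hom.IsPurelyInseparable) :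
    (Ideal.ResidueField.map (PrimeSpectrum.comap φ.hom x).asIdeal x.asIdeal
        φ.hom rfl).IsPurelyInseparable := by
  have h0 := congrArg CommRingCat.Hom.hom (residueFieldMap_SpecMap φ x)
  have h5 : ((Scheme.Spec.residueFieldIso S x).hom.hom.comp
      ((Spec.map φ).residueFieldMap x).hom).comp
      (Scheme.Spec.residueFieldIso R ((Spec.map φ) x)).inv.hom =
      Ideal.ResidueField.map (PrimeSpectrum.comap φ.hom x).asIdeal x.asIdeal φ.hom rfl := h0
  have h6 : (((Scheme.Spec.residueFieldIso S x).hom.hom.comp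
      ((Spec.map φ).residueFieldMap x).hom).comp
      (Scheme.Spec.residueFieldIso R ((Spec.map φ) x)).inv.hom).IsPurelyInseparable := by
    refine RingHom.IsPurelyInseparable.comp ?_ (RingHom.IsPurelyInseparable.comp h ?_)
    · apply ringHom_isPurelyInseparable_of_surjective
      exact ((ConcreteCategory.isIso_iff_bijective (Scheme.Spec.residueFieldIso R _).inv).mp
        inferInstance).2
    · apply ringHom_isPurelyInseparable_of_surjective
      exact ((ConcreteCategory.isIso_iff_bijective (Scheme.Spec.residueFieldIso S x).hom).mp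
        inferInstance).2
  exact h5 ▸ h6

/-- Ring-level criterion for `Spec φ` to be a universal homeomorphism. -/
theorem isUnivHomeo_SpecMap_iff {A B : Type u} [CommRing A] [CommRing B] (φ : A →+* B) :
    FlatMor.IsUnivHomeo (Spec.map (CommRingCat.ofHom φ)) ↔
      φ.IsIntegral ∧ Function.Surjective (PrimeSpectrum.comap φ) ∧
      ∀ (K : Type u) [Field K] (g₁ g₂ : B →+* K), g₁.comp φ = g₂.comp φ → g₁ = g₂ := by
  rw [isUnivHomeo_iff]
  constructor
  · rintro ⟨hc, hi, hs⟩
    refine ⟨?_, hs.surj, ?_⟩
    · have : IsIntegralHom (Spec.map (CommRingCat.ofHom φ)) :=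
        IsIntegralHom.iff_universallyClosed_and_isAffineHom.mpr ⟨hc, inferInstance⟩
      exact IsIntegralHom.SpecMap_iff.mp this
    · intro K _ g₁ g₂ hg
      have h2 : ∀ (K : Type u) [Field K], Function.Injective
          (fun g : Spec (.of K) ⟶ Spec (.of B) ↦ g ≫ Spec.map (CommRingCat.ofHom φ)) :=
        ((tfae_universallyInjective (Spec.map (CommRingCat.ofHom φ))).out 0 1).mp hi
      have h3 : Spec.map (CommRingCat.ofHom g₁) = Spec.map (CommRingCat.ofHom g₂) := by
        apply h2 K
        change Spec.map (CommRingCat.ofHom g₁) ≫ Spec.map (CommRingCat.ofHom φ) =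
          Spec.map (CommRingCat.ofHom g₂) ≫ Spec.map (CommRingCat.ofHom φ)
        rw [← Spec.map_comp, ← Spec.map_comp, ← CommRingCat.ofHom_comp, ← CommRingCat.ofHom_comp, hg]
      have h4 := Spec.map_injective h3
      exact congrArg CommRingCat.Hom.hom h4
  · rintro ⟨hint, hs, hK⟩
    refine ⟨?_, ?_, ⟨hs⟩⟩
    · have : IsIntegralHom (Spec.map (CommRingCat.ofHom φ)) := IsIntegralHom.SpecMap_iff.mpr hint
      infer_instance
    · have h2 : ∀ (K : Type u) [Field K], Function.Injective
          (fun g : Spec (.of K) ⟶ Spec (.of B) ↦ g ≫ Spec.map (CommRingCat.ofHom φ)) := by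
        intro K _ g₁ g₂ hg
        obtain ⟨ψ₁, rfl⟩ := Spec.map_surjective g₁
        obtain ⟨ψ₂, rfl⟩ := Spec.map_surjective g₂
        change Spec.map ψ₁ ≫ Spec.map (CommRingCat.ofHom φ) =
            Spec.map ψ₂ ≫ Spec.map (CommRingCat.ofHom φ) at hg
        rw [← Spec.map_comp, ← Spec.map_comp] at hg
        have h4 := congrArg CommRingCat.Hom.hom (Spec.map_injective hg)
        simp only [CommRingCat.hom_comp, CommRingCat.hom_ofHom] at h4
        have := hK K ψ₁.hom ψ₂.hom h4
        congr 1
        exact CommRingCat.hom_ext this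
      exact ((tfae_universallyInjective (Spec.map (CommRingCat.ofHom φ))).out 0 1).mpr h2

/-- Consequences of `Spec φ` being a universal homeomorphism. -/
theorem of_isUnivHomeo {A B : Type u} [CommRing A] [CommRing B] (φ : A →+* B)
    (h : FlatMor.IsUnivHomeo (Spec.map (CommRingCat.ofHom φ))) :
    φ.IsIntegral ∧ Function.Bijective (PrimeSpectrum.comap φ) ∧
    ∀ q : PrimeSpectrum B, (Ideal.ResidueField.map (PrimeSpectrum.comap φ q).asIdeal q.asIdeal
      φ rfl).IsPurelyInseparable := by
  obtain ⟨hc, hi, hs⟩ := (isUnivHomeo_iff _).mp h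
  have h3 : Function.Injective (Spec.map (CommRingCat.ofHom φ)) ∧
      ∀ x, ((Spec.map (CommRingCat.ofHom φ)).residueFieldMap x).hom.IsPurelyInseparable :=
    ((tfae_universallyInjective (Spec.map (CommRingCat.ofHom φ))).out 0 2).mp hi
  refine ⟨?_, ⟨h3.1, hs.surj⟩, fun q => ?_⟩
  · have : IsIntegralHom (Spec.map (CommRingCat.ofHom φ)) :=
      IsIntegralHom.iff_universallyClosed_and_isAffineHom.mpr ⟨hc, inferInstance⟩
    exact IsIntegralHom.SpecMap_iff.mp this
  · exact isPurelyInseparable_residueField_map (CommRingCat.ofHom φ) q (h3.2 q)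

end Groth.Agent.Lib.Helper9.UnivHomeoRing
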