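import Mathlib
import Groth.Prelude.Def_EGA4Misc
set_option autoImplicit false
universe u
open CategoryTheory CategoryTheory.Limits AlgebraicGeometry TensorProduct

namespace Groth.Agent.Lib.Helper9.BiratLib


section topology
variable {α : Type*} [TopologicalSpace α]

/-- F2: every point has a generization which is a generic point -/
theorem exists_genericPoint_specializes [QuasiSober α] (x : α) :
    ∃ z ∈ genericPoints α, z ⤳ x := by
  have hirr : IsIrreducible (irreducibleComponent x) := isIrreducible_irreducibleComponent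
  have hcl : IsClosed (irreducibleComponent x) := isClosed_irreducibleComponent
  refine ⟨hirr.genericPoint, ?_, ?_⟩
  · change closure {hirr.genericPoint} ∈ irreducibleComponents α
    rw [hirr.closure_genericPoint hcl]
    exact irreducibleComponent_mem_irreducibleComponents x
  · rw [specializes_iff_mem_closure, hirr.closure_genericPoint hcl]
    exact mem_irreducibleComponent

/-- F1: generic points are exactly the points without proper generizations -/
theorem mem_genericPoints_iff [QuasiSober α] [T0Space α] (x : α) :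
    x ∈ genericPoints α ↔ ∀ x' : α, x' ⤳ x → x' = x := by
  constructor
  · intro hx x' hx'
    have h1 : closure {x} ⊆ closure {x'} := specializes_iff_closure_subset.mp hx'
    have hirr : IsIrreducible (closure {x'}) := isIrreducible_singleton.closure
    have hmax : closure {x'} ⊆ closure {x} := hx.2 hirr h1
    have h2 : x ⤳ x' := specializes_iff_closure_subset.mpr hmax
    exact (hx'.antisymm h2).eq
  · intro h
    obtain ⟨z, hz, hzx⟩ := exists_genericPoint_specializes x
    rw [← h z hzx]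
    exact hz

theorem mapsTo_genericPoints_of_generalizingMap {β : Type*} [TopologicalSpace β] [QuasiSober α]
    [T0Space α] [QuasiSober β] [T0Space β] (f : α → β) (hf : GeneralizingMap f) :
    Set.MapsTo f (genericPoints α) (genericPoints β) := by
  intro x hx
  rw [mem_genericPoints_iff] at hx ⊢
  intro y' hy'
  obtain ⟨x', hx', rfl⟩ := hf hy'
  rw [hx x' hx']

end topology



/-- key iso: if `κ(f x) → κ(x)` is bijective, the fibre of `g'` over `x` is the fibre of `g` over `f x` -/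
theorem exists_fiber_iso {X Y X' Y' : Scheme.{u}} {f : X ⟶ Y} {g : Y' ⟶ Y} {f' : X' ⟶ Y'}
    {g' : X' ⟶ X} (sq : IsPullback g' f' f g) (x : X)
    (hx : Function.Bijective (f.residueFieldMap x).hom) :
    ∃ e : g'.fiber x ⟶ g.fiber (f x), IsIso e ∧ e ≫ g.fiberι (f x) = g'.fiberι x ≫ f' := by
  have hR' : IsPullback (g'.fiberι x) (g'.fiberToSpecResidueField x) g' (X.fromSpecResidueField x) :=
    IsPullback.of_hasPullback _ _
  have hR : IsPullback (g.fiberι (f x)) (g.fiberToSpecResidueField (f x)) g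
      (Y.fromSpecResidueField (f x)) := IsPullback.of_hasPullback _ _
  have big := hR'.flip.paste_vert sq
  rw [← Scheme.Hom.SpecMap_residueFieldMap_fromSpecResidueField] at big
  have hρ : IsIso (Spec.map (f.residueFieldMap x)) := by
    have : IsIso (f.residueFieldMap x) := (ConcreteCategory.isIso_iff_bijective _).mpr hx
    infer_instance
  have key := IsPullback.of_bot' big hR.flip
  refine ⟨_, key.isIso_snd_of_isIso, ?_⟩
  exact hR.flip.lift_snd _ _ _




theorem residueFieldMap_bijective {X Y : Scheme.{u}} (j : X ⟶ Y) [SurjectiveOnStalks j] (x : X) :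
    Function.Bijective (j.residueFieldMap x).hom := by
  refine ⟨(j.residueFieldMap x).hom.injective, ?_⟩
  intro b
  obtain ⟨s, rfl⟩ := IsLocalRing.residue_surjective b
  obtain ⟨t, rfl⟩ := j.stalkMap_surjective x s
  exact ⟨IsLocalRing.residue _ t, rfl⟩

theorem residueFieldMap_bijective_of_comp {F X Y : Scheme.{u}} (a : F ⟶ X) (f : X ⟶ Y) (z : F)
    (ha : Function.Bijective (a.residueFieldMap z).hom)
    (hb : Function.Bijective ((a ≫ f).residueFieldMap z).hom) :
    Function.Bijective (f.residueFieldMap (a z)).hom := by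
  rw [Scheme.residueFieldMap_comp] at hb
  have hb' : Function.Bijective ((a.residueFieldMap z).hom ∘ (f.residueFieldMap (a z)).hom) := hb
  exact (Function.Bijective.of_comp_iff' ha _).mp hb'

section
variable {X Y X' Y' : Scheme.{u}} {f : X ⟶ Y} {g : Y' ⟶ Y} {f' : X' ⟶ Y'}
    {g' : X' ⟶ X} (sq : IsPullback g' f' f g) (x : X)
    (hx : Function.Bijective (f.residueFieldMap x).hom)
include sq hx

theorem fiber_facts :
    (∀ ξ₁ ξ₂ : X', g' ξ₁ = x → g' ξ₂ = x → f' ξ₁ ⤳ f' ξ₂ → ξ₁ ⤳ ξ₂) ∧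
    (∀ η : Y', g η = f x → ∃ ξ : X', g' ξ = x ∧ f' ξ = η) ∧
    (∀ ξ : X', g' ξ = x → Function.Bijective (f'.residueFieldMap ξ).hom) := by
  obtain ⟨e, he, hcomm⟩ := exists_fiber_iso sq x hx
  have hrange' : ∀ ξ : X', g' ξ = x ↔ ∃ z, g'.fiberι x z = ξ := by
    intro ξ
    have := g'.range_fiberι x
    rw [Set.ext_iff] at this
    exact (this ξ).symm
  have hrange : ∀ η : Y', g η = f x ↔ ∃ w, g.fiberι (f x) w = η := by
    intro η
    have := g.range_fiberι (f x)
    rw [Set.ext_iff] at this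
    exact (this η).symm
  have hpt : ∀ z, f' (g'.fiberι x z) = g.fiberι (f x) (e z) := by
    intro z
    have := congrArg (fun φ : g'.fiber x ⟶ Y' => φ z) hcomm
    exact this.symm
  let eh := Scheme.homeoOfIso (asIso e)
  refine ⟨?_, ?_, ?_⟩
  · intro ξ₁ ξ₂ h1 h2 hs
    obtain ⟨z₁, rfl⟩ := (hrange' ξ₁).mp h1
    obtain ⟨z₂, rfl⟩ := (hrange' ξ₂).mp h2
    rw [hpt, hpt] at hs
    have h3 : e z₁ ⤳ e z₂ := (g.fiberι (f x)).isEmbedding.toIsInducing.specializes_iff.mp hs
    have h4 : z₁ ⤳ z₂ := eh.isInducing.specializes_iff.mp h3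
    exact h4.map (g'.fiberι x).continuous
  · intro η hη
    obtain ⟨w, rfl⟩ := (hrange η).mp hη
    obtain ⟨z, rfl⟩ := eh.surjective w
    refine ⟨g'.fiberι x z, (hrange' _).mpr ⟨z, rfl⟩, hpt z⟩
  · intro ξ hξ
    obtain ⟨z, rfl⟩ := (hrange' ξ).mp hξ
    refine residueFieldMap_bijective_of_comp (g'.fiberι x) f' z (residueFieldMap_bijective _ z) ?_
    rw [← hcomm, Scheme.residueFieldMap_comp]
    have h1 := residueFieldMap_bijective (g.fiberι (f x)) (e z)
    have h2 : Function.Bijective (e.residueFieldMap z).hom :=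
      (ConcreteCategory.isIso_iff_bijective _).mp inferInstance
    exact h2.comp h1

end


section
variable {X Y X' Y' : Scheme.{u}} {f : X ⟶ Y} {g : Y' ⟶ Y} {f' : X' ⟶ Y'}
    {g' : X' ⟶ X}

theorem isBirational_of_isPullback_of_flat [Flat g] (sq : IsPullback g' f' f g)
    (hf : RadPt.IsBirational f) : RadPt.IsBirational f' := by
  obtain ⟨hbij, hfib⟩ := hf
  have hflat' : Flat g' := MorphismProperty.of_isPullback (P := @Flat) sq.flip inferInstance
  have hA : Set.MapsTo g' (genericPoints X') (genericPoints X) :=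
    mapsTo_genericPoints_of_generalizingMap _ (Flat.generalizingMap g')
  have hB : Set.MapsTo g (genericPoints Y') (genericPoints Y) :=
    mapsTo_genericPoints_of_generalizingMap _ (Flat.generalizingMap g)
  have hw : ∀ ξ : X', f (g' ξ) = g (f' ξ) := fun ξ =>
    congrArg (fun φ : X' ⟶ Y => φ ξ) sq.w
  -- uniqueness over generic points of Y'
  have huniq : ∀ η ∈ genericPoints Y', ∀ ξ₁ ξ₂ : X', f' ξ₁ = η → f' ξ₂ = η → ξ₁ = ξ₂ := by
    intro η hη ξ₁ ξ₂ h1 h2
    have hy := hB hη
    obtain ⟨x, hxg, hfx⟩ := hbij.surjOn hy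
    have hxb := (hfib _ hy).2 x hfx
    obtain ⟨F1, -, -⟩ := fiber_facts sq x hxb
    have e1 : g' ξ₁ = x := (hfib _ hy).1 _ _ (by rw [hw, h1]) hfx
    have e2 : g' ξ₂ = x := (hfib _ hy).1 _ _ (by rw [hw, h2]) hfx
    have s1 : ξ₁ ⤳ ξ₂ := F1 ξ₁ ξ₂ e1 e2 (by rw [h1, h2])
    have s2 : ξ₂ ⤳ ξ₁ := F1 ξ₂ ξ₁ e2 e1 (by rw [h1, h2])
    exact (s1.antisymm s2).eq
  have hres : ∀ η ∈ genericPoints Y', ∀ ξ : X', f' ξ = η →
      Function.Bijective (f'.residueFieldMap ξ).hom := by
    intro η hη ξ h1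
    have hy := hB hη
    obtain ⟨x, hxg, hfx⟩ := hbij.surjOn hy
    have hxb := (hfib _ hy).2 x hfx
    obtain ⟨-, -, F3⟩ := fiber_facts sq x hxb
    have e1 : g' ξ = x := (hfib _ hy).1 _ _ (by rw [hw, h1]) hfx
    exact F3 ξ e1
  have hsurj : Set.SurjOn f' (genericPoints X') (genericPoints Y') := by
    intro η hη
    have hy := hB hη
    obtain ⟨x, hxg, hfx⟩ := hbij.surjOn hy
    have hxb := (hfib _ hy).2 x hfx
    obtain ⟨-, F2, -⟩ := fiber_facts sq x hxb
    obtain ⟨ξ, hξx, hξη⟩ := F2 η hfx.symm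
    refine ⟨ξ, ?_, hξη⟩
    rw [mem_genericPoints_iff]
    intro ξ'' hs
    have h1 : f' ξ'' ⤳ η := hξη ▸ hs.map f'.continuous
    have h2 : f' ξ'' = η := (mem_genericPoints_iff η).mp hη _ h1
    exact huniq η hη ξ'' ξ h2 hξη
  have hmaps : Set.MapsTo f' (genericPoints X') (genericPoints Y') := by
    intro ξ hξ
    have hxg := hA hξ
    have hy := hbij.mapsTo hxg
    have hxb := (hfib _ hy).2 (g' ξ) rfl
    obtain ⟨F1, F2, -⟩ := fiber_facts sq (g' ξ) hxb
    obtain ⟨η'', hη'', hs⟩ := exists_genericPoint_specializes (f' ξ)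
    have h1 : g η'' ⤳ f (g' ξ) := by
      rw [hw]
      exact hs.map g.continuous
    have h2 : g η'' = f (g' ξ) := (mem_genericPoints_iff _).mp hy _ h1
    obtain ⟨ξ'', hξ''x, hξ''η⟩ := F2 η'' h2
    have h3 : ξ'' ⤳ ξ := F1 ξ'' ξ hξ''x rfl (by rw [hξ''η]; exact hs)
    have h4 : ξ'' = ξ := (mem_genericPoints_iff ξ).mp hξ _ h3
    rw [← h4, hξ''η]
    exact hη''
  refine ⟨⟨hmaps, ?_, hsurj⟩, ?_⟩
  · intro ξ₁ h1 ξ₂ h2 h12
    exact huniq _ (hmaps h1) ξ₁ ξ₂ rfl h12.symm
  · intro η hη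
    exact ⟨fun ξ₁ ξ₂ h1 h2 => huniq η hη ξ₁ ξ₂ h1 h2, fun ξ h1 => hres η hη ξ h1⟩

end

end Groth.Agent.Lib.Helper9.BiratLib
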