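import Mathlib
import Groth.Prelude.Def_EGA4Misc
import Groth.Agent.Lib.Helper9.UnivHomeoRing
set_option autoImplicit false
universe u
open CategoryTheory CategoryTheory.Limits AlgebraicGeometry TensorProduct

namespace Groth.Agent.Lib.Helper9.RadPtLib
open Groth.Agent.Lib.Helper9.UnivHomeoRing


theorem isPurelyInseparable_of_comp {F E K : Type*} [Field F] [Field E] [Field K] {f : F →+* E}
    {g : E →+* K} (h : (g.comp f).IsPurelyInseparable) : f.IsPurelyInseparable := by
  algebraize [f, g, g.comp f]
  exact IsPurelyInseparable.tower_bot F E K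

theorem residueFieldMap_surjective {X Y : Scheme.{u}} (j : X ⟶ Y) [SurjectiveOnStalks j] (x : X) :
    Function.Surjective (j.residueFieldMap x) := by
  intro b
  obtain ⟨s, rfl⟩ := IsLocalRing.residue_surjective b
  obtain ⟨t, rfl⟩ := j.stalkMap_surjective x s
  exact ⟨IsLocalRing.residue _ t, rfl⟩

/-- `IsRadicialAt f y` iff the fibre over `y` maps universally injectively to `Y`. -/
theorem isRadicialAt_iff_fiber {X Y : Scheme.{u}} (f : X ⟶ Y) (y : Y) :
    RadPt.IsRadicialAt f y ↔ UniversallyInjective (f.fiberι y ≫ f) := by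
  have hrange : ∀ x : X, f x = y ↔ ∃ z, f.fiberι y z = x := by
    intro x
    have := f.range_fiberι y
    rw [Set.ext_iff] at this
    exact (this x).symm
  have hfy : ∀ z, f (f.fiberι y z) = y := fun z => (hrange _).mpr ⟨z, rfl⟩
  rw [((tfae_universallyInjective (f.fiberι y ≫ f)).out 0 2 :)]
  constructor
  · rintro ⟨h1, h2⟩
    refine ⟨?_, ?_⟩
    · intro z z' _
      exact (f.fiberι y).isEmbedding.injective (h1 _ _ (hfy z) (hfy z'))
    · intro z
      rw [Scheme.residueFieldMap_comp]
      change (((f.fiberι y).residueFieldMap z).hom.comp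
        (f.residueFieldMap (f.fiberι y z)).hom).IsPurelyInseparable
      refine RingHom.IsPurelyInseparable.comp (h2 _ (hfy z)) ?_
      exact ringHom_isPurelyInseparable_of_surjective _ (residueFieldMap_surjective _ z)
  · rintro ⟨h1, h2⟩
    refine ⟨?_, ?_⟩
    · intro x x' hx hx'
      obtain ⟨z, rfl⟩ := (hrange x).mp hx
      obtain ⟨z', rfl⟩ := (hrange x').mp hx'
      have : z = z' := h1 (by
        change f (f.fiberι y z) = f (f.fiberι y z')
        rw [hfy, hfy])
      rw [this]
    · intro x hx
      obtain ⟨z, rfl⟩ := (hrange x).mp hx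
      have := h2 z
      rw [Scheme.residueFieldMap_comp] at this
      have this' : (((f.fiberι y).residueFieldMap z).hom.comp
        (f.residueFieldMap (f.fiberι y z)).hom).IsPurelyInseparable := this
      exact isPurelyInseparable_of_comp this'



theorem universallyInjective_of_comp {X Y Z : Scheme.{u}} (f : X ⟶ Y) (g : Y ⟶ Z)
    [h : UniversallyInjective (f ≫ g)] : UniversallyInjective f := by
  rw [((tfae_universallyInjective f).out 0 1 :)]
  have h2 := ((tfae_universallyInjective (f ≫ g)).out 0 1).mp h
  intro K _ a b hab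
  apply h2 K
  change a ≫ f ≫ g = b ≫ f ≫ g
  have hab' : a ≫ f = b ≫ f := hab
  rw [← Category.assoc, ← Category.assoc, hab']

/-- universal injectivity descends along surjective base change -/
theorem universallyInjective_of_isPullback_of_surjective {X Y X' Y' : Scheme.{u}} {f : X ⟶ Y}
    {g : Y' ⟶ Y} {f' : X' ⟶ Y'} {g' : X' ⟶ X} (sq : IsPullback g' f' f g) [Surjective g]
    [h : UniversallyInjective f'] : UniversallyInjective f := by
  rw [((tfae_universallyInjective f).out 0 1 :)]
  have h2 := ((tfae_universallyInjective f').out 0 1).mp h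
  intro K _ a b hab
  have hab' : a ≫ f = b ≫ f := hab
  set c := a ≫ f with hc
  obtain ⟨y', hy'⟩ := g.surjective (c (IsLocalRing.closedPoint K))
  obtain ⟨t, ht1, ht2⟩ := Scheme.Pullback.exists_preimage_pullback (f := c) (g := g)
    (IsLocalRing.closedPoint K) y' hy'.symm
  let s := (pullback c g).fromSpecResidueField t
  let u : Spec ((pullback c g).residueField t) ⟶ Spec (CommRingCat.of K) := s ≫ pullback.fst c g
  let c' : Spec ((pullback c g).residueField t) ⟶ Y' := s ≫ pullback.snd c g
  have hcomm : u ≫ c = c' ≫ g := by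
    simp only [u, c', Category.assoc, pullback.condition]
  let a' : Spec ((pullback c g).residueField t) ⟶ X' :=
    sq.lift (u ≫ a) c' (by rw [Category.assoc, ← hc, hcomm])
  let b' : Spec ((pullback c g).residueField t) ⟶ X' :=
    sq.lift (u ≫ b) c' (by rw [Category.assoc, ← hab', hcomm])
  have hab'' : a' = b' := by
    apply h2 ((pullback c g).residueField t)
    change a' ≫ f' = b' ≫ f'
    rw [sq.lift_snd, sq.lift_snd]
  have hu : u ≫ a = u ≫ b := by
    have h1 : a' ≫ g' = u ≫ a := sq.lift_fst _ _ _
    have h2 : b' ≫ g' = u ≫ b := sq.lift_fst _ _ _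
    rw [← h1, ← h2, hab'']
  have hsub : Subsingleton ↥(Spec (CommRingCat.of K)) :=
    inferInstanceAs (Subsingleton (PrimeSpectrum K))
  have hsurj : Surjective u := ⟨fun x => ⟨IsLocalRing.closedPoint _, Subsingleton.elim _ _⟩⟩
  have hepi : Epi u := Flat.epi_of_flat_of_surjective u
  exact (cancel_epi u).mp hu



theorem universallyInjective_fiber_iff {X Y : Scheme.{u}} (f : X ⟶ Y) (y : Y) :
    UniversallyInjective (f.fiberι y ≫ f) ↔ UniversallyInjective (f.fiberToSpecResidueField y) := by
  have hcond : f.fiberι y ≫ f = f.fiberToSpecResidueField y ≫ Y.fromSpecResidueField y :=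
    pullback.condition
  rw [hcond]
  constructor
  · intro h
    exact universallyInjective_of_comp _ (Y.fromSpecResidueField y)
  · intro h
    have hm : UniversallyInjective (Y.fromSpecResidueField y) := inferInstance
    exact MorphismProperty.comp_mem (W := @UniversallyInjective) _ _ h hm

theorem isRadicialAt_iff_of_isPullback {X Y X' Y' : Scheme.{u}} {f : X ⟶ Y} {h : Y' ⟶ Y}
    {f' : X' ⟶ Y'} {h' : X' ⟶ X} (sq : IsPullback h' f' f h) (y' : Y') :
    RadPt.IsRadicialAt f (h y') ↔ RadPt.IsRadicialAt f' y' := by
  rw [isRadicialAt_iff_fiber, isRadicialAt_iff_fiber, universallyInjective_fiber_iff,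
    universallyInjective_fiber_iff]
  have hpb := isPullback_fiberToSpecResidueField_of_isPullback sq y'
  constructor
  · intro hf
    exact MorphismProperty.of_isPullback (P := @UniversallyInjective) hpb hf
  · intro hf'
    have hsub : Subsingleton ↥(Spec (Y.residueField (h y'))) :=
      inferInstanceAs (Subsingleton (PrimeSpectrum (Y.residueField (h y'))))
    have hsurj : Surjective (Spec.map (h.residueFieldMap y')) :=
      ⟨fun x => ⟨IsLocalRing.closedPoint _, Subsingleton.elim _ _⟩⟩
    exact @universallyInjective_of_isPullback_of_surjective _ _ _ _ _ _ _ _ hpb hsurj hf'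


end Groth.Agent.Lib.Helper9.RadPtLib
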