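import Groth.Agent.Lib.Helper9.Decaying
import Mathlib.RingTheory.Filtration
import Mathlib.RingTheory.AdicCompletion.Noetherian

set_option autoImplicit false
universe u v w w'
open W4c5adicflatcompl

namespace Groth.Agent.Lib.Helper9

variable {A : Type u} [CommRing A] {I : Ideal A} {Z : Type v} {M : Type w}
  [AddCommGroup M] [Module A M]

theorem pow_smul_top_anti {k l : ℕ} (h : k ≤ l) :
    (I ^ l • ⊤ : Submodule A M) ≤ I ^ k • ⊤ :=
  Submodule.smul_mono_left (Ideal.pow_le_pow_right h)

/-- In a Hausdorff module, a nonzero element has a maximal `I`-adic order. -/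
theorem eq_zero_or_exists_max_pow [IsHausdorff I M] (x : M) :
    x = 0 ∨ ∃ K : ℕ, x ∈ (I ^ K • ⊤ : Submodule A M) ∧
      ∀ k, x ∈ (I ^ k • ⊤ : Submodule A M) → k ≤ K := by
  classical
  by_cases h : ∀ k, x ∈ (I ^ k • ⊤ : Submodule A M)
  · left
    apply IsHausdorff.haus (I := I) (M := M) ‹_›
    intro m
    rw [SModEq.zero]
    exact h m
  · right
    push Not at h
    have hk0 : Nat.find h ≠ 0 := by
      intro h0
      have := Nat.find_spec h
      rw [h0, pow_zero, Ideal.one_eq_top, Submodule.top_smul] at this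
      exact this Submodule.mem_top
    obtain ⟨K, hK⟩ := Nat.exists_eq_succ_of_ne_zero hk0
    refine ⟨K, ?_, fun k hk => ?_⟩
    · by_contra hcon
      have := Nat.find_min' h hcon
      omega
    · by_contra hlt
      push Not at hlt
      exact Nat.find_spec h (pow_smul_top_anti (by omega) hk)

/-- Lifting decaying functions along a surjection onto a Hausdorff module. -/
theorem exists_decaying_lift {M'' : Type w'} [AddCommGroup M''] [Module A M'']
    [IsHausdorff I M''] (φ : M →ₗ[A] M'') (hφ : Function.Surjective φ)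
    (g : Z → M'') (hg : g ∈ decaying I Z M'') :
    ∃ f : Z → M, f ∈ decaying I Z M ∧ ∀ z, φ (f z) = g z := by
  have hmap : ∀ k : ℕ, (I ^ k • ⊤ : Submodule A M'') = (I ^ k • ⊤ : Submodule A M).map φ := by
    intro k
    rw [Submodule.map_smul'', Submodule.map_top, LinearMap.range_eq_top.mpr hφ]
  have key : ∀ z, ∃ x : M, φ x = g z ∧
      ∀ k, g z ∈ (I ^ k • ⊤ : Submodule A M'') → x ∈ (I ^ k • ⊤ : Submodule A M) := by
    intro z
    rcases eq_zero_or_exists_max_pow (I := I) (g z) with h0 | ⟨K, hK, hmax⟩
    · exact ⟨0, by simp [h0], fun k _ => Submodule.zero_mem _⟩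
    · rw [hmap] at hK
      obtain ⟨x, hx, hxg⟩ := hK
      exact ⟨x, hxg, fun k hk => pow_smul_top_anti (hmax k hk) hx⟩
  choose f hf1 hf2 using key
  refine ⟨f, fun n => ?_, hf1⟩
  refine (hg n).subset ?_
  intro z hz hcon
  exact hz (hf2 z n hcon)

/-- Artin–Rees: a function into a submodule `N` of a finite module `M` over a Noetherian ring
decays in `N` iff it decays in `M`. -/
theorem mem_decaying_submodule_iff [IsNoetherianRing A] [Module.Finite A M]
    (N : Submodule A M) (f : Z → N) :
    f ∈ decaying I Z N ↔ (fun z => (f z : M)) ∈ decaying I Z M := by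
  constructor
  · intro hf n
    refine (hf n).subset ?_
    intro z hz hcon
    apply hz
    have := (Submodule.mem_smul_top_iff (I ^ n) N (f z)).mp hcon
    exact Submodule.smul_mono le_rfl le_top this
  · intro hf n
    obtain ⟨k, hk⟩ := Ideal.exists_pow_inf_eq_pow_smul I N
    refine (hf (n + k)).subset ?_
    intro z hz hcon
    apply hz
    rw [Submodule.mem_smul_top_iff]
    have h1 : (f z : M) ∈ (I ^ (n + k) • ⊤ ⊓ N : Submodule A M) := ⟨hcon, (f z).2⟩
    rw [hk (n + k) (Nat.le_add_left k n), Nat.add_sub_cancel] at h1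
    exact Submodule.smul_mono le_rfl inf_le_right h1

end Groth.Agent.Lib.Helper9
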