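import Groth.Prelude.Def_W4c5adicflatcomplDec
import Mathlib.RingTheory.AdicCompletion.Basic
import Mathlib.RingTheory.Finiteness.Ideal
import Mathlib.RingTheory.Ideal.Operations

set_option autoImplicit false
universe u v w
open W4c5adicflatcompl

namespace Groth.Agent.Lib.Helper9

variable {A : Type u} [CommRing A] {I : Ideal A} {Z : Type v} {M : Type w}
  [AddCommGroup M] [Module A M]

/-- Values of an element of `J • ⊤` (in the module of decaying functions) lie in `J • ⊤`. -/
theorem decaying_apply_mem_of_mem_smul_top (J : Ideal A) (f : decaying I Z M)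
    (hf : f ∈ (J • ⊤ : Submodule A (decaying I Z M))) (z : Z) :
    (f : Z → M) z ∈ (J • ⊤ : Submodule A M) := by
  refine Submodule.smul_induction_on (p := fun f : decaying I Z M =>
    (f : Z → M) z ∈ (J • ⊤ : Submodule A M)) hf ?_ ?_
  · intro a ha g _
    exact Submodule.smul_mem_smul ha Submodule.mem_top
  · intro x y hx hy
    exact Submodule.add_mem _ hx hy

/-- The module of decaying functions into a Hausdorff module is Hausdorff. -/
theorem isHausdorff_decaying [IsHausdorff I M] : IsHausdorff I (decaying I Z M) := by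
  refine ⟨fun f hf => ?_⟩
  apply Subtype.ext
  funext z
  apply IsHausdorff.haus (I := I) (M := M) ‹_›
  intro n
  have h := hf n
  rw [SModEq.zero] at h ⊢
  exact decaying_apply_mem_of_mem_smul_top (I ^ n) f h z

/-- Elements of `span (range a) • N` are combinations `∑ a i • y i` with `y i ∈ N`. -/
theorem exists_sum_smul_of_mem_span_range_smul {r : ℕ} (a : Fin r → A) (N : Submodule A M)
    (x : M) (hx : x ∈ (Ideal.span (Set.range a)) • N) :
    ∃ y : Fin r → M, (∀ i, y i ∈ N) ∧ x = ∑ i, a i • y i := by
  refine Submodule.smul_induction_on (p := fun x : M =>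
    ∃ y : Fin r → M, (∀ i, y i ∈ N) ∧ x = ∑ i, a i • y i) hx ?_ ?_
  · intro b hb n hn
    obtain ⟨c, rfl⟩ := Ideal.mem_span_range_iff_exists_fun.mp hb
    refine ⟨fun i => c i • n, fun i => N.smul_mem _ hn, ?_⟩
    rw [Finset.sum_smul]
    refine Finset.sum_congr rfl fun i _ => ?_
    rw [smul_smul, mul_comm]
  · rintro x y ⟨u, hu, rfl⟩ ⟨v, hv, rfl⟩
    refine ⟨fun i => u i + v i, fun i => N.add_mem (hu i) (hv i), ?_⟩
    simp [smul_add, Finset.sum_add_distrib]

/-- Key lemma: if `I` is finitely generated and `M` is `I`-adically separated, a decaying function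
all of whose values lie in `I ^ n • M` lies in `I ^ n • (decaying functions)`. -/
theorem decaying_mem_smul_top_of_forall_mem [IsHausdorff I M] (hI : I.FG) (n : ℕ)
    (f : decaying I Z M) (hf : ∀ z, (f : Z → M) z ∈ (I ^ n • ⊤ : Submodule A M)) :
    f ∈ (I ^ n • ⊤ : Submodule A (decaying I Z M)) := by
  classical
  obtain ⟨r, a, ha⟩ := Submodule.fg_iff_exists_fin_generating_family.mp (hI.pow (n := n))
  have ha' : Ideal.span (Set.range a) = I ^ n := ha
  have hanti : ∀ {k l : ℕ}, k ≤ l → (I ^ l • ⊤ : Submodule A M) ≤ I ^ k • ⊤ := fun h =>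
    Submodule.smul_mono_left (Ideal.pow_le_pow_right h)
  have key : ∀ z, ∃ y : Fin r → M, (f : Z → M) z = ∑ i, a i • y i ∧
      ∀ k, (f : Z → M) z ∈ (I ^ (n + k) • ⊤ : Submodule A M) →
        ∀ i, y i ∈ (I ^ k • ⊤ : Submodule A M) := by
    intro z
    by_cases h : ∀ k, (f : Z → M) z ∈ (I ^ (n + k) • ⊤ : Submodule A M)
    · have h0 : (f : Z → M) z = 0 := by
        apply IsHausdorff.haus (I := I) (M := M) ‹_›
        intro m
        rw [SModEq.zero]
        exact hanti (Nat.le_add_left m n) (h m)
      exact ⟨0, by simp [h0], fun k _ i => Submodule.zero_mem _⟩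
    · push Not at h
      have hk0 : Nat.find h ≠ 0 := by
        intro h0
        have := Nat.find_spec h
        rw [h0, add_zero] at this
        exact this (hf z)
      obtain ⟨K, hK⟩ := Nat.exists_eq_succ_of_ne_zero hk0
      have hmemK : (f : Z → M) z ∈ (I ^ (n + K) • ⊤ : Submodule A M) := by
        by_contra hcon
        have := Nat.find_min' h hcon
        omega
      have : (f : Z → M) z ∈ (Ideal.span (Set.range a)) • (I ^ K • ⊤ : Submodule A M) := by
        rw [ha', ← mul_smul, ← pow_add]
        exact hmemK
      obtain ⟨y, hy, hsum⟩ := exists_sum_smul_of_mem_span_range_smul a _ _ this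
      refine ⟨y, hsum, fun k hk i => ?_⟩
      have hlt : k < Nat.find h := by
        by_contra hge
        push Not at hge
        exact Nat.find_spec h (hanti (Nat.add_le_add_left hge n) hk)
      exact hanti (by omega) (hy i)
  choose y hy1 hy2 using key
  have hdec : ∀ i, (fun z => y z i) ∈ decaying I Z M := by
    intro i k
    refine (f.2 (n + k)).subset ?_
    intro z hz hcon
    exact hz (hy2 z k hcon i)
  have hfeq : f = ∑ i, a i • (⟨fun z => y z i, hdec i⟩ : decaying I Z M) := by
    apply Subtype.ext
    funext z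
    rw [hy1 z]
    simp [Finset.sum_apply]
  rw [hfeq]
  refine Submodule.sum_mem _ fun i _ => Submodule.smul_mem_smul ?_ Submodule.mem_top
  rw [← ha']
  exact Ideal.subset_span (Set.mem_range_self i)

/-- If `I` is finitely generated and `M` is `I`-adically complete, so is the module of
`I`-adically decaying functions with values in `M`. -/
theorem isAdicComplete_decaying [IsAdicComplete I M] (hI : I.FG) :
    IsAdicComplete I (decaying I Z M) := by
  have : IsHausdorff I (decaying I Z M) := isHausdorff_decaying
  refine { toIsHausdorff := inferInstance, toIsPrecomplete := ⟨fun F hF => ?_⟩ }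
  have hpt : ∀ z, ∃ L : M, ∀ n, ((F n : decaying I Z M) : Z → M) z ≡ L
      [SMOD (I ^ n • ⊤ : Submodule A M)] := by
    intro z
    apply IsPrecomplete.prec ‹IsAdicComplete I M›.toIsPrecomplete
    intro m n hmn
    have := hF hmn
    rw [SModEq.sub_mem] at this ⊢
    exact decaying_apply_mem_of_mem_smul_top (I ^ m) _ this z
  choose L hL using hpt
  have hLdec : L ∈ decaying I Z M := by
    intro n
    refine ((F n).2 n).subset ?_
    intro z hz hcon
    apply hz
    have h1 := hL z n
    rw [SModEq.sub_mem] at h1
    have : L z = ((F n : decaying I Z M) : Z → M) z - (((F n : decaying I Z M) : Z → M) z - L z) := by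
      abel
    rw [this]
    exact Submodule.sub_mem _ hcon h1
  refine ⟨⟨L, hLdec⟩, fun n => ?_⟩
  rw [SModEq.sub_mem]
  apply decaying_mem_smul_top_of_forall_mem hI
  intro z
  have h1 := hL z n
  rw [SModEq.sub_mem] at h1
  exact h1

end Groth.Agent.Lib.Helper9
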