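import Groth.Agent.Lib.Helper9.RC3
import Groth.Agent.Lib.Helper9.GalGrp3

set_option backward.isDefEq.respectTransparency false
set_option maxHeartbeats 800000
set_option synthInstance.maxHeartbeats 400000
set_option autoImplicit false
set_option linter.unusedSectionVars false
set_option linter.unusedVariables false
universe u
open CategoryTheory CategoryTheory.Limits AlgebraicGeometry Opposite MonoidalCategory CartesianMonoidalCategory

namespace Groth.Agent.Lib.Helper9.RC

open MonObj
open Groth.Agent.Lib.Helper9.GalGrp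
open Groth.Agent.Lib.Helper14

section A

variable {S S' : Scheme.{u}} (f : S' ⟶ S)
  (hf : Presieve.ofArrows (fun _ : PUnit.{u + 1} => S') (fun _ => f) ∈ Scheme.fpqcPrecoverage S)

include hf in
theorem mem_fst (X : Over S) :
    Presieve.ofArrows (fun _ : PUnit.{u + 1} => pullback X.hom f)
      (fun _ => pullback.fst X.hom f) ∈ Scheme.fpqcPrecoverage X.left :=
  Scheme.fpqcPrecoverage.mem_coverings_of_isPullback (fun _ : PUnit.{u + 1} => f) hf X.hom _
    (fun _ => pullback.snd X.hom f) (fun _ => IsPullback.of_hasPullback X.hom f)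

include hf in
/-- a morphism factors through a monomorphism if it does so fpqc-locally on the base -/
theorem factor_of_bc {Z₀ G X : Over S} (z : Z₀ ⟶ G) [Mono z] (a : X ⟶ G)
    (w' : Red.bc f X ⟶ Red.bc f Z₀)
    (hw' : w' ≫ (Over.pullback f).map z = (Over.pullback f).map a) :
    ∃ w : X ⟶ Z₀, w ≫ z = a := by
  have hcov := mem_fst f hf X
  let g : pullback X.hom f ⟶ Z₀.left := w'.left ≫ pullback.fst Z₀.hom f
  have hg : g ≫ z.left = pullback.fst X.hom f ≫ a.left := by
    change (w'.left ≫ pullback.fst Z₀.hom f) ≫ z.left = _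
    rw [Category.assoc, ← MTDescent.pullback_map_left_fst f z, ← Category.assoc, ← Over.comp_left,
      hw', MTDescent.pullback_map_left_fst]
  obtain ⟨t, ht, -⟩ := FpqcLoc.existsUnique_glue (fun _ : PUnit.{u + 1} => pullback.fst X.hom f) hcov
    (fun _ => g) (by
      intro i j Z gi gj h
      rw [← cancel_mono z.left]
      have e1 : ∀ k : Z ⟶ pullback X.hom f, (k ≫ g) ≫ z.left = k ≫ pullback.fst X.hom f ≫ a.left :=
        fun k => (Category.assoc _ _ _).trans (congrArg (k ≫ ·) hg)
      exact (e1 gi).trans ((by rw [reassoc_of% h] : gi ≫ pullback.fst X.hom f ≫ a.left =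
        gj ≫ pullback.fst X.hom f ≫ a.left).trans (e1 gj).symm))
  have htz : t ≫ z.left = a.left := by
    have hu := FpqcLoc.existsUnique_glue (fun _ : PUnit.{u + 1} => pullback.fst X.hom f) hcov
      (fun _ => pullback.fst X.hom f ≫ a.left) (by
        intro i j Z gi gj h
        rw [reassoc_of% h])
    refine hu.unique (fun i => ?_) (fun i => rfl)
    rw [← Category.assoc, ht PUnit.unit, hg]
  refine ⟨Over.homMk t ?_, ?_⟩
  · rw [← Over.w z, ← Category.assoc, htz, Over.w a]
  · apply Over.OverMorphism.ext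
    exact htz

end A

section SubGrp

variable {C : Type*} [Category.{u} C] [CartesianMonoidalCategory C] {G Z : C} [GrpObj G]
  (z : Z ⟶ G) [Mono z]
  (hmul : ∀ (X : C) (a b : X ⟶ Z), ∃ c : X ⟶ Z, c ≫ z = (a ≫ z) * (b ≫ z))
  (hone : ∀ X : C, ∃ c : X ⟶ Z, c ≫ z = 1)
  (hinv : ∀ (X : C) (a : X ⟶ Z), ∃ c : X ⟶ Z, c ≫ z = (a ≫ z)⁻¹)

/-- the subgroup of points factoring through `z` -/
def Sub (X : C) : Subgroup (X ⟶ G) where
  carrier := {g | ∃ a : X ⟶ Z, a ≫ z = g}
  mul_mem' := by
    rintro _ _ ⟨a, rfl⟩ ⟨b, rfl⟩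
    exact hmul X a b
  one_mem' := hone X
  inv_mem' := by
    rintro _ ⟨a, rfl⟩
    exact hinv X a

/-- precomposition as a monoid hom -/
def preM {X X' : C} (u : X' ⟶ X) : (X ⟶ G) →* (X' ⟶ G) where
  toFun x := u ≫ x
  map_one' := MonObj.comp_one _
  map_mul' x y := MonObj.comp_mul _ _ _

/-- restriction -/
def resM {X X' : C} (u : X' ⟶ X) : Sub z hmul hone hinv X →* Sub z hmul hone hinv X' :=
  ((preM (G := G) u).comp (Sub z hmul hone hinv X).subtype).codRestrict (Sub z hmul hone hinv X')
    (fun x => by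
      obtain ⟨a, ha⟩ := x.2
      exact ⟨u ≫ a, by rw [Category.assoc, ha]; rfl⟩)

/-- the presheaf of groups -/
def SubF : Cᵒᵖ ⥤ GrpCat.{u} where
  obj X := GrpCat.of (Sub z hmul hone hinv X.unop)
  map u := GrpCat.ofHom (resM z hmul hone hinv u.unop)
  map_id X := by
    ext x
    change 𝟙 _ ≫ x.1 = x.1
    rw [Category.id_comp]
  map_comp u v := by
    ext x
    change (v.unop ≫ u.unop) ≫ x.1 = v.unop ≫ u.unop ≫ x.1
    rw [Category.assoc]

/-- `Z` represents the presheaf -/
noncomputable def rep : (SubF z hmul hone hinv ⋙ forget GrpCat).RepresentableBy Z where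
  homEquiv {X} :=
    { toFun := fun a => ⟨a ≫ z, a, rfl⟩
      invFun := fun g => g.2.choose
      left_inv := fun a => by
        rw [← cancel_mono z]
        exact (⟨a ≫ z, a, rfl⟩ : Sub z hmul hone hinv X).2.choose_spec
      right_inv := fun g => Subtype.ext g.2.choose_spec }
  homEquiv_comp {X X'} u g := by
    apply Subtype.ext
    change (u ≫ g) ≫ z = u ≫ g ≫ z
    rw [Category.assoc]

/-- the induced group structure -/
@[instance_reducible]
noncomputable def grpObj : GrpObj Z :=
  GrpObj.ofRepresentableBy Z (SubF z hmul hone hinv) (rep z hmul hone hinv)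

theorem mul_comp_z (X : C) (a b : X ⟶ Z) :
    letI := grpObj z hmul hone hinv
    (a * b) ≫ z = (a ≫ z) * (b ≫ z) := by
  letI := grpObj z hmul hone hinv
  have h := ((yonedaGrpObjIsoOfRepresentableBy Z (SubF z hmul hone hinv)
    (rep z hmul hone hinv)).hom.app (op X)).hom.map_mul a b
  exact congrArg Subtype.val h

theorem one_comp_z (X : C) :
    letI := grpObj z hmul hone hinv
    (1 : X ⟶ Z) ≫ z = 1 := by
  letI := grpObj z hmul hone hinv
  have h := ((yonedaGrpObjIsoOfRepresentableBy Z (SubF z hmul hone hinv)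
    (rep z hmul hone hinv)).hom.app (op X)).hom.map_one
  exact congrArg Subtype.val h

theorem isMonHom_z :
    letI := grpObj z hmul hone hinv
    IsMonHom z := by
  letI := grpObj z hmul hone hinv
  exact isMonHom_of_hom z (one_comp_z z hmul hone hinv) (mul_comp_z z hmul hone hinv)

end SubGrp

end Groth.Agent.Lib.Helper9.RC
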