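import Groth.Agent.Lib.Helper9.ProperOver3
import Mathlib.AlgebraicGeometry.Morphisms.FlatDescent
import Mathlib.AlgebraicGeometry.Morphisms.LocalFlatDescent

namespace Groth.Agent.Lib.Helper9.ProperOver

open CategoryTheory CategoryTheory.Limits AlgebraicGeometry TopologicalSpace MorphismProperty
open Scheme

universe u

theorem isSeparated_of_universallyClosed_diagonal {X Y : Scheme.{u}} (k : X ⟶ Y)
    (h : UniversallyClosed (pullback.diagonal k)) : IsSeparated k := by
  rw [AlgebraicGeometry.isSeparated_iff]
  exact IsClosedImmersion.of_isPreimmersion _ (pullback.diagonal k).isClosedMap.isClosed_range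

theorem descendsAlong_diagonal_universallyClosed :
    DescendsAlong (C := Scheme.{u}) (MorphismProperty.diagonal @UniversallyClosed)
      (@Surjective ⊓ @Flat ⊓ @QuasiCompact) := by
  have i1 : IsStableUnderBaseChange (C := Scheme.{u}) (@Surjective ⊓ @Flat) :=
    IsStableUnderBaseChange.inf
  have i2 : IsStableUnderBaseChange (C := Scheme.{u}) (@Surjective ⊓ @Flat ⊓ @QuasiCompact) :=
    IsStableUnderBaseChange.inf
  have i3 : RespectsIso (C := Scheme.{u}) @UniversallyClosed := universallyClosed_respectsIso
  have i4 : DescendsAlong (C := Scheme.{u}) @UniversallyClosed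
      (@Surjective ⊓ @Flat ⊓ @QuasiCompact) := inferInstance
  exact instDescendsAlongDiagonalOfRespectsIsoOfIsStableUnderBaseChange _ _

/-- fpqc descent of properness -/
theorem isProper_of_pullback_snd_fpqc {X Y Y' : Scheme.{u}} (k : X ⟶ Y) (g : Y' ⟶ Y)
    [QuasiCompact g] [Flat g] [Surjective g] (h : IsProper (pullback.snd k g)) : IsProper k := by
  have hQ : (@Surjective ⊓ @Flat ⊓ @QuasiCompact : MorphismProperty Scheme.{u}) g :=
    ⟨⟨inferInstance, inferInstance⟩, inferInstance⟩
  have h1 : UniversallyClosed k :=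
    MorphismProperty.of_pullback_snd_of_descendsAlong (P := @UniversallyClosed)
      (Q := @Surjective ⊓ @Flat ⊓ @QuasiCompact) hQ inferInstance
  have h2 : LocallyOfFiniteType k :=
    MorphismProperty.of_pullback_snd_of_descendsAlong (P := @LocallyOfFiniteType)
      (Q := @Surjective ⊓ @Flat ⊓ @QuasiCompact) hQ inferInstance
  have h3 : MorphismProperty.diagonal (@UniversallyClosed : MorphismProperty Scheme.{u}) k := by
    have := descendsAlong_diagonal_universallyClosed.{u}
    refine MorphismProperty.of_pullback_snd_of_descendsAlong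
      (P := MorphismProperty.diagonal (@UniversallyClosed : MorphismProperty Scheme.{u}))
      (Q := @Surjective ⊓ @Flat ⊓ @QuasiCompact) hQ ?_
    show UniversallyClosed (pullback.diagonal (pullback.snd k g))
    have : IsClosedImmersion (pullback.diagonal (pullback.snd k g)) :=
      IsSeparated.isClosedImmersion_diagonal
    infer_instance
  have h4 : IsSeparated k := isSeparated_of_universallyClosed_diagonal k h3
  exact {}

/-- S1153 -/
theorem isProperOver_of_baseChange {X Y Y' : Scheme.{u}} (f : X ⟶ Y) [LocallyOfFiniteType f]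
    (Z : Set X) (hZ : IsClosed Z) (g : Y' ⟶ Y) [QuasiCompact g] [Flat g] [Surjective g]
    (h : ClSub.IsProperOver (pullback.snd f g) ((pullback.fst f g).base ⁻¹' Z)) :
    ClSub.IsProperOver f Z := by
  rw [isProperOver_iff f Z hZ]
  set ι := (red Z hZ).subschemeι with hι
  have e₁ : (ι ≫ f) ≫ 𝟙 Y = ι ≫ f := Category.comp_id _
  have e₂ : g ≫ 𝟙 Y = 𝟙 Y' ≫ g := by simp
  let j : pullback (ι ≫ f) g ⟶ pullback f g :=
    pullback.map (ι ≫ f) g f g ι (𝟙 Y') (𝟙 Y) e₁ e₂
  have hjsnd : j ≫ pullback.snd f g = pullback.snd (ι ≫ f) g :=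
    (pullback.lift_snd _ _ _).trans (Category.comp_id _)
  have hjfst : j ≫ pullback.fst f g = pullback.fst (ι ≫ f) g ≫ ι := pullback.lift_fst _ _ _
  -- the square j / fst / fst / ι is a pullback
  have hout : IsPullback (j ≫ pullback.snd f g) (pullback.fst (ι ≫ f) g) g (ι ≫ f) := by
    rw [hjsnd]
    exact (IsPullback.of_hasPullback (ι ≫ f) g).flip
  have hr := (IsPullback.of_hasPullback f g).flip
  have sq : IsPullback j (pullback.fst (ι ≫ f) g) (pullback.fst f g) ι :=
    IsPullback.of_right hout hjfst hr
  have hjc : IsClosedImmersion j := MorphismProperty.of_isPullback sq.flip inferInstance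
  have hjr : Set.range j.base = (pullback.fst f g).base ⁻¹' Z := by
    have := Scheme.image_preimage_eq_of_isPullback sq.flip Set.univ
    rw [Set.preimage_univ, Set.image_univ, Set.image_univ] at this
    rw [this, range_redι]
  have hp : IsProper (j ≫ pullback.snd f g) :=
    (isProperOver_tfae (pullback.snd f g) _ (hZ.preimage (Scheme.Hom.continuous _))).2.mp h _ j hjc
      hjr
  rw [hjsnd] at hp
  exact isProper_of_pullback_snd_fpqc (ι ≫ f) g hp

end Groth.Agent.Lib.Helper9.ProperOver
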