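import Mathlib.AlgebraicGeometry.Morphisms.Immersion
import Mathlib.AlgebraicGeometry.Morphisms.SchemeTheoreticallyDominant
import Mathlib.AlgebraicGeometry.Morphisms.FlatDescent
import Mathlib.AlgebraicGeometry.Morphisms.Descent

set_option autoImplicit false
universe u
open CategoryTheory CategoryTheory.Limits AlgebraicGeometry MorphismProperty

namespace Groth.Agent.Lib.Helper9.ImmDesc

/-- the canonical map to the scheme-theoretic image of a quasi-compact morphism is
scheme-theoretically dominant. -/
theorem isSchemeTheoreticallyDominant_toImage {X Y : Scheme.{u}} (f : X ⟶ Y) [QuasiCompact f] :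
    IsSchemeTheoreticallyDominant f.toImage := by
  rw [isSchemeTheoreticallyDominant_iff]
  have hU : ⨆ U : Y.affineOpens, (f.imageι ⁻¹ᵁ U.1) = ⊤ := by
    rw [← Scheme.Hom.preimage_iSup, ← top_le_iff]
    have : ⨆ U : Y.affineOpens, U.1 = ⊤ := by
      rw [← top_le_iff]
      exact fun x _ => by
        obtain ⟨_, ⟨V, hV, rfl⟩, hxV, -⟩ :=
          Y.isBasis_affineOpens.exists_subset_of_mem_open (Set.mem_univ x) isOpen_univ
        exact TopologicalSpace.Opens.mem_iSup.2 ⟨⟨V, hV⟩, hxV⟩
    rw [this]
    exact le_rfl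
  refine Scheme.IdealSheafData.ext_of_iSup_eq_top
    (fun U : Y.affineOpens => ⟨f.imageι ⁻¹ᵁ U.1, U.2.preimage f.imageι⟩) hU ?_
  intro U
  rw [Scheme.Hom.ker_apply]
  simp only [Scheme.IdealSheafData.ideal_bot, Pi.bot_apply]
  rw [← RingHom.injective_iff_ker_eq_bot]
  exact f.toImage_app_injective U

theorem isOpenImmersion_of_isImmersion_of_dominant {X Z : Scheme.{u}} (t : X ⟶ Z)
    [IsImmersion t] [QuasiCompact t] [IsSchemeTheoreticallyDominant t] : IsOpenImmersion t := by
  have h1 : IsIso t.imageι := by
    rw [Scheme.Hom.imageι, Scheme.isIso_subschemeι_iff_eq_bot]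
    exact t.ker_eq_bot
  rw [← t.toImage_imageι]
  infer_instance

set_option backward.isDefEq.respectTransparency.types false in
theorem descendsAlong_quasiCompact_immersion :
    DescendsAlong (@IsImmersion ⊓ @QuasiCompact : MorphismProperty Scheme.{u})
      (@Surjective ⊓ @Flat ⊓ @QuasiCompact : MorphismProperty Scheme.{u}) := by
  apply DescendsAlong.mk'
  intro Y' X Y q f _ hq hf
  obtain ⟨hfi, hfq⟩ := hf
  have hq1 : Surjective q := hq.1.1
  have hq2 : Flat q := hq.1.2
  have hq3 : QuasiCompact q := hq.2
  have hfqc : QuasiCompact f := by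
    refine ⟨fun U hU hUc => ?_⟩
    have h1 : IsCompact (q ⁻¹' U) := QuasiCompact.isCompact_preimage U hU hUc
    have h2 : IsCompact ((pullback.fst q f) ⁻¹' (q ⁻¹' U)) :=
      QuasiCompact.isCompact_preimage _ (hU.preimage q.continuous) h1
    have h3 : f ⁻¹' U = (pullback.snd q f) '' ((pullback.fst q f) ⁻¹' (q ⁻¹' U)) := by
      ext x; constructor
      · intro hx
        obtain ⟨z, rfl⟩ := (pullback.snd q f).surjective x
        refine ⟨z, ?_, rfl⟩
        change q (pullback.fst q f z) ∈ U
        rw [← Scheme.Hom.comp_apply, pullback.condition]; exact hx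
      · rintro ⟨z, hz, rfl⟩
        change f (pullback.snd q f z) ∈ U
        rw [← Scheme.Hom.comp_apply, ← pullback.condition]; exact hz
    rw [h3]; exact h2.image (pullback.snd q f).continuous
  have hdom : IsSchemeTheoreticallyDominant f.toImage := isSchemeTheoreticallyDominant_toImage f
  let t' : pullback q f ⟶ pullback q f.imageι :=
    pullback.map q f q f.imageι (𝟙 _) f.toImage (𝟙 _) (by simp) (by simp [f.toImage_imageι])
  have ht'1 : t' ≫ pullback.fst q f.imageι = pullback.fst q f :=
    (pullback.lift_fst _ _ _).trans (Category.comp_id _)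
  have ht'2 : t' ≫ pullback.snd q f.imageι = pullback.snd q f ≫ f.toImage :=
    pullback.lift_snd _ _ _
  have sq : IsPullback t' (pullback.snd q f) (pullback.snd q f.imageι) f.toImage := by
    refine IsPullback.of_right ?_ ht'2 (IsPullback.of_hasPullback q f.imageι)
    rw [ht'1, f.toImage_imageι]
    exact IsPullback.of_hasPullback q f
  have h1 : IsSchemeTheoreticallyDominant t' := .of_isPullback sq.flip
  have h2 : QuasiCompact t' := MorphismProperty.of_isPullback (P := @QuasiCompact) sq.flip
    inferInstance
  have h3 : IsImmersion t' := by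
    have : IsImmersion (t' ≫ pullback.fst q f.imageι) := by rw [ht'1]; exact hfi
    exact IsImmersion.of_comp t' (pullback.fst q f.imageι)
  have h4 : IsOpenImmersion t' := isOpenImmersion_of_isImmersion_of_dominant t'
  have h5 : IsOpenImmersion f.toImage :=
    of_isPullback_of_descendsAlong (P := @IsOpenImmersion)
      (Q := (@Surjective ⊓ @Flat ⊓ @QuasiCompact : MorphismProperty Scheme.{u})) sq
      ⟨⟨inferInstance, inferInstance⟩, inferInstance⟩ h4
  refine ⟨?_, hfqc⟩
  rw [← f.toImage_imageι]
  infer_instance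

end Groth.Agent.Lib.Helper9.ImmDesc
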