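import Mathlib
set_option autoImplicit false
set_option linter.style.haveILetI false
set_option linter.unusedSectionVars false
universe u v w
open CategoryTheory CategoryTheory.Limits AlgebraicGeometry TopologicalSpace Opposite

namespace Groth.Agent.Lib.Helper9.FlatLim

section ring

variable {J : Type v} [Category.{w} J] [IsCofiltered J]
  {R : Type u} [CommRing R]
  {A : J → Type u} [∀ j, CommRing (A j)] {B : Type u} [CommRing B]
  (φ : ∀ {j k : J}, (j ⟶ k) → (A k →+* A j)) (ι : ∀ j, A j →+* B)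
  (hι : ∀ {j k : J} (f : j ⟶ k) (b : A k), ι j (φ f b) = ι k b)
  (hsurj : ∀ b : B, ∃ (j : J) (x : A j), ι j x = b)
  (hinj : ∀ (j : J) (x : A j), ι j x = 0 → ∃ (k : J) (f : k ⟶ j), φ f x = 0)
  (a : ∀ j, R →+* A j) (ha : ∀ {j k : J} (f : j ⟶ k) (r : R), φ f (a k r) = a j r)
  (hflat : ∀ j, (a j).Flat) (g : R →+* B) (hg : ∀ j r, ι j (a j r) = g r)

include hι hsurj hinj ha hflat hg in
lemma flat_of_colim : g.Flat := by
  classical
  letI := g.toAlgebra
  change Module.Flat R B
  apply Module.Flat.of_forall_isTrivialRelation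
  intro l f x hx
  choose ki xi hxi using hsurj
  obtain ⟨k, hk⟩ := IsCofiltered.inf_objs_exists (Finset.univ.image fun i : Fin l => ki (x i))
  have hk' : ∀ i, Nonempty (k ⟶ ki (x i)) := fun i =>
    hk (Finset.mem_image_of_mem _ (Finset.mem_univ i))
  let y : Fin l → A k := fun i => φ (hk' i).some (xi (x i))
  have hy : ∀ i, ι k (y i) = x i := fun i => by rw [hι, hxi]
  have h0 : ι k (∑ i, a k (f i) * y i) = 0 := by
    rw [map_sum, ← hx]
    refine Finset.sum_congr rfl fun i _ => ?_
    rw [map_mul, hy, hg, Algebra.smul_def]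
    rfl
  obtain ⟨m, t, hm⟩ := hinj k _ h0
  rw [map_sum] at hm
  letI := (a m).toAlgebra
  haveI : Module.Flat R (A m) := hflat m
  have hm' : ∑ i, f i • φ t (y i) = 0 := by
    rw [← hm]
    refine Finset.sum_congr rfl fun i _ => ?_
    rw [map_mul, ha, Algebra.smul_def]
    rfl
  obtain ⟨n, c, z, hz1, hz2⟩ := Module.Flat.isTrivialRelation_of_sum_smul_eq_zero
    (R := R) (M := A m) (f := f) (x := fun i => φ t (y i)) (by exact hm')
  refine ⟨n, c, fun j => ι m (z j), fun i => ?_, hz2⟩
  have h1 : φ t (y i) = ∑ j, c i j • z j := hz1 i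
  rw [← hy i, ← hι t, h1, map_sum]
  refine Finset.sum_congr rfl fun j _ => ?_
  rw [Algebra.smul_def, map_mul, Algebra.smul_def]
  congr 1
  exact hg m _

end ring

section affine

variable {J : Type u} [SmallCategory J] [IsCofiltered J] (E : J ⥤ Scheme.{u})
  (e : Cone E) (he : IsLimit e) [∀ j, IsAffine (E.obj j)]

include he in
lemma flat_π_of_isAffine (j₀ : J) (hfl : ∀ (k : J) (f : k ⟶ j₀), Flat (E.map f)) :
    Flat (e.π.app j₀) := by
  have : IsAffine e.pt := Scheme.isAffine_of_isLimit e he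
  let E' : Over j₀ ⥤ Scheme.{u} := Over.forget j₀ ⋙ E
  have hE' : ∀ k, IsAffine (E'.obj k) := fun k => inferInstanceAs (IsAffine (E.obj k.left))
  let e' : Cone E' := e.whisker (Over.forget j₀)
  have he' : IsLimit e' := (Functor.Initial.isLimitWhiskerEquiv (Over.forget j₀) e).symm he
  have key : (e.π.app j₀).appTop.hom.Flat := by
    refine flat_of_colim (J := Over j₀) (R := Γ(E.obj j₀, ⊤))
      (A := fun k => Γ(E.obj k.left, ⊤)) (B := Γ(e.pt, ⊤))
      (fun {j k} (f : j ⟶ k) => (E.map (CommaMorphism.left f)).appTop.hom)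
      (fun k => (e.π.app k.left).appTop.hom)
      ?_ ?_ ?_ (fun k => (E.map k.hom).appTop.hom) ?_ ?_ _ ?_
    · intro j k f b
      have := e.w f.left
      rw [← this, Scheme.Hom.comp_appTop]
      rfl
    · intro b
      exact exists_appTop_π_eq_of_isAffine_of_isLimit E' e' he' b
    · intro k x hx
      exact exists_appTop_map_eq_zero_of_isAffine_of_isLimit E' e' he' k x hx
    · intro j k f r
      have h1 : E.map f.left ≫ E.map k.hom = E.map j.hom := by
        rw [← E.map_comp, Over.w f]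
      rw [← h1, Scheme.Hom.comp_appTop]
      rfl
    · intro k
      have := hfl k.left k.hom
      exact (HasRingHomProperty.iff_of_isAffine (P := @Flat)).1 this
    · intro k r
      have := e.w k.hom
      rw [← this, Scheme.Hom.comp_appTop]
      rfl
  exact (HasRingHomProperty.iff_of_isAffine (P := @Flat) (X := e.pt) (Y := E.obj j₀)
    (f := e.π.app j₀)).2 key

end affine

section general

variable {I : Type u} [SmallCategory I] [IsCofiltered I] (D : I ⥤ Scheme.{u})
  (c : Cone D) (hc : IsLimit c) [∀ {i j : I} (f : i ⟶ j), IsAffineHom (D.map f)]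

include hc in
theorem flat_π (i : I) (hf : ∀ (j : I) (φ : j ⟶ i), Flat (D.map φ)) : Flat (c.π.app i) := by
  have hsup : (⨆ U : (D.obj i).affineOpens, (U.1 : (D.obj i).Opens)) = ⊤ := by
    apply top_le_iff.1
    intro x _
    obtain ⟨_, ⟨V, hV, rfl⟩, hxV, -⟩ := (D.obj i).isBasis_affineOpens.exists_subset_of_mem_open
      (Set.mem_univ x) isOpen_univ
    exact Opens.mem_iSup.2 ⟨⟨V, hV⟩, hxV⟩
  refine (IsZariskiLocalAtTarget.iff_of_iSup_eq_top (P := @Flat) (Y := D.obj i)
    (fun U : (D.obj i).affineOpens => U.1) hsup).2 fun U => ?_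
  have hE : ∀ j : Over i, IsAffine ((opensDiagram D i U.1).obj j) := fun j =>
    U.2.preimage (D.map _)
  have h1 : Flat ((opensCone D c i U.1).π.app (Over.mk (𝟙 i))) := by
    apply flat_π_of_isAffine (opensDiagram D i U.1) (opensCone D c i U.1)
      (isLimitOpensCone D c hc i U.1)
    intro k f
    have : Flat (D.map f.left) := hf _ _
    change Flat ((D.map f.left).resLE _ _ _)
    infer_instance
  have h2 : D.map (𝟙 i) ⁻¹ᵁ U.1 = U.1 := by simp
  let r : (c.π.app i ⁻¹ᵁ U.1).toScheme ⟶ (D.map (𝟙 i) ⁻¹ᵁ U.1).toScheme :=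
    (opensCone D c i U.1).π.app (Over.mk (𝟙 i))
  have hr : Flat r := h1
  have hr' : r ≫ (D.map (𝟙 i) ⁻¹ᵁ U.1).ι = (c.π.app i ⁻¹ᵁ U.1).ι ≫ c.π.app i :=
    Scheme.Hom.resLE_comp_ι _ _
  have h3 : c.π.app i ∣_ U.1 = r ≫ (Scheme.isoOfEq _ h2).hom := by
    rw [← cancel_mono U.1.ι, Category.assoc, Scheme.isoOfEq_hom_ι, hr']
    simp
  rw [h3]
  exact MorphismProperty.comp_mem (W := @Flat) _ _ hr inferInstance

end general

end Groth.Agent.Lib.Helper9.FlatLim
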