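import Groth.Agent.Lib.Helper9.HSheaf2
import Groth.Prelude.Def_CInt
import Mathlib.AlgebraicGeometry.Fiber

namespace Groth.Agent.Lib.Helper9.SchDenseEq

open CategoryTheory CategoryTheory.Limits AlgebraicGeometry TopologicalSpace
open Groth.Agent.Lib.Helper9.VCov

universe u

theorem res_zero {X : Scheme.{u}} {V W₁ W₂ : X.Opens} (h₁ : W₁ ≤ V) (h₂ : W₂ ≤ W₁) (a : Γ(X, V))
    (h : X.presheaf.map (homOfLE h₁).op a = 0) :
    X.presheaf.map (homOfLE (h₂.trans h₁)).op a = 0 := by
  have : X.presheaf.map (homOfLE (h₂.trans h₁)).op =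
      X.presheaf.map (homOfLE h₁).op ≫ X.presheaf.map (homOfLE h₂).op := by
    rw [← Functor.map_comp]; rfl
  rw [this, CommRingCat.comp_apply, h, map_zero]

set_option backward.isDefEq.respectTransparency.types false in
theorem app_eq_zero_of_factor {W Z X : Scheme.{u}} (l : W ⟶ Z) (i : Z ⟶ X) (j : W ⟶ X)
    (hj : l ≫ i = j) (V : X.Opens) (a : Γ(X, V)) (ha : i.app V a = 0) : j.app V a = 0 := by
  subst hj
  have e := Scheme.Hom.comp_app l i V
  have e2 : (l ≫ i).app V a = (l.app (i ⁻¹ᵁ V)) ((i.app V) a) := by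
    rw [e]; rfl
  rw [e2, ha]
  exact map_zero _

set_option backward.isDefEq.respectTransparency.types false in
/-- a closed immersion through which a schematically dense open factors is an isomorphism -/
theorem isIso_of_isClosedImmersion_of_schDense {X Z : Scheme.{u}} (i : Z ⟶ X)
    [IsClosedImmersion i] (U : X.Opens) (hU : CInt.IsSchematicallyDense U)
    (l : U.toScheme ⟶ Z) (hl : l ≫ i = U.ι) : IsIso i := by
  rw [IsClosedImmersion.isIso_iff_ker_eq_bot]
  ext V a
  simp only [Scheme.Hom.ker_apply, RingHom.mem_ker, Scheme.IdealSheafData.ideal_bot,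
    Pi.bot_apply, Ideal.mem_bot]
  constructor
  · intro ha
    apply hU V.1
    rw [map_zero]
    have h1 : U.ι.app V.1 a = 0 := app_eq_zero_of_factor l i U.ι hl V.1 a ha
    have hle : V.1 ⊓ U ≤ U.ι ''ᵁ U.ι ⁻¹ᵁ V.1 := by
      rintro x ⟨hxV, hxU⟩
      exact ⟨⟨x, hxU⟩, hxV, rfl⟩
    have hle' : U.ι ''ᵁ U.ι ⁻¹ᵁ V.1 ≤ V.1 := Set.image_preimage_subset _ _
    exact res_zero hle' hle a h1
  · rintro rfl
    exact map_zero _


set_option backward.isDefEq.respectTransparency.types false in
/-- two morphisms over a base with separated target agreeing on a schematically dense open agree -/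
theorem eq_of_eq_on_schDense_of_isSeparated {X Y B : Scheme.{u}} (q : Y ⟶ B) [IsSeparated q]
    (a b : X ⟶ Y) (hab : a ≫ q = b ≫ q) (U : X.Opens) (hU : CInt.IsSchematicallyDense U)
    (h : U.ι ≫ a = U.ι ≫ b) : a = b := by
  obtain ⟨l, hl⟩ := exists_lift_eqι q a b hab U.ι h
  haveI : IsIso (eqι q a b hab) := isIso_of_isClosedImmersion_of_schDense _ U hU l hl
  rw [← cancel_epi (eqι q a b hab)]
  exact eqι_comp q a b hab


set_option backward.isDefEq.respectTransparency.types false in
theorem schDense_of_preimage_iso {P X : Scheme.{u}} (e : P ⟶ X) [IsIso e] (U : X.Opens)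
    (h : CInt.IsSchematicallyDense (e ⁻¹ᵁ U)) : CInt.IsSchematicallyDense U := by
  intro V
  rw [injective_iff_map_eq_zero]
  intro a ha
  have hinj : Function.Injective (e.app V) :=
    ((ConcreteCategory.isIso_iff_bijective (e.app V)).mp inferInstance).1
  apply hinj
  rw [map_zero]
  apply h (e ⁻¹ᵁ V)
  rw [map_zero]
  have hnat := e.naturality (homOfLE (inf_le_left : V ⊓ U ≤ V)).op
  have h2 : P.presheaf.map (homOfLE (inf_le_left : e ⁻¹ᵁ V ⊓ e ⁻¹ᵁ U ≤ e ⁻¹ᵁ V)).op (e.app V a) =
      e.app (V ⊓ U) (X.presheaf.map (homOfLE (inf_le_left : V ⊓ U ≤ V)).op a) := by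
    have := congrArg (fun φ => φ a) (congrArg (fun φ => φ.hom) hnat)
    simp only [CommRingCat.hom_comp, RingHom.coe_comp, Function.comp_apply] at this
    exact this.symm
  rw [h2, ha]
  exact map_zero _

set_option backward.isDefEq.respectTransparency.types false in
theorem eq_of_eq_on_relSchDense_of_fibres_separated (S : Scheme.{u}) (X Y : Over S)
    (U : X.left.Opens)
    (hU : ∀ (S' : Scheme.{u}) (g : S' ⟶ S),
      CInt.IsSchematicallyDense ((pullback.fst X.hom g) ⁻¹ᵁ U))
    (hY : ∀ s : S, IsSeparated (pullback.snd Y.hom (S.fromSpecResidueField s)))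
    (f g : X ⟶ Y) (h : U.ι ≫ f.left = U.ι ≫ g.left) : f = g := by
  have hfg : f.left ≫ Y.hom = g.left ≫ Y.hom := by rw [Over.w f, Over.w g]
  -- the equalizer immersion
  let ι := eqι Y.hom f.left g.left hfg
  haveI : IsImmersion ι := MorphismProperty.pullback_fst _ _ inferInstance
  -- surjectivity via fibres
  have hsurj : Function.Surjective ι := by
    intro x
    let s : S := X.hom x
    let k := S.fromSpecResidueField s
    let p : pullback X.hom k ⟶ X.left := pullback.fst X.hom k
    let qY : pullback Y.hom k ⟶ Y.left := pullback.fst Y.hom k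
    let fs : pullback X.hom k ⟶ pullback Y.hom k :=
      pullback.lift (p ≫ f.left) (pullback.snd X.hom k) (by
        rw [Category.assoc, Over.w f]; exact pullback.condition)
    let gs : pullback X.hom k ⟶ pullback Y.hom k :=
      pullback.lift (p ≫ g.left) (pullback.snd X.hom k) (by
        rw [Category.assoc, Over.w g]; exact pullback.condition)
    haveI := hY s
    have hfs : fs = gs := by
      refine eq_of_eq_on_schDense_of_isSeparated (pullback.snd Y.hom k) fs gs ?_ (p ⁻¹ᵁ U)
        (hU _ k) ?_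
      · simp only [fs, gs, pullback.lift_snd]
      · apply pullback.hom_ext
        · simp only [fs, gs, Category.assoc, pullback.lift_fst]
          rw [← morphismRestrict_ι_assoc, ← morphismRestrict_ι_assoc, h]
        · simp only [fs, gs, Category.assoc, pullback.lift_snd]
    have hp : p ≫ f.left = p ≫ g.left := by
      have h1 : fs ≫ qY = p ≫ f.left := pullback.lift_fst _ _ _
      have h2 : gs ≫ qY = p ≫ g.left := pullback.lift_fst _ _ _
      rw [← h1, ← h2, hfs]
    obtain ⟨l, hl⟩ := exists_lift_eqι Y.hom f.left g.left hfg p hp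
    have hx : x ∈ Set.range p := by
      have := X.hom.range_fiberι s
      change Set.range p = _ at this
      rw [this]
      rfl
    obtain ⟨z, hz⟩ := hx
    refine ⟨l z, ?_⟩
    rw [← hz, ← hl]
    rfl
  haveI : IsClosedImmersion ι := by
    apply IsClosedImmersion.of_isPreimmersion
    rw [Set.range_eq_univ.mpr hsurj]
    exact isClosed_univ
  obtain ⟨l, hl⟩ := exists_lift_eqι Y.hom f.left g.left hfg U.ι h
  haveI : IsIso ι := isIso_of_isClosedImmersion_of_schDense ι U
    (schDense_of_preimage_iso (pullback.fst X.hom (𝟙 S)) U (hU S (𝟙 S))) l hl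
  apply Over.OverMorphism.ext
  rw [← cancel_epi ι]
  exact eqι_comp Y.hom f.left g.left hfg

end Groth.Agent.Lib.Helper9.SchDenseEq
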