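import Mathlib
import Groth.Prelude.Def_AlgSpMor5
import Groth.Agent.Lib.Helper3.AlgSpProper
import Groth.Agent.Lib.Helper3.AlgSpLocSrc2
import Groth.Agent.Lib.Helper3.AlgSpHasAtMor
import Groth.Agent.S9923

set_option autoImplicit false
universe u
open CategoryTheory CategoryTheory.Limits AlgebraicGeometry IsLocalRing
open AlgSp
open Groth.Agent.Lib.Helper3

namespace Groth.Agent.Lib.Helper9.AlgSpVC

variable {S : Scheme.{u}}

/-- image of a closed set under a morphism from a quasi-compact scheme to an affine scheme is closed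
as soon as it is stable under specialization -/
theorem isClosed_image_of_stableUnderSpecialization {X Y : Scheme.{u}} (f : X ⟶ Y)
    [CompactSpace X] [IsAffine Y] (Z : Set X) (hZ : IsClosed Z)
    (H : StableUnderSpecialization (f '' Z)) : IsClosed (f '' Z) := by
  obtain ⟨R, g, hg⟩ := compactSpace_iff_exists.mp (inferInstance : CompactSpace X)
  let F : Spec R ⟶ Spec Γ(Y, ⊤) := g ≫ f ≫ Y.isoSpec.hom
  obtain ⟨φ, hφ⟩ := Spec.homEquiv.symm.surjective F
  have himg : F '' (g ⁻¹' Z) = Y.isoSpec.hom '' (f '' Z) := by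
    simp only [F, Scheme.Hom.comp_base, TopCat.coe_comp, Set.image_comp]
    rw [Set.image_preimage_eq _ hg]
  have hhomeo : IsHomeomorph Y.isoSpec.hom := (Y.isoSpec.hom).homeomorph.isHomeomorph
  have H' : StableUnderSpecialization (F '' (g ⁻¹' Z)) := by
    rw [himg]
    intro a b hab ha
    obtain ⟨a', ha', rfl⟩ := ha
    obtain ⟨b', rfl⟩ := hhomeo.surjective b
    refine ⟨b', ?_, rfl⟩
    apply H _ ha'
    exact (hhomeo.isInducing.specializes_iff).1 hab
  have hcl : IsClosed (F '' (g ⁻¹' Z)) := by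
    rw [← hφ] at H' ⊢
    exact PrimeSpectrum.isClosed_image_of_stableUnderSpecialization φ.hom _
      (hZ.preimage g.continuous) H'
  rw [himg] at hcl
  have := hcl.preimage Y.isoSpec.hom.continuous
  rwa [Set.preimage_image_eq _ hhomeo.injective] at this


set_option backward.isDefEq.respectTransparency.types false in
theorem exists_valuationRing_of_specializes {U Z : Scheme.{u}} (h : U ⟶ Z) (u' : U) (z : Z)
    (hs : h u' ⤳ z) :
    ∃ (A : ValuationSubring (U.residueField u')) (iA : Spec (.of A) ⟶ Z),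
      U.fromSpecResidueField u' ≫ h =
        Spec.map (CommRingCat.ofHom (algebraMap A (U.residueField u'))) ≫ iA ∧
      iA (closedPoint A) = z := by
  let stalk_y_to_residue_x' : Z.presheaf.stalk z ⟶ U.residueField u' :=
    Z.presheaf.stalkSpecializes hs ≫ h.stalkMap u' ≫ U.residue u'
  obtain ⟨A, hA, hA_local⟩ := exists_factor_valuationRing stalk_y_to_residue_x'.hom
  let stalk_y_to_A : Z.presheaf.stalk z ⟶ .of A :=
    CommRingCat.ofHom (stalk_y_to_residue_x'.hom.codRestrict _ hA)
  have w : U.fromSpecResidueField u' ≫ h =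
      Spec.map (CommRingCat.ofHom (algebraMap A (U.residueField u'))) ≫
        Spec.map stalk_y_to_A ≫ Z.fromSpecStalk z := by
    rw [Scheme.fromSpecResidueField, Category.assoc, ← Scheme.SpecMap_stalkMap_fromSpecStalk,
      ← Scheme.SpecMap_stalkSpecializes_fromSpecStalk hs]
    simp_rw [← Spec.map_comp_assoc]
    rfl
  refine ⟨A, Spec.map stalk_y_to_A ≫ Z.fromSpecStalk z, w, ?_⟩
  simp only [Scheme.Hom.comp_base, TopCat.coe_comp, Function.comp_apply]
  have : Spec.map stalk_y_to_A (closedPoint A) = closedPoint (Z.presheaf.stalk z) :=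
    comap_closedPoint (S := A) (stalk_y_to_residue_x'.hom.codRestrict A.toSubring hA)
  rw [this, Z.fromSpecStalk_closedPoint]

theorem ofPt_yon_map {T T' : Over S} (φ : T ⟶ T') (t : ↥T.left) :
    Points.ofPt ((yon S).map φ) t = Points.schemeHomeo T' (φ.left t) := by
  have := Points.ofPt_yon_map_comp φ (𝟙 _) t
  rw [Category.comp_id] at this
  rw [this]
  rfl

/-- the key step: the image of a closed set of points of `P` in `Z` is stable under specialization -/
theorem key {X Y : Space S} (f : X ⟶ Y) (he : ExistVC f.hom)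
    {Z : Over S} (g : (yon S).obj Z ⟶ Y.obj) {P : Sp S} (fst : P ⟶ X.obj)
    (snd : P ⟶ (yon S).obj Z) (sq : IsPullback fst snd f.hom g)
    {U : Over S} (a : (yon S).obj U ⟶ P) (has : RepWith @Surjective a)
    (h : U ⟶ Z) (hh : (yon S).map h = a ≫ snd) (T : Set (Points P)) (hT : IsClosed T)
    (u' : U.left) (hu' : Points.ofPt a u' ∈ T) (z : Z.left) (hs : h.left u' ⤳ z) :
    ∃ u₁ : U.left, Points.ofPt a u₁ ∈ T ∧ h.left u₁ = z := by
  obtain ⟨A, iA, w, hcl⟩ := exists_valuationRing_of_specializes h.left u' z hs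
  -- the valuative square
  let str : Spec (.of A) ⟶ S := iA ≫ Z.hom
  let φA : Over.mk str ⟶ Z := Over.homMk iA rfl
  have hwS : U.left.fromSpecResidueField u' ≫ U.hom =
      Spec.map (CommRingCat.ofHom (algebraMap A (U.left.residueField u'))) ≫ str := by
    rw [← Over.w h, ← Category.assoc, w, Category.assoc]
  let φK : Over.mk (Spec.map (CommRingCat.ofHom (algebraMap A (U.left.residueField u'))) ≫ str) ⟶ U :=
    Over.homMk (U.left.fromSpecResidueField u') hwS
  let vsq : ValSq f.hom :=
    { A := A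
      K := U.left.residueField u'
      str := str
      top := (yon S).map φK ≫ a ≫ fst
      bot := (yon S).map φA ≫ g
      comm := by
        have e1 : φK ≫ h = (Over.homMk (Spec.map (CommRingCat.ofHom
            (algebraMap A (U.left.residueField u')))) rfl : _ ⟶ Over.mk str) ≫ φA := by
          ext
          exact w
        calc ((yon S).map φK ≫ a ≫ fst) ≫ f.hom
            = (yon S).map φK ≫ a ≫ (fst ≫ f.hom) := by simp only [Category.assoc]
          _ = (yon S).map φK ≫ (a ≫ snd) ≫ g := by rw [sq.w]; simp only [Category.assoc]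
          _ = (yon S).map (φK ≫ h) ≫ g := by rw [← hh, Functor.map_comp, Category.assoc]
          _ = _ := by rw [e1, Functor.map_comp, Category.assoc] }
  obtain ⟨e, l, hl1, hl2⟩ := he vsq
  let φA' : e.ptA' ⟶ Over.mk str := Over.homMk (Spec.map (CommRingCat.ofHom e.φ)) rfl
  let jA' : e.ptK' ⟶ e.ptA' := Over.homMk (Spec.map (CommRingCat.ofHom (algebraMap e.A' e.K'))) rfl
  have hψ : Spec.map (CommRingCat.ofHom e.ψ) ≫
      (Spec.map (CommRingCat.ofHom (algebraMap A (U.left.residueField u'))) ≫ str) =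
      Spec.map (CommRingCat.ofHom (algebraMap e.A' e.K')) ≫ Spec.map (CommRingCat.ofHom e.φ) ≫ str := by
    rw [← Spec.map_comp_assoc, ← Spec.map_comp_assoc, ← CommRingCat.ofHom_comp,
      ← CommRingCat.ofHom_comp]
    exact congrArg (fun r => Spec.map (CommRingCat.ofHom r) ≫ str) e.comm.symm
  let ψK : e.ptK' ⟶ Over.mk (Spec.map (CommRingCat.ofHom (algebraMap A (U.left.residueField u'))) ≫ str) :=
    Over.homMk (Spec.map (CommRingCat.ofHom e.ψ)) hψ
  have hl2' : l ≫ f.hom = (yon S).map (φA' ≫ φA) ≫ g := by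
    rw [Functor.map_comp, Category.assoc]
    exact hl2
  have hl1' : (yon S).map jA' ≫ l = (yon S).map (ψK ≫ φK) ≫ a ≫ fst := by
    rw [Functor.map_comp, Category.assoc]
    exact hl1
  let l' : (yon S).obj e.ptA' ⟶ P := sq.lift l ((yon S).map (φA' ≫ φA)) hl2'
  have hl'1 : l' ≫ fst = l := sq.lift_fst _ _ _
  have hl'2 : l' ≫ snd = (yon S).map (φA' ≫ φA) := sq.lift_snd _ _ _
  -- the two points
  let c : e.ptA'.left := closedPoint e.A'
  let pt : e.ptK'.left := closedPoint e.K'
  have hη : jA'.left pt ⤳ c := specializes_closedPoint _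
  have hx₀₁ : Points.ofPt l' (jA'.left pt) ⤳ Points.ofPt l' c := hη.map (Points.continuous_ofPt l')
  have hOver : jA' ≫ φA' ≫ φA = ψK ≫ φK ≫ h := by
    ext
    change Spec.map (CommRingCat.ofHom (algebraMap e.A' e.K')) ≫ Spec.map (CommRingCat.ofHom e.φ) ≫ iA =
      Spec.map (CommRingCat.ofHom e.ψ) ≫ U.left.fromSpecResidueField u' ≫ h.left
    rw [w, ← Spec.map_comp_assoc, ← Spec.map_comp_assoc, ← CommRingCat.ofHom_comp,
      ← CommRingCat.ofHom_comp]
    exact congrArg (fun r => Spec.map (CommRingCat.ofHom r) ≫ iA) e.comm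
  have hfac : (yon S).map jA' ≫ l' = (yon S).map (ψK ≫ φK) ≫ a := by
    apply sq.hom_ext
    · rw [Category.assoc, hl'1, hl1', Category.assoc]
    · rw [Category.assoc, hl'2, Category.assoc, ← hh, ← Functor.map_comp, ← Functor.map_comp,
        hOver, Category.assoc]
  have hx₀ : Points.ofPt l' (jA'.left pt) = Points.ofPt a u' := by
    rw [← Points.ofPt_yon_map_comp, hfac, Points.ofPt_yon_map_comp]
    congr 1
    change U.left.fromSpecResidueField u' (Spec.map (CommRingCat.ofHom e.ψ) pt) = u'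
    exact Scheme.fromSpecResidueField_apply _ _
  have hx₁ : Points.ofPt l' c ∈ T :=
    hT.stableUnderSpecialization hx₀₁ (by rw [hx₀]; exact hu')
  obtain ⟨u₁, hu₁⟩ := exists_ofPt_eq a has (Points.ofPt l' c)
  refine ⟨u₁, by rw [hu₁]; exact hx₁, ?_⟩
  apply (Points.schemeHomeo Z).injective
  rw [← ofPt_yon_map h u₁, hh, ← Points.map_ofPt, hu₁, Points.map_ofPt, hl'2, ofPt_yon_map]
  congr 1
  change iA (Spec.map (CommRingCat.ofHom e.φ) (closedPoint e.A')) = z
  have : IsLocalHom e.φ := e.isLocalHom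
  rw [show Spec.map (CommRingCat.ofHom e.φ) (closedPoint e.A') = closedPoint A from
    comap_closedPoint e.φ]
  exact hcl

theorem isUnivClosedMor_of_quasiCompact_existVC {X Y : Space S} (f : X ⟶ Y)
    (hq : IsQuasiCompactMor f.hom) (he : ExistVC f.hom) : IsUnivClosedMor f.hom := by
  rw [Groth.Agent.S9923.isUnivClosedMor_iff_affine]
  intro Z hZ g P fst snd sq
  have hZa : IsAffine Z.left := hZ
  have hqcP : IsQuasiCompactSp P :=
    hq (IsAlgSpace.yon_obj Z) (isQuasiCompactSp_yon (inferInstance : CompactSpace ↥Z.left))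
      g fst snd sq
  obtain ⟨U, a, hae, has, hUc⟩ := hqcP
  have hUc' : CompactSpace ↥U.left := hUc
  obtain ⟨h, hh⟩ := (yon S).map_surjective (a ≫ snd)
  intro T hT
  have hT' : IsClosed (Points.ofPt a ⁻¹' T) := hT.preimage (Points.continuous_ofPt a)
  have himg : Points.map snd '' T = Points.schemeHomeo Z '' (h.left '' (Points.ofPt a ⁻¹' T)) := by
    ext y
    constructor
    · rintro ⟨x, hx, rfl⟩
      obtain ⟨u, rfl⟩ := exists_ofPt_eq a has x
      refine ⟨h.left u, ⟨u, hx, rfl⟩, ?_⟩
      rw [← ofPt_yon_map h u, hh]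
      rfl
    · rintro ⟨_, ⟨u, hu, rfl⟩, rfl⟩
      refine ⟨Points.ofPt a u, hu, ?_⟩
      rw [← ofPt_yon_map h u, hh]
      rfl
  rw [himg]
  apply (Points.schemeHomeo Z).isClosedMap
  apply isClosed_image_of_stableUnderSpecialization h.left _ hT'
  rintro z' z hs ⟨u', hu', rfl⟩
  obtain ⟨u₁, hu₁, rfl⟩ := key f he g fst snd sq a has h hh T hT u' hu' z hs
  exact ⟨u₁, hu₁, rfl⟩

end Groth.Agent.Lib.Helper9.AlgSpVC
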