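import Groth.Prelude.Def_AlgSpMor5
import Groth.Agent.Lib.Helper3.AlgSpProper
import Groth.Agent.Lib.Helper3.AlgSpLocSrc2
import Groth.Agent.Lib.Helper3.AlgSpHasAtMor
import Groth.Agent.Lib.Helper3.AlgSpLocP4
import Groth.Agent.Lib.Helper9.AlgSpVC

set_option autoImplicit false
universe u
open CategoryTheory CategoryTheory.Limits AlgebraicGeometry IsLocalRing
open AlgSp
open Groth.Agent.Lib.Helper3

namespace Groth.Agent.Lib.Helper9.AlgSpVC4

variable {S : Scheme.{u}}

theorem exists_lift_valuationRing_of_flat {X Y : Space S} (f : X ⟶ Y)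
    (hf : LocP @Flat f.hom) (A : Type u) [CommRing A] [IsDomain A] [ValuationRing A]
    (str : Spec (.of A) ⟶ S) (b : (yon S).obj (Over.mk str) ⟶ Y.obj)
    (hb : Points.ofPt b (closedPoint A) ∈ Set.range (Points.map f.hom)) :
    ∃ (A' : Type u) (_ : CommRing A') (_ : IsDomain A') (_ : ValuationRing A') (φ : A →+* A'),
      Function.Injective φ ∧ IsLocalHom φ ∧
      ∃ l : (yon S).obj (Over.mk (Spec.map (CommRingCat.ofHom φ) ≫ str)) ⟶ X.obj,
        l ≫ f.hom = (yon S).map (Over.homMk (Spec.map (CommRingCat.ofHom φ)) rfl :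
          Over.mk (Spec.map (CommRingCat.ofHom φ) ≫ str) ⟶ Over.mk str) ≫ b := by
  obtain ⟨x₀, hx₀⟩ := hb
  have hsq := IsPullback.of_hasPullback f.hom b
  have hP : IsAlgSpace (pullback f.hom b) :=
    isAlgSpace_of_isPullback' Y.property X.property (IsAlgSpace.yon_obj _) hsq
  have hsnd : LocP @Flat (pullback.snd f.hom b) :=
    locP_of_isPullback isEtLocal_flat X.property Y.property (IsAlgSpace.yon_obj _) hP f.hom b _ _
      hsq hf
  obtain ⟨p₀, -, hp₀⟩ := Points.exists_of_isPullback hsq x₀
    (Points.ofScheme (Over.mk str) (closedPoint A))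
    (by rw [hx₀, Points.map_ofPt, Category.id_comp])
  obtain ⟨U, a, hae, has⟩ := hP.atlas
  obtain ⟨u₀, hu₀⟩ := exists_ofPt_eq a has p₀
  obtain ⟨h, hh⟩ := (yon S).map_surjective (a ≫ pullback.snd f.hom b)
  have hflat : Flat h.left :=
    hsnd a (𝟙 _) h hae (repWith_id _ _) (by rw [hh, Category.comp_id])
  have hhu₀ : h.left u₀ = closedPoint A := by
    apply (Points.schemeHomeo (Over.mk str)).injective
    rw [← AlgSpVC.ofPt_yon_map h u₀, hh, ← Points.map_ofPt, hu₀, hp₀]
    rfl
  -- generalization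
  let η : ↥(Over.mk str).left := (⊥ : PrimeSpectrum A)
  have hη : η ⤳ h.left u₀ := by rw [hhu₀]; exact specializes_closedPoint _
  obtain ⟨u, hus, hu⟩ := (Flat.generalizingMap h.left) hη
  have hus' : (𝟙 U.left : U.left ⟶ U.left) u ⤳ u₀ := by simpa using hus
  obtain ⟨A', iA', w, hclA'⟩ := AlgSpVC.exists_valuationRing_of_specializes (𝟙 U.left) u u₀ hus'
  rw [Category.comp_id] at w
  let φ : CommRingCat.of A ⟶ CommRingCat.of A' := Spec.preimage (iA' ≫ h.left)
  have hφ : Spec.map φ = iA' ≫ h.left := Spec.map_preimage _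
  have hloc : IsLocalHom φ.hom := by
    rw [isLocalHom_iff_comap_closedPoint]
    change Spec.map φ (closedPoint A') = closedPoint A
    rw [hφ]
    change h.left (iA' (closedPoint A')) = _
    rw [hclA', hhu₀]
  have hinj : Function.Injective φ.hom := by
    let θ : A →+* U.left.residueField u := (algebraMap A' (U.left.residueField u)).comp φ.hom
    have hθ : Spec.map (CommRingCat.ofHom θ) = U.left.fromSpecResidueField u ≫ h.left := by
      change Spec.map (φ ≫ CommRingCat.ofHom (algebraMap A' (U.left.residueField u))) = _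
      rw [Spec.map_comp, hφ, ← Category.assoc, ← w]
    have hθ' : Spec.map (CommRingCat.ofHom θ) (closedPoint (U.left.residueField u)) = η := by
      rw [hθ]
      change h.left (U.left.fromSpecResidueField u _) = η
      rw [Scheme.fromSpecResidueField_apply, hu]
    have hker : RingHom.ker θ = ⊥ := by
      have h1 := congrArg PrimeSpectrum.asIdeal hθ'
      change Ideal.comap θ (closedPoint (U.left.residueField u)).asIdeal = ⊥ at h1
      rw [← h1, RingHom.ker_eq_comap_bot]
      congr 1
      exact (Ideal.eq_bot_of_prime _).symm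
    have : Function.Injective θ := (RingHom.injective_iff_ker_eq_bot θ).2 hker
    exact Function.Injective.of_comp (f := algebraMap A' (U.left.residueField u)) this
  refine ⟨A', inferInstance, inferInstance, inferInstance, φ.hom, hinj, hloc, ?_⟩
  have hstr : iA' ≫ U.hom = Spec.map (CommRingCat.ofHom φ.hom) ≫ str := by
    change iA' ≫ U.hom = Spec.map φ ≫ str
    rw [hφ, Category.assoc]
    congr 1
    exact (Over.w h).symm
  let ιA' : Over.mk (Spec.map (CommRingCat.ofHom φ.hom) ≫ str) ⟶ U := Over.homMk iA' hstr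
  refine ⟨(yon S).map ιA' ≫ a ≫ pullback.fst f.hom b, ?_⟩
  have e1 : ιA' ≫ h = (Over.homMk (Spec.map (CommRingCat.ofHom φ.hom)) rfl :
      Over.mk (Spec.map (CommRingCat.ofHom φ.hom) ≫ str) ⟶ Over.mk str) := by
    ext
    exact hφ.symm
  calc ((yon S).map ιA' ≫ a ≫ pullback.fst f.hom b) ≫ f.hom
      = (yon S).map ιA' ≫ a ≫ (pullback.fst f.hom b ≫ f.hom) := by simp only [Category.assoc]
    _ = (yon S).map ιA' ≫ (a ≫ pullback.snd f.hom b) ≫ b := by
        rw [pullback.condition]; simp only [Category.assoc]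
    _ = (yon S).map (ιA' ≫ h) ≫ b := by rw [← hh, Functor.map_comp, Category.assoc]
    _ = _ := by rw [e1]

end Groth.Agent.Lib.Helper9.AlgSpVC4
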