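import Groth.Agent.Lib.Helper9.ABlow2

set_option autoImplicit false
universe u
open CategoryTheory CategoryTheory.Limits AlgebraicGeometry TopologicalSpace

namespace Groth.Agent.Lib.Helper9.ABlow

open Groth.Agent.Lib.Helper29.EffCart

lemma isBlowUp_of_isIso_comp {X X' P : Scheme.{u}} {b : X' ⟶ X} {𝓘 : X.IdealSheafData}
    (l : P ⟶ X') [IsIso l] (hb : BlowUp.IsBlowUp b 𝓘) : BlowUp.IsBlowUp (l ≫ b) 𝓘 := by
  refine ⟨?_, ?_⟩
  · rw [Scheme.IdealSheafData.comap_comp]
    exact isEffCartierIdeal_comap_of_flat l _ hb.1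
  · intro Y g hg
    obtain ⟨h₀, hh₀, hu⟩ := hb.2 Y g hg
    refine ⟨h₀ ≫ inv l, by simp [hh₀], ?_⟩
    intro h'' hh''
    have : h'' ≫ l = h₀ := hu _ (by simpa using hh'')
    rw [← this]; simp

lemma ker_le_ker_comp {X Y Z : Scheme.{u}} (f : X ⟶ Y) (w : Y ⟶ Z) : w.ker ≤ (f ≫ w).ker := by
  rw [le_ker_iff_comap_eq_bot, Scheme.IdealSheafData.comap_comp,
    (le_ker_iff_comap_eq_bot w w.ker).1 le_rfl, Scheme.IdealSheafData.comap_bot]

theorem ker_le_supportedOn_iff {E Z X' X W EW : Scheme.{u}} {e : E ⟶ X'} {π : E ⟶ Z} {b : X' ⟶ X}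
    {i : Z ⟶ X} (h : HTop.IsAlmostBlowUpSquare e π b i) (w : W ⟶ X') [IsClosedImmersion w]
    [LocallyOfFinitePresentation w] {eW : EW ⟶ W} {gE : EW ⟶ E} (hEW : IsPullback gE eW e w) :
    w.ker ≤ HTop.supportedOn (i.ker.comap b) ↔
      HTop.IsAlmostBlowUpSquare eW (gE ≫ π) (w ≫ b) i := by
  have := h.isClosedImmersion
  have := h.finitePresentation_base
  have := h.isProper
  have := h.finitePresentation
  set 𝓔 := i.ker.comap b with h𝓔
  set K := HTop.supportedOn 𝓔 with hK
  have hcomap : i.ker.comap (w ≫ b) = 𝓔.comap w := Scheme.IdealSheafData.comap_comp _ _ _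
  have hlpW : HTop.IsLocPrincipal (𝓔.comap w) := isLocPrincipal_comap _ h.locPrincipal _
  have hEffK : BlowUp.IsEffCartierIdeal (𝓔.comap K.subschemeι) :=
    isEffCartier_comap_supportedOn 𝓔 h.locPrincipal
  constructor
  · intro hle
    refine ⟨h.isClosedImmersion, h.finitePresentation_base, hEW.flip.paste_vert h.isPullback,
      by rw [hcomap]; exact hlpW, inferInstance, inferInstance, ?_⟩
    rw [hcomap]
    set K_W := HTop.supportedOn (𝓔.comap w) with hKW
    have hEffKW : BlowUp.IsEffCartierIdeal ((𝓔.comap w).comap K_W.subschemeι) :=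
      isEffCartier_comap_supportedOn _ hlpW
    -- `K.subscheme → W`
    let j : K.subscheme ⟶ W := IsClosedImmersion.lift w K.subschemeι
      (by rw [Scheme.IdealSheafData.ker_subschemeι]; exact hle)
    have hj : j ≫ w = K.subschemeι := IsClosedImmersion.lift_fac _ _ _
    have hj1 : K_W ≤ j.ker := by
      apply supportedOn_le_ker
      rw [← Scheme.IdealSheafData.comap_comp, hj]
      exact hEffK
    let j' : K.subscheme ⟶ K_W.subscheme := IsClosedImmersion.lift K_W.subschemeι j
      (by rw [Scheme.IdealSheafData.ker_subschemeι]; exact hj1)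
    have hj' : j' ≫ K_W.subschemeι = j := IsClosedImmersion.lift_fac _ _ _
    have hl1 : K ≤ (K_W.subschemeι ≫ w).ker := by
      apply supportedOn_le_ker
      rw [Scheme.IdealSheafData.comap_comp]
      exact hEffKW
    let l : K_W.subscheme ⟶ K.subscheme := IsClosedImmersion.lift K.subschemeι (K_W.subschemeι ≫ w)
      (by rw [Scheme.IdealSheafData.ker_subschemeι]; exact hl1)
    have hl : l ≫ K.subschemeι = K_W.subschemeι ≫ w := IsClosedImmersion.lift_fac _ _ _
    have h1 : j' ≫ l = 𝟙 _ := by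
      rw [← cancel_mono K.subschemeι, Category.assoc, hl, reassoc_of% hj', hj, Category.id_comp]
    have h2 : l ≫ j' = 𝟙 _ := by
      rw [← cancel_mono K_W.subschemeι, ← cancel_mono w, Category.assoc, Category.assoc, 
        reassoc_of% hj', hj, hl, Category.id_comp]
    have : IsIso l := ⟨j', h2, h1⟩
    have := isBlowUp_of_isIso_comp l h.isBlowUp
    rw [reassoc_of% hl] at this
    exact this
  · intro hW
    have hWb := hW.isBlowUp
    rw [hcomap] at hWb
    set K_W := HTop.supportedOn (𝓔.comap w) with hKW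
    obtain ⟨u, hu, -⟩ := hWb.2 _ (K.subschemeι ≫ b) h.isBlowUp.1
    have hEffβ : BlowUp.IsEffCartierIdeal (i.ker.comap (K.subschemeι ≫ b)) := h.isBlowUp.1
    set α : K.subscheme ⟶ X' := (u ≫ K_W.subschemeι) ≫ w with hα
    have hαb : α ≫ b = K.subschemeι ≫ b := by
      rw [hα, Category.assoc, Category.assoc]; exact hu
    have hle : K ≤ α.ker := by
      apply supportedOn_le_ker
      rw [← Scheme.IdealSheafData.comap_comp, hαb]
      exact hEffβ
    let a : K.subscheme ⟶ K.subscheme := IsClosedImmersion.lift K.subschemeι α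
      (by rw [Scheme.IdealSheafData.ker_subschemeι]; exact hle)
    have ha : a ≫ K.subschemeι = α := IsClosedImmersion.lift_fac _ _ _
    have ha1 : a = 𝟙 _ := by
      refine IsBlowUp.hom_ext h.isBlowUp _ _ ?_ ?_
      · rw [reassoc_of% ha, hαb]; exact hEffβ
      · rw [reassoc_of% ha, hαb, Category.id_comp]
    have hαK : α = K.subschemeι := by rw [← ha, ha1, Category.id_comp]
    have := ker_le_ker_comp (u ≫ K_W.subschemeι) w
    rw [← hα, hαK, Scheme.IdealSheafData.ker_subschemeι] at this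
    exact this

end Groth.Agent.Lib.Helper9.ABlow
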