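import Groth.Agent.Lib.Helper9.GlueFinal3
import Groth.Agent.Lib.Helper29.AffBlowGeom
import Groth.Agent.Lib.Helper9.AdmCoprod

set_option autoImplicit false
universe u
open CategoryTheory CategoryTheory.Limits AlgebraicGeometry TopologicalSpace

namespace Groth.Agent.Lib.Helper9.BlowExist

open Groth.Agent.Lib.Helper29.AffBlow Groth.Agent.Lib.Helper29.EffCart
open Groth.Agent.Lib.Helper9.GlueFinal

section General

variable {X : Scheme.{u}} (𝓘 : X.IdealSheafData)

lemma P_open ⦃T T' : Scheme.{u}⦄ (j : T' ⟶ T) [IsOpenImmersion j] (g : T ⟶ X)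
    (h : BlowUp.IsEffCartierIdeal (𝓘.comap g)) : BlowUp.IsEffCartierIdeal (𝓘.comap (j ≫ g)) := by
  rw [Scheme.IdealSheafData.comap_comp]
  exact isEffCartierIdeal_comap_of_flat j _ h

lemma P_local ⦃T : Scheme.{u}⦄ (g : T ⟶ X)
    (h : ∀ x : T, ∃ U : T.Opens, x ∈ U ∧ BlowUp.IsEffCartierIdeal (𝓘.comap (U.ι ≫ g))) :
    BlowUp.IsEffCartierIdeal (𝓘.comap g) := by
  intro x
  obtain ⟨U, hxU, hU⟩ := h x
  rw [Scheme.IdealSheafData.comap_comp] at hU
  exact Groth.Agent.Lib.Helper9.AdmCoprod.effCartier_at_of_comap U.ι (𝓘.comap g) ⟨x, hxU⟩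
    (hU ⟨x, hxU⟩)

end General

section Affine

variable {A : Type u} [CommRing A] (I : Ideal A)

/-- the locus where `a` generates `I·O_T` as a nonzerodivisor -/
def genLocus (a : A) ⦃T : Scheme.{u}⦄ (g : T ⟶ Spec (CommRingCat.of A)) : T.Opens :=
  ⨆ O : {O : T.affineOpens // Gen I a g O.1}, O.1.1

variable {I}

lemma mem_genLocus_iff (a : A) {T : Scheme.{u}} (g : T ⟶ Spec (CommRingCat.of A)) (x : T) :
    x ∈ genLocus I a g ↔ ∃ O : T.affineOpens, x ∈ O.1 ∧ Gen I a g O.1 := by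
  rw [genLocus, Opens.mem_iSup]
  constructor
  · rintro ⟨⟨O, hO⟩, hx⟩; exact ⟨O, hx, hO⟩
  · rintro ⟨O, hx, hO⟩; exact ⟨⟨O, hO⟩, hx⟩

lemma locGen_genLocus_ι (a : A) {T : Scheme.{u}} (g : T ⟶ Spec (CommRingCat.of A)) :
    LocGen I a ((genLocus I a g).ι ≫ g) := by
  refine locGen_comp_of_flat (genLocus I a g).ι ?_
  intro t
  exact (mem_genLocus_iff a g _).1 t.2

lemma locGen_of_genLocus_eq_top (a : A) {T : Scheme.{u}} (g : T ⟶ Spec (CommRingCat.of A))
    (h : genLocus I a g = ⊤) : LocGen I a g := by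
  intro t
  exact (mem_genLocus_iff a g t).1 (h ▸ trivial)

lemma genLocus_eq_top_of_locGen (a : A) {T : Scheme.{u}} (g : T ⟶ Spec (CommRingCat.of A))
    (h : LocGen I a g) : genLocus I a g = ⊤ := by
  rw [eq_top_iff]
  intro t _
  exact (mem_genLocus_iff a g t).2 (h t)

lemma nzd_of_span_eq' {R : Type*} [CommRing R] (t a : R) (ht : t ∈ nonZeroDivisors R)
    (h : Ideal.span {a} = Ideal.span {t}) : a ∈ nonZeroDivisors R := by
  have h1 : t ∈ Ideal.span {a} := h ▸ Ideal.mem_span_singleton_self t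
  obtain ⟨b, hb⟩ := Ideal.mem_span_singleton'.1 h1
  rw [mem_nonZeroDivisors_iff_right] at ht ⊢
  intro r hr
  apply ht
  rw [← hb, mul_comm b a, ← mul_assoc, hr, zero_mul]

lemma genLocus_comp (a : A) (ha : a ∈ I) ⦃T T' : Scheme.{u}⦄ (g : T ⟶ Spec (CommRingCat.of A))
    (h : T' ⟶ T) (hg : BlowUp.IsEffCartierIdeal ((idealSheaf I).comap g))
    (hhg : BlowUp.IsEffCartierIdeal ((idealSheaf I).comap (h ≫ g))) :
    genLocus I a (h ≫ g) = h ⁻¹ᵁ genLocus I a g := by
  apply le_antisymm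
  · intro x' hx'
    change h x' ∈ genLocus I a g
    -- the open subscheme where `a` generates upstairs
    set L' := genLocus I a (h ≫ g) with hL'
    have hG : LocGen I a ((L'.ι ≫ h) ≫ g) := by
      rw [Category.assoc]; exact locGen_genLocus_ι a (h ≫ g)
    obtain ⟨U, hxU, f, hf, hIU⟩ := hg (h x')
    rw [ideal_comap I g U] at hIU
    have hmem : secMap g U.1 a ∈ Ideal.span {f} := hIU ▸ Ideal.mem_map_of_mem _ ha
    obtain ⟨β, hβ⟩ := Ideal.mem_span_singleton'.1 hmem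
    have h1 := mem_basicOpen_of_locGen (L'.ι ≫ h) hG U f β hIU hβ.symm ⟨x', hx'⟩ hxU
    exact (mem_genLocus_iff a g _).2
      ⟨⟨T.basicOpen β, U.2.basicOpen β⟩, h1, gen_basicOpen U f β hf hIU hβ.symm⟩
  · intro x' hx'
    obtain ⟨O, hxO, hGO⟩ := (mem_genLocus_iff a g _).1 (show h x' ∈ genLocus I a g from hx')
    obtain ⟨W, hxW, f, hf, hIW⟩ := hhg x'
    rw [ideal_comap I (h ≫ g) W] at hIW
    obtain ⟨_, ⟨O'', hO'', rfl⟩, hxO'', hle⟩ := T'.isBasis_affineOpens.exists_subset_of_mem_open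
      (show x' ∈ W.1 ⊓ h ⁻¹ᵁ O.1 from ⟨hxW, hxO⟩) (W.1 ⊓ h ⁻¹ᵁ O.1).2
    have hleO : O'' ≤ h ⁻¹ᵁ O.1 := hle.trans inf_le_right
    have hleW : O'' ≤ W.1 := hle.trans inf_le_left
    refine (mem_genLocus_iff a (h ≫ g) _).2 ⟨⟨O'', hO''⟩, hxO'', ?_⟩
    -- generation
    have hcomp : secMap (h ≫ g) O'' = (h.appLE O.1 O'' hleO).hom.comp (secMap g O.1) := by
      ext x
      exact (secMap_comp h g O.1 O'' hleO x).symm
    have hgen : I.map (secMap (h ≫ g) O'') = Ideal.span {secMap (h ≫ g) O'' a} := by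
      rw [hcomp, ← Ideal.map_map, hGO.2, Ideal.map_span, Set.image_singleton]
      rfl
    -- nonzerodivisor
    have hres : secMap (h ≫ g) O'' =
        (T'.presheaf.map (homOfLE hleW).op).hom.comp (secMap (h ≫ g) W.1) := by
      ext x
      exact (secMap_res (h ≫ g) hleW x).symm
    have hgen' : I.map (secMap (h ≫ g) O'') =
        Ideal.span {(T'.presheaf.map (homOfLE hleW).op).hom f} := by
      rw [hres, ← Ideal.map_map, hIW, Ideal.map_span, Set.image_singleton]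
    have hnzd : (T'.presheaf.map (homOfLE hleW).op).hom f ∈ nonZeroDivisors Γ(T', O'') :=
      map_mem_nonZeroDivisors_of_flat _ (flat_res W.2 hO'' hleW) _ hf
    exact ⟨nzd_of_span_eq' _ _ hnzd (hgen.symm.trans hgen'), hgen⟩

lemma genLocus_cover ⦃T : Scheme.{u}⦄ (g : T ⟶ Spec (CommRingCat.of A))
    (hg : BlowUp.IsEffCartierIdeal ((idealSheaf I).comap g)) :
    ⨆ a : {a // a ∈ I}, genLocus I a.1 g = ⊤ := by
  rw [eq_top_iff]
  intro t _
  obtain ⟨U, htU, f, hf, hIU⟩ := hg t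
  rw [ideal_comap I g U] at hIU
  obtain ⟨a', ha', β, hβ, htβ⟩ := exists_gen_basicOpen U f hf hIU t htU
  exact Opens.mem_iSup.2 ⟨⟨a', ha'⟩, (mem_genLocus_iff a' g t).2
    ⟨⟨T.basicOpen β, U.2.basicOpen β⟩, htβ, gen_basicOpen U f β hf hIU hβ⟩⟩

variable (I)

/-- The gluing setup for the affine blow-up. -/
noncomputable def affineSetup : Setup (Spec (CommRingCat.of A)) where
  P := fun _ g => BlowUp.IsEffCartierIdeal ((idealSheaf I).comap g)
  P_open := P_open (idealSheaf I)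
  P_local := P_local (idealSheaf I)
  J := {a // a ∈ I}
  locus := fun a => genLocus I a.1
  locus_comp := fun a _ _ g h hg hhg => genLocus_comp a.1 a.2 g h hg hhg
  locus_cover := fun _ g hg => genLocus_cover g hg
  Y := fun a => Spec (CommRingCat.of (BlowUp.affineAlgebra A I a.1))
  b := fun a => chartMap I a.1
  P_b := fun a => (locGen_chartMap a.2).isEffCartierIdeal
  locus_b := fun a => genLocus_eq_top_of_locGen a.1 _ (locGen_chartMap a.2)
  lift := fun a _ g _ hl => by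
    have hG := locGen_of_genLocus_eq_top a.1 g hl
    obtain ⟨k, hk⟩ := hG.exists_hom
    exact ⟨k, hk, fun k' hk' => hG.hom_ext k' k hk' hk⟩

theorem exists_isBlowUp_affine :
    ∃ (Y : Scheme.{u}) (b : Y ⟶ Spec (CommRingCat.of A)), BlowUp.IsBlowUp b (idealSheaf I) := by
  obtain ⟨Y, b, hP, hU⟩ := (affineSetup I).exists_final
  exact ⟨Y, b, hP, fun T g hg => hU T g hg⟩

end Affine

end Groth.Agent.Lib.Helper9.BlowExist
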