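import Groth.Prelude.Def_AlgSpMor5
import Groth.Prelude.Def_AlgSpDec
import Groth.Agent.Lib.Helper3.AlgSpProper
import Groth.Agent.Lib.Helper3.AlgSpLocSrc2
import Groth.Agent.Lib.Helper3.AlgSpHasAtMor
import Groth.Agent.Lib.Helper3.AlgSpChartPts
import Groth.Agent.Lib.Helper3.AlgSpMonoPt
import Groth.Agent.Lib.Helper3.AlgSpDecent2
import Groth.Agent.Lib.Helper9.AlgSpVC
import Groth.Agent.S9902
import Groth.Agent.S9903

set_option autoImplicit false
universe u
open CategoryTheory CategoryTheory.Limits AlgebraicGeometry IsLocalRing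
open AlgSp
open Groth.Agent.Lib.Helper3

namespace Groth.Agent.Lib.Helper9.AlgSpVC2

variable {S : Scheme.{u}}

theorem exists_specializes_of_isOpenMap_finite_fibre {α β : Type*} [TopologicalSpace α]
    [TopologicalSpace β] (g : α → β) (hg : IsOpenMap g) (x x₀ : β) (hs : x ⤳ x₀)
    (hfin : (g ⁻¹' {x}).Finite) (u₀ : α) (hu₀ : g u₀ = x₀) : ∃ u, g u = x ∧ u ⤳ u₀ := by
  by_contra hne
  push Not at hne
  have hcl : closure (g ⁻¹' {x}) = ⋃ u ∈ g ⁻¹' {x}, closure {u} := by
    have := hfin.closure_biUnion (f := fun u => ({u} : Set α))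
    rwa [Set.biUnion_of_singleton] at this
  have h1 : u₀ ∉ closure (g ⁻¹' {x}) := by
    rw [hcl]
    simp only [Set.mem_iUnion, not_exists]
    intro u hu hmem
    exact hne u hu (specializes_iff_mem_closure.2 hmem)
  have hopen : IsOpen (closure (g ⁻¹' {x}))ᶜ := isClosed_closure.isOpen_compl
  have h2 : x₀ ∈ g '' (closure (g ⁻¹' {x}))ᶜ := ⟨u₀, h1, hu₀⟩
  have h3 : x ∈ g '' (closure (g ⁻¹' {x}))ᶜ := hs.mem_open (hg _ hopen) h2
  obtain ⟨n, hn, hgn⟩ := h3
  exact hn (subset_closure hgn)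

theorem mono_yon_map_j {X Y : Sp S} {f : X ⟶ Y} (sq : ValSq f) : Mono ((yon S).map sq.j) := by
  have : IsPreimmersion (Spec.map (CommRingCat.ofHom (algebraMap sq.A sq.K))) :=
    IsPreimmersion.of_isLocalization (nonZeroDivisors sq.A)
  have : Mono sq.j.left := by
    change Mono (Spec.map (CommRingCat.ofHom (algebraMap sq.A sq.K)))
    infer_instance
  have : Mono sq.j := Over.mono_of_mono_left _
  infer_instance

theorem hasLiftExt_core {X Y : Space S} (f : X ⟶ Y) (hc : IsUnivClosedMor f.hom) (sq : ValSq f.hom)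
    {P : Sp S} (fst : P ⟶ X.obj) (snd : P ⟶ (yon S).obj sq.ptA)
    (hsq : IsPullback fst snd f.hom sq.bot) (σ : (yon S).obj sq.ptK ⟶ P)
    (hσ1 : σ ≫ fst = sq.top) (hσ2 : σ ≫ snd = (yon S).map sq.j)
    (hqc : RepWith @QuasiCompact σ) : sq.HasLiftExt := by
  have hP : IsAlgSpace P :=
    isAlgSpace_of_isPullback' Y.property X.property (IsAlgSpace.yon_obj _) hsq
  have hcl : IsClosedMap (Points.map snd) := hc (IsAlgSpace.yon_obj _) sq.bot fst snd hsq
  -- the field point p
  let p : FieldPt P := ⟨sq.K, sq.ptK.hom, (J S).uliftYonedaEquiv σ⟩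
  have hp : p.toHom = σ := Equiv.symm_apply_apply _ _
  have hpm : Mono p.toHom := by
    rw [hp]
    have := mono_yon_map_j sq
    rw [← hσ2] at this
    exact mono_of_mono σ snd
  let x : Points P := Points.ofPt σ (closedPoint sq.K)
  have hx : x = Points.mk p := by
    have := Points.ofPt_toHom p (closedPoint sq.K)
    rw [hp] at this
    exact this
  have hmx : Points.map snd x = Points.schemeHomeo sq.ptA (sq.j.left (closedPoint sq.K)) := by
    rw [Points.map_ofPt, hσ2, AlgSpVC.ofPt_yon_map]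
  have hspec : Points.schemeHomeo sq.ptA (sq.j.left (closedPoint sq.K)) ⤳
      Points.schemeHomeo sq.ptA (closedPoint sq.A) :=
    (specializes_closedPoint _).map (Points.schemeHomeo sq.ptA).continuous
  have hmem : Points.schemeHomeo sq.ptA (closedPoint sq.A) ∈ Points.map snd '' closure {x} :=
    hspec.mem_closed (hcl _ isClosed_closure) ⟨x, subset_closure rfl, hmx⟩
  obtain ⟨x₀, hx₀cl, hx₀⟩ := hmem
  have hxs : x ⤳ x₀ := specializes_iff_mem_closure.2 hx₀cl
  -- atlas
  obtain ⟨U, a, hae, has⟩ := hP.atlas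
  obtain ⟨u₀, hu₀⟩ := exists_ofPt_eq a has x₀
  obtain ⟨W, hW, hu₀W, -⟩ := exists_isAffineOpen_mem_and_subset (x := u₀) (U := ⊤) trivial
  let V : Over S := Over.mk (W.ι ≫ U.hom)
  let a₁ : (yon S).obj V ⟶ P := chartRestrict a W
  have ha₁ : RepWith @Etale a₁ := chartRestrict_etale a hae W
  have hVc : CompactSpace ↥V.left := by
    have : IsAffine (W : Scheme) := hW
    change CompactSpace ↥(W : Scheme)
    infer_instance
  let u₀' : ↥V.left := ⟨u₀, hu₀W⟩
  have hu₀' : Points.ofPt a₁ u₀' = x₀ := by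
    rw [ofPt_chartRestrict]; exact hu₀
  have hfin : (Points.ofPt a₁ ⁻¹' {x}).Finite := by
    rw [hx]
    refine finite_fibre_of_qc_point p ?_ a₁ ha₁
    rw [hp]; exact hqc
  obtain ⟨u, hu, hus⟩ := exists_specializes_of_isOpenMap_finite_fibre _ (isOpenMap_ofPt a₁ ha₁)
    x x₀ hxs hfin u₀' hu₀'
  -- the field point q at u
  let q : FieldPt P := FieldPt.ofPt a₁ u
  have hpq : Points.mk p = Points.mk q := hx.symm.trans hu.symm
  obtain ⟨c, hc'⟩ := exists_factor_of_mono_fieldPt hP p q hpq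
  have hqhom : q.toHom = (yon S).map (Over.homMk (V.left.fromSpecResidueField u) rfl) ≫ a₁ :=
    FieldPt.toHom_ofPt a₁ u
  obtain ⟨h₁, hh₁⟩ := (yon S).map_surjective (a₁ ≫ snd)
  -- the valuation ring
  have hus' : (𝟙 V.left : V.left ⟶ V.left) u ⤳ u₀' := by simpa using hus
  obtain ⟨A', iA', w, hclA'⟩ := AlgSpVC.exists_valuationRing_of_specializes (𝟙 V.left) u u₀' hus'
  rw [Category.comp_id] at w
  -- Over-level identity: c ≫ j = (point u) ≫ h₁
  have hOver : c ≫ sq.j = (Over.homMk (V.left.fromSpecResidueField u) rfl : q.pt ⟶ V) ≫ h₁ := by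
    apply (yon S).map_injective
    rw [Functor.map_comp, Functor.map_comp, hh₁, ← hσ2, ← hp, ← Category.assoc, hc', hqhom,
      Category.assoc]
  have hOverL : c.left ≫ Spec.map (CommRingCat.ofHom (algebraMap sq.A sq.K)) =
      V.left.fromSpecResidueField u ≫ h₁.left := congrArg CommaMorphism.left hOver
  -- ring maps
  let K' : Type u := V.left.residueField u
  let φ : CommRingCat.of sq.A ⟶ CommRingCat.of A' := Spec.preimage (iA' ≫ h₁.left)
  let ψ : CommRingCat.of sq.K ⟶ CommRingCat.of K' := Spec.preimage c.left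
  have hφ : Spec.map φ = iA' ≫ h₁.left := Spec.map_preimage _
  have hψ : Spec.map ψ = c.left := Spec.map_preimage _
  have hcomm : φ ≫ CommRingCat.ofHom (algebraMap A' K') =
      CommRingCat.ofHom (algebraMap sq.A sq.K) ≫ ψ := by
    apply Spec.map_injective
    rw [Spec.map_comp, Spec.map_comp, hφ, hψ]
    refine Eq.trans ?_ hOverL.symm
    rw [← Category.assoc, ← w]
  have hloc : IsLocalHom φ.hom := by
    rw [isLocalHom_iff_comap_closedPoint]
    change Spec.map φ (closedPoint A') = closedPoint sq.A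
    rw [hφ]
    change h₁.left (iA' (closedPoint A')) = _
    rw [hclA']
    apply (Points.schemeHomeo sq.ptA).injective
    rw [← AlgSpVC.ofPt_yon_map h₁ u₀', hh₁, ← Points.map_ofPt, hu₀', hx₀]
  let e : sq.DomExt :=
    { A' := A'
      K' := K'
      φ := φ.hom
      ψ := ψ.hom
      comm := congrArg CommRingCat.Hom.hom hcomm
      isLocalHom := hloc }
  refine ⟨e, ?_⟩
  have hstr : iA' ≫ V.hom = Spec.map (CommRingCat.ofHom e.φ) ≫ sq.str := by
    change iA' ≫ V.hom = Spec.map φ ≫ sq.str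
    rw [hφ, Category.assoc]
    congr 1
    exact (Over.w h₁).symm
  let ιA' : e.ptA' ⟶ V := Over.homMk iA' hstr
  let l : (yon S).obj e.ptA' ⟶ X.obj := (yon S).map ιA' ≫ a₁ ≫ fst
  refine ⟨l, ?_, ?_⟩
  · -- restriction to the generic point
    have hθ : 𝟙 _ ≫ q.pt.hom = e.ptK'.hom := by
      rw [Category.id_comp]
      change V.left.fromSpecResidueField u ≫ V.hom =
        Spec.map (CommRingCat.ofHom (algebraMap A' K')) ≫ Spec.map φ ≫ sq.str
      rw [hφ, w]
      simp only [Category.assoc]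
      congr 2
      exact (Over.w h₁).symm
    let θ : e.ptK' ⟶ q.pt := Over.homMk (𝟙 _) hθ
    have e1 : (Over.homMk (Spec.map (CommRingCat.ofHom (algebraMap e.A' e.K'))) rfl : e.ptK' ⟶ e.ptA') ≫ ιA' =
        θ ≫ (Over.homMk (V.left.fromSpecResidueField u) rfl : q.pt ⟶ V) := by
      ext
      change Spec.map (CommRingCat.ofHom (algebraMap A' K')) ≫ iA' = 𝟙 _ ≫ V.left.fromSpecResidueField u
      rw [Category.id_comp, w]
    have e2 : ∀ (hw : Spec.map (CommRingCat.ofHom e.ψ) ≫ sq.ptK.hom = e.ptK'.hom),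
        (Over.homMk (Spec.map (CommRingCat.ofHom e.ψ)) hw : e.ptK' ⟶ sq.ptK) = θ ≫ c := by
      intro hw
      ext
      change Spec.map ψ = 𝟙 _ ≫ c.left
      rw [Category.id_comp, hψ]
    rw [e2]
    calc (yon S).map (Over.homMk (Spec.map (CommRingCat.ofHom (algebraMap e.A' e.K'))) rfl :
            e.ptK' ⟶ e.ptA') ≫ l
        = (yon S).map ((Over.homMk (Spec.map (CommRingCat.ofHom (algebraMap e.A' e.K'))) rfl :
            e.ptK' ⟶ e.ptA') ≫ ιA') ≫ a₁ ≫ fst := by
          simp only [l, Functor.map_comp, Category.assoc]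
      _ = (yon S).map θ ≫ q.toHom ≫ fst := by
          rw [e1, hqhom]; simp only [Functor.map_comp, Category.assoc]
      _ = (yon S).map θ ≫ ((yon S).map c ≫ p.toHom) ≫ fst := by rw [hc']
      _ = (yon S).map (θ ≫ c) ≫ sq.top := by
          rw [hp, ← hσ1]; simp only [Functor.map_comp, Category.assoc]
  · have e1 : ιA' ≫ h₁ = (Over.homMk (Spec.map (CommRingCat.ofHom e.φ)) rfl : e.ptA' ⟶ sq.ptA) := by
      ext
      exact hφ.symm
    calc l ≫ f.hom = (yon S).map ιA' ≫ a₁ ≫ (fst ≫ f.hom) := by simp only [l, Category.assoc]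
      _ = (yon S).map ιA' ≫ (a₁ ≫ snd) ≫ sq.bot := by rw [hsq.w]; simp only [Category.assoc]
      _ = (yon S).map (ιA' ≫ h₁) ≫ sq.bot := by rw [← hh₁, Functor.map_comp, Category.assoc]
      _ = _ := by rw [e1]

/-- decent + universally closed ⇒ existence part of the valuative criterion -/
theorem existVC_of_isDecentMor {X Y : Space S} (f : X ⟶ Y) (hd : IsDecentMor f.hom)
    (hc : IsUnivClosedMor f.hom) : ExistVC f.hom := by
  intro sq
  have hsq := IsPullback.of_hasPullback f.hom sq.bot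
  let σ : (yon S).obj sq.ptK ⟶ pullback f.hom sq.bot :=
    pullback.lift sq.top ((yon S).map sq.j) sq.comm
  have hP : IsAlgSpace (pullback f.hom sq.bot) :=
    isAlgSpace_of_isPullback' Y.property X.property (IsAlgSpace.yon_obj _) hsq
  have hdec : IsDecent (pullback f.hom sq.bot) := hd sq.bot _ _ hsq
  let p : FieldPt (pullback f.hom sq.bot) := ⟨sq.K, sq.ptK.hom, (J S).uliftYonedaEquiv σ⟩
  have hp : p.toHom = σ := Equiv.symm_apply_apply _ _
  obtain ⟨p', hp'1, hp'm, hp'q⟩ := hdec (Points.mk p)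
  have hqc : RepWith @QuasiCompact σ := by
    rw [← hp]
    exact repWith_quasiCompact_of_mk_eq hP p' p hp'q hp'1.symm
  exact hasLiftExt_core f hc sq _ _ hsq σ (pullback.lift_fst _ _ _) (pullback.lift_snd _ _ _) hqc

/-- decent source + universally closed ⇒ existence part of the valuative criterion -/
theorem existVC_of_isDecent {X Y : Space S} (f : X ⟶ Y) (hX : IsDecent X.obj)
    (hc : IsUnivClosedMor f.hom) : ExistVC f.hom :=
  existVC_of_isDecentMor f
    (isDecentMor_of_isDecent_source f.hom (fun _ g => Y.property.representable_from_yon g) hX) hc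

/-- quasi-separated + universally closed ⇒ existence part of the valuative criterion -/
theorem existVC_of_quasiSeparated {X Y : Space S} (f : X ⟶ Y) (hqs : IsQuasiSeparatedMor f.hom)
    (hc : IsUnivClosedMor f.hom) : ExistVC f.hom := by
  intro sq
  have hsq := IsPullback.of_hasPullback f.hom sq.bot
  have hsqK := IsPullback.of_hasPullback f.hom ((yon S).map sq.j ≫ sq.bot)
  have haff : IsAffine sq.ptK.left := by
    change IsAffine (Spec (CommRingCat.of sq.K))
    infer_instance
  have hqsK : IsQuasiSeparatedMor (pullback.snd f.hom ((yon S).map sq.j ≫ sq.bot)) :=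
    (Groth.Agent.S9903.result f).2.1 hqs sq.ptK haff _ _ _ _ hsqK
  let σ' : (yon S).obj sq.ptK ⟶ pullback f.hom ((yon S).map sq.j ≫ sq.bot) :=
    pullback.lift sq.top (𝟙 _) (by rw [Category.id_comp]; exact sq.comm)
  have hσ' : σ' ≫ pullback.snd f.hom ((yon S).map sq.j ≫ sq.bot) = 𝟙 _ := pullback.lift_snd _ _ _
  have hqc' : RepWith @QuasiCompact σ' :=
    Groth.Agent.S9902.repWith_section _ _ σ' hσ' hqsK
  let π : pullback f.hom ((yon S).map sq.j ≫ sq.bot) ⟶ pullback f.hom sq.bot :=
    pullback.lift (pullback.fst _ _) (pullback.snd _ _ ≫ (yon S).map sq.j)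
      (by rw [Category.assoc]; exact pullback.condition)
  have hπ1 : π ≫ pullback.fst f.hom sq.bot = pullback.fst _ _ := pullback.lift_fst _ _ _
  have hπ2 : π ≫ pullback.snd f.hom sq.bot = pullback.snd _ _ ≫ (yon S).map sq.j :=
    pullback.lift_snd _ _ _
  have hsqπ : IsPullback π (pullback.snd f.hom ((yon S).map sq.j ≫ sq.bot))
      (pullback.snd f.hom sq.bot) ((yon S).map sq.j) :=
    IsPullback.of_right (by rw [hπ1]; exact hsqK) hπ2 hsq
  have hj : RepWith @QuasiCompact ((yon S).map sq.j) := by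
    rw [repWith_yon_map_iff]
    change QuasiCompact (Spec.map (CommRingCat.ofHom (algebraMap sq.A sq.K)))
    infer_instance
  have hqcπ : RepWith @QuasiCompact π := (RepWith @QuasiCompact).of_isPullback hsqπ.flip hj
  have hqc : RepWith @QuasiCompact (σ' ≫ π) := (RepWith @QuasiCompact).comp_mem _ _ hqc' hqcπ
  refine hasLiftExt_core f hc sq _ _ hsq (σ' ≫ π) ?_ ?_ hqc
  · rw [Category.assoc, hπ1]; exact pullback.lift_fst _ _ _
  · rw [Category.assoc, hπ2, ← Category.assoc, hσ', Category.id_comp]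

end Groth.Agent.Lib.Helper9.AlgSpVC2
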