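import Mathlib

set_option autoImplicit false
set_option linter.style.haveILetI false
set_option linter.unusedSectionVars false
universe u
open CategoryTheory CategoryTheory.Limits AlgebraicGeometry IsLocalRing

namespace Groth.Agent.Lib.Helper9.AlgSpVC5

/-- finite residue field extension for unramified lft morphisms -/
theorem finite_residueField_of_unramified {X Y : Scheme.{u}} (f : X ⟶ Y)
    [FormallyUnramified f] [LocallyOfFiniteType f] (x : X) :
    letI : Algebra (Y.residueField (f x)) (X.residueField x) :=
      (f.residueFieldMap x).hom.toAlgebra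
    Module.Finite (Y.residueField (f x)) (X.residueField x) := by
  algebraize [(f.stalkMap x).hom]
  have : IsLocalHom (algebraMap (Y.presheaf.stalk (f x)) (X.presheaf.stalk x)) :=
    inferInstanceAs <| IsLocalHom (f.stalkMap x).hom
  suffices h : Module.Finite
      (IsLocalRing.ResidueField <| Y.presheaf.stalk (f x))
      (IsLocalRing.ResidueField <| X.presheaf.stalk x) by
    letI : Algebra (Y.residueField (f x)) (X.residueField x) :=
      (f.residueFieldMap x).hom.toAlgebra
    exact Module.Finite.of_equiv_equiv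
      (A₁ := IsLocalRing.ResidueField <| Y.presheaf.stalk (f x))
      (B₁ := IsLocalRing.ResidueField <| X.presheaf.stalk x)
      (A₂ := Y.residueField (f x)) (B₂ := X.residueField x)
      (RingEquiv.refl _) (RingEquiv.refl _) (by
        ext z
        obtain ⟨z, rfl⟩ := IsLocalRing.residue_surjective z
        rfl)
  have : Algebra.EssFiniteType (Y.presheaf.stalk (f x)) (X.presheaf.stalk x) := by
    rw [← RingHom.essFiniteType_algebraMap, RingHom.algebraMap_toAlgebra]
    exact LocallyOfFiniteType.stalkMap f x
  have : Algebra.FormallyUnramified (Y.presheaf.stalk (f x)) (X.presheaf.stalk x) := by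
    rw [← RingHom.formallyUnramified_algebraMap, RingHom.algebraMap_toAlgebra]
    exact FormallyUnramified.stalkMap f x
  infer_instance

theorem bijective_preimage_fromSpecResidueField (K : Type u) [Field K] (y : Spec (.of K)) :
    Function.Bijective (Spec.preimage ((Spec (.of K)).fromSpecResidueField y)).hom := by
  obtain rfl : y = (𝟙 (Spec (.of K)) : Spec (.of K) ⟶ Spec (.of K)) (closedPoint K) :=
    Subsingleton.elim _ _
  set ρ := Spec.preimage ((Spec (.of K)).fromSpecResidueField
    ((𝟙 (Spec (.of K)) : Spec (.of K) ⟶ Spec (.of K)) (closedPoint K))) with hρ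
  let θ := Scheme.descResidueField (Scheme.stalkClosedPointTo (𝟙 (Spec (.of K))))
  have h1 : Spec.map θ ≫ (Spec (.of K)).fromSpecResidueField _ = 𝟙 _ :=
    Scheme.descResidueField_stalkClosedPointTo_fromSpecResidueField K _ (𝟙 _)
  have h2 : ρ ≫ θ = 𝟙 _ := by
    apply Spec.map_injective
    rw [Spec.map_comp, Spec.map_preimage, h1, Spec.map_id]
  refine ⟨ρ.hom.injective, ?_⟩
  -- θ is injective and θ ∘ ρ = id so ρ surjective
  intro z
  refine ⟨θ.hom z, ?_⟩
  apply θ.hom.injective
  have := congrArg (fun m => m.hom (θ.hom z)) h2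
  exact this

theorem finite_separable_of_etale {V : Scheme.{u}} (K : Type u) [Field K]
    (g : V ⟶ Spec (.of K)) [Etale g] (t : V) :
    letI := (Spec.preimage (V.fromSpecResidueField t ≫ g)).hom.toAlgebra
    Module.Finite K (V.residueField t) ∧ Algebra.IsSeparable K (V.residueField t) := by
  letI alg0 : Algebra ((Spec (.of K)).residueField (g t)) (V.residueField t) :=
    (g.residueFieldMap t).hom.toAlgebra
  have hfin : Module.Finite ((Spec (.of K)).residueField (g t)) (V.residueField t) :=
    finite_residueField_of_unramified g t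
  have hsep : Algebra.IsSeparable ((Spec (.of K)).residueField (g t)) (V.residueField t) :=
    inferInstance
  have hb := bijective_preimage_fromSpecResidueField K (g t)
  let e₁ : K ≃+* (Spec (.of K)).residueField (g t) := RingEquiv.ofBijective _ hb
  letI := (Spec.preimage (V.fromSpecResidueField t ≫ g)).hom.toAlgebra
  have hcomp : Spec.preimage (V.fromSpecResidueField t ≫ g) =
      Spec.preimage ((Spec (.of K)).fromSpecResidueField (g t)) ≫ g.residueFieldMap t := by
    apply Spec.map_injective
    rw [Spec.map_preimage, Spec.map_comp, Spec.map_preimage,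
      Scheme.Hom.SpecMap_residueFieldMap_fromSpecResidueField]
  have he : RingHom.comp (algebraMap K (V.residueField t)) (e₁.symm : _ →+* K) =
      RingHom.comp (RingEquiv.refl (V.residueField t) : _ →+* _)
        (algebraMap ((Spec (.of K)).residueField (g t)) (V.residueField t)) := by
    ext z
    obtain ⟨w, rfl⟩ := e₁.surjective z
    simp only [RingHom.coe_comp, RingHom.coe_coe, Function.comp_apply, RingEquiv.symm_apply_apply,
      RingEquiv.refl_apply]
    change (Spec.preimage (V.fromSpecResidueField t ≫ g)).hom w = (g.residueFieldMap t).hom (e₁ w)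
    rw [hcomp]
    rfl
  exact ⟨Module.Finite.of_equiv_equiv e₁.symm (RingEquiv.refl _) he,
    Algebra.IsSeparable.of_equiv_equiv e₁.symm (RingEquiv.refl _) he⟩

theorem exists_hom_of_valuationSubring {V Z : Scheme.{u}} (h : V ⟶ Z) (t : V) (z : Z)
    (hs : h t ⤳ z) (A' : ValuationSubring (V.residueField t))
    (hA' : ∀ x, (Z.presheaf.stalkSpecializes hs ≫ h.stalkMap t ≫ V.residue t).hom x ∈ A') :
    ∃ iA : Spec (.of A') ⟶ Z,
      V.fromSpecResidueField t ≫ h =
        Spec.map (CommRingCat.ofHom (algebraMap A' (V.residueField t))) ≫ iA := by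
  let s2r : Z.presheaf.stalk z ⟶ V.residueField t :=
    Z.presheaf.stalkSpecializes hs ≫ h.stalkMap t ≫ V.residue t
  let s2A : Z.presheaf.stalk z ⟶ .of A' :=
    CommRingCat.ofHom (s2r.hom.codRestrict A'.toSubring hA')
  refine ⟨Spec.map s2A ≫ Z.fromSpecStalk z, ?_⟩
  rw [Scheme.fromSpecResidueField, Category.assoc, ← Scheme.SpecMap_stalkMap_fromSpecStalk,
    ← Scheme.SpecMap_stalkSpecializes_fromSpecStalk hs]
  simp_rw [← Spec.map_comp_assoc]
  rfl

theorem core {A K A'' K'' : Type u} [CommRing A] [IsDomain A] [ValuationRing A] [Field K]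
    [Algebra A K] [IsFractionRing A K]
    [CommRing A''] [IsDomain A''] [ValuationRing A''] [Field K''] [Algebra A'' K'']
    [IsFractionRing A'' K'']
    (φ₂ : A →+* A'') [IsLocalHom φ₂] (ψ₂ : K →+* K'')
    (hcomm : (algebraMap A'' K'').comp φ₂ = ψ₂.comp (algebraMap A K))
    {U V : Scheme.{u}} (π : V ⟶ U) (g : V ⟶ Spec (.of K)) [Etale g] (hU : U ⟶ Spec (.of A))
    (hπ : π ≫ hU = g ≫ Spec.map (CommRingCat.ofHom (algebraMap A K)))
    (lam : Spec (.of A'') ⟶ U) (τ : Spec (.of K'') ⟶ V)
    (h1 : τ ≫ π = Spec.map (CommRingCat.ofHom (algebraMap A'' K'')) ≫ lam)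
    (h2 : τ ≫ g = Spec.map (CommRingCat.ofHom ψ₂)) :
    ∃ (K' : Type u) (_ : Field K') (A' : ValuationSubring K') (φ' : A →+* A') (ψ' : K →+* K')
      (iA' : Spec (.of A') ⟶ U) (κ : Spec (.of K') ⟶ V),
      IsLocalHom φ' ∧ (algebraMap A' K').comp φ' = ψ'.comp (algebraMap A K) ∧
      (letI := ψ'.toAlgebra; Module.Finite K K' ∧ Algebra.IsSeparable K K') ∧
      κ ≫ π = Spec.map (CommRingCat.ofHom (algebraMap A' K')) ≫ iA' ∧
      κ ≫ g = Spec.map (CommRingCat.ofHom ψ') ∧
      iA' ≫ hU = Spec.map (CommRingCat.ofHom φ') := by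
  classical
  set t : V := τ (closedPoint K'') with ht
  let κ := V.fromSpecResidueField t
  let ι : V.residueField t ⟶ .of K'' := Scheme.descResidueField (Scheme.stalkClosedPointTo τ)
  have hι : Spec.map ι ≫ V.fromSpecResidueField t = τ :=
    Scheme.descResidueField_stalkClosedPointTo_fromSpecResidueField K'' V τ
  let Av : ValuationSubring K'' := (ValuationRing.valuation A'' K'').valuationSubring
  have hAv : ∀ x : K'', x ∈ Av ↔ ∃ a : A'', algebraMap A'' K'' a = x := fun x =>
    ValuationRing.mem_integer_iff A'' K'' x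
  let A' : ValuationSubring (V.residueField t) := Av.comap ι.hom
  let ψc := Spec.preimage (κ ≫ g)
  have hψc : Spec.map ψc = κ ≫ g := Spec.map_preimage _
  let ψ' : K →+* V.residueField t := ψc.hom
  have hιψ : ι.hom.comp ψ' = ψ₂ := by
    have : ψc ≫ ι = CommRingCat.ofHom ψ₂ := by
      apply Spec.map_injective
      rw [Spec.map_comp, hψc, ← Category.assoc, hι, h2]
    exact congrArg CommRingCat.Hom.hom this
  have hmem : ∀ a : A, ψ' (algebraMap A K a) ∈ A' := by
    intro a
    change ι.hom (ψ' (algebraMap A K a)) ∈ Av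
    rw [hAv]
    refine ⟨φ₂ a, ?_⟩
    have := congrArg (fun m => m a) hcomm
    simp only [RingHom.coe_comp, Function.comp_apply] at this
    rw [this, ← hιψ]
    rfl
  let φ' : A →+* A' := (ψ'.comp (algebraMap A K)).codRestrict A'.toSubring hmem
  have hcomm' : (algebraMap A' (V.residueField t)).comp φ' = ψ'.comp (algebraMap A K) := by
    ext a
    rfl
  -- specialization
  set u₀ : U := lam (closedPoint A'') with hu₀
  have hs : π t ⤳ u₀ := by
    have e1 : π t = lam (Spec.map (CommRingCat.ofHom (algebraMap A'' K'')) (closedPoint K'')) := by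
      have := congrArg (fun m => m (closedPoint K'')) (congrArg (fun m : _ ⟶ U => (m : _ → U)) h1)
      simpa using this
    rw [e1]
    exact (specializes_closedPoint _).map lam.continuous
  let β : U.presheaf.stalk u₀ ⟶ .of A'' := Scheme.stalkClosedPointTo lam
  have hβ : Spec.map β ≫ U.fromSpecStalk u₀ = lam := Scheme.Spec_stalkClosedPointTo_fromSpecStalk lam
  have hclaim : (U.presheaf.stalkSpecializes hs ≫ π.stalkMap t ≫ V.residue t) ≫ ι =
      β ≫ CommRingCat.ofHom (algebraMap A'' K'') := by
    apply Spec.map_injective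
    rw [← cancel_mono (U.fromSpecStalk u₀)]
    simp only [Spec.map_comp, Category.assoc]
    rw [Scheme.SpecMap_stalkSpecializes_fromSpecStalk hs, Scheme.SpecMap_stalkMap_fromSpecStalk,
      hβ, ← h1, ← hι]
    simp only [Scheme.fromSpecResidueField, Category.assoc]
  have hA' : ∀ x, (U.presheaf.stalkSpecializes hs ≫ π.stalkMap t ≫ V.residue t).hom x ∈ A' := by
    intro x
    change ι.hom _ ∈ Av
    rw [hAv]
    refine ⟨β.hom x, ?_⟩
    have := congrArg (fun m => m.hom x) hclaim
    exact this.symm
  obtain ⟨iA', hiA'⟩ := exists_hom_of_valuationSubring π t u₀ hs A' hA'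
  refine ⟨V.residueField t, inferInstance, A', φ', ψ', iA', κ, ?_, hcomm', ?_, hiA', hψc.symm, ?_⟩
  · -- local
    constructor
    intro a ha
    obtain ⟨b, hb⟩ := ha.exists_right_inv
    have hb' : ψ' (algebraMap A K a) * (b : V.residueField t) = 1 := by
      have := congrArg (fun z : A' => (z : V.residueField t)) hb
      exact this
    have hbm : ι.hom (b : V.residueField t) ∈ Av := b.2
    obtain ⟨c, hc⟩ := (hAv _).1 hbm
    have h3 : algebraMap A'' K'' (φ₂ a * c) = 1 := by
      rw [map_mul, hc]
      have e2 : algebraMap A'' K'' (φ₂ a) = ι.hom (ψ' (algebraMap A K a)) := by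
        have := congrArg (fun m => m a) hcomm
        simp only [RingHom.coe_comp, Function.comp_apply] at this
        rw [this, ← hιψ]
        rfl
      rw [e2, ← map_mul, hb', map_one]
    have h4 : φ₂ a * c = 1 := by
      apply IsFractionRing.injective A'' K''
      rw [h3, map_one]
    exact isUnit_of_map_unit φ₂ a (IsUnit.of_mul_eq_one _ h4)
  · exact finite_separable_of_etale K g t
  · -- compatibility over Spec A
    let ρ := Spec.preimage (iA' ≫ hU)
    have hρ : Spec.map ρ = iA' ≫ hU := Spec.map_preimage _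
    rw [← hρ]
    congr 1
    have h5 : ρ ≫ CommRingCat.ofHom (algebraMap A' (V.residueField t)) =
        CommRingCat.ofHom (algebraMap A K) ≫ ψc := by
      apply Spec.map_injective
      rw [Spec.map_comp, Spec.map_comp, hρ, hψc, ← Category.assoc, ← hiA', Category.assoc, hπ,
        Category.assoc]
    ext a
    have := congrArg (fun m => m.hom a) h5
    exact this

end Groth.Agent.Lib.Helper9.AlgSpVC5
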