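import Groth.Prelude.Def_AlgSpMor5
import Groth.Agent.Lib.Helper3.AlgSpLocP4
import Groth.Agent.Lib.Helper3.AlgSpOpenSubsp2
import Groth.Agent.Lib.Helper9.AlgSpVC4
import Groth.Agent.Lib.Helper9.AlgSpVC5

set_option autoImplicit false
set_option linter.style.haveILetI false
set_option linter.unusedSectionVars false
universe u
open CategoryTheory CategoryTheory.Limits AlgebraicGeometry IsLocalRing
open AlgSp
open Groth.Agent.Lib.Helper3

namespace Groth.Agent.Lib.Helper9.AlgSpVC6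

variable {S : Scheme.{u}}

theorem main10283 {X Y : Space S} (f : X ⟶ Y) (hf : ExistVC f.hom) (sq : ValSq f.hom) :
    ∃ e : sq.DomExt, (letI := e.ψ.toAlgebra; Module.Finite sq.K e.K' ∧ Algebra.IsSeparable sq.K e.K') ∧
      e.HasLift := by
  obtain ⟨e₀, l₀, hl1, hl2⟩ := hf sq
  have hsq := IsPullback.of_hasPullback f.hom sq.bot
  have hP : IsAlgSpace (pullback f.hom sq.bot) :=
    isAlgSpace_of_isPullback' Y.property X.property (IsAlgSpace.yon_obj _) hsq
  let σ : (yon S).obj sq.ptK ⟶ pullback f.hom sq.bot :=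
    pullback.lift sq.top ((yon S).map sq.j) sq.comm
  have hσ1 : σ ≫ pullback.fst f.hom sq.bot = sq.top := pullback.lift_fst _ _ _
  have hσ2 : σ ≫ pullback.snd f.hom sq.bot = (yon S).map sq.j := pullback.lift_snd _ _ _
  let φA₀ : e₀.ptA' ⟶ sq.ptA := Over.homMk (Spec.map (CommRingCat.ofHom e₀.φ)) rfl
  let l₀' : (yon S).obj e₀.ptA' ⟶ pullback f.hom sq.bot :=
    pullback.lift l₀ ((yon S).map φA₀) hl2
  have hl₀'1 : l₀' ≫ pullback.fst f.hom sq.bot = l₀ := pullback.lift_fst _ _ _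
  have hl₀'2 : l₀' ≫ pullback.snd f.hom sq.bot = (yon S).map φA₀ := pullback.lift_snd _ _ _
  obtain ⟨U, a, hae, has⟩ := hP.atlas
  obtain ⟨h, hh⟩ := (yon S).map_surjective (a ≫ pullback.snd f.hom sq.bot)
  have hflat : LocP @Flat a := by
    refine locP_of_repWith isEtLocal_flat _ (MorphismProperty.relative_monotone ?_ _ hae)
    intro A B f hf
    have : Etale ((Over.forget S).map f) := hf
    change Flat ((Over.forget S).map f)
    infer_instance
  let aS : (⟨(yon S).obj U, IsAlgSpace.yon_obj U⟩ : Space S) ⟶ ⟨pullback f.hom sq.bot, hP⟩ :=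
    ObjectProperty.homMk a
  obtain ⟨u₀, hu₀⟩ := exists_ofPt_eq a has (Points.ofPt l₀' (closedPoint e₀.A'))
  have hb : Points.ofPt l₀' (closedPoint e₀.A') ∈ Set.range (Points.map aS.hom) := by
    change _ ∈ Set.range (Points.map a)
    rw [range_map_eq_range_ofPt]
    exact ⟨u₀, hu₀⟩
  obtain ⟨A'', iCR, iDom, iVal, φ'', hinj, hloc, l'', hl''⟩ :=
    AlgSpVC4.exists_lift_valuationRing_of_flat aS hflat e₀.A' e₀.ptA'.hom l₀' hb
  obtain ⟨K'', instK'', instAlg'', instFR''⟩ : ∃ (K'' : Type u) (_ : Field K'')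
      (_ : Algebra A'' K''), IsFractionRing A'' K'' :=
    ⟨FractionRing A'', inferInstance, inferInstance, inferInstance⟩
  have hinj2 : Function.Injective ((algebraMap A'' K'').comp φ'') := by
    rw [RingHom.coe_comp]
    exact (IsFractionRing.injective A'' K'').comp hinj
  let ψ₀₂ : e₀.K' →+* K'' := IsFractionRing.lift hinj2
  have hψ₀₂ : ψ₀₂.comp (algebraMap e₀.A' e₀.K') = (algebraMap A'' K'').comp φ'' :=
    RingHom.ext (fun x => IsFractionRing.lift_algebraMap hinj2 x)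
  let φ₂ : sq.A →+* A'' := φ''.comp e₀.φ
  let ψ₂ : sq.K →+* K'' := ψ₀₂.comp e₀.ψ
  haveI hloc₀ : IsLocalHom e₀.φ := e₀.isLocalHom
  haveI hloc'' : IsLocalHom φ'' := hloc
  haveI hloc₂ : IsLocalHom φ₂ := RingHom.isLocalHom_comp _ _
  have hcomm₂ : (algebraMap A'' K'').comp φ₂ = ψ₂.comp (algebraMap sq.A sq.K) := by
    change (algebraMap A'' K'').comp (φ''.comp e₀.φ) = (ψ₀₂.comp e₀.ψ).comp (algebraMap sq.A sq.K)
    rw [← RingHom.comp_assoc, ← hψ₀₂, RingHom.comp_assoc, e₀.comm, ← RingHom.comp_assoc]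
  -- Over objects
  let ptA'' : Over S := Over.mk (Spec.map (CommRingCat.ofHom φ'') ≫ e₀.ptA'.hom)
  let φA'' : ptA'' ⟶ e₀.ptA' := Over.homMk (Spec.map (CommRingCat.ofHom φ'')) rfl
  have hl''2 : l'' ≫ a = (yon S).map φA'' ≫ l₀' := hl''
  obtain ⟨lam, hlam⟩ := (yon S).map_surjective l''
  let ptK'' : Over S := Over.mk (Spec.map (CommRingCat.ofHom (algebraMap A'' K'')) ≫ ptA''.hom)
  let jA'' : ptK'' ⟶ ptA'' := Over.homMk (Spec.map (CommRingCat.ofHom (algebraMap A'' K''))) rfl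
  have keyS : Spec.map (CommRingCat.ofHom ψ₂) ≫ Spec.map (CommRingCat.ofHom (algebraMap sq.A sq.K)) =
      Spec.map (CommRingCat.ofHom (algebraMap A'' K'')) ≫ Spec.map (CommRingCat.ofHom φ'') ≫
        Spec.map (CommRingCat.ofHom e₀.φ) := by
    rw [← Spec.map_comp, ← Spec.map_comp, ← Spec.map_comp, ← CommRingCat.ofHom_comp,
      ← CommRingCat.ofHom_comp, ← CommRingCat.ofHom_comp]
    exact congrArg (fun r => Spec.map (CommRingCat.ofHom r)) hcomm₂.symm
  let ψK'' : ptK'' ⟶ sq.ptK := Over.homMk (Spec.map (CommRingCat.ofHom ψ₂)) (by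
    change Spec.map (CommRingCat.ofHom ψ₂) ≫ Spec.map (CommRingCat.ofHom (algebraMap sq.A sq.K)) ≫ sq.str =
      Spec.map (CommRingCat.ofHom (algebraMap A'' K'')) ≫ Spec.map (CommRingCat.ofHom φ'') ≫
        Spec.map (CommRingCat.ofHom e₀.φ) ≫ sq.str
    rw [← Category.assoc, keyS]
    simp only [Category.assoc])
  -- the maps from the definition of HasLift for e₀
  let jA₀ : e₀.ptK' ⟶ e₀.ptA' := Over.homMk (Spec.map (CommRingCat.ofHom (algebraMap e₀.A' e₀.K'))) rfl
  let ψK₀ : e₀.ptK' ⟶ sq.ptK := Over.homMk (Spec.map (CommRingCat.ofHom e₀.ψ)) (by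
    change Spec.map _ ≫ Spec.map _ ≫ _ = Spec.map _ ≫ Spec.map _ ≫ _
    rw [← Spec.map_comp_assoc, ← Spec.map_comp_assoc, ← CommRingCat.ofHom_comp,
      ← CommRingCat.ofHom_comp, e₀.comm])
  have hl1' : (yon S).map jA₀ ≫ l₀ = (yon S).map ψK₀ ≫ sq.top := hl1
  have keyS2 : Spec.map (CommRingCat.ofHom ψ₀₂) ≫ Spec.map (CommRingCat.ofHom (algebraMap e₀.A' e₀.K')) =
      Spec.map (CommRingCat.ofHom (algebraMap A'' K'')) ≫ Spec.map (CommRingCat.ofHom φ'') := by
    rw [← Spec.map_comp, ← Spec.map_comp, ← CommRingCat.ofHom_comp, ← CommRingCat.ofHom_comp]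
    exact congrArg (fun r => Spec.map (CommRingCat.ofHom r)) hψ₀₂
  let ψK₀₂ : ptK'' ⟶ e₀.ptK' := Over.homMk (Spec.map (CommRingCat.ofHom ψ₀₂)) (by
    change Spec.map (CommRingCat.ofHom ψ₀₂) ≫ Spec.map (CommRingCat.ofHom (algebraMap e₀.A' e₀.K')) ≫
      Spec.map (CommRingCat.ofHom e₀.φ) ≫ sq.str =
      Spec.map (CommRingCat.ofHom (algebraMap A'' K'')) ≫ Spec.map (CommRingCat.ofHom φ'') ≫
        Spec.map (CommRingCat.ofHom e₀.φ) ≫ sq.str
    rw [← Category.assoc, keyS2]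
    simp only [Category.assoc])
  have hO1 : jA'' ≫ φA'' = ψK₀₂ ≫ jA₀ := by
    ext
    exact keyS2.symm
  have hO2 : ψK'' = ψK₀₂ ≫ ψK₀ := by
    ext
    change Spec.map (CommRingCat.ofHom (ψ₀₂.comp e₀.ψ)) = Spec.map _ ≫ Spec.map _
    rw [← Spec.map_comp, ← CommRingCat.ofHom_comp]
  have hO3 : jA'' ≫ φA'' ≫ φA₀ = ψK'' ≫ sq.j := by
    ext
    exact keyS.symm
  -- the scheme `V = U ×_P Spec K`
  have hV := hae.rep.isPullback σ
  have hEt : Etale (hae.rep.snd σ).left := hae.property_snd σ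
  obtain ⟨π, hπ⟩ := (yon S).map_surjective (hae.rep.fst σ)
  rw [← hπ] at hV
  have wτ : (yon S).map (jA'' ≫ lam) ≫ a = (yon S).map ψK'' ≫ σ := by
    apply pullback.hom_ext
    · rw [Category.assoc, Category.assoc, hσ1, Functor.map_comp, Category.assoc, hlam,
        ← Category.assoc l'', hl''2, Category.assoc, hl₀'1, ← Category.assoc, ← Functor.map_comp,
        hO1, Functor.map_comp, Category.assoc, hl1', ← Category.assoc, ← Functor.map_comp, ← hO2]
    · rw [Category.assoc, Category.assoc, hσ2, Functor.map_comp, Category.assoc, hlam,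
        ← Category.assoc l'', hl''2, Category.assoc, hl₀'2, ← Functor.map_comp, ← Functor.map_comp,
        ← Functor.map_comp, hO3]
  obtain ⟨τ, hτ⟩ := (yon S).map_surjective (hV.lift _ _ wτ)
  have hτ1 : τ ≫ π = jA'' ≫ lam := by
    apply (yon S).map_injective
    rw [Functor.map_comp, hτ, hV.lift_fst]
  have hτ2 : τ ≫ hae.rep.snd σ = ψK'' := by
    apply (yon S).map_injective
    rw [Functor.map_comp, hτ, hV.lift_snd]
  have hπh : π ≫ h = hae.rep.snd σ ≫ sq.j := by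
    apply (yon S).map_injective
    rw [Functor.map_comp, hh, ← Category.assoc, hV.w, Category.assoc, hσ2, Functor.map_comp]
  -- apply the core lemma
  obtain ⟨K', instK, A', φ', ψ', iA', κ, hlocal, hcomm', hfs, hκπ, hκg, hiU⟩ :=
    AlgSpVC5.core (A := sq.A) (K := sq.K) (A'' := A'') (K'' := K'') φ₂ ψ₂ hcomm₂
      (U := U.left) (V := (hae.rep.pullback σ).left) π.left (hae.rep.snd σ).left h.left
      (by rw [← Over.comp_left, hπh]; rfl) lam.left τ.left
      (by rw [← Over.comp_left, hτ1]; rfl) (by rw [← Over.comp_left, hτ2]; rfl)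
  let e : sq.DomExt :=
    { A' := A'
      K' := K'
      φ := φ'
      ψ := ψ'
      comm := hcomm'
      isLocalHom := hlocal }
  refine ⟨e, hfs, ?_⟩
  have hUhom : U.hom = h.left ≫ sq.str := (Over.w h).symm
  let ιA' : e.ptA' ⟶ U := Over.homMk iA' (by
    change iA' ≫ U.hom = Spec.map (CommRingCat.ofHom φ') ≫ sq.str
    rw [hUhom, ← Category.assoc, hiU])
  have keyS3 : Spec.map (CommRingCat.ofHom ψ') ≫ Spec.map (CommRingCat.ofHom (algebraMap sq.A sq.K)) =
      Spec.map (CommRingCat.ofHom (algebraMap A' K')) ≫ Spec.map (CommRingCat.ofHom φ') := by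
    rw [← Spec.map_comp, ← Spec.map_comp, ← CommRingCat.ofHom_comp, ← CommRingCat.ofHom_comp]
    exact congrArg (fun r => Spec.map (CommRingCat.ofHom r)) hcomm'.symm
  have hVhom : (hae.rep.pullback σ).hom = (hae.rep.snd σ).left ≫ sq.ptK.hom :=
    (Over.w (hae.rep.snd σ)).symm
  let κV : e.ptK' ⟶ hae.rep.pullback σ := Over.homMk κ (by
    change κ ≫ (hae.rep.pullback σ).hom = Spec.map (CommRingCat.ofHom (algebraMap A' K')) ≫
      Spec.map (CommRingCat.ofHom φ') ≫ sq.str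
    rw [hVhom, ← Category.assoc, hκg]
    change Spec.map (CommRingCat.ofHom ψ') ≫ Spec.map (CommRingCat.ofHom (algebraMap sq.A sq.K)) ≫ sq.str = _
    rw [← Category.assoc, keyS3, Category.assoc])
  let jA' : e.ptK' ⟶ e.ptA' := Over.homMk (Spec.map (CommRingCat.ofHom (algebraMap A' K'))) rfl
  let ψK' : e.ptK' ⟶ sq.ptK := Over.homMk (Spec.map (CommRingCat.ofHom ψ')) (by
    change Spec.map (CommRingCat.ofHom ψ') ≫ Spec.map (CommRingCat.ofHom (algebraMap sq.A sq.K)) ≫ sq.str =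
      Spec.map (CommRingCat.ofHom (algebraMap A' K')) ≫ Spec.map (CommRingCat.ofHom φ') ≫ sq.str
    rw [← Category.assoc, keyS3, Category.assoc])
  let φA' : e.ptA' ⟶ sq.ptA := Over.homMk (Spec.map (CommRingCat.ofHom φ')) rfl
  have hQ1 : jA' ≫ ιA' = κV ≫ π := by
    ext
    exact hκπ.symm
  have hQ2 : κV ≫ hae.rep.snd σ = ψK' := by
    ext
    exact hκg
  have hQ3 : ιA' ≫ h = φA' := by
    ext
    exact hiU
  refine ⟨(yon S).map ιA' ≫ a ≫ pullback.fst f.hom sq.bot, ?_, ?_⟩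
  · change (yon S).map jA' ≫ (yon S).map ιA' ≫ a ≫ pullback.fst f.hom sq.bot = (yon S).map ψK' ≫ sq.top
    rw [← Category.assoc, ← Functor.map_comp, hQ1, Functor.map_comp, Category.assoc,
      ← Category.assoc ((yon S).map π), hV.w, Category.assoc, hσ1, ← Category.assoc,
      ← Functor.map_comp, hQ2]
  · change ((yon S).map ιA' ≫ a ≫ pullback.fst f.hom sq.bot) ≫ f.hom = (yon S).map φA' ≫ sq.bot
    rw [Category.assoc, Category.assoc, pullback.condition, ← Category.assoc a, ← hh,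
      ← Category.assoc, ← Functor.map_comp, hQ3]

end Groth.Agent.Lib.Helper9.AlgSpVC6
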