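import Mathlib

set_option autoImplicit false
set_option linter.style.haveILetI false
set_option linter.unusedSectionVars false
universe u v w
open CategoryTheory CategoryTheory.Limits AlgebraicGeometry TopologicalSpace Opposite Topology

namespace Groth.Agent.Lib.Helper9.CosetAvoid

/-- **prime avoidance for cosets**: if `I` is contained in none of finitely many primes, then some
element of `a + I` avoids all of them. -/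
theorem exists_add_not_mem {A : Type*} [CommRing A] (a : A) (I : Ideal A)
    (s : Finset (PrimeSpectrum A)) (hI : ∀ 𝔭 ∈ s, ¬ I ≤ 𝔭.asIdeal) :
    ∃ x ∈ I, ∀ 𝔭 ∈ s, a + x ∉ 𝔭.asIdeal := by
  classical
  induction s using Finset.strongInduction with
  | H s ih =>
    rcases s.eq_empty_or_nonempty with rfl | hne
    · exact ⟨0, I.zero_mem, by simp⟩
    · obtain ⟨𝔮, h𝔮⟩ := s.exists_minimal hne
      have h𝔮s : 𝔮 ∈ s := h𝔮.prop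
      have h𝔮min : ∀ 𝔭 ∈ s, 𝔭 ≤ 𝔮 → 𝔮 ≤ 𝔭 := fun 𝔭 h𝔭 h => h𝔮.le_of_le h𝔭 h
      obtain ⟨x, hxI, hx⟩ := ih (s.erase 𝔮) (Finset.erase_ssubset h𝔮s)
        (fun 𝔭 h𝔭 => hI 𝔭 (Finset.mem_of_mem_erase h𝔭))
      by_cases h : a + x ∈ 𝔮.asIdeal
      · have hJ : ¬ (I * ∏ 𝔭 ∈ s.erase 𝔮, 𝔭.asIdeal) ≤ 𝔮.asIdeal := by
          rw [𝔮.isPrime.mul_le, 𝔮.isPrime.prod_le]
          rintro (h1 | ⟨𝔭, h𝔭, h𝔭𝔮⟩)
          · exact hI 𝔮 h𝔮s h1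
          · have h𝔭s := Finset.mem_of_mem_erase h𝔭
            have h𝔭𝔮' : 𝔭 ≤ 𝔮 := (PrimeSpectrum.asIdeal_le_asIdeal 𝔭 𝔮).mp h𝔭𝔮
            have : 𝔮 ≤ 𝔭 := h𝔮min 𝔭 h𝔭s h𝔭𝔮'
            exact (Finset.ne_of_mem_erase h𝔭) (le_antisymm h𝔭𝔮' this)
        obtain ⟨y, hyJ, hy𝔮⟩ := SetLike.not_le_iff_exists.mp hJ
        have hyI : y ∈ I := Ideal.mul_le_left hyJ
        have hyP : ∀ 𝔭 ∈ s.erase 𝔮, y ∈ 𝔭.asIdeal := by
          intro 𝔭 h𝔭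
          have h1 : y ∈ ∏ 𝔭 ∈ s.erase 𝔮, 𝔭.asIdeal := Ideal.mul_le_right hyJ
          have h2 := Ideal.prod_le_inf h1
          exact (Finset.inf_le h𝔭 : (s.erase 𝔮).inf (fun 𝔭 => 𝔭.asIdeal) ≤ 𝔭.asIdeal) h2
        refine ⟨x + y, I.add_mem hxI hyI, ?_⟩
        intro 𝔭 h𝔭 hmem
        by_cases h𝔭𝔮 : 𝔭 = 𝔮
        · subst h𝔭𝔮
          apply hy𝔮
          have : y = (a + (x + y)) - (a + x) := by ring
          rw [this]
          exact 𝔭.asIdeal.sub_mem hmem h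
        · have h𝔭' : 𝔭 ∈ s.erase 𝔮 := Finset.mem_erase.mpr ⟨h𝔭𝔮, h𝔭⟩
          apply hx 𝔭 h𝔭'
          have : a + x = (a + (x + y)) - y := by ring
          rw [this]
          exact 𝔭.asIdeal.sub_mem hmem (hyP 𝔭 h𝔭')
      · refine ⟨x, hxI, fun 𝔭 h𝔭 => ?_⟩
        by_cases h𝔭𝔮 : 𝔭 = 𝔮
        · subst h𝔭𝔮; exact h
        · exact hx 𝔭 (Finset.mem_erase.mpr ⟨h𝔭𝔮, h𝔭⟩)

end Groth.Agent.Lib.Helper9.CosetAvoid
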