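import Mathlib

set_option autoImplicit false
set_option linter.style.haveILetI false
set_option linter.unusedSectionVars false
universe u v w
open CategoryTheory CategoryTheory.Limits AlgebraicGeometry TopologicalSpace Opposite Topology

namespace Groth.Agent.Lib.Helper9.OILoc

/-- a morphism which is injective and, locally on the source, an open immersion is an open
immersion -/
theorem isOpenImmersion_of_locally {Y T : Scheme.{u}} (f : Y ⟶ T) (hinj : Function.Injective f)
    (H : ∀ y : Y, ∃ O : Y.Opens, y ∈ O ∧ IsOpenImmersion (O.ι ≫ f)) : IsOpenImmersion f := by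
  choose O hyO hO using H
  have hopen : IsOpenMap f := by
    intro s hs
    have : f '' s = ⋃ y : Y, ((O y).ι ≫ f) '' ((O y).ι ⁻¹' s) := by
      ext t
      constructor
      · rintro ⟨y, hys, rfl⟩
        refine Set.mem_iUnion.mpr ⟨y, ⟨y, hyO y⟩, hys, ?_⟩
        rw [Scheme.Hom.comp_apply]
        rfl
      · intro ht
        obtain ⟨y, y', hy', rfl⟩ := Set.mem_iUnion.mp ht
        exact ⟨(O y).ι y', hy', by rw [Scheme.Hom.comp_apply]⟩
    rw [this]
    apply isOpen_iUnion
    intro y
    haveI := hO y
    exact ((O y).ι ≫ f).isOpenEmbedding.isOpenMap _ (hs.preimage (O y).ι.continuous)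
  have hemb : IsOpenEmbedding f := .of_continuous_injective_isOpenMap f.continuous hinj hopen
  have hstalk : ∀ x, IsIso (f.stalkMap x) := by
    intro x
    haveI := hO x
    have h1 : IsIso (((O x).ι ≫ f).stalkMap ⟨x, hyO x⟩) := inferInstance
    rw [Scheme.Hom.stalkMap_comp] at h1
    have h2 : IsIso ((O x).ι.stalkMap ⟨x, hyO x⟩) := inferInstance
    exact @IsIso.of_isIso_comp_right _ _ _ _ _ _ _ h2 h1
  exact IsOpenImmersion.of_isIso_stalkMap f hemb

open PrimeSpectrum in
/-- injectivity on spectra from local bijectivity -/
theorem comap_injective_of_locally_bijective {R' R : Type u} [CommRing R'] [CommRing R]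
    (ρ : R' →+* R)
    (H : ∀ x : PrimeSpectrum R, ∃ r' : R', ρ r' ∉ x.asIdeal ∧
      Function.Bijective (Localization.awayMap ρ r')) :
    Function.Injective (comap ρ) := by
  intro x x' hxx'
  obtain ⟨r', hr'x, hbij⟩ := H x
  have hr'x' : ρ r' ∉ x'.asIdeal := by
    have h1 : r' ∉ (comap ρ x).asIdeal := hr'x
    rw [hxx'] at h1
    exact h1
  have hx : x ∈ Set.range (comap (algebraMap R (Localization.Away (ρ r')))) := by
    rw [localization_away_comap_range _ (ρ r')]
    exact hr'x
  have hx' : x' ∈ Set.range (comap (algebraMap R (Localization.Away (ρ r')))) := by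
    rw [localization_away_comap_range _ (ρ r')]
    exact hr'x'
  obtain ⟨y, rfl⟩ := hx
  obtain ⟨y', rfl⟩ := hx'
  congr 1
  have hcomm : (Localization.awayMap ρ r').comp (algebraMap R' (Localization.Away r')) =
      (algebraMap R (Localization.Away (ρ r'))).comp ρ := IsLocalization.map_comp _
  have e1 : comap (algebraMap R' (Localization.Away r')) (comap (Localization.awayMap ρ r') y) =
      comap (algebraMap R' (Localization.Away r')) (comap (Localization.awayMap ρ r') y') := by
    rw [← comap_comp_apply, ← comap_comp_apply, hcomm, comap_comp_apply, comap_comp_apply, hxx']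
  have e2 := localization_comap_injective (Localization.Away r') (Submonoid.powers r') e1
  have hinj : Function.Injective (comap (Localization.awayMap ρ r')) := by
    let e := RingEquiv.ofBijective _ hbij
    intro a b hab
    have : comap (e.symm : Localization.Away (ρ r') →+* Localization.Away r')
        (comap (e : Localization.Away r' →+* Localization.Away (ρ r')) a) =
        comap (e.symm : Localization.Away (ρ r') →+* Localization.Away r')
        (comap (e : Localization.Away r' →+* Localization.Away (ρ r')) b) := congrArg _ hab
    rw [← comap_comp_apply, ← comap_comp_apply] at this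
    simpa using this
  exact hinj e2

/-- **A ring map which is locally (on the source spectrum) a localization isomorphism induces an
open immersion.** -/
theorem isOpenImmersion_Spec_of_locally_bijective {R' R : Type u} [CommRing R'] [CommRing R]
    (ρ : R' →+* R)
    (H : ∀ x : PrimeSpectrum R, ∃ r' : R', ρ r' ∉ x.asIdeal ∧
      Function.Bijective (Localization.awayMap ρ r')) :
    IsOpenImmersion (Spec.map (CommRingCat.ofHom ρ)) := by
  apply isOpenImmersion_of_locally
  · exact comap_injective_of_locally_bijective ρ H
  · intro y
    obtain ⟨r', hr'y, hbij⟩ := H y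
    refine ⟨PrimeSpectrum.basicOpen (ρ r'), hr'y, ?_⟩
    let e := (RingEquiv.ofBijective _ hbij).toCommRingCatIso
    have hcomm : CommRingCat.ofHom ρ ≫
        CommRingCat.ofHom (algebraMap R (Localization.Away (ρ r'))) =
        CommRingCat.ofHom (algebraMap R' (Localization.Away r')) ≫ e.hom := by
      have hc : (Localization.awayMap ρ r').comp (algebraMap R' (Localization.Away r')) =
          (algebraMap R (Localization.Away (ρ r'))).comp ρ := IsLocalization.map_comp _
      ext t
      exact (congrArg (fun φ => φ t) hc).symm
    have h0 := basicOpenIsoSpecAway_hom_SpecMap (R := CommRingCat.of R) (ρ r')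
    have : Scheme.Opens.ι (X := Spec (CommRingCat.of R)) (PrimeSpectrum.basicOpen (ρ r')) ≫
        Spec.map (CommRingCat.ofHom ρ) =
        (basicOpenIsoSpecAway (R := CommRingCat.of R) (ρ r')).hom ≫ Spec.map e.hom ≫
          Spec.map (CommRingCat.ofHom (algebraMap R' (Localization.Away r'))) := by
      rw [← h0, Category.assoc, ← Spec.map_comp, ← Spec.map_comp, hcomm]
    rw [this]
    infer_instance

open PrimeSpectrum in
/-- open-subscheme version of `isOpenImmersion_Spec_of_locally_bijective` -/
theorem isOpenImmersion_ι_Spec_of_locally_bijective {R' R : Type u} [CommRing R'] [CommRing R]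
    (ρ : R' →+* R) (O : (Spec (CommRingCat.of R)).Opens)
    (H : ∀ x : PrimeSpectrum R, x ∈ O → ∃ r' : R', ρ r' ∉ x.asIdeal ∧
      (∀ x' : PrimeSpectrum R, ρ r' ∉ x'.asIdeal → x' ∈ O) ∧
      Function.Bijective (Localization.awayMap ρ r')) :
    IsOpenImmersion (O.ι ≫ Spec.map (CommRingCat.ofHom ρ)) := by
  apply isOpenImmersion_of_locally
  · -- injectivity
    rintro ⟨x, hxO⟩ ⟨x', hx'O⟩ hxx'
    have hxx'' : comap ρ x = comap ρ x' := hxx'
    apply Subtype.ext
    change x = x'
    obtain ⟨r', hr'x, -, hbij⟩ := H x hxO
    have hr'x' : ρ r' ∉ x'.asIdeal := by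
      have h1 : r' ∉ (comap ρ x).asIdeal := hr'x
      rw [hxx''] at h1
      exact h1
    have hx : x ∈ Set.range (comap (algebraMap R (Localization.Away (ρ r')))) := by
      rw [localization_away_comap_range _ (ρ r')]
      exact hr'x
    have hx' : x' ∈ Set.range (comap (algebraMap R (Localization.Away (ρ r')))) := by
      rw [localization_away_comap_range _ (ρ r')]
      exact hr'x'
    obtain ⟨y, rfl⟩ := hx
    obtain ⟨y', rfl⟩ := hx'
    congr 1
    have hcomm : (Localization.awayMap ρ r').comp (algebraMap R' (Localization.Away r')) =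
        (algebraMap R (Localization.Away (ρ r'))).comp ρ := IsLocalization.map_comp _
    have e1 : comap (algebraMap R' (Localization.Away r')) (comap (Localization.awayMap ρ r') y) =
        comap (algebraMap R' (Localization.Away r'))
          (comap (Localization.awayMap ρ r') y') := by
      rw [← comap_comp_apply, ← comap_comp_apply, hcomm, comap_comp_apply, comap_comp_apply,
        hxx'']
    have e2 := localization_comap_injective (Localization.Away r') (Submonoid.powers r') e1
    have hinj : Function.Injective (comap (Localization.awayMap ρ r')) := by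
      let e := RingEquiv.ofBijective _ hbij
      intro a b hab
      have : comap (e.symm : Localization.Away (ρ r') →+* Localization.Away r')
          (comap (e : Localization.Away r' →+* Localization.Away (ρ r')) a) =
          comap (e.symm : Localization.Away (ρ r') →+* Localization.Away r')
          (comap (e : Localization.Away r' →+* Localization.Away (ρ r')) b) := congrArg _ hab
      rw [← comap_comp_apply, ← comap_comp_apply] at this
      simpa using this
    exact hinj e2
  · rintro ⟨y, hyO⟩
    obtain ⟨r', hr'y, hle, hbij⟩ := H y hyO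
    have hDO : (PrimeSpectrum.basicOpen (ρ r') : (Spec (CommRingCat.of R)).Opens) ≤ O :=
      fun x' hx' => hle x' hx'
    refine ⟨O.ι ⁻¹ᵁ (PrimeSpectrum.basicOpen (ρ r') : (Spec (CommRingCat.of R)).Opens), hr'y, ?_⟩
    let e := (RingEquiv.ofBijective _ hbij).toCommRingCatIso
    have hcomm : CommRingCat.ofHom ρ ≫
        CommRingCat.ofHom (algebraMap R (Localization.Away (ρ r'))) =
        CommRingCat.ofHom (algebraMap R' (Localization.Away r')) ≫ e.hom := by
      have hc : (Localization.awayMap ρ r').comp (algebraMap R' (Localization.Away r')) =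
          (algebraMap R (Localization.Away (ρ r'))).comp ρ := IsLocalization.map_comp _
      ext t
      exact (congrArg (fun φ => φ t) hc).symm
    have h0 := basicOpenIsoSpecAway_hom_SpecMap (R := CommRingCat.of R) (ρ r')
    have : (O.ι ⁻¹ᵁ (PrimeSpectrum.basicOpen (ρ r') : (Spec (CommRingCat.of R)).Opens)).ι ≫
        O.ι ≫ Spec.map (CommRingCat.ofHom ρ) =
        (Scheme.Opens.isoOfLE hDO).hom ≫
        (basicOpenIsoSpecAway (R := CommRingCat.of R) (ρ r')).hom ≫ Spec.map e.hom ≫
          Spec.map (CommRingCat.ofHom (algebraMap R' (Localization.Away r'))) := by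
      rw [← Category.assoc, ← Scheme.Opens.isoOfLE_hom_ι hDO, Category.assoc, ← h0, Category.assoc,
        ← Spec.map_comp, ← Spec.map_comp, hcomm]
    rw [this]
    infer_instance

end Groth.Agent.Lib.Helper9.OILoc
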