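import Mathlib

set_option autoImplicit false
set_option linter.style.haveILetI false
set_option linter.unusedSectionVars false
universe u v w
open CategoryTheory CategoryTheory.Limits AlgebraicGeometry TopologicalSpace Opposite Topology

namespace Groth.Agent.Lib.Helper9.PushLoc

variable {P T : Scheme.{u}}

theorem hom_ext_of_forall_point (k1 k2 : P ⟶ T)
    (H : ∀ y : P, ∃ U : P.Opens, y ∈ U ∧ U.ι ≫ k1 = U.ι ≫ k2) : k1 = k2 := by
  choose U hyU hU using H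
  have hcov : IsOpenCover U := by
    rw [IsOpenCover, eq_top_iff]
    intro y _
    exact Opens.mem_iSup.mpr ⟨y, hyU y⟩
  exact Scheme.Cover.hom_ext (P.openCoverOfIsOpenCover U hcov) _ _ fun y => hU y

/-- glueing morphisms defined on a family of opens covering `P` -/
theorem exists_glue_family {ι : Type u} (W : ι → P.Opens) (hW : IsOpenCover W)
    (h : ∀ i, ((W i : P.Opens) : Scheme.{u}) ⟶ T)
    (hcompat : ∀ i j, P.homOfLE (inf_le_left : W i ⊓ W j ≤ W i) ≫ h i =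
      P.homOfLE (inf_le_right : W i ⊓ W j ≤ W j) ≫ h j) :
    ∃ g : P ⟶ T, ∀ i, (W i).ι ≫ g = h i := by
  let 𝒰 := P.openCoverOfIsOpenCover W hW
  have key : ∀ (i j : ι) {Q : Scheme.{u}} (u : Q ⟶ W i) (n : Q ⟶ W j),
      u ≫ (W i).ι = n ≫ (W j).ι → u ≫ h i = n ≫ h j := by
    intro i j Q u n hun
    have hr : Set.range (u ≫ (W i).ι) ⊆ Set.range (W i ⊓ W j).ι := by
      rw [Scheme.Opens.range_ι]
      rintro _ ⟨w, rfl⟩
      refine ⟨?_, ?_⟩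
      · rw [Scheme.Hom.comp_apply]; exact (u w).2
      · rw [hun, Scheme.Hom.comp_apply]; exact (n w).2
    let l : Q ⟶ (W i ⊓ W j : P.Opens) := IsOpenImmersion.lift (W i ⊓ W j).ι (u ≫ (W i).ι) hr
    have hl : l ≫ (W i ⊓ W j).ι = u ≫ (W i).ι := IsOpenImmersion.lift_fac _ _ _
    have h1 : u = l ≫ P.homOfLE inf_le_left := by
      rw [← cancel_mono (W i).ι, Category.assoc, Scheme.homOfLE_ι, hl]
    have h2 : n = l ≫ P.homOfLE inf_le_right := by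
      rw [← cancel_mono (W j).ι, Category.assoc, Scheme.homOfLE_ι, hl, hun]
    rw [h1, h2, Category.assoc, Category.assoc, hcompat]
  have hf : ∀ i j, pullback.fst (𝒰.f i) (𝒰.f j) ≫ h i = pullback.snd (𝒰.f i) (𝒰.f j) ≫ h j :=
    fun i j => key i j _ _ pullback.condition
  exact ⟨𝒰.glueMorphisms h hf, fun i => 𝒰.ι_glueMorphisms h hf i⟩

theorem normal_form {Y : Scheme.{u}} (k : Y ⟶ T) {V : T.Opens} (hV : IsAffineOpen V)
    (W : Y.Opens) (e : W ≤ k ⁻¹ᵁ V) :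
    W.toSpecΓ ≫ Spec.map (k.appLE V W e) ≫ hV.fromSpec = W.ι ≫ k := by
  rw [Scheme.Opens.toSpecΓ_SpecMap_appLE_assoc, hV.toSpecΓ_fromSpec, Scheme.Hom.resLE_comp_ι]

theorem appLE_congr_hom {Y : Scheme.{u}} {k k' : Y ⟶ T} (h : k = k') (V : T.Opens) (W : Y.Opens)
    (e : W ≤ k ⁻¹ᵁ V) (e' : W ≤ k' ⁻¹ᵁ V) : k.appLE V W e = k'.appLE V W e' := by
  subst h; rfl

/-- joint surjectivity + joint injectivity on sections -/
structure JointDense {Y Y₁ Y₂ : Scheme.{u}} (α : Y₁ ⟶ Y) (β : Y₂ ⟶ Y) : Prop where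
  surj : ∀ y : Y, (∃ y₁, α y₁ = y) ∨ ∃ y₂, β y₂ = y
  inj : ∀ (W : Y.Opens) (s : Γ(Y, W)), α.app W s = 0 → β.app W s = 0 → s = 0

theorem JointDense.hom_ext {Y Y₁ Y₂ : Scheme.{u}} {α : Y₁ ⟶ Y} {β : Y₂ ⟶ Y}
    (H : JointDense α β) (k1 k2 : Y ⟶ T) (h1 : α ≫ k1 = α ≫ k2) (h2 : β ≫ k1 = β ≫ k2) :
    k1 = k2 := by
  have hbase : ∀ y : Y, k1 y = k2 y := by
    intro y
    rcases H.surj y with ⟨y₁, rfl⟩ | ⟨y₂, rfl⟩
    · rw [← Scheme.Hom.comp_apply, ← Scheme.Hom.comp_apply, h1]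
    · rw [← Scheme.Hom.comp_apply, ← Scheme.Hom.comp_apply, h2]
  apply hom_ext_of_forall_point
  intro y
  obtain ⟨V, hV, hyV, -⟩ := exists_isAffineOpen_mem_and_subset (x := k1 y) (U := ⊤) trivial
  refine ⟨k1 ⁻¹ᵁ V, hyV, ?_⟩
  have e2 : k1 ⁻¹ᵁ V ≤ k2 ⁻¹ᵁ V := by
    intro w hw
    change k2 w ∈ V
    rw [← hbase w]
    exact hw
  rw [← normal_form k1 hV (k1 ⁻¹ᵁ V) le_rfl, ← normal_form k2 hV (k1 ⁻¹ᵁ V) e2]
  suffices hh : k1.appLE V (k1 ⁻¹ᵁ V) le_rfl = k2.appLE V (k1 ⁻¹ᵁ V) e2 by rw [hh]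
  ext t
  have hα : k1.appLE V (k1 ⁻¹ᵁ V) le_rfl ≫ α.app (k1 ⁻¹ᵁ V) =
      k2.appLE V (k1 ⁻¹ᵁ V) e2 ≫ α.app (k1 ⁻¹ᵁ V) := by
    rw [Scheme.Hom.app_eq_appLE, Scheme.Hom.appLE_comp_appLE, Scheme.Hom.appLE_comp_appLE]
    exact appLE_congr_hom h1 _ _ _ _
  have hβ : k1.appLE V (k1 ⁻¹ᵁ V) le_rfl ≫ β.app (k1 ⁻¹ᵁ V) =
      k2.appLE V (k1 ⁻¹ᵁ V) e2 ≫ β.app (k1 ⁻¹ᵁ V) := by
    rw [Scheme.Hom.app_eq_appLE, Scheme.Hom.appLE_comp_appLE, Scheme.Hom.appLE_comp_appLE]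
    exact appLE_congr_hom h2 _ _ _ _
  rw [← sub_eq_zero]
  apply H.inj
  · rw [map_sub, sub_eq_zero]
    exact congrArg (fun φ => φ.hom t) hα
  · rw [map_sub, sub_eq_zero]
    exact congrArg (fun φ => φ.hom t) hβ

theorem JointDense.restrict {Y Y₁ Y₂ : Scheme.{u}} {α : Y₁ ⟶ Y} {β : Y₂ ⟶ Y}
    (H : JointDense α β) (U : Y.Opens) : JointDense (α ∣_ U) (β ∣_ U) := by
  constructor
  · rintro ⟨y, hy⟩
    rcases H.surj y with ⟨y₁, rfl⟩ | ⟨y₂, rfl⟩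
    · exact Or.inl ⟨⟨y₁, hy⟩, Subtype.ext (morphismRestrict_base_coe α U _)⟩
    · exact Or.inr ⟨⟨y₂, hy⟩, Subtype.ext (morphismRestrict_base_coe β U _)⟩
  · intro W s h1 h2
    let s' : Γ(Y, U.ι ''ᵁ W) := s
    refine H.inj (U.ι ''ᵁ W) s' ?_ ?_
    · have hinj : Function.Injective
          (Y₁.presheaf.map (eqToHom (image_morphismRestrict_preimage α U W)).op).hom :=
        ((ConcreteCategory.bijective_of_isIso _).1)
      apply hinj
      rw [map_zero]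
      have : (Y₁.presheaf.map (eqToHom (image_morphismRestrict_preimage α U W)).op).hom
          (α.app (U.ι ''ᵁ W) s') = (α ∣_ U).app W s := by
        rw [morphismRestrict_app α U W]; rfl
      exact this.trans h1
    · have hinj : Function.Injective
          (Y₂.presheaf.map (eqToHom (image_morphismRestrict_preimage β U W)).op).hom :=
        ((ConcreteCategory.bijective_of_isIso _).1)
      apply hinj
      rw [map_zero]
      have : (Y₂.presheaf.map (eqToHom (image_morphismRestrict_preimage β U W)).op).hom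
          (β.app (U.ι ''ᵁ W) s') = (β ∣_ U).app W s := by
        rw [morphismRestrict_app β U W]; rfl
      exact this.trans h2

/-- A section vanishing on an open cover vanishes. -/
lemma eq_zero_of_locally {Y : Scheme.{u}} (N : Y.Opens) (t : Γ(Y, N))
    (h : ∀ y ∈ N, ∃ (N' : Y.Opens) (hN' : N' ≤ N), y ∈ N' ∧
      (Y.presheaf.map (homOfLE hN').op).hom t = 0) : t = 0 := by
  choose N' hN' hy ht using h
  refine Y.sheaf.eq_of_locally_eq' (fun y : N => N' y.1 y.2) N (fun y => homOfLE (hN' y.1 y.2))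
    ?_ t 0 ?_
  · intro y hyN
    exact Opens.mem_iSup.2 ⟨⟨y, hyN⟩, hy y hyN⟩
  · intro y
    rw [map_zero]
    exact ht y.1 y.2

variable {Z Xs Ys : Scheme.{u}} {c : Z ⟶ Xs} {d : Z ⟶ Ys} {a : Xs ⟶ P} {b : Ys ⟶ P}

theorem preimage_le (w : c ≫ a = d ≫ b) (W : P.Opens) :
    c ⁻¹ᵁ (a ⁻¹ᵁ W) ≤ d ⁻¹ᵁ (b ⁻¹ᵁ W) := by
  rw [← Scheme.Hom.comp_preimage, ← Scheme.Hom.comp_preimage, w]

/-- `P` is the pushout of `Xs` and `Ys` along `Z` as a topological space. -/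
structure TopPushout (c : Z ⟶ Xs) (d : Z ⟶ Ys) (a : Xs ⟶ P) (b : Ys ⟶ P) : Prop where
  surj : ∀ x : P, (∃ x', a x' = x) ∨ ∃ y, b y = x
  left : ∀ x' x'' : Xs, a x' = a x'' →
    x' = x'' ∨ ∃ z' z'', c z' = x' ∧ c z'' = x'' ∧ d z' = d z''
  right : ∀ y' y'' : Ys, b y' = b y'' →
    y' = y'' ∨ ∃ z' z'', d z' = y' ∧ d z'' = y'' ∧ c z' = c z''
  mix : ∀ x' y, a x' = b y → ∃ z, c z = x' ∧ d z = y
  top : ∀ W : Set P, IsOpen (a ⁻¹' W) → IsOpen (b ⁻¹' W) → IsOpen W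

/-- the structure sheaf of `P` over `W` is the fibre product of those of `Xs` and `Ys`. -/
structure SheafPB (w : c ≫ a = d ≫ b) (W : P.Opens) : Prop where
  inj : ∀ s : Γ(P, W), a.app W s = 0 → b.app W s = 0 → s = 0
  ex : ∀ (s₁ : Γ(Xs, a ⁻¹ᵁ W)) (s₂ : Γ(Ys, b ⁻¹ᵁ W)),
    c.app (a ⁻¹ᵁ W) s₁ = d.appLE (b ⁻¹ᵁ W) (c ⁻¹ᵁ (a ⁻¹ᵁ W)) (preimage_le w W) s₂ →
      ∃ s : Γ(P, W), a.app W s = s₁ ∧ b.app W s = s₂

theorem TopPushout.exists_open (H : TopPushout c d a b) (f : Xs ⟶ T) (g : Ys ⟶ T)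
    (hfg : c ≫ f = d ≫ g) (V : T.Opens) :
    ∃ W : P.Opens, a ⁻¹ᵁ W = f ⁻¹ᵁ V ∧ b ⁻¹ᵁ W = g ⁻¹ᵁ V := by
  have hcf : ∀ z, f (c z) = g (d z) := fun z => by
    rw [← Scheme.Hom.comp_apply, hfg, Scheme.Hom.comp_apply]
  let W : Set P := a '' (f ⁻¹' (V : Set T)) ∪ b '' (g ⁻¹' (V : Set T))
  have ha : a ⁻¹' W = f ⁻¹' (V : Set T) := by
    ext x'
    constructor
    · rintro (⟨x'', hx'', e⟩ | ⟨y, hy, e⟩)
      · rcases H.left x'' x' e with rfl | ⟨z', z'', rfl, rfl, hz⟩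
        · exact hx''
        · change f (c z'') ∈ V
          rw [hcf, ← hz, ← hcf]
          exact hx''
      · obtain ⟨z, rfl, rfl⟩ := H.mix x' y e.symm
        change f (c z) ∈ V
        rw [hcf]
        exact hy
    · intro hx'
      exact Or.inl ⟨x', hx', rfl⟩
  have hb : b ⁻¹' W = g ⁻¹' (V : Set T) := by
    ext y'
    constructor
    · rintro (⟨x', hx', e⟩ | ⟨y'', hy'', e⟩)
      · obtain ⟨z, rfl, rfl⟩ := H.mix x' y' e
        change g (d z) ∈ V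
        rw [← hcf]
        exact hx'
      · rcases H.right y'' y' e with rfl | ⟨z', z'', rfl, rfl, hz⟩
        · exact hy''
        · change g (d z'') ∈ V
          rw [← hcf, ← hz, hcf]
          exact hy''
    · intro hy'
      exact Or.inr ⟨y', hy', rfl⟩
  have hW : IsOpen W := H.top W (by rw [ha]; exact (f ⁻¹ᵁ V).isOpen)
    (by rw [hb]; exact (g ⁻¹ᵁ V).isOpen)
  exact ⟨⟨W, hW⟩, Opens.ext ha, Opens.ext hb⟩

theorem exists_local (w : c ≫ a = d ≫ b) {W : P.Opens} (HW : SheafPB w W)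
    (f : Xs ⟶ T) (g : Ys ⟶ T) (hfg : c ≫ f = d ≫ g) {V : T.Opens} (hV : IsAffineOpen V)
    (e₁ : a ⁻¹ᵁ W ≤ f ⁻¹ᵁ V) (e₂ : b ⁻¹ᵁ W ≤ g ⁻¹ᵁ V) :
    ∃ h : (W : Scheme.{u}) ⟶ T, (a ∣_ W) ≫ h = (a ⁻¹ᵁ W).ι ≫ f ∧
      (b ∣_ W) ≫ h = (b ⁻¹ᵁ W).ι ≫ g := by
  have key : ∀ t : Γ(T, V), ∃ s : Γ(P, W), a.app W s = f.appLE V _ e₁ t ∧
      b.app W s = g.appLE V _ e₂ t := by
    intro t
    apply HW.ex
    have h1 : f.appLE V _ e₁ ≫ c.app (a ⁻¹ᵁ W) =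
        g.appLE V _ e₂ ≫ d.appLE _ _ (preimage_le w W) := by
      rw [Scheme.Hom.app_eq_appLE, Scheme.Hom.appLE_comp_appLE, Scheme.Hom.appLE_comp_appLE]
      exact appLE_congr_hom hfg _ _ _ _
    exact congrArg (fun φ => φ.hom t) h1
  choose φ hφ₁ hφ₂ using key
  have huniq : ∀ s s' : Γ(P, W), a.app W s = a.app W s' → b.app W s = b.app W s' → s = s' := by
    intro s s' h1 h2
    rw [← sub_eq_zero]
    apply HW.inj
    · rw [map_sub, h1, sub_self]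
    · rw [map_sub, h2, sub_self]
  let φr : Γ(T, V) →+* Γ(P, W) :=
    { toFun := φ
      map_one' := huniq _ _ (by rw [hφ₁, map_one, map_one]) (by rw [hφ₂, map_one, map_one])
      map_mul' := fun x y => huniq _ _ (by rw [hφ₁, map_mul, map_mul, hφ₁, hφ₁])
        (by rw [hφ₂, map_mul, map_mul, hφ₂, hφ₂])
      map_zero' := huniq _ _ (by rw [hφ₁, map_zero, map_zero]) (by rw [hφ₂, map_zero, map_zero])
      map_add' := fun x y => huniq _ _ (by rw [hφ₁, map_add, map_add, hφ₁, hφ₁])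
        (by rw [hφ₂, map_add, map_add, hφ₂, hφ₂]) }
  refine ⟨W.toSpecΓ ≫ Spec.map (CommRingCat.ofHom φr) ≫ hV.fromSpec, ?_, ?_⟩
  · rw [← Scheme.Opens.toSpecΓ_naturality_assoc, ← Spec.map_comp_assoc]
    have : CommRingCat.ofHom φr ≫ a.app W = f.appLE V _ e₁ := by
      ext t
      exact hφ₁ t
    rw [this, normal_form]
  · rw [← Scheme.Opens.toSpecΓ_naturality_assoc, ← Spec.map_comp_assoc]
    have : CommRingCat.ofHom φr ≫ b.app W = g.appLE V _ e₂ := by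
      ext t
      exact hφ₂ t
    rw [this, normal_form]

theorem res_app {X Y : Scheme.{u}} (a : X ⟶ Y) {W' W : Y.Opens} (hW : W' ≤ W) (s : Γ(Y, W)) :
    a.app W' ((Y.presheaf.map (homOfLE hW).op).hom s) =
      (X.presheaf.map (homOfLE (a.preimage_mono hW)).op).hom (a.app W s) := by
  have : Y.presheaf.map (homOfLE hW).op ≫ a.app W' =
      a.app W ≫ X.presheaf.map (homOfLE (a.preimage_mono hW)).op := by
    rw [Scheme.Hom.app_eq_appLE, Scheme.Hom.map_appLE, Scheme.Hom.app_eq_appLE,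
      Scheme.Hom.appLE_map]
  exact congrArg (fun φ => φ.hom s) this

theorem jointDense_of_basis (w : c ≫ a = d ≫ b) (Htop : TopPushout c d a b)
    (𝓑 : Set P.Opens) (hB : Opens.IsBasis 𝓑) (HB : ∀ W ∈ 𝓑, SheafPB w W) : JointDense a b := by
  refine ⟨Htop.surj, fun W s h1 h2 => ?_⟩
  apply eq_zero_of_locally
  intro y hy
  obtain ⟨W', hW'B, hyW', hW'W⟩ := (Opens.isBasis_iff_nbhd.mp hB) hy
  refine ⟨W', hW'W, hyW', ?_⟩
  apply (HB W' hW'B).inj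
  · rw [res_app, h1, map_zero]
  · rw [res_app, h2, map_zero]

/-- **Local criterion for pushouts of schemes.** -/
theorem isPushout_of_local (w : c ≫ a = d ≫ b) (Htop : TopPushout c d a b)
    (𝓑 : Set P.Opens) (hB : Opens.IsBasis 𝓑) (HB : ∀ W ∈ 𝓑, SheafPB w W) :
    IsPushout c d a b := by
  have JD : JointDense a b := jointDense_of_basis w Htop 𝓑 hB HB
  have ex : ∀ (T : Scheme.{u}) (f : Xs ⟶ T) (g : Ys ⟶ T), c ≫ f = d ≫ g →
      ∃ h : P ⟶ T, a ≫ h = f ∧ b ≫ h = g := by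
    intro T f g hfg
    have loc : ∀ x : P, ∃ (W : P.Opens) (h : (W : Scheme.{u}) ⟶ T), x ∈ W ∧
        (a ∣_ W) ≫ h = (a ⁻¹ᵁ W).ι ≫ f ∧ (b ∣_ W) ≫ h = (b ⁻¹ᵁ W).ι ≫ g := by
      intro x
      obtain ⟨t, ht⟩ : ∃ t : T, ∀ (W₀ : P.Opens) (V : T.Opens), a ⁻¹ᵁ W₀ = f ⁻¹ᵁ V →
          b ⁻¹ᵁ W₀ = g ⁻¹ᵁ V → t ∈ V → x ∈ W₀ := by
        rcases Htop.surj x with ⟨x', rfl⟩ | ⟨y, rfl⟩
        · refine ⟨f x', fun W₀ V h1 _ ht => ?_⟩
          change x' ∈ a ⁻¹ᵁ W₀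
          rw [h1]
          exact ht
        · refine ⟨g y, fun W₀ V _ h2 ht => ?_⟩
          change y ∈ b ⁻¹ᵁ W₀
          rw [h2]
          exact ht
      obtain ⟨V, hV, htV, -⟩ := exists_isAffineOpen_mem_and_subset (x := t) (U := ⊤) trivial
      obtain ⟨W₀, h1, h2⟩ := Htop.exists_open f g hfg V
      have hx : x ∈ W₀ := ht W₀ V h1 h2 htV
      obtain ⟨W, hWB, hxW, hWW₀⟩ := (Opens.isBasis_iff_nbhd.mp hB) hx
      obtain ⟨h, e1, e2⟩ := exists_local w (HB W hWB) f g hfg hV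
        ((a.preimage_mono hWW₀).trans h1.le) ((b.preimage_mono hWW₀).trans h2.le)
      exact ⟨W, h, hxW, e1, e2⟩
    choose W h hxW h1 h2 using loc
    have hcov : IsOpenCover W := by
      rw [IsOpenCover, eq_top_iff]
      intro y _
      exact Opens.mem_iSup.mpr ⟨y, hxW y⟩
    obtain ⟨hh, hhW⟩ := exists_glue_family W hcov h (by
      intro i j
      apply (JD.restrict (W i ⊓ W j)).hom_ext
      · rw [morphismRestrict_homOfLE_assoc, morphismRestrict_homOfLE_assoc, h1, h1,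
          Scheme.homOfLE_ι_assoc, Scheme.homOfLE_ι_assoc]
      · rw [morphismRestrict_homOfLE_assoc, morphismRestrict_homOfLE_assoc, h2, h2,
          Scheme.homOfLE_ι_assoc, Scheme.homOfLE_ι_assoc])
    refine ⟨hh, ?_, ?_⟩
    · apply hom_ext_of_forall_point
      intro x'
      refine ⟨a ⁻¹ᵁ (W (a x')), hxW (a x'), ?_⟩
      rw [← morphismRestrict_ι_assoc, hhW, h1]
    · apply hom_ext_of_forall_point
      intro y
      refine ⟨b ⁻¹ᵁ (W (b y)), hxW (b y), ?_⟩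
      rw [← morphismRestrict_ι_assoc, hhW, h2]
  choose desc hd1 hd2 using ex
  exact ⟨⟨w⟩, ⟨PushoutCocone.IsColimit.mk w
    (fun s => desc s.pt s.inl s.inr s.condition)
    (fun s => hd1 s.pt s.inl s.inr s.condition)
    (fun s => hd2 s.pt s.inl s.inr s.condition)
    (fun s m m1 m2 => JD.hom_ext _ _ (m1.trans (hd1 s.pt s.inl s.inr s.condition).symm)
      (m2.trans (hd2 s.pt s.inl s.inr s.condition).symm))⟩⟩

end Groth.Agent.Lib.Helper9.PushLoc
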