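import Mathlib

set_option autoImplicit false
set_option linter.style.haveILetI false
set_option linter.unusedSectionVars false
universe u v w
open CategoryTheory CategoryTheory.Limits AlgebraicGeometry TopologicalSpace Opposite Topology

namespace Groth.Agent.Lib.Helper9.RingPB

/-- an abstract pullback square of commutative rings, `R = R₁ ×_{R₀} R₂`. -/
structure IsPB {R R₁ R₂ R₀ : Type*} [CommRing R] [CommRing R₁] [CommRing R₂] [CommRing R₀]
    (π₁ : R →+* R₁) (π₂ : R →+* R₂) (q₁ : R₁ →+* R₀) (q₂ : R₂ →+* R₀) : Prop where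
  comm : ∀ x, q₁ (π₁ x) = q₂ (π₂ x)
  inj : ∀ x, π₁ x = 0 → π₂ x = 0 → x = 0
  ex : ∀ x₁ x₂, q₁ x₁ = q₂ x₂ → ∃ x, π₁ x = x₁ ∧ π₂ x = x₂

/-- `l : R → R'` is a localization away from `r`, in elementary terms. -/
structure IsAwayLoc {R R' : Type*} [CommRing R] [CommRing R'] (l : R →+* R') (r : R) : Prop where
  unit : IsUnit (l r)
  surj : ∀ z : R', ∃ (n : ℕ) (x : R), z * l r ^ n = l x
  ker : ∀ x : R, l x = 0 → ∃ n : ℕ, r ^ n * x = 0

theorem IsAwayLoc.of_isLocalization {R R' : Type*} [CommRing R] [CommRing R'] [Algebra R R']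
    (r : R) [IsLocalization.Away r R'] : IsAwayLoc (algebraMap R R') r := by
  refine ⟨IsLocalization.Away.algebraMap_isUnit r, fun z => ?_, fun x hx => ?_⟩
  · obtain ⟨n, a, h⟩ := IsLocalization.Away.surj r z
    exact ⟨n, a, h⟩
  · rw [← (algebraMap R R').map_zero] at hx
    obtain ⟨⟨_, n, rfl⟩, hc⟩ := (IsLocalization.eq_iff_exists (Submonoid.powers r) R').mp hx
    exact ⟨n, by simpa using hc⟩

theorem IsAwayLoc.of_toAlgebra {R R' : Type*} [CommRing R] [CommRing R'] (l : R →+* R')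
    (r : R) (h : @IsLocalization.Away R _ r R' _ l.toAlgebra) : IsAwayLoc l r := by
  letI := l.toAlgebra
  exact IsAwayLoc.of_isLocalization r

theorem IsAwayLoc.cancel {R R' : Type*} [CommRing R] [CommRing R'] {l : R →+* R'} {r : R}
    (h : IsAwayLoc l r) (n : ℕ) {x y : R'} (hxy : x * l r ^ n = y * l r ^ n) : x = y :=
  ((h.unit.pow n).mul_left_inj).mp hxy

theorem IsAwayLoc.exists_div {R R' : Type*} [CommRing R] [CommRing R'] {l : R →+* R'} {r : R}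
    (h : IsAwayLoc l r) (n : ℕ) (x : R) : ∃ z : R', z * l r ^ n = l x := by
  obtain ⟨u, hu⟩ := h.unit
  refine ⟨l x * ↑(u⁻¹ ^ n), ?_⟩
  rw [← hu, mul_assoc, ← Units.val_pow_eq_pow_val, ← Units.val_mul]
  simp

section loc
variable {R R₁ R₂ R₀ : Type*} [CommRing R] [CommRing R₁] [CommRing R₂] [CommRing R₀]
  {π₁ : R →+* R₁} {π₂ : R →+* R₂} {q₁ : R₁ →+* R₀} {q₂ : R₂ →+* R₀}
  {R' R₁' R₂' R₀' : Type*} [CommRing R'] [CommRing R₁'] [CommRing R₂'] [CommRing R₀']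
  {l : R →+* R'} {l₁ : R₁ →+* R₁'} {l₂ : R₂ →+* R₂'} {l₀ : R₀ →+* R₀'}
  {π₁' : R' →+* R₁'} {π₂' : R' →+* R₂'} {q₁' : R₁' →+* R₀'} {q₂' : R₂' →+* R₀'}

/-- **Localization of a pullback square of rings is a pullback square.** -/
theorem IsPB.localization (H : IsPB π₁ π₂ q₁ q₂) (r : R)
    (hl : IsAwayLoc l r) (hl₁ : IsAwayLoc l₁ (π₁ r)) (hl₂ : IsAwayLoc l₂ (π₂ r))
    (hl₀ : IsAwayLoc l₀ (q₁ (π₁ r)))
    (h1 : ∀ x, π₁' (l x) = l₁ (π₁ x)) (h2 : ∀ x, π₂' (l x) = l₂ (π₂ x))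
    (h3 : ∀ x, q₁' (l₁ x) = l₀ (q₁ x)) (h4 : ∀ x, q₂' (l₂ x) = l₀ (q₂ x)) :
    IsPB π₁' π₂' q₁' q₂' := by
  have hr0 : q₂ (π₂ r) = q₁ (π₁ r) := (H.comm r).symm
  refine ⟨fun z => ?_, fun z hz1 hz2 => ?_, fun z₁ z₂ hz => ?_⟩
  · obtain ⟨n, x, hx⟩ := hl.surj z
    apply hl₀.cancel n
    have e1 : q₁' (π₁' z) * l₀ (q₁ (π₁ r)) ^ n = l₀ (q₁ (π₁ x)) := by
      have := congrArg (fun t => q₁' (π₁' t)) hx
      simp only [map_mul, map_pow, h1, h3] at this
      exact this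
    have e2 : q₂' (π₂' z) * l₀ (q₁ (π₁ r)) ^ n = l₀ (q₂ (π₂ x)) := by
      have := congrArg (fun t => q₂' (π₂' t)) hx
      simp only [map_mul, map_pow, h2, h4, hr0] at this
      exact this
    rw [e1, e2, H.comm]
  · obtain ⟨n, x, hx⟩ := hl.surj z
    have e1 : l₁ (π₁ x) = 0 := by rw [← h1, ← hx, map_mul, hz1, zero_mul]
    have e2 : l₂ (π₂ x) = 0 := by rw [← h2, ← hx, map_mul, hz2, zero_mul]
    obtain ⟨m₁, hm₁⟩ := hl₁.ker _ e1
    obtain ⟨m₂, hm₂⟩ := hl₂.ker _ e2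
    have hx0 : r ^ (m₁ + m₂) * x = 0 := by
      apply H.inj
      · rw [map_mul, map_pow, pow_add, mul_comm (π₁ r ^ m₁), mul_assoc, hm₁, mul_zero]
      · rw [map_mul, map_pow, pow_add, mul_assoc, hm₂, mul_zero]
    have hlx : l x = 0 := by
      apply hl.cancel (m₁ + m₂)
      rw [zero_mul, ← map_pow, ← map_mul, mul_comm, hx0, map_zero]
    apply hl.cancel n
    rw [hx, hlx, zero_mul]
  · obtain ⟨n₁, x₁, hx₁⟩ := hl₁.surj z₁
    obtain ⟨n₂, x₂, hx₂⟩ := hl₂.surj z₂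
    -- common exponent
    obtain ⟨N, y₁, y₂, hy₁, hy₂⟩ : ∃ (N : ℕ) (y₁ : R₁) (y₂ : R₂),
        z₁ * l₁ (π₁ r) ^ N = l₁ y₁ ∧ z₂ * l₂ (π₂ r) ^ N = l₂ y₂ := by
      refine ⟨n₁ + n₂, π₁ r ^ n₂ * x₁, π₂ r ^ n₁ * x₂, ?_, ?_⟩
      · rw [pow_add, ← mul_assoc, hx₁, map_mul, map_pow, mul_comm]
      · rw [pow_add, mul_comm (l₂ (π₂ r) ^ n₁), ← mul_assoc, hx₂, map_mul, map_pow, mul_comm]
    have e0 : l₀ (q₁ y₁ - q₂ y₂) = 0 := by
      have a1 := congrArg q₁' hy₁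
      have a2 := congrArg q₂' hy₂
      simp only [map_mul, map_pow, h3, h4, hr0] at a1 a2
      rw [map_sub, ← a1, ← a2, hz, sub_self]
    obtain ⟨m, hm⟩ := hl₀.ker _ e0
    have hq : q₁ (π₁ r ^ m * y₁) = q₂ (π₂ r ^ m * y₂) := by
      simp only [map_mul, map_pow, hr0]
      rw [← sub_eq_zero, ← mul_sub]
      exact hm
    obtain ⟨x, hx1, hx2⟩ := H.ex _ _ hq
    obtain ⟨z, hz'⟩ := hl.exists_div (m + N) x
    refine ⟨z, ?_, ?_⟩
    · apply hl₁.cancel (m + N)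
      have : π₁' z * l₁ (π₁ r) ^ (m + N) = l₁ (π₁ x) := by
        have := congrArg π₁' hz'
        simp only [map_mul, map_pow, h1] at this
        exact this
      rw [this, hx1, map_mul, map_pow, ← hy₁, pow_add]
      ring
    · apply hl₂.cancel (m + N)
      have : π₂' z * l₂ (π₂ r) ^ (m + N) = l₂ (π₂ x) := by
        have := congrArg π₂' hz'
        simp only [map_mul, map_pow, h2] at this
        exact this
      rw [this, hx2, map_mul, map_pow, ← hy₂, pow_add]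
      ring

end loc

section spec
open PrimeSpectrum
variable {R R₁ R₂ R₀ : Type u} [CommRing R] [CommRing R₁] [CommRing R₂] [CommRing R₀]
  {π₁ : R →+* R₁} {π₂ : R →+* R₂} {q₁ : R₁ →+* R₀} {q₂ : R₂ →+* R₀}

theorem IsPB.surj₂ (H : IsPB π₁ π₂ q₁ q₂) (hq : Function.Surjective q₁) :
    Function.Surjective π₂ := by
  intro y
  obtain ⟨x₁, hx₁⟩ := hq (q₂ y)
  obtain ⟨x, -, hx⟩ := H.ex x₁ y hx₁
  exact ⟨x, hx⟩

theorem IsPB.exists_ker (H : IsPB π₁ π₂ q₁ q₂) {k : R₁} (hk : q₁ k = 0) (x₁ : R₁) :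
    ∃ t, π₁ t = k * x₁ ∧ π₂ t = 0 :=
  H.ex _ _ (by rw [map_mul, hk, zero_mul, map_zero])

theorem IsPB.mem_ker (H : IsPB π₁ π₂ q₁ q₂) {t : R} (ht : π₂ t = 0) : q₁ (π₁ t) = 0 := by
  rw [H.comm, ht, map_zero]

theorem IsPB.uniq (H : IsPB π₁ π₂ q₁ q₂) {t t' : R} (h1 : π₁ t = π₁ t') (h2 : π₂ t = π₂ t') :
    t = t' := by
  rw [← sub_eq_zero]
  apply H.inj
  · rw [map_sub, h1, sub_self]
  · rw [map_sub, h2, sub_self]

theorem IsPB.comap_comm (H : IsPB π₁ π₂ q₁ q₂) (z : PrimeSpectrum R₀) :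
    comap π₁ (comap q₁ z) = comap π₂ (comap q₂ z) := by
  ext x
  simp only [comap_asIdeal, Ideal.mem_comap]
  rw [H.comm]

/-- a prime of `R` not containing `κ ∈ ker π₂` comes from `R₁` -/
theorem IsPB.exists_comap_of_not_mem (H : IsPB π₁ π₂ q₁ q₂) (x : PrimeSpectrum R) {κ : R}
    (hκ2 : π₂ κ = 0) (hκx : κ ∉ x.asIdeal) : ∃ x', comap π₁ x' = x := by
  have hk : q₁ (π₁ κ) = 0 := H.mem_ker hκ2
  let I : Ideal R₁ :=
    { carrier := {x₁ | ∃ t ∈ x.asIdeal, π₁ t = π₁ κ * x₁ ∧ π₂ t = 0}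
      add_mem' := by
        rintro x₁ y₁ ⟨t, ht, h1, h2⟩ ⟨t', ht', h1', h2'⟩
        exact ⟨t + t', x.asIdeal.add_mem ht ht', by rw [map_add, h1, h1', mul_add],
          by rw [map_add, h2, h2', add_zero]⟩
      zero_mem' := ⟨0, x.asIdeal.zero_mem, by rw [map_zero, mul_zero], map_zero _⟩
      smul_mem' := by
        rintro c x₁ ⟨t, ht, h1, h2⟩
        obtain ⟨t'', a1, a2⟩ := H.exists_ker hk (c * x₁)
        obtain ⟨s, s1, s2⟩ := H.exists_ker hk c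
        have e : κ * t'' = s * t := H.uniq (by rw [map_mul, map_mul, a1, s1, h1]; ring)
          (by rw [map_mul, map_mul, a2, s2, mul_zero, zero_mul])
        have hm : κ * t'' ∈ x.asIdeal := e ▸ x.asIdeal.mul_mem_left s ht
        exact ⟨t'', (x.isPrime.mem_or_mem hm).resolve_left hκx, a1, a2⟩ }
  have hI : I.IsPrime := by
    refine ⟨?_, ?_⟩
    · rw [Ideal.ne_top_iff_one]
      rintro ⟨t, ht, h1, h2⟩
      have : t = κ := H.uniq (by rw [h1, mul_one]) (by rw [h2, hκ2])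
      exact hκx (this ▸ ht)
    · rintro x₁ y₁ ⟨t, ht, h1, h2⟩
      obtain ⟨t₁, a1, a2⟩ := H.exists_ker hk x₁
      obtain ⟨t₂, b1, b2⟩ := H.exists_ker hk y₁
      have e : t₁ * t₂ = κ * t := H.uniq (by rw [map_mul, map_mul, a1, b1, h1]; ring)
        (by rw [map_mul, map_mul, a2, h2, mul_zero, zero_mul])
      have hm : t₁ * t₂ ∈ x.asIdeal := e ▸ x.asIdeal.mul_mem_left κ ht
      rcases x.isPrime.mem_or_mem hm with h | h
      · exact Or.inl ⟨t₁, h, a1, a2⟩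
      · exact Or.inr ⟨t₂, h, b1, b2⟩
  refine ⟨⟨I, hI⟩, ?_⟩
  ext s
  simp only [comap_asIdeal, Ideal.mem_comap]
  constructor
  · rintro ⟨t, ht, h1, h2⟩
    have : t = κ * s := H.uniq (by rw [h1, map_mul]) (by rw [h2, map_mul, hκ2, zero_mul])
    exact (x.isPrime.mem_or_mem (this ▸ ht)).resolve_left hκx
  · intro hs
    exact ⟨κ * s, x.asIdeal.mul_mem_left _ hs, by rw [map_mul], by rw [map_mul, hκ2, zero_mul]⟩

theorem IsPB.spec_surj (H : IsPB π₁ π₂ q₁ q₂) (hq : Function.Surjective q₁)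
    (x : PrimeSpectrum R) : (∃ x', comap π₁ x' = x) ∨ ∃ y, comap π₂ y = x := by
  by_cases hx : x ∈ zeroLocus (RingHom.ker π₂ : Set R)
  · right
    rw [← range_comap_of_surjective _ _ (H.surj₂ hq)] at hx
    exact hx
  · left
    rw [mem_zeroLocus, Set.not_subset] at hx
    obtain ⟨κ, hκ, hκx⟩ := hx
    exact H.exists_comap_of_not_mem x (RingHom.mem_ker.mp hκ) hκx

theorem IsPB.spec_of_ker_le (hq : Function.Surjective q₁) (x' : PrimeSpectrum R₁)
    (h : ∀ k, q₁ k = 0 → k ∈ x'.asIdeal) : ∃ z, comap q₁ z = x' := by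
  have : x' ∈ zeroLocus (RingHom.ker q₁ : Set R₁) := by
    rw [mem_zeroLocus]
    intro k hk
    exact h k (RingHom.mem_ker.mp hk)
  rw [← range_comap_of_surjective _ _ hq] at this
  exact this

theorem IsPB.spec_mix (H : IsPB π₁ π₂ q₁ q₂) (hq : Function.Surjective q₁)
    (x' : PrimeSpectrum R₁) (y : PrimeSpectrum R₂) (h : comap π₁ x' = comap π₂ y) :
    ∃ z, comap q₁ z = x' ∧ comap q₂ z = y := by
  obtain ⟨z, hz⟩ := IsPB.spec_of_ker_le hq x' (fun k hk => by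
    obtain ⟨t, t1, t2⟩ := H.exists_ker hk 1
    rw [mul_one] at t1
    have : t ∈ (comap π₂ y).asIdeal := by
      rw [comap_asIdeal, Ideal.mem_comap, t2]
      exact y.asIdeal.zero_mem
    rw [← h, comap_asIdeal, Ideal.mem_comap, t1] at this
    exact this)
  refine ⟨z, hz, ?_⟩
  apply comap_injective_of_surjective π₂ (H.surj₂ hq)
  rw [← H.comap_comm, hz, h]

theorem IsPB.spec_left (H : IsPB π₁ π₂ q₁ q₂) (hq : Function.Surjective q₁)
    (x' x'' : PrimeSpectrum R₁) (h : comap π₁ x' = comap π₁ x'') :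
    x' = x'' ∨ ∃ z' z'', comap q₁ z' = x' ∧ comap q₁ z'' = x'' ∧ comap q₂ z' = comap q₂ z'' := by
  have hmem : ∀ t : R, π₁ t ∈ x'.asIdeal ↔ π₁ t ∈ x''.asIdeal := by
    intro t
    have := congrArg (fun p : PrimeSpectrum R => t ∈ p.asIdeal) h
    simpa only [comap_asIdeal, Ideal.mem_comap, eq_iff_iff] using this
  by_cases hK : ∀ k, q₁ k = 0 → k ∈ x'.asIdeal
  · right
    have hK' : ∀ k, q₁ k = 0 → k ∈ x''.asIdeal := by
      intro k hk
      obtain ⟨t, t1, -⟩ := H.exists_ker hk 1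
      rw [mul_one] at t1
      rw [← t1, ← hmem, t1]
      exact hK k hk
    obtain ⟨z', hz'⟩ := IsPB.spec_of_ker_le hq x' hK
    obtain ⟨z'', hz''⟩ := IsPB.spec_of_ker_le hq x'' hK'
    refine ⟨z', z'', hz', hz'', ?_⟩
    apply comap_injective_of_surjective π₂ (H.surj₂ hq)
    rw [← H.comap_comm, ← H.comap_comm, hz', hz'', h]
  · left
    push Not at hK
    obtain ⟨k, hk, hkx⟩ := hK
    have hkx'' : k ∉ x''.asIdeal := by
      obtain ⟨t, t1, -⟩ := H.exists_ker hk 1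
      rw [mul_one] at t1
      rw [← t1, ← hmem, t1]
      exact hkx
    ext x₁
    obtain ⟨t, t1, -⟩ := H.exists_ker hk x₁
    have := hmem t
    rw [t1] at this
    constructor
    · intro hx₁
      exact (x''.isPrime.mem_or_mem (this.mp (x'.asIdeal.mul_mem_left k hx₁))).resolve_left hkx''
    · intro hx₁
      exact (x'.isPrime.mem_or_mem (this.mpr (x''.asIdeal.mul_mem_left k hx₁))).resolve_left hkx

theorem IsPB.spec_top (H : IsPB π₁ π₂ q₁ q₂) (hq : Function.Surjective q₁)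
    (W : Set (PrimeSpectrum R)) (h₁ : IsOpen (comap π₁ ⁻¹' W)) (h₂ : IsOpen (comap π₂ ⁻¹' W)) :
    IsOpen W := by
  rw [isOpen_iff_forall_mem_open]
  intro x hxW
  -- it suffices to find a basic open
  suffices hr : ∃ r : R, r ∉ x.asIdeal ∧
      (∀ x' : PrimeSpectrum R₁, π₁ r ∉ x'.asIdeal → comap π₁ x' ∈ W) ∧
      (∀ y : PrimeSpectrum R₂, π₂ r ∉ y.asIdeal → comap π₂ y ∈ W) by
    obtain ⟨r, hrx, hr1, hr2⟩ := hr
    refine ⟨basicOpen r, ?_, (basicOpen r).isOpen, hrx⟩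
    intro x₁ hx₁
    rcases H.spec_surj hq x₁ with ⟨x', rfl⟩ | ⟨y, rfl⟩
    · exact hr1 x' hx₁
    · exact hr2 y hx₁
  by_cases hx : x ∈ zeroLocus (RingHom.ker π₂ : Set R)
  · rw [← range_comap_of_surjective _ _ (H.surj₂ hq)] at hx
    obtain ⟨y, rfl⟩ := hx
    -- basic open around y inside G₂
    obtain ⟨_, ⟨β₀, rfl⟩, hyβ, hβ⟩ := isTopologicalBasis_basic_opens.exists_subset_of_mem_open
      (show y ∈ comap π₂ ⁻¹' W from hxW) h₂
    obtain ⟨𝔞, h𝔞⟩ := (isClosed_iff_zeroLocus_ideal _).mp h₁.isClosed_compl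
    obtain ⟨α₁, hα₁⟩ := hq (q₂ β₀)
    have hrad : α₁ ∈ (𝔞 ⊔ RingHom.ker q₁).radical := by
      rw [Ideal.radical_eq_sInf, Submodule.mem_sInf]
      rintro 𝔭 ⟨h𝔭, h𝔭prime⟩
      let x' : PrimeSpectrum R₁ := ⟨𝔭, h𝔭prime⟩
      obtain ⟨z, hz⟩ := IsPB.spec_of_ker_le hq x' (fun k hk =>
        h𝔭 (Ideal.mem_sup_right (RingHom.mem_ker.mpr hk)))
      have hx'W : x' ∉ comap π₁ ⁻¹' W := by
        have : x' ∈ zeroLocus (𝔞 : Set R₁) := by
          rw [mem_zeroLocus]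
          exact fun a ha => h𝔭 (Ideal.mem_sup_left ha)
        rw [← h𝔞] at this
        exact this
      have hz2 : comap q₂ z ∉ (basicOpen β₀ : Set (PrimeSpectrum R₂)) := by
        intro hmem
        apply hx'W
        have := hβ hmem
        rw [Set.mem_preimage, ← H.comap_comm, hz] at this
        exact this
      have hβz : q₂ β₀ ∈ z.asIdeal := by
        by_contra hcon
        exact hz2 hcon
      rw [← hα₁] at hβz
      have : α₁ ∈ (comap q₁ z).asIdeal := hβz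
      rw [hz] at this
      exact this
    obtain ⟨N, hN⟩ := hrad
    obtain ⟨u, hu, k, hk, huk⟩ := Submodule.mem_sup.mp hN
    have hk0 : q₁ k = 0 := RingHom.mem_ker.mp hk
    have hq' : q₁ (α₁ * u) = q₂ (β₀ ^ (N + 1)) := by
      have : α₁ * u = α₁ ^ (N + 1) - α₁ * k := by rw [pow_succ, ← huk]; ring
      rw [this, map_sub, map_mul, hk0, mul_zero, sub_zero, map_pow, map_pow, hα₁]
    obtain ⟨r, hr1, hr2⟩ := H.ex _ _ hq'
    refine ⟨r, ?_, ?_, ?_⟩
    · rw [comap_asIdeal, Ideal.mem_comap, hr2]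
      intro hmem
      exact hyβ (y.isPrime.mem_of_pow_mem _ hmem)
    · intro x' hx'
      rw [hr1] at hx'
      have : x' ∉ zeroLocus (𝔞 : Set R₁) := by
        rw [mem_zeroLocus]
        intro hsub
        exact hx' (x'.asIdeal.mul_mem_left α₁ (hsub hu))
      rw [← h𝔞, Set.mem_compl_iff, not_not] at this
      exact this
    · intro y₁ hy₁
      rw [hr2] at hy₁
      apply hβ
      intro hmem
      exact hy₁ (y₁.asIdeal.pow_mem_of_mem hmem _ (Nat.succ_pos N))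
  · rw [mem_zeroLocus, Set.not_subset] at hx
    obtain ⟨κ, hκ, hκx⟩ := hx
    have hκ2 : π₂ κ = 0 := RingHom.mem_ker.mp hκ
    obtain ⟨x', rfl⟩ := H.exists_comap_of_not_mem x hκ2 hκx
    obtain ⟨_, ⟨α₁, rfl⟩, hxα, hα⟩ := isTopologicalBasis_basic_opens.exists_subset_of_mem_open
      (show x' ∈ comap π₁ ⁻¹' W from hxW) h₁
    obtain ⟨r, hr1, hr2⟩ := H.exists_ker (H.mem_ker hκ2) α₁
    refine ⟨r, ?_, ?_, ?_⟩
    · rw [comap_asIdeal, Ideal.mem_comap, hr1]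
      intro hmem
      rcases x'.isPrime.mem_or_mem hmem with h | h
      · exact hκx h
      · exact hxα h
    · intro x'' hx''
      rw [hr1] at hx''
      apply hα
      intro hmem
      exact hx'' (x''.asIdeal.mul_mem_left _ hmem)
    · intro y₁ hy₁
      rw [hr2] at hy₁
      exact absurd y₁.asIdeal.zero_mem hy₁

end spec

end Groth.Agent.Lib.Helper9.RingPB
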