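import Mathlib
import Groth.Agent.Lib.Helper9.PushLoc
import Groth.Agent.Lib.Helper9.RingPB

set_option autoImplicit false
set_option linter.style.haveILetI false
set_option linter.unusedSectionVars false
universe u v w
open CategoryTheory CategoryTheory.Limits AlgebraicGeometry TopologicalSpace Opposite Topology

namespace Groth.Agent.Lib.Helper9.RingPB

open Groth.Agent.Lib.Helper9.PushLoc

theorem IsPB.symm {R R₁ R₂ R₀ : Type*} [CommRing R] [CommRing R₁] [CommRing R₂] [CommRing R₀]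
    {π₁ : R →+* R₁} {π₂ : R →+* R₂} {q₁ : R₁ →+* R₀} {q₂ : R₂ →+* R₀}
    (H : IsPB π₁ π₂ q₁ q₂) : IsPB π₂ π₁ q₂ q₁ :=
  ⟨fun x => (H.comm x).symm, fun x h2 h1 => H.inj x h1 h2, fun x₂ x₁ h => by
    obtain ⟨x, h1, h2⟩ := H.ex x₁ x₂ h.symm
    exact ⟨x, h2, h1⟩⟩

/-- transport of a pullback square along bijections -/
theorem IsPB.of_bijective {R R₁ R₂ R₀ : Type*} [CommRing R] [CommRing R₁] [CommRing R₂]
    [CommRing R₀] {π₁ : R →+* R₁} {π₂ : R →+* R₂} {q₁ : R₁ →+* R₀} {q₂ : R₂ →+* R₀}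
    (H : IsPB π₁ π₂ q₁ q₂)
    {S S₁ S₂ S₀ : Type*} [CommRing S] [CommRing S₁] [CommRing S₂] [CommRing S₀]
    {π₁' : S →+* S₁} {π₂' : S →+* S₂} {q₁' : S₁ →+* S₀} {q₂' : S₂ →+* S₀}
    (e : S →+* R) (e₁ : S₁ →+* R₁) (e₂ : S₂ →+* R₂) (e₀ : S₀ →+* R₀)
    (he : Function.Bijective e) (he₁ : Function.Injective e₁) (he₂ : Function.Injective e₂)
    (he₀ : Function.Injective e₀)
    (h1 : ∀ s, π₁ (e s) = e₁ (π₁' s)) (h2 : ∀ s, π₂ (e s) = e₂ (π₂' s))
    (h3 : ∀ s, q₁ (e₁ s) = e₀ (q₁' s)) (h4 : ∀ s, q₂ (e₂ s) = e₀ (q₂' s)) :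
    IsPB π₁' π₂' q₁' q₂' := by
  refine ⟨fun s => ?_, fun s hs1 hs2 => ?_, fun s₁ s₂ hs => ?_⟩
  · apply he₀
    rw [← h3, ← h1, ← h4, ← h2, H.comm]
  · apply he.1
    rw [map_zero]
    apply H.inj
    · rw [h1, hs1, map_zero]
    · rw [h2, hs2, map_zero]
  · obtain ⟨x, hx1, hx2⟩ := H.ex (e₁ s₁) (e₂ s₂) (by rw [h3, h4, hs])
    obtain ⟨s, rfl⟩ := he.2 x
    refine ⟨s, he₁ ?_, he₂ ?_⟩
    · rw [← h1, hx1]
    · rw [← h2, hx2]

/-- a limit pullback cone of commutative rings is a pullback square in the elementary sense -/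
theorem isPB_of_isLimit {A B C : CommRingCat.{u}} (f : A ⟶ C) (g : B ⟶ C)
    (s : PullbackCone f g) (hs : IsLimit s) : IsPB s.fst.hom s.snd.hom f.hom g.hom := by
  let e := hs.conePointUniqueUpToIso (CommRingCat.pullbackConeIsLimit f g)
  have e1 : e.hom ≫ (CommRingCat.pullbackCone f g).fst = s.fst :=
    IsLimit.conePointUniqueUpToIso_hom_comp _ _ WalkingCospan.left
  have e2 : e.hom ≫ (CommRingCat.pullbackCone f g).snd = s.snd :=
    IsLimit.conePointUniqueUpToIso_hom_comp _ _ WalkingCospan.right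
  have e1' : e.inv ≫ s.fst = (CommRingCat.pullbackCone f g).fst :=
    IsLimit.conePointUniqueUpToIso_inv_comp _ _ WalkingCospan.left
  have e2' : e.inv ≫ s.snd = (CommRingCat.pullbackCone f g).snd :=
    IsLimit.conePointUniqueUpToIso_inv_comp _ _ WalkingCospan.right
  refine ⟨fun x => ?_, fun x h1 h2 => ?_, fun a b h => ?_⟩
  · exact congrArg (fun φ => φ.hom x) s.condition
  · have hinj : Function.Injective e.hom.hom := (ConcreteCategory.bijective_of_isIso e.hom).1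
    apply hinj
    rw [map_zero]
    have a1 : ((CommRingCat.pullbackCone f g).fst.hom (e.hom.hom x)) = 0 := by
      rw [← h1, ← e1]; rfl
    have a2 : ((CommRingCat.pullbackCone f g).snd.hom (e.hom.hom x)) = 0 := by
      rw [← h2, ← e2]; rfl
    apply Subtype.ext
    exact Prod.ext a1 a2
  · let y : (CommRingCat.pullbackCone f g).pt := ⟨(a, b), h⟩
    refine ⟨e.inv.hom y, ?_, ?_⟩
    · have := congrArg (fun φ => φ.hom y) e1'
      exact this
    · have := congrArg (fun φ => φ.hom y) e2'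
      exact this

section affine
variable {Z Xs Ys P : Scheme.{u}} [IsAffine Z] [IsAffine Xs] [IsAffine Ys] [IsAffine P]
  {c : Z ⟶ Xs} {d : Z ⟶ Ys} {a : Xs ⟶ P} {b : Ys ⟶ P}

theorem res_top_app {X Y : Scheme.{u}} (a : X ⟶ Y) (W : Y.Opens) (s : Γ(Y, ⊤)) :
    (a.app W).hom ((Y.presheaf.map (homOfLE (le_top : W ≤ ⊤)).op).hom s) =
      (X.presheaf.map (homOfLE (le_top : a ⁻¹ᵁ W ≤ ⊤)).op).hom (a.appTop.hom s) :=
  res_app a (le_top : W ≤ ⊤) s

theorem sheafPB_basicOpen (w : c ≫ a = d ≫ b)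
    (hPB : IsPB a.appTop.hom b.appTop.hom c.appTop.hom d.appTop.hom) (r : Γ(P, ⊤)) :
    SheafPB w (P.basicOpen r) := by
  have hl : IsAwayLoc (P.presheaf.map (homOfLE (le_top : P.basicOpen r ≤ ⊤)).op).hom r :=
    IsAwayLoc.of_toAlgebra _ r
      ((isAffineOpen_top P).isLocalization_of_eq_basicOpen r (homOfLE le_top) rfl)
  have hl₁ : IsAwayLoc (Xs.presheaf.map (homOfLE (le_top : a ⁻¹ᵁ P.basicOpen r ≤ ⊤)).op).hom
      (a.appTop.hom r) :=
    IsAwayLoc.of_toAlgebra _ _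
      ((isAffineOpen_top Xs).isLocalization_of_eq_basicOpen _ (homOfLE le_top)
        (Scheme.preimage_basicOpen_top a r))
  have hl₂ : IsAwayLoc (Ys.presheaf.map (homOfLE (le_top : b ⁻¹ᵁ P.basicOpen r ≤ ⊤)).op).hom
      (b.appTop.hom r) :=
    IsAwayLoc.of_toAlgebra _ _
      ((isAffineOpen_top Ys).isLocalization_of_eq_basicOpen _ (homOfLE le_top)
        (Scheme.preimage_basicOpen_top b r))
  have hl₀ : IsAwayLoc
      (Z.presheaf.map (homOfLE (le_top : c ⁻¹ᵁ (a ⁻¹ᵁ P.basicOpen r) ≤ ⊤)).op).hom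
      (c.appTop.hom (a.appTop.hom r)) :=
    IsAwayLoc.of_toAlgebra _ _
      ((isAffineOpen_top Z).isLocalization_of_eq_basicOpen _ (homOfLE le_top)
        (by rw [Scheme.preimage_basicOpen_top a r, Scheme.preimage_basicOpen_top c]))
  have h4 : ∀ x, (d.appLE (b ⁻¹ᵁ P.basicOpen r) (c ⁻¹ᵁ (a ⁻¹ᵁ P.basicOpen r))
      (preimage_le w _)).hom
        ((Ys.presheaf.map (homOfLE (le_top : b ⁻¹ᵁ P.basicOpen r ≤ ⊤)).op).hom x) =
      (Z.presheaf.map (homOfLE (le_top : c ⁻¹ᵁ (a ⁻¹ᵁ P.basicOpen r) ≤ ⊤)).op).hom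
        (d.appTop.hom x) := by
    intro x
    have : Ys.presheaf.map (homOfLE (le_top : b ⁻¹ᵁ P.basicOpen r ≤ ⊤)).op ≫
        d.appLE (b ⁻¹ᵁ P.basicOpen r) (c ⁻¹ᵁ (a ⁻¹ᵁ P.basicOpen r)) (preimage_le w _) =
        d.app ⊤ ≫ Z.presheaf.map
          (homOfLE (show c ⁻¹ᵁ (a ⁻¹ᵁ P.basicOpen r) ≤ d ⁻¹ᵁ ⊤ from le_top)).op := by
      rw [Scheme.Hom.map_appLE, Scheme.Hom.app_eq_appLE, Scheme.Hom.appLE_map]
    exact congrArg (fun φ => φ.hom x) this
  have H' := hPB.localization r hl hl₁ hl₂ hl₀ (π₁' := (a.app (P.basicOpen r)).hom)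
    (π₂' := (b.app (P.basicOpen r)).hom) (q₁' := (c.app (a ⁻¹ᵁ P.basicOpen r)).hom)
    (q₂' := (d.appLE (b ⁻¹ᵁ P.basicOpen r) (c ⁻¹ᵁ (a ⁻¹ᵁ P.basicOpen r)) (preimage_le w _)).hom)
    (fun x => res_top_app a _ x) (fun x => res_top_app b _ x) (fun x => res_top_app c _ x) h4
  exact ⟨H'.inj, H'.ex⟩

/-- **Pushouts of affine schemes from pullbacks of rings**, given the topological pushout. -/
theorem isPushout_of_isAffine (w : c ≫ a = d ≫ b) (Htop : TopPushout c d a b)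
    (hPB : IsPB a.appTop.hom b.appTop.hom c.appTop.hom d.appTop.hom) : IsPushout c d a b := by
  refine isPushout_of_local w Htop _ (isBasis_basicOpen P) ?_
  rintro _ ⟨r, rfl⟩
  exact sheafPB_basicOpen w hPB r

end affine

section spec
variable {R R₁ R₂ R₀ : Type u} [CommRing R] [CommRing R₁] [CommRing R₂] [CommRing R₀]
  {π₁ : R →+* R₁} {π₂ : R →+* R₂} {q₁ : R₁ →+* R₀} {q₂ : R₂ →+* R₀}

theorem topPushout_Spec (H : IsPB π₁ π₂ q₁ q₂) (hq : Function.Surjective q₁) :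
    TopPushout (Spec.map (CommRingCat.ofHom q₁)) (Spec.map (CommRingCat.ofHom q₂))
      (Spec.map (CommRingCat.ofHom π₁)) (Spec.map (CommRingCat.ofHom π₂)) where
  surj := fun x => H.spec_surj hq x
  left := fun x' x'' h => H.spec_left hq x' x'' h
  right := fun _ _ h => Or.inl (PrimeSpectrum.comap_injective_of_surjective π₂ (H.surj₂ hq) h)
  mix := fun x' y h => H.spec_mix hq x' y h
  top := fun W h1 h2 => H.spec_top hq W h1 h2

theorem ΓSpecIso_nat {A B : Type u} [CommRing A] [CommRing B] (φ : A →+* B)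
    (s : Γ(Spec (CommRingCat.of A), ⊤)) :
    φ ((Scheme.ΓSpecIso (CommRingCat.of A)).hom.hom s) =
      (Scheme.ΓSpecIso (CommRingCat.of B)).hom.hom
        ((Spec.map (CommRingCat.ofHom φ)).appTop.hom s) :=
  (congrArg (fun ψ => ψ.hom s) (Scheme.ΓSpecIso_naturality (CommRingCat.ofHom φ))).symm

theorem isPB_appTop_Spec (H : IsPB π₁ π₂ q₁ q₂) :
    IsPB (Spec.map (CommRingCat.ofHom π₁)).appTop.hom (Spec.map (CommRingCat.ofHom π₂)).appTop.hom
      (Spec.map (CommRingCat.ofHom q₁)).appTop.hom (Spec.map (CommRingCat.ofHom q₂)).appTop.hom :=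
  H.of_bijective (Scheme.ΓSpecIso (.of R)).hom.hom (Scheme.ΓSpecIso (.of R₁)).hom.hom
    (Scheme.ΓSpecIso (.of R₂)).hom.hom (Scheme.ΓSpecIso (.of R₀)).hom.hom
    (ConcreteCategory.bijective_of_isIso _) (ConcreteCategory.bijective_of_isIso _).1
    (ConcreteCategory.bijective_of_isIso _).1 (ConcreteCategory.bijective_of_isIso _).1
    (ΓSpecIso_nat π₁) (ΓSpecIso_nat π₂) (ΓSpecIso_nat q₁) (ΓSpecIso_nat q₂)

/-- **The spectrum of a fibre product of rings `R₁ ×_{R₀} R₂` with `R₁ → R₀` surjective is the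
pushout of the spectra.** -/
theorem isPushout_Spec (H : IsPB π₁ π₂ q₁ q₂) (hq : Function.Surjective q₁) :
    IsPushout (Spec.map (CommRingCat.ofHom q₁)) (Spec.map (CommRingCat.ofHom q₂))
      (Spec.map (CommRingCat.ofHom π₁)) (Spec.map (CommRingCat.ofHom π₂)) := by
  have w : Spec.map (CommRingCat.ofHom q₁) ≫ Spec.map (CommRingCat.ofHom π₁) =
      Spec.map (CommRingCat.ofHom q₂) ≫ Spec.map (CommRingCat.ofHom π₂) := by
    rw [← Spec.map_comp, ← Spec.map_comp]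
    congr 1
    ext x
    exact H.comm x
  exact isPushout_of_isAffine w (topPushout_Spec H hq) (isPB_appTop_Spec H)

end spec

end Groth.Agent.Lib.Helper9.RingPB
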