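import Mathlib
import Groth.Agent.Lib.Helper9.OILoc
import Groth.Agent.Lib.Helper9.SpecPO

set_option autoImplicit false
set_option linter.style.haveILetI false
set_option linter.unusedSectionVars false
universe u v w
open CategoryTheory CategoryTheory.Limits AlgebraicGeometry TopologicalSpace Opposite Topology

namespace Groth.Agent.Lib.Helper9.RingPB

theorem IsPB.bijective_snd {R R₁ R₂ R₀ : Type*} [CommRing R] [CommRing R₁] [CommRing R₂]
    [CommRing R₀] {π₁ : R →+* R₁} {π₂ : R →+* R₂} {q₁ : R₁ →+* R₀} {q₂ : R₂ →+* R₀}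
    (H : IsPB π₁ π₂ q₁ q₂) (h : Function.Bijective q₁) : Function.Bijective π₂ := by
  refine ⟨?_, fun x₂ => ?_⟩
  · rw [injective_iff_map_eq_zero]
    intro x hx
    apply H.inj x _ hx
    apply h.1
    rw [H.comm, hx, map_zero, map_zero]
  · obtain ⟨x₁, hx₁⟩ := h.2 (q₂ x₂)
    obtain ⟨x, -, hx⟩ := H.ex x₁ x₂ hx₁
    exact ⟨x, hx⟩

/-- two pullbacks of the same cospan, compared -/
theorem IsPB.bijective_of_compare {R R' R₁ R₂ R₀ : Type*} [CommRing R] [CommRing R'] [CommRing R₁]
    [CommRing R₂] [CommRing R₀] {π₁ : R →+* R₁} {π₂ : R →+* R₂} {π₁' : R' →+* R₁}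
    {π₂' : R' →+* R₂} {q₁ : R₁ →+* R₀} {q₂ : R₂ →+* R₀}
    (H : IsPB π₁ π₂ q₁ q₂) (H' : IsPB π₁' π₂' q₁ q₂) (ρ : R' →+* R)
    (h1 : ∀ x, π₁ (ρ x) = π₁' x) (h2 : ∀ x, π₂ (ρ x) = π₂' x) : Function.Bijective ρ := by
  refine ⟨?_, fun y => ?_⟩
  · rw [injective_iff_map_eq_zero]
    intro x hx
    apply H'.inj x
    · rw [← h1, hx, map_zero]
    · rw [← h2, hx, map_zero]
  · obtain ⟨x, hx1, hx2⟩ := H'.ex (π₁ y) (π₂ y) (H.comm y)
    refine ⟨x, ?_⟩
    rw [← sub_eq_zero]
    apply H.inj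
    · rw [map_sub, h1, hx1, sub_self]
    · rw [map_sub, h2, hx2, sub_self]

open Groth.Agent.Lib.Helper9.OILoc in
theorem s7431 {B B' R R' : Type u} [CommRing B] [CommRing B']
    [CommRing R] [CommRing R'] (s : B →+* R) (t : R' →+* R) (p : B' →+* B) (q : B' →+* R')
    (hsq : IsPullback (CommRingCat.ofHom p) (CommRingCat.ofHom q) (CommRingCat.ofHom s)
      (CommRingCat.ofHom t))
    {n : ℕ} (f : Fin n → R') (g : Fin n → B) (hfg : ∀ i, t (f i) = s (g i))
    (hiso : ∀ i, Function.Bijective (Localization.awayMap s (g i))) :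
    IsOpenImmersion (Scheme.Opens.ι (X := Spec (CommRingCat.of R'))
      (⨆ i, PrimeSpectrum.basicOpen (f i)) ≫ Spec.map (CommRingCat.ofHom q)) := by
  have H : IsPB p q s t := isPB_of_isLimit (CommRingCat.ofHom s) (CommRingCat.ofHom t) hsq.cone
    hsq.isLimit
  apply isOpenImmersion_ι_Spec_of_locally_bijective
  intro x hx
  obtain ⟨i, hi⟩ := Opens.mem_iSup.mp hx
  obtain ⟨h, hp, hq⟩ := H.ex (g i) (f i) (hfg i).symm
  have hi' : f i ∉ x.asIdeal := hi
  refine ⟨h, by rw [hq]; exact hi', fun x' hx' => ?_, ?_⟩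
  · rw [hq] at hx'
    exact Opens.mem_iSup.mpr ⟨i, hx'⟩
  · have hl : IsAwayLoc (algebraMap B' (Localization.Away h)) h := IsAwayLoc.of_isLocalization h
    have hl₁ : IsAwayLoc (algebraMap B (Localization.Away (g i))) (p h) := by
      rw [hp]; exact IsAwayLoc.of_isLocalization (g i)
    have hl₂ : IsAwayLoc (algebraMap R' (Localization.Away (q h))) (q h) :=
      IsAwayLoc.of_isLocalization (q h)
    have hl₀ : IsAwayLoc (algebraMap R (Localization.Away (s (g i)))) (s (p h)) := by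
      rw [hp]; exact IsAwayLoc.of_isLocalization (s (g i))
    have hu1 : IsUnit (((algebraMap B (Localization.Away (g i))).comp p) h) := hl₁.unit
    have hu2 : IsUnit (((algebraMap R (Localization.Away (s (g i)))).comp t) (q h)) := by
      have : t (q h) = s (p h) := (H.comm h).symm
      rw [RingHom.comp_apply, this]
      exact hl₀.unit
    have H' := H.localization h hl hl₁ hl₂ hl₀
      (π₁' := IsLocalization.Away.lift h hu1) (π₂' := Localization.awayMap q h)
      (q₁' := Localization.awayMap s (g i)) (q₂' := IsLocalization.Away.lift (q h) hu2)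
      (fun x => IsLocalization.Away.lift_eq h hu1 x) (fun x => IsLocalization.map_eq _ x)
      (fun x => IsLocalization.map_eq _ x) (fun x => IsLocalization.Away.lift_eq (q h) hu2 x)
    exact H'.bijective_snd (hiso i)

end Groth.Agent.Lib.Helper9.RingPB
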