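import Mathlib
import Groth.Agent.Lib.Helper9.SpecPO
import Groth.Agent.Lib.Helper9.RingPB2

set_option autoImplicit false
set_option linter.style.haveILetI false
set_option linter.unusedSectionVars false
universe u v w
open CategoryTheory CategoryTheory.Limits AlgebraicGeometry TopologicalSpace Opposite Topology

namespace Groth.Agent.Lib.Helper9.Ferrand

open Groth.Agent.Lib.Helper9.PushLoc Groth.Agent.Lib.Helper9.RingPB

/-- transport of `TopPushout` along isomorphisms of squares -/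
theorem TopPushout.of_iso {Z Xs Ys P Z' Xs' Ys' P' : Scheme.{u}}
    {c : Z ⟶ Xs} {d : Z ⟶ Ys} {a : Xs ⟶ P} {b : Ys ⟶ P}
    {c' : Z' ⟶ Xs'} {d' : Z' ⟶ Ys'} {a' : Xs' ⟶ P'} {b' : Ys' ⟶ P'}
    (H : TopPushout c d a b) (e₁ : Z' ≅ Z) (e₂ : Xs' ≅ Xs) (e₃ : Ys' ≅ Ys) (e₄ : P' ≅ P)
    (hc : c' ≫ e₂.hom = e₁.hom ≫ c) (hd : d' ≫ e₃.hom = e₁.hom ≫ d)
    (ha : a' ≫ e₄.hom = e₂.hom ≫ a) (hb : b' ≫ e₄.hom = e₃.hom ≫ b) :
    TopPushout c' d' a' b' := by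
  have hc' : ∀ z, e₂.hom (c' z) = c (e₁.hom z) := fun z => by
    rw [← Scheme.Hom.comp_apply, hc, Scheme.Hom.comp_apply]
  have hd' : ∀ z, e₃.hom (d' z) = d (e₁.hom z) := fun z => by
    rw [← Scheme.Hom.comp_apply, hd, Scheme.Hom.comp_apply]
  have ha' : ∀ x, e₄.hom (a' x) = a (e₂.hom x) := fun z => by
    rw [← Scheme.Hom.comp_apply, ha, Scheme.Hom.comp_apply]
  have hb' : ∀ y, e₄.hom (b' y) = b (e₃.hom y) := fun z => by
    rw [← Scheme.Hom.comp_apply, hb, Scheme.Hom.comp_apply]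
  have hinv₂ : ∀ x, e₂.hom (e₂.inv x) = x := fun x => by
    rw [← Scheme.Hom.comp_apply, Iso.inv_hom_id]; rfl
  have hinv₃ : ∀ x, e₃.hom (e₃.inv x) = x := fun x => by
    rw [← Scheme.Hom.comp_apply, Iso.inv_hom_id]; rfl
  have hinv₄ : ∀ x, e₄.hom (e₄.inv x) = x := fun x => by
    rw [← Scheme.Hom.comp_apply, Iso.inv_hom_id]; rfl
  have i₁ : Function.Bijective e₁.hom := (e₁.hom.homeomorph).bijective
  have i₂ : Function.Bijective e₂.hom := (e₂.hom.homeomorph).bijective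
  have i₃ : Function.Bijective e₃.hom := (e₃.hom.homeomorph).bijective
  have i₄ : Function.Bijective e₄.hom := (e₄.hom.homeomorph).bijective
  refine ⟨fun x => ?_, fun x' x'' h => ?_, fun y' y'' h => ?_, fun x' y h => ?_, fun W h1 h2 => ?_⟩
  · rcases H.surj (e₄.hom x) with ⟨x', hx'⟩ | ⟨y, hy⟩
    · obtain ⟨x'', rfl⟩ := i₂.2 x'
      exact Or.inl ⟨x'', i₄.1 (by rw [ha', hx'])⟩
    · obtain ⟨y', rfl⟩ := i₃.2 y
      exact Or.inr ⟨y', i₄.1 (by rw [hb', hy])⟩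
  · rcases H.left (e₂.hom x') (e₂.hom x'') (by rw [← ha', ← ha', h]) with h' | ⟨z', z'', h1, h2, h3⟩
    · exact Or.inl (i₂.1 h')
    · obtain ⟨w', rfl⟩ := i₁.2 z'
      obtain ⟨w'', rfl⟩ := i₁.2 z''
      refine Or.inr ⟨w', w'', i₂.1 (by rw [hc', h1]), i₂.1 (by rw [hc', h2]), i₃.1 ?_⟩
      rw [hd', hd', h3]
  · rcases H.right (e₃.hom y') (e₃.hom y'') (by rw [← hb', ← hb', h]) with h' | ⟨z', z'', h1, h2, h3⟩
    · exact Or.inl (i₃.1 h')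
    · obtain ⟨w', rfl⟩ := i₁.2 z'
      obtain ⟨w'', rfl⟩ := i₁.2 z''
      refine Or.inr ⟨w', w'', i₃.1 (by rw [hd', h1]), i₃.1 (by rw [hd', h2]), i₂.1 ?_⟩
      rw [hc', hc', h3]
  · obtain ⟨z, h1, h2⟩ := H.mix (e₂.hom x') (e₃.hom y) (by rw [← ha', ← hb', h])
    obtain ⟨w, rfl⟩ := i₁.2 z
    exact ⟨w, i₂.1 (by rw [hc', h1]), i₃.1 (by rw [hd', h2])⟩
  · have hW : W = e₄.hom ⁻¹' (e₄.inv ⁻¹' W) := by
      ext x
      simp only [Set.mem_preimage]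
      rw [← Scheme.Hom.comp_apply, e₄.hom_inv_id]
      rfl
    rw [hW]
    apply IsOpen.preimage e₄.hom.continuous
    apply H.top
    · have : a ⁻¹' (e₄.inv ⁻¹' W) = e₂.inv ⁻¹' (a' ⁻¹' W) := by
        ext x
        simp only [Set.mem_preimage]
        have : e₄.inv (a x) = a' (e₂.inv x) := by
          apply i₄.1
          rw [hinv₄, ha', hinv₂]
        rw [this]
      rw [this]
      exact h1.preimage e₂.inv.continuous
    · have : b ⁻¹' (e₄.inv ⁻¹' W) = e₃.inv ⁻¹' (b' ⁻¹' W) := by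
        ext x
        simp only [Set.mem_preimage]
        have : e₄.inv (b x) = b' (e₃.inv x) := by
          apply i₄.1
          rw [hinv₄, hb', hinv₃]
        rw [this]
      rw [this]
      exact h2.preimage e₃.inv.continuous

noncomputable section charts
variable {X Y Z : Scheme.{u}} (i : Z ⟶ X) (j : Z ⟶ Y)

/-- adapted pairs of affine opens: `i⁻¹ U = j⁻¹ V` -/
structure AdPair where
  U : X.Opens
  V : Y.Opens
  hU : IsAffineOpen U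
  hV : IsAffineOpen V
  h : i ⁻¹ᵁ U = j ⁻¹ᵁ V

variable {i j}

instance : Preorder (AdPair i j) := Preorder.lift (fun p => (p.U, p.V))

theorem AdPair.le_iff {p q : AdPair i j} : p ≤ q ↔ p.U ≤ q.U ∧ p.V ≤ q.V := Iff.rfl

namespace AdPair
variable (p : AdPair i j)

/-- `Γ(X, U) → Γ(Z, i⁻¹ U)` -/
def qX : Γ(X, p.U) →+* Γ(Z, i ⁻¹ᵁ p.U) := (i.app p.U).hom

/-- `Γ(Y, V) → Γ(Z, i⁻¹ U)` -/
def qY : Γ(Y, p.V) →+* Γ(Z, i ⁻¹ᵁ p.U) := (j.appLE p.V (i ⁻¹ᵁ p.U) (le_of_eq p.h)).hom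

/-- the fibre product ring `Γ(X, U) ×_{Γ(Z, i⁻¹ U)} Γ(Y, V)` -/
def R : Subring (Γ(X, p.U) × Γ(Y, p.V)) :=
  RingHom.eqLocus (p.qX.comp (RingHom.fst _ _)) (p.qY.comp (RingHom.snd _ _))

def π₁ : p.R →+* Γ(X, p.U) := (RingHom.fst _ _).comp p.R.subtype
def π₂ : p.R →+* Γ(Y, p.V) := (RingHom.snd _ _).comp p.R.subtype

theorem isPB : IsPB p.π₁ p.π₂ p.qX p.qY :=
  ⟨fun x => x.2, fun _ h1 h2 => Subtype.ext (Prod.ext h1 h2),
    fun x₁ x₂ h => ⟨⟨(x₁, x₂), h⟩, rfl, rfl⟩⟩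

theorem qX_surjective [IsClosedImmersion i] : Function.Surjective p.qX :=
  i.app_surjective p.U p.hU

theorem hZ [IsClosedImmersion i] : IsAffineOpen (i ⁻¹ᵁ p.U) := p.hU.preimage i

/-- the chart `Spec (Γ(X, U) ×_{Γ(Z, i⁻¹ U)} Γ(Y, V))` -/
abbrev P : Scheme.{u} := Spec (CommRingCat.of p.R)

def a : (p.U : Scheme.{u}) ⟶ p.P := p.U.toSpecΓ ≫ Spec.map (CommRingCat.ofHom p.π₁)
def b : (p.V : Scheme.{u}) ⟶ p.P := p.V.toSpecΓ ≫ Spec.map (CommRingCat.ofHom p.π₂)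
def c : ((i ⁻¹ᵁ p.U : Z.Opens) : Scheme.{u}) ⟶ p.U := i ∣_ p.U
def d : ((i ⁻¹ᵁ p.U : Z.Opens) : Scheme.{u}) ⟶ p.V := j.resLE p.V (i ⁻¹ᵁ p.U) (le_of_eq p.h)

theorem c_toSpecΓ : p.c ≫ p.U.toSpecΓ =
    (i ⁻¹ᵁ p.U).toSpecΓ ≫ Spec.map (CommRingCat.ofHom p.qX) :=
  (Scheme.Opens.toSpecΓ_naturality i p.U).symm

theorem d_toSpecΓ : p.d ≫ p.V.toSpecΓ =
    (i ⁻¹ᵁ p.U).toSpecΓ ≫ Spec.map (CommRingCat.ofHom p.qY) :=
  (Scheme.Opens.toSpecΓ_SpecMap_appLE j p.V (i ⁻¹ᵁ p.U) (le_of_eq p.h)).symm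

theorem ring_comm : CommRingCat.ofHom p.π₁ ≫ CommRingCat.ofHom p.qX =
    CommRingCat.ofHom p.π₂ ≫ CommRingCat.ofHom p.qY := by
  ext x
  exact x.2

theorem w : p.c ≫ p.a = p.d ≫ p.b := by
  rw [a, b, ← Category.assoc, c_toSpecΓ, ← Category.assoc p.d, d_toSpecΓ, Category.assoc,
    Category.assoc, ← Spec.map_comp, ← Spec.map_comp, ring_comm]

theorem isPushout [IsClosedImmersion i] : IsPushout p.c p.d p.a p.b := by
  refine (isPushout_Spec p.isPB p.qX_surjective).of_iso' p.hZ.isoSpec p.hU.isoSpec p.hV.isoSpec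
    (Iso.refl _) ?_ ?_ ?_ ?_
  · exact (c_toSpecΓ p).symm
  · exact (d_toSpecΓ p).symm
  · rw [Iso.refl_hom, Category.comp_id]; rfl
  · rw [Iso.refl_hom, Category.comp_id]; rfl

theorem topPushout [IsClosedImmersion i] : TopPushout p.c p.d p.a p.b := by
  refine TopPushout.of_iso (topPushout_Spec p.isPB p.qX_surjective) p.hZ.isoSpec p.hU.isoSpec
    p.hV.isoSpec (Iso.refl _) ?_ ?_ ?_ ?_
  · exact c_toSpecΓ p
  · exact d_toSpecΓ p
  · rw [Iso.refl_hom, Category.comp_id]; rfl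
  · rw [Iso.refl_hom, Category.comp_id]; rfl

end AdPair
end charts

end Groth.Agent.Lib.Helper9.Ferrand
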