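import Mathlib
import Groth.Agent.Lib.Helper9.Ferrand1
import Groth.Agent.Lib.Helper9.OILoc

set_option autoImplicit false
set_option linter.style.haveILetI false
set_option linter.unusedSectionVars false
universe u v w
open CategoryTheory CategoryTheory.Limits AlgebraicGeometry TopologicalSpace Opposite Topology

namespace Groth.Agent.Lib.Helper9.Ferrand

open Groth.Agent.Lib.Helper9.PushLoc Groth.Agent.Lib.Helper9.RingPB

noncomputable section

variable {X Y Z : Scheme.{u}} {i : Z ⟶ X} {j : Z ⟶ Y}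

namespace AdPair

variable {p q : AdPair i j}

def resX (h : p ≤ q) : Γ(X, q.U) →+* Γ(X, p.U) := (X.presheaf.map (homOfLE h.1).op).hom
def resY (h : p ≤ q) : Γ(Y, q.V) →+* Γ(Y, p.V) := (Y.presheaf.map (homOfLE h.2).op).hom
def resZ (h : p ≤ q) : Γ(Z, i ⁻¹ᵁ q.U) →+* Γ(Z, i ⁻¹ᵁ p.U) :=
  (Z.presheaf.map (homOfLE (i.preimage_mono h.1)).op).hom

theorem qX_resX (h : p ≤ q) (x : Γ(X, q.U)) : p.qX (resX h x) = resZ h (q.qX x) :=
  res_app i h.1 x

theorem qY_resY (h : p ≤ q) (y : Γ(Y, q.V)) : p.qY (resY h y) = resZ h (q.qY y) := by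
  have : Y.presheaf.map (homOfLE h.2).op ≫ j.appLE p.V (i ⁻¹ᵁ p.U) (le_of_eq p.h) =
      j.appLE q.V (i ⁻¹ᵁ q.U) (le_of_eq q.h) ≫
        Z.presheaf.map (homOfLE (i.preimage_mono h.1)).op := by
    rw [Scheme.Hom.map_appLE, Scheme.Hom.appLE_map]
  exact congrArg (fun φ => φ.hom y) this

/-- the restriction map between the chart rings -/
def ρ (h : p ≤ q) : q.R →+* p.R :=
  ((RingHom.prodMap (resX h) (resY h)).comp q.R.subtype).codRestrict p.R (fun x => by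
    change p.qX (resX h x.1.1) = p.qY (resY h x.1.2)
    rw [qX_resX, qY_resY]
    exact congrArg (resZ h) x.2)

theorem π₁_ρ (h : p ≤ q) (x : q.R) : p.π₁ (ρ h x) = resX h (q.π₁ x) := rfl
theorem π₂_ρ (h : p ≤ q) (x : q.R) : p.π₂ (ρ h x) = resY h (q.π₂ x) := rfl

theorem ρ_refl (p : AdPair i j) (x : p.R) : ρ (le_refl p) x = x := by
  apply p.isPB.uniq
  · rw [π₁_ρ]
    change (X.presheaf.map (𝟙 _)).hom _ = _
    rw [X.presheaf.map_id]; rfl
  · rw [π₂_ρ]
    change (Y.presheaf.map (𝟙 _)).hom _ = _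
    rw [Y.presheaf.map_id]; rfl

theorem ρ_trans {p q r : AdPair i j} (h : p ≤ q) (h' : q ≤ r) (x : r.R) :
    ρ h (ρ h' x) = ρ (h.trans h') x := by
  apply p.isPB.uniq
  · rw [π₁_ρ, π₁_ρ, π₁_ρ]
    change (X.presheaf.map _ ≫ X.presheaf.map _).hom _ = _
    rw [← X.presheaf.map_comp]; rfl
  · rw [π₂_ρ, π₂_ρ, π₂_ρ]
    change (Y.presheaf.map _ ≫ Y.presheaf.map _).hom _ = _
    rw [← Y.presheaf.map_comp]; rfl

/-- the transition map between charts -/
def t (h : p ≤ q) : p.P ⟶ q.P := Spec.map (CommRingCat.ofHom (ρ h))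

theorem a_t (h : p ≤ q) : p.a ≫ t h = X.homOfLE h.1 ≫ q.a := by
  have e : CommRingCat.ofHom (ρ h) ≫ CommRingCat.ofHom p.π₁ =
      CommRingCat.ofHom q.π₁ ≫ X.presheaf.map (homOfLE h.1).op := by
    ext x; rfl
  rw [a, a, t, Category.assoc, ← Spec.map_comp, e, Spec.map_comp,
    Scheme.Opens.toSpecΓ_SpecMap_presheaf_map_assoc]

theorem b_t (h : p ≤ q) : p.b ≫ t h = Y.homOfLE h.2 ≫ q.b := by
  have e : CommRingCat.ofHom (ρ h) ≫ CommRingCat.ofHom p.π₂ =
      CommRingCat.ofHom q.π₂ ≫ Y.presheaf.map (homOfLE h.2).op := by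
    ext x; rfl
  rw [b, b, t, Category.assoc, ← Spec.map_comp, e, Spec.map_comp,
    Scheme.Opens.toSpecΓ_SpecMap_presheaf_map_assoc]

end AdPair

end

end Groth.Agent.Lib.Helper9.Ferrand
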