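import Mathlib
import Groth.Agent.Lib.Helper9.PushLoc

set_option autoImplicit false
set_option linter.style.haveILetI false
set_option linter.unusedSectionVars false
universe u v w
open CategoryTheory CategoryTheory.Limits AlgebraicGeometry TopologicalSpace Opposite Topology

namespace Groth.Agent.Lib.Helper9.PushLoc

variable {Z Xs Ys P : Scheme.{u}} {c : Z ⟶ Xs} {d : Z ⟶ Ys} {a : Xs ⟶ P} {b : Ys ⟶ P}

/-- saturated opens: a compatible pair of opens of `Xs` and `Ys` comes from an open of `P` -/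
theorem TopPushout.exists_open' (H : TopPushout c d a b) (O₁ : Xs.Opens) (O₂ : Ys.Opens)
    (h : c ⁻¹ᵁ O₁ = d ⁻¹ᵁ O₂) :
    ∃ W : P.Opens, a ⁻¹ᵁ W = O₁ ∧ b ⁻¹ᵁ W = O₂ := by
  have hcd : ∀ z, c z ∈ O₁ ↔ d z ∈ O₂ := fun z => by
    have := congrArg (fun O : Z.Opens => z ∈ O) h
    simpa using this
  let W : Set P := a '' (O₁ : Set Xs) ∪ b '' (O₂ : Set Ys)
  have ha : a ⁻¹' W = (O₁ : Set Xs) := by
    ext x'
    constructor
    · rintro (⟨x'', hx'', e⟩ | ⟨y, hy, e⟩)
      · rcases H.left x'' x' e with rfl | ⟨z', z'', rfl, rfl, hz⟩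
        · exact hx''
        · change c z'' ∈ O₁
          rw [hcd, ← hz, ← hcd]
          exact hx''
      · obtain ⟨z, rfl, rfl⟩ := H.mix x' y e.symm
        change c z ∈ O₁
        rw [hcd]
        exact hy
    · intro hx'
      exact Or.inl ⟨x', hx', rfl⟩
  have hb : b ⁻¹' W = (O₂ : Set Ys) := by
    ext y'
    constructor
    · rintro (⟨x', hx', e⟩ | ⟨y'', hy'', e⟩)
      · obtain ⟨z, rfl, rfl⟩ := H.mix x' y' e
        change d z ∈ O₂
        rw [← hcd]
        exact hx'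
      · rcases H.right y'' y' e with rfl | ⟨z', z'', rfl, rfl, hz⟩
        · exact hy''
        · change d z'' ∈ O₂
          rw [← hcd, ← hz, hcd]
          exact hy''
    · intro hy'
      exact Or.inr ⟨y', hy', rfl⟩
  have hW : IsOpen W := H.top W (by rw [ha]; exact O₁.isOpen) (by rw [hb]; exact O₂.isOpen)
  exact ⟨⟨W, hW⟩, Opens.ext ha, Opens.ext hb⟩

/-- an open of `P` is determined by its preimages -/
theorem TopPushout.opens_ext (H : TopPushout c d a b) {W W' : P.Opens}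
    (h1 : a ⁻¹ᵁ W = a ⁻¹ᵁ W') (h2 : b ⁻¹ᵁ W = b ⁻¹ᵁ W') : W = W' := by
  ext x
  rcases H.surj x with ⟨x', rfl⟩ | ⟨y, rfl⟩
  · have := congrArg (fun O : Xs.Opens => x' ∈ O) h1
    simpa using this
  · have := congrArg (fun O : Ys.Opens => y ∈ O) h2
    simpa using this

end Groth.Agent.Lib.Helper9.PushLoc
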