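import Mathlib
import Groth.Agent.Lib.Helper9.Ferrand2
import Groth.Agent.Lib.Helper9.PushLocB

set_option autoImplicit false
set_option linter.style.haveILetI false
set_option linter.unusedSectionVars false
universe u v w
open CategoryTheory CategoryTheory.Limits AlgebraicGeometry TopologicalSpace Opposite Topology

namespace Groth.Agent.Lib.Helper9.Ferrand

open Groth.Agent.Lib.Helper9.PushLoc Groth.Agent.Lib.Helper9.RingPB

noncomputable section

variable {X Y Z : Scheme.{u}} {i : Z ⟶ X} {j : Z ⟶ Y}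

/-- restriction to an open equal to a basic open is a localization -/
theorem isAwayLoc_res {X : Scheme.{u}} {U D : X.Opens} (hU : IsAffineOpen U) (f : Γ(X, U))
    (hDU : D ≤ U) (e : D = X.basicOpen f) :
    IsAwayLoc (X.presheaf.map (homOfLE hDU).op).hom f :=
  IsAwayLoc.of_toAlgebra _ f (hU.isLocalization_of_eq_basicOpen f (homOfLE hDU) e)

theorem res_res {X : Scheme.{u}} {A B C : X.Opens} (h1 : A ≤ B) (h2 : B ≤ C) (x : Γ(X, C)) :
    (X.presheaf.map (homOfLE h1).op).hom ((X.presheaf.map (homOfLE h2).op).hom x) =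
      (X.presheaf.map (homOfLE (h1.trans h2)).op).hom x := by
  change (X.presheaf.map _ ≫ X.presheaf.map _).hom x = _
  rw [← X.presheaf.map_comp]; rfl

theorem appLE_res {X Y : Scheme.{u}} (f : X ⟶ Y) {V' V : Y.Opens} {U' U : X.Opens}
    (hV : V' ≤ V) (hU : U' ≤ U) (e : U ≤ f ⁻¹ᵁ V) (e' : U' ≤ f ⁻¹ᵁ V') (y : Γ(Y, V)) :
    (f.appLE V' U' e').hom ((Y.presheaf.map (homOfLE hV).op).hom y) =
      (X.presheaf.map (homOfLE hU).op).hom ((f.appLE V U e).hom y) := by
  have : Y.presheaf.map (homOfLE hV).op ≫ f.appLE V' U' e' =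
      f.appLE V U e ≫ X.presheaf.map (homOfLE hU).op := by
    rw [Scheme.Hom.map_appLE, Scheme.Hom.appLE_map]
  exact congrArg (fun φ => φ.hom y) this

namespace AdPair

variable {p q : AdPair i j}

theorem preimage_basicOpen_le [IsClosedImmersion i] (q : AdPair i j) (r' : q.R) :
    i ⁻¹ᵁ X.basicOpen (q.π₁ r') ≤ j ⁻¹ᵁ Y.basicOpen (q.π₂ r') := by
  have h1 : i ⁻¹ᵁ X.basicOpen (q.π₁ r') = Z.basicOpen (q.qX (q.π₁ r')) :=
    Scheme.preimage_basicOpen i (q.π₁ r')
  have h2 : Z.basicOpen (q.qY (q.π₂ r')) = i ⁻¹ᵁ q.U ⊓ j ⁻¹ᵁ (Y.basicOpen (q.π₂ r')) :=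
    Scheme.basicOpen_appLE j (i ⁻¹ᵁ q.U) q.V (le_of_eq q.h) (q.π₂ r')
  have h3 : q.qX (q.π₁ r') = q.qY (q.π₂ r') := r'.2
  rw [h1, h3, h2]
  exact inf_le_right

/-- the localized transition map is bijective when the basic opens lie in the smaller pair -/
theorem loc_bijective [IsClosedImmersion i] (h : p ≤ q) (r' : q.R)
    (hD : X.basicOpen (q.π₁ r') ≤ p.U) (hE : Y.basicOpen (q.π₂ r') ≤ p.V) :
    Function.Bijective (Localization.awayMap (ρ h) r') := by
  -- the common corner rings
  have hDq : X.basicOpen (q.π₁ r') ≤ q.U := X.basicOpen_le _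
  have hEq : Y.basicOpen (q.π₂ r') ≤ q.V := Y.basicOpen_le _
  have hle := preimage_basicOpen_le q r'
  -- localization data for `q`
  have l₁q := isAwayLoc_res q.hU (q.π₁ r') hDq rfl
  have l₂q := isAwayLoc_res q.hV (q.π₂ r') hEq rfl
  have l₀q := isAwayLoc_res q.hZ (q.qX (q.π₁ r')) (i.preimage_mono hDq)
    (Scheme.preimage_basicOpen i (q.π₁ r'))
  have lq : IsAwayLoc (algebraMap q.R (Localization.Away r')) r' := IsAwayLoc.of_isLocalization r'
  have u1q : IsUnit (((X.presheaf.map (homOfLE hDq).op).hom.comp q.π₁) r') := l₁q.unit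
  have u2q : IsUnit (((Y.presheaf.map (homOfLE hEq).op).hom.comp q.π₂) r') := l₂q.unit
  have H' := q.isPB.localization r' lq l₁q l₂q l₀q
    (π₁' := IsLocalization.Away.lift r' u1q) (π₂' := IsLocalization.Away.lift r' u2q)
    (q₁' := (i.app (X.basicOpen (q.π₁ r'))).hom)
    (q₂' := (j.appLE (Y.basicOpen (q.π₂ r')) (i ⁻¹ᵁ X.basicOpen (q.π₁ r')) hle).hom)
    (fun x => IsLocalization.Away.lift_eq r' u1q x) (fun x => IsLocalization.Away.lift_eq r' u2q x)
    (fun x => res_app i hDq x)
    (fun y => appLE_res j hEq (i.preimage_mono hDq) (le_of_eq q.h) hle y)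
  -- localization data for `p`
  have e1 : X.basicOpen (q.π₁ r') = X.basicOpen (p.π₁ (ρ h r')) := by
    rw [π₁_ρ, resX, Scheme.basicOpen_res]
    exact (inf_eq_right.mpr hD).symm
  have e2 : Y.basicOpen (q.π₂ r') = Y.basicOpen (p.π₂ (ρ h r')) := by
    rw [π₂_ρ, resY, Scheme.basicOpen_res]
    exact (inf_eq_right.mpr hE).symm
  have l₁p := isAwayLoc_res p.hU (p.π₁ (ρ h r')) hD e1
  have l₂p := isAwayLoc_res p.hV (p.π₂ (ρ h r')) hE e2
  have l₀p := isAwayLoc_res p.hZ (p.qX (p.π₁ (ρ h r'))) (i.preimage_mono hD)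
    (by rw [e1]; exact Scheme.preimage_basicOpen i (p.π₁ (ρ h r')))
  have lp : IsAwayLoc (algebraMap p.R (Localization.Away (ρ h r'))) (ρ h r') :=
    IsAwayLoc.of_isLocalization _
  have u1p : IsUnit (((X.presheaf.map (homOfLE hD).op).hom.comp p.π₁) (ρ h r')) := l₁p.unit
  have u2p : IsUnit (((Y.presheaf.map (homOfLE hE).op).hom.comp p.π₂) (ρ h r')) := l₂p.unit
  have H := p.isPB.localization (ρ h r') lp l₁p l₂p l₀p
    (π₁' := IsLocalization.Away.lift (ρ h r') u1p) (π₂' := IsLocalization.Away.lift (ρ h r') u2p)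
    (q₁' := (i.app (X.basicOpen (q.π₁ r'))).hom)
    (q₂' := (j.appLE (Y.basicOpen (q.π₂ r')) (i ⁻¹ᵁ X.basicOpen (q.π₁ r')) hle).hom)
    (fun x => IsLocalization.Away.lift_eq (ρ h r') u1p x)
    (fun x => IsLocalization.Away.lift_eq (ρ h r') u2p x)
    (fun x => res_app i hD x)
    (fun y => appLE_res j hE (i.preimage_mono hD) (le_of_eq p.h) hle y)
  -- comparison
  have hmap : ∀ x, Localization.awayMap (ρ h) r' (algebraMap q.R (Localization.Away r') x) =
      algebraMap p.R (Localization.Away (ρ h r')) (ρ h x) := fun x => IsLocalization.map_eq _ x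
  refine H.bijective_of_compare H' (Localization.awayMap (ρ h) r') (fun z => ?_) (fun z => ?_)
  · have : (IsLocalization.Away.lift (ρ h r') u1p).comp (Localization.awayMap (ρ h) r') =
        IsLocalization.Away.lift r' u1q := by
      apply IsLocalization.ringHom_ext (Submonoid.powers r')
      ext x
      simp only [RingHom.comp_apply]
      rw [hmap, IsLocalization.Away.lift_eq (ρ h r') u1p, IsLocalization.Away.lift_eq r' u1q]
      simp only [RingHom.comp_apply]
      rw [π₁_ρ, resX, res_res]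
    exact congrArg (fun φ => φ z) this
  · have : (IsLocalization.Away.lift (ρ h r') u2p).comp (Localization.awayMap (ρ h) r') =
        IsLocalization.Away.lift r' u2q := by
      apply IsLocalization.ringHom_ext (Submonoid.powers r')
      ext x
      simp only [RingHom.comp_apply]
      rw [hmap, IsLocalization.Away.lift_eq (ρ h r') u2p, IsLocalization.Away.lift_eq r' u2q]
      simp only [RingHom.comp_apply]
      rw [π₂_ρ, resY, res_res]
    exact congrArg (fun φ => φ z) this

end AdPair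

end

end Groth.Agent.Lib.Helper9.Ferrand
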