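import Mathlib
import Groth.Agent.Lib.Helper9.Ferrand3

set_option autoImplicit false
set_option linter.style.haveILetI false
set_option linter.unusedSectionVars false
universe u v w
open CategoryTheory CategoryTheory.Limits AlgebraicGeometry TopologicalSpace Opposite Topology

namespace Groth.Agent.Lib.Helper9.Ferrand

open Groth.Agent.Lib.Helper9.PushLoc Groth.Agent.Lib.Helper9.RingPB Groth.Agent.Lib.Helper9.OILoc

noncomputable section

variable {X Y Z : Scheme.{u}} {i : Z ⟶ X} {j : Z ⟶ Y}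

namespace AdPair

variable {p q : AdPair i j}

theorem sat_eq (p q : AdPair i j) : q.c ⁻¹ᵁ (q.U.ι ⁻¹ᵁ p.U) = q.d ⁻¹ᵁ (q.V.ι ⁻¹ᵁ p.V) := by
  rw [← Scheme.Hom.comp_preimage, ← Scheme.Hom.comp_preimage]
  unfold c d
  rw [morphismRestrict_ι, Scheme.Hom.resLE_comp_ι, Scheme.Hom.comp_preimage,
    Scheme.Hom.comp_preimage, p.h]

theorem a_preimage_basicOpen (q : AdPair i j) (r' : q.R) :
    q.a ⁻¹ᵁ (PrimeSpectrum.basicOpen r' : q.P.Opens) = q.U.ι ⁻¹ᵁ X.basicOpen (q.π₁ r') := by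
  unfold a
  rw [Scheme.Hom.comp_preimage]
  exact Scheme.Opens.toSpecΓ_preimage_basicOpen q.U (q.π₁ r')

theorem b_preimage_basicOpen (q : AdPair i j) (r' : q.R) :
    q.b ⁻¹ᵁ (PrimeSpectrum.basicOpen r' : q.P.Opens) = q.V.ι ⁻¹ᵁ Y.basicOpen (q.π₂ r') := by
  unfold b
  rw [Scheme.Hom.comp_preimage]
  exact Scheme.Opens.toSpecΓ_preimage_basicOpen q.V (q.π₂ r')

theorem le_of_ι_preimage_le {X : Scheme.{u}} {U A B : X.Opens} (hA : A ≤ U)
    (h : U.ι ⁻¹ᵁ A ≤ U.ι ⁻¹ᵁ B) : A ≤ B := by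
  intro y hy
  exact h (show (⟨y, hA hy⟩ : U) ∈ U.ι ⁻¹ᵁ A from hy)

instance isOpenImmersion_t [IsClosedImmersion i] (h : p ≤ q) : IsOpenImmersion (t h) := by
  apply isOpenImmersion_Spec_of_locally_bijective (ρ h)
  intro x
  obtain ⟨W, hW1, hW2⟩ := q.topPushout.exists_open' _ _ (sat_eq p q)
  have hxW : (t h) x ∈ W := by
    rcases p.topPushout.surj x with ⟨u, rfl⟩ | ⟨v, rfl⟩
    · rw [← Scheme.Hom.comp_apply, a_t, Scheme.Hom.comp_apply]
      change X.homOfLE h.1 u ∈ q.a ⁻¹ᵁ W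
      rw [hW1]
      change q.U.ι (X.homOfLE h.1 u) ∈ p.U
      rw [← Scheme.Hom.comp_apply, Scheme.homOfLE_ι]
      exact u.2
    · rw [← Scheme.Hom.comp_apply, b_t, Scheme.Hom.comp_apply]
      change Y.homOfLE h.2 v ∈ q.b ⁻¹ᵁ W
      rw [hW2]
      change q.V.ι (Y.homOfLE h.2 v) ∈ p.V
      rw [← Scheme.Hom.comp_apply, Scheme.homOfLE_ι]
      exact v.2
  obtain ⟨_, ⟨r', rfl⟩, hxr', hr'W⟩ :=
    (Opens.isBasis_iff_nbhd.mp (PrimeSpectrum.isBasis_basic_opens (R := q.R))) hxW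
  refine ⟨r', hxr', loc_bijective h r' ?_ ?_⟩
  · apply le_of_ι_preimage_le (X.basicOpen_le _)
    rw [← a_preimage_basicOpen, ← hW1]
    exact q.a.preimage_mono hr'W
  · apply le_of_ι_preimage_le (Y.basicOpen_le _)
    rw [← b_preimage_basicOpen, ← hW2]
    exact q.b.preimage_mono hr'W

end AdPair

end

end Groth.Agent.Lib.Helper9.Ferrand
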