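import Mathlib.RingTheory.IntegralClosure.IsIntegral.Basic
import Mathlib.RingTheory.Ideal.Prime
import Mathlib.RingTheory.Ideal.Maps
import Mathlib.RingTheory.Localization.AtPrime.Basic
import Mathlib.RingTheory.Ideal.Over

set_option autoImplicit false
set_option linter.style.haveILetI false
set_option linter.unusedSectionVars false
universe u v w

namespace Groth.Agent.Lib.Helper9.FibFun

open Polynomial

variable {R B : Type*} [CommRing R] [CommRing B] (φ : R →+* B)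

/-- For an integral element `a` there are `r`, `s ∉ 𝔮`, `c` with
`a ^ r * (φ s - a * c) ∈ 𝔮 B`. -/
theorem exists_pow_mul_sub_mem {a : B} (ha : φ.IsIntegralElem a) (𝔮 : Ideal R) [𝔮.IsPrime] :
    ∃ (r : ℕ) (s : R) (c : B), s ∉ 𝔮 ∧ a ^ r * (φ s - a * c) ∈ Ideal.map φ 𝔮 := by
  classical
  obtain ⟨p, hp, hpa⟩ := ha
  have hex : ∃ k, p.coeff k ∉ 𝔮 := ⟨p.natDegree, by
    rw [hp.coeff_natDegree]
    exact fun h => (Ideal.IsPrime.ne_top ‹_›) ((Ideal.eq_top_iff_one _).mpr h)⟩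
  let r := Nat.find hex
  have hr : p.coeff r ∉ 𝔮 := Nat.find_spec hex
  have hlt : ∀ k < r, p.coeff k ∈ 𝔮 := fun k hk => by
    by_contra h
    exact Nat.find_min hex hk h
  have hrd : r ≤ p.natDegree := Nat.find_min' hex (by
    rw [hp.coeff_natDegree]
    exact fun h => (Ideal.IsPrime.ne_top ‹_›) ((Ideal.eq_top_iff_one _).mpr h))
  refine ⟨r, p.coeff r, -∑ k ∈ Finset.Ico (r + 1) (p.natDegree + 1), φ (p.coeff k) * a ^ (k - r - 1),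
    hr, ?_⟩
  rw [eval₂_eq_sum_range, Finset.range_eq_Ico,
    ← Finset.sum_Ico_consecutive _ (Nat.zero_le r) (Nat.le_succ_of_le hrd),
    Finset.sum_eq_sum_Ico_succ_bot (Nat.lt_succ_of_le hrd)] at hpa
  have h1 : a ^ r * (φ (p.coeff r) -
      a * -∑ k ∈ Finset.Ico (r + 1) (p.natDegree + 1), φ (p.coeff k) * a ^ (k - r - 1)) =
      φ (p.coeff r) * a ^ r + ∑ k ∈ Finset.Ico (r + 1) (p.natDegree + 1), φ (p.coeff k) * a ^ k := by
    rw [mul_sub, mul_neg, mul_neg, sub_neg_eq_add, mul_comm (a ^ r), ← mul_assoc, Finset.mul_sum]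
    congr 1
    refine Finset.sum_congr rfl fun k hk => ?_
    have hk' : r + 1 ≤ k := (Finset.mem_Ico.mp hk).1
    obtain ⟨m, rfl⟩ := Nat.exists_eq_add_of_le hk'
    have : r + 1 + m - r - 1 = m := by omega
    rw [this]
    ring
  have h2 : φ (p.coeff r) * a ^ r +
      ∑ k ∈ Finset.Ico (r + 1) (p.natDegree + 1), φ (p.coeff k) * a ^ k =
      -∑ k ∈ Finset.Ico 0 r, φ (p.coeff k) * a ^ k := by
    rw [eq_neg_iff_add_eq_zero, add_comm]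
    exact hpa
  rw [h1, h2]
  refine Ideal.neg_mem_iff _ |>.mpr (sum_mem fun k hk => ?_)
  exact Ideal.mul_mem_right _ _ (Ideal.mem_map_of_mem φ (hlt k (Finset.mem_Ico.mp hk).2))

variable {Ā : Type*} [CommRing Ā] (ρ : Ā →+* B)

/-- Combining two functions. -/
theorem exists_combine (hφ : φ.IsIntegral) (𝔮 : Ideal R) [𝔮.IsPrime] (J : Ideal Ā)
    (h1 : ∀ ā ∈ J, ∀ w : B, ∃ (N : ℕ) (x : Ā), ρ ā ^ N * w = ρ x)
    {ā₁ ā₂ : Ā} (h₁ : ā₁ ∈ J) (h₂ : ā₂ ∈ J) :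
    ∃ ā ∈ J, ∀ P : Ideal B, P.IsPrime → P.comap φ = 𝔮 → (ρ ā₁ ∉ P ∨ ρ ā₂ ∉ P) → ρ ā ∉ P := by
  obtain ⟨r, s, c, hs, hmem⟩ := exists_pow_mul_sub_mem φ (hφ (ρ ā₁)) 𝔮
  obtain ⟨N, x, hx⟩ := h1 ā₂ h₂ (φ s - ρ ā₁ * c)
  refine ⟨ā₁ ^ (N + 1) + x * ā₂, J.add_mem (J.pow_mem_of_mem h₁ _ (Nat.succ_pos _))
    (J.mul_mem_left _ h₂), fun P hP hPq hor => ?_⟩
  have hle : Ideal.map φ 𝔮 ≤ P := Ideal.map_le_iff_le_comap.mpr (le_of_eq hPq.symm)
  have hsP : φ s ∉ P := fun h => hs (by rw [← hPq]; exact h)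
  have hw : ρ ā₁ ^ r * (φ s - ρ ā₁ * c) ∈ P := hle hmem
  have hρ : ρ (ā₁ ^ (N + 1) + x * ā₂) =
      ρ ā₁ ^ (N + 1) + ρ ā₂ ^ N * (φ s - ρ ā₁ * c) * ρ ā₂ := by
    rw [map_add, map_mul, map_pow, hx]
  rw [hρ]
  by_cases h1P : ρ ā₁ ∈ P
  · have h2P : ρ ā₂ ∉ P := hor.resolve_left (not_not.mpr h1P)
    have hwP : φ s - ρ ā₁ * c ∉ P := fun h => hsP (by
      have := P.add_mem h (P.mul_mem_right c h1P)
      simpa using this)
    intro hmem'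
    have h3 : ρ ā₂ ^ N * (φ s - ρ ā₁ * c) * ρ ā₂ ∈ P := by
      have := P.sub_mem hmem' (P.pow_mem_of_mem h1P (N + 1) (Nat.succ_pos _))
      simpa using this
    rcases hP.mem_or_mem h3 with h4 | h4
    · rcases hP.mem_or_mem h4 with h5 | h5
      · exact h2P (hP.mem_of_pow_mem _ h5)
      · exact hwP h5
    · exact h2P h4
  · have hwP : φ s - ρ ā₁ * c ∈ P := by
      rcases hP.mem_or_mem hw with h | h
      · exact absurd (hP.mem_of_pow_mem _ h) h1P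
      · exact h
    intro hmem'
    have h3 : ρ ā₁ ^ (N + 1) ∈ P := by
      have := P.sub_mem hmem' (P.mul_mem_right (ρ ā₂) (P.mul_mem_left (ρ ā₂ ^ N) hwP))
      simpa using this
    exact h1P (hP.mem_of_pow_mem _ h3)

/-- **Single function cutting out a fibre.** -/
theorem exists_single (hφ : φ.IsIntegral) (𝔮 : Ideal R) [𝔮.IsPrime] (J : Ideal Ā)
    (h1 : ∀ ā ∈ J, ∀ w : B, ∃ (N : ℕ) (x : Ā), ρ ā ^ N * w = ρ x)
    (h2 : ∀ P : Ideal B, P.IsPrime → P.comap φ = 𝔮 → ∃ ā ∈ J, ρ ā ∉ P) :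
    ∃ ā ∈ J, ∀ P : Ideal B, P.IsPrime → P.comap φ = 𝔮 → ρ ā ∉ P := by
  classical
  -- every element of `ρ(J) B` is dominated by a single element of `J` on the fibre
  have key : ∀ u ∈ Ideal.map ρ J, ∃ ā ∈ J, ∀ P : Ideal B, P.IsPrime → P.comap φ = 𝔮 →
      u ∉ P → ρ ā ∉ P := by
    intro u hu
    refine Submodule.span_induction (p := fun u _ => ∃ ā ∈ J, ∀ P : Ideal B, P.IsPrime →
      P.comap φ = 𝔮 → u ∉ P → ρ ā ∉ P) ?_ ?_ ?_ ?_ hu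
    · rintro _ ⟨ā, hā, rfl⟩
      exact ⟨ā, hā, fun P _ _ h => h⟩
    · exact ⟨0, J.zero_mem, fun P _ _ h => absurd P.zero_mem h⟩
    · rintro u₁ u₂ _ _ ⟨ā₁, h₁, H₁⟩ ⟨ā₂, h₂, H₂⟩
      obtain ⟨ā, hā, H⟩ := exists_combine φ ρ hφ 𝔮 J h1 h₁ h₂
      refine ⟨ā, hā, fun P hP hPq hu => H P hP hPq ?_⟩
      by_contra hcon
      rw [not_or, not_not, not_not] at hcon
      by_cases hu₁ : u₁ ∈ P
      · by_cases hu₂ : u₂ ∈ P
        · exact hu (P.add_mem hu₁ hu₂)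
        · exact H₂ P hP hPq hu₂ hcon.2
      · exact H₁ P hP hPq hu₁ hcon.1
    · rintro b u₁ _ ⟨ā₁, h₁, H₁⟩
      exact ⟨ā₁, h₁, fun P hP hPq hu => H₁ P hP hPq fun h => hu (P.mul_mem_left b h)⟩
  -- `ρ(J) B + 𝔮 B` meets `φ(R ∖ 𝔮)`
  have hnd : ¬ Disjoint ((Ideal.map ρ J ⊔ Ideal.map φ 𝔮 : Ideal B) : Set B)
      (Submonoid.map φ 𝔮.primeCompl : Set B) := by
    intro hdis
    obtain ⟨P, hP, hle, hPd⟩ := Ideal.exists_le_prime_disjoint _ _ hdis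
    have hPq : P.comap φ = 𝔮 := by
      apply le_antisymm
      · intro r hr
        by_contra hrq
        exact Set.disjoint_left.mp hPd hr ⟨r, hrq, rfl⟩
      · exact Ideal.map_le_iff_le_comap.mp (le_sup_right.trans hle)
    obtain ⟨ā, hā, hāP⟩ := h2 P hP hPq
    exact hāP (hle (Ideal.mem_sup_left (Ideal.mem_map_of_mem ρ hā)))
  obtain ⟨b, hb, hbS⟩ := Set.not_disjoint_iff.mp hnd
  obtain ⟨s, hs, rfl⟩ := hbS
  obtain ⟨u, hu, v, hv, huv⟩ := Submodule.mem_sup.mp hb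
  obtain ⟨ā, hā, H⟩ := key u hu
  refine ⟨ā, hā, fun P hP hPq => H P hP hPq fun huP => ?_⟩
  have hle : Ideal.map φ 𝔮 ≤ P := Ideal.map_le_iff_le_comap.mpr (le_of_eq hPq.symm)
  have : φ s ∈ P := huv ▸ P.add_mem huP (hle hv)
  exact hs (by rw [← hPq]; exact this)

end Groth.Agent.Lib.Helper9.FibFun
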