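import Mathlib
import Groth.Agent.Lib.Helper9.FibFun

set_option autoImplicit false
set_option linter.style.haveILetI false
set_option linter.unusedSectionVars false
universe u v w
open CategoryTheory CategoryTheory.Limits AlgebraicGeometry TopologicalSpace Opposite Topology

namespace Groth.Agent.Lib.Helper9.FibFun

/-- Closedness: a neighbourhood of a fibre of a closed morphism contains the preimage of a
neighbourhood of the point. -/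
theorem exists_nhd_preimage_le {Z Y : Scheme.{u}} (j : Z ⟶ Y) [UniversallyClosed j] (y : Y)
    (O : Z.Opens) (hO : j ⁻¹' {y} ⊆ (O : Set Z)) :
    ∃ V' : Y.Opens, y ∈ V' ∧ j ⁻¹ᵁ V' ≤ O := by
  refine ⟨⟨(j '' (O : Set Z)ᶜ)ᶜ, (j.isClosedMap _ O.isOpen.isClosed_compl).isOpen_compl⟩, ?_, ?_⟩
  · rintro ⟨z, hz, hzy⟩
    exact hz (hO hzy)
  · intro z hz
    by_contra hzO
    exact hz ⟨z, hzO, rfl⟩

/-- Closedness, basic open version. -/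
theorem exists_basicOpen_preimage_le {Z Y : Scheme.{u}} (j : Z ⟶ Y) [UniversallyClosed j] (y : Y)
    (O : Z.Opens) (hO : j ⁻¹' {y} ⊆ (O : Set Z)) {V : Y.Opens} (hV : IsAffineOpen V) (hy : y ∈ V) :
    ∃ g : Γ(Y, V), y ∈ Y.basicOpen g ∧ j ⁻¹ᵁ (Y.basicOpen g) ≤ O := by
  obtain ⟨V', hyV', hV'⟩ := exists_nhd_preimage_le j y O hO
  obtain ⟨g, hg, hyg⟩ := hV.exists_basicOpen_le ⟨y, hyV'⟩ hy
  exact ⟨g, hyg, (j.preimage_mono hg).trans hV'⟩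


theorem fromSpec_mem_basicOpen_iff {X : Scheme.{u}} {U : X.Opens} (hU : IsAffineOpen U)
    (f : Γ(X, U)) (p : Spec Γ(X, U)) : hU.fromSpec p ∈ X.basicOpen f ↔ f ∉ p.asIdeal := by
  change p ∈ hU.fromSpec ⁻¹ᵁ X.basicOpen f ↔ _
  rw [hU.fromSpec_preimage_basicOpen]
  rfl

theorem mem_basicOpen_iff_primeIdealOf {X : Scheme.{u}} {U : X.Opens} (hU : IsAffineOpen U)
    (f : Γ(X, U)) (x : U) : (x : X) ∈ X.basicOpen f ↔ f ∉ (hU.primeIdealOf x).asIdeal := by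
  rw [← fromSpec_mem_basicOpen_iff hU, hU.fromSpec_primeIdealOf]

theorem exists_basicOpen_fibre {Z Y : Scheme.{u}} (j : Z ⟶ Y) [IsIntegralHom j] (y : Y)
    {V₃ : Y.Opens} (hV₃ : IsAffineOpen V₃) (hy : y ∈ V₃) {Z₀ : Z.Opens} (hZ₀ : IsAffineOpen Z₀)
    (hle : j ⁻¹ᵁ V₃ ≤ Z₀) :
    ∃ ā : Γ(Z, Z₀), Z.basicOpen ā ≤ j ⁻¹ᵁ V₃ ∧ ∀ z, j z = y → z ∈ Z.basicOpen ā := by
  have hZ₃ : IsAffineOpen (j ⁻¹ᵁ V₃) := hV₃.preimage j
  let ρ : Γ(Z, Z₀) →+* Γ(Z, j ⁻¹ᵁ V₃) := (Z.presheaf.map (homOfLE hle).op).hom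
  let φ : Γ(Y, V₃) →+* Γ(Z, j ⁻¹ᵁ V₃) := (j.app V₃).hom
  have hφ : φ.IsIntegral := j.isIntegral_app V₃ hV₃
  let 𝔮 : Ideal Γ(Y, V₃) := (hV₃.primeIdealOf ⟨y, hy⟩).asIdeal
  let J : Ideal Γ(Z, Z₀) :=
    { carrier := {ā | Z.basicOpen ā ≤ j ⁻¹ᵁ V₃}
      add_mem' := fun {a b} ha hb => (Z.basicOpen_add_le a b).trans (sup_le ha hb)
      zero_mem' := by simp
      smul_mem' := fun c a ha => by
        change Z.basicOpen (c * a) ≤ _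
        rw [Scheme.basicOpen_mul]
        exact inf_le_right.trans ha }
  have hbo : ∀ ā : Γ(Z, Z₀), Z.basicOpen (ρ ā) = j ⁻¹ᵁ V₃ ⊓ Z.basicOpen ā := fun ā =>
    Scheme.basicOpen_res _ _ _
  have h1 : ∀ ā ∈ J, ∀ w : Γ(Z, j ⁻¹ᵁ V₃), ∃ (N : ℕ) (x : Γ(Z, Z₀)), ρ ā ^ N * w = ρ x := by
    intro ā hā w
    have hā' : Z.basicOpen ā ≤ j ⁻¹ᵁ V₃ := hā
    have hloc := hZ₀.isLocalization_basicOpen ā
    -- w restricted to D(ā)
    let w' : Γ(Z, Z.basicOpen ā) := Z.presheaf.map (homOfLE hā').op w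
    obtain ⟨⟨x, ⟨_, n, rfl⟩⟩, hx⟩ := IsLocalization.surj (Submonoid.powers ā) w'
    -- hx : w' * algebraMap (ā^n) = algebraMap x
    have heq : Z.basicOpen (ρ ā) = Z.basicOpen ā := by rw [hbo]; exact inf_eq_right.mpr hā'
    have hres : (ρ ā ^ n * w - ρ x) |_ (Z.basicOpen (ρ ā)) = 0 := by
      have e1 : ∀ t : Γ(Z, Z₀), Z.presheaf.map (homOfLE hā').op (ρ t) =
          algebraMap Γ(Z, Z₀) Γ(Z, Z.basicOpen ā) t := by
        intro t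
        simp only [ρ, RingHom.algebraMap_toAlgebra]
        rw [← CommRingCat.comp_apply, ← Functor.map_comp]
        rfl
      have hres0 : Z.presheaf.map (homOfLE hā').op (ρ ā ^ n * w - ρ x) = 0 := by
        rw [map_sub, map_mul, map_pow, e1, e1, sub_eq_zero, ← hx, mul_comm]
        simp [w']
      have : ((ρ ā ^ n * w - ρ x) |_ Z.basicOpen (ρ ā)) = Z.presheaf.map (homOfLE heq.le).op
          (Z.presheaf.map (homOfLE hā').op (ρ ā ^ n * w - ρ x)) := by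
        rw [← CommRingCat.comp_apply, ← Functor.map_comp]
        rfl
      rw [this, hres0, map_zero]
    obtain ⟨m, hm⟩ := exists_pow_mul_eq_zero_of_res_basicOpen_eq_zero_of_isAffineOpen Z hZ₃ _ _ hres
    refine ⟨m + n, ā ^ m * x, ?_⟩
    rw [map_mul, map_pow, pow_add, mul_assoc]
    rw [mul_sub] at hm
    exact sub_eq_zero.mp hm
  have h2 : ∀ P : Ideal Γ(Z, j ⁻¹ᵁ V₃), P.IsPrime → P.comap φ = 𝔮 → ∃ ā ∈ J, ρ ā ∉ P := by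
    intro P hP _
    let p : Spec Γ(Z, j ⁻¹ᵁ V₃) := ⟨P, hP⟩
    have hz₃ : hZ₃.fromSpec p ∈ j ⁻¹ᵁ V₃ := by
      have : hZ₃.fromSpec p ∈ Set.range hZ₃.fromSpec := ⟨p, rfl⟩
      rw [hZ₃.range_fromSpec] at this
      exact this
    obtain ⟨f, hf, hzf⟩ := hZ₀.exists_basicOpen_le (V := j ⁻¹ᵁ V₃) ⟨_, hz₃⟩ (hle hz₃)
    refine ⟨f, hf, ?_⟩
    have : hZ₃.fromSpec p ∈ Z.basicOpen (ρ f) := by
      rw [hbo]
      exact ⟨hz₃, hzf⟩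
    exact (fromSpec_mem_basicOpen_iff hZ₃ _ p).mp this
  obtain ⟨ā, hā, H⟩ := exists_single φ ρ hφ 𝔮 J h1 h2
  refine ⟨ā, hā, fun z hzy => ?_⟩
  have hz₃ : z ∈ j ⁻¹ᵁ V₃ := by
    change j z ∈ V₃
    rw [hzy]
    exact hy
  have hcomap := IsAffineOpen.comap_primeIdealOf_appLE V₃ hV₃ (j ⁻¹ᵁ V₃) hZ₃ le_rfl hz₃
  have hPq : (hZ₃.primeIdealOf ⟨z, hz₃⟩).asIdeal.comap φ = 𝔮 := by
    have := congrArg PrimeSpectrum.asIdeal hcomap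
    subst hzy
    rw [← Scheme.Hom.app_eq_appLE] at this
    exact this
  have := H _ (hZ₃.primeIdealOf ⟨z, hz₃⟩).isPrime hPq
  have hmem : z ∈ Z.basicOpen (ρ ā) := (mem_basicOpen_iff_primeIdealOf hZ₃ _ ⟨z, hz₃⟩).mpr this
  rw [hbo] at hmem
  exact hmem.2

/-- **Affine opens adapted to a closed immersion and an integral morphism.** -/
theorem main {X Y Z : Scheme.{u}} (i : Z ⟶ X) [IsClosedImmersion i] (j : Z ⟶ Y) [IsIntegralHom j]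
    (y : Y) {U₀ : X.Opens} (hU₀ : IsAffineOpen U₀) (hF : j ⁻¹' {y} ⊆ (i ⁻¹ᵁ U₀ : Set ↑Z)) :
    ∃ (U : X.Opens) (V : Y.Opens), IsAffineOpen U ∧ IsAffineOpen V ∧ y ∈ V ∧
      i ⁻¹ᵁ U = j ⁻¹ᵁ V := by
  obtain ⟨V₂, hV₂, hyV₂, -⟩ := exists_isAffineOpen_mem_and_subset (x := y) (U := ⊤) trivial
  have hZ₀ : IsAffineOpen (i ⁻¹ᵁ U₀) := hU₀.preimage i
  obtain ⟨g, hyg, hg⟩ := exists_basicOpen_preimage_le j y (i ⁻¹ᵁ U₀) hF hV₂ hyV₂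
  have hV₃ : IsAffineOpen (Y.basicOpen g) := hV₂.basicOpen g
  obtain ⟨ā, hā, hāF⟩ := exists_basicOpen_fibre j y hV₃ hyg hZ₀ hg
  obtain ⟨f, hf⟩ := i.app_surjective U₀ hU₀ ā
  have hU₁ : IsAffineOpen (X.basicOpen f) := hU₀.basicOpen f
  have hZ₁ : i ⁻¹ᵁ X.basicOpen f = Z.basicOpen ā := by rw [Scheme.preimage_basicOpen, hf]
  obtain ⟨g₃, hyg₃, hg₃⟩ := exists_basicOpen_preimage_le j y (i ⁻¹ᵁ X.basicOpen f)
    (by rw [hZ₁]; exact fun z hz => hāF z hz) hV₃ hyg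
  have hV : IsAffineOpen (Y.basicOpen g₃) := hV₃.basicOpen g₃
  have hle₁ : i ⁻¹ᵁ X.basicOpen f ≤ j ⁻¹ᵁ Y.basicOpen g := hZ₁.le.trans hā
  obtain ⟨f', hf'⟩ := i.app_surjective _ hU₁
    (Z.presheaf.map (homOfLE hle₁).op (j.app (Y.basicOpen g) g₃))
  refine ⟨X.basicOpen f', Y.basicOpen g₃, hU₁.basicOpen f', hV, hyg₃, ?_⟩
  rw [Scheme.preimage_basicOpen, hf', Scheme.basicOpen_res, inf_eq_right.mpr]
  · exact (Scheme.preimage_basicOpen j g₃).symm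
  · rw [← Scheme.preimage_basicOpen j g₃]
    exact hg₃

end Groth.Agent.Lib.Helper9.FibFun
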