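import Mathlib
import Groth.Agent.Lib.Helper9.Ferrand4
import Groth.Agent.Lib.Helper9.FibFun2

set_option autoImplicit false
set_option linter.style.haveILetI false
set_option linter.unusedSectionVars false
universe u v w
open CategoryTheory CategoryTheory.Limits AlgebraicGeometry TopologicalSpace Opposite Topology

namespace Groth.Agent.Lib.Helper9.Ferrand

open Groth.Agent.Lib.Helper9.PushLoc Groth.Agent.Lib.Helper9.RingPB Groth.Agent.Lib.Helper9.OILoc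

noncomputable section

variable {X Y Z : Scheme.{u}} {i : Z ⟶ X} {j : Z ⟶ Y}

namespace AdPair

/-- the adapted pair of basic opens defined by an element of the chart ring -/
def basic [IsClosedImmersion i] (p : AdPair i j) (r' : p.R) : AdPair i j where
  U := X.basicOpen (p.π₁ r')
  V := Y.basicOpen (p.π₂ r')
  hU := p.hU.basicOpen _
  hV := p.hV.basicOpen _
  h := by
    have h1 : i ⁻¹ᵁ X.basicOpen (p.π₁ r') = Z.basicOpen (p.qX (p.π₁ r')) :=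
      Scheme.preimage_basicOpen i (p.π₁ r')
    have h2 : Z.basicOpen (p.qY (p.π₂ r')) = i ⁻¹ᵁ p.U ⊓ j ⁻¹ᵁ (Y.basicOpen (p.π₂ r')) :=
      Scheme.basicOpen_appLE j (i ⁻¹ᵁ p.U) p.V (le_of_eq p.h) (p.π₂ r')
    have h3 : p.qX (p.π₁ r') = p.qY (p.π₂ r') := r'.2
    rw [h1, h3, h2, p.h]
    exact inf_eq_right.mpr (j.preimage_mono (Y.basicOpen_le _))

theorem basic_le [IsClosedImmersion i] (p : AdPair i j) (r' : p.R) : p.basic r' ≤ p :=
  ⟨X.basicOpen_le _, Y.basicOpen_le _⟩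

/-- points of `V(ker qX)` come from `Z` -/
theorem exists_of_ker_le [IsClosedImmersion i] (p : AdPair i j) (𝔪 : PrimeSpectrum Γ(X, p.U))
    (h𝔪 : RingHom.ker p.qX ≤ 𝔪.asIdeal) :
    ∃ z : Z, z ∈ i ⁻¹ᵁ p.U ∧ i z = p.hU.fromSpec 𝔪 := by
  have : 𝔪 ∈ PrimeSpectrum.zeroLocus (RingHom.ker p.qX : Set Γ(X, p.U)) := by
    rw [PrimeSpectrum.mem_zeroLocus]; exact h𝔪
  rw [← range_comap_of_surjective _ _ p.qX_surjective] at this
  obtain ⟨𝔫, rfl⟩ := this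
  refine ⟨p.hZ.fromSpec 𝔫, ?_, ?_⟩
  · have : p.hZ.fromSpec 𝔫 ∈ Set.range p.hZ.fromSpec := ⟨𝔫, rfl⟩
    rw [p.hZ.range_fromSpec] at this
    exact this
  · have := IsAffineOpen.SpecMap_appLE_fromSpec i p.hU p.hZ le_rfl
    rw [Scheme.Hom.appLE_eq_app] at this
    have := congrArg (fun φ => φ 𝔫) this
    simp only [Scheme.Hom.comp_apply] at this
    rw [← this]
    rfl

/-- **Geometric basis lemma**: adapted pairs around a point of `V_p ∩ V_q`. -/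
theorem exists_le_le_of_mem_V [IsClosedImmersion i] (p q : AdPair i j) (y : Y) (hyp : y ∈ p.V)
    (hyq : y ∈ q.V) : ∃ l : AdPair i j, l ≤ p ∧ l ≤ q ∧ y ∈ l.V := by
  -- step 1: a basic open of `p.V` around `y` inside `q.V`
  obtain ⟨g, hg, hyg⟩ := p.hV.exists_basicOpen_le (V := p.V ⊓ q.V) ⟨y, hyp, hyq⟩ hyp
  obtain ⟨f, hf⟩ := p.qX_surjective (p.qY g)
  let r' : p.R := ⟨(f, g), hf⟩
  let l₀ := p.basic r'
  have hl₀V : l₀.V ≤ q.V := hg.trans inf_le_right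
  -- step 2: shrink `l₀.U` into `q.U`
  let J : Ideal Γ(X, l₀.U) :=
    { carrier := {s | X.basicOpen s ≤ q.U}
      add_mem' := fun {a b} ha hb => (X.basicOpen_add_le a b).trans (sup_le ha hb)
      zero_mem' := by simp
      smul_mem' := fun c a ha => by
        change X.basicOpen (c * a) ≤ _
        rw [Scheme.basicOpen_mul]
        exact inf_le_right.trans ha }
  have hJK : J ⊔ RingHom.ker l₀.qX = ⊤ := by
    by_contra hne
    obtain ⟨𝔪, h𝔪max, h𝔪⟩ := Ideal.exists_le_maximal _ hne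
    let P𝔪 : PrimeSpectrum Γ(X, l₀.U) := ⟨𝔪, h𝔪max.isPrime⟩
    obtain ⟨z, hz, hiz⟩ := l₀.exists_of_ker_le P𝔪 (le_sup_right.trans h𝔪)
    have hx₀ : l₀.hU.fromSpec P𝔪 ∈ l₀.U := by
      rw [← hiz]; exact hz
    have hzq : z ∈ i ⁻¹ᵁ q.U := by
      rw [q.h]
      apply hl₀V
      have : z ∈ j ⁻¹ᵁ l₀.V := by rw [← l₀.h]; exact hz
      exact this
    have hx₀q : l₀.hU.fromSpec P𝔪 ∈ q.U := by rw [← hiz]; exact hzq
    obtain ⟨s, hs, hxs⟩ := l₀.hU.exists_basicOpen_le (V := l₀.U ⊓ q.U)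
      ⟨l₀.hU.fromSpec P𝔪, hx₀, hx₀q⟩ hx₀
    have hsJ : s ∈ J := hs.trans inf_le_right
    have hs𝔪 : s ∈ 𝔪 := h𝔪 (Ideal.mem_sup_left hsJ)
    exact (FibFun.fromSpec_mem_basicOpen_iff l₀.hU s P𝔪).mp hxs hs𝔪
  obtain ⟨s, hs, k, hk, hsk⟩ := Submodule.mem_sup.mp (hJK ▸ Submodule.mem_top : (1 : Γ(X, l₀.U)) ∈ _)
  have hqs : l₀.qX s = l₀.qY 1 := by
    have : s = 1 - k := by rw [← hsk]; ring
    rw [this, map_sub, map_one, map_one, RingHom.mem_ker.mp hk, sub_zero]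
  let r'' : l₀.R := ⟨(s, 1), hqs⟩
  refine ⟨l₀.basic r'', (l₀.basic_le r'').trans (p.basic_le r'), ⟨hs, ?_⟩, ?_⟩
  · exact (Y.basicOpen_le _).trans hl₀V
  · change y ∈ Y.basicOpen (1 : Γ(Y, l₀.V))
    rw [Scheme.basicOpen_one]
    exact hyg

/-- adapted pairs around a point of `U_p ∩ U_q` away from `Z` -/
theorem exists_le_le_of_mem_U [IsClosedImmersion i] (p q : AdPair i j) (x : X) (hxp : x ∈ p.U)
    (hxq : x ∈ q.U) (hx : x ∉ Set.range i) : ∃ l : AdPair i j, l ≤ p ∧ l ≤ q ∧ x ∈ l.U := by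
  let O : X.Opens := ⟨(Set.range i)ᶜ, i.isClosedEmbedding.isClosed_range.isOpen_compl⟩
  obtain ⟨U, hU, hxU, hUle⟩ := exists_isAffineOpen_mem_and_subset (x := x)
    (U := p.U ⊓ q.U ⊓ O) ⟨⟨hxp, hxq⟩, hx⟩
  have hbot : i ⁻¹ᵁ U = ⊥ := by
    ext z
    simp only [Opens.coe_bot, Set.mem_empty_iff_false, iff_false]
    intro hz
    exact (hUle hz).2 ⟨z, rfl⟩
  refine ⟨⟨U, ⊥, hU, isAffineOpen_bot Y, by rw [hbot]; rfl⟩, ⟨?_, bot_le⟩, ⟨?_, bot_le⟩, hxU⟩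
  · exact fun w hw => (hUle hw).1.1
  · exact fun w hw => (hUle hw).1.2

end AdPair

end

end Groth.Agent.Lib.Helper9.Ferrand
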