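import Mathlib
import Groth.Agent.Lib.Helper9.Ferrand5

set_option autoImplicit false
set_option linter.style.haveILetI false
set_option linter.unusedSectionVars false
universe u v w
open CategoryTheory CategoryTheory.Limits AlgebraicGeometry TopologicalSpace Opposite Topology

namespace Groth.Agent.Lib.Helper9.Ferrand

open Groth.Agent.Lib.Helper9.PushLoc Groth.Agent.Lib.Helper9.RingPB Groth.Agent.Lib.Helper9.OILoc

noncomputable section

variable {X Y Z : Scheme.{u}} {i : Z ⟶ X} {j : Z ⟶ Y}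

namespace AdPair

variable {p q k : AdPair i j}

theorem c_apply (p : AdPair i j) (z : (i ⁻¹ᵁ p.U : Z.Opens)) : (p.c z).1 = i z.1 :=
  morphismRestrict_base_coe i p.U z

theorem d_apply (p : AdPair i j) (z : (i ⁻¹ᵁ p.U : Z.Opens)) : (p.d z).1 = j z.1 := by
  have := congrArg (fun φ => φ z) (Scheme.Hom.resLE_comp_ι j (le_of_eq p.h))
  simp only [Scheme.Hom.comp_apply] at this
  exact this

theorem homOfLE_apply {X : Scheme.{u}} {U V : X.Opens} (e : U ≤ V) (x : U) :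
    X.homOfLE e x = ⟨x.1, e x.2⟩ := by
  apply Subtype.ext
  have := congrArg (fun φ => φ x) (X.homOfLE_ι e)
  simp only [Scheme.Hom.comp_apply] at this
  exact this

theorem red (p : AdPair i j) (z : Z) (hz : z ∈ i ⁻¹ᵁ p.U) :
    p.a ⟨i z, hz⟩ = p.b ⟨j z, (p.h ▸ hz : z ∈ j ⁻¹ᵁ p.V)⟩ := by
  have := congrArg (fun φ => φ (⟨z, hz⟩ : (i ⁻¹ᵁ p.U : Z.Opens))) p.w
  simp only [Scheme.Hom.comp_apply] at this
  have e1 : p.c ⟨z, hz⟩ = ⟨i z, hz⟩ := Subtype.ext (p.c_apply ⟨z, hz⟩)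
  have e2 : p.d ⟨z, hz⟩ = ⟨j z, (p.h ▸ hz : z ∈ j ⁻¹ᵁ p.V)⟩ := Subtype.ext (p.d_apply ⟨z, hz⟩)
  rw [e1, e2] at this
  exact this

theorem t_a (h : p ≤ q) (u : p.U) : t h (p.a u) = q.a ⟨u.1, h.1 u.2⟩ := by
  rw [← Scheme.Hom.comp_apply, a_t, Scheme.Hom.comp_apply, homOfLE_apply]

theorem t_b (h : p ≤ q) (v : p.V) : t h (p.b v) = q.b ⟨v.1, h.2 v.2⟩ := by
  rw [← Scheme.Hom.comp_apply, b_t, Scheme.Hom.comp_apply, homOfLE_apply]

theorem c_injective [IsClosedImmersion i] (p : AdPair i j) : Function.Injective p.c := by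
  intro z z' h
  apply Subtype.ext
  apply i.isClosedEmbedding.injective
  rw [← c_apply, ← c_apply, h]

theorem b_injective [IsClosedImmersion i] (p : AdPair i j) : Function.Injective p.b := by
  intro y y' h
  rcases p.topPushout.right y y' h with h' | ⟨z', z'', rfl, rfl, hz⟩
  · exact h'
  · rw [p.c_injective hz]

/-- canonical form of points of a chart -/
theorem canon [IsClosedImmersion i] (p : AdPair i j) (xp : p.P) :
    (∃ (v : Y) (hv : v ∈ p.V), xp = p.b ⟨v, hv⟩) ∨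
      (∃ (x : X) (hx : x ∈ p.U), x ∉ Set.range i ∧ xp = p.a ⟨x, hx⟩) := by
  rcases p.topPushout.surj xp with ⟨u, rfl⟩ | ⟨v, rfl⟩
  · by_cases hu : u.1 ∈ Set.range i
    · obtain ⟨z, hz⟩ := hu
      have hzU : z ∈ i ⁻¹ᵁ p.U := by change i z ∈ p.U; rw [hz]; exact u.2
      left
      refine ⟨j z, (p.h ▸ hzU : z ∈ j ⁻¹ᵁ p.V), ?_⟩
      rw [← p.red z hzU]
      congr 1
      exact Subtype.ext hz.symm
    · exact Or.inr ⟨u.1, u.2, hu, rfl⟩
  · exact Or.inl ⟨v.1, v.2, rfl⟩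

theorem ld_b [IsClosedImmersion i] (p q : AdPair i j) (v : Y) (hp : v ∈ p.V) (hq : v ∈ q.V) :
    ∃ (l : AdPair i j) (hlp : l ≤ p) (hlq : l ≤ q) (w : l.P),
      t hlp w = p.b ⟨v, hp⟩ ∧ t hlq w = q.b ⟨v, hq⟩ := by
  obtain ⟨l, hlp, hlq, hvl⟩ := exists_le_le_of_mem_V p q v hp hq
  exact ⟨l, hlp, hlq, l.b ⟨v, hvl⟩, t_b hlp _, t_b hlq _⟩

theorem ld_a [IsClosedImmersion i] (p q : AdPair i j) (x : X) (hp : x ∈ p.U) (hq : x ∈ q.U)
    (hx : x ∉ Set.range i) :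
    ∃ (l : AdPair i j) (hlp : l ≤ p) (hlq : l ≤ q) (w : l.P),
      t hlp w = p.a ⟨x, hp⟩ ∧ t hlq w = q.a ⟨x, hq⟩ := by
  obtain ⟨l, hlp, hlq, hxl⟩ := exists_le_le_of_mem_U p q x hp hq hx
  exact ⟨l, hlp, hlq, l.a ⟨x, hxl⟩, t_a hlp _, t_a hlq _⟩

/-- **the charts are locally directed** -/
theorem locally_directed [IsClosedImmersion i] (hp : p ≤ k) (hq : q ≤ k) (xp : p.P) (xq : q.P)
    (h : t hp xp = t hq xq) :
    ∃ (l : AdPair i j) (hlp : l ≤ p) (hlq : l ≤ q) (w : l.P), t hlp w = xp ∧ t hlq w = xq := by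
  rcases p.canon xp with ⟨v, hv, rfl⟩ | ⟨x, hx, hxi, rfl⟩ <;>
  rcases q.canon xq with ⟨v', hv', rfl⟩ | ⟨x', hx', hxi', rfl⟩
  · rw [t_b, t_b] at h
    have := congrArg Subtype.val (k.b_injective h)
    simp only at this
    subst this
    exact ld_b p q v hv hv'
  · exfalso
    rw [t_b, t_a] at h
    obtain ⟨z, hz, -⟩ := k.topPushout.mix _ _ h.symm
    apply hxi'
    refine ⟨z.1, ?_⟩
    rw [← c_apply, hz]
  · exfalso
    rw [t_a, t_b] at h
    obtain ⟨z, hz, -⟩ := k.topPushout.mix _ _ h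
    apply hxi
    refine ⟨z.1, ?_⟩
    rw [← c_apply, hz]
  · rw [t_a, t_a] at h
    rcases k.topPushout.left _ _ h with h' | ⟨z', z'', hz', -, -⟩
    · have := congrArg Subtype.val h'
      simp only at this
      subst this
      exact ld_a p q x hx hx' hxi
    · exfalso
      apply hxi
      refine ⟨z'.1, ?_⟩
      rw [← c_apply, hz']

end AdPair

end

end Groth.Agent.Lib.Helper9.Ferrand
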