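import Mathlib
import Groth.Agent.Lib.Helper9.Ferrand6

set_option autoImplicit false
set_option linter.style.haveILetI false
set_option linter.unusedSectionVars false
universe u v w
open CategoryTheory CategoryTheory.Limits AlgebraicGeometry TopologicalSpace Opposite Topology

namespace Groth.Agent.Lib.Helper9.Ferrand

open Groth.Agent.Lib.Helper9.PushLoc Groth.Agent.Lib.Helper9.RingPB Groth.Agent.Lib.Helper9.OILoc

noncomputable section

variable {X Y Z : Scheme.{u}} (i : Z ⟶ X) (j : Z ⟶ Y)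

theorem AdPair.t_refl (p : AdPair i j) : AdPair.t (le_refl p) = 𝟙 p.P := by
  have : CommRingCat.ofHom (AdPair.ρ (le_refl p)) = 𝟙 _ :=
    CommRingCat.hom_ext (RingHom.ext fun x => AdPair.ρ_refl p x)
  rw [AdPair.t, this, Spec.map_id]

theorem AdPair.t_trans {p q r : AdPair i j} (h : p ≤ q) (h' : q ≤ r) :
    AdPair.t h ≫ AdPair.t h' = AdPair.t (h.trans h') := by
  have : CommRingCat.ofHom (AdPair.ρ h') ≫ CommRingCat.ofHom (AdPair.ρ h) =
      CommRingCat.ofHom (AdPair.ρ (h.trans h')) :=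
    CommRingCat.hom_ext (RingHom.ext fun x => AdPair.ρ_trans h h' x)
  rw [AdPair.t, AdPair.t, ← Spec.map_comp, this, AdPair.t]

/-- the diagram of charts -/
def F : AdPair i j ⥤ Scheme.{u} where
  obj p := p.P
  map f := AdPair.t (leOfHom f)
  map_id p := AdPair.t_refl i j p
  map_comp f g := (AdPair.t_trans i j (leOfHom f) (leOfHom g)).symm

variable [IsClosedImmersion i]

instance {p q : AdPair i j} (f : p ⟶ q) : IsOpenImmersion ((F i j).map f) :=
  AdPair.isOpenImmersion_t (leOfHom f)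

instance : ((F i j) ⋙ Scheme.forget).IsLocallyDirected := by
  constructor
  intro p q k fp fq xp xq h
  obtain ⟨l, hlp, hlq, w, h1, h2⟩ := AdPair.locally_directed (leOfHom fp) (leOfHom fq) xp xq h
  exact ⟨l, homOfLE hlp, homOfLE hlq, w, h1, h2⟩

/-- the glued scheme -/
def Po : Scheme.{u} := colimit (F i j)

def ι (p : AdPair i j) : p.P ⟶ Po i j := colimit.ι (F i j) p

instance (p : AdPair i j) : IsOpenImmersion (ι i j p) :=
  inferInstanceAs (IsOpenImmersion (colimit.ι (F i j) p))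

theorem t_ι {p q : AdPair i j} (h : p ≤ q) : AdPair.t h ≫ ι i j q = ι i j p :=
  colimit.w (F i j) (homOfLE h)

theorem ι_eq_ι_iff {p q : AdPair i j} {xp : p.P} {xq : q.P} :
    ι i j p xp = ι i j q xq ↔
      ∃ (l : AdPair i j) (hp : l ≤ p) (hq : l ≤ q) (x : l.P),
        AdPair.t hp x = xp ∧ AdPair.t hq x = xq := by
  refine (Scheme.IsLocallyDirected.ι_eq_ι_iff (F := F i j) (i := p) (j := q) (xi := xp)
    (xj := xq)).trans ?_
  constructor
  · rintro ⟨k, fi, fj, x, h1, h2⟩
    exact ⟨k, leOfHom fi, leOfHom fj, x, h1, h2⟩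
  · rintro ⟨k, fi, fj, x, h1, h2⟩
    exact ⟨k, homOfLE fi, homOfLE fj, x, h1, h2⟩

theorem ι_jointly_surjective (x : Po i j) : ∃ (p : AdPair i j) (xp : p.P), ι i j p xp = x :=
  Scheme.IsLocallyDirected.ι_jointly_surjective (F i j) x

end

end Groth.Agent.Lib.Helper9.Ferrand
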