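import Mathlib
import Groth.Agent.Lib.Helper9.Ferrand7

set_option autoImplicit false
set_option linter.style.haveILetI false
set_option linter.unusedSectionVars false
universe u v w
open CategoryTheory CategoryTheory.Limits AlgebraicGeometry TopologicalSpace Opposite Topology

namespace Groth.Agent.Lib.Helper9.Ferrand

open Groth.Agent.Lib.Helper9.PushLoc Groth.Agent.Lib.Helper9.RingPB Groth.Agent.Lib.Helper9.OILoc

/-- two morphisms out of an open subscheme agree if they agree near every point -/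
theorem hom_ext_opens {P T : Scheme.{u}} {W : P.Opens} (k1 k2 : (W : Scheme.{u}) ⟶ T)
    (H : ∀ y : P, y ∈ W → ∃ (W' : P.Opens) (h : W' ≤ W), y ∈ W' ∧
      P.homOfLE h ≫ k1 = P.homOfLE h ≫ k2) : k1 = k2 := by
  apply hom_ext_of_forall_point
  intro y
  obtain ⟨W', h, hy, e⟩ := H y.1 y.2
  refine ⟨(P.homOfLE h).opensRange, ⟨⟨y.1, hy⟩, ?_⟩, ?_⟩
  · apply Subtype.ext
    have := congrArg (fun φ => φ (⟨y.1, hy⟩ : W')) (P.homOfLE_ι h)
    simp only [Scheme.Hom.comp_apply] at this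
    exact this
  · have e' : (P.homOfLE h).opensRange.ι = (P.homOfLE h).isoOpensRange.inv ≫ P.homOfLE h := by
      rw [Iso.eq_inv_comp, Scheme.Hom.isoOpensRange_hom_ι]
    rw [e', Category.assoc, Category.assoc, e]

noncomputable section

variable {X Y Z : Scheme.{u}} (i : Z ⟶ X) (j : Z ⟶ Y) [IsClosedImmersion i]

variable {i j} in
theorem AdPair.exists_le_le_of_mem_U' (p q : AdPair i j) (x : X) (hxp : x ∈ p.U)
    (hxq : x ∈ q.U) : ∃ l : AdPair i j, l ≤ p ∧ l ≤ q ∧ x ∈ l.U := by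
  by_cases hx : x ∈ Set.range i
  · obtain ⟨z, rfl⟩ := hx
    have hzp : z ∈ j ⁻¹ᵁ p.V := by rw [← p.h]; exact hxp
    have hzq : z ∈ j ⁻¹ᵁ q.V := by rw [← q.h]; exact hxq
    obtain ⟨l, hlp, hlq, hl⟩ := AdPair.exists_le_le_of_mem_V p q (j z) hzp hzq
    refine ⟨l, hlp, hlq, ?_⟩
    have : z ∈ i ⁻¹ᵁ l.U := by rw [l.h]; exact hl
    exact this
  · exact AdPair.exists_le_le_of_mem_U p q x hxp hxq hx

variable (hcov : ∀ y : Y, ∃ p : AdPair i j, y ∈ p.V)
include hcov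

theorem coverV : IsOpenCover (fun p : AdPair i j => p.V) := by
  rw [IsOpenCover, eq_top_iff]
  intro y _
  obtain ⟨p, hp⟩ := hcov y
  exact Opens.mem_iSup.mpr ⟨p, hp⟩

theorem exists_mem_U (x : X) : ∃ p : AdPair i j, x ∈ p.U := by
  by_cases hx : x ∈ Set.range i
  · obtain ⟨z, rfl⟩ := hx
    obtain ⟨p, hp⟩ := hcov (j z)
    refine ⟨p, ?_⟩
    have : z ∈ i ⁻¹ᵁ p.U := by rw [p.h]; exact hp
    exact this
  · let O : X.Opens := ⟨(Set.range i)ᶜ, i.isClosedEmbedding.isClosed_range.isOpen_compl⟩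
    obtain ⟨U, hU, hxU, hUle⟩ := exists_isAffineOpen_mem_and_subset (x := x) (U := O) hx
    have hbot : i ⁻¹ᵁ U = ⊥ := by
      ext z
      simp only [Opens.coe_bot, Set.mem_empty_iff_false, iff_false]
      intro hz
      exact (hUle hz) ⟨z, rfl⟩
    exact ⟨⟨U, ⊥, hU, isAffineOpen_bot Y, by rw [hbot]; rfl⟩, hxU⟩

theorem coverU : IsOpenCover (fun p : AdPair i j => p.U) := by
  rw [IsOpenCover, eq_top_iff]
  intro x _
  obtain ⟨p, hp⟩ := exists_mem_U i j hcov x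
  exact Opens.mem_iSup.mpr ⟨p, hp⟩

omit hcov in
theorem compat_b (p q : AdPair i j) :
    Y.homOfLE (inf_le_left : p.V ⊓ q.V ≤ p.V) ≫ p.b ≫ ι i j p =
      Y.homOfLE (inf_le_right : p.V ⊓ q.V ≤ q.V) ≫ q.b ≫ ι i j q := by
  apply hom_ext_opens
  intro y hy
  obtain ⟨l, hlp, hlq, hl⟩ := AdPair.exists_le_le_of_mem_V p q y hy.1 hy.2
  refine ⟨l.V, le_inf hlp.2 hlq.2, hl, ?_⟩
  have e1 : Y.homOfLE hlp.2 ≫ p.b ≫ ι i j p = l.b ≫ ι i j l := by
    rw [← Category.assoc, ← AdPair.b_t hlp, Category.assoc, t_ι]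
  have e2 : Y.homOfLE hlq.2 ≫ q.b ≫ ι i j q = l.b ≫ ι i j l := by
    rw [← Category.assoc, ← AdPair.b_t hlq, Category.assoc, t_ι]
  rw [Scheme.homOfLE_homOfLE_assoc, Scheme.homOfLE_homOfLE_assoc]
  exact e1.trans e2.symm

omit hcov in
theorem compat_a (p q : AdPair i j) :
    X.homOfLE (inf_le_left : p.U ⊓ q.U ≤ p.U) ≫ p.a ≫ ι i j p =
      X.homOfLE (inf_le_right : p.U ⊓ q.U ≤ q.U) ≫ q.a ≫ ι i j q := by
  apply hom_ext_opens
  intro x hx
  obtain ⟨l, hlp, hlq, hl⟩ := AdPair.exists_le_le_of_mem_U' p q x hx.1 hx.2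
  refine ⟨l.U, le_inf hlp.1 hlq.1, hl, ?_⟩
  have e1 : X.homOfLE hlp.1 ≫ p.a ≫ ι i j p = l.a ≫ ι i j l := by
    rw [← Category.assoc, ← AdPair.a_t hlp, Category.assoc, t_ι]
  have e2 : X.homOfLE hlq.1 ≫ q.a ≫ ι i j q = l.a ≫ ι i j l := by
    rw [← Category.assoc, ← AdPair.a_t hlq, Category.assoc, t_ι]
  rw [Scheme.homOfLE_homOfLE_assoc, Scheme.homOfLE_homOfLE_assoc]
  exact e1.trans e2.symm

theorem exists_a : ∃ a : X ⟶ Po i j, ∀ p : AdPair i j, p.U.ι ≫ a = p.a ≫ ι i j p :=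
  exists_glue_family (fun p : AdPair i j => p.U) (coverU i j hcov) (fun p => p.a ≫ ι i j p)
    (fun p q => compat_a i j p q)

theorem exists_b : ∃ b : Y ⟶ Po i j, ∀ p : AdPair i j, p.V.ι ≫ b = p.b ≫ ι i j p :=
  exists_glue_family (fun p : AdPair i j => p.V) (coverV i j hcov) (fun p => p.b ≫ ι i j p)
    (fun p q => compat_b i j p q)

def mapA : X ⟶ Po i j := (exists_a i j hcov).choose
def mapB : Y ⟶ Po i j := (exists_b i j hcov).choose

theorem ι_mapA (p : AdPair i j) : p.U.ι ≫ mapA i j hcov = p.a ≫ ι i j p :=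
  (exists_a i j hcov).choose_spec p

theorem ι_mapB (p : AdPair i j) : p.V.ι ≫ mapB i j hcov = p.b ≫ ι i j p :=
  (exists_b i j hcov).choose_spec p

omit hcov in
theorem AdPair.c_ι (p : AdPair i j) : p.c ≫ p.U.ι = (i ⁻¹ᵁ p.U).ι ≫ i :=
  morphismRestrict_ι i p.U

omit hcov in
theorem AdPair.d_ι (p : AdPair i j) : p.d ≫ p.V.ι = (i ⁻¹ᵁ p.U).ι ≫ j :=
  Scheme.Hom.resLE_comp_ι j (le_of_eq p.h)

theorem comm : i ≫ mapA i j hcov = j ≫ mapB i j hcov := by
  have hc : IsOpenCover (fun p : AdPair i j => i ⁻¹ᵁ p.U) := by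
    rw [IsOpenCover, eq_top_iff]
    intro z _
    obtain ⟨p, hp⟩ := exists_mem_U i j hcov (i z)
    exact Opens.mem_iSup.mpr ⟨p, hp⟩
  refine Scheme.Cover.hom_ext (Z.openCoverOfIsOpenCover _ hc) _ _ fun p => ?_
  change (i ⁻¹ᵁ p.U).ι ≫ i ≫ mapA i j hcov = (i ⁻¹ᵁ p.U).ι ≫ j ≫ mapB i j hcov
  rw [← Category.assoc, ← AdPair.c_ι, ← Category.assoc _ j, ← AdPair.d_ι, Category.assoc,
    Category.assoc, ι_mapA, ι_mapB, ← Category.assoc, p.w, Category.assoc]

section desc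
variable {T : Scheme.{u}} (f : X ⟶ T) (g : Y ⟶ T) (hfg : i ≫ f = j ≫ g)
include hfg

omit hcov in
theorem chart_comm (p : AdPair i j) : p.c ≫ p.U.ι ≫ f = p.d ≫ p.V.ι ≫ g := by
  rw [← Category.assoc, AdPair.c_ι, ← Category.assoc, AdPair.d_ι, Category.assoc,
    Category.assoc, hfg]

/-- the descent map on a chart -/
def chartDesc (p : AdPair i j) : p.P ⟶ T :=
  p.isPushout.desc (p.U.ι ≫ f) (p.V.ι ≫ g) (chart_comm i j f g hfg p)

omit hcov in
theorem a_chartDesc (p : AdPair i j) : p.a ≫ chartDesc i j f g hfg p = p.U.ι ≫ f :=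
  p.isPushout.inl_desc _ _ _

omit hcov in
theorem b_chartDesc (p : AdPair i j) : p.b ≫ chartDesc i j f g hfg p = p.V.ι ≫ g :=
  p.isPushout.inr_desc _ _ _

omit hcov in
theorem t_chartDesc {p q : AdPair i j} (h : p ≤ q) :
    AdPair.t h ≫ chartDesc i j f g hfg q = chartDesc i j f g hfg p := by
  apply p.isPushout.hom_ext
  · rw [← Category.assoc, AdPair.a_t, Category.assoc, a_chartDesc, a_chartDesc,
      ← Category.assoc, Scheme.homOfLE_ι]
  · rw [← Category.assoc, AdPair.b_t, Category.assoc, b_chartDesc, b_chartDesc,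
      ← Category.assoc, Scheme.homOfLE_ι]

/-- the cocone over the diagram of charts -/
def descCocone : Cocone (F i j) where
  pt := T
  ι := { app := fun p => chartDesc i j f g hfg p
         naturality := fun _ _ h =>
           (t_chartDesc i j f g hfg (leOfHom h)).trans (Category.comp_id _).symm }

def desc : Po i j ⟶ T := colimit.desc (F i j) (descCocone i j f g hfg)

omit hcov in
theorem ι_desc (p : AdPair i j) : ι i j p ≫ desc i j f g hfg = chartDesc i j f g hfg p :=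
  colimit.ι_desc (descCocone i j f g hfg) p

theorem mapA_desc : mapA i j hcov ≫ desc i j f g hfg = f := by
  refine Scheme.Cover.hom_ext (X.openCoverOfIsOpenCover _ (coverU i j hcov)) _ _ fun p => ?_
  change p.U.ι ≫ mapA i j hcov ≫ desc i j f g hfg = p.U.ι ≫ f
  rw [← Category.assoc, ι_mapA, Category.assoc, ι_desc, a_chartDesc]

theorem mapB_desc : mapB i j hcov ≫ desc i j f g hfg = g := by
  refine Scheme.Cover.hom_ext (Y.openCoverOfIsOpenCover _ (coverV i j hcov)) _ _ fun p => ?_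
  change p.V.ι ≫ mapB i j hcov ≫ desc i j f g hfg = p.V.ι ≫ g
  rw [← Category.assoc, ι_mapB, Category.assoc, ι_desc, b_chartDesc]

theorem desc_uniq (m : Po i j ⟶ T) (h1 : mapA i j hcov ≫ m = f) (h2 : mapB i j hcov ≫ m = g) :
    m = desc i j f g hfg := by
  apply colimit.hom_ext
  intro p
  change ι i j p ≫ m = ι i j p ≫ desc i j f g hfg
  rw [ι_desc]
  apply p.isPushout.hom_ext
  · rw [a_chartDesc, ← Category.assoc, ← ι_mapA i j hcov, Category.assoc, h1]
  · rw [b_chartDesc, ← Category.assoc, ← ι_mapB i j hcov, Category.assoc, h2]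

end desc

/-- **the glued scheme is the pushout** -/
theorem isPushout : IsPushout i j (mapA i j hcov) (mapB i j hcov) := by
  refine ⟨⟨comm i j hcov⟩, ⟨PushoutCocone.IsColimit.mk _
    (fun s => desc i j s.inl s.inr s.condition) (fun s => mapA_desc i j hcov _ _ _)
    (fun s => mapB_desc i j hcov _ _ _) (fun s m h1 h2 => desc_uniq i j hcov _ _ _ m h1 h2)⟩⟩

end

end Groth.Agent.Lib.Helper9.Ferrand
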