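import Mathlib
import Groth.Agent.Lib.Helper9.Ferrand8

set_option autoImplicit false
set_option linter.style.haveILetI false
set_option linter.unusedSectionVars false
universe u v w
open CategoryTheory CategoryTheory.Limits AlgebraicGeometry TopologicalSpace Opposite Topology

namespace Groth.Agent.Lib.Helper9.Ferrand

open Groth.Agent.Lib.Helper9.PushLoc Groth.Agent.Lib.Helper9.RingPB Groth.Agent.Lib.Helper9.OILoc

noncomputable section

variable {X Y Z : Scheme.{u}} (i : Z ⟶ X) (j : Z ⟶ Y) [IsClosedImmersion i]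
variable (hcov : ∀ y : Y, ∃ p : AdPair i j, y ∈ p.V)
include hcov

theorem mapA_apply (p : AdPair i j) (u : p.U) : mapA i j hcov u.1 = ι i j p (p.a u) := by
  have := congrArg (fun φ => φ u) (ι_mapA i j hcov p)
  simp only [Scheme.Hom.comp_apply] at this
  exact this

theorem mapB_apply (p : AdPair i j) (v : p.V) : mapB i j hcov v.1 = ι i j p (p.b v) := by
  have := congrArg (fun φ => φ v) (ι_mapB i j hcov p)
  simp only [Scheme.Hom.comp_apply] at this
  exact this

theorem mapB_preimage (p : AdPair i j) : mapB i j hcov ⁻¹ᵁ (ι i j p).opensRange = p.V := by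
  ext v
  constructor
  · rintro ⟨xp, hxp⟩
    obtain ⟨q, hq⟩ := hcov v
    have e := mapB_apply i j hcov q ⟨v, hq⟩
    simp only at e
    rw [e] at hxp
    obtain ⟨l, hlp, hlq, w, h1, h2⟩ := (ι_eq_ι_iff i j).mp hxp
    rcases l.canon w with ⟨v', hv', rfl⟩ | ⟨x', hx', hxi', rfl⟩
    · rw [AdPair.t_b] at h2
      have := congrArg Subtype.val (q.b_injective h2)
      simp only at this
      subst this
      exact hlp.2 hv'
    · exfalso
      rw [AdPair.t_a] at h2
      obtain ⟨z, hz, -⟩ := q.topPushout.mix _ _ h2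
      apply hxi'
      refine ⟨z.1, ?_⟩
      rw [← AdPair.c_apply, hz]
  · intro hv
    exact ⟨p.b ⟨v, hv⟩, (mapB_apply i j hcov p ⟨v, hv⟩).symm⟩

theorem mapA_preimage (p : AdPair i j) : mapA i j hcov ⁻¹ᵁ (ι i j p).opensRange = p.U := by
  ext x
  constructor
  · rintro ⟨xp, hxp⟩
    obtain ⟨q, hq⟩ := exists_mem_U i j hcov x
    have e := mapA_apply i j hcov q ⟨x, hq⟩
    simp only at e
    rw [e] at hxp
    obtain ⟨l, hlp, hlq, w, h1, h2⟩ := (ι_eq_ι_iff i j).mp hxp
    rcases l.canon w with ⟨v', hv', rfl⟩ | ⟨x', hx', hxi', rfl⟩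
    · rw [AdPair.t_b] at h2
      obtain ⟨z, hz1, hz2⟩ := q.topPushout.mix _ _ h2.symm
      have e1 : i z.1 = x := by rw [← AdPair.c_apply, hz1]
      have e2 : j z.1 = v' := by rw [← AdPair.d_apply, hz2]
      have : z.1 ∈ i ⁻¹ᵁ l.U := by
        rw [l.h]
        change j z.1 ∈ l.V
        rw [e2]; exact hv'
      rw [← e1]
      exact hlp.1 this
    · rw [AdPair.t_a] at h2
      rcases q.topPushout.left _ _ h2 with h' | ⟨z', z'', hz', -, -⟩
      · have := congrArg Subtype.val h'
        simp only at this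
        subst this
        exact hlp.1 hx'
      · exfalso
        apply hxi'
        refine ⟨z'.1, ?_⟩
        rw [← AdPair.c_apply, hz']
  · intro hx
    exact ⟨p.a ⟨x, hx⟩, (mapA_apply i j hcov p ⟨x, hx⟩).symm⟩

omit hcov in
theorem iSup_opensRange_ι : ⨆ p : AdPair i j, (ι i j p).opensRange = ⊤ := by
  rw [eq_top_iff]
  intro x _
  obtain ⟨p, xp, rfl⟩ := ι_jointly_surjective i j x
  exact Opens.mem_iSup.mpr ⟨p, xp, rfl⟩

end

/-- restriction of a morphism over a chart, up to isomorphisms -/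
theorem morphismRestrict_of_chart (P : MorphismProperty Scheme.{u}) [P.RespectsIso]
    {X' P' Q : Scheme.{u}} (f : X' ⟶ P') (κ : Q ⟶ P') [IsOpenImmersion κ] (V : X'.Opens)
    (hV : f ⁻¹ᵁ κ.opensRange = V) (g : (V : Scheme.{u}) ⟶ Q) (hg : V.ι ≫ f = g ≫ κ) (Hg : P g) :
    P (f ∣_ κ.opensRange) := by
  have e : f ∣_ κ.opensRange = (X'.isoOfEq hV).hom ≫ g ≫ κ.isoOpensRange.hom := by
    rw [← cancel_mono κ.opensRange.ι, morphismRestrict_ι, Category.assoc, Category.assoc,
      Scheme.Hom.isoOpensRange_hom_ι, ← hg, ← Category.assoc, Scheme.isoOfEq_hom_ι]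
  rw [e, P.cancel_left_of_respectsIso, P.cancel_right_of_respectsIso]
  exact Hg

end Groth.Agent.Lib.Helper9.Ferrand
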