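import Mathlib
import Groth.Agent.Lib.Helper9.SpecPO
import Groth.Agent.Lib.Helper9.RingPB2

set_option autoImplicit false
set_option linter.style.haveILetI false
set_option linter.unusedSectionVars false
universe u v w
open CategoryTheory CategoryTheory.Limits AlgebraicGeometry TopologicalSpace Opposite Topology

namespace Groth.Agent.Lib.Helper9.RingPB

section
variable {R R₁ R₂ R₀ : Type u} [CommRing R] [CommRing R₁] [CommRing R₂] [CommRing R₀]
  {π₁ : R →+* R₁} {π₂ : R →+* R₂} {q₁ : R₁ →+* R₀} {q₂ : R₂ →+* R₀}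

open Polynomial in
/-- in a pullback square with `q₁` surjective and `q₂` integral, `π₁` is integral -/
theorem IsPB.isIntegral_fst (H : IsPB π₁ π₂ q₁ q₂) (hq : Function.Surjective q₁)
    (hint : q₂.IsIntegral) : π₁.IsIntegral := by
  intro x
  rcases subsingleton_or_nontrivial R with hR | hR
  · have : Subsingleton R₁ := by
      refine ⟨fun a b => ?_⟩
      have h01 : (0 : R₁) = 1 := by
        rw [← map_zero π₁, ← map_one π₁, Subsingleton.elim (0 : R) 1]
      rw [← mul_one a, ← mul_one b, ← h01, mul_zero, mul_zero]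
    exact ⟨X, monic_X, Subsingleton.elim _ _⟩
  obtain ⟨f, hf, hfx⟩ := hint (q₁ x)
  have hlift : f ∈ lifts π₂ := by
    rw [mem_lifts]; exact map_surjective π₂ (H.surj₂ hq) _
  obtain ⟨F, hF1, hF2, hF3⟩ := lifts_and_natDegree_eq_and_monic hlift hf
  have hG : (F * X).Monic := hF3.mul monic_X
  have hdeg : (F * X).natDegree = F.natDegree + 1 := by
    rw [hF3.natDegree_mul monic_X, natDegree_X]
  have hy : q₁ (eval₂ π₁ x (F * X)) = 0 := by
    rw [eval₂_mul, map_mul, hom_eval₂]
    have : q₁.comp π₁ = q₂.comp π₂ := RingHom.ext H.comm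
    rw [this, ← eval₂_map, hF1, hfx, zero_mul]
  obtain ⟨r, hr1, hr2⟩ := H.ex (eval₂ π₁ x (F * X)) 0 (by rw [hy, map_zero])
  refine ⟨F * X - C r, ?_, ?_⟩
  · apply hG.sub_of_left
    calc degree (C r) ≤ 0 := degree_C_le
      _ < degree (F * X) := by
        rw [degree_eq_natDegree hG.ne_zero, hdeg]
        exact_mod_cast Nat.succ_pos _
  · rw [eval₂_sub, eval₂_C, hr1, sub_self]

theorem IsPB.surj₁ (H : IsPB π₁ π₂ q₁ q₂) (hq : Function.Surjective q₂) :
    Function.Surjective π₁ := H.symm.surj₂ hq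

end

section cat
variable {R R₁ R₂ R₀ : Type u} [CommRing R] [CommRing R₁] [CommRing R₂] [CommRing R₀]
  {π₁ : R →+* R₁} {π₂ : R →+* R₂} {q₁ : R₁ →+* R₀} {q₂ : R₂ →+* R₀}

theorem IsPB.isPushout_commRingCat (H : IsPB π₁ π₂ q₁ q₂) (hq : Function.Surjective q₁) :
    IsPushout (CommRingCat.ofHom π₁) (CommRingCat.ofHom π₂) (CommRingCat.ofHom q₁)
      (CommRingCat.ofHom q₂) := by
  have hker : ∀ {T : CommRingCat.{u}} (α : CommRingCat.of R₁ ⟶ T) (β : CommRingCat.of R₂ ⟶ T),
      CommRingCat.ofHom π₁ ≫ α = CommRingCat.ofHom π₂ ≫ β →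
      ∀ e : R₁, q₁ e = 0 → α.hom e = 0 := by
    intro T α β hαβ e he
    obtain ⟨r, hr1, hr2⟩ := H.ex e 0 (by rw [he, map_zero])
    have := congrArg (fun φ => φ.hom r) hαβ
    simp only [CommRingCat.hom_comp, CommRingCat.hom_ofHom, RingHom.comp_apply] at this
    rw [hr1, hr2, map_zero] at this
    exact this
  let γ : ∀ s : PushoutCocone (CommRingCat.ofHom π₁) (CommRingCat.ofHom π₂), R₀ →+* s.pt :=
    fun s => RingHom.liftOfRightInverse q₁ (Function.surjInv hq) (Function.rightInverse_surjInv hq)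
      ⟨s.inl.hom, fun e he => hker s.inl s.inr s.condition e he⟩
  have hγ : ∀ s x, γ s (q₁ x) = s.inl.hom x := fun s x =>
    RingHom.liftOfRightInverse_comp_apply q₁ (Function.surjInv hq)
      (Function.rightInverse_surjInv hq) ⟨s.inl.hom, _⟩ x
  refine ⟨⟨CommRingCat.hom_ext (RingHom.ext H.comm)⟩, ⟨PushoutCocone.IsColimit.mk _
    (fun s => CommRingCat.ofHom (γ s)) ?_ ?_ ?_⟩⟩
  · intro s
    exact CommRingCat.hom_ext (RingHom.ext fun x => hγ s x)
  · intro s
    refine CommRingCat.hom_ext (RingHom.ext fun y => ?_)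
    obtain ⟨x, hx⟩ := hq (q₂ y)
    obtain ⟨r, hr1, hr2⟩ := H.ex x y hx
    have := congrArg (fun φ => φ.hom r) s.condition
    simp only [CommRingCat.hom_comp, CommRingCat.hom_ofHom, RingHom.comp_apply] at this
    rw [hr1, hr2] at this
    rw [← this]
    change γ s (q₂ y) = _
    rw [← hx]
    exact hγ s x
  · intro s m h1 h2
    refine CommRingCat.hom_ext (RingHom.ext fun z => ?_)
    obtain ⟨x, rfl⟩ := hq z
    have := congrArg (fun φ => φ.hom x) h1
    simp only [CommRingCat.hom_comp, CommRingCat.hom_ofHom, RingHom.comp_apply] at this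
    rw [this]
    exact (hγ s x).symm

theorem IsPB.isPullback_Spec (H : IsPB π₁ π₂ q₁ q₂) (hq : Function.Surjective q₁) :
    IsPullback (Spec.map (CommRingCat.ofHom q₁)) (Spec.map (CommRingCat.ofHom q₂))
      (Spec.map (CommRingCat.ofHom π₁)) (Spec.map (CommRingCat.ofHom π₂)) := by
  have h1 := (H.isPushout_commRingCat hq).op.flip
  exact h1.map Scheme.Spec

end cat

end Groth.Agent.Lib.Helper9.RingPB
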