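import Mathlib
import Groth.Agent.Lib.Helper9.Ferrand9
import Groth.Agent.Lib.Helper9.RingPB3

set_option autoImplicit false
set_option linter.style.haveILetI false
set_option linter.unusedSectionVars false
universe u v w
open CategoryTheory CategoryTheory.Limits AlgebraicGeometry TopologicalSpace Opposite Topology

namespace Groth.Agent.Lib.Helper9.Ferrand

open Groth.Agent.Lib.Helper9.PushLoc Groth.Agent.Lib.Helper9.RingPB Groth.Agent.Lib.Helper9.OILoc

theorem appLE_isIntegral {Z Y : Scheme.{u}} (j : Z ⟶ Y) [IsIntegralHom j] {V : Y.Opens}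
    (hV : IsAffineOpen V) {W : Z.Opens} (e : W = j ⁻¹ᵁ V) :
    (j.appLE V W (le_of_eq e)).hom.IsIntegral := by
  subst e
  rw [← Scheme.Hom.app_eq_appLE]
  exact j.isIntegral_app V hV

theorem appLE_surjective {Z Y : Scheme.{u}} (j : Z ⟶ Y) [IsClosedImmersion j] {V : Y.Opens}
    (hV : IsAffineOpen V) {W : Z.Opens} (e : W = j ⁻¹ᵁ V) :
    Function.Surjective (j.appLE V W (le_of_eq e)).hom := by
  subst e
  rw [← Scheme.Hom.app_eq_appLE]
  exact j.app_surjective V hV

noncomputable section

variable {X Y Z : Scheme.{u}} {i : Z ⟶ X} {j : Z ⟶ Y} [IsClosedImmersion i]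

namespace AdPair

variable (p : AdPair i j)

instance : IsIso p.V.toSpecΓ := p.hV.isoSpec.isIso_hom
instance : IsIso p.U.toSpecΓ := p.hU.isoSpec.isIso_hom

theorem isClosedImmersion_b : IsClosedImmersion p.b := by
  have : IsClosedImmersion (Spec.map (CommRingCat.ofHom p.π₂)) :=
    IsClosedImmersion.spec_of_surjective _ (p.isPB.surj₂ p.qX_surjective)
  exact inferInstanceAs (IsClosedImmersion (p.V.toSpecΓ ≫ Spec.map (CommRingCat.ofHom p.π₂)))

theorem isIntegralHom_a [IsIntegralHom j] : IsIntegralHom p.a := by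
  have h2 : p.π₁.IsIntegral :=
    p.isPB.isIntegral_fst p.qX_surjective (appLE_isIntegral j p.hV p.h)
  have : IsIntegralHom (Spec.map (CommRingCat.ofHom p.π₁)) := IsIntegralHom.SpecMap_iff.mpr h2
  exact inferInstanceAs (IsIntegralHom (p.U.toSpecΓ ≫ Spec.map (CommRingCat.ofHom p.π₁)))

theorem isClosedImmersion_a [IsClosedImmersion j] : IsClosedImmersion p.a := by
  have h2 : Function.Surjective p.π₁ := p.isPB.surj₁ (appLE_surjective j p.hV p.h)
  have : IsClosedImmersion (Spec.map (CommRingCat.ofHom p.π₁)) :=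
    IsClosedImmersion.spec_of_surjective _ h2
  exact inferInstanceAs (IsClosedImmersion (p.U.toSpecΓ ≫ Spec.map (CommRingCat.ofHom p.π₁)))

end AdPair

variable (i j)
variable (hcov : ∀ y : Y, ∃ p : AdPair i j, y ∈ p.V)

theorem isClosedImmersion_mapB : IsClosedImmersion (mapB i j hcov) :=
  IsZariskiLocalAtTarget.of_iSup_eq_top (P := @IsClosedImmersion)
    (fun p : AdPair i j => (ι i j p).opensRange) (iSup_opensRange_ι i j)
    (fun p => morphismRestrict_of_chart @IsClosedImmersion (mapB i j hcov) (ι i j p) p.V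
      (mapB_preimage i j hcov p) p.b (ι_mapB i j hcov p) p.isClosedImmersion_b)

theorem isIntegralHom_mapA [IsIntegralHom j] : IsIntegralHom (mapA i j hcov) :=
  IsZariskiLocalAtTarget.of_iSup_eq_top (P := @IsIntegralHom)
    (fun p : AdPair i j => (ι i j p).opensRange) (iSup_opensRange_ι i j)
    (fun p => morphismRestrict_of_chart @IsIntegralHom (mapA i j hcov) (ι i j p) p.U
      (mapA_preimage i j hcov p) p.a (ι_mapA i j hcov p) p.isIntegralHom_a)

theorem isClosedImmersion_mapA [IsClosedImmersion j] : IsClosedImmersion (mapA i j hcov) :=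
  IsZariskiLocalAtTarget.of_iSup_eq_top (P := @IsClosedImmersion)
    (fun p : AdPair i j => (ι i j p).opensRange) (iSup_opensRange_ι i j)
    (fun p => morphismRestrict_of_chart @IsClosedImmersion (mapA i j hcov) (ι i j p) p.U
      (mapA_preimage i j hcov p) p.a (ι_mapA i j hcov p) p.isClosedImmersion_a)

end

end Groth.Agent.Lib.Helper9.Ferrand
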