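import Mathlib
import Groth.Agent.Lib.Helper9.Ferrand10

set_option autoImplicit false
set_option linter.style.haveILetI false
set_option linter.unusedSectionVars false
universe u v w
open CategoryTheory CategoryTheory.Limits AlgebraicGeometry TopologicalSpace Opposite Topology

namespace Groth.Agent.Lib.Helper9.Ferrand

open Groth.Agent.Lib.Helper9.PushLoc Groth.Agent.Lib.Helper9.RingPB Groth.Agent.Lib.Helper9.OILoc

noncomputable section

variable {X Y Z : Scheme.{u}} (i : Z ⟶ X) (j : Z ⟶ Y) [IsClosedImmersion i]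

variable {i j} in
theorem AdPair.isPullback (p : AdPair i j) : IsPullback p.c p.d p.a p.b := by
  refine (p.isPB.isPullback_Spec p.qX_surjective).of_iso' p.hZ.isoSpec p.hU.isoSpec p.hV.isoSpec
    (Iso.refl _) ?_ ?_ ?_ ?_
  · exact (AdPair.c_toSpecΓ p).symm
  · exact (AdPair.d_toSpecΓ p).symm
  · rw [Iso.refl_hom, Category.comp_id]; rfl
  · rw [Iso.refl_hom, Category.comp_id]; rfl

variable (hcov : ∀ y : Y, ∃ p : AdPair i j, y ∈ p.V)
include hcov

section lift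
variable {T : Scheme.{u}} (f : T ⟶ X) (g : T ⟶ Y) (hfg : f ≫ mapA i j hcov = g ≫ mapB i j hcov)
include hfg

theorem preimage_eq (p : AdPair i j) : f ⁻¹ᵁ p.U = g ⁻¹ᵁ p.V := by
  rw [← mapA_preimage i j hcov p, ← mapB_preimage i j hcov p, ← Scheme.Hom.comp_preimage,
    ← Scheme.Hom.comp_preimage, hfg]

def gp (p : AdPair i j) : ((f ⁻¹ᵁ p.U : T.Opens) : Scheme.{u}) ⟶ p.V :=
  g.resLE p.V (f ⁻¹ᵁ p.U) (le_of_eq (preimage_eq i j hcov f g hfg p))

theorem fp_a (p : AdPair i j) : (f ∣_ p.U) ≫ p.a = gp i j hcov f g hfg p ≫ p.b := by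
  rw [← cancel_mono (ι i j p), Category.assoc, Category.assoc, ← ι_mapA i j hcov,
    ← ι_mapB i j hcov, ← Category.assoc, morphismRestrict_ι, ← Category.assoc (gp _ _ _ _ _ _ _),
    gp, Scheme.Hom.resLE_comp_ι, Category.assoc, Category.assoc, hfg]

def lp (p : AdPair i j) : ((f ⁻¹ᵁ p.U : T.Opens) : Scheme.{u}) ⟶ (i ⁻¹ᵁ p.U : Z.Opens) :=
  p.isPullback.lift (f ∣_ p.U) (gp i j hcov f g hfg p) (fp_a i j hcov f g hfg p)

def hp (p : AdPair i j) : ((f ⁻¹ᵁ p.U : T.Opens) : Scheme.{u}) ⟶ Z :=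
  lp i j hcov f g hfg p ≫ (i ⁻¹ᵁ p.U).ι

theorem hp_i (p : AdPair i j) : hp i j hcov f g hfg p ≫ i = (f ⁻¹ᵁ p.U).ι ≫ f := by
  rw [hp, Category.assoc, ← AdPair.c_ι, ← Category.assoc, lp, IsPullback.lift_fst,
    morphismRestrict_ι]

theorem hp_j (p : AdPair i j) : hp i j hcov f g hfg p ≫ j = (f ⁻¹ᵁ p.U).ι ≫ g := by
  rw [hp, Category.assoc, ← AdPair.d_ι, ← Category.assoc, lp, IsPullback.lift_snd, gp,
    Scheme.Hom.resLE_comp_ι]

theorem exists_lift : ∃ l : T ⟶ Z, l ≫ i = f ∧ l ≫ j = g := by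
  have hc : IsOpenCover (fun p : AdPair i j => f ⁻¹ᵁ p.U) := by
    rw [IsOpenCover, eq_top_iff]
    intro t _
    obtain ⟨p, hp⟩ := exists_mem_U i j hcov (f t)
    exact Opens.mem_iSup.mpr ⟨p, hp⟩
  obtain ⟨l, hl⟩ := exists_glue_family (fun p : AdPair i j => f ⁻¹ᵁ p.U) hc
    (fun p => hp i j hcov f g hfg p) (fun p q => by
      rw [← cancel_mono i, Category.assoc, Category.assoc, hp_i, hp_i, ← Category.assoc,
        ← Category.assoc, Scheme.homOfLE_ι, Scheme.homOfLE_ι])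
  refine ⟨l, ?_, ?_⟩
  · refine Scheme.Cover.hom_ext (T.openCoverOfIsOpenCover _ hc) _ _ fun p => ?_
    change (f ⁻¹ᵁ p.U).ι ≫ l ≫ i = (f ⁻¹ᵁ p.U).ι ≫ f
    rw [← Category.assoc, hl, hp_i]
  · refine Scheme.Cover.hom_ext (T.openCoverOfIsOpenCover _ hc) _ _ fun p => ?_
    change (f ⁻¹ᵁ p.U).ι ≫ l ≫ j = (f ⁻¹ᵁ p.U).ι ≫ g
    rw [← Category.assoc, hl, hp_j]

end lift

/-- **the pushout square is cartesian** -/
theorem isPullback : IsPullback i j (mapA i j hcov) (mapB i j hcov) := by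
  refine ⟨⟨comm i j hcov⟩, ⟨PullbackCone.IsLimit.mk _
    (fun s => (exists_lift i j hcov s.fst s.snd s.condition).choose)
    (fun s => (exists_lift i j hcov s.fst s.snd s.condition).choose_spec.1)
    (fun s => (exists_lift i j hcov s.fst s.snd s.condition).choose_spec.2)
    (fun s m h1 h2 => ?_)⟩⟩
  rw [← cancel_mono i, h1, (exists_lift i j hcov s.fst s.snd s.condition).choose_spec.1]

end

end Groth.Agent.Lib.Helper9.Ferrand
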