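import Mathlib
import Groth.Agent.Lib.Helper9.Ferrand11
import Groth.Agent.Lib.Helper9.FibFun2

set_option autoImplicit false
set_option linter.style.haveILetI false
set_option linter.unusedSectionVars false
universe u v w
open CategoryTheory CategoryTheory.Limits AlgebraicGeometry TopologicalSpace Opposite Topology

namespace Groth.Agent.Lib.Helper9.Ferrand

open Groth.Agent.Lib.Helper9.PushLoc Groth.Agent.Lib.Helper9.RingPB Groth.Agent.Lib.Helper9.OILoc

variable {X Y Z : Scheme.{u}} (i : Z ⟶ X) (j : Z ⟶ Y) [IsClosedImmersion i]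

theorem hcov_of_haff [IsIntegralHom j]
    (haff : ∀ y : ↑Y, ∃ U : X.Opens, IsAffineOpen U ∧ j ⁻¹' {y} ⊆ i ⁻¹' (U : Set ↑X)) :
    ∀ y : Y, ∃ p : AdPair i j, y ∈ p.V := by
  intro y
  obtain ⟨U₀, hU₀, hF⟩ := haff y
  obtain ⟨U, V, hU, hV, hy, h⟩ := Groth.Agent.Lib.Helper9.FibFun.main i j y hU₀ hF
  exact ⟨⟨U, V, hU, hV, h⟩, hy⟩

/-- **Ferrand pushout: closed immersion along an integral morphism** -/
theorem exists_pushout_integral [IsIntegralHom j]
    (haff : ∀ y : ↑Y, ∃ U : X.Opens, IsAffineOpen U ∧ j ⁻¹' {y} ⊆ i ⁻¹' (U : Set ↑X)) :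
    ∃ (P : Scheme.{u}) (a : X ⟶ P) (b : Y ⟶ P), IsPushout i j a b ∧ IsPullback i j a b ∧
      IsIntegralHom a ∧ IsClosedImmersion b :=
  have hcov := hcov_of_haff i j haff
  ⟨Po i j, mapA i j hcov, mapB i j hcov, isPushout i j hcov, isPullback i j hcov,
    isIntegralHom_mapA i j hcov, isClosedImmersion_mapB i j hcov⟩

theorem haff_of_isClosedImmersion [IsClosedImmersion j] :
    ∀ y : ↑Y, ∃ U : X.Opens, IsAffineOpen U ∧ j ⁻¹' {y} ⊆ i ⁻¹' (U : Set ↑X) := by
  intro y
  by_cases hy : y ∈ Set.range j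
  · obtain ⟨z, rfl⟩ := hy
    obtain ⟨U, hU, hzU, -⟩ := exists_isAffineOpen_mem_and_subset (x := i z) (U := ⊤) trivial
    refine ⟨U, hU, ?_⟩
    intro z' hz'
    have : z' = z := j.isClosedEmbedding.injective hz'
    rw [this]
    exact hzU
  · refine ⟨⊥, isAffineOpen_bot X, ?_⟩
    intro z' hz'
    exact (hy ⟨z', hz'⟩).elim

/-- **pushout of two closed immersions** -/
theorem exists_pushout_closed [IsClosedImmersion j] :
    ∃ (P : Scheme.{u}) (a : X ⟶ P) (b : Y ⟶ P), IsPushout i j a b ∧ IsPullback i j a b ∧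
      IsClosedImmersion a ∧ IsClosedImmersion b :=
  have hcov := hcov_of_haff i j (haff_of_isClosedImmersion i j)
  ⟨Po i j, mapA i j hcov, mapB i j hcov, isPushout i j hcov, isPullback i j hcov,
    isClosedImmersion_mapA i j hcov, isClosedImmersion_mapB i j hcov⟩

end Groth.Agent.Lib.Helper9.Ferrand
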