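import Mathlib
import Groth.Agent.Lib.Helper9.Ferrand12

set_option autoImplicit false
set_option linter.style.haveILetI false
set_option linter.unusedSectionVars false
universe u v w
open CategoryTheory CategoryTheory.Limits AlgebraicGeometry TopologicalSpace Opposite Topology

namespace Groth.Agent.Lib.Helper9.RingPB

section
variable {R R₁ R₂ R₀ : Type u} [CommRing R] [CommRing R₁] [CommRing R₂] [CommRing R₀]
  {π₁ : R →+* R₁} {π₂ : R →+* R₂} {q₁ : R₁ →+* R₀} {q₂ : R₂ →+* R₀}

/-- in a pullback square with `q₁` surjective and `q₂` finite, `π₁` is finite -/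
theorem IsPB.finite_fst (H : IsPB π₁ π₂ q₁ q₂) (hq : Function.Surjective q₁)
    (hfin : q₂.Finite) : π₁.Finite := by
  letI := q₂.toAlgebra
  letI := π₁.toAlgebra
  obtain ⟨s, hs⟩ := (hfin : Module.Finite R₂ R₀).fg_top
  choose lift hlift using hq
  let M : Submodule R R₁ := Submodule.span R (insert 1 (lift '' (s : Set R₀)))
  have h1 : (1 : R₁) ∈ M := Submodule.subset_span (Set.mem_insert _ _)
  have hker : ∀ x, q₁ x = 0 → x ∈ M := by
    intro x hx
    obtain ⟨r, hr1, -⟩ := H.ex x 0 (by rw [hx, map_zero])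
    have : x = r • (1 : R₁) := by rw [Algebra.smul_def, mul_one]; exact hr1.symm
    rw [this]
    exact M.smul_mem r h1
  have key : ∀ c ∈ Submodule.span R₂ (s : Set R₀), ∀ x, q₁ x = c → x ∈ M := by
    intro c hc
    induction hc using Submodule.span_induction with
    | mem c hc =>
      intro x hx
      have e : x = (x - lift c) + lift c := by ring
      rw [e]
      refine M.add_mem (hker _ ?_) (Submodule.subset_span (Set.mem_insert_of_mem _ ⟨c, hc, rfl⟩))
      rw [map_sub, hx, hlift, sub_self]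
    | zero => exact fun x hx => hker x hx
    | add c₁ c₂ _ _ ih₁ ih₂ =>
      intro x hx
      have e : x = lift c₁ + (x - lift c₁) := by ring
      rw [e]
      refine M.add_mem (ih₁ _ (hlift c₁)) (ih₂ _ ?_)
      rw [map_sub, hx, hlift]; ring
    | smul b c _ ih =>
      intro x hx
      obtain ⟨r, hr⟩ := H.surj₂ (fun c => ⟨lift c, hlift c⟩) b
      have e : x = (x - r • lift c) + r • lift c := by ring
      rw [e]
      refine M.add_mem (hker _ ?_) (M.smul_mem r (ih _ (hlift c)))
      have e2 : q₁ (r • lift c) = b • c := by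
        rw [Algebra.smul_def, Algebra.smul_def, map_mul, hlift]
        change q₁ (π₁ r) * c = q₂ b * c
        rw [H.comm, hr]
      rw [map_sub, hx, e2, sub_self]
  have hM : M = ⊤ := by
    rw [eq_top_iff]
    intro x _
    exact key (q₁ x) (by rw [hs]; trivial) x rfl
  exact ⟨hM ▸ Submodule.fg_span (Set.Finite.insert _ (s.finite_toSet.image _))⟩

end

end Groth.Agent.Lib.Helper9.RingPB

namespace Groth.Agent.Lib.Helper9.Ferrand

open Groth.Agent.Lib.Helper9.PushLoc Groth.Agent.Lib.Helper9.RingPB Groth.Agent.Lib.Helper9.OILoc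

theorem appLE_finite {Z Y : Scheme.{u}} (j : Z ⟶ Y) [IsFinite j] {V : Y.Opens}
    (hV : IsAffineOpen V) {W : Z.Opens} (e : W = j ⁻¹ᵁ V) :
    (j.appLE V W (le_of_eq e)).hom.Finite := by
  subst e
  rw [← Scheme.Hom.app_eq_appLE]
  exact j.finite_app V hV

noncomputable section

variable {X Y Z : Scheme.{u}} (i : Z ⟶ X) (j : Z ⟶ Y) [IsClosedImmersion i]

variable {i j} in
theorem AdPair.isFinite_a [IsFinite j] (p : AdPair i j) : IsFinite p.a := by
  have h2 : p.π₁.Finite := p.isPB.finite_fst p.qX_surjective (appLE_finite j p.hV p.h)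
  have : IsFinite (Spec.map (CommRingCat.ofHom p.π₁)) := (IsFinite.SpecMap_iff _).mpr h2
  exact inferInstanceAs (IsFinite (p.U.toSpecΓ ≫ Spec.map (CommRingCat.ofHom p.π₁)))

variable (hcov : ∀ y : Y, ∃ p : AdPair i j, y ∈ p.V)

theorem isFinite_mapA [IsFinite j] : IsFinite (mapA i j hcov) :=
  IsZariskiLocalAtTarget.of_iSup_eq_top (P := @IsFinite)
    (fun p : AdPair i j => (ι i j p).opensRange) (iSup_opensRange_ι i j)
    (fun p => morphismRestrict_of_chart @IsFinite (mapA i j hcov) (ι i j p) p.U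
      (mapA_preimage i j hcov p) p.a (ι_mapA i j hcov p) p.isFinite_a)

section arbitrary
variable {P : Scheme.{u}} {a : X ⟶ P} {b : Y ⟶ P} (hP : IsPushout i j a b)
include hcov hP

/-- comparison of the glued scheme with an arbitrary pushout -/
def isoOfIsPushout : Po i j ≅ P := (isPushout i j hcov).isoIsPushout _ _ hP

theorem mapA_iso : mapA i j hcov ≫ (isoOfIsPushout i j hcov hP).hom = a :=
  IsPushout.inl_isoIsPushout_hom _ _ (isPushout i j hcov) hP

theorem mapB_iso : mapB i j hcov ≫ (isoOfIsPushout i j hcov hP).hom = b :=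
  IsPushout.inr_isoIsPushout_hom _ _ (isPushout i j hcov) hP

theorem isPullback_of_isPushout : IsPullback i j a b := by
  refine (isPullback i j hcov).of_iso (Iso.refl _) (Iso.refl _) (Iso.refl _)
    (isoOfIsPushout i j hcov hP) ?_ ?_ ?_ ?_
  · simp
  · simp
  · rw [Iso.refl_hom, Category.id_comp]; exact mapA_iso i j hcov hP
  · rw [Iso.refl_hom, Category.id_comp]; exact mapB_iso i j hcov hP

theorem isClosedImmersion_of_isPushout : IsClosedImmersion b := by
  rw [← mapB_iso i j hcov hP]
  have := isClosedImmersion_mapB i j hcov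
  infer_instance

theorem isIntegralHom_of_isPushout [IsIntegralHom j] : IsIntegralHom a := by
  rw [← mapA_iso i j hcov hP]
  have := isIntegralHom_mapA i j hcov
  infer_instance

theorem isFinite_of_isPushout [IsFinite j] : IsFinite a := by
  rw [← mapA_iso i j hcov hP]
  have := isFinite_mapA i j hcov
  infer_instance

end arbitrary

end

/-- the covering hypothesis in the "pinching" setting -/
theorem hcov_of_hstd {X Y T Z : Scheme.{u}} (f : X ⟶ Y) (t : T ⟶ Y) (ξ : Z ⟶ T) (ι : Z ⟶ X)
    [IsAffineHom t] [IsClosedImmersion ι] (hsq : ι ≫ f = ξ ≫ t)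
    (hstd : ∀ y : Y, ∃ U : Y.Opens, IsAffineOpen U ∧ y ∈ U ∧ ∃ V : X.Opens, IsAffineOpen V ∧
      V ≤ f ⁻¹ᵁ U ∧ ∀ z : Z, (ξ ≫ t).base z ∈ U → ι.base z ∈ V) :
    ∀ y : T, ∃ p : AdPair ι ξ, y ∈ p.V := by
  intro y'
  obtain ⟨U, hU, hyU, V, hV, hVU, hZ⟩ := hstd (t y')
  refine ⟨⟨V, t ⁻¹ᵁ U, hV, hU.preimage t, ?_⟩, hyU⟩
  ext z
  constructor
  · intro hz
    have h1 : (ι ≫ f) z ∈ U := hVU hz
    rw [hsq] at h1
    exact h1
  · intro hz
    exact hZ z hz

end Groth.Agent.Lib.Helper9.Ferrand
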