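import Mathlib
import Groth.Agent.Lib.Helper9.RingPB3

set_option autoImplicit false
set_option linter.style.haveILetI false
set_option linter.unusedSectionVars false
universe u v w
open CategoryTheory CategoryTheory.Limits AlgebraicGeometry TopologicalSpace Opposite Topology

namespace Groth.Agent.Lib.Helper9.RingPB

section
variable {R R₁ R₂ R₀ : Type u} [CommRing R] [CommRing R₁] [CommRing R₂] [CommRing R₀]
  {π₁ : R →+* R₁} {π₂ : R →+* R₂} {q₁ : R₁ →+* R₀} {q₂ : R₂ →+* R₀}

/-- **Artin–Tate for fibre products**: over a Noetherian base, a fibre product `R₁ ×_{R₀} R₂` with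
`q₁` surjective and `q₂` integral is of finite type as soon as both `R₁` and `R₂` are. -/
theorem IsPB.finiteType_of_comp (H : IsPB π₁ π₂ q₁ q₂) (hq : Function.Surjective q₁)
    (hint : q₂.IsIntegral) {Λ : Type u} [CommRing Λ] [IsNoetherianRing Λ] (φ : Λ →+* R)
    (h1 : (π₁.comp φ).FiniteType) (h2 : (π₂.comp φ).FiniteType) : φ.FiniteType := by
  -- `π₁` is finite
  have hπ₁ : π₁.Finite :=
    (H.isIntegral_fst hq hint).to_finite (RingHom.FiniteType.of_comp_finiteType h1)
  have hπ₂ : π₂.Finite := RingHom.Finite.of_surjective _ (H.surj₂ hq)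
  letI := φ.toAlgebra
  letI : Algebra R R₁ := π₁.toAlgebra
  letI : Algebra R R₂ := π₂.toAlgebra
  letI : Algebra Λ R₁ := (π₁.comp φ).toAlgebra
  letI : Algebra Λ R₂ := (π₂.comp φ).toAlgebra
  haveI : IsScalarTower Λ R R₁ := IsScalarTower.of_algebraMap_eq (fun _ => rfl)
  haveI : IsScalarTower Λ R R₂ := IsScalarTower.of_algebraMap_eq (fun _ => rfl)
  haveI : Algebra.FiniteType Λ R₁ := h1
  haveI : Algebra.FiniteType Λ R₂ := h2
  haveI : Module.Finite R R₁ := hπ₁
  haveI : Module.Finite R R₂ := hπ₂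
  haveI : IsScalarTower Λ R (R₁ × R₂) := IsScalarTower.of_algebraMap_eq (fun _ => rfl)
  have hAC : (⊤ : Subalgebra Λ (R₁ × R₂)).FG := (inferInstance : Algebra.FiniteType Λ (R₁ × R₂)).1
  have hBC : (⊤ : Submodule R (R₁ × R₂)).FG := (inferInstance : Module.Finite R (R₁ × R₂)).1
  have hinj : Function.Injective (algebraMap R (R₁ × R₂)) := by
    intro x y hxy
    have e1 : π₁ x = π₁ y := congrArg Prod.fst hxy
    have e2 : π₂ x = π₂ y := congrArg Prod.snd hxy
    exact H.uniq e1 e2
  exact ⟨fg_of_fg_of_fg (A := Λ) (B := R) (C := R₁ × R₂) hAC hBC hinj⟩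

end

end Groth.Agent.Lib.Helper9.RingPB
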