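import Mathlib
import Groth.Agent.Lib.Helper9.Ferrand13
import Groth.Agent.Lib.Helper9.RingPB4

set_option autoImplicit false
set_option linter.style.haveILetI false
set_option linter.unusedSectionVars false
universe u v w
open CategoryTheory CategoryTheory.Limits AlgebraicGeometry TopologicalSpace Opposite Topology

namespace Groth.Agent.Lib.Helper9.Ferrand

open Groth.Agent.Lib.Helper9.PushLoc Groth.Agent.Lib.Helper9.RingPB Groth.Agent.Lib.Helper9.OILoc

/-- a source-local property holds if it holds on open immersions around every point -/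
theorem of_forall_exists_isOpenImmersion (P : MorphismProperty Scheme.{u}) [IsZariskiLocalAtSource P]
    {X Y : Scheme.{u}} (f : X ⟶ Y)
    (H : ∀ x : X, ∃ (Q : Scheme.{u}) (κ : Q ⟶ X), IsOpenImmersion κ ∧ x ∈ Set.range κ ∧ P (κ ≫ f)) :
    P f := by
  choose Q κ hκ hx hP using H
  have hU : ⨆ x : X, (κ x).opensRange = ⊤ := by
    rw [eq_top_iff]
    intro x _
    exact Opens.mem_iSup.mpr ⟨x, hx x⟩
  refine IsZariskiLocalAtSource.of_iSup_eq_top (fun x : X => (κ x).opensRange) hU fun x => ?_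
  have e : (κ x).opensRange.ι = (κ x).isoOpensRange.inv ≫ κ x := by
    rw [Iso.eq_inv_comp, Scheme.Hom.isoOpensRange_hom_ι]
  change P ((κ x).opensRange.ι ≫ f)
  rw [e, Category.assoc, P.cancel_left_of_respectsIso]
  exact hP x

noncomputable section

variable {X Y Z : Scheme.{u}} (i : Z ⟶ X) (j : Z ⟶ Y) [IsClosedImmersion i]

variable {i j} in
/-- the chart of a basic pair is the basic open of the chart -/
theorem AdPair.range_t_basic (p : AdPair i j) (r' : p.R) :
    Set.range (AdPair.t (p.basic_le r')) = (PrimeSpectrum.basicOpen r' : Set (PrimeSpectrum p.R)) := by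
  apply Set.Subset.antisymm
  · rintro _ ⟨w, rfl⟩
    rcases (p.basic r').topPushout.surj w with ⟨u, rfl⟩ | ⟨v, rfl⟩
    · rw [AdPair.t_a]
      have : (⟨u.1, (p.basic_le r').1 u.2⟩ : p.U) ∈ p.a ⁻¹ᵁ (PrimeSpectrum.basicOpen r' : p.P.Opens) := by
        rw [AdPair.a_preimage_basicOpen]
        exact u.2
      exact this
    · rw [AdPair.t_b]
      have : (⟨v.1, (p.basic_le r').2 v.2⟩ : p.V) ∈ p.b ⁻¹ᵁ (PrimeSpectrum.basicOpen r' : p.P.Opens) := by
        rw [AdPair.b_preimage_basicOpen]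
        exact v.2
      exact this
  · intro xp hxp
    rcases p.topPushout.surj xp with ⟨u, rfl⟩ | ⟨v, rfl⟩
    · have : u ∈ p.a ⁻¹ᵁ (PrimeSpectrum.basicOpen r' : p.P.Opens) := hxp
      rw [AdPair.a_preimage_basicOpen] at this
      exact ⟨(p.basic r').a ⟨u.1, this⟩, AdPair.t_a _ _⟩
    · have : v ∈ p.b ⁻¹ᵁ (PrimeSpectrum.basicOpen r' : p.P.Opens) := hxp
      rw [AdPair.b_preimage_basicOpen] at this
      exact ⟨(p.basic r').b ⟨v.1, this⟩, AdPair.t_b _ _⟩

/-- **the charts form a basis of the glued scheme** -/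
theorem exists_chart_le (x : Po i j) (W : (Po i j).Opens) (hx : x ∈ W) :
    ∃ l : AdPair i j, x ∈ Set.range (ι i j l) ∧ Set.range (ι i j l) ⊆ (W : Set (Po i j)) := by
  obtain ⟨p, xp, rfl⟩ := ι_jointly_surjective i j x
  have hxp : xp ∈ (ι i j p) ⁻¹ᵁ W := hx
  obtain ⟨_, ⟨r', rfl⟩, hxr', hr'W⟩ :=
    (Opens.isBasis_iff_nbhd.mp (PrimeSpectrum.isBasis_basic_opens (R := p.R))) hxp
  have hr := AdPair.range_t_basic p r'
  refine ⟨p.basic r', ?_, ?_⟩
  · have : xp ∈ Set.range (AdPair.t (p.basic_le r')) := by rw [hr]; exact hxr'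
    obtain ⟨w, rfl⟩ := this
    refine ⟨w, ?_⟩
    rw [← Scheme.Hom.comp_apply, t_ι]
  · rintro _ ⟨w, rfl⟩
    rw [← t_ι i j (p.basic_le r'), Scheme.Hom.comp_apply]
    have : AdPair.t (p.basic_le r') w ∈ (PrimeSpectrum.basicOpen r' : Set (PrimeSpectrum p.R)) := by
      rw [← hr]; exact ⟨w, rfl⟩
    exact hr'W this

variable (hcov : ∀ y : Y, ∃ p : AdPair i j, y ∈ p.V)

section lft
variable [IsIntegralHom j] {S : Scheme.{u}} [IsLocallyNoetherian S] (r : Po i j ⟶ S)
  [LocallyOfFiniteType (mapA i j hcov ≫ r)] [LocallyOfFiniteType (mapB i j hcov ≫ r)]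
include hcov

theorem lft_chart (l : AdPair i j) (S₀ : S.Opens) (hS₀ : IsAffineOpen S₀)
    (hl : Set.range (ι i j l ≫ r) ⊆ (S₀ : Set S)) : LocallyOfFiniteType (ι i j l ≫ r) := by
  haveI : IsNoetherianRing Γ(S, S₀) := IsLocallyNoetherian.component_noetherian ⟨S₀, hS₀⟩
  let g₀ : l.P ⟶ S₀ := IsOpenImmersion.lift S₀.ι (ι i j l ≫ r) (by rw [Scheme.Opens.range_ι]; exact hl)
  have hg₀ : g₀ ≫ S₀.ι = ι i j l ≫ r := IsOpenImmersion.lift_fac _ _ _
  let ψ : l.P ⟶ Spec Γ(S, S₀) := g₀ ≫ hS₀.isoSpec.hom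
  let φ : Γ(S, S₀) ⟶ CommRingCat.of l.R := Spec.preimage ψ
  have hφ : Spec.map φ = ψ := Spec.map_preimage ψ
  have hψ : ψ ≫ hS₀.fromSpec = ι i j l ≫ r := by
    rw [← hg₀, Category.assoc, IsAffineOpen.isoSpec_hom_fromSpec]
  have h1 : LocallyOfFiniteType (l.a ≫ ψ) := by
    have : LocallyOfFiniteType ((l.a ≫ ψ) ≫ hS₀.fromSpec) := by
      rw [Category.assoc, hψ, ← Category.assoc, ← ι_mapA i j hcov l, Category.assoc]
      infer_instance
    exact locallyOfFiniteType_of_comp _ hS₀.fromSpec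
  have h2 : LocallyOfFiniteType (l.b ≫ ψ) := by
    have : LocallyOfFiniteType ((l.b ≫ ψ) ≫ hS₀.fromSpec) := by
      rw [Category.assoc, hψ, ← Category.assoc, ← ι_mapB i j hcov l, Category.assoc]
      infer_instance
    exact locallyOfFiniteType_of_comp _ hS₀.fromSpec
  have h1' : (l.π₁.comp φ.hom).FiniteType := by
    have e : l.a ≫ ψ = l.U.toSpecΓ ≫ Spec.map (φ ≫ CommRingCat.ofHom l.π₁) := by
      rw [Spec.map_comp, hφ, AdPair.a, Category.assoc]
    rw [e, MorphismProperty.cancel_left_of_respectsIso @LocallyOfFiniteType] at h1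
    exact (HasRingHomProperty.Spec_iff (P := @LocallyOfFiniteType)).mp h1
  have h2' : (l.π₂.comp φ.hom).FiniteType := by
    have e : l.b ≫ ψ = l.V.toSpecΓ ≫ Spec.map (φ ≫ CommRingCat.ofHom l.π₂) := by
      rw [Spec.map_comp, hφ, AdPair.b, Category.assoc]
    rw [e, MorphismProperty.cancel_left_of_respectsIso @LocallyOfFiniteType] at h2
    exact (HasRingHomProperty.Spec_iff (P := @LocallyOfFiniteType)).mp h2
  have hφft : φ.hom.FiniteType :=
    l.isPB.finiteType_of_comp l.qX_surjective (appLE_isIntegral j l.hV l.h) φ.hom h1' h2'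
  have : LocallyOfFiniteType ψ := by
    rw [← hφ]
    exact (HasRingHomProperty.Spec_iff (P := @LocallyOfFiniteType)).mpr hφft
  rw [← hψ]
  infer_instance

/-- **the pushout is locally of finite type over a locally Noetherian base** -/
theorem locallyOfFiniteType_desc : LocallyOfFiniteType r := by
  apply of_forall_exists_isOpenImmersion @LocallyOfFiniteType
  intro x
  obtain ⟨S₀, hS₀, hxS₀, -⟩ := exists_isAffineOpen_mem_and_subset (x := r x) (U := ⊤) trivial
  obtain ⟨l, hxl, hlW⟩ := exists_chart_le i j x (r ⁻¹ᵁ S₀) hxS₀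
  refine ⟨l.P, ι i j l, inferInstance, hxl, lft_chart i j hcov r l S₀ hS₀ ?_⟩
  rintro _ ⟨w, rfl⟩
  rw [Scheme.Hom.comp_apply]
  exact hlW ⟨w, rfl⟩

end lft

include hcov in
theorem locallyOfFiniteType_of_isPushout [IsIntegralHom j] {S : Scheme.{u}} [IsLocallyNoetherian S]
    {P : Scheme.{u}} {a : X ⟶ P} {b : Y ⟶ P} (hP : IsPushout i j a b) (r : P ⟶ S)
    [LocallyOfFiniteType (a ≫ r)] [LocallyOfFiniteType (b ≫ r)] : LocallyOfFiniteType r := by
  let e := isoOfIsPushout i j hcov hP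
  have h1 : LocallyOfFiniteType (mapA i j hcov ≫ e.hom ≫ r) := by
    rw [← Category.assoc, mapA_iso i j hcov hP]; infer_instance
  have h2 : LocallyOfFiniteType (mapB i j hcov ≫ e.hom ≫ r) := by
    rw [← Category.assoc, mapB_iso i j hcov hP]; infer_instance
  have h3 : LocallyOfFiniteType (e.hom ≫ r) := locallyOfFiniteType_desc i j hcov (e.hom ≫ r)
  have : r = e.inv ≫ e.hom ≫ r := by rw [Iso.inv_hom_id_assoc]
  rw [this]
  infer_instance

end

end Groth.Agent.Lib.Helper9.Ferrand
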