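import Mathlib

set_option autoImplicit false
set_option linter.style.haveILetI false
set_option linter.unusedSectionVars false
universe u v w
open CategoryTheory CategoryTheory.Limits AlgebraicGeometry TopologicalSpace Opposite Topology

namespace Groth.Agent.Lib.Helper9.JointSurj

variable {X Y P : Scheme.{u}} (a : X ⟶ P) (b : Y ⟶ P)

/-- `a` and `b` are jointly surjective -/
def JS : Prop := ∀ w : P, (∃ x, a x = w) ∨ (∃ y, b y = w)

variable {a b}

/-- joint surjectivity is stable under base change -/
theorem JS.pullback (h : JS a b) {P' : Scheme.{u}} (k : P' ⟶ P) :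
    JS (pullback.snd a k) (pullback.snd b k) := by
  intro w
  rcases h (k w) with ⟨x, hx⟩ | ⟨y, hy⟩
  · obtain ⟨z, -, hz⟩ := Scheme.Pullback.exists_preimage_pullback (f := a) (g := k) x w hx
    exact Or.inl ⟨z, hz⟩
  · obtain ⟨z, -, hz⟩ := Scheme.Pullback.exists_preimage_pullback (f := b) (g := k) y w hy
    exact Or.inr ⟨z, hz⟩

theorem JS.preimage_eq (h : JS a b) {Q : Scheme.{u}} (g : P ⟶ Q) (U : Set Q) :
    g ⁻¹' U = a '' ((a ≫ g) ⁻¹' U) ∪ b '' ((b ≫ g) ⁻¹' U) := by
  ext w
  constructor
  · intro hw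
    rcases h w with ⟨x, rfl⟩ | ⟨y, rfl⟩
    · exact Or.inl ⟨x, by simpa using hw, rfl⟩
    · exact Or.inr ⟨y, by simpa using hw, rfl⟩
  · rintro (⟨x, hx, rfl⟩ | ⟨y, hy, rfl⟩)
    · simpa using hx
    · simpa using hy

theorem JS.image_eq (h : JS a b) {Q : Scheme.{u}} (g : P ⟶ Q) (C : Set P) :
    g '' C = (a ≫ g) '' (a ⁻¹' C) ∪ (b ≫ g) '' (b ⁻¹' C) := by
  ext q
  constructor
  · rintro ⟨w, hw, rfl⟩
    rcases h w with ⟨x, rfl⟩ | ⟨y, rfl⟩
    · exact Or.inl ⟨x, hw, by simp⟩
    · exact Or.inr ⟨y, hw, by simp⟩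
  · rintro (⟨x, hx, rfl⟩ | ⟨y, hy, rfl⟩)
    · exact ⟨a x, hx, by simp⟩
    · exact ⟨b y, hy, by simp⟩

/-- (L1) quasi-compactness descends along a jointly surjective pair -/
theorem JS.quasiCompact (h : JS a b) {Q : Scheme.{u}} (g : P ⟶ Q) [QuasiCompact (a ≫ g)]
    [QuasiCompact (b ≫ g)] : QuasiCompact g := by
  constructor
  intro U hU hUc
  rw [h.preimage_eq g U]
  exact ((QuasiCompact.isCompact_preimage (f := a ≫ g) U hU hUc).image a.continuous).union
    ((QuasiCompact.isCompact_preimage (f := b ≫ g) U hU hUc).image b.continuous)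

/-- (L3) universal closedness descends along a jointly surjective pair -/
theorem JS.universallyClosed (h : JS a b) {Q : Scheme.{u}} (g : P ⟶ Q) [UniversallyClosed (a ≫ g)]
    [UniversallyClosed (b ≫ g)] : UniversallyClosed g := by
  rw [universallyClosed_eq]
  intro P' Q' i₁ i₂ g' hg'
  have ha : IsClosedMap (pullback.snd a i₁ ≫ g') := by
    have hpb : IsPullback (pullback.snd a i₁ ≫ g') (pullback.fst a i₁) i₂ (a ≫ g) :=
      (IsPullback.of_hasPullback a i₁).flip.paste_horiz hg'
    exact (universallyClosed_eq ▸ (inferInstance : UniversallyClosed (a ≫ g))) _ _ _ hpb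
  have hb : IsClosedMap (pullback.snd b i₁ ≫ g') := by
    have hpb : IsPullback (pullback.snd b i₁ ≫ g') (pullback.fst b i₁) i₂ (b ≫ g) :=
      (IsPullback.of_hasPullback b i₁).flip.paste_horiz hg'
    exact (universallyClosed_eq ▸ (inferInstance : UniversallyClosed (b ≫ g))) _ _ _ hpb
  intro C hC
  rw [(h.pullback i₁).image_eq g' C]
  exact (ha _ (hC.preimage (pullback.snd a i₁).continuous)).union
    (hb _ (hC.preimage (pullback.snd b i₁).continuous))

section sep
variable {S : Scheme.{u}}

/-- the product map `a × a` on fibre products over `S` -/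
noncomputable abbrev sq (a : X ⟶ P) (r : P ⟶ S) : pullback (a ≫ r) (a ≫ r) ⟶ pullback r r :=
  pullback.map (a ≫ r) (a ≫ r) r r a a (𝟙 S) ((Category.comp_id _).trans rfl)
    ((Category.comp_id _).trans rfl)

theorem diagonal_sq (a : X ⟶ P) (r : P ⟶ S) :
    pullback.diagonal (a ≫ r) ≫ sq a r = a ≫ pullback.diagonal r := by
  apply pullback.hom_ext
  · rw [Category.assoc, pullback.lift_fst, ← Category.assoc, pullback.diagonal_fst,
      Category.id_comp, Category.assoc, pullback.diagonal_fst, Category.comp_id]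
  · rw [Category.assoc, pullback.lift_snd, ← Category.assoc, pullback.diagonal_snd,
      Category.id_comp, Category.assoc, pullback.diagonal_snd, Category.comp_id]

theorem sq_mem (Q : MorphismProperty Scheme.{u}) [Q.IsStableUnderBaseChange]
    [Q.IsStableUnderComposition] (a : X ⟶ P) (r : P ⟶ S) (ha : Q a) : Q (sq a r) :=
  MorphismProperty.pullbackMap (P := Q) ha ha rfl rfl

theorem JS.range_diagonal (h : JS a b) (r : P ⟶ S) :
    Set.range (pullback.diagonal r) =
      Set.range (a ≫ pullback.diagonal r) ∪ Set.range (b ≫ pullback.diagonal r) := by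
  ext q
  constructor
  · rintro ⟨w, rfl⟩
    rcases h w with ⟨x, rfl⟩ | ⟨y, rfl⟩
    · exact Or.inl ⟨x, Scheme.Hom.comp_apply _ _ _⟩
    · exact Or.inr ⟨y, Scheme.Hom.comp_apply _ _ _⟩
  · rintro (⟨x, rfl⟩ | ⟨y, rfl⟩)
    · exact ⟨a x, (Scheme.Hom.comp_apply _ _ _).symm⟩
    · exact ⟨b y, (Scheme.Hom.comp_apply _ _ _).symm⟩

/-- (L2) separatedness descends along a jointly surjective pair of universally closed maps -/
theorem JS.isSeparated (h : JS a b) (r : P ⟶ S) [UniversallyClosed a] [UniversallyClosed b]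
    [IsSeparated (a ≫ r)] [IsSeparated (b ≫ r)] : IsSeparated r := by
  have hsqa : UniversallyClosed (sq a r) := sq_mem @UniversallyClosed a r inferInstance
  have hsqb : UniversallyClosed (sq b r) := sq_mem @UniversallyClosed b r inferInstance
  have hra : IsClosed (Set.range (a ≫ pullback.diagonal r)) := by
    rw [← diagonal_sq]
    have : Set.range (pullback.diagonal (a ≫ r) ≫ sq a r) =
        (sq a r) '' Set.range (pullback.diagonal (a ≫ r)) := by
      rw [← Set.range_comp]; rfl
    rw [this]
    exact (sq a r).isClosedMap _ (pullback.diagonal (a ≫ r)).isClosedEmbedding.isClosed_range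
  have hrb : IsClosed (Set.range (b ≫ pullback.diagonal r)) := by
    rw [← diagonal_sq]
    have : Set.range (pullback.diagonal (b ≫ r) ≫ sq b r) =
        (sq b r) '' Set.range (pullback.diagonal (b ≫ r)) := by
      rw [← Set.range_comp]; rfl
    rw [this]
    exact (sq b r).isClosedMap _ (pullback.diagonal (b ≫ r)).isClosedEmbedding.isClosed_range
  constructor
  exact IsClosedImmersion.of_isPreimmersion _ (h.range_diagonal r ▸ hra.union hrb)

/-- (L4) quasi-separatedness descends along a jointly surjective pair of quasi-compact maps -/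
theorem JS.quasiSeparated (h : JS a b) (r : P ⟶ S) [QuasiCompact a] [QuasiCompact b]
    [QuasiSeparated (a ≫ r)] [QuasiSeparated (b ≫ r)] : QuasiSeparated r := by
  have hsqa : QuasiCompact (sq a r) := sq_mem @QuasiCompact a r inferInstance
  have hsqb : QuasiCompact (sq b r) := sq_mem @QuasiCompact b r inferInstance
  have h1 : QuasiCompact (a ≫ pullback.diagonal r) := by
    rw [← diagonal_sq]; infer_instance
  have h2 : QuasiCompact (b ≫ pullback.diagonal r) := by
    rw [← diagonal_sq]; infer_instance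
  constructor
  exact h.quasiCompact (pullback.diagonal r)

end sep

end Groth.Agent.Lib.Helper9.JointSurj
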