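import Mathlib
import Groth.Agent.Lib.Helper9.Ferrand14
import Groth.Agent.Lib.Helper9.JointSurj

set_option autoImplicit false
set_option linter.style.haveILetI false
set_option linter.unusedSectionVars false
universe u v w
open CategoryTheory CategoryTheory.Limits AlgebraicGeometry TopologicalSpace Opposite Topology

namespace Groth.Agent.Lib.Helper9.Ferrand

open Groth.Agent.Lib.Helper9.PushLoc Groth.Agent.Lib.Helper9.RingPB Groth.Agent.Lib.Helper9.OILoc
open Groth.Agent.Lib.Helper9.JointSurj

noncomputable section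

variable {X Y Z : Scheme.{u}} (i : Z ⟶ X) (j : Z ⟶ Y) [IsClosedImmersion i]
variable (hcov : ∀ y : Y, ∃ p : AdPair i j, y ∈ p.V)
include hcov

theorem js_map : JS (mapA i j hcov) (mapB i j hcov) := by
  intro x
  obtain ⟨p, xp, rfl⟩ := ι_jointly_surjective i j x
  rcases p.topPushout.surj xp with ⟨u, rfl⟩ | ⟨v, rfl⟩
  · exact Or.inl ⟨u.1, mapA_apply i j hcov p u⟩
  · exact Or.inr ⟨v.1, mapB_apply i j hcov p v⟩

section arbitrary
variable {P : Scheme.{u}} {a : X ⟶ P} {b : Y ⟶ P} (hP : IsPushout i j a b)
include hP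

theorem js_of_isPushout : JS a b := by
  intro w
  let e := isoOfIsPushout i j hcov hP
  have hw : e.hom (e.inv w) = w := by
    rw [← Scheme.Hom.comp_apply, Iso.inv_hom_id]; rfl
  rcases js_map i j hcov (e.inv w) with ⟨x, hx⟩ | ⟨y, hy⟩
  · refine Or.inl ⟨x, ?_⟩
    rw [← mapA_iso i j hcov hP, Scheme.Hom.comp_apply, hx, hw]
  · refine Or.inr ⟨y, ?_⟩
    rw [← mapB_iso i j hcov hP, Scheme.Hom.comp_apply, hy, hw]

variable {S : Scheme.{u}} (r : P ⟶ S)

theorem quasiCompact_of_isPushout [QuasiCompact (a ≫ r)] [QuasiCompact (b ≫ r)] :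
    QuasiCompact r :=
  (js_of_isPushout i j hcov hP).quasiCompact r

theorem universallyClosed_of_isPushout [UniversallyClosed (a ≫ r)] [UniversallyClosed (b ≫ r)] :
    UniversallyClosed r :=
  (js_of_isPushout i j hcov hP).universallyClosed r

theorem isSeparated_of_isPushout [IsIntegralHom j] [IsSeparated (a ≫ r)] [IsSeparated (b ≫ r)] :
    IsSeparated r := by
  have := isIntegralHom_of_isPushout i j hcov hP
  have := isClosedImmersion_of_isPushout i j hcov hP
  exact (js_of_isPushout i j hcov hP).isSeparated r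

theorem quasiSeparated_of_isPushout [IsIntegralHom j] [QuasiSeparated (a ≫ r)]
    [QuasiSeparated (b ≫ r)] : QuasiSeparated r := by
  have := isIntegralHom_of_isPushout i j hcov hP
  have := isClosedImmersion_of_isPushout i j hcov hP
  exact (js_of_isPushout i j hcov hP).quasiSeparated r

theorem isProper_of_isPushout [IsIntegralHom j] [IsLocallyNoetherian S] [IsProper (a ≫ r)]
    [IsProper (b ≫ r)] : IsProper r := by
  have h1 := isSeparated_of_isPushout i j hcov hP r
  have h2 := universallyClosed_of_isPushout i j hcov hP r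
  have h3 := locallyOfFiniteType_of_isPushout i j hcov hP r
  exact { }

end arbitrary

end

end Groth.Agent.Lib.Helper9.Ferrand
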