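import Mathlib
import Groth.Agent.Lib.Helper9.Ferrand15
import Groth.Agent.Lib.Helper13.ThickAffineC

set_option autoImplicit false
set_option linter.style.haveILetI false
set_option linter.unusedSectionVars false
universe u v w
open CategoryTheory CategoryTheory.Limits AlgebraicGeometry TopologicalSpace Opposite Topology

namespace Groth.Agent.Lib.Helper9.Ferrand

open Groth.Agent.Lib.Helper9.PushLoc Groth.Agent.Lib.Helper9.RingPB Groth.Agent.Lib.Helper9.OILoc
open Groth.Agent.Lib.Helper9.JointSurj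

theorem hcov_of_thickening {X X' Y : Scheme.{u}} (t : X ⟶ X') [IsClosedImmersion t]
    (ht : Function.Surjective t) (f : X ⟶ Y) [IsAffineHom f] :
    ∀ y : Y, ∃ p : AdPair t f, y ∈ p.V := by
  intro y
  obtain ⟨V, hV, hyV, -⟩ := exists_isAffineOpen_mem_and_subset (x := y) (U := ⊤) trivial
  let e : X ≃ₜ X' := t.isClosedEmbedding.isEmbedding.toHomeomorphOfSurjective ht
  have he : ∀ x, e x = t x := fun x => rfl
  let U : X'.Opens := ⟨t '' (f ⁻¹ᵁ V : Set X), e.isOpenMap _ (f ⁻¹ᵁ V).2⟩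
  have hU : t ⁻¹ᵁ U = f ⁻¹ᵁ V := by
    ext x
    constructor
    · rintro ⟨x', hx', hxx'⟩
      rw [← t.isClosedEmbedding.injective hxx']
      exact hx'
    · intro hx
      exact ⟨x, hx, rfl⟩
  have hZ : IsAffineOpen (t ⁻¹ᵁ U) := by rw [hU]; exact hV.preimage f
  have hsurj : Function.Surjective (t ∣_ U) := by
    rintro ⟨u, x, hx, rfl⟩
    refine ⟨⟨x, by rw [hU]; exact hx⟩, ?_⟩
    apply Subtype.ext
    exact morphismRestrict_base_coe t U _
  have hUaff : IsAffineOpen U := by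
    haveI : IsAffine ((t ⁻¹ᵁ U : X.Opens) : Scheme.{u}) := hZ
    exact Groth.Agent.Lib.Helper13.ThickAffine.isAffine_of_isAffine (t ∣_ U) hsurj
  exact ⟨⟨U, V, hUaff, hV, hU⟩, hyV⟩

/-- **pushout along a thickening of an affine morphism** -/
theorem exists_pushout_thickening {X X' Y : Scheme.{u}} (t : X ⟶ X') [IsClosedImmersion t]
    (ht : Function.Surjective t) (f : X ⟶ Y) [IsAffineHom f] :
    ∃ (Y' : Scheme.{u}) (f' : X' ⟶ Y') (b : Y ⟶ Y'), IsPushout t f f' b ∧ IsPullback t f f' b ∧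
      IsClosedImmersion b ∧ Function.Surjective b := by
  have hcov := hcov_of_thickening t ht f
  refine ⟨Po t f, mapA t f hcov, mapB t f hcov, isPushout t f hcov, isPullback t f hcov,
    isClosedImmersion_mapB t f hcov, ?_⟩
  intro w
  rcases js_map t f hcov w with ⟨x', hx'⟩ | ⟨y, hy⟩
  · obtain ⟨x, rfl⟩ := ht x'
    refine ⟨f x, ?_⟩
    rw [← hx', ← Scheme.Hom.comp_apply, ← Scheme.Hom.comp_apply, comm t f hcov]
  · exact ⟨y, hy⟩

end Groth.Agent.Lib.Helper9.Ferrand
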