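import Mathlib
import Groth.Agent.Lib.Helper9.Ferrand16
import Groth.Agent.Lib.Helper9.CosetAvoid

set_option autoImplicit false
set_option linter.style.haveILetI false
set_option linter.unusedSectionVars false
universe u v w
open CategoryTheory CategoryTheory.Limits AlgebraicGeometry TopologicalSpace Opposite Topology

namespace Groth.Agent.Lib.Helper9.FinAff

open Groth.Agent.Lib.Helper9 Groth.Agent.Lib.Helper9.Ferrand

/-- a finite set of points of an affine open, inside an open `O`, lies in a basic open inside `O` -/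
theorem exists_basicOpen_finite {Y : Scheme.{u}} {Z₁ : Y.Opens} (hZ₁ : IsAffineOpen Z₁)
    (F : Set Y) (hF : F.Finite) (O : Y.Opens) (hFZ : F ⊆ (Z₁ : Set Y)) (hFO : F ⊆ (O : Set Y)) :
    ∃ h : Γ(Y, Z₁), F ⊆ (Y.basicOpen h : Set Y) ∧ Y.basicOpen h ≤ O := by
  classical
  let J : Ideal Γ(Y, Z₁) :=
    { carrier := {s | Y.basicOpen s ≤ O}
      add_mem' := fun {a b} ha hb => (Y.basicOpen_add_le a b).trans (sup_le ha hb)
      zero_mem' := by simp
      smul_mem' := fun c a ha => by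
        change Y.basicOpen (c * a) ≤ _
        rw [Scheme.basicOpen_mul]
        exact inf_le_right.trans ha }
  let s : Finset (PrimeSpectrum Γ(Y, Z₁)) :=
    hF.toFinset.attach.image (fun z => hZ₁.primeIdealOf ⟨z.1, hFZ (hF.mem_toFinset.mp z.2)⟩)
  have hs : ∀ 𝔭 ∈ s, ¬ J ≤ 𝔭.asIdeal := by
    intro 𝔭 h𝔭 hle
    obtain ⟨z, -, rfl⟩ := Finset.mem_image.mp h𝔭
    have hzF : z.1 ∈ F := hF.mem_toFinset.mp z.2
    obtain ⟨h, hh, hzh⟩ := hZ₁.exists_basicOpen_le (V := Z₁ ⊓ O)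
      ⟨z.1, hFZ hzF, hFO hzF⟩ (hFZ hzF)
    have hhJ : h ∈ J := hh.trans inf_le_right
    exact (FibFun.mem_basicOpen_iff_primeIdealOf hZ₁ h ⟨z.1, hFZ hzF⟩).mp hzh (hle hhJ)
  obtain ⟨x, hxJ, hx⟩ := CosetAvoid.exists_add_not_mem (0 : Γ(Y, Z₁)) J s hs
  refine ⟨x, ?_, hxJ⟩
  intro z hz
  have hmem : hZ₁.primeIdealOf ⟨z, hFZ hz⟩ ∈ s :=
    Finset.mem_image.mpr ⟨⟨z, hF.mem_toFinset.mpr hz⟩, Finset.mem_attach _ _, rfl⟩
  have := hx _ hmem
  rw [zero_add] at this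
  exact (FibFun.mem_basicOpen_iff_primeIdealOf hZ₁ x ⟨z, hFZ hz⟩).mpr this

/-- lifting a section along a closed immersion while avoiding finitely many points off it -/
theorem exists_lift_avoiding {X Y : Scheme.{u}} (i : Y ⟶ X) [IsClosedImmersion i] {U : X.Opens}
    (hU : IsAffineOpen U) (a : Γ(X, U)) (F : Set X) (hF : F.Finite) (hFU : F ⊆ (U : Set X))
    (hFi : ∀ x ∈ F, x ∉ Set.range i) :
    ∃ f : Γ(X, U), i.app U f = i.app U a ∧ F ⊆ (X.basicOpen f : Set X) := by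
  classical
  let p : AdPair i i := ⟨U, U, hU, hU, rfl⟩
  let I : Ideal Γ(X, U) := RingHom.ker p.qX
  let s : Finset (PrimeSpectrum Γ(X, U)) :=
    hF.toFinset.attach.image (fun z => hU.primeIdealOf ⟨z.1, hFU (hF.mem_toFinset.mp z.2)⟩)
  have hs : ∀ 𝔭 ∈ s, ¬ I ≤ 𝔭.asIdeal := by
    intro 𝔭 h𝔭 hle
    obtain ⟨z, -, rfl⟩ := Finset.mem_image.mp h𝔭
    have hzF : z.1 ∈ F := hF.mem_toFinset.mp z.2
    obtain ⟨y, -, hy⟩ := p.exists_of_ker_le _ hle
    apply hFi z.1 hzF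
    refine ⟨y, ?_⟩
    rw [hy]
    exact hU.fromSpec_primeIdealOf ⟨z.1, hFU hzF⟩
  obtain ⟨x, hxI, hx⟩ := CosetAvoid.exists_add_not_mem a I s hs
  refine ⟨a + x, ?_, ?_⟩
  · have : p.qX x = 0 := RingHom.mem_ker.mp hxI
    change p.qX (a + x) = p.qX a
    rw [map_add, this, add_zero]
  · intro z hz
    have hmem : hU.primeIdealOf ⟨z, hFU hz⟩ ∈ s :=
      Finset.mem_image.mpr ⟨⟨z, hF.mem_toFinset.mpr hz⟩, Finset.mem_attach _ _, rfl⟩
    exact (FibFun.mem_basicOpen_iff_primeIdealOf hU (a + x) ⟨z, hFU hz⟩).mpr (hx _ hmem)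

end Groth.Agent.Lib.Helper9.FinAff
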