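import Mathlib
import Groth.Agent.Lib.Helper9.FinAff

set_option autoImplicit false
set_option linter.style.haveILetI false
set_option linter.unusedSectionVars false
universe u v w
open CategoryTheory CategoryTheory.Limits AlgebraicGeometry TopologicalSpace Opposite Topology

namespace Groth.Agent.Lib.Helper9.Ferrand

open Groth.Agent.Lib.Helper9.PushLoc Groth.Agent.Lib.Helper9.RingPB Groth.Agent.Lib.Helper9.OILoc
open Groth.Agent.Lib.Helper9.JointSurj Groth.Agent.Lib.Helper9.FinAff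

/-- a basic open of `Z₂` contained in a basic open `D(h₁)` of `Z₁` is a basic open of `Z₁` -/
theorem exists_basicOpen_eq {Z : Scheme.{u}} {Z₁ Z₂ : Z.Opens} (hZ₁ : IsAffineOpen Z₁)
    (h₁ : Γ(Z, Z₁)) (hD : Z.basicOpen h₁ ≤ Z₂) (h₂ : Γ(Z, Z₂))
    (hle : Z.basicOpen h₂ ≤ Z.basicOpen h₁) :
    ∃ h₁' : Γ(Z, Z₁), Z.basicOpen h₁' = Z.basicOpen h₂ := by
  have hDZ₁ : Z.basicOpen h₁ ≤ Z₁ := Z.basicOpen_le h₁
  have hloc := isAwayLoc_res hZ₁ h₁ hDZ₁ rfl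
  obtain ⟨n, g, hg⟩ := hloc.surj ((Z.presheaf.map (homOfLE hD).op).hom h₂)
  refine ⟨g * h₁, ?_⟩
  have e1 : Z.basicOpen ((Z.presheaf.map (homOfLE hDZ₁).op).hom g) =
      Z.basicOpen h₁ ⊓ Z.basicOpen g := Scheme.basicOpen_res Z g (homOfLE hDZ₁).op
  have e2 : Z.basicOpen ((Z.presheaf.map (homOfLE hD).op).hom h₂) =
      Z.basicOpen h₁ ⊓ Z.basicOpen h₂ := Scheme.basicOpen_res Z h₂ (homOfLE hD).op
  have e3 : Z.basicOpen (((Z.presheaf.map (homOfLE hDZ₁).op).hom h₁) ^ n) = Z.basicOpen h₁ :=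
    Scheme.basicOpen_of_isUnit Z (hloc.unit.pow n)
  rw [Scheme.basicOpen_mul, inf_comm, ← e1, ← hg, Scheme.basicOpen_mul, e2, e3]
  rw [inf_comm, ← inf_assoc, inf_idem]
  exact inf_eq_right.mpr hle

noncomputable section

variable {X Y Z : Scheme.{u}} (i : Z ⟶ X) (j : Z ⟶ Y) [IsClosedImmersion i] [IsClosedImmersion j]

/-- **an adapted affine pair containing given finite sets** -/
theorem exists_adPair_finite (F₁ : Set X) (F₂ : Set Y) (hF₁ : F₁.Finite) (hF₂ : F₂.Finite)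
    (hF : i ⁻¹' F₁ = j ⁻¹' F₂) {U₁ : X.Opens} (hU₁ : IsAffineOpen U₁) (h₁ : F₁ ⊆ (U₁ : Set X))
    {U₂ : Y.Opens} (hU₂ : IsAffineOpen U₂) (h₂ : F₂ ⊆ (U₂ : Set Y)) :
    ∃ l : AdPair i j, F₁ ⊆ (l.U : Set X) ∧ F₂ ⊆ (l.V : Set Y) := by
  have hZ₁ : IsAffineOpen (i ⁻¹ᵁ U₁) := hU₁.preimage i
  have hZ₂ : IsAffineOpen (j ⁻¹ᵁ U₂) := hU₂.preimage j
  let F₀ : Set Z := i ⁻¹' F₁
  have hF₀ : F₀.Finite := hF₁.preimage (i.isClosedEmbedding.injective.injOn)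
  have hF₀Z₁ : F₀ ⊆ ((i ⁻¹ᵁ U₁ : Z.Opens) : Set Z) := fun z hz => h₁ hz
  have hF₀Z₂ : F₀ ⊆ ((j ⁻¹ᵁ U₂ : Z.Opens) : Set Z) := fun z hz => h₂ (by
    have : z ∈ j ⁻¹' F₂ := hF ▸ hz
    exact this)
  -- step 1
  obtain ⟨k₁, hk₁F, hk₁⟩ := exists_basicOpen_finite hZ₁ F₀ hF₀ (j ⁻¹ᵁ U₂) hF₀Z₁ hF₀Z₂
  obtain ⟨k₂, hk₂F, hk₂⟩ := exists_basicOpen_finite hZ₂ F₀ hF₀ (Z.basicOpen k₁) hF₀Z₂ hk₁F
  obtain ⟨k₁', hk₁'⟩ := exists_basicOpen_eq hZ₁ k₁ hk₁ k₂ hk₂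
  -- step 2
  obtain ⟨a₁, ha₁⟩ := i.app_surjective U₁ hU₁ k₁'
  obtain ⟨a₂, ha₂⟩ := j.app_surjective U₂ hU₂ k₂
  obtain ⟨f₁, hf₁, hf₁F⟩ := exists_lift_avoiding i hU₁ a₁ (F₁ \ Set.range i)
    (hF₁.subset Set.sdiff_subset) (fun x hx => h₁ hx.1) (fun x hx => hx.2)
  obtain ⟨f₂, hf₂, hf₂F⟩ := exists_lift_avoiding j hU₂ a₂ (F₂ \ Set.range j)
    (hF₂.subset Set.sdiff_subset) (fun x hx => h₂ hx.1) (fun x hx => hx.2)
  have e₁ : i ⁻¹ᵁ X.basicOpen f₁ = Z.basicOpen k₂ := by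
    rw [Scheme.preimage_basicOpen, hf₁, ha₁, hk₁']
  have e₂ : j ⁻¹ᵁ Y.basicOpen f₂ = Z.basicOpen k₂ := by
    rw [Scheme.preimage_basicOpen, hf₂, ha₂]
  refine ⟨⟨X.basicOpen f₁, Y.basicOpen f₂, hU₁.basicOpen f₁, hU₂.basicOpen f₂, e₁.trans e₂.symm⟩,
    ?_, ?_⟩
  · intro x hx
    by_cases hxi : x ∈ Set.range i
    · obtain ⟨z, rfl⟩ := hxi
      have hz : z ∈ Z.basicOpen k₂ := hk₂F hx
      rw [← e₁] at hz
      exact hz
    · exact hf₁F ⟨hx, hxi⟩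
  · intro y hy
    by_cases hyj : y ∈ Set.range j
    · obtain ⟨z, rfl⟩ := hyj
      have hz0 : z ∈ F₀ := by
        change z ∈ i ⁻¹' F₁
        rw [hF]; exact hy
      have hz : z ∈ Z.basicOpen k₂ := hk₂F hz0
      rw [← e₂] at hz
      exact hz
    · exact hf₂F ⟨hy, hyj⟩

/-- **finite sets in pushouts of closed immersions lie in affine opens** -/
theorem exists_affine_of_finite {P : Scheme.{u}} {a : X ⟶ P} {b : Y ⟶ P} (hP : IsPushout i j a b)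
    (E : Set P) (hE : E.Finite)
    (h₁ : ∃ U₁ : X.Opens, IsAffineOpen U₁ ∧ a ⁻¹' E ⊆ (U₁ : Set X))
    (h₂ : ∃ U₂ : Y.Opens, IsAffineOpen U₂ ∧ b ⁻¹' E ⊆ (U₂ : Set Y)) :
    ∃ U : P.Opens, IsAffineOpen U ∧ E ⊆ (U : Set P) := by
  have hcov := hcov_of_haff i j (haff_of_isClosedImmersion i j)
  obtain ⟨U₁, hU₁, hEU₁⟩ := h₁
  obtain ⟨U₂, hU₂, hEU₂⟩ := h₂
  let e := isoOfIsPushout i j hcov hP
  have ha : a = mapA i j hcov ≫ e.hom := (mapA_iso i j hcov hP).symm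
  have hb : b = mapB i j hcov ≫ e.hom := (mapB_iso i j hcov hP).symm
  have hacl : IsClosedImmersion a := by
    rw [ha]
    have := isClosedImmersion_mapA i j hcov
    infer_instance
  have hbcl : IsClosedImmersion b := isClosedImmersion_of_isPushout i j hcov hP
  have hF₁ : (a ⁻¹' E).Finite := hE.preimage (a.isClosedEmbedding.injective.injOn)
  have hF₂ : (b ⁻¹' E).Finite := hE.preimage (b.isClosedEmbedding.injective.injOn)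
  have hF : i ⁻¹' (a ⁻¹' E) = j ⁻¹' (b ⁻¹' E) := by
    ext z
    simp only [Set.mem_preimage]
    rw [← Scheme.Hom.comp_apply, ← Scheme.Hom.comp_apply, hP.w]
  obtain ⟨l, hl₁, hl₂⟩ := exists_adPair_finite i j _ _ hF₁ hF₂ hF hU₁ hEU₁ hU₂ hEU₂
  refine ⟨(ι i j l ≫ e.hom).opensRange, isAffineOpen_opensRange _, ?_⟩
  intro w hw
  rcases js_of_isPushout i j hcov hP w with ⟨x, rfl⟩ | ⟨y, rfl⟩
  · have hx : x ∈ l.U := hl₁ hw
    refine ⟨l.a ⟨x, hx⟩, ?_⟩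
    rw [Scheme.Hom.comp_apply, ← mapA_apply i j hcov l ⟨x, hx⟩, ha, Scheme.Hom.comp_apply]
  · have hy : y ∈ l.V := hl₂ hw
    refine ⟨l.b ⟨y, hy⟩, ?_⟩
    rw [Scheme.Hom.comp_apply, ← mapB_apply i j hcov l ⟨y, hy⟩, hb, Scheme.Hom.comp_apply]

end

end Groth.Agent.Lib.Helper9.Ferrand
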