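import Mathlib
import Groth.Agent.Lib.Helper9.Ferrand17

set_option autoImplicit false
set_option linter.style.haveILetI false
set_option linter.unusedSectionVars false
universe u v w
open CategoryTheory CategoryTheory.Limits AlgebraicGeometry TopologicalSpace Opposite Topology

namespace Groth.Agent.Lib.Helper9.Ferrand

open Groth.Agent.Lib.Helper9.PushLoc Groth.Agent.Lib.Helper9.RingPB Groth.Agent.Lib.Helper9.OILoc
open Groth.Agent.Lib.Helper9.JointSurj

noncomputable section

variable {X Y Z F : Scheme.{u}} (i : Z ⟶ X) (j : Z ⟶ Y) (a : X ⟶ F) (b : Y ⟶ F)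
  [IsClosedImmersion i] [IsAffineHom a] [IsAffineHom b] (w : i ≫ a = j ≫ b)

/-- the adapted pair cut out by an affine open of the target -/
@[reducible] def pairOf (W : F.Opens) (hW : IsAffineOpen W) : AdPair i j where
  U := a ⁻¹ᵁ W
  V := b ⁻¹ᵁ W
  hU := hW.preimage a
  hV := hW.preimage b
  h := by rw [← Scheme.Hom.comp_preimage, ← Scheme.Hom.comp_preimage, w]

include w in
theorem hcov_of_affine : ∀ y : Y, ∃ p : AdPair i j, y ∈ p.V := fun y => by
  obtain ⟨W, hW, hyW, -⟩ := exists_isAffineOpen_mem_and_subset (x := b y) (U := ⊤) trivial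
  exact ⟨pairOf i j a b w W hW, hyW⟩

/-- the comparison map from the glued scheme -/
def cmp : Po i j ⟶ F := desc i j a b w

theorem mapA_cmp : mapA i j (hcov_of_affine i j a b w) ≫ cmp i j a b w = a :=
  mapA_desc i j _ a b w

theorem mapB_cmp : mapB i j (hcov_of_affine i j a b w) ≫ cmp i j a b w = b :=
  mapB_desc i j _ a b w

section chart
variable (W : F.Opens) (hW : IsAffineOpen W)

theorem cmp_preimage :
    cmp i j a b w ⁻¹ᵁ W = (ι i j (pairOf i j a b w W hW)).opensRange := by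
  have hcov := hcov_of_affine i j a b w
  ext x
  rcases js_map i j hcov x with ⟨x', rfl⟩ | ⟨y', rfl⟩
  · have h1 : mapA i j hcov x' ∈ cmp i j a b w ⁻¹ᵁ W ↔ x' ∈ a ⁻¹ᵁ W := by
      change cmp i j a b w (mapA i j hcov x') ∈ W ↔ a x' ∈ W
      rw [← Scheme.Hom.comp_apply, mapA_cmp]
    have h2 : mapA i j hcov x' ∈ (ι i j (pairOf i j a b w W hW)).opensRange ↔
        x' ∈ (pairOf i j a b w W hW).U := by
      rw [← mapA_preimage i j hcov (pairOf i j a b w W hW)]; rfl
    exact h1.trans h2.symm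
  · have h1 : mapB i j hcov y' ∈ cmp i j a b w ⁻¹ᵁ W ↔ y' ∈ b ⁻¹ᵁ W := by
      change cmp i j a b w (mapB i j hcov y') ∈ W ↔ b y' ∈ W
      rw [← Scheme.Hom.comp_apply, mapB_cmp]
    have h2 : mapB i j hcov y' ∈ (ι i j (pairOf i j a b w W hW)).opensRange ↔
        y' ∈ (pairOf i j a b w W hW).V := by
      rw [← mapB_preimage i j hcov (pairOf i j a b w W hW)]; rfl
    exact h1.trans h2.symm

/-- the chart of `W` mapped to `F` -/
def chartMap : (pairOf i j a b w W hW).P ⟶ F := ι i j (pairOf i j a b w W hW) ≫ cmp i j a b w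

theorem a_chartMap : (pairOf i j a b w W hW).a ≫ chartMap i j a b w W hW = (a ⁻¹ᵁ W).ι ≫ a := by
  rw [chartMap, ← Category.assoc, ← ι_mapA i j (hcov_of_affine i j a b w), Category.assoc,
    mapA_cmp]

theorem b_chartMap : (pairOf i j a b w W hW).b ≫ chartMap i j a b w W hW = (b ⁻¹ᵁ W).ι ≫ b := by
  rw [chartMap, ← Category.assoc, ← ι_mapB i j (hcov_of_affine i j a b w), Category.assoc,
    mapB_cmp]

theorem range_chartMap : Set.range (chartMap i j a b w W hW) ⊆ (W : Set F) := by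
  rintro _ ⟨x, rfl⟩
  have : ι i j (pairOf i j a b w W hW) x ∈ cmp i j a b w ⁻¹ᵁ W := by
    rw [cmp_preimage i j a b w W hW]; exact ⟨x, rfl⟩
  rw [chartMap, Scheme.Hom.comp_apply]
  exact this

/-- the chart of `W` mapped to `W` -/
def chartToW : (pairOf i j a b w W hW).P ⟶ W :=
  IsOpenImmersion.lift W.ι (chartMap i j a b w W hW)
    (by rw [Scheme.Opens.range_ι]; exact range_chartMap i j a b w W hW)

theorem chartToW_ι : chartToW i j a b w W hW ≫ W.ι = chartMap i j a b w W hW :=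
  IsOpenImmersion.lift_fac _ _ _

theorem a_chartToW : (pairOf i j a b w W hW).a ≫ chartToW i j a b w W hW = a ∣_ W := by
  rw [← cancel_mono W.ι, Category.assoc, chartToW_ι, a_chartMap]
  exact (morphismRestrict_ι a W).symm

theorem b_chartToW : (pairOf i j a b w W hW).b ≫ chartToW i j a b w W hW = b ∣_ W := by
  rw [← cancel_mono W.ι, Category.assoc, chartToW_ι, b_chartMap]
  exact (morphismRestrict_ι b W).symm

/-- the canonical map from sections over `W` to the chart ring -/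
def secToR : Γ(F, W) →+* (pairOf i j a b w W hW).R :=
  (RingHom.prod (a.app W).hom (b.app W).hom).codRestrict (pairOf i j a b w W hW).R (fun s => by
    change (i.app (a ⁻¹ᵁ W)).hom ((a.app W).hom s) =
      (j.appLE (b ⁻¹ᵁ W) (i ⁻¹ᵁ (a ⁻¹ᵁ W)) _).hom ((b.app W).hom s)
    have e1 : a.app W ≫ i.app (a ⁻¹ᵁ W) = (i ≫ a).appLE W (i ⁻¹ᵁ (a ⁻¹ᵁ W)) le_rfl := by
      rw [Scheme.Hom.app_eq_appLE, Scheme.Hom.app_eq_appLE, Scheme.Hom.appLE_comp_appLE]
    have e2 : b.app W ≫ j.appLE (b ⁻¹ᵁ W) (i ⁻¹ᵁ (a ⁻¹ᵁ W)) (preimage_le w W) =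
        (j ≫ b).appLE W (i ⁻¹ᵁ (a ⁻¹ᵁ W)) (by
          rw [Scheme.Hom.comp_preimage]; exact preimage_le w W) := by
      rw [Scheme.Hom.app_eq_appLE, Scheme.Hom.appLE_comp_appLE]
    have e3 := appLE_congr_hom w W (i ⁻¹ᵁ (a ⁻¹ᵁ W)) le_rfl (by
          rw [Scheme.Hom.comp_preimage]; exact preimage_le w W)
    have := congrArg (fun φ => φ.hom s) (e1.trans (e3.trans e2.symm))
    exact this)

theorem π₁_secToR (s : Γ(F, W)) :
    (pairOf i j a b w W hW).π₁ (secToR i j a b w W hW s) = (a.app W).hom s := rfl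

theorem π₂_secToR (s : Γ(F, W)) :
    (pairOf i j a b w W hW).π₂ (secToR i j a b w W hW s) = (b.app W).hom s := rfl


theorem chartToW_toSpecΓ : chartToW i j a b w W hW ≫ W.toSpecΓ =
    Spec.map (CommRingCat.ofHom (secToR i j a b w W hW)) := by
  apply (pairOf i j a b w W hW).isPushout.hom_ext
  · rw [← Category.assoc, a_chartToW, ← Scheme.Opens.toSpecΓ_naturality, AdPair.a,
      Category.assoc, ← Spec.map_comp]
    rfl
  · rw [← Category.assoc, b_chartToW, ← Scheme.Opens.toSpecΓ_naturality, AdPair.b,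
      Category.assoc, ← Spec.map_comp]
    rfl

theorem isIso_chartToW_iff : IsIso (chartToW i j a b w W hW) ↔
    Function.Bijective (secToR i j a b w W hW) := by
  have h1 : IsIso (chartToW i j a b w W hW) ↔
      IsIso (Spec.map (CommRingCat.ofHom (secToR i j a b w W hW))) := by
    rw [← chartToW_toSpecΓ]
    have : IsIso W.toSpecΓ := by rw [← hW.isoSpec_hom]; infer_instance
    exact (isIso_comp_right_iff _ _).symm
  rw [h1, isIso_SpecMap_iff]
  rfl


theorem bijective_secToR_iff : Function.Bijective (secToR i j a b w W hW) ↔ SheafPB w W := by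
  constructor
  · rintro ⟨hinj, hsurj⟩
    refine ⟨fun s h1 h2 => ?_, fun s₁ s₂ h => ?_⟩
    · apply hinj
      rw [map_zero]
      exact Subtype.ext (Prod.ext h1 h2)
    · obtain ⟨s, hs⟩ := hsurj ⟨(s₁, s₂), h⟩
      exact ⟨s, congrArg (fun x => x.1.1) hs, congrArg (fun x => x.1.2) hs⟩
  · intro H
    refine ⟨?_, fun x => ?_⟩
    · rw [injective_iff_map_eq_zero]
      intro s hs
      exact H.inj s (congrArg (fun x => x.1.1) hs) (congrArg (fun x => x.1.2) hs)
    · obtain ⟨s, h1, h2⟩ := H.ex x.1.1 x.1.2 x.2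
      exact ⟨s, Subtype.ext (Prod.ext h1 h2)⟩

theorem chartToW_eq : chartToW i j a b w W hW =
    (ι i j (pairOf i j a b w W hW)).isoOpensRange.hom ≫
      (Scheme.isoOfEq _ (cmp_preimage i j a b w W hW).symm).hom ≫ (cmp i j a b w ∣_ W) := by
  rw [← cancel_mono W.ι, chartToW_ι, Category.assoc, Category.assoc, morphismRestrict_ι,
    Scheme.isoOfEq_hom_ι_assoc, Scheme.Hom.isoOpensRange_hom_ι_assoc, chartMap]

theorem isIso_restrict_iff : IsIso (cmp i j a b w ∣_ W) ↔ IsIso (chartToW i j a b w W hW) := by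
  rw [chartToW_eq]
  constructor
  · intro h; infer_instance
  · intro h
    have h2 := (isIso_comp_left_iff _ _).mp h
    exact (isIso_comp_left_iff _ _).mp h2

include hW in
theorem isIso_restrict_iff_sheafPB : IsIso (cmp i j a b w ∣_ W) ↔ SheafPB w W := by
  rw [isIso_restrict_iff i j a b w W hW, isIso_chartToW_iff, bijective_secToR_iff]

end chart

/-- **Local criterion**: with `a`, `b` affine, the square is a pushout as soon as it is a
pullback square of sections over a covering family of affine opens of the target. -/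
theorem isIso_cmp_of_cover (𝓦 : Set F.Opens) (h𝓦 : ∀ W ∈ 𝓦, IsAffineOpen W)
    (hcov𝓦 : ∀ x : F, ∃ W ∈ 𝓦, x ∈ W) (H : ∀ W ∈ 𝓦, SheafPB w W) :
    IsIso (cmp i j a b w) := by
  have hsup : (⨆ W : 𝓦, (W : F.Opens)) = ⊤ := by
    rw [eq_top_iff]
    intro x _
    obtain ⟨W, hW, hx⟩ := hcov𝓦 x
    exact Opens.mem_iSup.mpr ⟨⟨W, hW⟩, hx⟩
  change MorphismProperty.isomorphisms Scheme (cmp i j a b w)
  refine IsZariskiLocalAtTarget.of_iSup_eq_top (P := MorphismProperty.isomorphisms Scheme)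
    (fun W : 𝓦 => (W : F.Opens)) hsup (fun W => ?_)
  exact (isIso_restrict_iff_sheafPB i j a b w W.1 (h𝓦 W.1 W.2)).mpr (H W.1 W.2)

theorem isPushout_of_cover (𝓦 : Set F.Opens) (h𝓦 : ∀ W ∈ 𝓦, IsAffineOpen W)
    (hcov𝓦 : ∀ x : F, ∃ W ∈ 𝓦, x ∈ W) (H : ∀ W ∈ 𝓦, SheafPB w W) :
    IsPushout i j a b := by
  have := isIso_cmp_of_cover i j a b w 𝓦 h𝓦 hcov𝓦 H
  have hcov := hcov_of_affine i j a b w
  refine IsPushout.of_iso (isPushout i j hcov) (Iso.refl _) (Iso.refl _) (Iso.refl _)
    (asIso (cmp i j a b w)) ?_ ?_ ?_ ?_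
  · simp
  · simp
  · simpa using mapA_cmp i j a b w
  · simpa using mapB_cmp i j a b w

theorem isIso_cmp_of_isPushout (hP : IsPushout i j a b) : IsIso (cmp i j a b w) := by
  have hcov := hcov_of_affine i j a b w
  have h1 : cmp i j a b w = (isoOfIsPushout i j hcov hP).hom := by
    apply (isPushout i j hcov).hom_ext
    · rw [mapA_cmp, mapA_iso]
    · rw [mapB_cmp, mapB_iso]
  rw [h1]; infer_instance

theorem sheafPB_of_isPushout (hP : IsPushout i j a b) (W : F.Opens) (hW : IsAffineOpen W) :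
    SheafPB w W := by
  have := isIso_cmp_of_isPushout i j a b w hP
  rw [← isIso_restrict_iff_sheafPB i j a b w W hW]
  infer_instance

end

end Groth.Agent.Lib.Helper9.Ferrand
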