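import Mathlib
import Groth.Agent.Lib.Helper9.RingPB3

set_option autoImplicit false
set_option linter.style.haveILetI false
set_option linter.unusedSectionVars false
universe u v w
open CategoryTheory CategoryTheory.Limits TensorProduct

namespace Groth.Agent.Lib.Helper9.RingPB

section Core

variable {R : Type*} [CommRing R] (S : Type*) [CommRing S] [Algebra R S]
variable {M₁ M₂ M₃ N₁ N₂ N₃ : Type*} [AddCommGroup M₁] [AddCommGroup M₂] [AddCommGroup M₃]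
  [AddCommGroup N₁] [AddCommGroup N₂] [AddCommGroup N₃] [Module R M₁] [Module R M₂] [Module R M₃]
  [Module R N₁] [Module R N₂] [Module R N₃] [Module S N₁] [Module S N₂] [Module S N₃]
  [IsScalarTower R S N₁] [IsScalarTower R S N₂] [IsScalarTower R S N₃]
  {h₁ : M₁ →ₗ[R] N₁} {h₂ : M₂ →ₗ[R] N₂} {h₃ : M₃ →ₗ[R] N₃}
  {f : M₁ →ₗ[R] M₂} {g : M₂ →ₗ[R] M₃} {f' : N₁ →ₗ[S] N₂} {g' : N₂ →ₗ[S] N₃}

/-- transport of (left) exactness of the tensored sequence to any base change -/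
theorem exact_of_isBaseChange (comm₁ : ∀ x, h₂ (f x) = f' (h₁ x))
    (comm₂ : ∀ x, h₃ (g x) = g' (h₂ x))
    (isb₁ : IsBaseChange S h₁) (isb₂ : IsBaseChange S h₂) (isb₃ : IsBaseChange S h₃)
    (hinj : Function.Injective (f.lTensor S))
    (hex : Function.Exact (f.lTensor S) (g.lTensor S)) :
    Function.Injective f' ∧ Function.Exact f' g' := by
  have e₁ : f' ∘ₗ isb₁.equiv.toLinearMap = isb₂.equiv.toLinearMap ∘ₗ f.baseChange S := by
    apply TensorProduct.AlgebraTensorModule.ext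
    intro s m
    simp [IsBaseChange.equiv_tmul, comm₁]
  have e₂ : g' ∘ₗ isb₂.equiv.toLinearMap = isb₃.equiv.toLinearMap ∘ₗ g.baseChange S := by
    apply TensorProduct.AlgebraTensorModule.ext
    intro s m
    simp [IsBaseChange.equiv_tmul, comm₂]
  have hinj' : Function.Injective (f.baseChange S) := hinj
  have hex' : Function.Exact (f.baseChange S) (g.baseChange S) := hex
  refine ⟨?_, Function.Exact.of_ladder_linearEquiv_of_exact e₁ e₂ hex'⟩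
  have : f' = (isb₂.equiv.toLinearMap ∘ₗ f.baseChange S) ∘ₗ isb₁.equiv.symm.toLinearMap := by
    rw [← e₁]; ext x; simp
  rw [this]
  exact (isb₂.equiv.injective.comp hinj').comp isb₁.equiv.symm.injective

end Core


section Alg

variable {Λ Λ' R A B C R' A' B' C' : Type*} [CommRing Λ] [CommRing Λ'] [CommRing R] [CommRing A]
  [CommRing B] [CommRing C] [CommRing R'] [CommRing A'] [CommRing B'] [CommRing C']
  [Algebra Λ Λ'] [Algebra Λ R] [Algebra Λ A] [Algebra Λ B] [Algebra Λ C]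
  [Algebra Λ R'] [Algebra Λ A'] [Algebra Λ B'] [Algebra Λ C']
  [Algebra Λ' R'] [Algebra Λ' A'] [Algebra Λ' B'] [Algebra Λ' C']
  [IsScalarTower Λ Λ' R'] [IsScalarTower Λ Λ' A'] [IsScalarTower Λ Λ' B'] [IsScalarTower Λ Λ' C']
  (π₁ : R →ₐ[Λ] A) (π₂ : R →ₐ[Λ] B) (q₁ : A →ₐ[Λ] C) (q₂ : B →ₐ[Λ] C)
  (π₁' : R' →ₐ[Λ'] A') (π₂' : R' →ₐ[Λ'] B') (q₁' : A' →ₐ[Λ'] C') (q₂' : B' →ₐ[Λ'] C')
  (ρ : R →ₐ[Λ] R') (α : A →ₐ[Λ] A') (β : B →ₐ[Λ] B') (γ : C →ₐ[Λ] C')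

/-- the map `R → A × B` -/
def pbF : R →ₗ[Λ] A × B := π₁.toLinearMap.prod π₂.toLinearMap

/-- the map `A × B → C`, `(a, b) ↦ q₁ a - q₂ b` -/
def pbG : A × B →ₗ[Λ] C := q₁.toLinearMap.coprod (-q₂.toLinearMap)

theorem pbF_apply (x : R) : pbF π₁ π₂ x = (π₁ x, π₂ x) := rfl

theorem pbG_apply (y : A × B) : pbG q₁ q₂ y = q₁ y.1 - q₂ y.2 := by
  simp [pbG, sub_eq_add_neg]

theorem IsPB.injective_pbF (H : IsPB π₁.toRingHom π₂.toRingHom q₁.toRingHom q₂.toRingHom) :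
    Function.Injective (pbF π₁ π₂) := by
  rw [injective_iff_map_eq_zero]
  intro x hx
  exact H.inj x (congrArg Prod.fst hx) (congrArg Prod.snd hx)

theorem IsPB.exact_pbF_pbG (H : IsPB π₁.toRingHom π₂.toRingHom q₁.toRingHom q₂.toRingHom) :
    Function.Exact (pbF π₁ π₂) (pbG q₁ q₂) := by
  intro y
  rw [pbG_apply, sub_eq_zero]
  constructor
  · intro h
    obtain ⟨x, h1, h2⟩ := H.ex y.1 y.2 h
    exact ⟨x, Prod.ext h1 h2⟩
  · rintro ⟨x, rfl⟩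
    exact H.comm x

theorem IsPB.of_injective_of_exact
    (hinj : Function.Injective (pbF π₁ π₂)) (hex : Function.Exact (pbF π₁ π₂) (pbG q₁ q₂)) :
    IsPB π₁.toRingHom π₂.toRingHom q₁.toRingHom q₂.toRingHom := by
  refine ⟨fun x => ?_, fun x h1 h2 => ?_, fun x₁ x₂ h => ?_⟩
  · have := (hex (pbF π₁ π₂ x)).mpr ⟨x, rfl⟩
    rw [pbG_apply, sub_eq_zero] at this
    exact this
  · apply hinj
    rw [map_zero]
    exact Prod.ext h1 h2
  · have : pbG q₁ q₂ (x₁, x₂) = 0 := by rw [pbG_apply, sub_eq_zero]; exact h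
    obtain ⟨x, hx⟩ := (hex (x₁, x₂)).mp this
    exact ⟨x, congrArg Prod.fst hx, congrArg Prod.snd hx⟩

/-- **Base change of a pullback square of rings**, provided the tensored sequence
`0 → Λ' ⊗ R → Λ' ⊗ (A × B) → Λ' ⊗ C` is exact. -/
theorem IsPB.baseChange_of_tensor
    (hρ : IsBaseChange Λ' ρ.toLinearMap) (hα : IsBaseChange Λ' α.toLinearMap)
    (hβ : IsBaseChange Λ' β.toLinearMap) (hγ : IsBaseChange Λ' γ.toLinearMap)
    (c₁ : ∀ x, π₁' (ρ x) = α (π₁ x)) (c₂ : ∀ x, π₂' (ρ x) = β (π₂ x))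
    (c₃ : ∀ x, q₁' (α x) = γ (q₁ x)) (c₄ : ∀ x, q₂' (β x) = γ (q₂ x))
    (hinj : Function.Injective ((pbF π₁ π₂).lTensor Λ'))
    (hex : Function.Exact ((pbF π₁ π₂).lTensor Λ') ((pbG q₁ q₂).lTensor Λ')) :
    IsPB π₁'.toRingHom π₂'.toRingHom q₁'.toRingHom q₂'.toRingHom := by
  have := exact_of_isBaseChange (S := Λ') (h₁ := ρ.toLinearMap)
    (h₂ := α.toLinearMap.prodMap β.toLinearMap) (h₃ := γ.toLinearMap)
    (f := pbF π₁ π₂) (g := pbG q₁ q₂) (f' := pbF π₁' π₂') (g' := pbG q₁' q₂')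
    (fun x => by
      simp only [pbF_apply, LinearMap.prodMap_apply, AlgHom.toLinearMap_apply, c₁, c₂])
    (fun y => by
      simp only [pbG_apply, LinearMap.prodMap_apply, AlgHom.toLinearMap_apply, c₃, c₄, map_sub])
    hρ (IsBaseChange.prodMap _ _ hα hβ) hγ hinj hex
  exact IsPB.of_injective_of_exact _ _ _ _ this.1 this.2


theorem pbG_surjective (hq : Function.Surjective q₁) : Function.Surjective (pbG q₁ q₂) := by
  intro c
  obtain ⟨a, rfl⟩ := hq c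
  exact ⟨(a, 0), by rw [pbG_apply]; simp⟩

variable (Λ') in
theorem IsPB.tensor_of_flat [Module.Flat Λ Λ']
    (H : IsPB π₁.toRingHom π₂.toRingHom q₁.toRingHom q₂.toRingHom) :
    Function.Injective ((pbF π₁ π₂).lTensor Λ') ∧
      Function.Exact ((pbF π₁ π₂).lTensor Λ') ((pbG q₁ q₂).lTensor Λ') :=
  ⟨Module.Flat.lTensor_preserves_injective_linearMap _ (H.injective_pbF),
    Module.Flat.lTensor_exact Λ' (H.exact_pbF_pbG)⟩

variable (Λ') in
theorem IsPB.tensor_of_flat_of_surjective [Module.Flat Λ C]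
    (H : IsPB π₁.toRingHom π₂.toRingHom q₁.toRingHom q₂.toRingHom)
    (hq : Function.Surjective q₁) :
    Function.Injective ((pbF π₁ π₂).lTensor Λ') ∧
      Function.Exact ((pbF π₁ π₂).lTensor Λ') ((pbG q₁ q₂).lTensor Λ') :=
  ⟨LinearMap.lTensor_injective_of_exact_of_flat (pbG q₁ q₂) (pbG_surjective q₁ q₂ hq)
      (pbF π₁ π₂) H.injective_pbF H.exact_pbF_pbG Λ',
    lTensor_exact Λ' H.exact_pbF_pbG (pbG_surjective q₁ q₂ hq)⟩

variable (Λ') in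
theorem IsPB.tensor_of_retraction
    (H : IsPB π₁.toRingHom π₂.toRingHom q₁.toRingHom q₂.toRingHom)
    (hq : Function.Surjective q₁) (r : A × B →ₗ[Λ] R) (hr : ∀ x, r (pbF π₁ π₂ x) = x) :
    Function.Injective ((pbF π₁ π₂).lTensor Λ') ∧
      Function.Exact ((pbF π₁ π₂).lTensor Λ') ((pbG q₁ q₂).lTensor Λ') := by
  refine ⟨?_, lTensor_exact Λ' H.exact_pbF_pbG (pbG_surjective q₁ q₂ hq)⟩
  have : (r.lTensor Λ') ∘ₗ ((pbF π₁ π₂).lTensor Λ') = LinearMap.id := by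
    rw [← LinearMap.lTensor_comp]
    have : r ∘ₗ pbF π₁ π₂ = LinearMap.id := LinearMap.ext hr
    rw [this, LinearMap.lTensor_id]
  exact Function.LeftInverse.injective (g := r.lTensor Λ') (fun x => by
    have := congrArg (fun φ => φ x) this
    simpa using this)

end Alg


section Bridge

/-- a pushout square of commutative rings exhibits a base change of modules -/
theorem isBaseChange_of_isPushout {Λ Λ' M M' : Type u} [CommRing Λ] [CommRing Λ'] [CommRing M]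
    [CommRing M'] [Algebra Λ Λ'] [Algebra Λ M] [Algebra Λ M'] [Algebra Λ' M']
    [IsScalarTower Λ Λ' M'] (μ : M →ₐ[Λ] M')
    (h : IsPushout (CommRingCat.ofHom (algebraMap Λ M)) (CommRingCat.ofHom (algebraMap Λ Λ'))
      (CommRingCat.ofHom μ.toRingHom) (CommRingCat.ofHom (algebraMap Λ' M'))) :
    IsBaseChange Λ' μ.toLinearMap := by
  letI : Algebra M M' := μ.toRingHom.toAlgebra
  haveI : IsScalarTower Λ M M' := IsScalarTower.of_algebraMap_eq (fun x => (μ.commutes x).symm)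
  have h' : Algebra.IsPushout Λ Λ' M M' := CommRingCat.isPushout_iff_isPushout.mp h.flip
  have := h'.out
  convert this using 1
  ext x
  rfl

variable {Λ Λ' R A B C : Type u} [CommRing Λ] [CommRing Λ'] [CommRing R] [CommRing A]
  [CommRing B] [CommRing C]

/-- every base change of the square along `lam` is again a pullback square -/
def StablePB (lam : Λ →+* Λ') (σ : Λ →+* R) (π₁ : R →+* A) (π₂ : R →+* B) (q₁ : A →+* C)
    (q₂ : B →+* C) : Prop :=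
  ∀ (R' A' B' C' : Type u) [CommRing R'] [CommRing A'] [CommRing B'] [CommRing C']
    (σ' : Λ' →+* R') (ρ : R →+* R') (α : A →+* A') (β : B →+* B') (γ : C →+* C')
    (π₁' : R' →+* A') (π₂' : R' →+* B') (q₁' : A' →+* C') (q₂' : B' →+* C'),
    IsPushout (CommRingCat.ofHom σ) (CommRingCat.ofHom lam) (CommRingCat.ofHom ρ)
      (CommRingCat.ofHom σ') →
    IsPushout (CommRingCat.ofHom (π₁.comp σ)) (CommRingCat.ofHom lam) (CommRingCat.ofHom α)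
      (CommRingCat.ofHom (π₁'.comp σ')) →
    IsPushout (CommRingCat.ofHom (π₂.comp σ)) (CommRingCat.ofHom lam) (CommRingCat.ofHom β)
      (CommRingCat.ofHom (π₂'.comp σ')) →
    IsPushout (CommRingCat.ofHom (q₁.comp (π₁.comp σ))) (CommRingCat.ofHom lam)
      (CommRingCat.ofHom γ) (CommRingCat.ofHom (q₁'.comp (π₁'.comp σ'))) →
    (∀ x, π₁' (ρ x) = α (π₁ x)) → (∀ x, π₂' (ρ x) = β (π₂ x)) →
    (∀ x, q₁' (α x) = γ (q₁ x)) → (∀ x, q₂' (β x) = γ (q₂ x)) →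
    (∀ x, q₁' (π₁' x) = q₂' (π₂' x)) →
    IsPB π₁' π₂' q₁' q₂'

theorem stablePB_of_tensor [Algebra Λ Λ'] [Algebra Λ R] [Algebra Λ A] [Algebra Λ B] [Algebra Λ C]
    (π₁ : R →ₐ[Λ] A) (π₂ : R →ₐ[Λ] B) (q₁ : A →ₐ[Λ] C) (q₂ : B →ₐ[Λ] C)
    (hT : Function.Injective ((pbF π₁ π₂).lTensor Λ') ∧
      Function.Exact ((pbF π₁ π₂).lTensor Λ') ((pbG q₁ q₂).lTensor Λ')) :
    StablePB (algebraMap Λ Λ') (algebraMap Λ R) π₁.toRingHom π₂.toRingHom q₁.toRingHom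
      q₂.toRingHom := by
  intro R' A' B' C' _ _ _ _ σ' ρ α β γ π₁' π₂' q₁' q₂' h₁ h₂ h₃ h₄ c₁ c₂ c₃ c₄ c₅
  have e₂ : π₁.toRingHom.comp (algebraMap Λ R) = algebraMap Λ A := π₁.comp_algebraMap
  have e₃ : π₂.toRingHom.comp (algebraMap Λ R) = algebraMap Λ B := π₂.comp_algebraMap
  have e₄ : q₁.toRingHom.comp (π₁.toRingHom.comp (algebraMap Λ R)) = algebraMap Λ C := by
    rw [e₂]; exact q₁.comp_algebraMap
  rw [e₂] at h₂
  rw [e₃] at h₃
  rw [e₄] at h₄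
  letI : Algebra Λ' R' := σ'.toAlgebra
  letI : Algebra Λ' A' := (π₁'.comp σ').toAlgebra
  letI : Algebra Λ' B' := (π₂'.comp σ').toAlgebra
  letI : Algebra Λ' C' := (q₁'.comp (π₁'.comp σ')).toAlgebra
  letI : Algebra Λ R' := (σ'.comp (algebraMap Λ Λ')).toAlgebra
  letI : Algebra Λ A' := ((π₁'.comp σ').comp (algebraMap Λ Λ')).toAlgebra
  letI : Algebra Λ B' := ((π₂'.comp σ').comp (algebraMap Λ Λ')).toAlgebra
  letI : Algebra Λ C' := ((q₁'.comp (π₁'.comp σ')).comp (algebraMap Λ Λ')).toAlgebra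
  haveI : IsScalarTower Λ Λ' R' := IsScalarTower.of_algebraMap_eq (fun _ => rfl)
  haveI : IsScalarTower Λ Λ' A' := IsScalarTower.of_algebraMap_eq (fun _ => rfl)
  haveI : IsScalarTower Λ Λ' B' := IsScalarTower.of_algebraMap_eq (fun _ => rfl)
  haveI : IsScalarTower Λ Λ' C' := IsScalarTower.of_algebraMap_eq (fun _ => rfl)
  let π₁'a : R' →ₐ[Λ'] A' := ⟨π₁', fun _ => rfl⟩
  let π₂'a : R' →ₐ[Λ'] B' := ⟨π₂', fun _ => rfl⟩
  let q₁'a : A' →ₐ[Λ'] C' := ⟨q₁', fun _ => rfl⟩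
  let q₂'a : B' →ₐ[Λ'] C' := ⟨q₂', fun l => (c₅ (σ' l)).symm⟩
  let ρa : R →ₐ[Λ] R' := ⟨ρ, fun l => congrArg (fun φ => φ.hom l) h₁.w⟩
  let αa : A →ₐ[Λ] A' := ⟨α, fun l => congrArg (fun φ => φ.hom l) h₂.w⟩
  let βa : B →ₐ[Λ] B' := ⟨β, fun l => congrArg (fun φ => φ.hom l) h₃.w⟩
  let γa : C →ₐ[Λ] C' := ⟨γ, fun l => congrArg (fun φ => φ.hom l) h₄.w⟩
  exact IsPB.baseChange_of_tensor π₁ π₂ q₁ q₂ π₁'a π₂'a q₁'a q₂'a ρa αa βa γa
    (isBaseChange_of_isPushout ρa h₁) (isBaseChange_of_isPushout αa h₂)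
    (isBaseChange_of_isPushout βa h₃) (isBaseChange_of_isPushout γa h₄)
    c₁ c₂ c₃ c₄ hT.1 hT.2


theorem stablePB_of_flat (lam : Λ →+* Λ') (σ : Λ →+* R) (π₁ : R →+* A) (π₂ : R →+* B)
    (q₁ : A →+* C) (q₂ : B →+* C) (H : IsPB π₁ π₂ q₁ q₂) (hflat : lam.Flat) :
    StablePB lam σ π₁ π₂ q₁ q₂ := by
  letI : Algebra Λ Λ' := lam.toAlgebra
  letI : Algebra Λ R := σ.toAlgebra
  letI : Algebra Λ A := (π₁.comp σ).toAlgebra
  letI : Algebra Λ B := (π₂.comp σ).toAlgebra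
  letI : Algebra Λ C := (q₁.comp (π₁.comp σ)).toAlgebra
  let π₁a : R →ₐ[Λ] A := ⟨π₁, fun _ => rfl⟩
  let π₂a : R →ₐ[Λ] B := ⟨π₂, fun _ => rfl⟩
  let q₁a : A →ₐ[Λ] C := ⟨q₁, fun _ => rfl⟩
  let q₂a : B →ₐ[Λ] C := ⟨q₂, fun l => (H.comm (σ l)).symm⟩
  haveI : Module.Flat Λ Λ' := hflat
  exact stablePB_of_tensor π₁a π₂a q₁a q₂a (IsPB.tensor_of_flat Λ' π₁a π₂a q₁a q₂a H)

theorem stablePB_of_flat_of_surjective (lam : Λ →+* Λ') (σ : Λ →+* R) (π₁ : R →+* A)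
    (π₂ : R →+* B) (q₁ : A →+* C) (q₂ : B →+* C) (H : IsPB π₁ π₂ q₁ q₂)
    (hflat : (q₁.comp (π₁.comp σ)).Flat) (hq : Function.Surjective q₁) :
    StablePB lam σ π₁ π₂ q₁ q₂ := by
  letI : Algebra Λ Λ' := lam.toAlgebra
  letI : Algebra Λ R := σ.toAlgebra
  letI : Algebra Λ A := (π₁.comp σ).toAlgebra
  letI : Algebra Λ B := (π₂.comp σ).toAlgebra
  letI : Algebra Λ C := (q₁.comp (π₁.comp σ)).toAlgebra
  let π₁a : R →ₐ[Λ] A := ⟨π₁, fun _ => rfl⟩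
  let π₂a : R →ₐ[Λ] B := ⟨π₂, fun _ => rfl⟩
  let q₁a : A →ₐ[Λ] C := ⟨q₁, fun _ => rfl⟩
  let q₂a : B →ₐ[Λ] C := ⟨q₂, fun l => (H.comm (σ l)).symm⟩
  haveI : Module.Flat Λ C := hflat
  exact stablePB_of_tensor π₁a π₂a q₁a q₂a
    (IsPB.tensor_of_flat_of_surjective Λ' π₁a π₂a q₁a q₂a H hq)

/-- a retraction of `R → A × B`, linear over `Λ`, makes the square stable under base change -/
theorem stablePB_of_retraction (lam : Λ →+* Λ') (σ : Λ →+* R) (π₁ : R →+* A)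
    (π₂ : R →+* B) (q₁ : A →+* C) (q₂ : B →+* C) (H : IsPB π₁ π₂ q₁ q₂)
    (hq : Function.Surjective q₁) (r : A × B →+ R)
    (hrσ : ∀ (l : Λ) (y : A × B), r (π₁ (σ l) * y.1, π₂ (σ l) * y.2) = σ l * r y)
    (hr : ∀ x, r (π₁ x, π₂ x) = x) :
    StablePB lam σ π₁ π₂ q₁ q₂ := by
  letI : Algebra Λ Λ' := lam.toAlgebra
  letI : Algebra Λ R := σ.toAlgebra
  letI : Algebra Λ A := (π₁.comp σ).toAlgebra
  letI : Algebra Λ B := (π₂.comp σ).toAlgebra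
  letI : Algebra Λ C := (q₁.comp (π₁.comp σ)).toAlgebra
  let π₁a : R →ₐ[Λ] A := ⟨π₁, fun _ => rfl⟩
  let π₂a : R →ₐ[Λ] B := ⟨π₂, fun _ => rfl⟩
  let q₁a : A →ₐ[Λ] C := ⟨q₁, fun _ => rfl⟩
  let q₂a : B →ₐ[Λ] C := ⟨q₂, fun l => (H.comm (σ l)).symm⟩
  let rl : A × B →ₗ[Λ] R :=
    { toFun := r
      map_add' := r.map_add
      map_smul' := fun l y => by
        have := hrσ l y
        have e : l • y = (π₁ (σ l) * y.1, π₂ (σ l) * y.2) := by
          rw [Prod.smul_def, Algebra.smul_def, Algebra.smul_def]; rfl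
        change r (l • y) = l • r y
        rw [e, this, Algebra.smul_def]; rfl }
  exact stablePB_of_tensor π₁a π₂a q₁a q₂a
    (IsPB.tensor_of_retraction Λ' π₁a π₂a q₁a q₂a H hq rl hr)

end Bridge

end Groth.Agent.Lib.Helper9.RingPB
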