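import Mathlib
import Groth.Agent.Lib.Helper9.Ferrand18
import Groth.Agent.Lib.Helper9.RingPB5

set_option autoImplicit false
set_option linter.style.haveILetI false
set_option linter.unusedSectionVars false
universe u v w
open CategoryTheory CategoryTheory.Limits AlgebraicGeometry TopologicalSpace Opposite Topology

namespace Groth.Agent.Lib.Helper9.Ferrand

open Groth.Agent.Lib.Helper9.PushLoc Groth.Agent.Lib.Helper9.RingPB Groth.Agent.Lib.Helper9.OILoc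
open Groth.Agent.Lib.Helper9.JointSurj

/-- sections of a fibre product over affine opens -/
theorem isPushout_sections {X Y S T : Scheme.{u}} {f : T ⟶ S} {g : Y ⟶ X} {iX : X ⟶ S}
    {iY : Y ⟶ T} (H : IsPullback g iY iX f) {US : S.Opens} {UT : T.Opens} {UX : X.Opens}
    (hUST : UT ≤ f ⁻¹ᵁ US) (hUSX : UX ≤ iX ⁻¹ᵁ US) {UY : Y.Opens}
    (hUY : UY = g ⁻¹ᵁ UX ⊓ iY ⁻¹ᵁ UT) (hUS : IsAffineOpen US) (hUT : IsAffineOpen UT)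
    (hUX : IsAffineOpen UX) (e₁ : UY ≤ g ⁻¹ᵁ UX) (e₂ : UY ≤ iY ⁻¹ᵁ UT) :
    IsAffineOpen UY ∧ IsPushout (iX.appLE US UX hUSX) (f.appLE US UT hUST)
      (g.appLE UX UY e₁) (iY.appLE UT UY e₂) := by
  constructor
  · have : IsAffine (US : Scheme.{u}) := hUS
    have : IsAffine (UT : Scheme.{u}) := hUT
    have : IsAffine (UX : Scheme.{u}) := hUX
    exact .of_isIso (Scheme.Hom.isPullback_resLE H hUST hUSX hUY).isoPullback.hom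
  · have := isIso_pushoutSection_of_isAffineOpen H hUST hUSX hUY hUS hUT hUX
    exact (isIso_pushoutSection_iff H hUST hUSX hUY).mp this

section general
variable {Z Xs Ys P : Scheme.{u}} {c : Z ⟶ Xs} {d : Z ⟶ Ys} {a : Xs ⟶ P} {b : Ys ⟶ P}

theorem sections_comm (w : c ≫ a = d ≫ b) (W : P.Opens) (s : Γ(P, W)) :
    (c.app (a ⁻¹ᵁ W)).hom ((a.app W).hom s) =
      (d.appLE (b ⁻¹ᵁ W) (c ⁻¹ᵁ (a ⁻¹ᵁ W)) (preimage_le w W)).hom ((b.app W).hom s) := by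
  have e1 : a.app W ≫ c.app (a ⁻¹ᵁ W) = (c ≫ a).appLE W (c ⁻¹ᵁ (a ⁻¹ᵁ W)) le_rfl := by
    rw [Scheme.Hom.app_eq_appLE, Scheme.Hom.app_eq_appLE, Scheme.Hom.appLE_comp_appLE]
  have e2 : b.app W ≫ d.appLE (b ⁻¹ᵁ W) (c ⁻¹ᵁ (a ⁻¹ᵁ W)) (preimage_le w W) =
      (d ≫ b).appLE W (c ⁻¹ᵁ (a ⁻¹ᵁ W)) (by
        rw [Scheme.Hom.comp_preimage]; exact preimage_le w W) := by
    rw [Scheme.Hom.app_eq_appLE, Scheme.Hom.appLE_comp_appLE]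
  have e3 := appLE_congr_hom w W (c ⁻¹ᵁ (a ⁻¹ᵁ W)) le_rfl (by
        rw [Scheme.Hom.comp_preimage]; exact preimage_le w W)
  exact congrArg (fun φ => φ.hom s) (e1.trans (e3.trans e2.symm))

theorem sheafPB_iff_isPB (w : c ≫ a = d ≫ b) (W : P.Opens) :
    SheafPB w W ↔ IsPB (a.app W).hom (b.app W).hom (c.app (a ⁻¹ᵁ W)).hom
      (d.appLE (b ⁻¹ᵁ W) (c ⁻¹ᵁ (a ⁻¹ᵁ W)) (preimage_le w W)).hom :=
  ⟨fun H => ⟨sections_comm w W, H.inj, H.ex⟩, fun H => ⟨H.inj, H.ex⟩⟩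

end general


theorem preimage_eq_of_comm {A B C D : Scheme.{u}} {f : A ⟶ B} {g : B ⟶ D} {h : A ⟶ C}
    {k : C ⟶ D} (e : f ≫ g = h ≫ k) (W : D.Opens) : f ⁻¹ᵁ (g ⁻¹ᵁ W) = h ⁻¹ᵁ (k ⁻¹ᵁ W) := by
  rw [← Scheme.Hom.comp_preimage, ← Scheme.Hom.comp_preimage, e]

/-- two ways around a commutative square, on sections -/
theorem appLE_comm {A B C D : Scheme.{u}} {f : A ⟶ B} {g : B ⟶ D} {h : A ⟶ C}
    {k : C ⟶ D} (e : f ≫ g = h ≫ k) (W : D.Opens) (WB : B.Opens) (WC : C.Opens) (WA : A.Opens)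
    (e₁ : WB ≤ g ⁻¹ᵁ W) (e₂ : WA ≤ f ⁻¹ᵁ WB) (e₃ : WC ≤ k ⁻¹ᵁ W) (e₄ : WA ≤ h ⁻¹ᵁ WC) :
    g.appLE W WB e₁ ≫ f.appLE WB WA e₂ = k.appLE W WC e₃ ≫ h.appLE WC WA e₄ := by
  rw [Scheme.Hom.appLE_comp_appLE, Scheme.Hom.appLE_comp_appLE]
  exact appLE_congr_hom e _ _ _ _

section cube
variable {X Y Z P S S' X' Y' Z' P' : Scheme.{u}}
  (i : Z ⟶ X) (j : Z ⟶ Y) (a : X ⟶ P) (b : Y ⟶ P)
  [IsClosedImmersion i] [IsAffineHom a] [IsAffineHom b]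
  (s : P ⟶ S) (g : S' ⟶ S)
  (pP : P' ⟶ P) (s' : P' ⟶ S')
  (pX : X' ⟶ X) (a' : X' ⟶ P')
  (pY : Y' ⟶ Y) (b' : Y' ⟶ P')
  (pZ : Z' ⟶ Z) (c' : Z' ⟶ P')
  (i' : Z' ⟶ X') (j' : Z' ⟶ Y')

/-- **Base change of pushouts**: the base change of a pushout square (along a closed immersion,
with affine legs) is again a pushout, as soon as the ring-level squares of sections are stable
under the corresponding base change of rings. -/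
theorem isPushout_baseChange (hP : IsPushout i j a b) (hP' : IsPullback pP s' s g)
    (hX' : IsPullback pX a' a pP) (hY' : IsPullback pY b' b pP)
    (hZ' : IsPullback pZ c' (i ≫ a) pP)
    (hi₁ : i' ≫ pX = pZ ≫ i) (hi₂ : i' ≫ a' = c') (hj₁ : j' ≫ pY = pZ ≫ j) (hj₂ : j' ≫ b' = c')
    (H : ∀ (U : S.Opens) (U' : S'.Opens) (W : P.Opens), IsAffineOpen U → IsAffineOpen U' →
      IsAffineOpen W → ∀ (hU' : U' ≤ g ⁻¹ᵁ U) (hW : W ≤ s ⁻¹ᵁ U),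
      StablePB (g.appLE U U' hU').hom (s.appLE U W hW).hom (a.app W).hom (b.app W).hom
        (i.app (a ⁻¹ᵁ W)).hom
        (j.appLE (b ⁻¹ᵁ W) (i ⁻¹ᵁ (a ⁻¹ᵁ W)) (preimage_le hP.w W)).hom) :
    IsPushout i' j' a' b' := by
  subst hi₂
  have w := hP.w
  have w' : i' ≫ a' = j' ≫ b' := hj₂.symm
  have hZX : IsPullback pZ i' i pX := IsPullback.of_bot hZ' hi₁.symm hX'
  haveI : IsClosedImmersion i' := MorphismProperty.of_isPullback (P := @IsClosedImmersion) hZX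
    inferInstance
  haveI : IsAffineHom a' := MorphismProperty.of_isPullback (P := @IsAffineHom) hX' inferInstance
  haveI : IsAffineHom b' := MorphismProperty.of_isPullback (P := @IsAffineHom) hY' inferInstance
  let 𝓦' : Set P'.Opens := {W' | ∃ (U : S.Opens) (U' : S'.Opens) (W : P.Opens),
    IsAffineOpen U ∧ IsAffineOpen U' ∧ IsAffineOpen W ∧ U' ≤ g ⁻¹ᵁ U ∧ W ≤ s ⁻¹ᵁ U ∧
      W' = pP ⁻¹ᵁ W ⊓ s' ⁻¹ᵁ U'}
  refine isPushout_of_cover i' j' a' b' w' 𝓦' ?_ ?_ ?_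
  · rintro W' ⟨U, U', W, hU, hU', hW, hU'le, hWle, hW'⟩
    exact (isPushout_sections hP' hU'le hWle hW' hU hU' hW
      (hW'.le.trans inf_le_left) (hW'.le.trans inf_le_right)).1
  · intro x
    obtain ⟨U, hU, hxU, -⟩ := exists_isAffineOpen_mem_and_subset (x := s (pP x)) (U := ⊤) trivial
    have hx1 : s' x ∈ g ⁻¹ᵁ U := by
      change g (s' x) ∈ U
      rw [← Scheme.Hom.comp_apply, ← hP'.w, Scheme.Hom.comp_apply]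
      exact hxU
    obtain ⟨U', hU', hxU', hU'le⟩ := exists_isAffineOpen_mem_and_subset hx1
    have hx2 : pP x ∈ s ⁻¹ᵁ U := hxU
    obtain ⟨W, hW, hxW, hWle⟩ := exists_isAffineOpen_mem_and_subset hx2
    exact ⟨pP ⁻¹ᵁ W ⊓ s' ⁻¹ᵁ U', ⟨U, U', W, hU, hU', hW, hU'le, hWle, rfl⟩, ⟨hxW, hxU'⟩⟩
  · rintro W' ⟨U, U', W, hU, hU', hW, hU'le, hWle, hW'⟩
    have hW'1 : W' ≤ pP ⁻¹ᵁ W := hW'.le.trans inf_le_left
    have hW'2 : W' ≤ s' ⁻¹ᵁ U' := hW'.le.trans inf_le_right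
    rw [sheafPB_iff_isPB]
    have HW := (sheafPB_iff_isPB w W).mp (sheafPB_of_isPushout i j a b w hP W hW)
    -- the four pushout squares of rings
    have hpoP := (isPushout_sections hP' hU'le hWle hW' hU hU' hW hW'1 hW'2).2
    have hXle : a ⁻¹ᵁ W ≤ (a ≫ s) ⁻¹ᵁ U := by
      rw [Scheme.Hom.comp_preimage]; exact a.preimage_mono hWle
    have hYle : b ⁻¹ᵁ W ≤ (b ≫ s) ⁻¹ᵁ U := by
      rw [Scheme.Hom.comp_preimage]; exact b.preimage_mono hWle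
    have hZle : i ⁻¹ᵁ (a ⁻¹ᵁ W) ≤ ((i ≫ a) ≫ s) ⁻¹ᵁ U := by
      rw [Scheme.Hom.comp_preimage, Scheme.Hom.comp_preimage]
      exact i.preimage_mono (a.preimage_mono hWle)
    have hX1 : a' ⁻¹ᵁ W' ≤ pX ⁻¹ᵁ (a ⁻¹ᵁ W) := by
      rw [preimage_eq_of_comm hX'.w W]; exact a'.preimage_mono hW'1
    have hX2 : a' ⁻¹ᵁ W' ≤ (a' ≫ s') ⁻¹ᵁ U' := by
      rw [Scheme.Hom.comp_preimage]; exact a'.preimage_mono hW'2
    have hXeq : a' ⁻¹ᵁ W' = pX ⁻¹ᵁ (a ⁻¹ᵁ W) ⊓ (a' ≫ s') ⁻¹ᵁ U' := by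
      rw [preimage_eq_of_comm hX'.w W, Scheme.Hom.comp_preimage, ← Scheme.Hom.preimage_inf, hW']
    have hY1 : b' ⁻¹ᵁ W' ≤ pY ⁻¹ᵁ (b ⁻¹ᵁ W) := by
      rw [preimage_eq_of_comm hY'.w W]; exact b'.preimage_mono hW'1
    have hY2 : b' ⁻¹ᵁ W' ≤ (b' ≫ s') ⁻¹ᵁ U' := by
      rw [Scheme.Hom.comp_preimage]; exact b'.preimage_mono hW'2
    have hYeq : b' ⁻¹ᵁ W' = pY ⁻¹ᵁ (b ⁻¹ᵁ W) ⊓ (b' ≫ s') ⁻¹ᵁ U' := by
      rw [preimage_eq_of_comm hY'.w W, Scheme.Hom.comp_preimage, ← Scheme.Hom.preimage_inf, hW']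
    have hZ1 : i' ⁻¹ᵁ (a' ⁻¹ᵁ W') ≤ pZ ⁻¹ᵁ (i ⁻¹ᵁ (a ⁻¹ᵁ W)) := by
      rw [preimage_eq_of_comm hi₁.symm (a ⁻¹ᵁ W)]; exact i'.preimage_mono hX1
    have hZ2 : i' ⁻¹ᵁ (a' ⁻¹ᵁ W') ≤ ((i' ≫ a') ≫ s') ⁻¹ᵁ U' := by
      rw [Scheme.Hom.comp_preimage, Scheme.Hom.comp_preimage]
      exact i'.preimage_mono (a'.preimage_mono hW'2)
    have hZeq : i' ⁻¹ᵁ (a' ⁻¹ᵁ W') =
        pZ ⁻¹ᵁ (i ⁻¹ᵁ (a ⁻¹ᵁ W)) ⊓ ((i' ≫ a') ≫ s') ⁻¹ᵁ U' := by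
      rw [preimage_eq_of_comm hi₁.symm (a ⁻¹ᵁ W), Scheme.Hom.comp_preimage,
        Scheme.Hom.comp_preimage, ← Scheme.Hom.preimage_inf, hXeq,
        Scheme.Hom.comp_preimage]
    have hpoX := (isPushout_sections (hX'.paste_vert hP') hU'le hXle hXeq hU hU'
      (hW.preimage a) hX1 hX2).2
    have hpoY := (isPushout_sections (hY'.paste_vert hP') hU'le hYle hYeq hU hU'
      (hW.preimage b) hY1 hY2).2
    have hpoZ := (isPushout_sections (hZ'.paste_vert hP') hU'le hZle hZeq hU hU'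
      ((hW.preimage a).preimage i) hZ1 hZ2).2
    have eX : (a ≫ s).appLE U (a ⁻¹ᵁ W) hXle = s.appLE U W hWle ≫ a.app W := by
      rw [Scheme.Hom.app_eq_appLE, Scheme.Hom.appLE_comp_appLE]
    have eX' : (a' ≫ s').appLE U' (a' ⁻¹ᵁ W') hX2 = s'.appLE U' W' hW'2 ≫ a'.app W' := by
      rw [Scheme.Hom.app_eq_appLE, Scheme.Hom.appLE_comp_appLE]
    have eY : (b ≫ s).appLE U (b ⁻¹ᵁ W) hYle = s.appLE U W hWle ≫ b.app W := by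
      rw [Scheme.Hom.app_eq_appLE, Scheme.Hom.appLE_comp_appLE]
    have eY' : (b' ≫ s').appLE U' (b' ⁻¹ᵁ W') hY2 = s'.appLE U' W' hW'2 ≫ b'.app W' := by
      rw [Scheme.Hom.app_eq_appLE, Scheme.Hom.appLE_comp_appLE]
    have eZ : ((i ≫ a) ≫ s).appLE U (i ⁻¹ᵁ (a ⁻¹ᵁ W)) hZle =
        (s.appLE U W hWle ≫ a.app W) ≫ i.app (a ⁻¹ᵁ W) := by
      rw [Scheme.Hom.app_eq_appLE, Scheme.Hom.app_eq_appLE, Scheme.Hom.appLE_comp_appLE,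
        Scheme.Hom.appLE_comp_appLE]
      exact appLE_congr_hom (Category.assoc _ _ _) _ _ _ _
    have eZ' : ((i' ≫ a') ≫ s').appLE U' (i' ⁻¹ᵁ (a' ⁻¹ᵁ W')) hZ2 =
        (s'.appLE U' W' hW'2 ≫ a'.app W') ≫ i'.app (a' ⁻¹ᵁ W') := by
      rw [Scheme.Hom.app_eq_appLE, Scheme.Hom.app_eq_appLE, Scheme.Hom.appLE_comp_appLE,
        Scheme.Hom.appLE_comp_appLE]
      exact appLE_congr_hom (Category.assoc _ _ _) _ _ _ _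
    rw [eX, eX'] at hpoX
    rw [eY, eY'] at hpoY
    rw [eZ, eZ'] at hpoZ
    refine H U U' W hU hU' hW hU'le hWle _ _ _ _ (s'.appLE U' W' hW'2).hom
      (pP.appLE W W' hW'1).hom (pX.appLE (a ⁻¹ᵁ W) (a' ⁻¹ᵁ W') hX1).hom
      (pY.appLE (b ⁻¹ᵁ W) (b' ⁻¹ᵁ W') hY1).hom
      (pZ.appLE (i ⁻¹ᵁ (a ⁻¹ᵁ W)) (i' ⁻¹ᵁ (a' ⁻¹ᵁ W')) hZ1).hom
      (a'.app W').hom (b'.app W').hom (i'.app (a' ⁻¹ᵁ W')).hom
      (j'.appLE (b' ⁻¹ᵁ W') (i' ⁻¹ᵁ (a' ⁻¹ᵁ W')) (preimage_le w' W')).hom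
      hpoP hpoX hpoY hpoZ ?_ ?_ ?_ ?_ ?_
    · intro x
      have := appLE_comm hX'.w.symm W W' (a ⁻¹ᵁ W) (a' ⁻¹ᵁ W') hW'1 le_rfl le_rfl hX1
      rw [← Scheme.Hom.app_eq_appLE, ← Scheme.Hom.app_eq_appLE] at this
      exact congrArg (fun φ => φ.hom x) this
    · intro x
      have := appLE_comm hY'.w.symm W W' (b ⁻¹ᵁ W) (b' ⁻¹ᵁ W') hW'1 le_rfl le_rfl hY1
      rw [← Scheme.Hom.app_eq_appLE, ← Scheme.Hom.app_eq_appLE] at this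
      exact congrArg (fun φ => φ.hom x) this
    · intro x
      have := appLE_comm hi₁ (a ⁻¹ᵁ W) (a' ⁻¹ᵁ W') (i ⁻¹ᵁ (a ⁻¹ᵁ W)) (i' ⁻¹ᵁ (a' ⁻¹ᵁ W'))
        hX1 le_rfl le_rfl hZ1
      rw [← Scheme.Hom.app_eq_appLE, ← Scheme.Hom.app_eq_appLE] at this
      exact congrArg (fun φ => φ.hom x) this
    · intro x
      have := appLE_comm hj₁ (b ⁻¹ᵁ W) (b' ⁻¹ᵁ W') (i ⁻¹ᵁ (a ⁻¹ᵁ W)) (i' ⁻¹ᵁ (a' ⁻¹ᵁ W'))
        hY1 (preimage_le w' W') (preimage_le w W) hZ1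
      exact congrArg (fun φ => φ.hom x) this
    · intro x
      exact sections_comm w' W' x

end cube


section flat
variable {X Y Z P F X' Y' Z' : Scheme.{u}}
  (i : Z ⟶ X) (j : Z ⟶ Y) (a : X ⟶ P) (b : Y ⟶ P)
  [IsClosedImmersion i] [IsAffineHom a] [IsAffineHom b]
  (q : F ⟶ P) [Flat q]
  (pX : X' ⟶ X) (a' : X' ⟶ F)
  (pY : Y' ⟶ Y) (b' : Y' ⟶ F)
  (pZ : Z' ⟶ Z) (c' : Z' ⟶ F)
  (i' : Z' ⟶ X') (j' : Z' ⟶ Y')

/-- **Flat base change of pushouts** (along a closed immersion, with affine legs). -/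
theorem isPushout_baseChange_of_flat (hP : IsPushout i j a b)
    (hX' : IsPullback pX a' a q) (hY' : IsPullback pY b' b q)
    (hZ' : IsPullback pZ c' (i ≫ a) q)
    (hi₁ : i' ≫ pX = pZ ≫ i) (hi₂ : i' ≫ a' = c') (hj₁ : j' ≫ pY = pZ ≫ j)
    (hj₂ : j' ≫ b' = c') : IsPushout i' j' a' b' := by
  refine isPushout_baseChange i j a b (𝟙 P) q q (𝟙 F) pX a' pY b' pZ c' i' j' hP
    (IsPullback.id_vert q) hX' hY' hZ' hi₁ hi₂ hj₁ hj₂ ?_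
  intro U U' W hU hU' hW hU'le hWle
  refine stablePB_of_flat _ _ _ _ _ _ ?_ (Flat.flat_appLE q hU hU' hU'le)
  exact (sheafPB_iff_isPB hP.w W).mp (sheafPB_of_isPushout i j a b hP.w hP W hW)

end flat

end Groth.Agent.Lib.Helper9.Ferrand
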