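import Groth.Agent.Lib.Helper29.AffBlowGeom

set_option autoImplicit false
universe u
open CategoryTheory CategoryTheory.Limits AlgebraicGeometry TopologicalSpace

namespace Groth.Agent.Lib.Helper9.BlowProper

open Groth.Agent.Lib.Helper29.EffCart Groth.Agent.Lib.Helper29.AffBlow

section Alg

variable {A : Type u} [CommRing A] (I : Ideal A) (a : A)

open Classical in
/-- the fraction `x / a`, defined to be zero for `x ∉ I`. -/
noncomputable def fr (x : A) : BlowUp.affineAlgebra A I a :=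
  if h : x ∈ I then frac A I a x h else 0

variable {I a}

lemma fr_eq {x : A} (hx : x ∈ I) : fr I a x = frac A I a x hx := dif_pos hx

lemma alg_eq_mul_fr {x : A} (hx : x ∈ I) :
    algebraMap A (BlowUp.affineAlgebra A I a) x = algebraMap A _ a * fr I a x := by
  rw [fr_eq hx]; exact algebraMap_eq_mul_frac A I a x hx

lemma eq_fr_of_mul_eq {x : A} (hx : x ∈ I) (y : BlowUp.affineAlgebra A I a)
    (h : algebraMap A _ a * y = algebraMap A _ x) : y = fr I a x := by
  have h0 := alg_eq_mul_fr (a := a) hx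
  have hn := algebraMap_mem_nonZeroDivisors A I a
  have h1 : (y - fr I a x) * algebraMap A _ a = 0 := by
    rw [sub_mul, mul_comm, h, mul_comm (fr I a x), ← h0, sub_self]
  exact sub_eq_zero.1 ((mem_nonZeroDivisors_iff_right.1 hn) _ h1)

lemma fr_zero : fr I a 0 = 0 :=
  (eq_fr_of_mul_eq (I.zero_mem) 0 (by rw [mul_zero, map_zero])).symm

lemma fr_add {x y : A} (hx : x ∈ I) (hy : y ∈ I) : fr I a (x + y) = fr I a x + fr I a y :=
  (eq_fr_of_mul_eq (I.add_mem hx hy) _ (by
    rw [mul_add, ← alg_eq_mul_fr hx, ← alg_eq_mul_fr hy, map_add])).symm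

lemma fr_mul (r : A) {x : A} (hx : x ∈ I) :
    fr I a (r * x) = algebraMap A _ r * fr I a x :=
  (eq_fr_of_mul_eq (I.mul_mem_left r hx) _ (by
    rw [mul_left_comm, ← alg_eq_mul_fr hx, map_mul])).symm

lemma fr_self (ha : a ∈ I) : fr I a a = 1 :=
  (eq_fr_of_mul_eq ha 1 (by rw [mul_one])).symm

lemma fr_span_induction {S : Set A} (hS : Ideal.span S = I)
    (p : BlowUp.affineAlgebra A I a → Prop) (h0 : p 0)
    (hadd : ∀ y z, p y → p z → p (y + z)) (hsmul : ∀ (r : A) y, p y → p (algebraMap A _ r * y))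
    (hS' : ∀ s ∈ S, p (fr I a s)) : ∀ x ∈ I, p (fr I a x) := by
  have hSI : S ⊆ I := hS ▸ Ideal.subset_span
  intro x hx
  rw [← hS] at hx
  have key : x ∈ I ∧ p (fr I a x) := by
    refine Submodule.span_induction (p := fun x _ => x ∈ I ∧ p (fr I a x)) ?_ ?_ ?_ ?_ hx
    · intro s hs; exact ⟨hSI hs, hS' s hs⟩
    · exact ⟨I.zero_mem, by rw [fr_zero]; exact h0⟩
    · rintro x y _ _ ⟨hx, hpx⟩ ⟨hy, hpy⟩
      exact ⟨I.add_mem hx hy, by rw [fr_add hx hy]; exact hadd _ _ hpx hpy⟩
    · rintro r x _ ⟨hx, hpx⟩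
      refine ⟨I.mul_mem_left r hx, ?_⟩
      rw [smul_eq_mul, fr_mul r hx]; exact hsmul r _ hpx
  exact key.2

lemma induction_on_span {S : Set A} (hS : Ideal.span S = I)
    {p : BlowUp.affineAlgebra A I a → Prop}
    (hA : ∀ r : A, p (algebraMap A _ r)) (hf : ∀ s ∈ S, p (fr I a s))
    (hadd : ∀ y z, p y → p z → p (y + z)) (hmul : ∀ y z, p y → p z → p (y * z))
    (y : BlowUp.affineAlgebra A I a) : p y := by
  refine induction_on A I a hA ?_ hadd hmul y
  intro x hx
  rw [← fr_eq hx]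
  refine fr_span_induction hS p ?_ hadd (fun r y hy => hmul _ _ (hA r) hy) hf x hx
  rw [← map_zero (algebraMap A (BlowUp.affineAlgebra A I a))]; exact hA 0

/-- `A[I/a]` is a finite type `A`-algebra when `I` is finitely generated. -/
theorem finiteType_affineAlgebra (hI : I.FG) :
    (algebraMap A (BlowUp.affineAlgebra A I a)).FiniteType := by
  classical
  obtain ⟨S, hS⟩ := hI
  rw [RingHom.finiteType_algebraMap]
  refine ⟨⟨S.image (fr I a), ?_⟩⟩
  rw [eq_top_iff]
  intro y _
  refine induction_on_span (S := (S : Set A)) hS (p := fun y => y ∈ Algebra.adjoin A _) ?_ ?_ ?_ ?_ y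
  · intro r; exact Subalgebra.algebraMap_mem _ r
  · intro s hs
    exact Algebra.subset_adjoin (by simpa using ⟨s, hs, rfl⟩)
  · intro y z hy hz; exact Subalgebra.add_mem _ hy hz
  · intro y z hy hz; exact Subalgebra.mul_mem _ hy hz

end Alg

end Groth.Agent.Lib.Helper9.BlowProper
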