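import Groth.Agent.Lib.Helper9.ABlow

set_option autoImplicit false
universe u
open CategoryTheory CategoryTheory.Limits AlgebraicGeometry TopologicalSpace

namespace Groth.Agent.Lib.Helper9.ABlow

open Groth.Agent.Lib.Helper29.EffCart

theorem isAlmostBlowUpSquare_baseChange {E Z X' X Y E₁ Z₁ X₁ : Scheme.{u}} {e : E ⟶ X'} {π : E ⟶ Z}
    {b : X' ⟶ X} {i : Z ⟶ X} (h : HTop.IsAlmostBlowUpSquare e π b i) (g : Y ⟶ X) {b₁ : X₁ ⟶ Y}
    {gX : X₁ ⟶ X'} (hX : IsPullback gX b₁ b g) {i₁ : Z₁ ⟶ Y} {gZ : Z₁ ⟶ Z}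
    (hZ : IsPullback gZ i₁ i g) {e₁ : E₁ ⟶ X₁} {gE : E₁ ⟶ E} (hE : IsPullback gE e₁ e gX)
    {π₁ : E₁ ⟶ Z₁} (hπ : π₁ ≫ i₁ = e₁ ≫ b₁) : HTop.IsAlmostBlowUpSquare e₁ π₁ b₁ i₁ := by
  have := h.isClosedImmersion
  have := h.finitePresentation_base
  have := h.isProper
  have := h.finitePresentation
  have hci : IsClosedImmersion i₁ := MorphismProperty.of_isPullback hZ h.isClosedImmersion
  have hker : i₁.ker = i.ker.comap g := ker_eq_comap_of_isPullback hZ
  have hcomap : i₁.ker.comap b₁ = (i.ker.comap b).comap gX := by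
    rw [hker, ← Scheme.IdealSheafData.comap_comp, ← Scheme.IdealSheafData.comap_comp, hX.w]
  have hlp : HTop.IsLocPrincipal (i₁.ker.comap b₁) := by
    rw [hcomap]; exact isLocPrincipal_comap _ h.locPrincipal _
  have hπ' : π₁ ≫ gZ = gE ≫ π := by
    rw [← cancel_mono i, Category.assoc, hZ.w, reassoc_of% hπ, ← hX.w, Category.assoc,
      ← h.isPullback.w, reassoc_of% hE.w]
  refine ⟨hci, MorphismProperty.of_isPullback hZ h.finitePresentation_base, ?_, hlp,
    MorphismProperty.of_isPullback hX h.isProper,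
    MorphismProperty.of_isPullback hX h.finitePresentation, ?_⟩
  · have s : IsPullback e₁ (π₁ ≫ gZ) (b₁ ≫ g) i := by
      rw [hπ', ← hX.w]
      exact hE.flip.paste_vert h.isPullback
    exact IsPullback.of_bot s hπ.symm hZ.flip
  · set K := HTop.supportedOn (i.ker.comap b) with hK
    set K₁ := HTop.supportedOn (i₁.ker.comap b₁) with hK₁
    refine ⟨?_, ?_⟩
    · rw [Scheme.IdealSheafData.comap_comp]
      exact isEffCartier_comap_supportedOn _ hlp
    · intro T t hT
      have hT' : BlowUp.IsEffCartierIdeal (i.ker.comap (t ≫ g)) := by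
        rw [Scheme.IdealSheafData.comap_comp, ← hker]; exact hT
      obtain ⟨m, hm, hmu⟩ := h.isBlowUp.2 T (t ≫ g) hT'
      -- the lift to `X₁`
      let n₀ : T ⟶ X₁ := hX.lift (m ≫ K.subschemeι) t (by rw [Category.assoc]; exact hm)
      have hn₀X : n₀ ≫ gX = m ≫ K.subschemeι := hX.lift_fst _ _ _
      have hn₀Y : n₀ ≫ b₁ = t := hX.lift_snd _ _ _
      have hle : K₁ ≤ n₀.ker := by
        apply supportedOn_le_ker
        rw [← Scheme.IdealSheafData.comap_comp, hn₀Y]
        exact hT
      let n : T ⟶ K₁.subscheme := IsClosedImmersion.lift K₁.subschemeι n₀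
        (by rw [Scheme.IdealSheafData.ker_subschemeι]; exact hle)
      have hn : n ≫ K₁.subschemeι = n₀ := IsClosedImmersion.lift_fac _ _ _
      refine ⟨n, ?_, ?_⟩
      · change n ≫ K₁.subschemeι ≫ b₁ = t
        rw [reassoc_of% hn, hn₀Y]
      · intro n' hn'
        have hn'' : n' ≫ K₁.subschemeι ≫ b₁ = t := hn'
        rw [← cancel_mono K₁.subschemeι, hn]
        apply hX.hom_ext
        · rw [hn₀X]
          -- `n' ≫ K₁.subschemeι ≫ gX` factors through `K.subscheme`
          set m₀' : T ⟶ X' := (n' ≫ K₁.subschemeι) ≫ gX with hm₀'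
          have hm₀'b : m₀' ≫ b = t ≫ g := by
            rw [hm₀', Category.assoc, Category.assoc, hX.w, ← Category.assoc, ← Category.assoc,
              Category.assoc n', hn'']
          have hle' : K ≤ m₀'.ker := by
            apply supportedOn_le_ker
            rw [← Scheme.IdealSheafData.comap_comp, hm₀'b]
            exact hT'
          let m' : T ⟶ K.subscheme := IsClosedImmersion.lift K.subschemeι m₀'
            (by rw [Scheme.IdealSheafData.ker_subschemeι]; exact hle')
          have hm' : m' ≫ K.subschemeι = m₀' := IsClosedImmersion.lift_fac _ _ _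
          have : m' = m := by
            apply hmu
            change m' ≫ K.subschemeι ≫ b = t ≫ g
            rw [reassoc_of% hm', hm₀'b]
          rw [← this, hm']
        · rw [hn₀Y, Category.assoc]
          exact hn''

end Groth.Agent.Lib.Helper9.ABlow
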