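import Groth.Agent.Lib.Helper9.RelClosure

/-!
# Existence of the absolute weak normalization of a ring
-/

set_option autoImplicit false
set_option linter.style.haveILetI false
universe u
open CategoryTheory AlgebraicGeometry MorphismProperty TensorProduct

namespace Groth.Agent.Lib.Helper9.UnivHomeoRing

/-- Extension of a point with values in an algebraically closed field along an integral
ring map whose kernel is killed. -/
theorem exists_ringHom_extension_of_ker_le {R S Ω : Type*} [CommRing R] [CommRing S] [Field Ω]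
    [IsAlgClosed Ω] (f : R →+* S) (hint : f.IsIntegral) (g : R →+* Ω)
    (hker : RingHom.ker f ≤ RingHom.ker g) : ∃ g' : S →+* Ω, g'.comp f = g := by
  letI := f.toAlgebra
  haveI : Algebra.IsIntegral R S := ⟨hint⟩
  let p : Ideal R := RingHom.ker g
  haveI : p.IsPrime := RingHom.ker_isPrime g
  have hker' : (⊥ : Ideal S).comap (algebraMap R S) ≤ p := hker
  obtain ⟨q, -, hq_prime, hq⟩ := Ideal.exists_ideal_over_prime_of_isIntegral p (⊥ : Ideal S) hker'
  haveI := hq_prime
  haveI : q.LiesOver p := ⟨hq.symm⟩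
  letI : Algebra (R ⧸ p) Ω := (RingHom.kerLift g).toAlgebra
  haveI : FaithfulSMul (R ⧸ p) Ω :=
    (faithfulSMul_iff_algebraMap_injective _ _).mpr (RingHom.kerLift_injective g)
  let h : (S ⧸ q) →ₐ[R ⧸ p] Ω := IsAlgClosed.lift
  refine ⟨h.toRingHom.comp (Ideal.Quotient.mk q), ?_⟩
  ext x
  have h1 := h.commutes (Ideal.Quotient.mk p x)
  rw [Ideal.Quotient.algebraMap_mk_of_liesOver] at h1
  exact h1

section
variable (A : Type u) [CommRing A]

/-- The product of algebraic closures of all residue fields. -/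
abbrev BigProd : Type u :=
  ∀ p : PrimeSpectrum A, AlgebraicClosure p.asIdeal.ResidueField

/-- The component maps `A → k(p)^alg`. -/
noncomputable def toAlgCl (p : PrimeSpectrum A) : A →+* AlgebraicClosure p.asIdeal.ResidueField :=
  (algebraMap p.asIdeal.ResidueField (AlgebraicClosure p.asIdeal.ResidueField)).comp
    (algebraMap A p.asIdeal.ResidueField)

theorem ker_toAlgCl (p : PrimeSpectrum A) : RingHom.ker (toAlgCl A p) = p.asIdeal := by
  ext a
  rw [RingHom.mem_ker]
  unfold toAlgCl
  rw [RingHom.comp_apply, map_eq_zero_iff _ (RingHom.injective _)]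
  exact Ideal.algebraMap_residueField_eq_zero

noncomputable instance bigProdAlgebra : Algebra A (BigProd A) :=
  (RingHom.pi (toAlgCl A)).toAlgebra

theorem algebraMap_bigProd_apply (a : A) (p : PrimeSpectrum A) :
    algebraMap A (BigProd A) a p = toAlgCl A p a := rfl

theorem ker_algebraMap_bigProd : RingHom.ker (algebraMap A (BigProd A)) ≤ nilradical A := by
  intro a ha
  rw [RingHom.mem_ker] at ha
  rw [mem_nilradical, nilpotent_iff_mem_prime]
  intro P hP
  have h1 : toAlgCl A ⟨P, hP⟩ a = 0 := congrFun ha ⟨P, hP⟩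
  have h2 : a ∈ RingHom.ker (toAlgCl A ⟨P, hP⟩) := h1
  rw [ker_toAlgCl] at h2
  exact h2

/-- The absolute weak normalization. -/
abbrev AWN : Type u := relWeakClosure A (BigProd A)

theorem isUnivHomeo_AWN :
    FlatMor.IsUnivHomeo (Spec.map (CommRingCat.ofHom (algebraMap A (AWN A)))) :=
  isUnivHomeo_relWeakClosure A (BigProd A) (ker_algebraMap_bigProd A)

theorem isRingAWN_AWN : HTop.IsRingAWN (algebraMap A (AWN A)) := by
  refine ⟨isUnivHomeo_AWN A, ?_⟩
  intro C _ ψ hψ
  obtain ⟨hint, hsurj, hrad⟩ := (isUnivHomeo_SpecMap_iff' ψ).mp hψ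
  have hkerψ : RingHom.ker ψ ≤ nilradical A := by
    intro a ha
    rw [mem_nilradical, nilpotent_iff_mem_prime]
    intro P hP
    obtain ⟨Q, hQ⟩ := hsurj ⟨P, hP⟩
    have h1 : a ∈ (PrimeSpectrum.comap ψ Q).asIdeal := by
      change ψ a ∈ Q.asIdeal
      rw [(RingHom.mem_ker).mp ha]
      exact Q.asIdeal.zero_mem
    rw [hQ] at h1
    exact h1
  have hext : ∀ p : PrimeSpectrum A, ∃ γ : C →+* AlgebraicClosure p.asIdeal.ResidueField,
      γ.comp ψ = toAlgCl A p := by
    intro p
    apply exists_ringHom_extension_of_ker_le ψ hint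
    rw [ker_toAlgCl]
    exact fun a ha => nilradical_le_prime p.asIdeal (hkerψ ha)
  choose γ hγ using hext
  letI : Algebra A C := ψ.toAlgebra
  let Γ : C →ₐ[A] BigProd A := { RingHom.pi γ with
    commutes' := fun a => by
      funext p
      change γ p (ψ a) = toAlgCl A p a
      rw [← hγ p]
      rfl }
  have hle : Γ.range ≤ relWeakClosure A (BigProd A) :=
    range_le_relWeakClosure A (BigProd A) C Γ hint hrad
  refine ⟨(Γ.codRestrict _ (fun x => hle ⟨x, rfl⟩)).toRingHom, ?_, ?_⟩
  · refine RingHom.ext fun a => ?_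
    exact (Γ.codRestrict _ (fun x => hle ⟨x, rfl⟩)).commutes a
  · intro χ hχ
    refine RingHom.ext fun c => ?_
    apply Subtype.ext
    funext p
    let π : AWN A →+* AlgebraicClosure p.asIdeal.ResidueField :=
      (Pi.evalRingHom _ p).comp (algebraMap (AWN A) (BigProd A))
    have h1 : (π.comp χ).comp ψ = (γ p).comp ψ := by
      rw [RingHom.comp_assoc, hχ, hγ p]
      rfl
    have h2 := hrad _ _ _ h1
    exact congrArg (fun θ => θ c) (congrArg DFunLike.coe h2)

end

end Groth.Agent.Lib.Helper9.UnivHomeoRing
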