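import Mathlib
set_option autoImplicit false
set_option linter.style.haveILetI false
set_option linter.unusedSectionVars false
universe u v w
open CategoryTheory CategoryTheory.Limits AlgebraicGeometry TopologicalSpace Opposite

namespace Groth.Agent.Lib.Helper9.AffLimExists

section sheaf

variable {J : Type u} [SmallCategory J] (E : J ⥤ Scheme.{u})

/-- The functor of cones over a diagram of schemes is a Zariski sheaf. -/
lemma isSheaf_cones : Presheaf.IsSheaf Scheme.zariskiTopology E.cones := by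
  rw [isSheaf_iff_isSheaf_of_type]
  intro T S hS x hx
  have hsh : ∀ j, Presieve.IsSheafFor (yoneda.obj (E.obj j)) S.arrows := fun j =>
    (GrothendieckTopology.Subcanonical.isSheaf_of_isRepresentable
      (J := Scheme.zariskiTopology) (yoneda.obj (E.obj j))) S hS
  -- componentwise families
  let xj : ∀ j, Presieve.FamilyOfElements (yoneda.obj (E.obj j)) S.arrows :=
    fun j Y f hf => (x f hf).app j
  have hxj : ∀ j, (xj j).Compatible := by
    intro j Y₁ Y₂ Z g₁ g₂ f₁ f₂ h₁ h₂ comm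
    have := hx g₁ g₂ h₁ h₂ comm
    exact congrArg (fun s : (Functor.const J).obj Z ⟶ E => s.app j) this
  choose t ht htu using fun j => hsh j (xj j) (hxj j)
  have hnat : ∀ {j k : J} (φ : j ⟶ k), t j ≫ E.map φ = t k := by
    intro j k φ
    apply htu k
    intro Y f hf
    have h1 := ht j f hf
    change f ≫ (t j ≫ E.map φ) = (x f hf).app k
    change f ≫ t j = (x f hf).app j at h1
    rw [← Category.assoc, h1]
    have := (x f hf).naturality φ
    simpa using this.symm
  refine ⟨{ app := t, naturality := fun j k φ => by simpa using (hnat φ).symm }, ?_, ?_⟩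
  · intro Y f hf
    apply NatTrans.ext
    funext j
    exact ht j f hf
  · intro s hs
    apply NatTrans.ext
    funext j
    apply htu j
    intro Y f hf
    have := hs f hf
    exact congrArg (fun s : (Functor.const J).obj Y ⟶ E => s.app j) this

end sheaf

section affine

/-- a limit cone for a diagram of affine schemes -/
noncomputable def affineLimitCone {J : Type u} [SmallCategory J] (E : J ⥤ Scheme.{u})
    [∀ j, IsAffine (E.obj j)] : LimitCone E :=
  let e : E ⟶ (E ⋙ Scheme.Γ.rightOp) ⋙ Scheme.Spec := Functor.whiskerLeft E ΓSpec.adjunction.unit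
  have (i : _) : IsIso (e.app i) := IsAffine.affine
  have : IsIso e := NatIso.isIso_of_isIso_app e
  ⟨_, (IsLimit.postcomposeInvEquiv (asIso e) _).symm
    (isLimitOfPreserves Scheme.Spec (limit.isLimit (E ⋙ Scheme.Γ.rightOp)))⟩

end affine

section main

variable {I : Type u} [SmallCategory I] [IsCofiltered I] (D : I ⥤ Scheme.{u})
  [∀ {i j : I} (f : i ⟶ j), IsAffineHom (D.map f)] (i₀ : I)

/-- the restricted diagram -/
abbrev D' : Over i₀ ⥤ Scheme.{u} := Over.forget i₀ ⋙ D

/-- the sheaf of cones -/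
noncomputable def F : Sheaf Scheme.zariskiTopology (Type u) := ⟨(D' D i₀).cones, isSheaf_cones _⟩

instance (U : (D.obj i₀).affineOpens) (j : Over i₀) : IsAffine ((opensDiagram D i₀ U.1).obj j) :=
  U.2.preimage (D.map _)

/-- the limit cone of the affine pieces -/
noncomputable def L (U : (D.obj i₀).affineOpens) : LimitCone (opensDiagram D i₀ U.1) :=
  affineLimitCone _

/-- the local pieces -/
noncomputable def X (U : (D.obj i₀).affineOpens) : Scheme.{u} := (L D i₀ U).cone.pt

/-- the cone over `D'` with apex `X U` -/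
noncomputable def coneX (U : (D.obj i₀).affineOpens) :
    (Functor.const (Over i₀)).obj (X D i₀ U) ⟶ D' D i₀ :=
  (L D i₀ U).cone.π ≫ opensDiagramι D i₀ U.1

/-- the maps from the local pieces -/
noncomputable def f (U : (D.obj i₀).affineOpens) : yoneda.obj (X D i₀ U) ⟶ (F D i₀).1 :=
  yonedaEquiv.symm (coneX D i₀ U)

lemma f_app (U : (D.obj i₀).affineOpens) {T : Scheme.{u}} (g : T ⟶ X D i₀ U) (j : Over i₀) :
    ((f D i₀ U).app (op T) g).app j =
      g ≫ (L D i₀ U).cone.π.app j ≫ (D.map j.hom ⁻¹ᵁ U.1).ι := by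
  rfl

variable {D i₀}

/-- components of a cone, with clean types -/
def sApp {T : Scheme.{u}} (s : (Functor.const (Over i₀)).obj T ⟶ D' D i₀) (j : Over i₀) :
    T ⟶ D.obj j.left := s.app j

omit [IsCofiltered I] [∀ {i j : I} (f : i ⟶ j), IsAffineHom (D.map f)] in
lemma sApp_naturality {T : Scheme.{u}} (s : (Functor.const (Over i₀)).obj T ⟶ D' D i₀)
    {j k : Over i₀} (φ : j ⟶ k) : sApp s j ≫ D.map φ.left = sApp s k := by
  have := s.naturality φ
  simpa [sApp] using this.symm

omit [IsCofiltered I] [∀ {i j : I} (f : i ⟶ j), IsAffineHom (D.map f)] in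
lemma sApp_hom {T : Scheme.{u}} (s : (Functor.const (Over i₀)).obj T ⟶ D' D i₀)
    (j : Over i₀) : sApp s j ≫ D.map j.hom = sApp s (Over.mk (𝟙 i₀)) := by
  have := sApp_naturality s (Over.homMk j.hom : j ⟶ Over.mk (𝟙 i₀))
  simpa using this

/-- the open where the cone maps into `U` -/
def W (U : (D.obj i₀).affineOpens) {T : Scheme.{u}}
    (s : (Functor.const (Over i₀)).obj T ⟶ D' D i₀) : T.Opens :=
  (sApp s (Over.mk (𝟙 i₀))) ⁻¹ᵁ U.1

/-- the open immersions, with clean types -/
noncomputable def ιj (U : (D.obj i₀).affineOpens) (j : Over i₀) :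
    (opensDiagram D i₀ U.1).obj j ⟶ D.obj j.left := (D.map j.hom ⁻¹ᵁ U.1).ι

instance (U : (D.obj i₀).affineOpens) (j : Over i₀) : IsOpenImmersion (ιj U j) :=
  inferInstanceAs (IsOpenImmersion (D.map j.hom ⁻¹ᵁ U.1).ι)

omit [IsCofiltered I] [∀ {i j : I} (f : i ⟶ j), IsAffineHom (D.map f)] in
lemma range_ιj (U : (D.obj i₀).affineOpens) (j : Over i₀) :
    Set.range (ιj U j) = (D.map j.hom ⁻¹ᵁ U.1 : Set (D.obj j.left)) :=
  Scheme.Opens.range_ι _

omit [IsCofiltered I] [∀ {i j : I} (f : i ⟶ j), IsAffineHom (D.map f)] in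
lemma map_ιj (U : (D.obj i₀).affineOpens) {j k : Over i₀} (φ : j ⟶ k) :
    (opensDiagram D i₀ U.1).map φ ≫ ιj U k = ιj U j ≫ D.map φ.left := by
  simp [ιj, opensDiagram]

omit [IsCofiltered I] [∀ {i j : I} (f : i ⟶ j), IsAffineHom (D.map f)] in
lemma range_sub (U : (D.obj i₀).affineOpens) {T : Scheme.{u}}
    (s : (Functor.const (Over i₀)).obj T ⟶ D' D i₀) (j : Over i₀) :
    Set.range ((W U s).ι ≫ sApp s j) ⊆ Set.range (ιj U j) := by
  rw [range_ιj]
  rintro _ ⟨w, rfl⟩
  change (D.map j.hom) (((W U s).ι ≫ sApp s j) w) ∈ U.1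
  rw [← Scheme.Hom.comp_apply, Category.assoc, sApp_hom, Scheme.Hom.comp_apply]
  exact w.2

/-- the components of the lifted cone -/
noncomputable def sW (U : (D.obj i₀).affineOpens) {T : Scheme.{u}}
    (s : (Functor.const (Over i₀)).obj T ⟶ D' D i₀) (j : Over i₀) :
    (W U s).toScheme ⟶ (opensDiagram D i₀ U.1).obj j :=
  IsOpenImmersion.lift (ιj U j) ((W U s).ι ≫ sApp s j) (range_sub U s j)

omit [IsCofiltered I] [∀ {i j : I} (f : i ⟶ j), IsAffineHom (D.map f)] in
lemma sW_ι (U : (D.obj i₀).affineOpens) {T : Scheme.{u}}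
    (s : (Functor.const (Over i₀)).obj T ⟶ D' D i₀) (j : Over i₀) :
    sW U s j ≫ ιj U j = (W U s).ι ≫ sApp s j :=
  IsOpenImmersion.lift_fac _ _ _

omit [IsCofiltered I] [∀ {i j : I} (f : i ⟶ j), IsAffineHom (D.map f)] in
lemma sW_naturality (U : (D.obj i₀).affineOpens) {T : Scheme.{u}}
    (s : (Functor.const (Over i₀)).obj T ⟶ D' D i₀) {j k : Over i₀} (φ : j ⟶ k) :
    sW U s j ≫ (opensDiagram D i₀ U.1).map φ = sW U s k := by
  rw [← cancel_mono (ιj U k), Category.assoc, map_ιj, ← Category.assoc, sW_ι, Category.assoc,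
    sApp_naturality, sW_ι]

/-- the lifted cone -/
noncomputable def coneW (U : (D.obj i₀).affineOpens) {T : Scheme.{u}}
    (s : (Functor.const (Over i₀)).obj T ⟶ D' D i₀) : Cone (opensDiagram D i₀ U.1) where
  pt := (W U s).toScheme
  π :=
    { app := fun j => sW U s j
      naturality := fun j k φ => by
        have := sW_naturality U s φ
        simpa using this.symm }

/-- the lift to the local piece -/
noncomputable def liftW (U : (D.obj i₀).affineOpens) {T : Scheme.{u}}
    (s : (Functor.const (Over i₀)).obj T ⟶ D' D i₀) : (W U s).toScheme ⟶ X D i₀ U :=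
  (L D i₀ U).isLimit.lift (coneW U s)

lemma liftW_π (U : (D.obj i₀).affineOpens) {T : Scheme.{u}}
    (s : (Functor.const (Over i₀)).obj T ⟶ D' D i₀) (j : Over i₀) :
    liftW U s ≫ (L D i₀ U).cone.π.app j = sW U s j :=
  (L D i₀ U).isLimit.fac (coneW U s) j

/-- the projections of the local limit cone, with clean types -/
noncomputable def πj (U : (D.obj i₀).affineOpens) (j : Over i₀) :
    X D i₀ U ⟶ (opensDiagram D i₀ U.1).obj j := (L D i₀ U).cone.π.app j

lemma liftW_πj (U : (D.obj i₀).affineOpens) {T : Scheme.{u}}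
    (s : (Functor.const (Over i₀)).obj T ⟶ D' D i₀) (j : Over i₀) :
    liftW U s ≫ πj U j = sW U s j := liftW_π U s j

lemma hom_ext_X (U : (D.obj i₀).affineOpens) {T : Scheme.{u}} (b₁ b₂ : T ⟶ X D i₀ U)
    (h : ∀ j, b₁ ≫ πj U j = b₂ ≫ πj U j) : b₁ = b₂ :=
  (L D i₀ U).isLimit.hom_ext h

/-- the value of `f U` on a morphism, as a cone -/
noncomputable def fCone (U : (D.obj i₀).affineOpens) {T : Scheme.{u}} (g : T ⟶ X D i₀ U) :
    (Functor.const (Over i₀)).obj T ⟶ D' D i₀ := (f D i₀ U).app (op T) g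

lemma sApp_fCone (U : (D.obj i₀).affineOpens) {T : Scheme.{u}} (g : T ⟶ X D i₀ U) (j : Over i₀) :
    sApp (fCone U g) j = g ≫ πj U j ≫ ιj U j := rfl

/-- pulling back a cone -/
def pull {T T' : Scheme.{u}} (a : T' ⟶ T) (s : (Functor.const (Over i₀)).obj T ⟶ D' D i₀) :
    (Functor.const (Over i₀)).obj T' ⟶ D' D i₀ := (Functor.const _).map a ≫ s

omit [IsCofiltered I] [∀ {i j : I} (f : i ⟶ j), IsAffineHom (D.map f)] in
lemma sApp_pull {T T' : Scheme.{u}} (a : T' ⟶ T)
    (s : (Functor.const (Over i₀)).obj T ⟶ D' D i₀) (j : Over i₀) :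
    sApp (pull a s) j = a ≫ sApp s j := rfl

/-- the cone of a map from a representable -/
def gCone {T : Scheme.{u}} (g : yoneda.obj T ⟶ (D' D i₀).cones) :
    (Functor.const (Over i₀)).obj T ⟶ D' D i₀ := yonedaEquiv g

omit [IsCofiltered I] [∀ {i j : I} (f : i ⟶ j), IsAffineHom (D.map f)] in
lemma g_app {T T' : Scheme.{u}} (g : yoneda.obj T ⟶ (D' D i₀).cones) (a : T' ⟶ T) :
    g.app (op T') a = pull a (gCone g) := by
  have h1 : g.app (op T') a = (D' D i₀).cones.map a.op (yonedaEquiv g) := by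
    rw [yonedaEquiv_naturality]
    simp [yonedaEquiv]
  rw [h1]
  rfl

omit [IsCofiltered I] [∀ {i j : I} (f : i ⟶ j), IsAffineHom (D.map f)] in
lemma cone_ext {T : Scheme.{u}} (s₁ s₂ : (Functor.const (Over i₀)).obj T ⟶ D' D i₀)
    (h : ∀ j, sApp s₁ j = sApp s₂ j) : s₁ = s₂ := by
  apply NatTrans.ext
  funext j
  exact h j

lemma comm_sq (U : (D.obj i₀).affineOpens) {T T' : Scheme.{u}}
    (s : (Functor.const (Over i₀)).obj T ⟶ D' D i₀) (c : T' ⟶ (W U s).toScheme) :
    fCone U (c ≫ liftW U s) = pull (c ≫ (W U s).ι) s := by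
  apply cone_ext
  intro j
  rw [sApp_fCone, sApp_pull, Category.assoc, ← Category.assoc (liftW U s),
    liftW_πj, sW_ι, Category.assoc]

lemma exists_lift_sq (U : (D.obj i₀).affineOpens) {T T' : Scheme.{u}}
    (s : (Functor.const (Over i₀)).obj T ⟶ D' D i₀) (b : T' ⟶ X D i₀ U) (a : T' ⟶ T)
    (h : fCone U b = pull a s) :
    ∃ c : T' ⟶ (W U s).toScheme, c ≫ liftW U s = b ∧ c ≫ (W U s).ι = a := by
  have h' : ∀ j, b ≫ πj U j ≫ ιj U j = a ≫ sApp s j := by
    intro j
    have := congrArg (fun s => sApp s j) h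
    simpa only [sApp_fCone, sApp_pull] using this
  have hr : Set.range a ⊆ Set.range (W U s).ι := by
    rw [Scheme.Opens.range_ι]
    rintro _ ⟨x, rfl⟩
    change (sApp s (Over.mk (𝟙 i₀))) (a x) ∈ U.1
    rw [← Scheme.Hom.comp_apply, ← h' (Over.mk (𝟙 i₀))]
    have h3 : ((b ≫ πj U (Over.mk (𝟙 i₀))) ≫ ιj U (Over.mk (𝟙 i₀))) x ∈
        Set.range (ιj U (Over.mk (𝟙 i₀))) := ⟨_, rfl⟩
    rw [range_ιj] at h3
    rw [Category.assoc] at h3
    have h4 : (D.map (Over.mk (𝟙 i₀)).hom)
        ((b ≫ πj U (Over.mk (𝟙 i₀)) ≫ ιj U (Over.mk (𝟙 i₀))) x) ∈ U.1 := h3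
    have h5 : D.map (Over.mk (𝟙 i₀)).hom = 𝟙 (D.obj i₀) := D.map_id i₀
    rw [h5] at h4
    exact h4
  refine ⟨IsOpenImmersion.lift (W U s).ι a hr, ?_, IsOpenImmersion.lift_fac _ _ _⟩
  apply hom_ext_X
  intro j
  rw [← cancel_mono (ιj U j)]
  simp only [Category.assoc]
  rw [← Category.assoc (liftW U s), liftW_πj, sW_ι, ← Category.assoc,
    IsOpenImmersion.lift_fac, h']

theorem isPullback_liftW (U : (D.obj i₀).affineOpens) {T : Scheme.{u}}
    (g : yoneda.obj T ⟶ (F D i₀).1) :
    IsPullback (yoneda.map (liftW U (gCone g))) (yoneda.map (W U (gCone g)).ι)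
      (f D i₀ U) g := by
  apply IsPullback.of_forall_isPullback_app
  rintro ⟨T'⟩
  rw [Types.isPullback_iff]
  refine ⟨?_, ?_, ?_⟩
  · ext c
    have := comm_sq U (gCone g) (T' := T') c
    rw [← g_app] at this
    exact this
  · intro c₁ c₂ h
    have h2 : c₁ ≫ (W U (gCone g)).ι = c₂ ≫ (W U (gCone g)).ι := h.2
    exact (cancel_mono _).1 h2
  · intro b a h
    have h0 : fCone U b = pull a (gCone g) := by
      rw [← g_app]
      exact h
    obtain ⟨c, hc1, hc2⟩ := exists_lift_sq U (gCone g) b a h0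
    exact ⟨c, hc1, hc2⟩

theorem f_isOpenImmersion (U : (D.obj i₀).affineOpens) :
    IsOpenImmersion.presheaf (f D i₀ U) := by
  apply MorphismProperty.relative.of_exists
  intro T g
  exact ⟨(W U (gCone g)).toScheme, yoneda.map (liftW U (gCone g)), (W U (gCone g)).ι,
    isPullback_liftW U g, inferInstance⟩

omit [∀ {i j : I} (f : i ⟶ j), IsAffineHom (D.map f)] [IsCofiltered I] in
lemma iSup_W {T : Scheme.{u}} (s : (Functor.const (Over i₀)).obj T ⟶ D' D i₀) :
    IsOpenCover (fun U : (D.obj i₀).affineOpens => W U s) := by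
  rw [IsOpenCover]
  apply top_le_iff.1
  intro x _
  obtain ⟨_, ⟨V, hV, rfl⟩, hxV, -⟩ := (D.obj i₀).isBasis_affineOpens.exists_subset_of_mem_open
    (Set.mem_univ ((sApp s (Over.mk (𝟙 i₀))) x)) isOpen_univ
  exact Opens.mem_iSup.2 ⟨⟨V, hV⟩, hxV⟩

instance : Presheaf.IsLocallySurjective Scheme.zariskiTopology (Sigma.desc (f D i₀)) where
  imageSieve_mem {T} s := by
    let s' : (Functor.const (Over i₀)).obj T ⟶ D' D i₀ := s
    refine Scheme.zariskiTopology.superset_covering ?_
      (T.openCoverOfIsOpenCover _ (iSup_W s')).mem_grothendieckTopology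
    refine (Sieve.generate_le_iff _ _).2 ?_
    rintro V a ⟨U⟩
    refine ⟨(Sigma.ι (fun U => yoneda.obj (X D i₀ U)) U).app (op (W U s').toScheme)
      (liftW U s'), ?_⟩
    have h1 : (Sigma.ι (fun U => yoneda.obj (X D i₀ U)) U ≫ Sigma.desc (f D i₀)) =
      f D i₀ U := Sigma.ι_desc _ _
    have h2 := comm_sq U s' (𝟙 (W U s').toScheme)
    rw [Category.id_comp, Category.id_comp] at h2
    have h3 : (Sigma.ι (fun U => yoneda.obj (X D i₀ U)) U ≫ Sigma.desc (f D i₀)).app
        (op (W U s').toScheme) (liftW U s') = pull (W U s').ι s' := by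
      rw [h1]; exact h2
    exact h3

variable (D i₀)

theorem hasLimit_D' : HasLimit (D' D i₀) := by
  have hrep : (F D i₀).1.IsRepresentable :=
    Scheme.LocalRepresentability.isRepresentable (F := F D i₀) (f := f D i₀)
      (fun U => f_isOpenImmersion U)
  obtain ⟨Y, ⟨h⟩⟩ := hrep
  exact ⟨⟨⟨_, IsLimit.ofRepresentableBy h⟩⟩⟩

include i₀ in
theorem hasLimit_of_index : HasLimit D := by
  have := hasLimit_D' D i₀
  exact Functor.Initial.hasLimit_of_comp (Over.forget i₀)

theorem hasLimit : HasLimit D := by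
  obtain ⟨i₀⟩ := IsCofiltered.nonempty (C := I)
  exact hasLimit_of_index D i₀

end main

end Groth.Agent.Lib.Helper9.AffLimExists
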