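import Groth.Agent.Lib.Helper9.Perf6
import Mathlib.AlgebraicGeometry.Morphisms.QuasiSeparated

universe u

open CategoryTheory CategoryTheory.Limits AlgebraicGeometry TopologicalSpace Opposite

namespace Groth.Agent.Lib.Helper9.Perf

variable (p : ℕ) [Fact p.Prime]

section ring
variable {R : Type u} [CommRing R] (h : (p : R) = 0)
include h

theorem iterate_powHom (m : ℕ) (r : R) : (FrobSch.powHom p R h)^[m] r = r ^ p ^ m := by
  induction m generalizing r with
  | zero => simp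
  | succ m ih => rw [Function.iterate_succ_apply, ih, FrobSch.powHom_apply, ← pow_mul, pow_succ']

theorem sub_pow_p_pow (a b : R) (m : ℕ) : (a - b) ^ p ^ m = a ^ p ^ m - b ^ p ^ m := by
  rw [← iterate_powHom p h, ← iterate_powHom p h, ← iterate_powHom p h]
  rw [← RingHom.coe_pow, map_sub]

theorem sum_pow_p_pow {ι : Type*} (s : Finset ι) (a : ι → R) (m : ℕ) :
    (∑ i ∈ s, a i) ^ p ^ m = ∑ i ∈ s, a i ^ p ^ m := by
  rw [← iterate_powHom p h, ← RingHom.coe_pow, map_sum]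
  refine Finset.sum_congr rfl fun i _ => ?_
  rw [RingHom.coe_pow, iterate_powHom p h]

end ring

section glue

variable {X : Scheme.{u}}

theorem exists_glue (S U : X.Opens) (a : Γ(X, S)) (b : Γ(X, U))
    (hab : X.presheaf.map (homOfLE (inf_le_left : S ⊓ U ≤ S)).op a =
      X.presheaf.map (homOfLE (inf_le_right : S ⊓ U ≤ U)).op b) :
    ∃ c : Γ(X, S ⊔ U), X.presheaf.map (homOfLE (le_sup_left : S ≤ S ⊔ U)).op c = a ∧
      X.presheaf.map (homOfLE (le_sup_right : U ≤ S ⊔ U)).op c = b := by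
  refine ⟨(X.sheaf.objSupIsoProdEqLocus S U).inv ⟨⟨a, b⟩, hab⟩, ?_, ?_⟩
  · exact X.sheaf.objSupIsoProdEqLocus_inv_fst S U _
  · exact X.sheaf.objSupIsoProdEqLocus_inv_snd S U _

theorem eq_of_res_sup {S U W : X.Opens} (hS : S ≤ W) (hU : U ≤ W) (hW : W ≤ S ⊔ U)
    (c c' : Γ(X, W))
    (h1 : X.presheaf.map (homOfLE hS).op c = X.presheaf.map (homOfLE hS).op c')
    (h2 : X.presheaf.map (homOfLE hU).op c = X.presheaf.map (homOfLE hU).op c') : c = c' :=
  X.sheaf.eq_of_locally_eq₂ (homOfLE hS) (homOfLE hU) hW c c' h1 h2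

end glue


section scheme
variable {X' X : Scheme.{u}} (π : X' ⟶ X)

theorem app_res {S T : X.Opens} (hST : S ≤ T) (x : Γ(X, T)) :
    π.app S (X.presheaf.map (homOfLE hST).op x) =
      X'.presheaf.map (homOfLE (show π ⁻¹ᵁ S ≤ π ⁻¹ᵁ T from fun _ hx => hST hx)).op
        (π.app T x) := by
  have := π.naturality (homOfLE hST).op
  exact congr($this x)

theorem isNilpotent_of_app_eq_zero [Surjective π] {S : X.Opens} (hS : IsCompact (S : Set X))
    (x : Γ(X, S)) (hx : π.app S x = 0) : IsNilpotent x := by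
  rw [Scheme.isNilpotent_iff_basicOpen_eq_bot_of_isCompact hS]
  have h1 : π ⁻¹ᵁ X.basicOpen x = X'.basicOpen (π.app S x) := Scheme.preimage_basicOpen π x
  rw [hx, Scheme.basicOpen_zero] at h1
  rw [eq_bot_iff]
  intro y hy
  obtain ⟨y', rfl⟩ := π.surjective y
  have : y' ∈ π ⁻¹ᵁ X.basicOpen x := hy
  rw [h1] at this
  exact this.elim

end scheme


section affine

/-- Every global function upstairs has a `p`-power coming from downstairs. -/
def PowSurj {X' X : Scheme.{u}} (π : X' ⟶ X) : Prop :=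
  ∀ h' : Γ(X', ⊤), ∃ (n : ℕ) (h : Γ(X, ⊤)), π.appTop h = h' ^ p ^ n

omit [Fact p.Prime] in
theorem powSurj_of_iso {X₁ Y₁ X₂ Y₂ : Scheme.{u}} (π₁ : X₁ ⟶ Y₁) (π₂ : X₂ ⟶ Y₂) (e : X₁ ≅ X₂)
    (d : Y₁ ≅ Y₂) (w : e.hom ≫ π₂ = π₁ ≫ d.hom) (H : PowSurj p π₂) : PowSurj p π₁ := by
  intro h'
  obtain ⟨n, g, hg⟩ := H (e.inv.appTop h')
  refine ⟨n, d.hom.appTop g, ?_⟩
  have h1 : π₁.appTop (d.hom.appTop g) = (π₁ ≫ d.hom).appTop g := by
    rw [Scheme.Hom.comp_appTop]; rfl
  have h2 : (e.hom ≫ π₂).appTop g = e.hom.appTop (π₂.appTop g) := by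
    rw [Scheme.Hom.comp_appTop]; rfl
  rw [h1, ← w, h2, hg, map_pow]
  congr 1
  have : (e.hom ≫ e.inv).appTop h' = h' := by rw [e.hom_inv_id]; simp
  rw [Scheme.Hom.comp_appTop] at this
  exact this

theorem powSurj_SpecMap_of (A : Type u) [CommRing A] [CharP A p] :
    PowSurj p (Spec.map (CommRingCat.ofHom (PerfectClosure.of A p))) := by
  intro h'
  set φ := CommRingCat.ofHom (PerfectClosure.of A p)
  let a' : PerfectClosure A p := (Scheme.ΓSpecIso (.of (PerfectClosure A p))).hom h'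
  induction ha : a' using PerfectClosure.induction_on with
  | _ x =>
    obtain ⟨n, a⟩ := x
    refine ⟨n, (Scheme.ΓSpecIso (.of A)).inv a, ?_⟩
    have h1 : (Spec.map φ).appTop ((Scheme.ΓSpecIso (.of A)).inv a) =
        (Scheme.ΓSpecIso (.of (PerfectClosure A p))).inv (φ a) := by
      have := Scheme.ΓSpecIso_inv_naturality φ
      exact (congr($this a)).symm
    rw [h1]
    have h2 : (PerfectClosure.of A p) a = a' ^ p ^ n := by
      rw [ha, ← PerfectClosure.iterate_frobenius_mk A p n a, iterate_frobenius]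
    change (Scheme.ΓSpecIso (.of (PerfectClosure A p))).inv ((PerfectClosure.of A p) a) = _
    rw [h2, map_pow]
    congr 1
    simp [a']

end affine


section scheme2
variable {X' X : Scheme.{u}} (π : X' ⟶ X) [FrobSch.IsCharP X p] [FrobSch.IsCharP X' p]
  (hπ : FrobSch.IsPerfection π p)
include hπ

theorem powSurj_of_isAffine [IsAffine X] : PowSurj p π := by
  let A : CommRingCat.{u} := Γ(X, ⊤)
  rcases subsingleton_or_nontrivial A with hs | hn
  · intro h'
    have h10 : (1 : Γ(X', ⊤)) = 0 := by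
      have : (1 : A) = 0 := Subsingleton.elim _ _
      simpa using congrArg π.appTop.hom this
    have : Subsingleton Γ(X', ⊤) := subsingleton_of_zero_eq_one h10.symm
    exact ⟨0, 0, Subsingleton.elim _ _⟩
  · have hp0 : (p : A) = 0 := FrobSch.IsCharP.natCast_eq_zero
    have : CharP A p := (CharP.charP_iff_prime_eq_zero Fact.out).2 hp0
    have h2 := isPerfection_comp_iso p _ hπ X.isoSpec.hom
    obtain ⟨e, he⟩ := exists_iso_of_isPerfection p _ _ h2 (isPerfection_SpecMap_of p A)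
    exact powSurj_of_iso p π _ e X.isoSpec he (powSurj_SpecMap_of p A)

theorem exists_app_eq_pow_of_isAffineOpen {U : X.Opens} (hU : IsAffineOpen U)
    (h' : Γ(X', π ⁻¹ᵁ U)) : ∃ (n : ℕ) (h : Γ(X, U)), π.app U h = h' ^ p ^ n := by
  have : IsAffine (U : Scheme.{u}) := hU
  have : FrobSch.IsCharP (U : Scheme.{u}) p := .of_hom U.ι p
  have : FrobSch.IsCharP ((π ⁻¹ᵁ U : X'.Opens) : Scheme.{u}) p := .of_hom (π ⁻¹ᵁ U).ι p
  have hres := isPerfection_of_isPullback_of_isOpenImmersion p π U.ι (π ⁻¹ᵁ U).ι (π ∣_ U)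
    (isPullback_morphismRestrict π U).flip hπ
  obtain ⟨n, g, hg⟩ := powSurj_of_isAffine p (π ∣_ U) hres ((π ⁻¹ᵁ U).topIso.inv h')
  refine ⟨n, U.topIso.hom g, ?_⟩
  have key : (π ∣_ U).appTop = U.topIso.hom ≫ π.app U ≫ (π ⁻¹ᵁ U).topIso.inv := by
    have := Scheme.Hom.resLE_app_top π (U := U) (V := π ⁻¹ᵁ U) le_rfl
    rw [Scheme.Hom.appLE_eq_app, Scheme.Hom.resLE_eq_morphismRestrict] at this
    exact this
  have h3 : (π ⁻¹ᵁ U).topIso.inv (π.app U (U.topIso.hom g)) =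
      (π ⁻¹ᵁ U).topIso.inv (h' ^ p ^ n) := by
    rw [map_pow, ← hg, key]; rfl
  have hinj : Function.Injective (π ⁻¹ᵁ U).topIso.inv :=
    (ConcreteCategory.bijective_of_isIso (π ⁻¹ᵁ U).topIso.inv).1
  exact hinj h3


theorem exists_app_eq_pow [QuasiSeparatedSpace X] (S : X.Opens) (hS : IsCompact (S : Set X)) :
    ∀ h' : Γ(X', π ⁻¹ᵁ S), ∃ (n : ℕ) (h : Γ(X, S)), π.app S h = h' ^ p ^ n := by
  have hsurj : Surjective π := surjective_of_isPerfection p π hπ
  refine compact_open_induction_on S hS ?_ ?_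
  · intro h'
    refine ⟨0, 0, ?_⟩
    have : Subsingleton Γ(X', π ⁻¹ᵁ ⊥) :=
      CommRingCat.subsingleton_of_isTerminal (X'.sheaf.isTerminalOfEqEmpty (by simp))
    exact Subsingleton.elim _ _
  · intro S hS U IH h'
    have leS : π ⁻¹ᵁ S ≤ π ⁻¹ᵁ (S ⊔ U.1) := fun _ hx => Or.inl hx
    have leU : π ⁻¹ᵁ U.1 ≤ π ⁻¹ᵁ (S ⊔ U.1) := fun _ hx => Or.inr hx
    obtain ⟨n₁, h₁, e₁⟩ := IH (X'.presheaf.map (homOfLE leS).op h')
    obtain ⟨n₂, h₂, e₂⟩ := exists_app_eq_pow_of_isAffineOpen p π hπ U.2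
      (X'.presheaf.map (homOfLE leU).op h')
    let k₁ : Γ(X, S) := h₁ ^ p ^ n₂
    let k₂ : Γ(X, U.1) := h₂ ^ p ^ n₁
    have ek₁ : π.app S k₁ = (X'.presheaf.map (homOfLE leS).op h') ^ p ^ (n₁ + n₂) := by
      simp only [k₁, map_pow, e₁, ← pow_mul, ← pow_add]
    have ek₂ : π.app U.1 k₂ = (X'.presheaf.map (homOfLE leU).op h') ^ p ^ (n₁ + n₂) := by
      simp only [k₂, map_pow, e₂, ← pow_mul, ← pow_add, add_comm]
    clear_value k₁ k₂
    have hd : π.app (S ⊓ U.1) (X.presheaf.map (homOfLE inf_le_left).op k₁ -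
        X.presheaf.map (homOfLE inf_le_right).op k₂) = 0 := by
      rw [map_sub, app_res, app_res, ek₁, ek₂, map_pow, map_pow, sub_eq_zero]
      congr 1
      simp only [← CommRingCat.comp_apply, ← Functor.map_comp, ← op_comp]
      rfl
    have hcomp : IsCompact ((S ⊓ U.1 : X.Opens) : Set X) :=
      QuasiSeparatedSpace.inter_isCompact _ _ S.2 hS U.1.2 U.2.isCompact
    obtain ⟨m, hm⟩ := isNilpotent_of_app_eq_zero π hcomp _ hd
    have hm' := pow_eq_zero_of_le (Nat.lt_pow_self (Fact.out : p.Prime).one_lt).le hm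
    have hp0 : (p : Γ(X, S ⊓ U.1)) = 0 := FrobSch.natCast_eq_zero_app X p _
    rw [sub_pow_p_pow p hp0, sub_eq_zero, ← map_pow, ← map_pow] at hm'
    obtain ⟨c, hc₁, hc₂⟩ := exists_glue S U.1 (k₁ ^ p ^ m) (k₂ ^ p ^ m) hm'
    refine ⟨n₁ + n₂ + m, c, ?_⟩
    apply eq_of_res_sup leS leU (fun x hx => hx)
    · rw [← app_res π le_sup_left c, hc₁, map_pow, map_pow, ek₁, ← pow_mul, ← pow_add]
    · rw [← app_res π le_sup_right c, hc₂, map_pow, map_pow, ek₂, ← pow_mul, ← pow_add]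

end scheme2

end Groth.Agent.Lib.Helper9.Perf
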