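import Groth.Agent.Lib.Helper9.Perf6

universe u

open CategoryTheory CategoryTheory.Limits AlgebraicGeometry TopologicalSpace

namespace Groth.Agent.Lib.Helper9.Perf

variable (p : ℕ) [Fact p.Prime]

theorem epi_SpecMap_of_field (K : Type u) [Field K] [CharP K p] :
    Epi (Spec.map (CommRingCat.ofHom (PerfectClosure.of K p))) := by
  have : Flat (Spec.map (CommRingCat.ofHom (PerfectClosure.of K p))) := by
    rw [HasRingHomProperty.Spec_iff (P := @Flat)]
    let _ := (PerfectClosure.of K p).toAlgebra
    exact (inferInstance : Module.Flat K (PerfectClosure K p))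
  exact Flat.epi_of_flat_of_surjective _

section scheme
variable {X' X : Scheme.{u}} (π : X' ⟶ X) [FrobSch.IsCharP X p] [FrobSch.IsCharP X' p]
  (hπ : FrobSch.IsPerfection π p)
include hπ

theorem universallyInjective_of_isPerfection : UniversallyInjective π := by
  refine ((tfae_universallyInjective π).out 0 1).mpr ?_
  intro K _ g₁ g₂ h
  dsimp only at h
  haveI : FrobSch.IsCharP (Spec (.of K)) p := FrobSch.IsCharP.of_hom g₁ p
  have hp0 : (p : K) = 0 := by
    have := FrobSch.IsCharP.natCast_eq_zero (X := Spec (.of K)) (p := p)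
    have h2 := congrArg (Scheme.ΓSpecIso (.of K)).commRingCatIsoToRingEquiv this
    rwa [map_natCast, map_zero] at h2
  haveI : CharP K p := (CharP.charP_iff_prime_eq_zero Fact.out).2 hp0
  haveI := epi_SpecMap_of_field p K
  rw [← cancel_epi (Spec.map (CommRingCat.ofHom (PerfectClosure.of K p)))]
  apply isPerfection_hom_ext p π hπ (isPerfection_SpecMap_of p K).1
  rw [Category.assoc, Category.assoc, h]

theorem isUnivHomeo_of_isPerfection : FlatMor.IsUnivHomeo π := by
  haveI := isIntegralHom_of_isPerfection p π hπ
  haveI := surjective_of_isPerfection p π hπ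
  haveI := universallyInjective_of_isPerfection p π hπ
  exact isUnivHomeo_of_integral π

theorem isHomeomorph_of_isPerfection : IsHomeomorph π.base :=
  isUnivHomeo_of_isPerfection p π hπ (𝟙 _) (𝟙 _) π (IsPullback.of_id_snd)

end scheme

end Groth.Agent.Lib.Helper9.Perf
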