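import Groth.Agent.Lib.Helper9.AffPerf1
import Groth.Agent.Lib.Helper9.Perf7

universe u

open CategoryTheory CategoryTheory.Limits AlgebraicGeometry TopologicalSpace Opposite

namespace Groth.Agent.Lib.Helper9.Perf

variable (p : ℕ) [Fact p.Prime]

section ring
variable {R : Type u} [CommRing R] (h : (p : R) = 0)
include h

theorem add_pow_p_pow (a b : R) (m : ℕ) : (a + b) ^ p ^ m = a ^ p ^ m + b ^ p ^ m := by
  rw [← iterate_powHom p h, ← iterate_powHom p h, ← iterate_powHom p h]
  rw [← RingHom.coe_pow, map_add]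

end ring

section scheme
variable {X' X : Scheme.{u}} (π : X' ⟶ X) [FrobSch.IsCharP X p] [FrobSch.IsCharP X' p]
  (hπ : FrobSch.IsPerfection π p)
include hπ

theorem compactSpace_of_isPerfection [CompactSpace X'] : CompactSpace X :=
  ((isHomeomorph_of_isPerfection p π hπ).homeomorph π.base).compactSpace

theorem quasiSeparatedSpace_of_isPerfection [QuasiSeparatedSpace X'] : QuasiSeparatedSpace X :=
  QuasiSeparatedSpace.of_isOpenEmbedding
    ((isHomeomorph_of_isPerfection p π hπ).homeomorph π.base).symm.isOpenEmbedding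

/-- Elements of the extension of an ideal have a `p`-power coming from the ideal. -/
theorem exists_mem_of_mem_map [CompactSpace X] [QuasiSeparatedSpace X] (I : Ideal Γ(X, ⊤))
    (z : Γ(X', ⊤)) (hz : z ∈ Ideal.map π.appTop.hom I) :
    ∃ (M : ℕ) (u : Γ(X, ⊤)), u ∈ I ∧ π.appTop u = z ^ p ^ M := by
  have hp0 : (p : Γ(X', ⊤)) = 0 := FrobSch.IsCharP.natCast_eq_zero
  have hpp : ∀ k : ℕ, p ^ k ≠ 0 := fun k => pow_ne_zero _ (Fact.out : p.Prime).ne_zero
  unfold Ideal.map at hz
  induction hz using Submodule.span_induction with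
  | mem z hz =>
    obtain ⟨i, hi, rfl⟩ := hz
    exact ⟨0, i, hi, by simp⟩
  | zero => exact ⟨0, 0, I.zero_mem, by simp⟩
  | add z₁ z₂ _ _ h₁ h₂ =>
    obtain ⟨M₁, u₁, hu₁, e₁⟩ := h₁
    obtain ⟨M₂, u₂, hu₂, e₂⟩ := h₂
    refine ⟨M₁ + M₂, u₁ ^ p ^ M₂ + u₂ ^ p ^ M₁, I.add_mem (I.pow_mem_of_mem hu₁ _ (Nat.pos_of_ne_zero (hpp _)))
      (I.pow_mem_of_mem hu₂ _ (Nat.pos_of_ne_zero (hpp _))), ?_⟩
    rw [map_add, map_pow, map_pow, e₁, e₂, add_pow_p_pow p hp0, ← pow_mul, ← pow_mul,
      ← pow_add, ← pow_add, add_comm M₂ M₁]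
  | smul a' z _ h₁ =>
    obtain ⟨M, u, hu, e⟩ := h₁
    obtain ⟨k, a, ha⟩ := exists_app_eq_pow p π hπ ⊤ isCompact_univ a'
    refine ⟨M + k, a ^ p ^ M * u ^ p ^ k, I.mul_mem_left _ (I.pow_mem_of_mem hu _ (Nat.pos_of_ne_zero (hpp _))), ?_⟩
    have ha' : π.appTop a = a' ^ p ^ k := ha
    rw [map_mul, map_pow, map_pow, ha', e, smul_eq_mul, mul_pow, ← pow_mul, ← pow_mul,
      ← pow_add, ← pow_add, add_comm k M]


/-- A scheme whose perfection is affine is affine. -/
theorem isAffine_of_isPerfection [IsAffine X'] : IsAffine X := by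
  have hsurj : Surjective π := surjective_of_isPerfection p π hπ
  have : CompactSpace X := compactSpace_of_isPerfection p π hπ
  have : QuasiSeparatedSpace X := quasiSeparatedSpace_of_isPerfection p π hπ
  have hpp : ∀ k : ℕ, 0 < p ^ k := fun k => pow_pos (Fact.out : p.Prime).pos _
  -- local data
  have key : ∀ x' : X', ∃ (h : Γ(X, ⊤)) (U : X.affineOpens),
      x' ∈ X'.basicOpen (π.appTop h) ∧ X.basicOpen h ≤ U.1 := by
    intro x'
    obtain ⟨_, ⟨U, hU, rfl⟩, hxU, -⟩ := X.isBasis_affineOpens.exists_subset_of_mem_open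
      (Set.mem_univ (π x')) isOpen_univ
    obtain ⟨_, ⟨_, ⟨h', rfl⟩, rfl⟩, hxV, hVU⟩ := (isBasis_basicOpen X').exists_subset_of_mem_open
      (show x' ∈ ((π ⁻¹ᵁ U : X'.Opens) : Set X') from hxU) (π ⁻¹ᵁ U).2
    obtain ⟨n, h, hh⟩ := exists_app_eq_pow p π hπ ⊤ isCompact_univ h'
    have hh' : π.appTop h = h' ^ p ^ n := hh
    have hb : X'.basicOpen (π.appTop h) = X'.basicOpen h' := by
      rw [hh', Scheme.basicOpen_pow _ _ (hpp n)]
    refine ⟨h, ⟨U, hU⟩, hb ▸ hxV, ?_⟩
    intro y hy
    obtain ⟨y', rfl⟩ := π.surjective y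
    have h1 : y' ∈ π ⁻¹ᵁ X.basicOpen h := hy
    rw [Scheme.preimage_basicOpen] at h1
    exact hVU (hb ▸ h1)
  choose h U hx hU using key
  refine isAffine_of_isAffineOpen_basicOpen (Set.range h) ?_ ?_
  · -- the ideal is the unit ideal
    set I := Ideal.span (Set.range h) with hI
    have hJ : Ideal.map π.appTop.hom I = ⊤ := by
      rw [hI, Ideal.map_span, ← Set.range_comp]
      rw [← (isAffineOpen_top X').iSup_basicOpen_eq_self_iff]
      rw [eq_top_iff]
      intro x' _
      exact TopologicalSpace.Opens.mem_iSup.2 ⟨⟨π.appTop (h x'), ⟨x', rfl⟩⟩, hx x'⟩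
    obtain ⟨M, u, hu, e⟩ := exists_mem_of_mem_map p π hπ I 1 (hJ ▸ Submodule.mem_top)
    rw [one_pow] at e
    have hnil : IsNilpotent (u - 1) := by
      apply isNilpotent_of_app_eq_zero π (S := ⊤) isCompact_univ
      change π.appTop (u - 1) = 0
      rw [map_sub, e, map_one, sub_self]
    have hunit : IsUnit u := by
      have := hnil.isUnit_add_one
      rwa [sub_add_cancel] at this
    exact Ideal.eq_top_of_isUnit_mem _ hu hunit
  · rintro _ ⟨x', rfl⟩
    have h1 := (U x').2.basicOpen (X.presheaf.map (homOfLE le_top).op (h x'))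
    rw [Scheme.basicOpen_res] at h1
    rwa [inf_eq_right.2 (hU x')] at h1

end scheme


set_option backward.isDefEq.respectTransparency.types false in
theorem isAffineHom_iff_perfection {X Y XP YP : Scheme.{u}}
    [FrobSch.IsCharP X p] [FrobSch.IsCharP Y p] [FrobSch.IsCharP XP p] [FrobSch.IsCharP YP p]
    (πX : XP ⟶ X) (πY : YP ⟶ Y) (hX : FrobSch.IsPerfection πX p) (hY : FrobSch.IsPerfection πY p)
    (f : X ⟶ Y) (fP : XP ⟶ YP) (w : fP ≫ πY = πX ≫ f) :
    IsAffineHom f ↔ IsAffineHom fP := by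
  have hiX : IsIntegralHom πX := isIntegralHom_of_isPerfection p πX hX
  have hiY : IsIntegralHom πY := isIntegralHom_of_isPerfection p πY hY
  constructor
  · intro hf
    have : IsAffineHom (fP ≫ πY) := by rw [w]; infer_instance
    exact IsAffineHom.of_comp fP πY
  · intro hfP
    have hcomp : IsAffineHom (πX ≫ f) := by rw [← w]; infer_instance
    rw [HasAffineProperty.iff_of_openCover (P := @IsAffineHom) Y.affineCover]
    intro i
    set j := Y.affineCover.f i
    change IsAffine (pullback f j)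
    let XV := pullback f j
    let XPV := pullback πX (pullback.fst f j)
    have sq1 : IsPullback (pullback.fst πX (pullback.fst f j)) (pullback.snd πX (pullback.fst f j))
        πX (pullback.fst f j) := IsPullback.of_hasPullback _ _
    have sq2 : IsPullback (pullback.fst f j) (pullback.snd f j) f j := IsPullback.of_hasPullback _ _
    have sq3 := sq1.paste_vert sq2
    have haff : IsAffineHom (pullback.snd πX (pullback.fst f j) ≫ pullback.snd f j) :=
      MorphismProperty.of_isPullback (P := @IsAffineHom) sq3 hcomp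
    have : IsAffine XPV := isAffine_of_isAffineHom (pullback.snd πX (pullback.fst f j) ≫ pullback.snd f j)
    have : FrobSch.IsCharP XV p := .of_hom (pullback.fst f j) p
    have : FrobSch.IsCharP XPV p := .of_hom (pullback.fst πX (pullback.fst f j)) p
    have hperf : FrobSch.IsPerfection (pullback.snd πX (pullback.fst f j)) p :=
      isPerfection_of_isPullback_of_isOpenImmersion p πX (pullback.fst f j) _ _ sq1 hX
    exact isAffine_of_isPerfection p (pullback.snd πX (pullback.fst f j)) hperf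

end Groth.Agent.Lib.Helper9.Perf
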