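import Groth.Agent.Lib.Helper9.DescMain1

set_option backward.isDefEq.respectTransparency false
set_option autoImplicit false
set_option linter.unusedSectionVars false
set_option linter.unusedVariables false
universe v u
open CategoryTheory CategoryTheory.Limits AlgebraicGeometry Opposite

namespace Groth.Agent.Lib.Helper9.DescMain

open Groth.Agent.Lib.Helper9.DescFF Groth.Agent.Lib.Helper9.DescSec
  Groth.Agent.Lib.Helper9.DescCoprod Groth.Agent.Lib.Helper9.DescAff

section sigma

variable {n : ℕ} {Y V : Fin n → Scheme.{u}} (q : ∀ j, Y j ⟶ V j)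

/-- the comparison of a summand with the preimage of the corresponding summand of the target -/
noncomputable def sigmaCmp (j : Fin n) : Y j ⟶ pullback (Limits.Sigma.map q) (Sigma.ι V j) :=
  pullback.lift (Sigma.ι Y j) (q j) (Limits.Sigma.ι_map _ _)

theorem sigmaCmp_fst (j : Fin n) :
    sigmaCmp q j ≫ pullback.fst (Limits.Sigma.map q) (Sigma.ι V j) = Sigma.ι Y j :=
  pullback.lift_fst _ _ _

theorem sigmaCmp_snd (j : Fin n) :
    sigmaCmp q j ≫ pullback.snd (Limits.Sigma.map q) (Sigma.ι V j) = q j :=
  pullback.lift_snd _ _ _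

instance isIso_sigmaCmp (j : Fin n) : IsIso (sigmaCmp q j) := by
  obtain ⟨d, hd1, hd2⟩ := exists_lift_sigma q
    (pullback.fst (Limits.Sigma.map q) (Sigma.ι V j))
    (pullback.snd (Limits.Sigma.map q) (Sigma.ι V j)) pullback.condition
  refine ⟨d, ?_, ?_⟩
  · rw [← cancel_mono (Sigma.ι Y j), Category.assoc, hd1, sigmaCmp_fst, Category.id_comp]
  · apply pullback.hom_ext
    · rw [Category.assoc, sigmaCmp_fst, hd1, Category.id_comp]
    · rw [Category.assoc, sigmaCmp_snd, hd2, Category.id_comp]

/-- a property local on the target holds for a finite coproduct of morphisms having it -/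
theorem sigmaMap_of_isZariskiLocalAtTarget (P : MorphismProperty Scheme.{u})
    [IsZariskiLocalAtTarget P] (h : ∀ j, P (q j)) : P (Limits.Sigma.map q) := by
  rw [IsZariskiLocalAtTarget.iff_of_openCover (P := P) (sigmaOpenCover V)]
  intro j
  have e : sigmaCmp q j ≫ pullback.snd (Limits.Sigma.map q) (Sigma.ι V j) = q j :=
    sigmaCmp_snd q j
  have : P (sigmaCmp q j ≫ pullback.snd (Limits.Sigma.map q) (Sigma.ι V j)) := by
    rw [e]; exact h j
  exact (MorphismProperty.cancel_left_of_respectsIso P (sigmaCmp q j) _).1 this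

end sigma

/-- fpqc descent of schemes affine over the cover, family version -/
theorem isEffective_of_isAffineHom {ι : Type u} {S : Scheme.{u}} {U : ι → Scheme.{u}}
    (u : ∀ i, U i ⟶ S) (hu : Presieve.ofArrows U u ∈ Scheme.fpqcPrecoverage S)
    (D : Desc.SchDDFam u) (hD : ∀ i, IsAffineHom (D.obj i).hom) : D.IsEffective :=
  isEffective_of_fpqc (@IsAffineHom)
    (fun m Y V q h => sigmaMap_of_isZariskiLocalAtTarget q (@IsAffineHom) h)
    h3_affine u hu D hD

/-- fpqc descent of schemes affine over `X`, single morphism version -/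
theorem effective_of_isAffineHom {X S : Scheme.{u}} (p : X ⟶ S) [Surjective p] [Flat p]
    [QuasiCompact p] (D : Desc.SchDD p) (hD : IsAffineHom D.obj.hom) :
    ∃ U : Over S, Nonempty ((Desc.toDD p).obj U ≅ D) := by
  apply effective_of_fam
  exact isEffective_of_isAffineHom (fun _ : PUnit.{u + 1} => p) (mem_fpqc_of_pUnit p) _
    (fun _ => hD)

end Groth.Agent.Lib.Helper9.DescMain
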