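import Mathlib
import Groth.Prelude.Def_Desc
import Groth.Agent.Lib.Helper9.PIWeil2

set_option backward.isDefEq.respectTransparency false
set_option maxHeartbeats 800000
set_option autoImplicit false
set_option linter.unusedSectionVars false
set_option linter.unusedVariables false
universe u
open CategoryTheory CategoryTheory.Limits AlgebraicGeometry Opposite TopologicalSpace

namespace Groth.Agent.Lib.Helper9.FlatUH

open Groth.Agent.Lib.Helper9.PIWeil

section rel

variable {X' : Scheme.{u}} (V : Over X') [Etale V.hom]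

/-- two points of `V` (over possibly different points of `X'`) agree after a surjective base
change -/
def Rel {T : Scheme.{u}} {x₀ x₁ : T ⟶ X'} (v : Desc.Lifts V x₀) (w : Desc.Lifts V x₁) : Prop :=
  ∃ (P : Scheme.{u}) (π : P ⟶ T), Surjective π ∧ π ≫ v.1 = π ≫ w.1

theorem rel_refl {T : Scheme.{u}} {x₀ : T ⟶ X'} (v : Desc.Lifts V x₀) : Rel V v v :=
  ⟨T, 𝟙 T, inferInstance, rfl⟩

theorem rel_symm {T : Scheme.{u}} {x₀ x₁ : T ⟶ X'} {v : Desc.Lifts V x₀} {w : Desc.Lifts V x₁}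
    (h : Rel V v w) : Rel V w v := by
  obtain ⟨P, π, hπ, e⟩ := h
  exact ⟨P, π, hπ, e.symm⟩

theorem rel_trans {T : Scheme.{u}} {x₀ x₁ x₂ : T ⟶ X'} {v : Desc.Lifts V x₀}
    {w : Desc.Lifts V x₁} {z : Desc.Lifts V x₂} (h₁ : Rel V v w) (h₂ : Rel V w z) : Rel V v z := by
  obtain ⟨P₁, π₁, hπ₁, e₁⟩ := h₁
  obtain ⟨P₂, π₂, hπ₂, e₂⟩ := h₂
  haveI : Surjective (pullback.fst π₁ π₂) :=
    MorphismProperty.pullback_fst (P := @Surjective) π₁ π₂ hπ₂
  refine ⟨pullback π₁ π₂, pullback.fst π₁ π₂ ≫ π₁, inferInstance, ?_⟩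
  rw [Category.assoc, e₁, Category.assoc, pullback.condition_assoc, e₂, pullback.condition_assoc]

theorem rel_unique {T : Scheme.{u}} {x₀ x₁ : T ⟶ X'} {v : Desc.Lifts V x₀}
    {w w' : Desc.Lifts V x₁} (h : Rel V v w) (h' : Rel V v w') : w = w' := by
  obtain ⟨P, π, hπ, e⟩ := rel_trans V (rel_symm V h) h'
  apply Subtype.ext
  exact Groth.Agent.Lib.Helper28.EtDescent.eq_of_surjective_comp_eq V.hom π _ _
    (w.2.trans w'.2.symm) e

theorem rel_pullback {T T' : Scheme.{u}} (g : T' ⟶ T) {x₀ x₁ : T ⟶ X'} {v : Desc.Lifts V x₀}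
    {w : Desc.Lifts V x₁} (h : Rel V v w) (v' : Desc.Lifts V (g ≫ x₀))
    (w' : Desc.Lifts V (g ≫ x₁)) (hv : v'.1 = g ≫ v.1) (hw : w'.1 = g ≫ w.1) : Rel V v' w' := by
  obtain ⟨P, π, hπ, e⟩ := h
  haveI : Surjective (pullback.fst g π) := MorphismProperty.pullback_fst (P := @Surjective) g π hπ
  refine ⟨pullback g π, pullback.fst g π, inferInstance, ?_⟩
  rw [hv, hw, pullback.condition_assoc, e, pullback.condition_assoc]

end rel

section exist

variable {X' X : Scheme.{u}} (f : X' ⟶ X) [IsSeparated f] [UniversallyInjective f]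
  (V : Over X') [Etale V.hom]

/-- the locus where two points agree -/
theorem exists_rel {T : Scheme.{u}} (x₀ x₁ : T ⟶ X') (h : x₀ ≫ f = x₁ ≫ f)
    (v : Desc.Lifts V x₀) : ∃ w : Desc.Lifts V x₁, Rel V v w := by
  haveI : Surjective (pullback.diagonal f) := (UniversallyInjective.iff_diagonal f).1 inferInstance
  have hΔ : SGA1.UnivSubmersive (pullback.diagonal f) :=
    univSubmersive_of_surjective_of_universallyClosed _
  let l : T ⟶ pullback f f := pullback.lift x₀ x₁ h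
  let δ : pullback l (pullback.diagonal f) ⟶ T := pullback.fst l (pullback.diagonal f)
  have hδ : SGA1.UnivSubmersive δ :=
    MorphismProperty.pullback_fst (P := SGA1.UnivSubmersive.{u}) l (pullback.diagonal f) hΔ
  haveI : Surjective δ :=
    ⟨(Groth.Agent.Lib.Helper28.SubmDescent.isQuotientMap_of_univSubmersive hδ).surjective⟩
  have h0 : δ ≫ x₀ = pullback.snd l (pullback.diagonal f) := by
    have : δ ≫ l ≫ pullback.fst f f = _ := pullback.condition_assoc _
    simpa [l] using this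
  have h1 : δ ≫ x₁ = pullback.snd l (pullback.diagonal f) := by
    have : δ ≫ l ≫ pullback.snd f f = _ := pullback.condition_assoc _
    simpa [l] using this
  obtain ⟨t', ⟨ht1, ht2⟩, -⟩ := thick_existsUnique δ hδ x₁ V.hom (δ ≫ v.1) (by
    rw [Category.assoc, v.2, h0, h1])
  exact ⟨⟨t', ht1⟩, _, δ, inferInstance, ht2.symm⟩

/-- transport of points along the canonical descent datum -/
noncomputable def tr {T : Scheme.{u}} (x₀ x₁ : T ⟶ X') (h : x₀ ≫ f = x₁ ≫ f)
    (v : Desc.Lifts V x₀) : Desc.Lifts V x₁ := (exists_rel f V x₀ x₁ h v).choose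

theorem tr_rel {T : Scheme.{u}} (x₀ x₁ : T ⟶ X') (h : x₀ ≫ f = x₁ ≫ f)
    (v : Desc.Lifts V x₀) : Rel V v (tr f V x₀ x₁ h v) := (exists_rel f V x₀ x₁ h v).choose_spec

/-- the canonical descent datum on an étale scheme relative to a radicial separated morphism -/
noncomputable def canDD : Desc.SchDD f where
  obj := V
  φ T x₀ x₁ h :=
    { toFun := tr f V x₀ x₁ h
      invFun := tr f V x₁ x₀ h.symm
      left_inv := fun v => (rel_unique V (rel_trans V (tr_rel f V x₀ x₁ h v)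
        (tr_rel f V x₁ x₀ h.symm _)) (rel_refl V v)).symm ▸ rfl
      right_inv := fun v => (rel_unique V (rel_trans V (tr_rel f V x₁ x₀ h.symm v)
        (tr_rel f V x₀ x₁ h _)) (rel_refl V v)).symm ▸ rfl }
  φ_natural T T' g x₀ x₁ h h' v v' hv' := by
    let w' : Desc.Lifts V (g ≫ x₁) := ⟨g ≫ (tr f V x₀ x₁ h v).1, by
      rw [Category.assoc, (tr f V x₀ x₁ h v).2]⟩
    have r1 : Rel V v' w' := rel_pullback V g (tr_rel f V x₀ x₁ h v) v' w' hv' rfl
    have r2 : Rel V v' (tr f V (g ≫ x₀) (g ≫ x₁) h' v') := tr_rel f V _ _ h' v'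
    exact congrArg Subtype.val (rel_unique V r2 r1)
  φ_self T x v := rel_unique V (tr_rel f V x x rfl v) (rel_refl V v)
  φ_comp T x₀ x₁ x₂ h₀₁ h₁₂ v :=
    rel_unique V (rel_trans V (tr_rel f V x₀ x₁ h₀₁ v) (tr_rel f V x₁ x₂ h₁₂ _))
      (tr_rel f V x₀ x₂ (h₀₁.trans h₁₂) v)

end exist

end Groth.Agent.Lib.Helper9.FlatUH
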