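import Groth.Agent.Lib.Helper9.Perf1
import Mathlib.AlgebraicGeometry.Morphisms.Finite

universe u

open CategoryTheory CategoryTheory.Limits AlgebraicGeometry TopologicalSpace

namespace Groth.Agent.Lib.Helper9.Perf

variable (p : ℕ) [Fact p.Prime]

theorem universallyInjective_of_comp {X Y Z : Scheme.{u}} (f : X ⟶ Y) (g : Y ⟶ Z)
    [UniversallyInjective (f ≫ g)] : UniversallyInjective f := by
  refine ((tfae_universallyInjective f).out 0 1).mpr ?_
  intro K _ g₁ g₂ h
  dsimp only at h
  have h2 : ∀ (K : Type u) [Field K],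
      Function.Injective (fun g' : Spec (.of K) ⟶ X ↦ g' ≫ f ≫ g) :=
    ((tfae_universallyInjective (f ≫ g)).out 0 1).mp ‹_›
  apply h2 K
  dsimp only
  rw [← Category.assoc, h, Category.assoc]

section
variable {X S : Scheme.{u}} [FrobSch.IsCharP S p] (f : X ⟶ S)

instance isIntegralHom_relFrob : IsIntegralHom (FrobSch.relFrob f p) := by
  have : FrobSch.IsCharP X p := FrobSch.IsCharP.of_hom f p
  have : IsIntegralHom (FrobSch.relFrob f p ≫ pullback.fst f (FrobSch.frob S p)) := by
    rw [FrobSch.relFrob_fst]; infer_instance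
  exact IsIntegralHom.of_comp _ (pullback.fst f (FrobSch.frob S p))

instance universallyInjective_relFrob : UniversallyInjective (FrobSch.relFrob f p) := by
  have : FrobSch.IsCharP X p := FrobSch.IsCharP.of_hom f p
  have : UniversallyInjective (FrobSch.relFrob f p ≫ pullback.fst f (FrobSch.frob S p)) := by
    rw [FrobSch.relFrob_fst]; infer_instance
  exact universallyInjective_of_comp _ (pullback.fst f (FrobSch.frob S p))

instance surjective_relFrob : Surjective (FrobSch.relFrob f p) := by
  have : FrobSch.IsCharP X p := FrobSch.IsCharP.of_hom f p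
  refine ⟨fun z => ⟨pullback.fst f (FrobSch.frob S p) z, ?_⟩⟩
  have : UniversallyInjective (pullback.fst f (FrobSch.frob S p)) :=
    MorphismProperty.of_isPullback (P := @UniversallyInjective)
      (IsPullback.of_hasPullback f (FrobSch.frob S p)).flip
      (inferInstanceAs (UniversallyInjective (FrobSch.frob S p)))
  apply (pullback.fst f (FrobSch.frob S p)).injective
  rw [← Scheme.Hom.comp_apply, FrobSch.relFrob_fst]
  rfl

theorem isUnivHomeo_relFrob : FlatMor.IsUnivHomeo (FrobSch.relFrob f p) :=
  isUnivHomeo_of_integral _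

theorem isFinite_relFrob [LocallyOfFiniteType f] : IsFinite (FrobSch.relFrob f p) := by
  have : LocallyOfFiniteType (FrobSch.relFrob f p ≫ pullback.snd f (FrobSch.frob S p)) := by
    rw [FrobSch.relFrob_snd]; infer_instance
  have : LocallyOfFiniteType (FrobSch.relFrob f p) :=
    locallyOfFiniteType_of_comp _ (pullback.snd f (FrobSch.frob S p))
  rw [IsFinite.iff_isIntegralHom_and_locallyOfFiniteType]
  exact ⟨inferInstance, inferInstance⟩

end

end Groth.Agent.Lib.Helper9.Perf
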