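import Groth.Agent.Lib.Helper9.Perf12
import Groth.Agent.Lib.Helper9.Perf2
import Mathlib.AlgebraicGeometry.Morphisms.Etale
import Mathlib.AlgebraicGeometry.Morphisms.FlatDescent

universe u

open CategoryTheory CategoryTheory.Limits AlgebraicGeometry TopologicalSpace MorphismProperty

namespace Groth.Agent.Lib.Helper9.Perf

set_option backward.isDefEq.respectTransparency.types false in
/-- An étale, universally injective, surjective, quasi-compact morphism is an isomorphism. -/
theorem isIso_of_etale_of_universallyInjective {Z W : Scheme.{u}} (g : Z ⟶ W) [Etale g]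
    [UniversallyInjective g] [Surjective g] [QuasiCompact g] : IsIso g := by
  have h1 : Surjective (pullback.diagonal g) := (UniversallyInjective.iff_diagonal g).mp ‹_›
  have h2 : IsIso (pullback.diagonal g) := by
    rw [isIso_iff_isOpenImmersion_and_surjective]
    exact ⟨inferInstance, h1⟩
  have h3 : IsIso (pullback.fst g g) := by
    have : IsIso (pullback.diagonal g ≫ pullback.fst g g) := by
      rw [pullback.diagonal_fst]; infer_instance
    exact IsIso.of_isIso_comp_left (pullback.diagonal g) _
  exact of_pullback_fst_of_descendsAlong (P := isomorphisms Scheme.{u})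
    (Q := @Surjective ⊓ @Flat ⊓ @QuasiCompact) (f := g) (g := g)
    ⟨⟨inferInstance, inferInstance⟩, inferInstance⟩ h3


variable (p : ℕ) [Fact p.Prime]

/-- A scheme étale over a perfect scheme is perfect. -/
theorem isPerfect_of_etale {Z Y : Scheme.{u}} (g : Z ⟶ Y) [Etale g]
    [FrobSch.IsCharP Y p] [FrobSch.IsCharP Z p] (hY : FrobSch.IsPerfect Y p) :
    FrobSch.IsPerfect Z p := by
  have hF : IsIso (FrobSch.frob Y p) := hY
  have h1 : Etale (FrobSch.relFrob g p ≫ pullback.snd g (FrobSch.frob Y p)) := by
    rw [FrobSch.relFrob_snd]; infer_instance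
  have h2 : Etale (FrobSch.relFrob g p) :=
    Etale.of_comp (FrobSch.relFrob g p) (pullback.snd g (FrobSch.frob Y p))
  have h3 : IsIso (FrobSch.relFrob g p) := isIso_of_etale_of_universallyInjective _
  have h4 : IsIso (pullback.fst g (FrobSch.frob Y p)) := inferInstance
  change IsIso (FrobSch.frob Z p)
  rw [← FrobSch.relFrob_fst g p]
  infer_instance

/-- For étale `f`, the base change of the perfection of the target is a perfection of the
source. -/
theorem isPerfection_pullback_snd_of_etale {X Y YP : Scheme.{u}} [FrobSch.IsCharP YP p]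
    (πY : YP ⟶ Y) (hY : FrobSch.IsPerfection πY p) (f : X ⟶ Y) [Etale f]
    [FrobSch.IsCharP (pullback πY f) p] :
    FrobSch.IsPerfection (pullback.snd πY f) p := by
  refine ⟨isPerfect_of_etale p (pullback.fst πY f) hY.1, ?_⟩
  intro T _ hT
  constructor
  · intro a b hab
    dsimp only at hab
    apply pullback.hom_ext
    · apply isPerfection_hom_ext p πY hY hT
      rw [Category.assoc, Category.assoc, pullback.condition, reassoc_of% hab]
    · exact hab
  · intro a
    obtain ⟨b, hb⟩ := (hY.2 T hT).2 (a ≫ f)
    dsimp only at hb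
    exact ⟨pullback.lift b a hb, pullback.lift_snd _ _ _⟩

theorem isPullback_of_etale {X Y XP YP : Scheme.{u}}
    [FrobSch.IsCharP XP p] [FrobSch.IsCharP YP p]
    (πX : XP ⟶ X) (πY : YP ⟶ Y) (hX : FrobSch.IsPerfection πX p)
    (hY : FrobSch.IsPerfection πY p)
    (f : X ⟶ Y) (fP : XP ⟶ YP) (w : fP ≫ πY = πX ≫ f) [Etale f] :
    IsPullback fP πX πY f := by
  haveI : FrobSch.IsCharP (pullback πY f) p := FrobSch.IsCharP.of_hom (pullback.fst _ _) p
  have h1 := isPerfection_pullback_snd_of_etale p πY hY f
  obtain ⟨e, he⟩ := exists_iso_of_isPerfection p πX _ hX h1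
  have h2 : e.hom ≫ pullback.fst πY f = fP := by
    apply isPerfection_hom_ext p πY hY hX.1
    rw [w, Category.assoc, pullback.condition, reassoc_of% he]
  exact IsPullback.of_iso_pullback ⟨w⟩ e h2 he

end Groth.Agent.Lib.Helper9.Perf
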