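import Groth.Prelude.Def_FEt
import Groth.Agent.Lib.Helper9.Perf13
import Groth.Agent.Lib.Helper9.FEtFaithful

set_option autoImplicit false
universe u
open CategoryTheory CategoryTheory.Limits AlgebraicGeometry MorphismProperty

namespace Groth.Agent.Lib.Helper9.UHFull

theorem universallyInjective_of_comp_surjective {X Y Z : Scheme.{u}} (h : X ⟶ Y) (g : Y ⟶ Z)
    [UniversallyInjective (h ≫ g)] [Surjective h] : UniversallyInjective g := by
  refine ⟨fun X' Y' i₁ i₂ g' hpb => ?_⟩
  have hp2 : IsPullback (pullback.fst i₁ h) (pullback.snd i₁ h) i₁ h :=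
    IsPullback.of_hasPullback _ _
  have hp3 := hp2.paste_horiz hpb
  have hinj : Function.Injective (pullback.fst i₁ h ≫ g') :=
    UniversallyInjective.universally_injective _ _ _ hp3
  have hsurj : Function.Surjective (pullback.fst i₁ h) := (pullback.fst i₁ h).surjective
  intro a b hab
  obtain ⟨a', rfl⟩ := hsurj a
  obtain ⟨b', rfl⟩ := hsurj b
  congr 1
  apply hinj
  simpa using hab

theorem quasiCompact_of_comp_surjective {X Y Z : Scheme.{u}} (h : X ⟶ Y) (g : Y ⟶ Z)
    [QuasiCompact (h ≫ g)] [Surjective h] : QuasiCompact g := by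
  refine ⟨fun U hU hUc => ?_⟩
  have h1 : IsCompact ((h ≫ g) ⁻¹' U) := QuasiCompact.isCompact_preimage U hU hUc
  have : g ⁻¹' U = h '' ((h ≫ g) ⁻¹' U) := by
    ext y; constructor
    · intro hy; obtain ⟨x, rfl⟩ := h.surjective y; exact ⟨x, by simpa using hy, rfl⟩
    · rintro ⟨x, hx, rfl⟩; simpa using hx
  rw [this]
  exact h1.image h.continuous

theorem isOpenMap_of_univHomeo {X Y : Scheme.{u}} (e : X ⟶ Y) [IsIntegralHom e]
    [UniversallyInjective e] [Surjective e] : IsOpenMap e := by
  have : IsHomeomorph e := by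
    rw [isHomeomorph_iff_continuous_isClosedMap_bijective]
    exact ⟨e.continuous, e.isClosedMap, e.injective, e.surjective⟩
  exact this.isOpenMap

set_option backward.isDefEq.respectTransparency.types false in
theorem full_restrict {X Y : Scheme.{u}} (f : X ⟶ Y) [IsIntegralHom f] [UniversallyInjective f]
    [Surjective f] : (FEt.restrict f).Full := by
  refine ⟨fun {A B} φ => ?_⟩
  have hA : IsFinite A.hom ∧ Etale A.hom := A.prop
  have hB : IsFinite B.hom ∧ Etale B.hom := B.prop
  have := hA.1; have := hA.2; have := hB.1; have := hB.2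
  let fA : pullback A.hom f ⟶ A.left := pullback.fst A.hom f
  have : UniversallyInjective fA :=
    MorphismProperty.pullback_fst (P := @UniversallyInjective) A.hom f ‹_›
  have : Surjective fA := MorphismProperty.pullback_fst (P := @Surjective) A.hom f ‹_›
  have : IsIntegralHom fA := MorphismProperty.pullback_fst (P := @IsIntegralHom) A.hom f ‹_›
  let φl : pullback A.hom f ⟶ pullback B.hom f := φ.left
  have hφ : φl ≫ pullback.snd B.hom f = pullback.snd A.hom f := Over.w φ.hom
  let pr₁ : pullback A.hom B.hom ⟶ A.left := pullback.fst A.hom B.hom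
  let pr₂ : pullback A.hom B.hom ⟶ B.left := pullback.snd A.hom B.hom
  let γ : pullback A.hom f ⟶ pullback A.hom B.hom :=
    pullback.lift fA (φl ≫ pullback.fst B.hom f) (by
      rw [Category.assoc, pullback.condition (f := B.hom), ← Category.assoc, hφ]
      exact pullback.condition)
  have hγ1 : γ ≫ pr₁ = fA := pullback.lift_fst _ _ _
  have hγ2 : γ ≫ pr₂ = φl ≫ pullback.fst B.hom f := pullback.lift_snd _ _ _
  let q : pullback pr₁ fA ⟶ pullback A.hom f := pullback.snd pr₁ fA
  let e : pullback pr₁ fA ⟶ pullback A.hom B.hom := pullback.fst pr₁ fA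
  have : UniversallyInjective e :=
    MorphismProperty.pullback_fst (P := @UniversallyInjective) pr₁ fA ‹_›
  have : Surjective e := MorphismProperty.pullback_fst (P := @Surjective) pr₁ fA ‹_›
  have : IsIntegralHom e := MorphismProperty.pullback_fst (P := @IsIntegralHom) pr₁ fA ‹_›
  have : Etale q := MorphismProperty.pullback_snd (P := @Etale) pr₁ fA
    (MorphismProperty.pullback_fst (P := @Etale) A.hom B.hom ‹_›)
  let s : pullback A.hom f ⟶ pullback pr₁ fA := pullback.lift γ (𝟙 _) (by rw [hγ1, Category.id_comp])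
  have hsq : s ≫ q = 𝟙 _ := pullback.lift_snd _ _ _
  have hse : s ≫ e = γ := pullback.lift_fst _ _ _
  have : Etale s := by
    have : Etale (s ≫ q) := by rw [hsq]; infer_instance
    exact Etale.of_comp s q
  have hopen : IsOpen (Set.range γ) := by
    have : Set.range γ = e '' Set.range s := by
      rw [← hse, ← Set.range_comp]
      rfl
    rw [this]
    exact isOpenMap_of_univHomeo e _ s.isOpenMap.isOpen_range
  let Γ : (pullback A.hom B.hom).Opens := ⟨Set.range γ, hopen⟩
  have hr : Set.range γ ⊆ Set.range Γ.ι := by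
    rw [Scheme.Opens.range_ι]
    exact subset_rfl
  let γ' : pullback A.hom f ⟶ Γ := IsOpenImmersion.lift Γ.ι γ hr
  have hγ' : γ' ≫ Γ.ι = γ := IsOpenImmersion.lift_fac _ _ _
  let ρ : (Γ : Scheme.{u}) ⟶ A.left := Γ.ι ≫ pr₁
  have hρ : γ' ≫ ρ = fA := by rw [← hγ1, ← hγ', Category.assoc]
  have : Surjective γ' := by
    refine ⟨fun z => ?_⟩
    obtain ⟨x, hx⟩ : (Γ.ι z) ∈ Set.range γ := z.2
    refine ⟨x, Γ.ι.injective ?_⟩
    rw [← Scheme.Hom.comp_apply, hγ', hx]
  have : UniversallyInjective (γ' ≫ ρ) := by rw [hρ]; infer_instance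
  have : Surjective (γ' ≫ ρ) := by rw [hρ]; infer_instance
  have : QuasiCompact (γ' ≫ ρ) := by rw [hρ]; infer_instance
  have : UniversallyInjective ρ := universallyInjective_of_comp_surjective γ' ρ
  have : Surjective ρ := Surjective.of_comp γ' ρ
  have : QuasiCompact ρ := quasiCompact_of_comp_surjective γ' ρ
  have : IsIso ρ := Perf.isIso_of_etale_of_universallyInjective ρ
  let ψ₀ : A.left ⟶ B.left := inv ρ ≫ Γ.ι ≫ pr₂
  have hψ₀ : ψ₀ ≫ B.hom = A.hom := by
    simp only [ψ₀, pr₂, Category.assoc]
    rw [← pullback.condition, IsIso.inv_comp_eq]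
    simp only [ρ, pr₁, Category.assoc]
  have hψ₁ : fA ≫ ψ₀ = φl ≫ pullback.fst B.hom f := by
    rw [← hρ, ← hγ2, ← hγ']
    simp only [ψ₀, Category.assoc, IsIso.hom_inv_id_assoc]
  refine ⟨MorphismProperty.Over.homMk ψ₀ hψ₀ trivial, ?_⟩
  apply MorphismProperty.Over.Hom.ext
  simp only [FEt.restrict, MorphismProperty.Over.pullback_map_left]
  apply pullback.hom_ext
  · rw [pullback.lift_fst]
    exact hψ₁
  · rw [pullback.lift_snd]
    exact hφ.symm

theorem faithful_restrict {X Y : Scheme.{u}} (f : X ⟶ Y) [Surjective f] :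
    (FEt.restrict f).Faithful := by
  apply FEtFaithful.faithful_restrict_of
  intro A E hE h
  rw [Set.range_eq_univ.mpr f.surjective, Set.preimage_univ] at h
  exact Set.eq_univ_of_univ_subset h

end Groth.Agent.Lib.Helper9.UHFull
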