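import Mathlib
import Groth.Agent.Lib.Helper9.FlatUH1
import Groth.Agent.Lib.Helper9.DescMain2
import Groth.Agent.Lib.Helper9.UHFull1
import Groth.Agent.Lib.Helper9.IntHom2

set_option backward.isDefEq.respectTransparency false
set_option maxHeartbeats 800000
set_option autoImplicit false
set_option linter.unusedSectionVars false
set_option linter.unusedVariables false
universe u
open CategoryTheory CategoryTheory.Limits AlgebraicGeometry Opposite TopologicalSpace

namespace Groth.Agent.Lib.Helper9.FlatUH

variable {X' X : Scheme.{u}} (f : X' ⟶ X) [Flat f] [Surjective f] [QuasiCompact f]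
  [IsSeparated f] [UniversallyInjective f]

/-- every finite étale cover of `X'` descends along a flat radicial separated fpqc morphism -/
theorem exists_descent (U' : FEt.Cat X') :
    ∃ U : FEt.Cat X, Nonempty ((FEt.restrict f).obj U ≅ U') := by
  haveI : IsFinite U'.hom := U'.prop.1
  haveI : Etale U'.hom := U'.prop.2
  let V : Over X' := Over.mk U'.hom
  haveI : Etale V.hom := ‹Etale U'.hom›
  have hAff : IsAffineHom (canDD f V).obj.hom := inferInstanceAs (IsAffineHom U'.hom)
  obtain ⟨U, ⟨iso⟩⟩ := Groth.Agent.Lib.Helper9.DescMain.effective_of_isAffineHom f (canDD f V) hAff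
  have h1 : iso.hom.hom ≫ iso.inv.hom = 𝟙 _ := by
    rw [← Desc.SchDD.comp_hom, iso.hom_inv_id, Desc.SchDD.id_hom]
  have h2 : iso.inv.hom ≫ iso.hom.hom = 𝟙 _ := by
    rw [← Desc.SchDD.comp_hom, iso.inv_hom_id, Desc.SchDD.id_hom]
  let e₀ : Over.mk (pullback.fst f U.hom) ≅ V := ⟨iso.hom.hom, iso.inv.hom, h1, h2⟩
  haveI : IsIso e₀.hom.left := ((Over.forget X').mapIso e₀).isIso_hom
  have hw : pullback.fst f U.hom = e₀.hom.left ≫ U'.hom := (Over.w e₀.hom).symm
  have hs : pullback.snd U.hom f = (pullbackSymmetry U.hom f).hom ≫ pullback.fst f U.hom := by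
    rw [pullbackSymmetry_hom_comp_fst]
  have hf1 : IsFinite (pullback.snd U.hom f) := by rw [hs, hw]; infer_instance
  have hf2 : Etale (pullback.snd U.hom f) := by rw [hs, hw]; infer_instance
  obtain ⟨h3, h4⟩ := Groth.Agent.Lib.Helper9.IntHom.finite_etale_descent U.hom f hf1 hf2
  refine ⟨MorphismProperty.Over.mk ⊤ U.hom ⟨h3, h4⟩, ⟨?_⟩⟩
  refine MorphismProperty.Over.isoMk
    (pullbackSymmetry U.hom f ≪≫ (Over.forget X').mapIso e₀) ?_
  change ((pullbackSymmetry U.hom f).hom ≫ e₀.hom.left) ≫ U'.hom = pullback.snd U.hom f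
  rw [Category.assoc, ← hw, ← hs]

theorem essSurj : (FEt.restrict f).EssSurj :=
  ⟨fun U' => by
    obtain ⟨U, ⟨e⟩⟩ := exists_descent f U'
    exact ⟨U, ⟨e⟩⟩⟩

end Groth.Agent.Lib.Helper9.FlatUH

namespace Groth.Agent.Lib.Helper9.FlatUH

/-- **topological invariance of `FEt` for flat universal homeomorphisms** -/
theorem isEquivalence {X' X : Scheme.{u}} (f : X' ⟶ X) [Flat f] [IsIntegralHom f]
    [UniversallyInjective f] [Surjective f] : (FEt.restrict f).IsEquivalence := by
  haveI := Groth.Agent.Lib.Helper9.UHFull.full_restrict f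
  haveI := Groth.Agent.Lib.Helper9.UHFull.faithful_restrict f
  haveI := essSurj f
  exact { }

end Groth.Agent.Lib.Helper9.FlatUH

namespace Groth.Agent.Lib.Helper9.FlatUH

section field

variable (k K : Type u) [Field k] [Field K] [Algebra k K] [IsPurelyInseparable k K]

theorem isEquivalence_of_purelyInseparable {X : Scheme.{u}} (f₀ : X ⟶ Spec (CommRingCat.of k)) :
    (FEt.restrict (pullback.fst f₀ (Spec.map (CommRingCat.ofHom (algebraMap k K))))).IsEquivalence := by
  haveI : UniversallyInjective (Spec.map (CommRingCat.ofHom (algebraMap k K))) :=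
    (UniversallyInjective.iff_diagonal _).2 (Groth.Agent.Lib.Helper9.PIWeil.surjective_diagonal k K)
  haveI : Flat (Spec.map (CommRingCat.ofHom (algebraMap k K))) := by
    rw [Flat.SpecMap_iff]
    exact (RingHom.flat_algebraMap_iff).2 inferInstance
  haveI : Surjective (Spec.map (CommRingCat.ofHom (algebraMap k K))) := by
    refine ⟨fun x => ?_⟩
    haveI : Subsingleton (PrimeSpectrum k) := inferInstance
    obtain ⟨y⟩ : Nonempty (PrimeSpectrum K) := inferInstance
    exact ⟨y, Subsingleton.elim (α := PrimeSpectrum k) _ _⟩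
  haveI : IsIntegralHom (Spec.map (CommRingCat.ofHom (algebraMap k K))) := by
    rw [IsIntegralHom.SpecMap_iff]
    haveI : Algebra.IsIntegral k K := inferInstance
    exact algebraMap_isIntegral_iff.2 inferInstance
  haveI : UniversallyInjective (pullback.fst f₀ (Spec.map (CommRingCat.ofHom (algebraMap k K)))) :=
    MorphismProperty.pullback_fst (P := @UniversallyInjective) _ _ inferInstance
  exact isEquivalence _

end field

/-- the perfect closure is purely inseparable -/
theorem perfectClosure_isPurelyInseparable (k : Type u) [Field k] (p : ℕ) [Fact p.Prime]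
    [CharP k p] :
    letI := (PerfectClosure.of k p).toAlgebra
    IsPurelyInseparable k (PerfectClosure k p) := by
  letI := (PerfectClosure.of k p).toAlgebra
  haveI : ExpChar k p := ExpChar.prime (Fact.out : p.Prime)
  rw [isPurelyInseparable_iff_pow_mem k p]
  intro x
  induction x using PerfectClosure.induction_on with
  | _ x =>
    obtain ⟨n, a⟩ := x
    refine ⟨n, a, ?_⟩
    rw [← iterate_frobenius]
    exact (PerfectClosure.iterate_frobenius_mk k p n a).symm

end Groth.Agent.Lib.Helper9.FlatUH
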