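import Mathlib
import Groth.Agent.Lib.Helper9.SepDesc
import Groth.Agent.Lib.Helper9.FlatUH2

set_option backward.isDefEq.respectTransparency false
set_option maxHeartbeats 800000
set_option autoImplicit false
set_option linter.unusedSectionVars false
set_option linter.unusedVariables false
universe u
open CategoryTheory CategoryTheory.Limits AlgebraicGeometry Opposite TopologicalSpace

namespace Groth.Agent.Lib.Helper9.AlgClDesc

open Groth.Agent.Lib.Helper13 Groth.Agent.Lib.Helper13.FieldLim Groth.Agent.Lib.Helper13.PIDescend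

section stage

variable (k K : Type u) [Field k] [Field K] [Algebra k K]
variable (F : Finset K → IntermediateField k K) (hmono : Monotone F)
  (hmem : ∀ x : K, x ∈ F {x})
variable (X : Scheme.{u}) [X.Over (Spec (CommRingCat.of k))]

/-- properties of `X_K ⟶ X_{F s}` when `K / F s` is purely inseparable -/
theorem bcLeg_props' (s : Finset K) [IsPurelyInseparable (F s) K] :
    Surjective (bcLeg k K F X s) ∧ Flat (bcLeg k K F X s) ∧
      UniversallyInjective (bcLeg k K F X s) ∧ IsIntegralHom (bcLeg k K F X s) := by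
  obtain ⟨h1, h2, -⟩ := Groth.Agent.Lib.Helper9.SepDesc.leg_fpqc k K F s
  have h3 : UniversallyInjective (leg k K F s) :=
    (UniversallyInjective.iff_diagonal _).2
      (Groth.Agent.Lib.Helper9.PIWeil.surjective_diagonal (F s) K)
  have h4 : IsIntegralHom (leg k K F s) := by
    unfold leg
    rw [IsIntegralHom.SpecMap_iff]
    haveI : Algebra.IsIntegral (F s) K := inferInstance
    exact algebraMap_isIntegral_iff.2 inferInstance
  have sq := (isPullback_bcLeg k K F X s).flip
  exact ⟨MorphismProperty.of_isPullback (P := @Surjective) sq h1,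
    MorphismProperty.of_isPullback (P := @Flat) sq h2,
    MorphismProperty.of_isPullback (P := @UniversallyInjective) sq h3,
    MorphismProperty.of_isPullback (P := @IsIntegralHom) sq h4⟩

variable [CompactSpace X] [QuasiSeparatedSpace X]

include hmono hmem in
/-- a finite étale scheme over `X_K` descends to a stage `X_{F s}` (no surjectivity needed). -/
theorem exists_stage' {Y : Scheme.{u}} (h : Y ⟶ Curv2.bc k X K) [IsFinite h] [Etale h] :
    ∃ (s : Finset K) (Ys : Scheme.{u}) (hs : Ys ⟶ Curv2.bc k X (F s)) (e : Y ⟶ Ys),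
      IsFinite hs ∧ Etale hs ∧ IsPullback e h hs (bcLeg k K F X s) := by
  classical
  let h' : Y ⟶ (bcCone k K F hmono X).pt := h
  haveI : LocallyOfFinitePresentation h' := (inferInstance : LocallyOfFinitePresentation h)
  haveI : QuasiCompact h' := (inferInstance : QuasiCompact h)
  haveI : QuasiSeparated h' := (inferInstance : QuasiSeparated h)
  obtain ⟨s, ⟨M⟩⟩ := LimModel.hasModel_of_finitePresentation (bcIsLimit k K F hmono hmem X) h'
  let h₀ : M.Z₀ ⟶ Curv2.bc k X (F s.unop) := M.h₀
  have pb : IsPullback M.g h h₀ (bcLeg k K F X s.unop) := M.pb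
  obtain ⟨hπ1, hπ2, hπ3⟩ := Groth.Agent.Lib.Helper9.SepDesc.bcLeg_fpqc k K F X s.unop
  have hQ : (@Surjective ⊓ @Flat ⊓ @QuasiCompact : MorphismProperty Scheme.{u})
      (bcLeg k K F X s.unop) := ⟨⟨hπ1, hπ2⟩, hπ3⟩
  refine ⟨s.unop, M.Z₀, h₀, M.g, ?_, ?_, pb⟩
  · exact MorphismProperty.of_isPullback_of_descendsAlong (P := @IsFinite)
      (Q := (@Surjective ⊓ @Flat ⊓ @QuasiCompact : MorphismProperty Scheme.{u})) pb.flip hQ
      inferInstance
  · exact MorphismProperty.of_isPullback_of_descendsAlong (P := @Etale)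
      (Q := (@Surjective ⊓ @Flat ⊓ @QuasiCompact : MorphismProperty Scheme.{u})) pb.flip hQ
      inferInstance

end stage

section finet

variable (k : Type u) [Field k] (X : Scheme.{u}) [X.Over (Spec (CommRingCat.of k))]

/-- `X_L ⟶ X` is finite étale for `L / k` finite separable -/
theorem bcFst_finite_etale (L : Type u) [Field L] [Algebra k L] [FiniteDimensional k L]
    [Algebra.IsSeparable k L] :
    IsFinite (Curv2.bcFst k X L) ∧ Etale (Curv2.bcFst k X L) := by
  haveI : IsFinite (Spec.map (CommRingCat.ofHom (algebraMap k L))) := by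
    rw [IsFinite.SpecMap_iff]
    exact RingHom.finite_algebraMap.2 inferInstance
  haveI : Etale (Spec.map (CommRingCat.ofHom (algebraMap k L))) := by
    rw [HasRingHomProperty.Spec_iff (P := @Etale)]
    haveI : Algebra.FormallyEtale k L := Algebra.FormallyEtale.of_isSeparable k L
    haveI : Algebra.FinitePresentation k L := Algebra.FinitePresentation.of_finiteType.1 inferInstance
    exact RingHom.etale_algebraMap.2 ⟨inferInstance, inferInstance⟩
  exact ⟨MorphismProperty.pullback_fst (P := @IsFinite) _ _ inferInstance,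
    MorphismProperty.pullback_fst (P := @Etale) _ _ inferInstance⟩

end finet

section clopen

/-- Lemma C: `a^* V₁ ⟶ (a ≫ b)^* (b_! V₁)` is an open and closed immersion for `b` étale separated -/
theorem clopen_of_isPullback {V V₁ X₂ X₁ X₀ : Scheme.{u}} (v : V ⟶ X₂) (w : V₁ ⟶ X₁)
    (a : X₂ ⟶ X₁) (b : X₁ ⟶ X₀) [Etale b] [IsSeparated b] (e : V ⟶ V₁)
    (pb : IsPullback e v w a) (pr : X₂ ⟶ X₀) (hpr : a ≫ b = pr) :
    ∃ ι : V ⟶ pullback (w ≫ b) pr, ι ≫ pullback.snd (w ≫ b) pr = v ∧
      IsOpenImmersion ι ∧ IsClosedImmersion ι := by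
  subst hpr
  let ι' : pullback w a ⟶ pullback (w ≫ b) (a ≫ b) :=
    pullback.map w a (w ≫ b) (a ≫ b) (𝟙 _) (𝟙 _) b (Category.id_comp _).symm
      (Category.id_comp _).symm
  have sq := pullback_map_diagonal_isPullback w a b
  haveI : IsOpenImmersion ι' :=
    MorphismProperty.of_isPullback (P := @IsOpenImmersion) sq inferInstance
  haveI : IsClosedImmersion ι' :=
    MorphismProperty.of_isPullback (P := @IsClosedImmersion) sq inferInstance
  refine ⟨pb.isoPullback.hom ≫ ι', ?_, inferInstance, inferInstance⟩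
  rw [Category.assoc]
  have : ι' ≫ pullback.snd (w ≫ b) (a ≫ b) = pullback.snd w a := by
    simp [ι']
  rw [this, IsPullback.isoPullback_hom_snd]

end clopen

end Groth.Agent.Lib.Helper9.AlgClDesc
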