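import Mathlib
import Groth.Agent.Lib.Helper9.AlgClDesc1

set_option backward.isDefEq.respectTransparency false
set_option maxHeartbeats 800000
set_option autoImplicit false
set_option linter.unusedSectionVars false
set_option linter.unusedVariables false
universe u
open CategoryTheory CategoryTheory.Limits AlgebraicGeometry Opposite TopologicalSpace

namespace Groth.Agent.Lib.Helper9.AlgClDesc

open Groth.Agent.Lib.Helper13 Groth.Agent.Lib.Helper13.FieldLim Groth.Agent.Lib.Helper13.PIDescend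

variable (k : Type u) [Field k] (X : Scheme.{u}) [X.Over (Spec (CommRingCat.of k))]
  [CompactSpace X] [QuasiSeparatedSpace X]

/-- every finite étale cover of `X_{k̄}` is the pullback of a finite étale cover of `X_L`,
`L / k` finite separable -/
theorem exists_sep_stage (V : FEt.Cat (Curv2.bc k X (AlgebraicClosure k))) :
    ∃ (L : Type u) (_ : Field L) (_ : Algebra k L) (_ : FiniteDimensional k L)
      (_ : Algebra.IsSeparable k L) (VL : Scheme.{u}) (hs : VL ⟶ Curv2.bc k X L)
      (a : Curv2.bc k X (AlgebraicClosure k) ⟶ Curv2.bc k X L) (e : V.left ⟶ VL),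
      IsFinite hs ∧ Etale hs ∧ a ≫ Curv2.bcFst k X L = Curv2.bcFst k X (AlgebraicClosure k) ∧
        IsPullback e V.hom hs a := by
  classical
  let K := AlgebraicClosure k
  let Ks : IntermediateField k K := separableClosure k K
  let F₁ : Finset K → IntermediateField k K := fun _ => Ks
  haveI : IsPurelyInseparable (F₁ ∅) K := separableClosure.isPurelyInseparable k K
  let f₁ : Curv2.bc k X K ⟶ Curv2.bc k X ↥Ks := bcLeg k K F₁ X ∅
  obtain ⟨p1, p2, p3, p4⟩ := bcLeg_props' k K F₁ X ∅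
  haveI : Surjective f₁ := p1
  haveI : Flat f₁ := p2
  haveI : UniversallyInjective f₁ := p3
  haveI : IsIntegralHom f₁ := p4
  obtain ⟨U₁, ⟨iso₁⟩⟩ := Groth.Agent.Lib.Helper9.FlatUH.exists_descent f₁ V
  haveI : IsFinite U₁.hom := U₁.prop.1
  haveI : Etale U₁.hom := U₁.prop.2
  -- second step: descend to a finite stage of `Ks`
  let F₂ : Finset ↥Ks → IntermediateField k ↥Ks := fun s => IntermediateField.adjoin k (s : Set ↥Ks)
  have hmono : Monotone F₂ := fun s t h =>
    IntermediateField.adjoin.mono k _ _ (by exact_mod_cast h)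
  have hmem : ∀ x : ↥Ks, x ∈ F₂ {x} := fun x =>
    IntermediateField.subset_adjoin k _ (by simp)
  let h₁ : U₁.left ⟶ Curv2.bc k X ↥Ks := U₁.hom
  haveI : IsFinite h₁ := ‹IsFinite U₁.hom›
  haveI : Etale h₁ := ‹Etale U₁.hom›
  obtain ⟨s, VL, hs, e₁, hfin, het, pb₁⟩ := exists_stage' k ↥Ks F₂ hmono hmem X h₁
  have hfd : FiniteDimensional k ↥(F₂ s) :=
    IntermediateField.finiteDimensional_adjoin (fun x _ => Algebra.IsIntegral.isIntegral x)
  haveI : Algebra.IsSeparable k ↥Ks := separableClosure.isSeparable k K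
  have hsep : Algebra.IsSeparable k ↥(F₂ s) := Algebra.isSeparable_tower_bot_of_isSeparable k _ ↥Ks
  -- the left pullback square
  let e₀ : pullback U₁.hom f₁ ≅ V.left :=
    (MorphismProperty.Over.forget FEt.prop.{u} ⊤ _ ⋙ Over.forget _).mapIso iso₁
  have he₀ : e₀.hom ≫ V.hom = pullback.snd U₁.hom f₁ := Over.w iso₁.hom.hom
  have pbL : IsPullback (e₀.inv ≫ pullback.fst U₁.hom f₁) V.hom U₁.hom f₁ :=
    IsPullback.of_iso (IsPullback.of_hasPullback U₁.hom f₁) e₀ (Iso.refl _) (Iso.refl _)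
      (Iso.refl _) (by simp) (by simp [he₀]) (by simp) (by simp)
  refine ⟨↥(F₂ s), inferInstance, inferInstance, hfd, hsep, VL, hs,
    f₁ ≫ bcLeg k ↥Ks F₂ X s, (e₀.inv ≫ pullback.fst U₁.hom f₁) ≫ e₁, hfin, het, ?_, ?_⟩
  · rw [Category.assoc, bcLeg_fst]
    exact bcLeg_fst k K F₁ X ∅
  · exact pbL.paste_horiz pb₁

/-- `S0269` in `Curv2.bc` form -/
theorem exists_clopen (V : FEt.Cat (Curv2.bc k X (AlgebraicClosure k))) :
    ∃ (U : FEt.Cat X) (ι : V ⟶ (FEt.restrict (Curv2.bcFst k X (AlgebraicClosure k))).obj U),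
      IsOpenImmersion ι.left ∧ IsClosedImmersion ι.left := by
  obtain ⟨L, _, _, hfd, hsep, VL, hs, a, e, hfin, het, hab, pb⟩ := exists_sep_stage k X V
  obtain ⟨hb1, hb2⟩ := bcFst_finite_etale k X L
  haveI := hfin; haveI := het; haveI := hb1; haveI := hb2
  obtain ⟨ι, hι, ho, hc⟩ := clopen_of_isPullback V.hom hs a (Curv2.bcFst k X L) e pb
    (Curv2.bcFst k X (AlgebraicClosure k)) hab
  let U : FEt.Cat X := MorphismProperty.Over.mk ⊤ (hs ≫ Curv2.bcFst k X L)
    ⟨inferInstance, inferInstance⟩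
  refine ⟨U, MorphismProperty.Over.homMk ι hι trivial, ho, hc⟩

end Groth.Agent.Lib.Helper9.AlgClDesc
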