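import Mathlib
import Groth.Agent.Lib.Helper9.AlgClDesc2
import Groth.Agent.Lib.Helper9.PIWeil1
import Groth.Agent.Lib.Helper26.MorSchSigma
import Groth.Agent.Lib.Helper9.SplitDesc

set_option backward.isDefEq.respectTransparency false
set_option maxHeartbeats 800000
set_option autoImplicit false
set_option linter.unusedSectionVars false
set_option linter.unusedVariables false
universe u
open CategoryTheory CategoryTheory.Limits AlgebraicGeometry Opposite TopologicalSpace

namespace Groth.Agent.Lib.Helper9.AlgClDesc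

open Groth.Agent.Lib.Helper13 Groth.Agent.Lib.Helper13.FieldLim Groth.Agent.Lib.Helper13.PIDescend

variable (k : Type u) [Field k] (X : Scheme.{u}) [X.Over (Spec (CommRingCat.of k))]

/-- descend an `X`-morphism `X_{k̄} ⟶ W` to `X_{k_s}`, for `W` étale over `X` -/
theorem descend_to_sepClosure {W : Scheme.{u}} (w : W ⟶ X) [Etale w]
    (τ : Curv2.bc k X (AlgebraicClosure k) ⟶ W)
    (hτ : τ ≫ w = Curv2.bcFst k X (AlgebraicClosure k)) :
    ∃ τs : Curv2.bc k X ↥(separableClosure k (AlgebraicClosure k)) ⟶ W,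
      τs ≫ w = Curv2.bcFst k X ↥(separableClosure k (AlgebraicClosure k)) ∧
      bcLeg k (AlgebraicClosure k) (fun _ => separableClosure k (AlgebraicClosure k)) X ∅ ≫ τs
        = τ := by
  classical
  let K := AlgebraicClosure k
  let Ks : IntermediateField k K := separableClosure k K
  let F₁ : Finset K → IntermediateField k K := fun _ => Ks
  haveI : IsPurelyInseparable (F₁ ∅) K := separableClosure.isPurelyInseparable k K
  let f₁ : Curv2.bc k X K ⟶ Curv2.bc k X ↥Ks := bcLeg k K F₁ X ∅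
  obtain ⟨p1, p2, p3, p4⟩ := bcLeg_props' k K F₁ X ∅
  haveI : Surjective f₁ := p1
  haveI : UniversallyInjective f₁ := p3
  haveI : IsIntegralHom f₁ := p4
  have hg : SGA1.UnivSubmersive f₁ :=
    Groth.Agent.Lib.Helper9.PIWeil.univSubmersive_of_surjective_of_universallyClosed f₁
  haveI : Surjective (pullback.diagonal f₁) := (UniversallyInjective.iff_diagonal _).1 p3
  let prs : Curv2.bc k X ↥Ks ⟶ X := Curv2.bcFst k X ↥Ks
  have hpr : f₁ ≫ prs = Curv2.bcFst k X K := bcLeg_fst k K F₁ X ∅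
  let Y : Over (Curv2.bc k X ↥Ks) := Over.mk (pullback.snd w prs)
  let Z : Over (Curv2.bc k X ↥Ks) := Over.mk (𝟙 _)
  haveI : Etale Y.hom := by
    change Etale (pullback.snd w prs)
    infer_instance
  let φ : Curv2.bc k X K ⟶ pullback (pullback.snd w prs) f₁ :=
    pullback.lift (pullback.lift τ f₁ (by rw [hτ, hpr])) (𝟙 _) (by simp)
  let f' : (Over.pullback f₁).obj Z ⟶ (Over.pullback f₁).obj Y :=
    Over.homMk (pullback.snd (𝟙 _) f₁ ≫ φ) (by simp [φ, Y, Z])
  obtain ⟨v, ⟨hv1, hv2⟩, -⟩ := Groth.Agent.Lib.Helper9.PIWeil.key f₁ hg Y Z f'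
  have hv1' : v ≫ pullback.snd w prs = 𝟙 _ := hv1
  have hv2' : (pullback.snd (𝟙 _) f₁ ≫ φ) ≫ pullback.fst (pullback.snd w prs) f₁ =
      pullback.fst (𝟙 _) f₁ ≫ v := hv2
  let j : Curv2.bc k X K ⟶ pullback (𝟙 (Curv2.bc k X ↥Ks)) f₁ :=
    pullback.lift f₁ (𝟙 _) (by simp)
  have hj := congrArg (j ≫ ·) hv2'
  simp only [j, φ, Category.assoc, pullback.lift_snd_assoc, pullback.lift_fst,
    pullback.lift_fst_assoc, Category.id_comp] at hj
  refine ⟨v ≫ pullback.fst w prs, ?_, ?_⟩
  · rw [Category.assoc, pullback.condition, ← Category.assoc, hv1']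
    exact Category.id_comp _
  · rw [← Category.assoc, ← hj, pullback.lift_fst]

variable [CompactSpace X] [QuasiSeparatedSpace X]

/-- descend an `X`-morphism `X_{K} ⟶ W` to a stage, for `W` locally of finite presentation
over `X` -/
theorem descend_to_stage (K : Type u) [Field K] [Algebra k K]
    (F : Finset K → IntermediateField k K) (hmono : Monotone F)
    (hmem : ∀ x : K, x ∈ F {x}) {W : Scheme.{u}} (w : W ⟶ X) [LocallyOfFinitePresentation w]
    (τ : Curv2.bc k X K ⟶ W) (hτ : τ ≫ w = Curv2.bcFst k X K) :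
    ∃ (s : Finset K) (g : Curv2.bc k X ↥(F s) ⟶ W),
      bcLeg k K F X s ≫ g = τ ∧ g ≫ w = Curv2.bcFst k X ↥(F s) := by
  classical
  let D := bcDiag k K F hmono X
  let t : D ⟶ (Functor.const _).obj X :=
    { app := fun s => Curv2.bcFst k X ↥(F s.unop)
      naturality := fun s s' f => by
        simp only [Functor.const_obj_obj, Functor.const_obj_map, Category.comp_id]
        exact bcMap_fst k K F hmono X (leOfHom f.unop) }
  obtain ⟨s, g, hg1, hg2⟩ := Scheme.exists_π_app_comp_eq_of_locallyOfFinitePresentation D t w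
    (bcCone k K F hmono X) (bcIsLimit k K F hmono hmem X) τ (by
      ext s : 2
      simp only [NatTrans.comp_app, Functor.const_map_app]
      rw [hτ]
      exact bcLeg_fst k K F X s.unop)
  exact ⟨s.unop, g, hg1, hg2⟩

/-- a finite coproduct (indexed by a type in `Type u`) of finite `X`-schemes is finite -/
theorem isFinite_sigmaDesc' {B : Scheme.{u}} (ι : Type u) [Finite ι] (Y : ι → Scheme.{u})
    (f : ∀ i, Y i ⟶ B) (hf : ∀ i, IsFinite (f i)) : IsFinite (Sigma.desc f) := by
  obtain ⟨n, ⟨e⟩⟩ := Finite.exists_equiv_fin ι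
  have h1 := Groth.Agent.Lib.Helper9.SplitDesc.isFinite_sigmaDesc (Fin n)
    (fun a => Y (e.symm a)) (fun a => f (e.symm a)) (fun a => hf _)
  have h2 : (Sigma.reindex e.symm Y).hom ≫ Sigma.desc f =
      Sigma.desc (fun a => f (e.symm a)) := by
    refine Sigma.hom_ext _ _ fun a => ?_
    rw [← Category.assoc, Sigma.ι_reindex_hom, Sigma.ι_desc, Sigma.ι_desc]
  have h3 : Sigma.desc f = (Sigma.reindex e.symm Y).inv ≫ Sigma.desc (fun a => f (e.symm a)) :=
    (Iso.eq_inv_comp _).2 h2
  rw [h3]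
  exact (MorphismProperty.cancel_left_of_respectsIso @IsFinite _ _).2 h1

open Groth.Agent.Lib.Helper26 in
/-- `S0270` in `Curv2.bc` form -/
theorem split_dominated (U : FEt.Cat X)
    (hU : Pi1.IsSplit ((FEt.restrict (Curv2.bcFst k X (AlgebraicClosure k))).obj U)) :
    ∃ (V : FEt.Cat (Spec (CommRingCat.of k)))
      (e : (FEt.restrict (X ↘ Spec (CommRingCat.of k))).obj V ⟶ U), Surjective e.left := by
  classical
  obtain ⟨ι, hfin, e, he⟩ := hU
  let K := AlgebraicClosure k
  let pr : Curv2.bc k X K ⟶ X := Curv2.bcFst k X K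
  haveI : IsFinite U.hom := U.prop.1
  haveI : Etale U.hom := U.prop.2
  let e' : pullback U.hom pr ≅ ∐ fun _ : ι => Curv2.bc k X K := e
  have he' : ∀ i, Sigma.ι (fun _ : ι => Curv2.bc k X K) i ≫ e'.inv ≫ pullback.snd U.hom pr =
      𝟙 _ := he
  let σ : ι → (Curv2.bc k X K ⟶ pullback U.hom pr) := fun i =>
    Sigma.ι (fun _ : ι => Curv2.bc k X K) i ≫ e'.inv
  have hσ : ∀ i, σ i ≫ pullback.snd U.hom pr = 𝟙 _ := fun i => by
    simpa [σ] using he' i
  let τ : ι → (Curv2.bc k X K ⟶ U.left) := fun i => σ i ≫ pullback.fst U.hom pr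
  have hτ : ∀ i, τ i ≫ U.hom = pr := fun i => by
    simp only [τ, Category.assoc, pullback.condition]
    rw [← Category.assoc, hσ, Category.id_comp]
  -- step 1: descend to the separable closure
  let Ks : IntermediateField k K := separableClosure k K
  let F₁ : Finset K → IntermediateField k K := fun _ => Ks
  let f₁ : Curv2.bc k X K ⟶ Curv2.bc k X ↥Ks := bcLeg k K F₁ X ∅
  choose τs hτs1 hτs2 using fun i => descend_to_sepClosure k X U.hom (τ i) (hτ i)
  -- step 2: descend to finite stages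
  let F₂ : Finset ↥Ks → IntermediateField k ↥Ks := fun s => IntermediateField.adjoin k (s : Set ↥Ks)
  have hmono : Monotone F₂ := fun s t h =>
    IntermediateField.adjoin.mono k _ _ (by exact_mod_cast h)
  have hmem : ∀ x : ↥Ks, x ∈ F₂ {x} := fun x =>
    IntermediateField.subset_adjoin k _ (by simp)
  choose s g hg1 hg2 using fun i =>
    descend_to_stage k X ↥Ks F₂ hmono hmem U.hom (τs i) (hτs1 i)
  haveI := Fintype.ofFinite ι
  let S : Finset ↥Ks := Finset.univ.sup s
  have hs : ∀ i, s i ≤ S := fun i => Finset.le_sup (Finset.mem_univ i)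
  have hfd : FiniteDimensional k ↥(F₂ S) :=
    IntermediateField.finiteDimensional_adjoin (fun x _ => Algebra.IsIntegral.isIntegral x)
  haveI : Algebra.IsSeparable k ↥Ks := separableClosure.isSeparable k K
  have hsep : Algebra.IsSeparable k ↥(F₂ S) := Algebra.isSeparable_tower_bot_of_isSeparable k _ ↥Ks
  let g' : ι → (Curv2.bc k X ↥(F₂ S) ⟶ U.left) := fun i => bcMap k ↥Ks F₂ hmono X (hs i) ≫ g i
  have hg'1 : ∀ i, g' i ≫ U.hom = Curv2.bcFst k X ↥(F₂ S) := by
    intro i
    simp only [g', Category.assoc, hg2]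
    exact bcMap_fst k ↥Ks F₂ hmono X (hs i)
  let a : Curv2.bc k X K ⟶ Curv2.bc k X ↥(F₂ S) := f₁ ≫ bcLeg k ↥Ks F₂ X S
  have hg'2 : ∀ i, a ≫ g' i = τ i := by
    intro i
    simp only [a, g', Category.assoc]
    rw [← Category.assoc (bcLeg k ↥Ks F₂ X S), bcLeg_bcMap, hg1, hτs2]
  -- the finite étale `k`-scheme `V`
  let q : Spec (CommRingCat.of ↥(F₂ S)) ⟶ Spec (CommRingCat.of k) :=
    Spec.map (CommRingCat.ofHom (algebraMap k ↥(F₂ S)))
  haveI : IsFinite q := by
    rw [IsFinite.SpecMap_iff]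
    exact RingHom.finite_algebraMap.2 inferInstance
  haveI : Etale q := by
    rw [HasRingHomProperty.Spec_iff (P := @Etale)]
    haveI : Algebra.FormallyEtale k ↥(F₂ S) := Algebra.FormallyEtale.of_isSeparable k _
    haveI : Algebra.FinitePresentation k ↥(F₂ S) :=
      Algebra.FinitePresentation.of_finiteType.1 inferInstance
    exact RingHom.etale_algebraMap.2 ⟨inferInstance, inferInstance⟩
  let gq : ι → (Spec (CommRingCat.of ↥(F₂ S)) ⟶ Spec (CommRingCat.of k)) := fun _ => q
  let vh : (∐ fun _ : ι => Spec (CommRingCat.of ↥(F₂ S))) ⟶ Spec (CommRingCat.of k) :=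
    Sigma.desc gq
  haveI : IsFinite vh := isFinite_sigmaDesc' ι _ gq (fun _ => inferInstance)
  haveI : Etale vh := IsZariskiLocalAtSource.sigmaDesc (fun _ => inferInstance)
  let V : FEt.Cat (Spec (CommRingCat.of k)) := MorphismProperty.Over.mk ⊤ vh ⟨‹_›, ‹_›⟩
  let fX : X ⟶ Spec (CommRingCat.of k) := X ↘ Spec (CommRingCat.of k)
  obtain ⟨hd⟩ := MorSchSigma.isColimit_m (fun _ : ι => Spec (CommRingCat.of ↥(F₂ S))) gq
    (Over.mk fX)
  let mm : ∀ i : ι, Curv2.bc k X ↥(F₂ S) ⟶ pullback fX vh := fun i =>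
    MorSchSigma.m (fun _ : ι => Spec (CommRingCat.of ↥(F₂ S))) gq (Over.mk fX) i
  let el : pullback fX vh ⟶ U.left := Cofan.IsColimit.desc hd (fun i => g' i)
  have hel : ∀ i, mm i ≫ el = g' i := fun i => Cofan.IsColimit.fac hd _ i
  have hw : el ≫ U.hom = pullback.fst fX vh := by
    refine Cofan.IsColimit.hom_ext hd _ _ (fun i => ?_)
    show mm i ≫ el ≫ U.hom = mm i ≫ _
    rw [← Category.assoc, hel, hg'1]
    exact (MorSchSigma.m_fst _ gq (Over.mk fX) i).symm
  let e0 : pullback vh fX ⟶ U.left := (pullbackSymmetry vh fX).hom ≫ el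
  have he0 : e0 ≫ U.hom = pullback.snd vh fX := by
    simp [e0, hw]
  refine ⟨V, MorphismProperty.Over.homMk e0 he0 trivial, ?_⟩
  change Surjective e0
  refine ⟨fun u => ?_⟩
  haveI : Surjective (Spec.map (CommRingCat.ofHom (algebraMap k K))) := by
    refine ⟨fun x => ?_⟩
    haveI : Subsingleton (PrimeSpectrum k) := inferInstance
    obtain ⟨y⟩ : Nonempty (PrimeSpectrum K) := inferInstance
    exact ⟨y, Subsingleton.elim (α := PrimeSpectrum k) _ _⟩
  haveI : Surjective pr :=
    MorphismProperty.pullback_fst (P := @Surjective) _ _ inferInstance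
  haveI : Surjective (pullback.fst U.hom pr) :=
    MorphismProperty.pullback_fst (P := @Surjective) _ _ inferInstance
  obtain ⟨z, rfl⟩ := (pullback.fst U.hom pr).surjective u
  obtain ⟨⟨i, y⟩, hy⟩ := (sigmaMk (fun _ : ι => Curv2.bc k X K)).surjective (e'.hom z)
  rw [sigmaMk_mk] at hy
  have hz : z = σ i y := by
    simp only [σ, Scheme.Hom.comp_apply]
    rw [hy]
    simp
  refine ⟨(pullbackSymmetry vh fX).inv (mm i (a y)), ?_⟩
  have h1 : (pullbackSymmetry vh fX).inv ≫ e0 = el := by simp [e0]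
  rw [← Scheme.Hom.comp_apply, h1, ← Scheme.Hom.comp_apply, hel, ← Scheme.Hom.comp_apply,
    hg'2, hz]
  rfl

end Groth.Agent.Lib.Helper9.AlgClDesc
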