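import Mathlib
import Groth.Prelude.Def_AlgSp4
import Groth.Agent.Lib.Helper3.AlgSpProper
import Groth.Agent.S9922
import Groth.Agent.S9923

set_option autoImplicit false
universe u
open CategoryTheory CategoryTheory.Limits AlgebraicGeometry
open AlgSp
open Groth.Agent.Lib.Helper3

namespace Groth.Agent.Lib.Helper9.AlgSpFin

variable {S : Scheme.{u}}

/-- any pullback of `f` along `g` is closed on points, if one pullback is `h_i` with `i` universally closed -/
theorem isUnivClosedMor_yon_map {W Z : Over S} (i : W ⟶ Z) (hi : UniversallyClosed i.left) :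
    IsUnivClosedMor ((yon S).map i) :=
  Groth.Agent.S9922.isUnivClosedMor_of_repWith ((repWith_yon_map_iff @UniversallyClosed i).2 hi)

theorem universallyClosed_of_isUnivClosedMor_yon_map {W Z : Over S} (i : W ⟶ Z)
    (hi : IsUnivClosedMor ((yon S).map i)) : UniversallyClosed i.left :=
  (repWith_yon_map_iff @UniversallyClosed i).1
    (Groth.Agent.S9922.repWith_universallyClosed_of_isUnivClosedMor (representable_yon_map i) hi)

theorem isIntegralMor_iff {X Y : Sp S} (f : X ⟶ Y) :
    IsIntegralMor f ↔ (IsAffineMor f ∧ IsUnivClosedMor f) := by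
  constructor
  · intro h
    refine ⟨fun Z hZ g => ?_, ?_⟩
    · obtain ⟨W, i, fst, sq, hW, -⟩ := h hZ g
      exact ⟨W, i, fst, sq, hW⟩
    · rw [Groth.Agent.S9923.isUnivClosedMor_iff_affine]
      intro Z hZ g P fst snd sq
      obtain ⟨W, i, fstW, sqW, hW, hi⟩ := h hZ g
      have hi' : UniversallyClosed i.left := by
        have := hi
        infer_instance
      have huc := isUnivClosedMor_yon_map i hi'
      have sq' : IsPullback (sq.isoIsPullback _ _ sqW).hom snd ((yon S).map i) (𝟙 _) :=
        IsPullback.of_horiz_isIso ⟨by simp⟩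
      exact huc (IsAlgSpace.yon_obj Z) (𝟙 _) _ snd sq'
  · rintro ⟨ha, hc⟩ Z hZ g
    obtain ⟨W, i, fst, sq, hW⟩ := ha hZ g
    refine ⟨W, i, fst, sq, hW, ?_⟩
    have huc : IsUnivClosedMor ((yon S).map i) := isUnivClosedMor_of_isPullback sq hc
    have h1 := universallyClosed_of_isUnivClosedMor_yon_map i huc
    have : IsAffine W.left := hW
    have : IsAffine Z.left := hZ
    have h2 : IsAffineHom i.left := inferInstance
    exact IsIntegralHom.iff_universallyClosed_and_isAffineHom.2 ⟨h1, h2⟩


theorem isProperMor_yon_map {W Z : Over S} (i : W ⟶ Z) (hi : IsProper i.left) :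
    IsProperMor ((yon S).map i) := by
  refine ⟨(isSeparatedMor_yon_map_iff i).2 inferInstance, ⟨?_, ?_⟩, ?_⟩
  · exact locP_of_repWith isEtLocal_locallyOfFiniteType _
      ((repWith_yon_map_iff @LocallyOfFiniteType i).2 inferInstance)
  · exact isQuasiCompactMor_of_repWith_quasiCompact _
      ((repWith_yon_map_iff @QuasiCompact i).2 inferInstance)
  · exact isUnivClosedMor_yon_map i inferInstance

theorem isProper_of_isProperMor_yon_map {W Z : Over S} (i : W ⟶ Z)
    (hi : IsProperMor ((yon S).map i)) : IsProper i.left := by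
  have h1 : IsSeparated i.left := (isSeparatedMor_yon_map_iff i).1 hi.1
  have h2 : LocallyOfFiniteType i.left := locP_yon_map hi.2.1.1
  have h3 : QuasiCompact i.left :=
    (repWith_yon_map_iff @QuasiCompact i).1
      (repWith_quasiCompact_of_isQuasiCompactMor _ (representable_yon_map i) hi.2.1.2)
  have h4 : UniversallyClosed i.left := universallyClosed_of_isUnivClosedMor_yon_map i hi.2.2
  exact {}

theorem isFiniteMor_iff {X Y : Space S} (f : X ⟶ Y) :
    IsFiniteMor f.hom ↔ (IsAffineMor f.hom ∧ IsProperMor f.hom) := by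
  constructor
  · intro h
    refine ⟨fun Z hZ g => ?_, ?_⟩
    · obtain ⟨W, i, fst, sq, hW, -⟩ := h hZ g
      exact ⟨W, i, fst, sq, hW⟩
    · rw [isProperMor_iff_affine]
      intro Z hZ g P fst snd sq
      obtain ⟨W, i, fstW, sqW, hW, hi⟩ := h hZ g
      have hi' : IsProper i.left := by
        have := hi
        infer_instance
      have hp := isProperMor_yon_map i hi'
      have sq' : IsPullback (sq.isoIsPullback _ _ sqW).hom snd ((yon S).map i) (𝟙 _) :=
        IsPullback.of_horiz_isIso ⟨by simp⟩
      exact isProperMor_of_isPullback (IsAlgSpace.yon_obj W) (IsAlgSpace.yon_obj Z)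
        (IsAlgSpace.yon_obj Z)
        (isAlgSpace_of_isPullback' Y.property X.property (IsAlgSpace.yon_obj Z) sq) sq' hp
  · rintro ⟨ha, hc⟩ Z hZ g
    obtain ⟨W, i, fst, sq, hW⟩ := ha hZ g
    refine ⟨W, i, fst, sq, hW, ?_⟩
    have hp : IsProperMor ((yon S).map i) :=
      isProperMor_of_isPullback X.property Y.property (IsAlgSpace.yon_obj Z)
        (IsAlgSpace.yon_obj W) sq hc
    have h1 := isProper_of_isProperMor_yon_map i hp
    have : IsAffine W.left := hW
    have : IsAffine Z.left := hZ
    have h2 : IsAffineHom i.left := inferInstance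
    exact IsFinite.iff_isProper_and_isAffineHom.2 ⟨h1, h2⟩

end Groth.Agent.Lib.Helper9.AlgSpFin
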