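import Groth.Agent.Lib.Helper9.FpqcLoc3
import Mathlib.CategoryTheory.Sites.Canonical

set_option autoImplicit false
universe v u
open CategoryTheory CategoryTheory.Limits AlgebraicGeometry MorphismProperty Opposite

namespace Groth.Agent.Lib.Helper9.FpqcLoc

/-- Morphisms of schemes glue uniquely along fpqc covering families. -/
theorem existsUnique_glue {Y T : Scheme.{u}} {I : Type*} {W : I → Scheme.{u}} (π : ∀ i, W i ⟶ Y)
    (hπ : Presieve.ofArrows W π ∈ Scheme.fpqcPrecoverage Y) (x : ∀ i, W i ⟶ T)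
    (hx : ∀ (i j : I) (Z : Scheme.{u}) (gi : Z ⟶ W i) (gj : Z ⟶ W j),
      gi ≫ π i = gj ≫ π j → gi ≫ x i = gj ≫ x j) :
    ∃! t : Y ⟶ T, ∀ i, π i ≫ t = x i := by
  have hsh : Presieve.IsSheaf Scheme.fpqcTopology (yoneda.obj T) :=
    GrothendieckTopology.Subcanonical.isSheaf_of_isRepresentable _
  have h1 : Presieve.IsSheafFor (yoneda.obj T) (Presieve.ofArrows W π) := by
    rw [Presieve.isSheafFor_iff_generate]
    exact hsh _ (Precoverage.generate_mem_toGrothendieck hπ)
  rw [Presieve.isSheafFor_arrows_iff] at h1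
  exact h1 x (fun i j Z gi gj h => hx i j Z gi gj h)

end Groth.Agent.Lib.Helper9.FpqcLoc
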