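import Mathlib
import Groth.Prelude.Def_Mor2

set_option backward.isDefEq.respectTransparency false
set_option autoImplicit false
set_option linter.unusedSectionVars false
set_option linter.unusedVariables false
universe u
open CategoryTheory CategoryTheory.Limits AlgebraicGeometry Opposite

namespace Groth.Agent.Lib.Helper9.UAC

/-- a finite open cover of an affine scheme is refined by basic opens, one inside each member -/
theorem exists_basicOpen_refinement {B : CommRingCat.{u}} {J : Type*}
    (G : J → TopologicalSpace.Opens (PrimeSpectrum B)) (hG : ⨆ i, G i = ⊤) :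
    ∃ b : J → B, (∀ i, PrimeSpectrum.basicOpen (b i) ≤ G i) ∧ Ideal.span (Set.range b) = ⊤ := by
  classical
  let I : J → Ideal B := fun i => PrimeSpectrum.vanishingIdeal ((G i : Set (PrimeSpectrum B))ᶜ)
  have hI : ⨆ i, I i = ⊤ := by
    rw [← PrimeSpectrum.zeroLocus_empty_iff_eq_top, PrimeSpectrum.zeroLocus_iSup]
    rw [Set.eq_empty_iff_forall_notMem]
    intro p hp
    have hp' : p ∈ (⨆ i, G i : TopologicalSpace.Opens (PrimeSpectrum B)) := by rw [hG]; trivial
    obtain ⟨i, hi⟩ := TopologicalSpace.Opens.mem_iSup.1 hp'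
    have h1 := Set.mem_iInter.1 hp i
    rw [PrimeSpectrum.zeroLocus_vanishingIdeal_eq_closure,
      (G i).isOpen.isClosed_compl.closure_eq] at h1
    exact h1 hi
  have h1 : (1 : B) ∈ ⨆ i, I i := by rw [hI]; trivial
  obtain ⟨f, hf, hsum⟩ := (Submodule.mem_iSup_iff_exists_finsupp I 1).1 h1
  refine ⟨fun i => f i, fun i p hp => ?_, ?_⟩
  · by_contra hpG
    have : f i ∈ p.asIdeal := by
      have := hf i
      rw [PrimeSpectrum.mem_vanishingIdeal] at this
      exact this p hpG
    exact hp this
  · rw [Ideal.eq_top_iff_one, ← hsum]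
    refine Ideal.sum_mem _ (fun i _ => Ideal.subset_span ⟨i, rfl⟩)

end Groth.Agent.Lib.Helper9.UAC
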