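import Groth.Agent.Lib.Helper9.PiLoc1
import Groth.Agent.Lib.Helper9.UAC1
import Groth.Agent.Lib.Helper9.FpqcLoc4

set_option backward.isDefEq.respectTransparency false
set_option maxHeartbeats 800000
set_option autoImplicit false
set_option linter.unusedSectionVars false
set_option linter.unusedVariables false
universe v u
open CategoryTheory CategoryTheory.Limits AlgebraicGeometry Opposite

namespace Groth.Agent.Lib.Helper9.PiLoc

/-- a finite, jointly surjective family of flat quasi-compact morphisms is an fpqc covering -/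
theorem mem_fpqc_of_finite' {S : Scheme.{u}} {K : Type v} [Finite K] {W : K → Scheme.{u}}
    (gW : ∀ k, W k ⟶ S) (hfl : ∀ k, Flat (gW k)) (hqc : ∀ k, QuasiCompact (gW k))
    (hs : ∀ s : S, ∃ k, s ∈ Set.range (gW k)) :
    Presieve.ofArrows W gW ∈ Scheme.fpqcPrecoverage S := by
  let 𝒰 : S.Cover (Scheme.precoverage @Flat) :=
    { I₀ := K, X := W, f := gW
      mem₀ := by
        rw [Scheme.presieve₀_mem_precoverage_iff]
        exact ⟨hs, hfl⟩ }
  haveI : ∀ i, QuasiCompact (𝒰.f i) := hqc
  haveI : Finite 𝒰.I₀ := ‹Finite K›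
  haveI : QuasiCompactCover 𝒰.toPreZeroHypercover := .of_finite
  exact (Scheme.Cover.ofQuasiCompactCover 𝒰).mem₀

variable {ι : Type u} (A : ι → CommRingCat.{u})

/-- the component rings -/
abbrev Rc (β : ∀ i, A i) (i : ι) : CommRingCat.{u} := CommRingCat.of (Localization.Away (β i))

/-- the product of the localizations as an object of `CommRingCat` -/
abbrev LC (β : ∀ i, A i) : CommRingCat.{u} := CommRingCat.of (∀ i, Rc A β i)

/-- the product ring -/
abbrev PA : CommRingCat.{u} := CommRingCat.of (∀ i, A i)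

/-- the canonical map as a morphism of `CommRingCat` -/
noncomputable abbrev φC (β : ∀ i, A i) : PA A ⟶ LC A β :=
  CommRingCat.ofHom (φ (fun i => (A i : Type u)) β)

/-- the projections -/
abbrev evA (i : ι) : PA A ⟶ A i := CommRingCat.ofHom (Pi.evalRingHom (fun j => (A j : Type u)) i)

abbrev evL (β : ∀ i, A i) (i : ι) : LC A β ⟶ Rc A β i :=
  CommRingCat.ofHom (Pi.evalRingHom (fun j => (Rc A β j : Type u)) i)

noncomputable abbrev algC (β : ∀ i, A i) (i : ι) : A i ⟶ Rc A β i :=
  CommRingCat.ofHom (algebraMap (A i) (Localization.Away (β i)))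

theorem φC_evL (β : ∀ i, A i) (i : ι) : φC A β ≫ evL A β i = evA A i ≫ algC A β i := rfl

instance (β : ∀ i, A i) : Flat (Spec.map (φC A β)) := by
  rw [Flat.SpecMap_iff]
  exact flat (fun i => (A i : Type u)) β

/-- the spectra of finitely many such rings cover `Spec (Π A_i)` -/
theorem exists_mem_range {J : Type*} [Finite J] (β : J → ∀ i, A i)
    (hβ : ∀ i, Ideal.span (Set.range fun j => β j i) = ⊤) (p : Spec (PA A)) :
    ∃ j, p ∈ Set.range (Spec.map (φC A (β j))) := by
  obtain ⟨j, hj⟩ := exists_disjoint (fun i => (A i : Type u)) β hβ p.asIdeal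
  refine ⟨j, ?_⟩
  have h1 : p ∈ Set.range (PrimeSpectrum.comap (φ (fun i => (A i : Type u)) (β j))) := by
    rw [range_comap]
    exact hj
  obtain ⟨p', hp'⟩ := h1
  exact ⟨p', hp'⟩


section compat

variable {A} {X : Scheme.{u}} (f : ∀ i, Spec (A i) ⟶ X)

/-- a morphism from `Spec (LC β)` restricting to `f` on the components -/
def IsGood (β : ∀ i, A i) (h : Spec (LC A β) ⟶ X) : Prop :=
  ∀ i, Spec.map (evL A β i) ≫ h = Spec.map (algC A β i) ≫ f i

theorem compat [QuasiSeparatedSpace X] (β β' : ∀ i, A i) (h : Spec (LC A β) ⟶ X)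
    (h' : Spec (LC A β') ⟶ X) (hh : IsGood f β h) (hh' : IsGood f β' h') (T : CommRingCat.{u})
    (γ₁ : LC A β ⟶ T) (γ₂ : LC A β' ⟶ T) (e : φC A β ≫ γ₁ = φC A β' ≫ γ₂) :
    Spec.map γ₁ ≫ h = Spec.map γ₂ ≫ h' := by
  let δ : ∀ i, A i := fun i => β i * β' i
  have hδ : ∀ i, IsUnit (algebraMap (A i) (Localization.Away (δ i)) (β i) *
      algebraMap (A i) (Localization.Away (δ i)) (β' i)) := fun i => by
    rw [← map_mul]
    exact IsLocalization.Away.algebraMap_isUnit (δ i)
  have hu : ∀ i, IsUnit (algebraMap (A i) (Localization.Away (δ i)) (β i)) := fun i =>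
    isUnit_of_mul_isUnit_left (hδ i)
  have hu' : ∀ i, IsUnit (algebraMap (A i) (Localization.Away (δ i)) (β' i)) := fun i =>
    isUnit_of_mul_isUnit_right (hδ i)
  let ρ := restr (fun i => (A i : Type u)) β δ hu
  let ρ' := restr (fun i => (A i : Type u)) β' δ hu'
  let ψ : (∀ i, A i) →+* T := γ₁.hom.comp (φ (fun i => (A i : Type u)) β)
  have hψ' : ψ = γ₂.hom.comp (φ (fun i => (A i : Type u)) β') :=
    congrArg CommRingCat.Hom.hom e
  have hunit : ∀ N : ι → ℕ, IsUnit (ψ fun i => δ i ^ N i) := by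
    intro N
    have hN : (fun i => δ i ^ N i) = (fun i => β i ^ N i) * (fun i => β' i ^ N i) := by
      ext i
      simp [δ, mul_pow]
    rw [hN, map_mul]
    refine IsUnit.mul ?_ ?_
    · exact (isUnit_φ_pow (fun i => (A i : Type u)) β N).map γ₁.hom
    · rw [hψ']
      exact (isUnit_φ_pow (fun i => (A i : Type u)) β' N).map γ₂.hom
  obtain ⟨θ, hθ⟩ := exists_lift (fun i => (A i : Type u)) δ ψ hunit
  have e1 : γ₁.hom = θ.comp ρ := hom_ext (fun i => (A i : Type u)) β (by
    rw [RingHom.comp_assoc, restr_comp_φ, hθ])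
  have e2 : γ₂.hom = θ.comp ρ' := hom_ext (fun i => (A i : Type u)) β' (by
    rw [RingHom.comp_assoc, restr_comp_φ, hθ, hψ'])
  have key : Spec.map (CommRingCat.ofHom ρ : LC A β ⟶ LC A δ) ≫ h =
      Spec.map (CommRingCat.ofHom ρ' : LC A β' ⟶ LC A δ) ≫ h' := by
    apply pointsPi_injective (fun i => Rc A δ i) X
    funext i
    show Spec.map (evL A δ i) ≫ Spec.map (CommRingCat.ofHom ρ : LC A β ⟶ LC A δ) ≫ h =
      Spec.map (evL A δ i) ≫ Spec.map (CommRingCat.ofHom ρ' : LC A β' ⟶ LC A δ) ≫ h'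
    have c1 : (CommRingCat.ofHom ρ : LC A β ⟶ LC A δ) ≫ evL A δ i =
        evL A β i ≫ (CommRingCat.ofHom (IsLocalization.Away.lift (β i) (hu i)) :
          Rc A β i ⟶ Rc A δ i) := by
      apply CommRingCat.hom_ext
      apply RingHom.ext
      intro z
      exact restr_apply (fun i => (A i : Type u)) β δ hu z i
    have c2 : (CommRingCat.ofHom ρ' : LC A β' ⟶ LC A δ) ≫ evL A δ i =
        evL A β' i ≫ (CommRingCat.ofHom (IsLocalization.Away.lift (β' i) (hu' i)) :
          Rc A β' i ⟶ Rc A δ i) := by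
      apply CommRingCat.hom_ext
      apply RingHom.ext
      intro z
      exact restr_apply (fun i => (A i : Type u)) β' δ hu' z i
    have d1 : algC A β i ≫ (CommRingCat.ofHom (IsLocalization.Away.lift (β i) (hu i)) :
          Rc A β i ⟶ Rc A δ i) = algC A δ i := by
      rw [← CommRingCat.ofHom_comp, IsLocalization.Away.lift_comp]
    have d2 : algC A β' i ≫ (CommRingCat.ofHom (IsLocalization.Away.lift (β' i) (hu' i)) :
          Rc A β' i ⟶ Rc A δ i) = algC A δ i := by
      rw [← CommRingCat.ofHom_comp, IsLocalization.Away.lift_comp]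
    rw [← Spec.map_comp_assoc, c1, Spec.map_comp_assoc, hh i, ← Spec.map_comp_assoc, d1,
      ← Spec.map_comp_assoc, c2, Spec.map_comp_assoc, hh' i, ← Spec.map_comp_assoc, d2]
  have g1 : γ₁ = (CommRingCat.ofHom ρ : LC A β ⟶ LC A δ) ≫ CommRingCat.ofHom θ :=
    CommRingCat.hom_ext e1
  have g2 : γ₂ = (CommRingCat.ofHom ρ' : LC A β' ⟶ LC A δ) ≫ CommRingCat.ofHom θ :=
    CommRingCat.hom_ext e2
  rw [g1, g2, Spec.map_comp, Spec.map_comp, Category.assoc, Category.assoc, key]

end compat


theorem hom_ext_of_fpqc' {Y T : Scheme.{u}} {I : Type*} {W : I → Scheme.{u}} (π : ∀ i, W i ⟶ Y)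
    (hπ : Presieve.ofArrows W π ∈ Scheme.fpqcPrecoverage Y) (s t : Y ⟶ T)
    (h : ∀ i, π i ≫ s = π i ≫ t) : s = t := by
  obtain ⟨t', -, ht'⟩ := FpqcLoc.existsUnique_glue π hπ (fun i => π i ≫ s)
    (fun i j Z gi gj e => by rw [reassoc_of% e])
  rw [ht' s (fun i => rfl), ht' t (fun i => (h i).symm)]

theorem mem_basicOpen_of_range (B : CommRingCat.{u}) (r : B)
    (x : Spec (CommRingCat.of (Localization.Away r))) :
    Spec.map (CommRingCat.ofHom (algebraMap B (Localization.Away r))) x ∈
      PrimeSpectrum.basicOpen r := by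
  have h1 := PrimeSpectrum.localization_away_comap_range (Localization.Away r) r
  have h2 : Spec.map (CommRingCat.ofHom (algebraMap B (Localization.Away r))) x ∈
      Set.range (PrimeSpectrum.comap (algebraMap B (Localization.Away r))) := ⟨x, rfl⟩
  rw [h1] at h2
  exact h2

theorem exists_of_mem_basicOpen (B : CommRingCat.{u}) (r : B) (p : Spec B)
    (hp : p ∈ PrimeSpectrum.basicOpen r) :
    p ∈ Set.range (Spec.map (CommRingCat.ofHom (algebraMap B (Localization.Away r)))) := by
  have h1 := PrimeSpectrum.localization_away_comap_range (Localization.Away r) r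
  have h2 : p ∈ Set.range (PrimeSpectrum.comap (algebraMap B (Localization.Away r))) := by
    rw [h1]; exact hp
  obtain ⟨x, hx⟩ := h2
  exact ⟨x, hx⟩

/-- morphisms from the spectrum of a product of rings to a quasi-compact quasi-separated
scheme: every family of points comes from a point of the product -/
theorem pointsPi_surjective_of_qcqs (X : Scheme.{u}) [CompactSpace X] [QuasiSeparatedSpace X] :
    Function.Surjective (pointsPi A X) := by
  classical
  intro f
  let 𝒰 := X.affineCover.finiteSubcover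
  haveI : Finite 𝒰.I₀ := inferInstance
  let V : 𝒰.I₀ → X.Opens := fun j => (𝒰.f j).opensRange
  have hVtop : ⨆ j, V j = ⊤ := 𝒰.iSup_opensRange
  have hG : ∀ i, ⨆ j, (f i) ⁻¹ᵁ V j = ⊤ := by
    intro i
    apply TopologicalSpace.Opens.ext
    ext p
    simp only [TopologicalSpace.Opens.coe_iSup, Set.mem_iUnion, TopologicalSpace.Opens.coe_top,
      Set.mem_univ, iff_true]
    have : f i p ∈ (⨆ j, V j : X.Opens) := by rw [hVtop]; trivial
    obtain ⟨j, hj⟩ := TopologicalSpace.Opens.mem_iSup.1 this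
    exact ⟨j, hj⟩
  have hb := fun i => UAC.exists_basicOpen_refinement (B := A i)
    (fun j => (f i) ⁻¹ᵁ V j) (hG i)
  choose b hbG hbtop using hb
  let β : 𝒰.I₀ → ∀ i, A i := fun j i => b i j
  -- the morphisms `h j`
  have hh : ∀ j, ∃ h : Spec (LC A (β j)) ⟶ X, IsGood f (β j) h := by
    intro j
    have hr : ∀ i, Set.range (Spec.map (algC A (β j) i) ≫ f i) ⊆ Set.range (𝒰.f j) := by
      intro i
      rintro _ ⟨x, rfl⟩
      rw [Scheme.Hom.comp_apply]
      exact hbG i j (mem_basicOpen_of_range (A i) (b i j) x)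
    let g : ∀ i, Spec (Rc A (β j) i) ⟶ 𝒰.X j := fun i =>
      IsOpenImmersion.lift (𝒰.f j) (Spec.map (algC A (β j) i) ≫ f i) (hr i)
    obtain ⟨h₀, hh₀⟩ := pointsPi_surjective_of_isAffine (fun i => Rc A (β j) i) (𝒰.X j) g
    refine ⟨h₀ ≫ 𝒰.f j, fun i => ?_⟩
    have h3 : Spec.map (evL A (β j) i) ≫ h₀ = g i := congrFun hh₀ i
    rw [← Category.assoc, h3]
    exact IsOpenImmersion.lift_fac _ _ _
  choose h hgood using hh
  -- the covering
  have hcov : Presieve.ofArrows (fun j => Spec (LC A (β j))) (fun j => Spec.map (φC A (β j))) ∈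
      Scheme.fpqcPrecoverage (Spec (PA A)) := by
    apply mem_fpqc_of_finite'
    · intro j; infer_instance
    · intro j; infer_instance
    · intro p; exact exists_mem_range A β (fun i => hbtop i) p
  have hcompat : ∀ (j j' : 𝒰.I₀) (Z : Scheme.{u}) (gj : Z ⟶ Spec (LC A (β j)))
      (gj' : Z ⟶ Spec (LC A (β j'))),
      gj ≫ Spec.map (φC A (β j)) = gj' ≫ Spec.map (φC A (β j')) → gj ≫ h j = gj' ≫ h j' := by
    intro j j' Z gj gj' e
    apply Scheme.Cover.hom_ext Z.affineCover
    intro k
    rw [← Category.assoc, ← Category.assoc]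
    have e1 : Spec.map (Spec.preimage (Z.affineCover.f k ≫ gj)) = Z.affineCover.f k ≫ gj :=
      Spec.map_preimage _
    have e2 : Spec.map (Spec.preimage (Z.affineCover.f k ≫ gj')) = Z.affineCover.f k ≫ gj' :=
      Spec.map_preimage _
    rw [← e1, ← e2]
    apply compat f (β j) (β j') (h j) (h j') (hgood j) (hgood j')
    apply Spec.map_injective
    rw [Spec.map_comp, Spec.map_comp, e1, e2, Category.assoc, Category.assoc, e]
  obtain ⟨F, hF, -⟩ := FpqcLoc.existsUnique_glue _ hcov h hcompat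
  refine ⟨F, ?_⟩
  funext i
  show Spec.map (evA A i) ≫ F = f i
  have hcovi : Presieve.ofArrows (fun j => Spec (Rc A (β j) i))
      (fun j => Spec.map (algC A (β j) i)) ∈ Scheme.fpqcPrecoverage (Spec (A i)) := by
    apply mem_fpqc_of_finite'
    · intro j; infer_instance
    · intro j; infer_instance
    · intro p
      -- some `b i j` is not in `p`
      have h1 : ∃ j, b i j ∉ p.asIdeal := by
        by_contra hcon
        push Not at hcon
        have h2 : Ideal.span (Set.range (b i)) ≤ p.asIdeal := by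
          rw [Ideal.span_le]
          rintro _ ⟨j, rfl⟩
          exact hcon j
        rw [hbtop i] at h2
        exact p.isPrime.ne_top (top_unique h2)
      obtain ⟨j, hj⟩ := h1
      exact ⟨j, exists_of_mem_basicOpen (A i) (b i j) p hj⟩
  apply hom_ext_of_fpqc' _ hcovi
  intro j
  rw [← Spec.map_comp_assoc, ← φC_evL A (β j) i, Spec.map_comp_assoc, hF j]
  exact hgood j i

end Groth.Agent.Lib.Helper9.PiLoc
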