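import Groth.Prelude.Def_AlgSp2
import Groth.Agent.Lib.Helper9.PiLoc2

set_option backward.isDefEq.respectTransparency false
set_option maxHeartbeats 800000
set_option autoImplicit false
set_option linter.unusedSectionVars false
set_option linter.unusedVariables false
universe u
open CategoryTheory CategoryTheory.Limits AlgebraicGeometry Opposite

namespace Groth.Agent.Lib.Helper9.AlgSpPi

variable {S : Scheme.{u}}

/-- the projections as morphisms over `S` -/
noncomputable abbrev eMap {ι : Type u} (A : ι → CommRingCat.{u}) (h : Spec (CommRingCat.of (∀ i, A i)) ⟶ S)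
    (i : ι) : Over.mk (Spec.map (CommRingCat.ofHom (Pi.evalRingHom (fun j => (A j : Type u)) i)) ≫ h) ⟶
      Over.mk h :=
  Over.homMk (Spec.map (CommRingCat.ofHom (Pi.evalRingHom (fun j => (A j : Type u)) i))) rfl

theorem pi_points_injective (F : AlgSp.Sp S) (hqs : AlgSp.IsQuasiSeparatedSp F)
    {ι : Type u} (A : ι → CommRingCat.{u}) (h : Spec (CommRingCat.of (∀ i, A i)) ⟶ S)
    (g₁ g₂ : (AlgSp.yon S).obj (Over.mk h) ⟶ F)
    (hg : ∀ i, (AlgSp.yon S).map (eMap A h i) ≫ g₁ = (AlgSp.yon S).map (eMap A h i) ≫ g₂) :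
    g₁ = g₂ := by
  let T : Over S := Over.mk h
  let G : (AlgSp.yon S).obj T ⟶ F ⨯ F := prod.lift g₁ g₂
  obtain ⟨hrep, hP⟩ := (AlgSp.repWith_iff _ _).1 hqs
  obtain ⟨V, snd, fst, hpb⟩ := hrep G
  haveI hqc : QuasiCompact snd.left := hP G fst snd hpb
  -- `snd` is a monomorphism
  haveI : Mono (Limits.diag F) := by
    haveI : IsSplitMono (Limits.diag F) := ⟨⟨⟨prod.fst, by simp⟩⟩⟩
    infer_instance
  haveI hm1 : Mono ((AlgSp.yon S).map snd) := hpb.mono_snd_of_mono
  haveI hm2 : Mono snd := (AlgSp.yon S).mono_of_mono_map hm1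
  haveI hm3 : Mono snd.left := inferInstance
  haveI : CompactSpace T.left := inferInstanceAs (CompactSpace (Spec (CommRingCat.of (∀ i, A i))))
  haveI : QuasiSeparatedSpace T.left :=
    inferInstanceAs (QuasiSeparatedSpace (Spec (CommRingCat.of (∀ i, A i))))
  haveI : CompactSpace V.left := QuasiCompact.compactSpace_of_compactSpace snd.left
  haveI : QuasiSeparatedSpace V.left := quasiSeparatedSpace_of_quasiSeparated snd.left
  -- the sections over the components
  have hs : ∀ i, ∃ s : Over.mk (Spec.map (CommRingCat.ofHom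
      (Pi.evalRingHom (fun j => (A j : Type u)) i)) ≫ h) ⟶ V, s ≫ snd = eMap A h i := by
    intro i
    have hc : ((AlgSp.yon S).map (eMap A h i) ≫ g₁) ≫ Limits.diag F =
        (AlgSp.yon S).map (eMap A h i) ≫ G := by
      apply Limits.prod.hom_ext
      · simp [G]
      · simp [G, hg i]
    obtain ⟨l, hl1, hl2⟩ := hpb.exists_lift _ _ hc
    obtain ⟨s, rfl⟩ := (AlgSp.yon S).map_surjective l
    refine ⟨s, (AlgSp.yon S).map_injective ?_⟩
    rw [Functor.map_comp]
    exact hl2
  choose s hs using hs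
  -- the global section
  obtain ⟨σ, hσ⟩ := PiLoc.pointsPi_surjective_of_qcqs A V.left (fun i => (s i).left)
  have hσ' : ∀ i, Spec.map (CommRingCat.ofHom (Pi.evalRingHom (fun j => (A j : Type u)) i)) ≫ σ =
      (s i).left := fun i => congrFun hσ i
  have hsec : σ ≫ snd.left = 𝟙 _ := by
    apply pointsPi_injective A (Spec (CommRingCat.of (∀ i, A i)))
    funext i
    show Spec.map (CommRingCat.ofHom (Pi.evalRingHom (fun j => (A j : Type u)) i)) ≫ σ ≫ snd.left =
      Spec.map (CommRingCat.ofHom (Pi.evalRingHom (fun j => (A j : Type u)) i)) ≫ 𝟙 _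
    rw [← Category.assoc, hσ' i, Category.comp_id, ← Over.comp_left, hs i]
    rfl
  let σ' : T ⟶ V := Over.homMk σ (by
    have := Over.w snd
    show σ ≫ V.hom = h
    rw [← this, ← Category.assoc, hsec, Category.id_comp]
    rfl)
  have hσ'' : σ' ≫ snd = 𝟙 T := by
    apply Over.OverMorphism.ext
    exact hsec
  have e0 : G = (AlgSp.yon S).map σ' ≫ fst ≫ Limits.diag F := by
    rw [hpb.w, ← Category.assoc, ← Functor.map_comp, hσ'', CategoryTheory.Functor.map_id, Category.id_comp]
  have e1 : g₁ = (AlgSp.yon S).map σ' ≫ fst := by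
    have := congrArg (· ≫ prod.fst) e0
    simpa [G] using this
  have e2 : g₂ = (AlgSp.yon S).map σ' ≫ fst := by
    have := congrArg (· ≫ prod.snd) e0
    simpa [G] using this
  rw [e1, e2]

end Groth.Agent.Lib.Helper9.AlgSpPi
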