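import Groth.Prelude.Def_AlgSpMor5
import Groth.Agent.Lib.Helper3.AlgSpPoints2
import Groth.Agent.Lib.Helper9.AlgSpVC

set_option autoImplicit false
universe u
open CategoryTheory CategoryTheory.Limits AlgebraicGeometry IsLocalRing
open AlgSp
open Groth.Agent.Lib.Helper3

namespace Groth.Agent.Lib.Helper9.AlgSpVC3

variable {S : Scheme.{u}}

theorem existVC_of_existVCStrict {X Y : Sp S} (f : X ⟶ Y) (h : ExistVCStrict f) : ExistVC f := by
  intro sq
  obtain ⟨l, hl1, hl2⟩ := h sq
  let e : sq.DomExt :=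
    { A' := sq.A
      K' := sq.K
      φ := RingHom.id _
      ψ := RingHom.id _
      comm := rfl
      isLocalHom := inferInstance }
  refine ⟨e, (yon S).map (Over.homMk (Spec.map (CommRingCat.ofHom e.φ)) rfl : e.ptA' ⟶ sq.ptA) ≫ l,
    ?_, ?_⟩
  · rw [← Category.assoc, ← Functor.map_comp, ← hl1, ← Category.assoc, ← Functor.map_comp]
    congr 2
    ext
    change Spec.map _ ≫ Spec.map _ = Spec.map _ ≫ Spec.map _
    rw [← Spec.map_comp, ← Spec.map_comp]
    rfl
  · rw [Category.assoc, hl2]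

theorem specializes_lift_of_existVC {X Y : Space S} (f : X ⟶ Y) (he : ExistVC f.hom)
    {Z V : Over S} (g : (yon S).obj Z ⟶ Y.obj) (fst : (yon S).obj V ⟶ X.obj) (h : V ⟶ Z)
    (sq : IsPullback fst ((yon S).map h) f.hom g) (v' : V.left) (z : Z.left)
    (hs : h.left v' ⤳ z) : ∃ u₁ : V.left, v' ⤳ u₁ ∧ h.left u₁ = z := by
  obtain ⟨u₁, hu₁, hz⟩ := AlgSpVC.key f he g fst ((yon S).map h) sq (𝟙 _) (repWith_id _ _) h
    (Category.id_comp _).symm (closure {Points.ofPt (𝟙 _) v'}) isClosed_closure v'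
    (subset_closure (Set.mem_singleton _)) z hs
  refine ⟨u₁, ?_, hz⟩
  have h1 : Points.schemeHomeo V v' ⤳ Points.schemeHomeo V u₁ :=
    specializes_iff_mem_closure.2 hu₁
  exact (Points.schemeHomeo V).isInducing.specializes_iff.1 h1

theorem existVCStrict_of_representable {X Y : Space S} (f : X ⟶ Y) (hf : Representable f.hom)
    (he : ExistVC f.hom) : ExistVCStrict f.hom := by
  intro sq
  obtain ⟨V, sndV, fstV, hsq⟩ := hf sq.bot
  have hex : ValuativeCriterion.Existence sndV.left := by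
    apply ValuativeCriterion.Existence.of_specializingMap
    intro V' U' i₁ i₂ f' hpb
    obtain ⟨fst'', g'', sq''⟩ := exists_univ_square hsq i₁ i₂ f' hpb
    exact fun v' z hs => specializes_lift_of_existVC f he g'' fst''
      (Over.homMk f' rfl : Over.mk (f' ≫ i₂ ≫ sq.ptA.hom) ⟶ Over.mk (i₂ ≫ sq.ptA.hom)) sq'' v' z hs
  let σ : (yon S).obj sq.ptK ⟶ (yon S).obj V := hsq.lift sq.top ((yon S).map sq.j) sq.comm
  obtain ⟨s, hs⟩ := (yon S).map_surjective σ
  have hs1 : (yon S).map s ≫ fstV = sq.top := by rw [hs]; exact hsq.lift_fst _ _ _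
  have hs2 : s ≫ sndV = sq.j := by
    apply (yon S).map_injective
    rw [Functor.map_comp, hs]
    exact hsq.lift_snd _ _ _
  have hcomm : CommSq s.left (Spec.map (CommRingCat.ofHom (algebraMap sq.A sq.K))) sndV.left
      (𝟙 _) := ⟨by
    rw [Category.comp_id]; exact congrArg CommaMorphism.left hs2⟩
  obtain ⟨l, hl1, hl2⟩ :=
    (hex { R := sq.A, K := sq.K, i₁ := s.left, i₂ := 𝟙 _, commSq := hcomm }).exists_lift
  dsimp only at hl1 hl2
  have hlw : l ≫ V.hom = sq.ptA.hom := by
    rw [← Over.w sndV, ← Category.assoc, hl2, Category.id_comp]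
  let L : sq.ptA ⟶ V := Over.homMk l hlw
  refine ⟨(yon S).map L ≫ fstV, ?_, ?_⟩
  · rw [← Category.assoc, ← Functor.map_comp]
    have : sq.j ≫ L = s := by ext; exact hl1
    rw [this, hs1]
  · rw [Category.assoc, hsq.w, ← Category.assoc, ← Functor.map_comp]
    have : L ≫ sndV = 𝟙 _ := by ext; exact hl2
    rw [this, CategoryTheory.Functor.map_id, Category.id_comp]

end Groth.Agent.Lib.Helper9.AlgSpVC3
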