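import Mathlib
import Groth.Agent.Lib.Helper9.BddFibLib
set_option autoImplicit false
universe u
open CategoryTheory CategoryTheory.Limits AlgebraicGeometry TensorProduct

namespace Groth.Agent.Lib.Helper9.BddFibLib2


theorem finrank_eq_card_primeSpectrum_of_isReduced (k B : Type*) [Field k] [IsAlgClosed k] [CommRing B]
    [Algebra k B] [Module.Finite k B] [IsReduced B] :
    Module.finrank k B = Nat.card (PrimeSpectrum B) := by
  have hart : IsArtinianRing B := IsArtinianRing.of_finite k B
  letI := Fintype.ofFinite (PrimeSpectrum B)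
  rw [IsArtinianRing.finrank_eq_sum_primeSpectrum B k, Nat.card_eq_fintype_card, ← Finset.card_univ,
    Finset.card_eq_sum_ones]
  refine Finset.sum_congr rfl (fun p _ => ?_)
  have hsurj : Function.Surjective (algebraMap B (Localization.AtPrime p.asIdeal)) :=
    IsArtinianRing.localization_surjective p.asIdeal.primeCompl _
  have hfin : Module.Finite k (Localization.AtPrime p.asIdeal) :=
    Module.Finite.of_surjective (IsScalarTower.toAlgHom k B (Localization.AtPrime p.asIdeal)).toLinearMap
      hsurj
  have hred : IsReduced (Localization.AtPrime p.asIdeal) := inferInstance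
  have hart' : IsArtinianRing (Localization.AtPrime p.asIdeal) := IsArtinianRing.of_finite k _
  have hfield : IsField (Localization.AtPrime p.asIdeal) :=
    IsArtinianRing.isField_of_isReduced_of_isLocalRing _
  letI := hfield.toField
  have hbij : Function.Bijective (algebraMap k (Localization.AtPrime p.asIdeal)) :=
    IsAlgClosed.algebraMap_bijective_of_isIntegral
  have e : k ≃ₗ[k] Localization.AtPrime p.asIdeal :=
    LinearEquiv.ofBijective (Algebra.linearMap k _) hbij
  rw [← e.finrank_eq, Module.finrank_self]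




/-- étale scheme with finitely many points over an algebraically closed field -/
theorem finiteOfDegLE_of_etale_of_finite {k : Type u} [Field k] [IsAlgClosed k] {Z : Scheme.{u}}
    (p : Z ⟶ Spec (CommRingCat.of k)) [Etale p] (hfin : Finite ↥Z) (n : ℕ) (hn : Nat.card ↥Z ≤ n) :
    BddFib.FiniteOfDegLE (CommRingCat.of k) p n := by
  have hqf : LocallyQuasiFinite p :=
    LocallyQuasiFinite.of_finite_preimage_singleton p (fun x => Set.toFinite _)
  have hcpt : CompactSpace ↥Z := inferInstance
  have hqc : QuasiCompact p := by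
    rw [HasAffineProperty.iff_of_isAffine (P := @QuasiCompact)]
    exact hcpt
  have hart : IsLocallyArtinian (Spec (CommRingCat.of k)) := by
    rw [Scheme.isLocallyArtinianScheme_Spec]
    infer_instance
  have hfinite : IsFinite p := IsFinite.of_locallyQuasiFinite p
  have haff : IsAffine Z := isAffine_of_isAffineHom p
  letI : Algebra k Γ(Z, ⊤) := BddFib.secAlgebra (CommRingCat.of k) p
  have hsec : (algebraMap k Γ(Z, ⊤)) = ((Scheme.ΓSpecIso (CommRingCat.of k)).inv ≫ p.appTop).hom := rfl
  have hmodfin : Module.Finite k Γ(Z, ⊤) := by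
    have h1 : p.appTop.hom.Finite := p.finite_appTop
    have h2 : (Scheme.ΓSpecIso (CommRingCat.of k)).inv.hom.Finite :=
      RingHom.Finite.of_surjective _ (ConcreteCategory.bijective_of_isIso _).surjective
    exact h1.comp h2
  have hetale : Algebra.Etale k Γ(Z, ⊤) := by
    have h1 : p.appTop.hom.Etale := (HasRingHomProperty.iff_of_isAffine (P := @Etale)).mp inferInstance
    have h2 : (Scheme.ΓSpecIso (CommRingCat.of k)).inv.hom.Etale :=
      RingHom.Etale.of_bijective (ConcreteCategory.bijective_of_isIso _)
    have h3 : (algebraMap k Γ(Z, ⊤)).Etale := RingHom.Etale.stableUnderComposition _ _ h2 h1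
    exact RingHom.etale_algebraMap.mp h3
  have hred : IsReduced Γ(Z, ⊤) := Algebra.FormallyUnramified.isReduced_of_field k Γ(Z, ⊤)
  refine ⟨haff, hmodfin, ?_⟩
  rw [finrank_eq_card_primeSpectrum_of_isReduced k Γ(Z, ⊤)]
  let e : ↥Z ≃ PrimeSpectrum Γ(Z, ⊤) := (Scheme.homeoOfIso Z.isoSpec).toEquiv
  rw [← Nat.card_congr e]
  exact hn




theorem fibreDegLE_of_natCard_le_of_etale {X Y : Scheme.{u}} (f : X ⟶ Y) [Etale f] (n : ℕ)
    (h : ∀ (k : Type u) [Field k] (g : Spec (CommRingCat.of k) ⟶ Y),
      Finite ↥(Limits.pullback f g) ∧ Nat.card ↥(Limits.pullback f g) ≤ n) :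
    BddFib.FibreDegLE f n := by
  intro y
  let kb := AlgebraicClosure (Y.residueField y)
  let g : Spec (CommRingCat.of kb) ⟶ Y :=
    Spec.map (CommRingCat.ofHom (algebraMap (Y.residueField y) kb)) ≫ Y.fromSpecResidueField y
  obtain ⟨h1, h2⟩ := h kb g
  have hE : BddFib.FiniteOfDegLE (CommRingCat.of kb) (pullback.snd f g) n :=
    finiteOfDegLE_of_etale_of_finite (pullback.snd f g) h1 n h2
  have key := (Groth.Agent.Lib.Helper9.BddFibLib.finiteOfDegLE_fiber_iff f g _ _
    (IsPullback.of_hasPullback f g) n).mpr hE
  have hpt : g (IsLocalRing.closedPoint kb) = y := by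
    simp only [g]
    rw [Scheme.Hom.comp_apply, Scheme.fromSpecResidueField_apply]
  rw [hpt] at key
  exact key


end Groth.Agent.Lib.Helper9.BddFibLib2
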