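import Mathlib
import Groth.Agent.Lib.Helper9.UnivHomeoRing
set_option autoImplicit false
universe u
open CategoryTheory CategoryTheory.Limits AlgebraicGeometry

namespace Groth.Agent.Lib.Helper9.ResDeg


/-- abstract bound on the degree of a field extension by number of module generators -/
theorem finrank_le_card_of_span {K L A B : Type*} [Field K] [Field L] [Algebra K L]
    [CommRing A] [CommRing B] (φ : A →+* B) (evA : A →+* K) (evB : B →+* L)
    (hcomm : ∀ a, algebraMap K L (evA a) = evB (φ a))
    (s : Finset B) (hs : ∀ b : B, ∃ c : B → A, b = ∑ i ∈ s, φ (c i) * i)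
    (hfrac : ∀ x : L, ∃ a b : B, evB b ≠ 0 ∧ x * evB b = evB a) :
    Module.Finite K L ∧ Module.finrank K L ≤ s.card := by
  classical
  -- W = span of images of generators
  set W : Submodule K L := Submodule.span K (evB '' (s : Set B)) with hW
  have hrange : ∀ b : B, evB b ∈ W := by
    intro b
    obtain ⟨c, hc⟩ := hs b
    rw [hc, map_sum]
    refine Submodule.sum_mem _ (fun i hi => ?_)
    rw [map_mul, ← hcomm, ← Algebra.smul_def]
    exact Submodule.smul_mem _ _ (Submodule.subset_span ⟨i, hi, rfl⟩)
  -- the subalgebra generated by the range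
  set R : Subalgebra K L := Algebra.adjoin K (Set.range evB) with hR
  have hRW : Subalgebra.toSubmodule R ≤ W := by
    rw [hR, Algebra.adjoin_eq_span]
    have hcl : (Submonoid.closure (Set.range evB) : Set L) = Set.range evB := by
      have : (Submonoid.closure (Set.range evB)) = (evB.rangeS.toSubmonoid) := by
        apply le_antisymm
        · rw [Submonoid.closure_le]
          rintro _ ⟨b, rfl⟩
          exact ⟨b, rfl⟩
        · rintro _ ⟨b, rfl⟩
          exact Submonoid.subset_closure ⟨b, rfl⟩
      rw [this]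
      ext x
      simp [RingHom.mem_rangeS]
    rw [hcl, Submodule.span_le]
    rintro _ ⟨b, rfl⟩
    exact hrange b
  have hWfin : Module.Finite K W := by
    rw [hW]
    exact Module.Finite.span_of_finite K ((s.finite_toSet).image evB)
  have hRfin : Module.Finite K R :=
    Module.Finite.of_injective (Submodule.inclusion hRW) (Submodule.inclusion_injective hRW)
  have hRalg : Algebra.IsAlgebraic K R := Algebra.IsAlgebraic.of_finite K R
  have hRtop : R = ⊤ := by
    rw [eq_top_iff]
    rintro x -
    obtain ⟨a, b, hb, hab⟩ := hfrac x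
    have ha' : evB a ∈ R := Algebra.subset_adjoin ⟨a, rfl⟩
    have hb' : evB b ∈ R := Algebra.subset_adjoin ⟨b, rfl⟩
    have hinv : (evB b)⁻¹ ∈ R := by
      have := R.inv_mem_of_algebraic (x := ⟨evB b, hb'⟩)
        (by
          have := (Algebra.IsAlgebraic.isAlgebraic (R := K) (⟨evB b, hb'⟩ : R))
          exact (isAlgebraic_algebraMap_iff (A := L) (Subtype.val_injective :
            Function.Injective (algebraMap R L))).mpr this)
      exact this
    have : x = evB a * (evB b)⁻¹ := by
      rw [← hab, mul_assoc, mul_inv_cancel₀ hb, mul_one]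
    rw [this]
    exact R.mul_mem ha' hinv
  have hWtop : W = ⊤ := by
    rw [eq_top_iff]
    intro x _
    exact hRW (by rw [hRtop]; trivial)
  have hfin : Module.Finite K L := by
    have : Module.Finite K (⊤ : Submodule K L) := hWtop ▸ hWfin
    exact Module.Finite.of_surjective (Submodule.subtype ⊤) (fun x => ⟨⟨x, trivial⟩, rfl⟩)
  refine ⟨hfin, ?_⟩
  have h1 : Module.finrank K L = Module.finrank K W := by
    rw [hWtop, finrank_top]
  rw [h1, hW]
  calc Module.finrank K (Submodule.span K (evB '' (s : Set B)))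
      = (Set.finrank K (evB '' (s : Set B))) := rfl
    _ ≤ (s.image evB).card := by
        have := finrank_span_finset_le_card (R := K) (s.image evB)
        simpa using this
    _ ≤ s.card := Finset.card_image_le




/-- every element of the residue field at a point of an affine open is a fraction of evaluations -/
theorem exists_evaluation_frac {X : Scheme.{u}} {V : X.Opens} (hV : IsAffineOpen V) (x : X) (hx : x ∈ V)
    (y : X.residueField x) :
    ∃ a b : Γ(X, V), (X.evaluation V x hx).hom b ≠ 0 ∧
      y * (X.evaluation V x hx).hom b = (X.evaluation V x hx).hom a := by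
  obtain ⟨z, rfl⟩ := X.residue_surjective x y
  letI : Algebra Γ(X, V) (X.presheaf.stalk x) :=
    TopCat.Presheaf.algebra_section_stalk X.presheaf (⟨x, hx⟩ : V)
  have hloc : IsLocalization.AtPrime (X.presheaf.stalk x) (hV.primeIdealOf ⟨x, hx⟩).asIdeal :=
    hV.isLocalization_stalk ⟨x, hx⟩
  have hmap : ∀ c : Γ(X, V), (X.residue x).hom (algebraMap Γ(X, V) (X.presheaf.stalk x) c) =
      (X.evaluation V x hx).hom c := by
    intro c
    have := TopCat.Presheaf.stalk_open_algebraMap X.presheaf (⟨x, hx⟩ : V)
    rw [this]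
    rfl
  obtain ⟨⟨a, b⟩, hab⟩ := IsLocalization.surj (hV.primeIdealOf ⟨x, hx⟩).asIdeal.primeCompl z
  refine ⟨a, b.1, ?_, ?_⟩
  · have hu : IsUnit (algebraMap Γ(X, V) (X.presheaf.stalk x) b.1) :=
      IsLocalization.map_units (X.presheaf.stalk x) b
    have hu2 : IsUnit ((X.residue x).hom (algebraMap Γ(X, V) (X.presheaf.stalk x) b.1)) :=
      hu.map (X.residue x).hom
    rw [hmap] at hu2
    exact hu2.ne_zero
  · have := congrArg (X.residue x).hom hab
    rw [map_mul, hmap, hmap] at this
    exact this

theorem finrank_residueField_le {T' T : Scheme.{u}} (p : T' ⟶ T) (U : T.Opens)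
    (hV : IsAffineOpen (p ⁻¹ᵁ U))
    (s : Finset Γ(T', p ⁻¹ᵁ U))
    (hs : ∀ b : Γ(T', p ⁻¹ᵁ U), ∃ c : Γ(T', p ⁻¹ᵁ U) → Γ(T, U), b = ∑ i ∈ s, (p.app U).hom (c i) * i)
    (t' : T') (ht' : p t' ∈ U) :
    letI := (p.residueFieldMap t').hom.toAlgebra
    Module.Finite (T.residueField (p t')) (T'.residueField t') ∧
      Module.finrank (T.residueField (p t')) (T'.residueField t') ≤ s.card := by
  letI := (p.residueFieldMap t').hom.toAlgebra
  refine finrank_le_card_of_span (p.app U).hom (T.evaluation U (p t') ht').hom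
    (T'.evaluation (p ⁻¹ᵁ U) t' ht').hom ?_ s hs ?_
  · intro a
    exact Scheme.evaluation_naturality_apply p t' ht' a
  · intro x
    exact exists_evaluation_frac hV t' ht' x




/-- uniform bound on residue degrees of a finite morphism to a quasi-compact scheme -/
theorem exists_bound_finrank_residueField {T' T : Scheme.{u}} (p : T' ⟶ T) [IsFinite p]
    [CompactSpace T] :
    ∃ N : ℕ, ∀ t' : T',
      letI := (p.residueFieldMap t').hom.toAlgebra
      Module.Finite (T.residueField (p t')) (T'.residueField t') ∧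
        Module.finrank (T.residueField (p t')) (T'.residueField t') ≤ N := by
  classical
  let P : Set T → Prop := fun S => ∃ N : ℕ, ∀ t' : T', p t' ∈ S →
      letI := (p.residueFieldMap t').hom.toAlgebra
      Module.Finite (T.residueField (p t')) (T'.residueField t') ∧
        Module.finrank (T.residueField (p t')) (T'.residueField t') ≤ N
  have key : P Set.univ := by
    refine isCompact_univ.induction_on (p := P) ⟨0, fun t' h => h.elim⟩ ?_ ?_ ?_
    · rintro S S' hSS' ⟨N, hN⟩
      exact ⟨N, fun t' h => hN t' (hSS' h)⟩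
    · rintro S S' ⟨N, hN⟩ ⟨N', hN'⟩
      refine ⟨max N N', fun t' h => ?_⟩
      rcases h with h | h
      · exact ⟨(hN t' h).1, (hN t' h).2.trans (le_max_left _ _)⟩
      · exact ⟨(hN' t' h).1, (hN' t' h).2.trans (le_max_right _ _)⟩
    · intro x _
      -- affine open nbhd
      obtain ⟨_, ⟨U, hU : IsAffineOpen U, rfl⟩, hxU, -⟩ :=
        (T.isBasis_affineOpens).exists_subset_of_mem_open (Set.mem_univ x) isOpen_univ
      have hV : IsAffineOpen (p ⁻¹ᵁ U) := hU.preimage p
      have hfin : (p.app U).hom.Finite := IsFinite.finite_app p U hU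
      letI := (p.app U).hom.toAlgebra
      have hfin' : Module.Finite Γ(T, U) Γ(T', p ⁻¹ᵁ U) := hfin
      obtain ⟨s, hs⟩ := hfin'.fg_top
      refine ⟨U, mem_nhdsWithin_of_mem_nhds (U.2.mem_nhds hxU), s.card, fun t' ht' => ?_⟩
      refine finrank_residueField_le p U hV s (fun b => ?_) t' ht'
      have hb : b ∈ Submodule.span Γ(T, U) (s : Set Γ(T', p ⁻¹ᵁ U)) := by rw [hs]; trivial
      obtain ⟨c, hc⟩ := (Submodule.mem_span_finset).mp hb
      refine ⟨c, ?_⟩
      rw [← hc.2]
      refine Finset.sum_congr rfl (fun i _ => ?_)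
      rw [Algebra.smul_def]
      rfl
  obtain ⟨N, hN⟩ := key
  exact ⟨N, fun t' => hN t' trivial⟩




theorem residue_degree_pow_expChar_and_dvd {T' T : Scheme.{u}} (p : T' ⟶ T) [IsFinite p]
    (hp : FlatMor.IsUnivHomeo p) [CompactSpace T] :
    ∃ d : ℕ, 0 < d ∧ ∀ t' : T', ∃ e : ℕ,
      @Module.finrank (T.residueField (p t')) (T'.residueField t') _ _
          (p.residueFieldMap t').hom.toAlgebra.toModule =
        ringExpChar (T.residueField (p t')) ^ e ∧
      ringExpChar (T.residueField (p t')) ^ e ∣ d := by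
  obtain ⟨N, hN⟩ := exists_bound_finrank_residueField p
  obtain ⟨-, hinj, -⟩ := (Groth.Agent.Lib.Helper9.UnivHomeoRing.isUnivHomeo_iff p).mp hp
  have hpi : ∀ x, (p.residueFieldMap x).hom.IsPurelyInseparable :=
    (((tfae_universallyInjective p).out 0 2 rfl rfl).mp hinj).2
  refine ⟨N.factorial, Nat.factorial_pos N, fun t' => ?_⟩
  letI := (p.residueFieldMap t').hom.toAlgebra
  obtain ⟨hfin, hle⟩ := hN t'
  have hpi' : IsPurelyInseparable (T.residueField (p t')) (T'.residueField t') := hpi t'
  obtain ⟨e, he⟩ := IsPurelyInseparable.finrank_eq_pow (T.residueField (p t')) (T'.residueField t')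
    (ringExpChar (T.residueField (p t')))
  refine ⟨e, he, ?_⟩
  rw [← he]
  exact Nat.dvd_factorial Module.finrank_pos hle


end Groth.Agent.Lib.Helper9.ResDeg
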