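import Mathlib
import Groth.Agent.Lib.Helper9.BddFibLib
import Groth.Agent.Lib.Helper9.ResDeg
set_option autoImplicit false
universe u
open CategoryTheory CategoryTheory.Limits AlgebraicGeometry TensorProduct

namespace Groth.Agent.Lib.Helper9.BddFibLib3


/-- sum of degrees of residue fields bounded by the dimension -/
theorem sum_finrank_le_finrank {k B : Type*} [Field k] [CommRing B] [Algebra k B] [Module.Finite k B]
    {ι : Type*} [Fintype ι] (L : ι → Type*) [∀ i, Field (L i)] [∀ i, Algebra k (L i)]
    (e : ∀ i, B →ₐ[k] L i) (hsurj : ∀ i, Function.Surjective (e i))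
    (hker : ∀ i j, RingHom.ker (e i) = RingHom.ker (e j) → i = j) :
    ∑ i, Module.finrank k (L i) ≤ Module.finrank k B := by
  classical
  have hmax : ∀ i, (RingHom.ker (e i)).IsMaximal := fun i =>
    RingHom.ker_isMaximal_of_surjective (e i) (hsurj i)
  have hcop : Pairwise (Function.onFun IsCoprime fun i => RingHom.ker (e i)) := by
    intro i j hij
    rw [Function.onFun, Ideal.isCoprime_iff_sup_eq]
    exact Ideal.IsMaximal.coprime_of_ne (hmax i) (hmax j) (fun h => hij (hker i j h))
  let Φ : B →ₗ[k] (∀ i, L i) := LinearMap.pi (fun i => (e i).toLinearMap)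
  have hΦ : Function.Surjective Φ := by
    intro y
    choose b hb using fun i => hsurj i (y i)
    obtain ⟨r, hr⟩ := Ideal.exists_forall_sub_mem_ideal hcop b
    refine ⟨r, funext fun i => ?_⟩
    have := hr i
    rw [RingHom.mem_ker, map_sub, sub_eq_zero] at this
    simp only [Φ, LinearMap.pi_apply, AlgHom.toLinearMap_apply]
    rw [this, hb]
  have hfin : ∀ i, Module.Finite k (L i) := fun i =>
    Module.Finite.of_surjective (e i).toLinearMap (hsurj i)
  have := LinearMap.finrank_le_finrank_of_surjective hΦ
  rwa [Module.finrank_pi_fintype] at this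




theorem surjective_of_frac {A L : Type*} [CommRing A] [Field L] (e : A →+* L)
    (hmax : (RingHom.ker e).IsMaximal)
    (hfrac : ∀ y : L, ∃ a b : A, e b ≠ 0 ∧ y * e b = e a) : Function.Surjective e := by
  intro y
  obtain ⟨a, b, hb, hab⟩ := hfrac y
  have hbk : b ∉ RingHom.ker e := by rwa [RingHom.mem_ker]
  obtain ⟨b', i, hi, hbi⟩ := hmax.exists_inv hbk
  have h1 : e b' * e b = 1 := by
    have := congrArg e hbi
    rw [map_add, map_mul, (RingHom.mem_ker).mp hi, add_zero, map_one] at this
    exact this
  refine ⟨a * b', ?_⟩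
  rw [map_mul, ← hab, mul_assoc, mul_comm (e b), h1, mul_one]

/-- Γ-evaluation is surjective at points of an affine scheme with artinian global sections -/
theorem Γevaluation_surjective_of_isArtinianRing {X : Scheme.{u}} [IsAffine X] [IsArtinianRing Γ(X, ⊤)]
    (x : X) : Function.Surjective (X.Γevaluation x).hom := by
  have hprime : (RingHom.ker (X.Γevaluation x).hom).IsPrime := RingHom.ker_isPrime _
  refine surjective_of_frac _ inferInstance (fun y => ?_)
  exact Groth.Agent.Lib.Helper9.ResDeg.exists_evaluation_frac (isAffineOpen_top X) x trivial y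

/-- distinct points have distinct evaluation kernels on an affine scheme -/
theorem eq_of_ker_Γevaluation_eq {X : Scheme.{u}} [IsAffine X] (x y : X)
    (h : RingHom.ker (X.Γevaluation x).hom = RingHom.ker (X.Γevaluation y).hom) : x = y := by
  have hins : Inseparable x y := by
    rw [(isBasis_basicOpen X).inseparable_iff]  
    rintro _ ⟨_, ⟨b, rfl⟩, rfl⟩
    have h1 := Scheme.evaluation_ne_zero_iff_mem_basicOpen X (U := ⊤) x trivial b
    have h2 := Scheme.evaluation_ne_zero_iff_mem_basicOpen X (U := ⊤) y trivial b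
    have hb : (X.Γevaluation x).hom b = 0 ↔ (X.Γevaluation y).hom b = 0 := by
      rw [← RingHom.mem_ker, ← RingHom.mem_ker, h]
    constructor
    · intro hx
      exact h2.mp (fun h0 => (h1.mpr hx) (hb.mpr h0))
    · intro hy
      exact h1.mp (fun h0 => (h2.mpr hy) (hb.mp h0))
  exact hins.eq






theorem finsum_residueDegree_le {k : Type u} [Field k] {T : Scheme.{u}}
    (p : T ⟶ Spec (CommRingCat.of k)) (n : ℕ) (h : BddFib.FiniteOfDegLE (CommRingCat.of k) p n) :
    Finite ↥T ∧ ∑ᶠ x : ↥T, p.residueDegree x ≤ n := by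
  have hF : Finite ↥T := (Groth.Agent.Lib.Helper9.BddFibLib.finite_card_le_of_finiteOfDegLE p n h).1
  refine ⟨hF, ?_⟩
  letI alg : Algebra k Γ(T, ⊤) := BddFib.secAlgebra (CommRingCat.of k) p
  obtain ⟨haff, hfin, hle⟩ := h
  have hart : IsArtinianRing Γ(T, ⊤) := IsArtinianRing.of_finite k _
  letI := Fintype.ofFinite ↥T
  rw [finsum_eq_sum_of_fintype]
  letI algL : ∀ x : T, Algebra k (T.residueField x) := fun x =>
    ((T.Γevaluation x).hom.comp (algebraMap k Γ(T, ⊤))).toAlgebra
  let e : ∀ x : T, Γ(T, ⊤) →ₐ[k] T.residueField x := fun x =>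
    { (T.Γevaluation x).hom with commutes' := fun _ => rfl }
  have key := sum_finrank_le_finrank (k := k) (B := Γ(T, ⊤)) (fun x : T => T.residueField x) e
    (fun x => Γevaluation_surjective_of_isArtinianRing x)
    (fun x y hxy => eq_of_ker_Γevaluation_eq x y hxy)
  refine le_trans (le_of_eq ?_) (key.trans hle)
  refine Finset.sum_congr rfl (fun x _ => ?_)
  -- residue degree = finrank over k
  have hartk : IsLocallyArtinian (Spec (CommRingCat.of k)) := by
    rw [Scheme.isLocallyArtinianScheme_Spec]
    infer_instance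
  let i0 : k →+* (Spec (CommRingCat.of k)).residueField (p x) :=
    ((Scheme.ΓSpecIso (CommRingCat.of k)).inv ≫ (Spec (CommRingCat.of k)).Γevaluation (p x)).hom
  have hi0 : Function.Bijective i0 := by
    refine ⟨i0.injective, ?_⟩
    have h1 := Γevaluation_surjective_of_isArtinianRing (X := Spec (CommRingCat.of k)) (p x)
    have h2 : Function.Surjective (Scheme.ΓSpecIso (CommRingCat.of k)).inv.hom :=
      (ConcreteCategory.bijective_of_isIso (Scheme.ΓSpecIso (CommRingCat.of k)).inv).2
    exact h1.comp h2
  let i : k ≃+* (Spec (CommRingCat.of k)).residueField (p x) := RingEquiv.ofBijective i0 hi0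
  letI := (p.residueFieldMap x).hom.toAlgebra
  have := Algebra.finrank_eq_of_equiv_equiv (R₀ := k) (S₀ := T.residueField x)
    (R₁ := (Spec (CommRingCat.of k)).residueField (p x)) (S₁ := T.residueField x) i (RingEquiv.refl _)
    (by
      ext a
      have hn := Scheme.Γevaluation_naturality_apply p x ((Scheme.ΓSpecIso (CommRingCat.of k)).inv.hom a)
      exact hn)
  exact this.symm


theorem finsum_residueDegree_le_of_fibreDegLE {X Y : Scheme.{u}} (f : X ⟶ Y) (n : ℕ)
    (hf : BddFib.FibreDegLE f n) (k : Type u) [Field k] (g : Spec (CommRingCat.of k) ⟶ Y) :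
    Finite ↥(Limits.pullback f g) ∧
      ∑ᶠ x : ↥(Limits.pullback f g), (Limits.pullback.snd f g).residueDegree x ≤ n :=
  finsum_residueDegree_le _ n
    ((Groth.Agent.Lib.Helper9.BddFibLib.fibreDegLE_iff_forall_field_points f n).mp hf k g)

end Groth.Agent.Lib.Helper9.BddFibLib3
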