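import Groth.Agent.Lib.Helper9.BlowExist

set_option autoImplicit false
universe u
open CategoryTheory CategoryTheory.Limits AlgebraicGeometry TopologicalSpace

namespace Groth.Agent.Lib.Helper9.BlowExist

open Groth.Agent.Lib.Helper29.AffBlow Groth.Agent.Lib.Helper29.EffCart
open Groth.Agent.Lib.Helper9.GlueFinal

variable {X : Scheme.{u}} (𝓘 : X.IdealSheafData)

lemma fromSpec_appLE_top (U : X.affineOpens) (e : (⊤ : (Spec Γ(X, U.1)).Opens) ≤ U.2.fromSpec ⁻¹ᵁ U.1) :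
    U.2.fromSpec.appLE U.1 ⊤ e = (Scheme.ΓSpecIso Γ(X, U.1)).inv := by
  rw [Scheme.Hom.appLE, U.2.fromSpec_app_self, Category.assoc, ← Functor.map_comp]
  have : (eqToHom U.2.fromSpec_preimage_self).op ≫ (homOfLE e).op = 𝟙 _ := Subsingleton.elim _ _
  rw [this, CategoryTheory.Functor.map_id, Category.comp_id]

lemma comap_fromSpec (U : X.affineOpens) :
    𝓘.comap U.2.fromSpec = idealSheaf (A := Γ(X, U.1)) (𝓘.ideal U) := by
  apply Scheme.IdealSheafData.ext_of_isAffine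
  rw [ideal_comap_eq_map 𝓘 U.2.fromSpec U ⟨⊤, isAffineOpen_top _⟩
    (by rw [U.2.fromSpec_preimage_self]), Scheme.IdealSheafData.ofIdealTop_ideal,
    fromSpec_appLE_top]
  have h1 : ∀ e : (⊤ : (Spec Γ(X, U.1)).Opens) ≤ ⊤,
      (Spec Γ(X, U.1)).presheaf.map (homOfLE e).op = 𝟙 _ := by
    intro e
    rw [show homOfLE e = 𝟙 _ from Subsingleton.elim _ _, op_id, CategoryTheory.Functor.map_id]
  rw [h1]
  change _ = Ideal.map (RingHom.id _) _
  rw [Ideal.map_id]
  rfl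

/-- a chosen blow-up of `Spec Γ(X,U)` -/
noncomputable def BlU (U : X.affineOpens) : Scheme.{u} :=
  (exists_isBlowUp_affine (A := Γ(X, U.1)) (𝓘.ideal U)).choose

noncomputable def blU (U : X.affineOpens) : BlU 𝓘 U ⟶ Spec (CommRingCat.of Γ(X, U.1)) :=
  (exists_isBlowUp_affine (A := Γ(X, U.1)) (𝓘.ideal U)).choose_spec.choose

lemma isBlowUp_blU (U : X.affineOpens) :
    BlowUp.IsBlowUp (blU 𝓘 U) (idealSheaf (A := Γ(X, U.1)) (𝓘.ideal U)) :=
  (exists_isBlowUp_affine (A := Γ(X, U.1)) (𝓘.ideal U)).choose_spec.choose_spec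

/-- The gluing setup for the global blow-up. -/
noncomputable def globalSetup : Setup X where
  P := fun _ g => BlowUp.IsEffCartierIdeal (𝓘.comap g)
  P_open := P_open 𝓘
  P_local := P_local 𝓘
  J := X.affineOpens
  locus := fun U _ g => g ⁻¹ᵁ U.1
  locus_comp := fun U _ _ g h _ _ => rfl
  locus_cover := fun T g _ => by
    rw [eq_top_iff]
    intro t _
    obtain ⟨_, ⟨U, hU, rfl⟩, htU, -⟩ := X.isBasis_affineOpens.exists_subset_of_mem_open
      (show g t ∈ (⊤ : X.Opens) from trivial) (⊤ : X.Opens).2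
    exact Opens.mem_iSup.2 ⟨⟨U, hU⟩, htU⟩
  Y := fun U => BlU 𝓘 U
  b := fun U => blU 𝓘 U ≫ U.2.fromSpec
  P_b := fun U => by
    rw [Scheme.IdealSheafData.comap_comp, comap_fromSpec]
    exact (isBlowUp_blU 𝓘 U).1
  locus_b := fun U => by
    change (blU 𝓘 U ≫ U.2.fromSpec) ⁻¹ᵁ U.1 = ⊤
    rw [Scheme.Hom.comp_preimage, U.2.fromSpec_preimage_self]
    rfl
  lift := fun U T g hg hl => by
    have hr : Set.range g ⊆ Set.range U.2.fromSpec := by
      rintro _ ⟨t, rfl⟩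
      rw [U.2.range_fromSpec]
      have : t ∈ g ⁻¹ᵁ U.1 := by
        have hl' : g ⁻¹ᵁ U.1 = ⊤ := hl
        rw [hl']; trivial
      exact this
    let g' : T ⟶ Spec (CommRingCat.of Γ(X, U.1)) := IsOpenImmersion.lift U.2.fromSpec g hr
    have hg' : g' ≫ U.2.fromSpec = g := IsOpenImmersion.lift_fac _ _ _
    have hP : BlowUp.IsEffCartierIdeal ((idealSheaf (A := Γ(X, U.1)) (𝓘.ideal U)).comap g') := by
      rw [← comap_fromSpec, ← Scheme.IdealSheafData.comap_comp, hg']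
      exact hg
    obtain ⟨h, hh, hu⟩ := (isBlowUp_blU 𝓘 U).2 T g' hP
    refine ⟨h, ?_, ?_⟩
    · change h ≫ blU 𝓘 U ≫ U.2.fromSpec = g
      rw [← Category.assoc, hh, hg']
    · intro h' hh'
      apply hu
      rw [← cancel_mono U.2.fromSpec, Category.assoc, hg']
      exact hh'

/-- **Existence of blow-ups.** -/
theorem exists_isBlowUp : ∃ (X' : Scheme.{u}) (b : X' ⟶ X), BlowUp.IsBlowUp b 𝓘 := by
  obtain ⟨Y, b, hP, hU⟩ := (globalSetup 𝓘).exists_final
  exact ⟨Y, b, hP, fun T g hg => hU T g hg⟩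

end Groth.Agent.Lib.Helper9.BlowExist
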