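import Groth.Agent.Lib.Helper9.MProd6
import Groth.Agent.Lib.Helper9.BlowExist2
import Groth.Agent.Lib.Helper29.RelEffCart

set_option autoImplicit false
universe u
open CategoryTheory CategoryTheory.Limits AlgebraicGeometry TopologicalSpace

namespace Groth.Agent.Lib.Helper9.BlowComp

open Groth.Agent.Lib.Helper29.EffCart Groth.Agent.Lib.Helper9.MProd5

section Alg
variable {R : Type*} [CommRing R]

/-- cofactors of products generate the unit ideal -/
lemma span_cofactors_mul_eq_top (A B : Ideal R) (t : R) (ht : t ∈ nonZeroDivisors R)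
    (h : A * B = Ideal.span {t}) :
    Ideal.span {c : R | ∃ a ∈ A, ∃ b ∈ B, a * b = c * t} = ⊤ := by
  set K := Ideal.span {c : R | ∃ a ∈ A, ∃ b ∈ B, a * b = c * t} with hK
  have h1 : A * B ≤ K * Ideal.span {t} := by
    rw [Ideal.mul_le]
    intro a ha b hb
    have hab : a * b ∈ Ideal.span {t} := h ▸ Ideal.mul_mem_mul ha hb
    obtain ⟨c, hc⟩ := Ideal.mem_span_singleton'.1 hab
    rw [← hc]
    exact Ideal.mul_mem_mul (Ideal.subset_span ⟨a, ha, b, hb, hc.symm⟩) (Ideal.subset_span rfl)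
  have h2 : t ∈ K * Ideal.span {t} := h1 (h ▸ Ideal.subset_span rfl)
  obtain ⟨k, hk, hkt⟩ := Ideal.mem_mul_span_singleton.1 h2
  have h3 : (k - 1) * t = 0 := by rw [sub_mul, hkt, one_mul, sub_self]
  have h4 : k = 1 := sub_eq_zero.1 ((mem_nonZeroDivisors_iff_right.1 ht) _ h3)
  rw [Ideal.eq_top_iff_one, ← h4]
  exact hk

/-- if `a b = c t` with `c` a unit and `t` a nonzerodivisor generating `A B`, then `a` generates
`A` and is a nonzerodivisor. -/
lemma eq_span_of_mul_eq_unit_mul (A B : Ideal R) (t a b c : R) (ht : t ∈ nonZeroDivisors R)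
    (h : A * B = Ideal.span {t}) (ha : a ∈ A) (hb : b ∈ B) (hc : IsUnit c) (e : a * b = c * t) :
    a ∈ nonZeroDivisors R ∧ A = Ideal.span {a} := by
  have hab : a * b ∈ nonZeroDivisors R := e ▸ mul_mem hc.mem_nonZeroDivisors ht
  have hbn : b ∈ nonZeroDivisors R := by
    rw [mem_nonZeroDivisors_iff_right]
    intro r hr
    exact (mem_nonZeroDivisors_iff_right.1 hab) r (by rw [mul_comm a b, ← mul_assoc, hr, zero_mul])
  have han : a ∈ nonZeroDivisors R := by
    rw [mem_nonZeroDivisors_iff_right]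
    intro r hr
    exact (mem_nonZeroDivisors_iff_right.1 hab) r (by rw [← mul_assoc, hr, zero_mul])
  refine ⟨han, le_antisymm ?_ ?_⟩
  · intro a' ha'
    have h1 : a' * b ∈ Ideal.span {t} := h ▸ Ideal.mul_mem_mul ha' hb
    obtain ⟨r, hr⟩ := Ideal.mem_span_singleton'.1 h1
    obtain ⟨u, rfl⟩ := hc
    have h2 : (a' - r * ↑u⁻¹ * a) * b = 0 := by
      rw [sub_mul, ← hr, mul_assoc (r * ↑u⁻¹), e]
      have : r * ↑u⁻¹ * (↑u * t) = r * t * (↑u⁻¹ * ↑u) := by ring
      rw [this, Units.inv_mul, mul_one, sub_self]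
    have h3 := sub_eq_zero.1 ((mem_nonZeroDivisors_iff_right.1 hbn) _ h2)
    rw [h3, Ideal.mem_span_singleton']
    exact ⟨r * ↑u⁻¹, rfl⟩
  · rw [Ideal.span_singleton_le_iff_mem]; exact ha

end Alg

variable {X : Scheme.{u}}

/-- a factor of an effective Cartier ideal is effective Cartier -/
theorem isEffCartier_of_mul (A B : X.IdealSheafData) (h : BlowUp.IsEffCartierIdeal (A * B)) :
    BlowUp.IsEffCartierIdeal A := by
  intro x
  obtain ⟨W, hxW, t, ht, hW⟩ := h x
  have hW' : A.ideal W * B.ideal W = Ideal.span {t} := hW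
  have hK := span_cofactors_mul_eq_top _ _ t ht hW'
  -- some cofactor is a unit at `x`
  have : ∃ c : Γ(X, W.1), (∃ a ∈ A.ideal W, ∃ b ∈ B.ideal W, a * b = c * t) ∧
      x ∈ X.basicOpen c := by
    by_contra hcon
    push Not at hcon
    let p : Ideal Γ(X, W.1) :=
      (IsLocalRing.maximalIdeal (X.presheaf.stalk x)).comap (X.presheaf.germ W.1 x hxW).hom
    have hle : Ideal.span {c : Γ(X, W.1) | ∃ a ∈ A.ideal W, ∃ b ∈ B.ideal W, a * b = c * t} ≤ p := by
      rw [Ideal.span_le]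
      rintro c hc
      have := hcon c hc
      rw [Scheme.mem_basicOpen _ _ _ hxW] at this
      exact this
    rw [hK] at hle
    have h1 : (1 : Γ(X, W.1)) ∈ p := hle trivial
    have h2 : (X.presheaf.germ W.1 x hxW).hom 1 ∈ IsLocalRing.maximalIdeal (X.presheaf.stalk x) := h1
    rw [map_one] at h2
    exact (Ideal.ne_top_iff_one _).1 (IsLocalRing.maximalIdeal.isMaximal _).ne_top h2
  obtain ⟨c, ⟨a, ha, b, hb, e⟩, hxc⟩ := this
  -- restrict to the basic open of `c`
  set res := (X.presheaf.map (homOfLE (X.basicOpen_le c)).op).hom with hres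
  have hflat : res.Flat :=
    Groth.Agent.Lib.Helper29.AffBlow.flat_res W.2 (W.2.basicOpen c) (X.basicOpen_le c)
  have hunit : IsUnit (res c) := X.toRingedSpace.isUnit_res_basicOpen c
  have htn : res t ∈ nonZeroDivisors Γ(X, X.basicOpen c) :=
    map_mem_nonZeroDivisors_of_flat _ hflat _ ht
  have hA' : A.ideal (X.affineBasicOpen c) = (A.ideal W).map res := (A.map_ideal_basicOpen W c).symm
  have hB' : B.ideal (X.affineBasicOpen c) = (B.ideal W).map res := (B.map_ideal_basicOpen W c).symm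
  have hAB : A.ideal (X.affineBasicOpen c) * B.ideal (X.affineBasicOpen c) = Ideal.span {res t} := by
    rw [hA', hB']
    have := (Ideal.map_mul res (A.ideal W) (B.ideal W)).symm
    refine this.trans ?_
    rw [hW', Ideal.map_span, Set.image_singleton]
  obtain ⟨h1, h2⟩ := eq_span_of_mul_eq_unit_mul _ _ (res t) (res a) (res b) (res c) htn hAB
    (hA' ▸ Ideal.mem_map_of_mem _ ha) (hB' ▸ Ideal.mem_map_of_mem _ hb) hunit
    (by rw [← map_mul, e, map_mul])
  exact ⟨X.affineBasicOpen c, hxc, res a, h1, h2⟩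

/-- blowing up in `I` and then in `J·O` is blowing up in `I * J`. -/
theorem isBlowUp_comp {X₁ X₂ : Scheme.{u}} (I J : X.IdealSheafData) (b₁ : X₁ ⟶ X) (b₂ : X₂ ⟶ X₁)
    (h₁ : BlowUp.IsBlowUp b₁ I) (h₂ : BlowUp.IsBlowUp b₂ (J.comap b₁)) :
    BlowUp.IsBlowUp (b₂ ≫ b₁) (I * J) := by
  refine ⟨?_, ?_⟩
  · rw [comap_mul, Scheme.IdealSheafData.comap_comp, Scheme.IdealSheafData.comap_comp]
    exact isEffCartierIdeal_mul _ _ (IsBlowUp.isEffCartierIdeal_comap h₂ _ h₁.1) h₂.1
  · intro T g hg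
    rw [comap_mul] at hg
    have hgI : BlowUp.IsEffCartierIdeal (I.comap g) := isEffCartier_of_mul _ _ hg
    have hgJ : BlowUp.IsEffCartierIdeal (J.comap g) := by
      rw [mul_comm] at hg; exact isEffCartier_of_mul _ _ hg
    obtain ⟨k₁, hk₁, hu₁⟩ := h₁.2 T g hgI
    have hk₁J : BlowUp.IsEffCartierIdeal ((J.comap b₁).comap k₁) := by
      rw [← Scheme.IdealSheafData.comap_comp, hk₁]; exact hgJ
    obtain ⟨k₂, hk₂, hu₂⟩ := h₂.2 T k₁ hk₁J
    refine ⟨k₂, by change k₂ ≫ b₂ ≫ b₁ = g; rw [← Category.assoc, hk₂, hk₁], ?_⟩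
    intro k' hk'
    apply hu₂
    apply hu₁
    rw [Category.assoc]; exact hk'

end Groth.Agent.Lib.Helper9.BlowComp
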