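import Groth.Agent.Lib.Helper9.BlowComp

set_option autoImplicit false
universe u
open CategoryTheory CategoryTheory.Limits AlgebraicGeometry TopologicalSpace

namespace Groth.Agent.Lib.Helper9.BlowComp

open Groth.Agent.Lib.Helper29.EffCart Groth.Agent.Lib.Helper9.MProd5

variable {X : Scheme.{u}}

/-- finite generation of the ideals of an ideal sheaf is a local property -/
theorem fg_of_locally_fg (E : X.IdealSheafData)
    (h : ∀ x : X, ∃ W : X.affineOpens, x ∈ W.1 ∧ (E.ideal W).FG) (U : X.affineOpens) :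
    (E.ideal U).FG := by
  let t : Set Γ(X, U.1) := {f | (E.ideal (X.affineBasicOpen f)).FG}
  have ht : Ideal.span t = ⊤ := by
    rw [← U.2.self_le_iSup_basicOpen_iff]
    intro x hx
    obtain ⟨W, hxW, hW⟩ := h x
    obtain ⟨f, g, hfg, hxf⟩ := exists_basicOpen_le_affine_inter U.2 W.2 x ⟨hx, hxW⟩
    have ht' : (E.ideal (X.affineBasicOpen g)).FG := by
      rw [← E.map_ideal_basicOpen W g]
      exact hW.map _
    have heq : X.affineBasicOpen f = X.affineBasicOpen g := Subtype.ext hfg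
    have key : ∀ V : X.affineOpens, V = X.affineBasicOpen g → (E.ideal V).FG := by
      rintro V rfl; exact ht'
    exact Opens.mem_iSup.2 ⟨⟨f, key _ heq⟩, hxf⟩
  refine Ideal.fg_of_localizationSpan t ht ?_
  rintro ⟨f, hg⟩
  have inst := U.2.isLocalization_basicOpen f
  have hmap : (X.presheaf.map (homOfLE (X.basicOpen_le f)).op).hom = algebraMap _ _ := rfl
  have h1 : ((E.ideal U).map (algebraMap Γ(X, U.1) Γ(X, X.basicOpen f))).FG := by
    rw [← hmap, E.map_ideal_basicOpen U f]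
    exact hg
  let φ : Γ(X, X.basicOpen f) ≃ₐ[Γ(X, U.1)] Localization.Away f :=
    IsLocalization.algEquiv (Submonoid.powers f) _ _
  have h2 : ((E.ideal U).map (algebraMap Γ(X, U.1) Γ(X, X.basicOpen f))).map
      (φ : Γ(X, X.basicOpen f) →+* Localization.Away f) =
      (E.ideal U).map (algebraMap Γ(X, U.1) (Localization.Away f)) := by
    rw [Ideal.map_map]
    congr 1
    ext r
    simp [φ]
  rw [← h2]
  exact h1.map _

theorem isFiniteTypeIdeal_comap {Y : Scheme.{u}} (b : Y ⟶ X) (𝓛 : X.IdealSheafData)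
    (h : BlowUp.IsFiniteTypeIdeal 𝓛) : BlowUp.IsFiniteTypeIdeal (𝓛.comap b) := by
  apply fg_of_locally_fg
  intro y
  obtain ⟨_, ⟨W, hW, rfl⟩, hyW, -⟩ := X.isBasis_affineOpens.exists_subset_of_mem_open
    (show b y ∈ (⊤ : X.Opens) from trivial) (⊤ : X.Opens).2
  obtain ⟨_, ⟨V, hV, rfl⟩, hyV, hVW⟩ := Y.isBasis_affineOpens.exists_subset_of_mem_open
    (show y ∈ b ⁻¹ᵁ W from hyW) (b ⁻¹ᵁ W).2
  refine ⟨⟨V, hV⟩, hyV, ?_⟩
  rw [ideal_comap_eq_map 𝓛 b ⟨W, hW⟩ ⟨V, hV⟩ hVW]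
  exact (h ⟨W, hW⟩).map _

lemma isAdmissibleFor_comap {Y : Scheme.{u}} (b : Y ⟶ X) (U : X.Opens) (𝓛 : X.IdealSheafData)
    (h : BlowUp.IsAdmissibleFor U 𝓛) : BlowUp.IsAdmissibleFor (b ⁻¹ᵁ U) (𝓛.comap b) := by
  refine ⟨isFiniteTypeIdeal_comap b 𝓛 h.1, ?_⟩
  rw [Set.disjoint_left]
  intro y hy hyU
  rw [Scheme.IdealSheafData.support_comap] at hy
  exact Set.disjoint_left.1 h.2 hy hyU

lemma isAdmissibleFor_one (U : X.Opens) : BlowUp.IsAdmissibleFor U (1 : X.IdealSheafData) := by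
  refine ⟨fun V => ?_, ?_⟩
  · change (⊤ : Ideal Γ(X, V.1)).FG
    exact ⟨{1}, by simp⟩
  · change Disjoint ((⊤ : X.IdealSheafData).support : Set X) _
    rw [Scheme.IdealSheafData.support_top]
    simp

lemma isAdmissibleFor_mul (U : X.Opens) (A B : X.IdealSheafData)
    (hA : BlowUp.IsAdmissibleFor U A) (hB : BlowUp.IsAdmissibleFor U B) :
    BlowUp.IsAdmissibleFor U (A * B) := by
  refine ⟨fun V => ?_, ?_⟩
  · change (A.ideal V * B.ideal V).FG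
    exact (hA.1 V).mul (hB.1 V)
  · rw [Scheme.IdealSheafData.support_mul]
    change Disjoint ((A.support : Set X) ∪ (B.support : Set X)) _
    rw [Set.disjoint_union_left]
    exact ⟨hA.2, hB.2⟩

lemma isAdmissibleFor_prod (U : X.Opens) {ι : Type*} (s : Finset ι) (𝓘 : ι → X.IdealSheafData)
    (h : ∀ i ∈ s, BlowUp.IsAdmissibleFor U (𝓘 i)) : BlowUp.IsAdmissibleFor U (∏ i ∈ s, 𝓘 i) :=
  Finset.prod_induction 𝓘 (BlowUp.IsAdmissibleFor U) (isAdmissibleFor_mul U)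
    (isAdmissibleFor_one U) h

theorem exists_dominating (U : X.Opens) {n : ℕ} (Xi : Fin n → Scheme.{u}) (b : ∀ i, Xi i ⟶ X)
    (𝓘 : Fin n → X.IdealSheafData) (hb : ∀ i, BlowUp.IsBlowUp (b i) (𝓘 i))
    (ha : ∀ i, BlowUp.IsAdmissibleFor U (𝓘 i)) :
    ∃ (𝓙 : X.IdealSheafData) (X' : Scheme.{u}) (c : X' ⟶ X), BlowUp.IsBlowUp c 𝓙 ∧
      BlowUp.IsAdmissibleFor U 𝓙 ∧
      ∀ i, ∃ (g : X' ⟶ Xi i) (𝓚 : (Xi i).IdealSheafData), g ≫ b i = c ∧ BlowUp.IsBlowUp g 𝓚 ∧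
        BlowUp.IsAdmissibleFor ((b i) ⁻¹ᵁ U) 𝓚 := by
  classical
  set 𝓙 : X.IdealSheafData := ∏ i, 𝓘 i with h𝓙
  obtain ⟨X', c, hc⟩ := Groth.Agent.Lib.Helper9.BlowExist.exists_isBlowUp 𝓙
  refine ⟨𝓙, X', c, hc, isAdmissibleFor_prod U _ 𝓘 (fun i _ => ha i), ?_⟩
  intro i
  set 𝓛 : X.IdealSheafData := ∏ j ∈ Finset.univ.erase i, 𝓘 j with h𝓛
  have hmul : 𝓘 i * 𝓛 = 𝓙 := Finset.mul_prod_erase Finset.univ 𝓘 (Finset.mem_univ i)
  obtain ⟨X'i, b'i, hb'i⟩ := Groth.Agent.Lib.Helper9.BlowExist.exists_isBlowUp (𝓛.comap (b i))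
  have hcomp : BlowUp.IsBlowUp (b'i ≫ b i) 𝓙 := hmul ▸ isBlowUp_comp (𝓘 i) 𝓛 (b i) b'i (hb i) hb'i
  obtain ⟨κ, hκ, -⟩ := hcomp.2 X' c hc.1
  have : IsIso κ := isIso_of_isBlowUp hc hcomp κ hκ
  refine ⟨κ ≫ b'i, 𝓛.comap (b i), by rw [Category.assoc]; exact hκ,
    Groth.Agent.Lib.Helper9.ABlow.isBlowUp_of_isIso_comp κ hb'i,
    isAdmissibleFor_comap (b i) U 𝓛 (isAdmissibleFor_prod U _ 𝓘 (fun j _ => ha j))⟩

end Groth.Agent.Lib.Helper9.BlowComp
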