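import Groth.Agent.Lib.Helper9.ABlow3
import Groth.Agent.Lib.Helper29.BlowUpUP

set_option autoImplicit false
universe u
open CategoryTheory CategoryTheory.Limits AlgebraicGeometry TopologicalSpace

namespace Groth.Agent.Lib.Helper9.BlowProper

open Groth.Agent.Lib.Helper29.EffCart Groth.Agent.Lib.Helper9.ABlow

variable {X X' : Scheme.{u}}

lemma isLocPrincipal_of_isEffCartier (E : X.IdealSheafData) (h : BlowUp.IsEffCartierIdeal E) :
    HTop.IsLocPrincipal E := by
  intro x
  obtain ⟨U, hx, f, _, hf⟩ := h x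
  exact ⟨U, hx, f, hf⟩

/-- A blow-up is always separated. -/
theorem isSeparated_of_isBlowUp {b : X' ⟶ X} {𝓘 : X.IdealSheafData} (hb : BlowUp.IsBlowUp b 𝓘) :
    IsSeparated b := by
  set p₁ := pullback.fst b b with hp₁
  set p₂ := pullback.snd b b with hp₂
  set Δ := pullback.diagonal b with hΔ
  set E : (pullback b b).IdealSheafData := (𝓘.comap b).comap p₁ with hE
  have hElp : HTop.IsLocPrincipal E :=
    isLocPrincipal_comap _ (isLocPrincipal_of_isEffCartier _ hb.1) _
  set K := HTop.supportedOn E with hK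
  have hEff : BlowUp.IsEffCartierIdeal (E.comap K.subschemeι) :=
    isEffCartier_comap_supportedOn E hElp
  have hcond : p₁ ≫ b = p₂ ≫ b := pullback.condition
  have heq : K.subschemeι ≫ p₁ = K.subschemeι ≫ p₂ := by
    refine IsBlowUp.hom_ext hb _ _ ?_ ?_
    · rw [Category.assoc, Scheme.IdealSheafData.comap_comp, Scheme.IdealSheafData.comap_comp]
      exact hEff
    · rw [Category.assoc, Category.assoc, hcond]
  have hΔE : BlowUp.IsEffCartierIdeal (E.comap Δ) := by
    rw [hE, ← Scheme.IdealSheafData.comap_comp, hΔ, hp₁, pullback.diagonal_fst,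
      Scheme.IdealSheafData.comap_id]
    exact hb.1
  have hle : K.subschemeι.ker ≤ Δ.ker := by
    rw [Scheme.IdealSheafData.ker_subschemeι]
    exact supportedOn_le_ker E Δ hΔE
  let δ := IsClosedImmersion.lift K.subschemeι Δ hle
  have hδ : δ ≫ K.subschemeι = Δ := IsClosedImmersion.lift_fac _ _ _
  have h1 : δ ≫ (K.subschemeι ≫ p₁) = 𝟙 _ := by
    rw [← Category.assoc, hδ, hΔ, hp₁, pullback.diagonal_fst]
  have h2 : (K.subschemeι ≫ p₁) ≫ δ = 𝟙 _ := by
    rw [← cancel_mono K.subschemeι, Category.assoc, hδ, Category.id_comp]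
    apply pullback.hom_ext
    · rw [Category.assoc, Category.assoc]
      change _ ≫ _ ≫ Δ ≫ p₁ = _
      rw [hΔ, hp₁, pullback.diagonal_fst, Category.comp_id]
    · rw [Category.assoc, Category.assoc]
      change _ ≫ _ ≫ Δ ≫ p₂ = _ ≫ p₂
      rw [hΔ, hp₂, pullback.diagonal_snd, Category.comp_id, ← hp₂, heq]
  haveI : IsIso δ := ⟨⟨K.subschemeι ≫ p₁, h1, h2⟩⟩
  haveI : IsClosedImmersion Δ := by
    rw [← hδ]; infer_instance
  exact ⟨this⟩

end Groth.Agent.Lib.Helper9.BlowProper
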