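import Groth.Agent.Lib.Helper9.BlowProper2

set_option autoImplicit false
universe u
open CategoryTheory CategoryTheory.Limits AlgebraicGeometry TopologicalSpace

namespace Groth.Agent.Lib.Helper9.BlowProper

open Groth.Agent.Lib.Helper29.EffCart Groth.Agent.Lib.Helper29.AffBlow

section Val

variable {A : Type u} [CommRing A] {I : Ideal A}

/-- Algebraic core of the valuative criterion for blow-ups. -/
theorem alg_core (S : Finset A) (hS : Ideal.span (S : Set A) = I)
    (R K : Type u) [CommRing R] [IsDomain R] [ValuationRing R] [Field K] [Algebra R K]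
    [IsFractionRing R K] (φ : A →+* R) (j : A) (hj : j ∈ S)
    (ψ : BlowUp.affineAlgebra A I j →+* K)
    (hψ : ∀ r : A, ψ (algebraMap A _ r) = algebraMap R K (φ r)) :
    ∃ (m : A) (_ : m ∈ S) (B : Type u) (_ : CommRing B)
      (α : BlowUp.affineAlgebra A I j →+* B) (θ : BlowUp.affineAlgebra A I m →+* B)
      (ψB : B →+* K) (ρ : BlowUp.affineAlgebra A I m →+* R),
      α.Flat ∧ (∀ r : A, θ (algebraMap A _ r) = α (algebraMap A _ r)) ∧
      ψB.comp α = ψ ∧ ψB.comp θ = (algebraMap R K).comp ρ ∧
      ∀ r : A, ρ (algebraMap A _ r) = φ r := by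
  classical
  have hSI : (S : Set A) ⊆ I := hS ▸ Ideal.subset_span
  have hjI : j ∈ I := hSI hj
  set v := ValuationRing.valuation R K with hv
  obtain ⟨m, hm, hmax⟩ := Finset.exists_max_image S (fun s => v (ψ (fr I j s))) ⟨j, hj⟩
  have hmI : m ∈ I := hSI hm
  set cm := ψ (fr I j m) with hcm
  have hcm0 : cm ≠ 0 := by
    have h1 := hmax j hj
    simp only [fr_self hjI, map_one] at h1
    intro h0
    rw [h0, map_zero] at h1
    exact absurd h1 (not_le.2 zero_lt_one)
  -- the localization
  let B := Localization.Away (fr I j m)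
  let α : BlowUp.affineAlgebra A I j →+* B := algebraMap _ B
  have hαflat : α.Flat := by
    rw [RingHom.flat_algebraMap_iff]
    exact IsLocalization.flat B (Submonoid.powers (fr I j m))
  have hαu : IsUnit (α (fr I j m)) :=
    IsLocalization.map_units B (⟨fr I j m, Submonoid.mem_powers _⟩ : Submonoid.powers (fr I j m))
  have hψu : IsUnit (ψ (fr I j m)) := IsUnit.mk0 _ hcm0
  let ψB : B →+* K := IsLocalization.Away.lift (S := B) (fr I j m) (g := ψ) hψu
  have hψB : ∀ y, ψB (α y) = ψ y := fun y => IsLocalization.Away.lift_eq (fr I j m) hψu y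
  have hαj : α (algebraMap A _ j) ∈ nonZeroDivisors B :=
    map_mem_nonZeroDivisors_of_flat α hαflat _ (algebraMap_mem_nonZeroDivisors A I j)
  -- θ
  have hφm : α (algebraMap A _ m) = α (algebraMap A _ j) * α (fr I j m) := by
    rw [← map_mul, ← alg_eq_mul_fr hmI]
  obtain ⟨θ, hθ⟩ := exists_lift (I := I) (a := m) (α.comp (algebraMap A _))
    (by
      change α (algebraMap A _ m) ∈ _
      rw [hφm]
      exact mul_mem hαj (IsUnit.mem_nonZeroDivisors hαu))
    (by
      intro x hx
      obtain ⟨w, hw⟩ := hαu.exists_left_inv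
      refine ⟨w * α (fr I j x), ?_⟩
      change α (algebraMap A _ x) = α (algebraMap A _ m) * _
      rw [hφm, alg_eq_mul_fr hx, map_mul]
      calc α (algebraMap A _ j) * α (fr I j x)
          = α (algebraMap A _ j) * ((w * α (fr I j m)) * α (fr I j x)) := by rw [hw, one_mul]
        _ = _ := by ring)
  have hθ' : ∀ r : A, θ (algebraMap A _ r) = α (algebraMap A _ r) := hθ
  -- key identity
  have hkey : ∀ x ∈ I, θ (fr I m x) * α (fr I j m) = α (fr I j x) := by
    intro x hx
    have h1 : (θ (fr I m x) * α (fr I j m) - α (fr I j x)) * α (algebraMap A _ j) = 0 := by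
      have e1 : θ (fr I m x) * α (fr I j m) * α (algebraMap A _ j) = α (algebraMap A _ x) := by
        rw [mul_assoc, mul_comm (α (fr I j m)), ← hφm, ← hθ' m, ← map_mul, mul_comm,
          ← alg_eq_mul_fr hx, hθ' x]
      have e2 : α (fr I j x) * α (algebraMap A _ j) = α (algebraMap A _ x) := by
        rw [mul_comm, ← map_mul, ← alg_eq_mul_fr hx]
      rw [sub_mul, e1, e2, sub_self]
    exact sub_eq_zero.1 ((mem_nonZeroDivisors_iff_right.1 hαj) _ h1)
  -- values in R
  have hval : ∀ x ∈ I, ∃ r : R, algebraMap R K r * cm = ψ (fr I j x) := by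
    intro x hx
    refine fr_span_induction hS (fun y => ∃ r : R, algebraMap R K r * cm = ψ y) ?_ ?_ ?_ ?_ x hx
    · exact ⟨0, by rw [map_zero, zero_mul, map_zero]⟩
    · rintro y z ⟨r, hr⟩ ⟨s, hs⟩
      exact ⟨r + s, by rw [map_add, add_mul, hr, hs, map_add]⟩
    · rintro r y ⟨s, hs⟩
      exact ⟨φ r * s, by rw [map_mul, mul_assoc, hs, map_mul, hψ]⟩
    · intro s hs
      have h1 : v (ψ (fr I j s) / cm) ≤ 1 := by
        rw [map_div₀]
        exact div_le_one_of_le₀ (hmax s hs) zero_le
      have h2 : ψ (fr I j s) / cm ∈ v.integer := h1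
      obtain ⟨r, hr⟩ := (ValuationRing.mem_integer_iff R K _).1 h2
      exact ⟨r, by rw [hr, div_mul_cancel₀ _ hcm0]⟩
  set ψ' := ψB.comp θ with hψ'
  have hrange : ∀ y, ψ' y ∈ (algebraMap R K).range := by
    intro y
    refine induction_on A I m (p := fun y => ψ' y ∈ (algebraMap R K).range) ?_ ?_ ?_ ?_ y
    · intro r
      refine ⟨φ r, ?_⟩
      change _ = ψB (θ _)
      rw [hθ' r, hψB, hψ]
    · intro x hx
      obtain ⟨r, hr⟩ := hval x hx
      refine ⟨r, ?_⟩
      have h1 : ψ' (frac A I m x hx) * cm = ψ (fr I j x) := by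
        change ψB (θ _) * _ = _
        rw [← fr_eq hx, hcm, ← hψB (fr I j m), ← map_mul, hkey x hx, hψB]
      rw [← hr] at h1
      exact (mul_right_cancel₀ hcm0 h1).symm
    · intro y z hy hz
      rw [map_add]; exact Subring.add_mem _ hy hz
    · intro y z hy hz
      rw [map_mul]; exact Subring.mul_mem _ hy hz
  have hinj : Function.Injective (algebraMap R K) := IsFractionRing.injective R K
  let e : R ≃+* (algebraMap R K).range := RingEquiv.ofBijective (algebraMap R K).rangeRestrict
    ⟨fun x y h => hinj (congrArg Subtype.val h), (algebraMap R K).rangeRestrict_surjective⟩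
  let Ψ : BlowUp.affineAlgebra A I m →+* (algebraMap R K).range :=
    ψ'.codRestrict (algebraMap R K).range hrange
  let ρ : BlowUp.affineAlgebra A I m →+* R := e.symm.toRingHom.comp Ψ
  have hρ : ∀ y, algebraMap R K (ρ y) = ψ' y := by
    intro y
    have := e.apply_symm_apply (Ψ y)
    exact congrArg Subtype.val this
  refine ⟨m, hm, B, inferInstance, α, θ, ψB, ρ, hαflat, hθ', ?_, ?_, ?_⟩
  · ext y; exact hψB y
  · ext y; exact (hρ y).symm
  · intro r
    apply hinj
    rw [hρ]
    change ψB (θ _) = _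
    rw [hθ' r, hψB, hψ]

end Val

end Groth.Agent.Lib.Helper9.BlowProper
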