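import Groth.Agent.Lib.Helper9.BlowProper3
import Groth.Agent.Lib.Helper9.BlowProper1
import Groth.Agent.Lib.Helper9.BlowExist2

set_option autoImplicit false
universe u
open CategoryTheory CategoryTheory.Limits AlgebraicGeometry TopologicalSpace

namespace Groth.Agent.Lib.Helper9.BlowProper

open Groth.Agent.Lib.Helper29.EffCart Groth.Agent.Lib.Helper29.AffBlow
open Groth.Agent.Lib.Helper9.BlowExist

section Geom

variable {A : Type u} [CommRing A] {I : Ideal A} {X' : Scheme.{u}}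
  {b : X' ⟶ Spec (CommRingCat.of A)}

/-- For every `a ∈ I` the locus where `a` generates is the spectrum of `A[I/a]`. -/
theorem exists_chartIso (hb : BlowUp.IsBlowUp b (idealSheaf I)) (a : A) (ha : a ∈ I) :
    ∃ e : ((genLocus I a b : X'.Opens) : Scheme.{u}) ≅
        Spec (CommRingCat.of (BlowUp.affineAlgebra A I a)),
      e.hom ≫ chartMap I a = (genLocus I a b).ι ≫ b := by
  set V := genLocus I a b with hV
  have hGV : LocGen I a (V.ι ≫ b) := locGen_genLocus_ι a b
  have hEff : BlowUp.IsEffCartierIdeal ((idealSheaf I).comap (chartMap I a)) :=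
    (locGen_chartMap ha).isEffCartierIdeal
  obtain ⟨h_a, hh_a, -⟩ := hb.2 _ (chartMap I a) hEff
  have hpre : h_a ⁻¹ᵁ V = ⊤ := by
    rw [hV, ← genLocus_comp a ha b h_a hb.1 (hh_a ▸ hEff), hh_a]
    exact genLocus_eq_top_of_locGen a _ (locGen_chartMap ha)
  have hrange : Set.range h_a ⊆ Set.range V.ι := by
    rintro _ ⟨z, rfl⟩
    rw [Scheme.Opens.range_ι]
    have : z ∈ h_a ⁻¹ᵁ V := hpre ▸ trivial
    exact this
  let h' := IsOpenImmersion.lift V.ι h_a hrange
  have hh' : h' ≫ V.ι = h_a := IsOpenImmersion.lift_fac _ _ _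
  obtain ⟨k, hk⟩ := hGV.exists_hom
  refine ⟨⟨k, h', ?_, ?_⟩, hk⟩
  · rw [← cancel_mono V.ι, Category.assoc, hh', Category.id_comp]
    refine IsBlowUp.hom_ext hb _ _ ?_ ?_
    · rw [Category.assoc, hh_a, hk]
      exact hGV.isEffCartierIdeal
    · rw [Category.assoc, hh_a, hk]
  · refine (locGen_chartMap ha).hom_ext _ _ ?_ (Category.id_comp _)
    rw [Category.assoc, hk, ← Category.assoc, hh', hh_a]

/-- The loci of a generating set cover. -/
theorem genLocus_cover_of_span {T : Scheme.{u}} (g : T ⟶ Spec (CommRingCat.of A))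
    (hg : BlowUp.IsEffCartierIdeal ((idealSheaf I).comap g)) (S : Set A)
    (hS : Ideal.span S = I) : ⨆ a : S, genLocus I a.1 g = ⊤ := by
  rw [eq_top_iff]
  intro t _
  obtain ⟨U, htU, f, hf, hIU⟩ := hg t
  rw [ideal_comap I g U] at hIU
  by_contra hcon
  have hcon' : ∀ s ∈ S, ∀ β : Γ(T, U.1), secMap g U.1 s = β * f → t ∉ T.basicOpen β := by
    intro s hs β hβ htβ
    exact hcon (Opens.mem_iSup.2 ⟨⟨s, hs⟩, (mem_genLocus_iff s g t).2
      ⟨⟨T.basicOpen β, U.2.basicOpen β⟩, htβ, gen_basicOpen U f β hf hIU hβ⟩⟩)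
  let p : Ideal Γ(T, U.1) :=
    (IsLocalRing.maximalIdeal (T.presheaf.stalk t)).comap (T.presheaf.germ U.1 t htU).hom
  have hle : I.map (secMap g U.1) ≤ p * Ideal.span {f} := by
    rw [← hS, Ideal.map_span, Ideal.span_le]
    rintro _ ⟨s, hs, rfl⟩
    have hmem : secMap g U.1 s ∈ Ideal.span {f} := by
      rw [← hIU, ← hS]; exact Ideal.mem_map_of_mem _ (Ideal.subset_span hs)
    obtain ⟨β, hβ⟩ := Ideal.mem_span_singleton'.1 hmem
    have := hcon' s hs β hβ.symm
    rw [Scheme.mem_basicOpen _ _ _ htU] at this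
    rw [← hβ]
    refine Ideal.mul_mem_mul ?_ (Ideal.subset_span rfl)
    change (T.presheaf.germ U.1 t htU).hom β ∈ IsLocalRing.maximalIdeal _
    rw [IsLocalRing.mem_maximalIdeal, mem_nonunits_iff]
    exact this
  have h2 : f ∈ p * Ideal.span {f} := hle (hIU ▸ Ideal.subset_span rfl)
  obtain ⟨k, hk, hkf⟩ := Ideal.mem_mul_span_singleton.1 h2
  have h3 : (k - 1) * f = 0 := by rw [sub_mul, hkf, one_mul, sub_self]
  have h4 : k = 1 := sub_eq_zero.1 ((mem_nonZeroDivisors_iff_right.1 hf) _ h3)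
  rw [h4] at hk
  have h5 : (T.presheaf.germ U.1 t htU).hom 1 ∈ IsLocalRing.maximalIdeal (T.presheaf.stalk t) := hk
  rw [map_one] at h5
  exact (Ideal.ne_top_iff_one _).1 (IsLocalRing.maximalIdeal.isMaximal _).ne_top h5

end Geom

end Groth.Agent.Lib.Helper9.BlowProper
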