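import Groth.Agent.Lib.Helper9.BlowProper4

set_option autoImplicit false
universe u
open CategoryTheory CategoryTheory.Limits AlgebraicGeometry TopologicalSpace

namespace Groth.Agent.Lib.Helper9.BlowProper

open Groth.Agent.Lib.Helper29.EffCart Groth.Agent.Lib.Helper29.AffBlow
open Groth.Agent.Lib.Helper9.BlowExist

section Geom

variable {A : Type u} [CommRing A] {I : Ideal A} {X' : Scheme.{u}}
  {b : X' ⟶ Spec (CommRingCat.of A)}

lemma isAffineOpen_genLocus (hb : BlowUp.IsBlowUp b (idealSheaf I)) (a : A) (ha : a ∈ I) :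
    IsAffineOpen (genLocus I a b) := by
  obtain ⟨e, -⟩ := exists_chartIso hb a ha
  exact IsAffine.of_isIso e.hom

theorem compactSpace_of_fg (hb : BlowUp.IsBlowUp b (idealSheaf I)) (hI : I.FG) :
    CompactSpace X' := by
  obtain ⟨S, hS⟩ := hI
  have hSI : (S : Set A) ⊆ I := hS ▸ Ideal.subset_span
  have hcov := genLocus_cover_of_span b hb.1 (S : Set A) hS
  refine ⟨?_⟩
  have h1 : (Set.univ : Set X') = ⋃ a : (S : Set A), (genLocus I a.1 b : Set X') := by
    have := congrArg (fun U : X'.Opens => (U : Set X')) hcov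
    simp only [Opens.coe_iSup, Opens.coe_top] at this
    exact this.symm
  rw [h1]
  haveI : Finite (S : Set A) := S.finite_toSet.to_subtype
  exact isCompact_iUnion (fun a => (isAffineOpen_genLocus hb a.1 (hSI a.2)).isCompact)

theorem locallyOfFiniteType_of_fg (hb : BlowUp.IsBlowUp b (idealSheaf I)) (hI : I.FG) :
    LocallyOfFiniteType b := by
  rw [IsZariskiLocalAtSource.iff_of_iSup_eq_top (P := @LocallyOfFiniteType)
    (fun a : {a // a ∈ I} => genLocus I a.1 b) (genLocus_cover b hb.1)]
  intro a
  obtain ⟨e, he⟩ := exists_chartIso hb a.1 a.2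
  rw [← he]
  haveI : LocallyOfFiniteType (chartMap I a.1) := by
    rw [HasRingHomProperty.Spec_iff (P := @LocallyOfFiniteType)]
    exact finiteType_affineAlgebra hI
  infer_instance

end Geom

end Groth.Agent.Lib.Helper9.BlowProper
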