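import Groth.Agent.Lib.Helper9.BlowProper5

set_option autoImplicit false
universe u
open CategoryTheory CategoryTheory.Limits AlgebraicGeometry TopologicalSpace

namespace Groth.Agent.Lib.Helper9.BlowProper

open Groth.Agent.Lib.Helper29.EffCart Groth.Agent.Lib.Helper29.AffBlow
open Groth.Agent.Lib.Helper9.BlowExist

section Geom

variable {A : Type u} [CommRing A] {I : Ideal A} {X' : Scheme.{u}}
  {b : X' ⟶ Spec (CommRingCat.of A)}

theorem valuative_existence (hb : BlowUp.IsBlowUp b (idealSheaf I)) (hI : I.FG) :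
    ValuativeCriterion.Existence b := by
  classical
  intro Sq
  obtain ⟨S, hS⟩ := hI
  have hSI : (S : Set A) ⊆ I := hS ▸ Ideal.subset_span
  have hcov := genLocus_cover_of_span b hb.1 (S : Set A) hS
  let R := Sq.R
  let K := Sq.K
  -- the ring map of i₂
  set φ' : CommRingCat.of A ⟶ CommRingCat.of R := Spec.preimage Sq.i₂ with hφ'
  have hφ'' : Spec.map φ' = Sq.i₂ := Spec.map_preimage _
  -- the chart containing the generic point
  let pt : Spec (CommRingCat.of K) := default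
  obtain ⟨⟨j, hj⟩, hptj⟩ := Opens.mem_iSup.1 (show Sq.i₁ pt ∈ ⨆ a : (S : Set A), genLocus I a.1 b
    from hcov ▸ trivial)
  have hjI : j ∈ I := hSI hj
  set Vj := genLocus I j b with hVj
  have hrange : Set.range Sq.i₁ ⊆ Set.range Vj.ι := by
    rintro _ ⟨z, rfl⟩
    rw [Scheme.Opens.range_ι, Subsingleton.elim z pt]
    exact hptj
  let i₁' := IsOpenImmersion.lift Vj.ι Sq.i₁ hrange
  have hi₁' : i₁' ≫ Vj.ι = Sq.i₁ := IsOpenImmersion.lift_fac _ _ _
  obtain ⟨ej, hej⟩ := exists_chartIso hb j hjI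
  set ψ' : CommRingCat.of (BlowUp.affineAlgebra A I j) ⟶ CommRingCat.of K :=
    Spec.preimage (i₁' ≫ ej.hom) with hψ'
  have hψ'' : Spec.map ψ' = i₁' ≫ ej.hom := Spec.map_preimage _
  have hcomm : CommRingCat.ofHom (algebraMap A (BlowUp.affineAlgebra A I j)) ≫ ψ' =
      φ' ≫ CommRingCat.ofHom (algebraMap R K) := by
    apply Spec.map_injective
    rw [Spec.map_comp, Spec.map_comp, hψ'', hφ'', Category.assoc]
    change _ ≫ ej.hom ≫ chartMap I j = _
    rw [hej, ← Category.assoc, hi₁']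
    exact Sq.commSq.w
  have hψ : ∀ r : A, ψ'.hom (algebraMap A _ r) = algebraMap R K (φ'.hom r) := by
    intro r
    exact congrArg (fun χ : CommRingCat.of A ⟶ CommRingCat.of K => χ.hom r) hcomm
  obtain ⟨m, hm, B, _, α, θ, ψB, ρ, hαflat, hθ, hψB, hψθ, hρ⟩ :=
    alg_core S hS R K φ'.hom j hj ψ'.hom hψ
  have hmI : m ∈ I := hSI hm
  set Vm := genLocus I m b with hVm
  obtain ⟨em, hem⟩ := exists_chartIso hb m hmI
  -- the two maps out of `Spec B`
  let u₁ : Spec (CommRingCat.of B) ⟶ X' := Spec.map (CommRingCat.ofHom θ) ≫ em.inv ≫ Vm.ι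
  let u₂ : Spec (CommRingCat.of B) ⟶ X' := Spec.map (CommRingCat.ofHom α) ≫ ej.inv ≫ Vj.ι
  have hemb : em.inv ≫ Vm.ι ≫ b = chartMap I m := by
    rw [← hem, Iso.inv_hom_id_assoc]
  have hejb : ej.inv ≫ Vj.ι ≫ b = chartMap I j := by
    rw [← hej, Iso.inv_hom_id_assoc]
  have hu₂b : u₂ ≫ b = Spec.map (CommRingCat.ofHom α) ≫ chartMap I j := by
    simp only [u₂, Category.assoc, hejb]
  have hu₁b : u₁ ≫ b = Spec.map (CommRingCat.ofHom α) ≫ chartMap I j := by
    simp only [u₁, Category.assoc, hemb]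
    rw [chartMap, chartMap, ← Spec.map_comp, ← Spec.map_comp]
    congr 1
    ext r
    exact hθ r
  have hu : u₁ = u₂ := by
    refine IsBlowUp.hom_ext hb u₁ u₂ ?_ (hu₁b.trans hu₂b.symm)
    rw [hu₁b, Scheme.IdealSheafData.comap_comp]
    haveI : Flat (Spec.map (CommRingCat.ofHom α)) := by
      rw [HasRingHomProperty.Spec_iff (P := @Flat)]
      exact hαflat
    exact isEffCartierIdeal_comap_of_flat _ _ (locGen_chartMap hjI).isEffCartierIdeal
  -- the lift
  refine ⟨⟨⟨Spec.map (CommRingCat.ofHom ρ) ≫ em.inv ≫ Vm.ι, ?_, ?_⟩⟩⟩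
  · -- left triangle
    have h1 : Spec.map (CommRingCat.ofHom (algebraMap R K)) ≫ Spec.map (CommRingCat.ofHom ρ) =
        Spec.map (CommRingCat.ofHom ψB) ≫ Spec.map (CommRingCat.ofHom θ) := by
      rw [← Spec.map_comp, ← Spec.map_comp]
      congr 1
      ext y
      exact (congrArg (fun χ : _ →+* K => χ y) hψθ).symm
    have h2 : Sq.i₁ = Spec.map (CommRingCat.ofHom ψB) ≫ u₂ := by
      simp only [u₂]
      rw [← Category.assoc, ← Spec.map_comp]
      have h3 : CommRingCat.ofHom α ≫ CommRingCat.ofHom ψB = ψ' := by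
        ext y
        exact congrArg (fun χ : _ →+* K => χ y) hψB
      rw [h3, hψ'', Category.assoc, Iso.hom_inv_id_assoc, hi₁']
    rw [← Category.assoc, h1, Category.assoc, h2, ← hu]
  · -- right triangle
    rw [Category.assoc, Category.assoc, hemb, ← hφ'', chartMap, ← Spec.map_comp]
    congr 1
    ext r
    exact hρ r

end Geom

end Groth.Agent.Lib.Helper9.BlowProper
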