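import Groth.Agent.Lib.Helper9.BlowProper7
import Groth.Agent.Lib.Helper9.BlowComp2
import Groth.Prelude.Def_W4c6modpairsegaMP

set_option autoImplicit false
universe u
open CategoryTheory CategoryTheory.Limits AlgebraicGeometry TopologicalSpace

namespace Groth.Agent.Lib.Helper9.BlowProper

open Groth.Agent.Lib.Helper29.EffCart Groth.Agent.Lib.Helper9.ABlow
open Groth.Agent.Lib.Helper9.BlowComp

variable {X : Scheme.{u}}

lemma isFiniteTypeIdeal_of_isEffCartier (E : X.IdealSheafData) (h : BlowUp.IsEffCartierIdeal E) :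
    BlowUp.IsFiniteTypeIdeal E :=
  fun U => fg_of_isLocPrincipal E (isLocPrincipal_of_isEffCartier E h) U

lemma isFiniteTypeIdeal_sup (E F : X.IdealSheafData) (hE : BlowUp.IsFiniteTypeIdeal E)
    (hF : BlowUp.IsFiniteTypeIdeal F) : BlowUp.IsFiniteTypeIdeal (E ⊔ F) := by
  intro U
  rw [Scheme.IdealSheafData.ideal_sup]
  exact Submodule.FG.sup (hE U) (hF U)

section MP
open ModPair

variable {S T X Y : Scheme.{u}} (f : X ⟶ S) (g : T ⟶ S) (I : X.IdealSheafData)
  (J : T.IdealSheafData)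

lemma isFiniteTypeIdeal_prodCentre (hX : BlowUp.IsEffCartierIdeal I)
    (hT : BlowUp.IsEffCartierIdeal J) : BlowUp.IsFiniteTypeIdeal (prodCentre f g I J) :=
  isFiniteTypeIdeal_sup _ _
    (isFiniteTypeIdeal_comap _ _ (isFiniteTypeIdeal_of_isEffCartier I hX))
    (isFiniteTypeIdeal_comap _ _ (isFiniteTypeIdeal_of_isEffCartier J hT))

theorem isProper_ambProd (hX : BlowUp.IsEffCartierIdeal I) (hT : BlowUp.IsEffCartierIdeal J)
    (π : Y ⟶ mprod f g I J) (K : Y.IdealSheafData) (hY : IsAmbProd f g I J π K) : IsProper π :=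
  isProper_of_isBlowUp hY.1 (isFiniteTypeIdeal_prodCentre f g I J hX hT)

end MP

end Groth.Agent.Lib.Helper9.BlowProper
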