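import Mathlib
import Groth.Agent.Lib.Helper6.SheafCoh
import Groth.Prelude.Def_CohTop

set_option backward.isDefEq.respectTransparency false
set_option maxHeartbeats 800000
set_option autoImplicit false
set_option linter.unusedSectionVars false
set_option linter.unusedVariables false
universe u
open CategoryTheory CategoryTheory.Limits Opposite TopologicalSpace Abelian

namespace Groth.Agent.Lib.Helper9.BlowPt

open Groth.Agent.Lib.Helper6.SheafCoh

section Top

variable {X : TopCat.{u}} (F : CohTop.Ab X)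

/-- `H⁰(U, F) ≃+ F(U)` -/
noncomputable def h0 (U : Opens X) : CohTop.HU F 0 U ≃+ F.obj.obj (op U) :=
  H'equiv₀ (Opens.grothendieckTopology X) F U

theorem h0_map {U V : Opens X} (i : V ⟶ U) (y : CohTop.HU F 0 U) :
    h0 F V ((F.cohomologyPresheaf 0).map i.op y) = F.obj.map i.op (h0 F U y) := by
  have e : (F.cohomologyPresheaf 0).map i.op y =
      (Ext.mk₀ (ZfreeMap (Opens.grothendieckTopology X) i)).comp y (zero_add 0) := rfl
  rw [e]
  obtain ⟨φ, rfl⟩ := Ext.addEquiv₀.symm.surjective y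
  change homEquiv _ V F (Ext.addEquiv₀ ((Ext.mk₀ _).comp (Ext.mk₀ φ) (zero_add 0))) =
    F.obj.map i.op (homEquiv _ U F (Ext.addEquiv₀ (Ext.mk₀ φ)))
  rw [Ext.mk₀_comp_mk₀]
  change homEquiv _ V F (Ext.addEquiv₀ (Ext.addEquiv₀.symm _)) =
    F.obj.map i.op (homEquiv _ U F (Ext.addEquiv₀ (Ext.addEquiv₀.symm φ)))
  rw [AddEquiv.apply_symm_apply, AddEquiv.apply_symm_apply, homEquiv_naturality_left]

/-- Mayer–Vietoris for `H¹`: if `H¹(A) = H¹(B) = 0` and every section over `A ⊓ B` is a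
difference of restrictions, then `H¹(A ⊔ B) = 0`. -/
theorem subsingleton_HU_one_sup (A B : Opens X)
    (h2 : Subsingleton (CohTop.HU F 1 A)) (h3 : Subsingleton (CohTop.HU F 1 B))
    (hs : ∀ s : F.obj.obj (op (A ⊓ B)), ∃ (a : F.obj.obj (op A)) (b : F.obj.obj (op B)),
      s = F.obj.map (homOfLE (inf_le_left : A ⊓ B ≤ A)).op a -
        F.obj.map (homOfLE (inf_le_right : A ⊓ B ≤ B)).op b) :
    Subsingleton (CohTop.HU F 1 (A ⊔ B)) := by
  let S := Opens.mayerVietorisSquare A B
  have hex := S.sequence_exact F 0 1 rfl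
  have h := hex.exact 2 (by omega)
  rw [ShortComplex.ab_exact_iff] at h
  have h' := hex.exact 1 (by omega)
  have hzero : S.fromBiprod F 0 ≫ S.δ F 0 1 rfl = 0 := S.fromBiprod_δ F 0 1 rfl
  have key : ∀ z : (Sheaf.H'.{u} F 1 S.X₄ : AddCommGrpCat.{u}), z = 0 := by
    intro z
    obtain ⟨w, hw⟩ := h z (by
      change S.toBiprod F 1 z = 0
      refine (S.toBiprod_apply F z).trans ?_
      have e1 : (F.cohomologyPresheaf 1).map S.f₂₄.op z = 0 := h2.elim _ _
      have e2 : (F.cohomologyPresheaf 1).map S.f₃₄.op z = 0 := h3.elim _ _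
      rw [e1, e2]
      exact map_zero _)
    -- w ∈ H⁰(A ⊓ B)
    obtain ⟨a, b, hab⟩ := hs (h0 F (A ⊓ B) w)
    have hw' : w = S.fromBiprod F 0 ((AddCommGrpCat.biprodIsoProd _ _).inv
        ⟨(h0 F A).symm a, (h0 F B).symm b⟩) := by
      rw [S.fromBiprod_biprodIsoProd_inv_apply F]
      apply (h0 F (A ⊓ B)).injective
      have e12 : h0 F (A ⊓ B) ((F.cohomologyPresheaf 0).map S.f₁₂.op ((h0 F A).symm a)) =
          F.obj.map (homOfLE (inf_le_left : A ⊓ B ≤ A)).op a :=
        (h0_map F (homOfLE (inf_le_left : A ⊓ B ≤ A)) _).trans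
          (by rw [AddEquiv.apply_symm_apply])
      have e13 : h0 F (A ⊓ B) ((F.cohomologyPresheaf 0).map S.f₁₃.op ((h0 F B).symm b)) =
          F.obj.map (homOfLE (inf_le_right : A ⊓ B ≤ B)).op b :=
        (h0_map F (homOfLE (inf_le_right : A ⊓ B ≤ B)) _).trans
          (by rw [AddEquiv.apply_symm_apply])
      exact hab.trans ((congrArg₂ (· - ·) e12 e13).symm.trans (map_sub _ _ _).symm)
    rw [← hw, hw']
    have hz := ConcreteCategory.congr_hom hzero ((AddCommGrpCat.biprodIsoProd _ _).inv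
        ⟨(h0 F A).symm a, (h0 F B).symm b⟩)
    exact hz
  exact ⟨fun x y => (key x).trans (key y).symm⟩

end Top

end Groth.Agent.Lib.Helper9.BlowPt
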