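import Mathlib
import Groth.Agent.Lib.Helper9.BlowPt5
import Groth.Agent.Lib.Helper9.BlowPt3
import Groth.Agent.Lib.Helper17.Serre

set_option backward.isDefEq.respectTransparency false
set_option maxHeartbeats 800000
set_option autoImplicit false
set_option linter.unusedSectionVars false
set_option linter.unusedVariables false
universe u
open CategoryTheory CategoryTheory.Limits AlgebraicGeometry Opposite TopologicalSpace

namespace Groth.Agent.Lib.Helper9.BlowPt

open Groth.Agent.Lib.Helper29.EffCart Groth.Agent.Lib.Helper29.AffBlow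
open Groth.Agent.Lib.Helper9.BlowExist Groth.Agent.Lib.Helper9.BlowProper

/-- restriction of sections as a ring hom -/
noncomputable abbrev rs {X : Scheme.{u}} {U W : X.Opens} (h : W ≤ U) : Γ(X, U) →+* Γ(X, W) :=
  (X.presheaf.map (homOfLE h).op).hom

theorem exists_sub_of_basicOpen {X : Scheme.{u}} {A : Type u} [CommRing A] (U V : X.Opens)
    (hU : IsAffineOpen U) (t : Γ(X, U)) (hV : X.basicOpen t ≤ V)
    (fU : A →+* Γ(X, U)) (fV : A →+* Γ(X, V))
    (hf : ∀ r, rs (X.basicOpen_le t) (fU r) = rs hV (fV r))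
    (hpoly : ∀ r : Γ(X, U), ∃ p : Polynomial A, r = Polynomial.eval₂ fU t p)
    (v : Γ(X, V)) (hv : rs hV v * rs (X.basicOpen_le t) t = 1)
    (s : Γ(X, X.basicOpen t)) :
    ∃ (a : Γ(X, U)) (c : Γ(X, V)), s = rs (X.basicOpen_le t) a - rs hV c := by
  set ρU := rs (X.basicOpen_le t) with hρU
  set ρV := rs hV with hρV
  haveI := hU.isLocalization_basicOpen t
  obtain ⟨⟨r, ⟨_, n, rfl⟩⟩, hrm⟩ := IsLocalization.surj (Submonoid.powers t) s
  have hrm' : s * (ρU t) ^ n = ρU r := by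
    have : algebraMap Γ(X, U) Γ(X, X.basicOpen t) = ρU := rfl
    rw [← this, ← map_pow]
    exact hrm
  obtain ⟨p, rfl⟩ := hpoly r
  have htv : ρU t * ρV v = 1 := by rw [mul_comm]; exact hv
  have key : ∀ (p : Polynomial A) (n : ℕ), ∃ (a : Γ(X, U)) (c : Γ(X, V)),
      Polynomial.eval₂ (ρU.comp fU) (ρU t) p * (ρV v) ^ n = ρU a - ρV c := by
    intro p n
    induction p using Polynomial.induction_on' with
    | add p q hp hq =>
      obtain ⟨a₁, c₁, h₁⟩ := hp
      obtain ⟨a₂, c₂, h₂⟩ := hq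
      refine ⟨a₁ + a₂, c₁ + c₂, ?_⟩
      rw [Polynomial.eval₂_add, add_mul, h₁, h₂, map_add, map_add]
      ring
    | monomial k α =>
      rw [Polynomial.eval₂_monomial, RingHom.comp_apply]
      by_cases hkn : n ≤ k
      · obtain ⟨d, rfl⟩ := Nat.exists_eq_add_of_le hkn
        refine ⟨fU α * t ^ d, 0, ?_⟩
        rw [map_zero, sub_zero, map_mul, map_pow]
        calc ρU (fU α) * (ρU t) ^ (n + d) * (ρV v) ^ n
            = ρU (fU α) * (ρU t) ^ d * (ρU t * ρV v) ^ n := by ring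
          _ = ρU (fU α) * (ρU t) ^ d := by rw [htv, one_pow, mul_one]
      · obtain ⟨d, rfl⟩ := Nat.exists_eq_add_of_le (Nat.le_of_lt (Nat.lt_of_not_le hkn))
        refine ⟨0, -(fV α * v ^ d), ?_⟩
        rw [map_zero, zero_sub, map_neg, neg_neg, map_mul, map_pow, hf]
        calc ρV (fV α) * (ρU t) ^ k * (ρV v) ^ (k + d)
            = ρV (fV α) * (ρV v) ^ d * (ρU t * ρV v) ^ k := by ring
          _ = ρV (fV α) * (ρV v) ^ d := by rw [htv, one_pow, mul_one]
  obtain ⟨a, c, hac⟩ := key p n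
  refine ⟨a, c, ?_⟩
  rw [← hac, ← Polynomial.hom_eval₂, ← hrm']
  calc s = s * (ρU t * ρV v) ^ n := by rw [htv, one_pow, mul_one]
    _ = s * ρU t ^ n * ρV v ^ n := by ring

end Groth.Agent.Lib.Helper9.BlowPt
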