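import Mathlib
import Groth.Agent.Lib.Helper9.BlowPt6

set_option backward.isDefEq.respectTransparency false
set_option maxHeartbeats 800000
set_option autoImplicit false
set_option linter.unusedSectionVars false
set_option linter.unusedVariables false
universe u
open CategoryTheory CategoryTheory.Limits AlgebraicGeometry Opposite TopologicalSpace

namespace Groth.Agent.Lib.Helper9.BlowPt

open Groth.Agent.Lib.Helper29.EffCart Groth.Agent.Lib.Helper29.AffBlow
open Groth.Agent.Lib.Helper9.BlowExist Groth.Agent.Lib.Helper9.BlowProper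

variable {A : Type u} [CommRing A] {I : Ideal A} {X : Scheme.{u}}
  {b : X ⟶ Spec (CommRingCat.of A)}

lemma transport_sub {U V W W' : X.Opens} (e : W = W') (hWU : W ≤ U) (hWV : W ≤ V)
    (h : ∀ s : Γ(X, W'), ∃ (a : Γ(X, U)) (c : Γ(X, V)),
      s = rs (e ▸ hWU : W' ≤ U) a - rs (e ▸ hWV : W' ≤ V) c) :
    ∀ s : Γ(X, W), ∃ (a : Γ(X, U)) (c : Γ(X, V)), s = rs hWU a - rs hWV c := by
  subst e
  exact h

/-- Every function on the intersection of the two charts is a difference of functions on the
charts. -/
theorem exists_sub (hb : BlowUp.IsBlowUp b (idealSheaf I)) (x y : A)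
    (hI : Ideal.span {x, y} = I) (s : Γ(X, genLocus I x b ⊓ genLocus I y b)) :
    ∃ (a : Γ(X, genLocus I x b)) (c : Γ(X, genLocus I y b)),
      s = rs inf_le_left a - rs inf_le_right c := by
  have hx : x ∈ I := hI ▸ Ideal.subset_span (by simp)
  have hy : y ∈ I := hI ▸ Ideal.subset_span (by simp)
  have hI' : Ideal.span {y, x} = I := by rw [Set.pair_comm]; exact hI
  obtain ⟨t, ht, hpoly⟩ := exists_t hb x y hI
  obtain ⟨v, hv, -⟩ := exists_t hb y x hI'
  have hW := inf_eq_basicOpen hb x y hx hy t ht
  have hU : IsAffineOpen (genLocus I x b) := isAffineOpen_genLocus hb x hx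
  have hV : X.basicOpen t ≤ genLocus I y b := hW ▸ inf_le_right
  refine transport_sub hW inf_le_left inf_le_right ?_ s
  intro s
  refine exists_sub_of_basicOpen (genLocus I x b) (genLocus I y b) hU t hV
    (secMap b (genLocus I x b)) (secMap b (genLocus I y b)) ?_ hpoly v ?_ s
  · intro r
    exact (secMap_res b (X.basicOpen_le t) r).trans (secMap_res b hV r).symm
  · have hG := (gen_genLocus hb x hx).res hU (hU.basicOpen t) (X.basicOpen_le t)
    set g := secMap b (X.basicOpen t) with hg
    have h1 : g y = rs (X.basicOpen_le t) t * g x := by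
      have := congrArg (rs (X.basicOpen_le t)) ht
      rw [map_mul] at this
      rw [hg, ← secMap_res b (X.basicOpen_le t) y, ← secMap_res b (X.basicOpen_le t) x]
      exact this
    have h2 : g x = rs hV v * g y := by
      have := congrArg (rs hV) hv
      rw [map_mul] at this
      rw [hg, ← secMap_res b hV y, ← secMap_res b hV x]
      exact this
    have h3 : (rs hV v * rs (X.basicOpen_le t) t - 1) * g x = 0 := by
      rw [sub_mul, one_mul, mul_assoc, ← h1, ← h2, sub_self]
    exact sub_eq_zero.1 ((mem_nonZeroDivisors_iff_right.1 hG.1) _ h3)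

/-- `H¹(X, O_X) = 0` for the blow-up of `Spec A` in an ideal generated by two elements. -/
theorem subsingleton_HH_one_structure (hb : BlowUp.IsBlowUp b (idealSheaf I)) (x y : A)
    (hI : Ideal.span {x, y} = I) : Subsingleton (Coh.HH X (Coh.structureModule X) 1) := by
  have hx : x ∈ I := hI ▸ Ideal.subset_span (by simp)
  have hy : y ∈ I := hI ▸ Ideal.subset_span (by simp)
  have hU : IsAffineOpen (genLocus I x b) := isAffineOpen_genLocus hb x hx
  have hV : IsAffineOpen (genLocus I y b) := isAffineOpen_genLocus hb y hy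
  have hcov : genLocus I x b ⊔ genLocus I y b = ⊤ := by
    have h := genLocus_cover_of_span b hb.1 ({x, y} : Set A) hI
    rw [eq_top_iff] at h ⊢
    intro p hp
    obtain ⟨⟨a, ha⟩, hpa⟩ := Opens.mem_iSup.1 (h hp)
    rcases ha with rfl | rfl
    · exact Or.inl hpa
    · exact Or.inr hpa
  have h := subsingleton_HU_one_sup (X := X.toTopCat) (Coh.toAb (Coh.structureModule X))
    (genLocus I x b) (genLocus I y b)
    (Groth.Agent.Lib.Helper17.AffineVanish.subsingleton_HU_of_isAffineOpen
      (Coh.structureModule X) hU 0)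
    (Groth.Agent.Lib.Helper17.AffineVanish.subsingleton_HU_of_isAffineOpen
      (Coh.structureModule X) hV 0)
    (fun s => exists_sub hb x y hI s)
  rw [hcov] at h
  exact (Groth.Agent.Lib.Helper17.HCompare.topHEquiv (X := X.toTopCat)
    (Coh.toAb (Coh.structureModule X)) 1).toEquiv.subsingleton

end Groth.Agent.Lib.Helper9.BlowPt
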