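import Mathlib
import Groth.Agent.Lib.Helper9.BlowReg6

set_option backward.isDefEq.respectTransparency false
set_option maxHeartbeats 800000
set_option autoImplicit false
set_option linter.unusedSectionVars false
set_option linter.unusedVariables false
universe u
open CategoryTheory CategoryTheory.Limits AlgebraicGeometry Opposite TopologicalSpace

namespace Groth.Agent.Lib.Helper9.BlowReg

open Groth.Agent.Lib.Helper29.EffCart Groth.Agent.Lib.Helper29.AffBlow
open Groth.Agent.Lib.Helper9.BlowExist Groth.Agent.Lib.Helper9.BlowProper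
open Groth.Agent.Lib.Helper9.BlowPt IsLocalRing

variable {A : Type u} [CommRing A] {X : Scheme.{u}} {b : X ⟶ Spec (CommRingCat.of A)}

/-- the sections over the chart of `x` form a regular domain -/
theorem chart_regular [IsRegularLocalRing A] (hA : ringKrullDim A = 2)
    (hb : BlowUp.IsBlowUp b (idealSheaf (maximalIdeal A))) (x y : A)
    (hI : Ideal.span {x, y} = maximalIdeal A) :
    IsRegularRing Γ(X, genLocus (maximalIdeal A) x b) ∧
      IsDomain Γ(X, genLocus (maximalIdeal A) x b) ∧
      (y ≠ 0 → secMap b (genLocus (maximalIdeal A) x b) y ≠ 0) := by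
  have hx : x ∈ maximalIdeal A := hI ▸ Ideal.subset_span (by simp)
  obtain ⟨hxn, hyn⟩ := regular_seq_of_gens hA hI
  obtain ⟨φ, hφ⟩ := exists_ringEquiv hb x hx
  haveI := isRegularRing_affineAlgebra hI hxn hyn
  haveI : IsDomain A := Groth.Agent.Lib.helper19.isDomain_of_isRegularLocalRing A
  haveI : IsDomain (Localization.Away x) :=
    IsLocalization.isDomain_localization (Submonoid.powers_le.2 hxn)
  have hinj : Function.Injective (algebraMap A (Localization.Away x)) :=
    IsLocalization.injective (Localization.Away x) (M := Submonoid.powers x)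
      (Submonoid.powers_le.2 hxn)
  refine ⟨IsRegularRing.of_ringEquiv φ, φ.symm.toMulEquiv.isDomain _, fun hy0 h => ?_⟩
  rw [← hφ] at h
  have h1 : algebraMap A (BlowUp.affineAlgebra A (maximalIdeal A) x) y = 0 :=
    φ.injective (h.trans (map_zero φ).symm)
  have h2 : algebraMap A (Localization.Away x) y = 0 := congrArg Subtype.val h1
  exact hy0 (hinj (h2.trans (map_zero _).symm))

/-- **The blow-up of a two-dimensional regular local ring in its closed point is irreducible and
regular.** -/
theorem blowup_point_regular [IsRegularLocalRing A] (hA : ringKrullDim A = 2)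
    (hb : BlowUp.IsBlowUp b (idealSheaf (maximalIdeal A))) (x y : A)
    (hI : Ideal.span {x, y} = maximalIdeal A) :
    IrreducibleSpace X ∧ ∀ p : X, IsRegularLocalRing (X.presheaf.stalk p) := by
  have hx : x ∈ maximalIdeal A := hI ▸ Ideal.subset_span (by simp)
  have hy : y ∈ maximalIdeal A := hI ▸ Ideal.subset_span (by simp)
  have hI' : Ideal.span {y, x} = maximalIdeal A := by rw [Set.pair_comm]; exact hI
  haveI : IsDomain A := Groth.Agent.Lib.helper19.isDomain_of_isRegularLocalRing A
  obtain ⟨hregx, hdomx, hnex⟩ := chart_regular hA hb x y hI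
  obtain ⟨hregy, hdomy, -⟩ := chart_regular hA hb y x hI'
  have hy0 : y ≠ 0 := by
    have := (regular_seq_of_gens hA hI').1
    intro h
    rw [h] at this
    exact zero_notMem_nonZeroDivisors this
  have hU : IsAffineOpen (genLocus (maximalIdeal A) x b) := isAffineOpen_genLocus hb x hx
  have hV : IsAffineOpen (genLocus (maximalIdeal A) y b) := isAffineOpen_genLocus hb y hy
  have hcov : ∀ p : X, p ∈ genLocus (maximalIdeal A) x b ∨ p ∈ genLocus (maximalIdeal A) y b := by
    intro p
    have h := genLocus_cover_of_span b hb.1 ({x, y} : Set A) hI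
    rw [eq_top_iff] at h
    obtain ⟨⟨a, ha⟩, hpa⟩ := Opens.mem_iSup.1 (h (show p ∈ (⊤ : X.Opens) from trivial))
    rcases ha with rfl | rfl
    · exact Or.inl hpa
    · exact Or.inr hpa
  refine ⟨?_, fun p => ?_⟩
  · obtain ⟨t, ht, -⟩ := exists_t hb x y hI
    have hW := inf_eq_basicOpen hb x y hx hy t ht
    have ht0 : t ≠ 0 := by
      intro h
      rw [h, zero_mul] at ht
      exact hnex hy0 ht
    refine irreducibleSpace_of_cover (genLocus (maximalIdeal A) x b : Set X)
      (genLocus (maximalIdeal A) y b : Set X) (genLocus (maximalIdeal A) x b).2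
      (genLocus (maximalIdeal A) y b).2
      (isIrreducible_of_isAffineOpen_of_isDomain hU)
      (isIrreducible_of_isAffineOpen_of_isDomain hV) ?_ ?_
    · -- the generic point of the chart lies in `D(t)`
      let η : PrimeSpectrum Γ(X, genLocus (maximalIdeal A) x b) := ⟨⊥, Ideal.isPrime_bot⟩
      have hη : η ∈ PrimeSpectrum.basicOpen t := by
        change t ∉ (⊥ : Ideal _)
        rwa [Ideal.mem_bot]
      rw [← hU.fromSpec_preimage_basicOpen] at hη
      have : hU.fromSpec η ∈ genLocus (maximalIdeal A) x b ⊓ genLocus (maximalIdeal A) y b := by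
        rw [hW]; exact hη
      exact ⟨_, this.1, this.2⟩
    · ext p
      simp only [Set.mem_union, SetLike.mem_coe, Set.mem_univ, iff_true]
      exact hcov p
  · rcases hcov p with hp | hp
    · exact isRegularLocalRing_stalk_of_isRegularRing hU p hp
    · exact isRegularLocalRing_stalk_of_isRegularRing hV p hp

end Groth.Agent.Lib.Helper9.BlowReg
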