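import Mathlib

set_option linter.style.haveILetI false
set_option linter.unusedSectionVars false
set_option autoImplicit false

namespace Groth.Agent.Lib.Helper9.BlowSep

variable {A A' B C : Type*} [CommRing A] [CommRing A'] [CommRing B] [CommRing C]

/-- the colon ideal `(J : t)`. -/
def colonElt (J : Ideal A') (t : A') : Ideal A' :=
  Submodule.comap (LinearMap.mulLeft A' t) J

lemma mem_colonElt {J : Ideal A'} {t k : A'} : k ∈ colonElt J t ↔ t * k ∈ J := Iff.rfl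

lemma le_span_mul_colonElt {J : Ideal A'} {t : A'} (h : J ≤ Ideal.span {t}) :
    J ≤ Ideal.span {t} * colonElt J t := by
  intro x hx
  obtain ⟨k, rfl⟩ := Ideal.mem_span_singleton'.1 (h hx)
  rw [mul_comm k t]
  exact Ideal.mul_mem_mul (Ideal.mem_span_singleton_self t) (by rwa [mem_colonElt, mul_comm t k])

lemma map_colon_le (α' : A' →+* C) (J : Ideal A') (t : A') (𝔪 : Ideal C)
    (hA : ∀ k, t * k ∈ J → α' k ∈ 𝔪) : (colonElt J t).map α' ≤ 𝔪 := by
  rw [Ideal.map_le_iff_le_comap]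
  intro k hk
  exact hA k hk

lemma map_span_mul_colon (α' : A' →+* C) (J : Ideal A') (t : A') :
    (Ideal.span {t} * colonElt J t).map α' = Ideal.span {α' t} * (colonElt J t).map α' := by
  rw [Ideal.map_mul, Ideal.map_span, Set.image_singleton]

theorem core_alg (α : A →+* B) (γ : A →+* A') (β : B →+* C) (α' : A' →+* C)
    (hc : β.comp α = α'.comp γ) (𝔞 IF : Ideal A) (IG : Ideal B) (t : A')
    (ht : 𝔞.map γ = Ideal.span {t}) (h₂ : IF ≤ 𝔞) (h₃ : 𝔞.map α ≤ IF.map α ⊔ IG)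
    (𝔪 : Ideal C) (hA : ∀ k, t * k ∈ IF.map γ → α' k ∈ 𝔪)
    (hB : ∀ c, α' t * c ∈ IG.map β → c ∈ 𝔪) : (1 : C) ∈ 𝔪 := by
  have hF : IF.map γ ≤ Ideal.span {t} := ht ▸ Ideal.map_mono h₂
  have h1 : α' t ∈ (𝔞.map α).map β := by
    rw [Ideal.map_map, hc, ← Ideal.map_map, ht]
    exact Ideal.mem_map_of_mem _ (Ideal.mem_span_singleton_self t)
  have h2 : (𝔞.map α).map β ≤
      Ideal.span {α' t} * (colonElt (IF.map γ) t).map α' ⊔ IG.map β := by
    refine (Ideal.map_mono h₃).trans ?_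
    rw [Ideal.map_sup]
    refine sup_le_sup_right ?_ _
    rw [Ideal.map_map, hc, ← Ideal.map_map, ← map_span_mul_colon]
    exact Ideal.map_mono (le_span_mul_colonElt hF)
  obtain ⟨y, hy, g, hg, hyg⟩ := Submodule.mem_sup.1 (h2 h1)
  obtain ⟨κ, hκ, rfl⟩ := Ideal.mem_span_singleton_mul.1 hy
  have hκ' : κ ∈ 𝔪 := map_colon_le α' _ t 𝔪 hA hκ
  have h3 : (1 - κ) ∈ 𝔪 := by
    apply hB
    have : α' t * (1 - κ) = g := by linear_combination -hyg
    rw [this]; exact hg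
  have : (1 : C) = (1 - κ) + κ := by ring
  rw [this]
  exact 𝔪.add_mem h3 hκ'

theorem core_alg2 (α : A →+* B) (γ : A →+* A') (β : B →+* C) (α' : A' →+* C)
    (hc : β.comp α = α'.comp γ) (I₁ I₂ : Ideal A) (Kf : Ideal B) (t : A')
    (ht : (I₁ ⊔ I₂).map γ = Ideal.span {t}) (hincl : I₂.map α ≤ (I₁ * I₁).map α ⊔ Kf)
    (𝔪 : Ideal C) (hA : ∀ k, t * k ∈ I₁.map γ → α' k ∈ 𝔪)
    (hB : ∀ c, α' t * c ∈ Kf.map β → c ∈ 𝔪) : (1 : C) ∈ 𝔪 := by
  have hF1 : I₁.map γ ≤ Ideal.span {t} := ht ▸ Ideal.map_mono le_sup_left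
  have hF2 : I₂.map γ ≤ Ideal.span {t} := ht ▸ Ideal.map_mono le_sup_right
  set K₁ := colonElt (I₁.map γ) t with hK₁
  set K₂ := colonElt (I₂.map γ) t with hK₂
  -- t = t k₁ + t k₂
  have h0 : t ∈ I₁.map γ ⊔ I₂.map γ := by
    rw [← Ideal.map_sup, ht]; exact Ideal.mem_span_singleton_self t
  obtain ⟨y₁, hy₁, y₂, hy₂, hy⟩ := Submodule.mem_sup.1 h0
  obtain ⟨k₁, hk₁, rfl⟩ := Ideal.mem_span_singleton_mul.1 (le_span_mul_colonElt hF1 hy₁)
  obtain ⟨k₂, hk₂, rfl⟩ := Ideal.mem_span_singleton_mul.1 (le_span_mul_colonElt hF2 hy₂)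
  have hk₁' : α' k₁ ∈ 𝔪 := hA k₁ hk₁
  -- 1 - k₁ - k₂ is killed by t
  have h3 : (1 - α' k₁ - α' k₂) ∈ 𝔪 := by
    apply hB
    have : α' t * (1 - α' k₁ - α' k₂) = 0 := by
      have := congrArg α' hy
      rw [map_add, map_mul, map_mul] at this
      linear_combination -this
    rw [this]; exact zero_mem _
  -- α'(t k₂) ∈ (I₂.map α).map β
  have h4 : α' (t * k₂) ∈ (I₂.map α).map β := by
    rw [Ideal.map_map, hc, ← Ideal.map_map]
    exact Ideal.mem_map_of_mem _ hk₂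
  have h5 : (I₂.map α).map β ≤
      Ideal.span {α' t * α' t} * (K₁ * K₁).map α' ⊔ Kf.map β := by
    refine (Ideal.map_mono hincl).trans ?_
    rw [Ideal.map_sup]
    refine sup_le_sup_right ?_ _
    rw [Ideal.map_map, hc, ← Ideal.map_map]
    have : (I₁ * I₁).map γ ≤ Ideal.span {t * t} * (K₁ * K₁) := by
      rw [Ideal.map_mul, ← Ideal.span_singleton_mul_span_singleton]
      calc I₁.map γ * I₁.map γ ≤ (Ideal.span {t} * K₁) * (Ideal.span {t} * K₁) :=
            Ideal.mul_mono (le_span_mul_colonElt hF1) (le_span_mul_colonElt hF1)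
        _ = _ := by ring
    refine (Ideal.map_mono this).trans ?_
    rw [Ideal.map_mul, Ideal.map_span, Set.image_singleton, map_mul]
  obtain ⟨y, hy', n, hn, hyn⟩ := Submodule.mem_sup.1 (h5 h4)
  obtain ⟨m, hm, rfl⟩ := Ideal.mem_span_singleton_mul.1 hy'
  have hm' : m ∈ 𝔪 := by
    have : (K₁ * K₁).map α' ≤ 𝔪 := by
      rw [Ideal.map_mul]
      exact Ideal.mul_le_right.trans (map_colon_le α' _ t 𝔪 hA)
    exact this hm
  have h6 : (α' k₂ - α' t * m) ∈ 𝔪 := by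
    apply hB
    have : α' t * (α' k₂ - α' t * m) = n := by
      rw [map_mul] at hyn
      linear_combination -hyn
    rw [this]; exact hn
  have hk₂' : α' k₂ ∈ 𝔪 := by
    have : α' k₂ = (α' k₂ - α' t * m) + α' t * m := by ring
    rw [this]
    exact 𝔪.add_mem h6 (𝔪.mul_mem_left _ hm')
  have : (1 : C) = (1 - α' k₁ - α' k₂) + α' k₁ + α' k₂ := by ring
  rw [this]
  exact 𝔪.add_mem (𝔪.add_mem h3 hk₁') hk₂'

end Groth.Agent.Lib.Helper9.BlowSep
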