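import Mathlib
import Groth.Prelude.Def_BlowUp2
import Groth.Agent.Lib.Helper29.IdealComap
import Groth.Agent.Lib.Helper9.BlowSep1
import Groth.Agent.Lib.Helper9.BlowSep2

set_option linter.style.haveILetI false
set_option linter.unusedSectionVars false
set_option autoImplicit false

universe u
open CategoryTheory CategoryTheory.Limits AlgebraicGeometry TopologicalSpace

namespace Groth.Agent.Lib.Helper9.BlowSep

open Groth.Agent.Lib.Helper29.EffCart

variable {X Z X' : Scheme.{u}}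

/-- affine open neighbourhood inside an open. -/
lemma exists_affineOpen_mem_le {Y : Scheme.{u}} (y : Y) (O : Y.Opens) (hy : y ∈ O) :
    ∃ V : Y.affineOpens, y ∈ V.1 ∧ V.1 ≤ O := by
  obtain ⟨_, ⟨V, hV, rfl⟩, hyV, hVO⟩ :=
    Y.isBasis_affineOpens.exists_subset_of_mem_open hy O.2
  exact ⟨⟨V, hV⟩, hyV, hVO⟩

/-- Charts around a point of `Z ×_X X'` on which the pulled-back ideal is principal. -/
theorem exists_chart (p : Z ⟶ X) (π : X' ⟶ X) (𝔟 : X.IdealSheafData)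
    (hE : BlowUp.IsEffCartierIdeal (𝔟.comap π)) (z' : ↥(pullback p π)) :
    ∃ (U : X.affineOpens) (U' : X'.affineOpens) (W : Z.affineOpens)
      (hU' : U'.1 ≤ π ⁻¹ᵁ U.1) (_ : W.1 ≤ p ⁻¹ᵁ U.1) (t : Γ(X', U'.1)),
      pullback.fst p π z' ∈ W.1 ∧ pullback.snd p π z' ∈ U'.1 ∧
      (𝔟.ideal U).map (π.appLE U.1 U'.1 hU').hom = Ideal.span {t} := by
  set x' := pullback.snd p π z' with hx'
  set z := pullback.fst p π z' with hz
  have hxz : p z = π x' := by
    rw [hx', hz, ← Scheme.Hom.comp_apply, ← Scheme.Hom.comp_apply, pullback.condition]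
  obtain ⟨U, hxU, -⟩ := exists_affineOpen_mem_le (π x') ⊤ trivial
  obtain ⟨U'₀, hx'U'₀, t₀, -, ht₀⟩ := hE x'
  obtain ⟨U', hx'U', hU'le⟩ := exists_affineOpen_mem_le x' (U'₀.1 ⊓ π ⁻¹ᵁ U.1) ⟨hx'U'₀, hxU⟩
  obtain ⟨W, hzW, hWle⟩ := exists_affineOpen_mem_le z (p ⁻¹ᵁ U.1) (by
    change p z ∈ U.1; rw [hxz]; exact hxU)
  have h1 : U' ≤ U'₀ := hU'le.trans inf_le_left
  refine ⟨U, U', W, hU'le.trans inf_le_right, hWle,
    (X'.presheaf.map (homOfLE h1).op).hom t₀, hzW, hx'U', ?_⟩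
  rw [← ideal_comap_eq_map, ← (𝔟.comap π).map_ideal h1, ht₀, Ideal.map_span, Set.image_singleton]

/-- the chart open of `Z ×_X X'`. -/
noncomputable def chartOpen (p : Z ⟶ X) (π : X' ⟶ X) (U' : X'.Opens) (W : Z.Opens) :
    (pullback p π).Opens :=
  pullback.fst p π ⁻¹ᵁ W ⊓ pullback.snd p π ⁻¹ᵁ U'

lemma chart_compat (p : Z ⟶ X) (π : X' ⟶ X) (U : X.Opens) (U' : X'.Opens) (W : Z.Opens)
    (hU' : U' ≤ π ⁻¹ᵁ U) (hW : W ≤ p ⁻¹ᵁ U) :
    ((pullback.fst p π).appLE W (chartOpen p π U' W) inf_le_left).hom.comp (p.appLE U W hW).hom =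
    ((pullback.snd p π).appLE U' (chartOpen p π U' W) inf_le_right).hom.comp
      (π.appLE U U' hU').hom := by
  rw [← CommRingCat.hom_comp, ← CommRingCat.hom_comp, Scheme.Hom.appLE_comp_appLE,
    Scheme.Hom.appLE_comp_appLE, appLE_congr_hom pullback.condition]

/-- If `π x ∉ supp 𝔟` and `𝔟 Γ(U') = (t)`, then `t` does not vanish at `x`. -/
lemma gen_notMem_vanishAt (π : X' ⟶ X) (𝔟 : X.IdealSheafData) (U : X.affineOpens)
    (U' : X'.Opens) (hU' : U' ≤ π ⁻¹ᵁ U.1) (t : Γ(X', U'))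
    (ht : (𝔟.ideal U).map (π.appLE U.1 U' hU').hom = Ideal.span {t})
    (x : X') (hx : x ∈ U') (hπx : π x ∉ 𝔟.support) : t ∉ vanishAt U' x := by
  intro h
  refine not_le_vanishAt_of_notMem_support 𝔟 U (π x) hπx (hU' hx) ?_
  intro a ha
  rw [← appLE_mem_vanishAt_iff π U' U.1 hU' a x hx]
  have : (π.appLE U.1 U' hU').hom a ∈ Ideal.span {t} := ht ▸ Ideal.mem_map_of_mem _ ha
  obtain ⟨c, hc⟩ := Ideal.mem_span_singleton'.1 this
  rw [← hc]
  exact Ideal.mul_mem_left _ _ h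

end Groth.Agent.Lib.Helper9.BlowSep

namespace Groth.Agent.Lib.Helper9.BlowSep

open Groth.Agent.Lib.Helper29.EffCart

variable {X Z X' : Scheme.{u}}

lemma mem_vanishAt_of_mul_mem {V : X.Opens} {y : X} {a b : Γ(X, V)}
    (h : a * b ∈ vanishAt V y) (ha : a ∉ vanishAt V y) : b ∈ vanishAt V y := by
  rw [mem_vanishAt] at h ha ⊢
  rw [Scheme.basicOpen_mul] at h
  exact fun hb => h ⟨not_not.1 ha, hb⟩

lemma mem_vanishAt_of_notMem {V : X.Opens} {y : X} (hy : y ∉ V) (a : Γ(X, V)) :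
    a ∈ vanishAt V y := fun h => hy (X.basicOpen_le a h)

theorem main17889 (p : Z ⟶ X)
    (X₀ : X.Opens) (F : Closeds X) (G : Closeds Z)
    (𝔞 : X.IdealSheafData) (h₁ : Disjoint (𝔞.support : Set X) (X₀ : Set X))
    (h₂ : Scheme.IdealSheafData.vanishingIdeal F ≤ 𝔞)
    (h₃ : 𝔞 ≤ (((Scheme.IdealSheafData.vanishingIdeal F).comap p ⊔
      Scheme.IdealSheafData.vanishingIdeal G).subschemeι ≫ p).ker)
    (π : X' ⟶ X) (hE : BlowUp.IsEffCartierIdeal (𝔞.comap π)) :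
    (Limits.pullback.snd p π).base ⁻¹' closure (π.base ⁻¹' ((F : Set X) ∩ (X₀ : Set X))) ∩
      closure ((Limits.pullback.fst p π).base ⁻¹' ((G : Set Z) ∩ (p ⁻¹ᵁ X₀ : Set Z))) = ∅ := by
  rw [Set.eq_empty_iff_forall_notMem]
  rintro z' ⟨hz1, hz2⟩
  obtain ⟨U, U', W, hU', hW, t, hzW, hzU', ht⟩ := exists_chart p π 𝔞 hE z'
  have hzT : z' ∈ chartOpen p π U'.1 W.1 := ⟨hzW, hzU'⟩
  have hsupp : ∀ x : X, x ∈ X₀ → x ∉ 𝔞.support := fun x hx hx' =>
    Set.disjoint_left.1 h₁ hx' hx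
  have h₃' : (𝔞.ideal U).map (p.appLE U.1 W.1 hW).hom ≤
      ((Scheme.IdealSheafData.vanishingIdeal F).ideal U).map (p.appLE U.1 W.1 hW).hom ⊔
        (Scheme.IdealSheafData.vanishingIdeal G).ideal W := by
    have h := (Scheme.IdealSheafData.le_map_iff_comap_le
      (I := (Scheme.IdealSheafData.vanishingIdeal F).comap p ⊔
        Scheme.IdealSheafData.vanishingIdeal G) (f := p) (J := 𝔞)).1 h₃ W
    rw [Scheme.IdealSheafData.ideal_sup, Pi.sup_apply, ideal_comap_eq_map _ p U W hW,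
      ideal_comap_eq_map _ p U W hW] at h
    exact h
  refine one_notMem_vanishAt hzT (core_alg _ _ _ _ (chart_compat p π U.1 U'.1 W.1 hU' hW)
    (𝔞.ideal U) ((Scheme.IdealSheafData.vanishingIdeal F).ideal U)
    ((Scheme.IdealSheafData.vanishingIdeal G).ideal W) t ht (h₂ U) h₃'
    (vanishAt (chartOpen p π U'.1 W.1) z') ?_ ?_)
  · intro k hk
    apply appLE_mem_vanishAt
    refine mem_vanishAt_of_mem_closure hz1 k ?_
    intro y hy
    by_cases hyU : y ∈ U'.1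
    · have h1 : t * k ∈ vanishAt U'.1 y :=
        map_le_vanishAt π U'.1 U.1 hU' _ y
          (vanishingIdeal_le_vanishAt F U (π y) hy.1 (hU' hyU)) hk
      exact mem_vanishAt_of_mul_mem h1
        (gen_notMem_vanishAt π 𝔞 U U'.1 hU' t ht y hyU (hsupp _ hy.2))
    · exact mem_vanishAt_of_notMem hyU k
  · intro c hc
    refine mem_vanishAt_of_mem_closure hz2 c ?_
    intro y hy
    by_cases hyT : y ∈ chartOpen p π U'.1 W.1
    · have h1 := map_le_vanishAt (pullback.fst p π) (chartOpen p π U'.1 W.1) W.1 inf_le_left _ y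
          (vanishingIdeal_le_vanishAt G W (pullback.fst p π y) hy.1 hyT.1) hc
      refine mem_vanishAt_of_mul_mem h1 ?_
      rw [appLE_mem_vanishAt_iff _ _ _ _ _ _ hyT]
      refine gen_notMem_vanishAt π 𝔞 U U'.1 hU' t ht _ hyT.2 (hsupp _ ?_)
      have : π (pullback.snd p π y) = p (pullback.fst p π y) := by
        rw [← Scheme.Hom.comp_apply, ← Scheme.Hom.comp_apply, pullback.condition]
      rw [this]
      exact hy.2
    · exact mem_vanishAt_of_notMem hyT c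

end Groth.Agent.Lib.Helper9.BlowSep
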