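import Mathlib
import Groth.Prelude.Def_BlowUp2
import Groth.Agent.Lib.Helper29.IdealComap
import Groth.Agent.Lib.Helper9.BlowSep3

set_option linter.style.haveILetI false
set_option linter.unusedSectionVars false
set_option autoImplicit false

universe u
open CategoryTheory CategoryTheory.Limits AlgebraicGeometry TopologicalSpace

namespace Groth.Agent.Lib.Helper9.BlowSep

open Groth.Agent.Lib.Helper29.EffCart

variable {X Y Z X' : Scheme.{u}}

lemma ideal_le_vanishAt_of_mem_support (I : X.IdealSheafData) (U : X.affineOpens) (x : X)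
    (hx : x ∈ I.support) (hxU : x ∈ U.1) : I.ideal U ≤ vanishAt U.1 x := by
  rw [Scheme.IdealSheafData.mem_support_iff_of_mem hxU, Scheme.mem_zeroLocus_iff] at hx
  intro s hs
  exact hx s hs

theorem main17391 (p : Z ⟶ X) (U V : X.Opens)
    (f : Y ⟶ Z) (hY : Set.range (fun y => p (f y)) ⊆ (U : Set X))
    (𝓘₁ 𝓘₂ : X.IdealSheafData)
    (h₁ : (V : Set X) \ (U : Set X) ⊆ (𝓘₁.support : Set X))
    (h₁' : Disjoint (𝓘₁.support : Set X) (U : Set X))
    (h₂ : (𝓘₂.support : Set X) ⊆ (𝓘₁.support : Set X) \ (V : Set X))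
    (hincl : 𝓘₂.comap p ≤ (𝓘₁ * 𝓘₁).comap p ⊔ f.ker)
    (q : X' ⟶ X) (hE : BlowUp.IsEffCartierIdeal ((𝓘₁ ⊔ 𝓘₂).comap q)) :
    Disjoint (closure (Set.range (fun y => (pullback.snd f (pullback.fst p q)) y)))
      ((fun z => (pullback.snd p q) z) ⁻¹'
        closure ((fun x' => q x') ⁻¹' ((V : Set X) \ (U : Set X)))) := by
  rw [Set.disjoint_left]
  rintro z' hz2 hz1
  obtain ⟨O, O', W, hO', hW, t, hzW, hzO', ht⟩ := exists_chart p q (𝓘₁ ⊔ 𝓘₂) hE z'
  have hzT : z' ∈ chartOpen p q O'.1 W.1 := ⟨hzW, hzO'⟩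
  have hgen : ∀ w : ↥(pullback p q), q (pullback.snd p q w) = p (pullback.fst p q w) := by
    intro w
    rw [← Scheme.Hom.comp_apply, ← Scheme.Hom.comp_apply, pullback.condition]
  have hsupp : ∀ x : X, x ∉ 𝓘₁.support ∨ x ∈ V → x ∉ (𝓘₁ ⊔ 𝓘₂).support := by
    intro x hx hx'
    rw [Scheme.IdealSheafData.support_sup] at hx'
    rcases hx with hx | hx
    · exact hx hx'.1
    · exact (h₂ hx'.2).2 hx
  have hincl' : (𝓘₂.ideal O).map (p.appLE O.1 W.1 hW).hom ≤
      (𝓘₁.ideal O * 𝓘₁.ideal O).map (p.appLE O.1 W.1 hW).hom ⊔ f.ker.ideal W := by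
    have h := hincl W
    rw [Scheme.IdealSheafData.ideal_sup, Pi.sup_apply, ideal_comap_eq_map _ p O W hW,
      ideal_comap_eq_map _ p O W hW] at h
    exact h
  refine one_notMem_vanishAt hzT (core_alg2 _ _ _ _ (chart_compat p q O.1 O'.1 W.1 hO' hW)
    (𝓘₁.ideal O) (𝓘₂.ideal O) (f.ker.ideal W) t ht hincl'
    (vanishAt (chartOpen p q O'.1 W.1) z') ?_ ?_)
  · intro k hk
    apply appLE_mem_vanishAt
    refine mem_vanishAt_of_mem_closure hz1 k ?_
    intro y hy
    by_cases hyO : y ∈ O'.1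
    · have h1 : t * k ∈ vanishAt O'.1 y :=
        map_le_vanishAt q O'.1 O.1 hO' _ y
          (ideal_le_vanishAt_of_mem_support 𝓘₁ O (q y) (h₁ hy) (hO' hyO)) hk
      exact mem_vanishAt_of_mul_mem h1
        (gen_notMem_vanishAt q (𝓘₁ ⊔ 𝓘₂) O O'.1 hO' t ht y hyO (hsupp _ (Or.inr hy.1)))
    · exact mem_vanishAt_of_notMem hyO k
  · intro c hc
    refine mem_vanishAt_of_mem_closure hz2 c ?_
    rintro y ⟨y', rfl⟩
    set y := (pullback.snd f (pullback.fst p q)) y' with hy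
    have hfy : pullback.fst p q y = f (pullback.fst f (pullback.fst p q) y') := by
      rw [hy, ← Scheme.Hom.comp_apply, ← Scheme.Hom.comp_apply, pullback.condition]
    by_cases hyT : y ∈ chartOpen p q O'.1 W.1
    · have h1 := map_le_vanishAt (pullback.fst p q) (chartOpen p q O'.1 W.1) W.1 inf_le_left _ y
          (ideal_le_vanishAt_of_mem_support f.ker W (pullback.fst p q y)
            (f.range_subset_ker_support (hfy ▸ Set.mem_range_self _)) hyT.1) hc
      refine mem_vanishAt_of_mul_mem h1 ?_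
      rw [appLE_mem_vanishAt_iff _ _ _ _ _ _ hyT]
      refine gen_notMem_vanishAt q (𝓘₁ ⊔ 𝓘₂) O O'.1 hO' t ht _ hyT.2 (hsupp _ (Or.inl ?_))
      rw [hgen y, hfy]
      intro h
      exact Set.disjoint_left.1 h₁' h (hY (Set.mem_range_self _))
    · exact mem_vanishAt_of_notMem hyT c

end Groth.Agent.Lib.Helper9.BlowSep
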