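import Mathlib
import Groth.Prelude.Def_BlowUp2
import Groth.Agent.Lib.Helper29.IdealComap
import Groth.Agent.Lib.Helper9.BlowSep4

set_option linter.style.haveILetI false
set_option linter.unusedSectionVars false
set_option autoImplicit false

universe u
open CategoryTheory CategoryTheory.Limits AlgebraicGeometry TopologicalSpace

namespace Groth.Agent.Lib.Helper9.BlowSep

open Groth.Agent.Lib.Helper29.EffCart

variable {X Z X' Z' : Scheme.{u}}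

/-- Charts around a point of a commutative square over `X` on which the pulled-back ideal is
principal. -/
theorem exists_chart' (p : Z ⟶ X) (π : X' ⟶ X) (fst : Z' ⟶ Z) (snd : Z' ⟶ X')
    (w : fst ≫ p = snd ≫ π) (𝔟 : X.IdealSheafData)
    (hE : BlowUp.IsEffCartierIdeal (𝔟.comap π)) (z' : Z') :
    ∃ (U : X.affineOpens) (U' : X'.affineOpens) (W : Z.affineOpens)
      (hU' : U'.1 ≤ π ⁻¹ᵁ U.1) (_ : W.1 ≤ p ⁻¹ᵁ U.1) (t : Γ(X', U'.1)),
      fst z' ∈ W.1 ∧ snd z' ∈ U'.1 ∧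
      (𝔟.ideal U).map (π.appLE U.1 U'.1 hU').hom = Ideal.span {t} := by
  set x' := snd z' with hx'
  set z := fst z' with hz
  have hxz : p z = π x' := by
    rw [hx', hz, ← Scheme.Hom.comp_apply, ← Scheme.Hom.comp_apply, w]
  obtain ⟨U, hxU, -⟩ := exists_affineOpen_mem_le (π x') ⊤ trivial
  obtain ⟨U'₀, hx'U'₀, t₀, -, ht₀⟩ := hE x'
  obtain ⟨U', hx'U', hU'le⟩ := exists_affineOpen_mem_le x' (U'₀.1 ⊓ π ⁻¹ᵁ U.1) ⟨hx'U'₀, hxU⟩
  obtain ⟨W, hzW, hWle⟩ := exists_affineOpen_mem_le z (p ⁻¹ᵁ U.1) (by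
    change p z ∈ U.1; rw [hxz]; exact hxU)
  have h1 : U' ≤ U'₀ := hU'le.trans inf_le_left
  refine ⟨U, U', W, hU'le.trans inf_le_right, hWle,
    (X'.presheaf.map (homOfLE h1).op).hom t₀, hzW, hx'U', ?_⟩
  rw [← ideal_comap_eq_map, ← (𝔟.comap π).map_ideal h1, ht₀, Ideal.map_span, Set.image_singleton]

lemma chart_compat' (p : Z ⟶ X) (π : X' ⟶ X) (fst : Z' ⟶ Z) (snd : Z' ⟶ X')
    (w : fst ≫ p = snd ≫ π) (U : X.Opens) (U' : X'.Opens) (W : Z.Opens)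
    (hU' : U' ≤ π ⁻¹ᵁ U) (hW : W ≤ p ⁻¹ᵁ U) :
    (fst.appLE W (fst ⁻¹ᵁ W ⊓ snd ⁻¹ᵁ U') inf_le_left).hom.comp (p.appLE U W hW).hom =
    (snd.appLE U' (fst ⁻¹ᵁ W ⊓ snd ⁻¹ᵁ U') inf_le_right).hom.comp
      (π.appLE U U' hU').hom := by
  rw [← CommRingCat.hom_comp, ← CommRingCat.hom_comp, Scheme.Hom.appLE_comp_appLE,
    Scheme.Hom.appLE_comp_appLE, appLE_congr_hom w]

/-- General separation lemma after making `𝔞` invertible, for an arbitrary commutative square. -/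
theorem sep_general (p : Z ⟶ X) (π : X' ⟶ X) (fst : Z' ⟶ Z) (snd : Z' ⟶ X')
    (w : fst ≫ p = snd ≫ π) (S : Set X) (S' : Set Z)
    (𝓕 𝔞 : X.IdealSheafData) (𝓖 : Z.IdealSheafData)
    (hS𝓕 : S ⊆ (𝓕.support : Set X)) (hS𝔞 : ∀ x ∈ S, x ∉ 𝔞.support)
    (hS'𝓖 : S' ⊆ (𝓖.support : Set Z)) (hS'𝔞 : ∀ z ∈ S', p z ∉ 𝔞.support)
    (h₂ : 𝓕 ≤ 𝔞) (h₃ : 𝔞.comap p ≤ 𝓕.comap p ⊔ 𝓖)
    (hE : BlowUp.IsEffCartierIdeal (𝔞.comap π)) (z' : Z')
    (hz1 : snd z' ∈ closure ((fun x => π x) ⁻¹' S))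
    (hz2 : z' ∈ closure ((fun z => fst z) ⁻¹' S')) : False := by
  obtain ⟨U, U', W, hU', hW, t, hzW, hzU', ht⟩ := exists_chart' p π fst snd w 𝔞 hE z'
  set T : Z'.Opens := fst ⁻¹ᵁ W.1 ⊓ snd ⁻¹ᵁ U'.1 with hT
  have hzT : z' ∈ T := ⟨hzW, hzU'⟩
  have hgen : ∀ y : Z', π (snd y) = p (fst y) := by
    intro y
    rw [← Scheme.Hom.comp_apply, ← Scheme.Hom.comp_apply, w]
  have h₃' : (𝔞.ideal U).map (p.appLE U.1 W.1 hW).hom ≤
      (𝓕.ideal U).map (p.appLE U.1 W.1 hW).hom ⊔ 𝓖.ideal W := by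
    have h := h₃ W
    rw [Scheme.IdealSheafData.ideal_sup, Pi.sup_apply, ideal_comap_eq_map _ p U W hW,
      ideal_comap_eq_map _ p U W hW] at h
    exact h
  refine one_notMem_vanishAt hzT (core_alg _ _ _ _ (chart_compat' p π fst snd w U.1 U'.1 W.1 hU' hW)
    (𝔞.ideal U) (𝓕.ideal U) (𝓖.ideal W) t ht (h₂ U) h₃' (vanishAt T z') ?_ ?_)
  · intro k hk
    apply appLE_mem_vanishAt
    refine mem_vanishAt_of_mem_closure hz1 k ?_
    intro y hy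
    by_cases hyU : y ∈ U'.1
    · have h1 : t * k ∈ vanishAt U'.1 y :=
        map_le_vanishAt π U'.1 U.1 hU' _ y
          (ideal_le_vanishAt_of_mem_support 𝓕 U (π y) (hS𝓕 hy) (hU' hyU)) hk
      exact mem_vanishAt_of_mul_mem h1
        (gen_notMem_vanishAt π 𝔞 U U'.1 hU' t ht y hyU (hS𝔞 _ hy))
    · exact mem_vanishAt_of_notMem hyU k
  · intro c hc
    refine mem_vanishAt_of_mem_closure hz2 c ?_
    intro y hy
    by_cases hyT : y ∈ T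
    · have h1 := map_le_vanishAt fst T W.1 inf_le_left _ y
          (ideal_le_vanishAt_of_mem_support 𝓖 W (fst y) (hS'𝓖 hy) hyT.1) hc
      refine mem_vanishAt_of_mul_mem h1 ?_
      rw [appLE_mem_vanishAt_iff _ _ _ _ _ _ hyT]
      refine gen_notMem_vanishAt π 𝔞 U U'.1 hU' t ht _ hyT.2 ?_
      rw [hgen y]
      exact hS'𝔞 _ hy
    · exact mem_vanishAt_of_notMem hyT c

end Groth.Agent.Lib.Helper9.BlowSep
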