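import Mathlib
import Groth.Prelude.Def_BlowUp2
import Groth.Agent.Lib.Helper9.BlowSep5
import Groth.Agent.Lib.Helper29.EffCart4

set_option linter.style.haveILetI false
set_option linter.unusedSectionVars false
set_option autoImplicit false

universe u
open CategoryTheory CategoryTheory.Limits AlgebraicGeometry TopologicalSpace Topology

namespace Groth.Agent.Lib.Helper9.BlowSep

open Groth.Agent.Lib.Helper29.EffCart

variable {X X' : Scheme.{u}}

/-- n-ary separation: after blowing up `⨆ 𝓙 i`, the closures of the preimages of sets `T i`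
(with `T i ⊆ supp 𝓙 i`, disjoint from the centre) have empty common intersection. -/
theorem sep_fintype {ι : Type*} [Finite ι] (𝓙 : ι → X.IdealSheafData) (T : ι → Set X)
    (hT : ∀ i, T i ⊆ ((𝓙 i).support : Set X))
    (hTF : ∀ i, ∀ x ∈ T i, x ∉ (⨆ j, 𝓙 j).support)
    (b : X' ⟶ X) (hE : BlowUp.IsEffCartierIdeal ((⨆ j, 𝓙 j).comap b)) (x' : X')
    (hx' : ∀ i, x' ∈ closure ((fun y => b y) ⁻¹' T i)) : False := by
  obtain ⟨U, hxU, -⟩ := exists_affineOpen_mem_le (b x') ⊤ trivial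
  obtain ⟨U', hx'U', hU', t, ht, hI⟩ :=
    exists_affine_principal_nzd_le _ hE x' (b ⁻¹ᵁ U.1) hxU
  rw [ideal_comap_eq_map _ b U U' hU', Scheme.IdealSheafData.ideal_iSup, iSup_apply,
    Ideal.map_iSup] at hI
  set γ := (b.appLE U.1 U'.1 hU').hom with hγ
  have hgen : Ideal.map γ ((⨆ j, 𝓙 j).ideal U) = Ideal.span {t} := by
    rw [Scheme.IdealSheafData.ideal_iSup, iSup_apply, Ideal.map_iSup]; exact hI
  -- each K_i vanishes at x'
  have hK : ∀ i, colonElt (((𝓙 i).ideal U).map γ) t ≤ vanishAt U'.1 x' := by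
    intro i k hk
    refine mem_vanishAt_of_mem_closure (hx' i) k ?_
    intro y hy
    by_cases hyU : y ∈ U'.1
    · have h1 : t * k ∈ vanishAt U'.1 y :=
        map_le_vanishAt b U'.1 U.1 hU' _ y
          (ideal_le_vanishAt_of_mem_support (𝓙 i) U (b y) (hT i hy) (hU' hyU)) hk
      exact mem_vanishAt_of_mul_mem h1
        (gen_notMem_vanishAt b (⨆ j, 𝓙 j) U U'.1 hU' t hgen y hyU (hTF i _ hy))
    · exact mem_vanishAt_of_notMem hyU k
  have hle : ∀ i, ((𝓙 i).ideal U).map γ ≤ Ideal.span {t} := fun i => by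
    rw [← hI]; exact le_iSup (fun i => ((𝓙 i).ideal U).map γ) i
  have h1 : t ∈ Ideal.span {t} * ⨆ i, colonElt (((𝓙 i).ideal U).map γ) t := by
    rw [Ideal.mul_iSup]
    have : t ∈ ⨆ i, ((𝓙 i).ideal U).map γ := by rw [hI]; exact Ideal.mem_span_singleton_self t
    exact (iSup_mono fun i => le_span_mul_colonElt (hle i)) this
  obtain ⟨k, hk, hkt⟩ := Ideal.mem_span_singleton_mul.1 h1
  have hk' : k ∈ vanishAt U'.1 x' := (iSup_le hK) hk
  have hk1 : k = 1 := by
    have h2 : t * (k - 1) = 0 := by rw [mul_sub, hkt, mul_one, sub_self]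
    have h3 := (mem_nonZeroDivisors_iff.1 ht).1 _ h2
    exact sub_eq_zero.1 h3
  rw [hk1] at hk'
  exact one_notMem_vanishAt hx'U' hk'

end Groth.Agent.Lib.Helper9.BlowSep
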