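import Mathlib
import Groth.Prelude.Def_BlowUp2
import Groth.Agent.Lib.Helper9.BlowSep8

set_option linter.style.haveILetI false
set_option linter.unusedSectionVars false
set_option autoImplicit false

universe u
open CategoryTheory CategoryTheory.Limits AlgebraicGeometry TopologicalSpace Topology

namespace Groth.Agent.Lib.Helper9.BlowSep

open Groth.Agent.Lib.Helper29.EffCart

open scoped Pointwise in
/-- Nakayama step. -/
lemma alg_nak {C : Type*} [CommRing C] {ι : Type*} [Finite ι] (τ : ι → C) (K J : ι → Ideal C)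
    (𝔭 κ : Ideal C) (hJ : ∀ j, J j ≤ Ideal.span {τ j} * K j) (hK : ∀ j, K j ≤ 𝔭)
    (hτ : ∀ i, τ i ∈ (⨆ j, J j) ⊔ κ) :
    ∃ r : C, r - 1 ∈ 𝔭 ∧ ∀ i, r * τ i ∈ κ := by
  set P : Ideal C := Ideal.span (Set.range τ) with hP
  have hfg : (P : Submodule C C).FG := Submodule.fg_span (Set.finite_range τ)
  have hle : P ≤ κ ⊔ 𝔭 • P := by
    rw [hP, Ideal.span_le]
    rintro _ ⟨i, rfl⟩
    have h1 : (⨆ j, J j) ⊔ κ ≤ κ ⊔ 𝔭 • P := by
      refine sup_le (iSup_le fun j => ?_) le_sup_left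
      refine (hJ j).trans (le_trans ?_ le_sup_right)
      rw [mul_comm, smul_eq_mul]
      exact Ideal.mul_mono (hK j) (Ideal.span_mono (by
        rintro _ rfl; exact ⟨j, rfl⟩))
    exact h1 (hτ i)
  obtain ⟨r, hr1, hr2⟩ :=
    Submodule.exists_sub_one_mem_and_smul_le_of_fg_of_le_sup (I := 𝔭) (N := κ) (N' := P) (P := P)
      hfg le_rfl hle
  refine ⟨r, hr1, fun i => ?_⟩
  apply hr2
  exact Submodule.smul_mem_pointwise_smul _ _ _ (Ideal.subset_span ⟨i, rfl⟩)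

lemma mem_iInf_opens {α : Type*} [TopologicalSpace α] {ι : Type*} [Finite ι]
    {U : ι → TopologicalSpace.Opens α} {x : α} : x ∈ ⨅ i, U i ↔ ∀ i, x ∈ U i := by
  rw [← SetLike.mem_coe, TopologicalSpace.Opens.coe_iInf, Set.mem_iInter]; rfl

/-- Simultaneous separation: a family version over a "product" `P`. -/
theorem sep_nak {ι : Type*} [Finite ι] {U P P' : Scheme.{u}} (X X' : ι → Scheme.{u})
    (c : ∀ i, X' i ⟶ X i) (π : ∀ i, P ⟶ X i) (π' : ∀ i, P' ⟶ X' i) (ρ : P' ⟶ P)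
    (hρ : ∀ i, ρ ≫ π i = π' i ≫ c i) (e : U ⟶ P) (e' : U ⟶ P') (he : e' ≫ ρ = e)
    (𝓘 𝔞 : ∀ i, (X i).IdealSheafData) (T : ∀ i, Set (X i))
    (hT : ∀ i, T i ⊆ ((𝓘 i).support : Set (X i)))
    (hT𝔞 : ∀ i, ∀ x ∈ T i, x ∉ (𝔞 i).support)
    (hU𝔞 : ∀ i (u : U), π i (e u) ∉ (𝔞 i).support)
    (hle : ∀ i, 𝓘 i ≤ 𝔞 i)
    (hmain : ∀ i, (𝔞 i).comap (π i) ≤ (⨆ j, (𝓘 j).comap (π j)) ⊔ e.ker)
    (hE : ∀ i, BlowUp.IsEffCartierIdeal ((𝔞 i).comap (c i)))
    (i₀ : ι) (z' : P') (hz' : z' ∈ closure (Set.range (fun u => e' u)))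
    (hz : ∀ i, π' i z' ∈ closure ((fun y => c i y) ⁻¹' T i)) : False := by
  classical
  have hx : ∀ i, c i (π' i z') = π i (ρ z') := fun i => by
    rw [← Scheme.Hom.comp_apply, ← Scheme.Hom.comp_apply, hρ]
  choose V hV using fun i => exists_affineOpen_mem_le (c i (π' i z')) ⊤ trivial
  have hchart : ∀ i, ∃ V' : (X' i).affineOpens, π' i z' ∈ V'.1 ∧ V'.1 ≤ (c i) ⁻¹ᵁ (V i).1 ∧
      ∃ t : Γ(X' i, V'.1), t ∈ nonZeroDivisors Γ(X' i, V'.1) ∧
        ((𝔞 i).comap (c i)).ideal V' = Ideal.span {t} := fun i =>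
    exists_affine_principal_nzd_le _ (hE i) (π' i z') ((c i) ⁻¹ᵁ (V i).1) (hV i).1
  choose V' hzV' hV'le t ht hI using hchart
  obtain ⟨W, hzW, hWle⟩ := exists_affineOpen_mem_le (ρ z') (⨅ i, (π i) ⁻¹ᵁ (V i).1) (by
    rw [mem_iInf_opens]
    intro i
    change π i (ρ z') ∈ (V i).1
    rw [← hx]; exact (hV i).1)
  have hWi : ∀ i, W.1 ≤ (π i) ⁻¹ᵁ (V i).1 := fun i => hWle.trans (iInf_le _ i)
  obtain ⟨W'', hzW'', hW''le⟩ := exists_affineOpen_mem_le z'
    (ρ ⁻¹ᵁ W.1 ⊓ ⨅ i, (π' i) ⁻¹ᵁ (V' i).1) ⟨hzW, mem_iInf_opens.2 hzV'⟩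
  have hW''ρ : W''.1 ≤ ρ ⁻¹ᵁ W.1 := hW''le.trans inf_le_left
  have hW''i : ∀ i, W''.1 ≤ (π' i) ⁻¹ᵁ (V' i).1 := fun i =>
    hW''le.trans (inf_le_right.trans (iInf_le _ i))
  set γ := fun i => ((c i).appLE (V i).1 (V' i).1 (hV'le i)).hom with hγ
  set α := fun i => ((π i).appLE (V i).1 W.1 (hWi i)).hom with hα
  set α' := fun i => ((π' i).appLE (V' i).1 W''.1 (hW''i i)).hom with hα'
  set β := (ρ.appLE W.1 W''.1 hW''ρ).hom with hβ
  have hcomm : ∀ i, β.comp (α i) = (α' i).comp (γ i) := by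
    intro i
    simp only [hα, hβ, hα', hγ]
    rw [← CommRingCat.hom_comp, ← CommRingCat.hom_comp, Scheme.Hom.appLE_comp_appLE,
      Scheme.Hom.appLE_comp_appLE, appLE_congr_hom (hρ i)]
  have hgen : ∀ i, ((𝔞 i).ideal (V i)).map (γ i) = Ideal.span {t i} := fun i => by
    rw [← ideal_comap_eq_map]; exact hI i
  set K := fun i => colonElt (((𝓘 i).ideal (V i)).map (γ i)) (t i) with hKdef
  have hKv : ∀ i, K i ≤ vanishAt (V' i).1 (π' i z') := by
    intro i k hk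
    refine mem_vanishAt_of_mem_closure (hz i) k ?_
    intro y hy
    by_cases hyU : y ∈ (V' i).1
    · have h1 : t i * k ∈ vanishAt (V' i).1 y :=
        map_le_vanishAt (c i) (V' i).1 (V i).1 (hV'le i) _ y
          (ideal_le_vanishAt_of_mem_support (𝓘 i) (V i) (c i y) (hT i hy) (hV'le i hyU)) hk
      exact mem_vanishAt_of_mul_mem h1
        (gen_notMem_vanishAt (c i) (𝔞 i) (V i) (V' i).1 (hV'le i) (t i) (hgen i) y hyU
          (hT𝔞 i _ hy))
    · exact mem_vanishAt_of_notMem hyU k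
  have hIle : ∀ i, ((𝓘 i).ideal (V i)).map (γ i) ≤ Ideal.span {t i} := fun i => by
    rw [← hgen]; exact Ideal.map_mono (hle i (V i))
  have A1 : ∀ j, ((𝓘 j).ideal (V j)).map (β.comp (α j)) ≤
      Ideal.span {α' j (t j)} * (K j).map (α' j) := by
    intro j
    rw [hcomm, ← Ideal.map_map, ← map_span_mul_colon]
    exact Ideal.map_mono (le_span_mul_colonElt (hIle j))
  have A2 : ∀ j, (K j).map (α' j) ≤ vanishAt W''.1 z' := by
    intro j
    exact map_le_vanishAt (π' j) W''.1 (V' j).1 (hW''i j) (K j) z' (hKv j)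
  have A3 : ∀ i, α' i (t i) ∈ (⨆ j, ((𝓘 j).ideal (V j)).map (β.comp (α j))) ⊔
      (e.ker.ideal W).map β := by
    intro i
    have h1 : α' i (t i) ∈ ((𝔞 i).ideal (V i)).map (β.comp (α i)) := by
      rw [hcomm, ← Ideal.map_map, hgen, Ideal.map_span, Set.image_singleton]
      exact Ideal.mem_span_singleton_self _
    have h2 : ((𝔞 i).ideal (V i)).map (α i) ≤
        (⨆ j, ((𝓘 j).ideal (V j)).map (α j)) ⊔ e.ker.ideal W := by
      have h := hmain i W
      rw [Scheme.IdealSheafData.ideal_sup, Pi.sup_apply, Scheme.IdealSheafData.ideal_iSup,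
        iSup_apply, ideal_comap_eq_map _ (π i) (V i) W (hWi i)] at h
      refine h.trans (sup_le_sup_right (iSup_mono fun j => ?_) _)
      rw [ideal_comap_eq_map _ (π j) (V j) W (hWi j)]
    have h3 := Ideal.map_mono (f := β) h2
    rw [Ideal.map_sup, Ideal.map_iSup, Ideal.map_map] at h3
    simp_rw [Ideal.map_map] at h3
    exact h3 h1

  obtain ⟨r, hr1, hr2⟩ := alg_nak (fun i => α' i (t i)) (fun i => (K i).map (α' i))
    (fun j => ((𝓘 j).ideal (V j)).map (β.comp (α j))) (vanishAt W''.1 z')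
    ((e.ker.ideal W).map β) A1 A2 A3
  have hr : r ∈ vanishAt W''.1 z' := by
    refine mem_vanishAt_of_mem_closure hz' r ?_
    rintro _ ⟨u, rfl⟩
    by_cases hu : e' u ∈ W''.1
    · have hρu : ρ (e' u) = e u := by rw [← Scheme.Hom.comp_apply, he]
      have h1 : r * α' i₀ (t i₀) ∈ vanishAt W''.1 (e' u) := by
        refine map_le_vanishAt ρ W''.1 W.1 hW''ρ _ (e' u) ?_ (hr2 i₀)
        rw [hρu]
        exact ideal_le_vanishAt_of_mem_support e.ker W (e u)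
          (e.range_subset_ker_support ⟨u, rfl⟩) (by rw [← hρu]; exact hW''ρ hu)
      rw [mul_comm] at h1
      refine mem_vanishAt_of_mul_mem h1 ?_
      rw [appLE_mem_vanishAt_iff _ _ _ _ _ _ hu]
      refine gen_notMem_vanishAt (c i₀) (𝔞 i₀) (V i₀) (V' i₀).1 (hV'le i₀) (t i₀) (hgen i₀) _
        (hW''i i₀ hu) ?_
      have : c i₀ (π' i₀ (e' u)) = π i₀ (e u) := by
        rw [← hρu]
        change (π' i₀ ≫ c i₀) (e' u) = (ρ ≫ π i₀) (e' u)
        rw [hρ]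
      rw [this]; exact hU𝔞 i₀ u
    · exact mem_vanishAt_of_notMem hu r
  have : (1 : Γ(P', W''.1)) ∈ vanishAt W''.1 z' := by
    have := Ideal.sub_mem _ hr hr1
    simpa using this
  exact one_notMem_vanishAt hzW'' this

end Groth.Agent.Lib.Helper9.BlowSep
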