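import Mathlib
import Groth.Prelude.Def_BlowUp2
import Groth.Agent.Lib.Helper29.IdealComap

set_option linter.style.haveILetI false
set_option linter.unusedSectionVars false
set_option autoImplicit false

universe u
open CategoryTheory CategoryTheory.Limits AlgebraicGeometry TopologicalSpace

namespace Groth.Agent.Lib.Helper9.FTExt

open Groth.Agent.Lib.Helper29.EffCart

/-- If `I.map φ` is finitely generated, it is the image of a finitely generated subideal. -/
lemma exists_fg_le_map_eq {A B : Type*} [CommRing A] [CommRing B] (φ : A →+* B) (I : Ideal A)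
    (h : (I.map φ).FG) : ∃ I' : Ideal A, I'.FG ∧ I' ≤ I ∧ I'.map φ = I.map φ := by
  classical
  obtain ⟨s', hs', hspan⟩ := (Submodule.fg_span_iff_fg_span_finset_subset (φ '' (I : Set A))).1 h
  have hch : ∀ b : s', ∃ a : A, a ∈ I ∧ φ a = b.1 := fun b => hs' b.2
  choose c hcI hcb using hch
  refine ⟨Ideal.span (Set.range c), ?_, ?_, ?_⟩
  · exact ⟨Finset.univ.image c, by simp⟩
  · rw [Ideal.span_le]
    rintro _ ⟨b, rfl⟩
    exact hcI b
  · apply le_antisymm
    · apply Ideal.map_mono
      rw [Ideal.span_le]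
      rintro _ ⟨b, rfl⟩
      exact hcI b
    · change Submodule.span B (φ '' (I : Set A)) ≤ _
      rw [hspan, Submodule.span_le]
      intro b hb
      have : b = φ (c ⟨b, hb⟩) := (hcb ⟨b, hb⟩).symm
      rw [this]
      exact Ideal.mem_map_of_mem _ (Ideal.subset_span ⟨_, rfl⟩)

variable {X : Scheme.{u}}

lemma preimage_specQuot (U : X.affineOpens) (J : Ideal Γ(X, U.1)) :
    (specQuot U J) ⁻¹ᵁ U.1 = ⊤ := by
  rw [specQuot, Scheme.Hom.comp_preimage, U.2.fromSpec_preimage_self]
  rfl

lemma le_ker_specQuot_app (U : X.affineOpens) (J : Ideal Γ(X, U.1)) :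
    J ≤ RingHom.ker ((specQuot U J).app U.1).hom := by
  intro t ht
  rw [RingHom.mem_ker]
  have hle : (⊤ : (Spec (.of (Γ(X, U.1) ⧸ J))).Opens) ≤ (specQuot U J) ⁻¹ᵁ U.1 := by
    rw [preimage_specQuot]
  have h2 : (specQuot U J).appLE U.1 ⊤ hle =
      CommRingCat.ofHom (Ideal.Quotient.mk J) ≫ (Scheme.ΓSpecIso (.of (Γ(X, U.1) ⧸ J))).inv := by
    have e1 : (specQuot U J).appLE U.1 ⊤ hle =
        U.2.fromSpec.appLE U.1 ⊤ (by rw [U.2.fromSpec_preimage_self]) ≫
          (Spec.map (CommRingCat.ofHom (Ideal.Quotient.mk J))).appLE ⊤ ⊤ le_top :=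
      (Scheme.Hom.appLE_comp_appLE _ _ _ _ _ _ _).symm
    rw [e1, fromSpec_appLE_top]
    exact (Scheme.ΓSpecIso_inv_naturality (CommRingCat.ofHom (Ideal.Quotient.mk J))).symm
  have h1 : ((specQuot U J).appLE U.1 ⊤ hle).hom t = 0 := by
    rw [h2, CommRingCat.comp_apply]
    have : (CommRingCat.ofHom (Ideal.Quotient.mk J)).hom t = 0 :=
      Ideal.Quotient.eq_zero_iff_mem.2 ht
    rw [this, map_zero]
  rw [Scheme.Hom.appLE, CommRingCat.comp_apply] at h1
  have hinj : Function.Injective
      ((Spec (.of (Γ(X, U.1) ⧸ J))).presheaf.map (homOfLE hle).op).hom := by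
    have : IsIso ((Spec (.of (Γ(X, U.1) ⧸ J))).presheaf.map (homOfLE hle).op) := by
      have : IsIso (homOfLE hle) := by
        refine ⟨homOfLE (by rw [preimage_specQuot]), rfl, rfl⟩
      infer_instance
    exact ((ConcreteCategory.isIso_iff_bijective _).1 this).1
  exact hinj (by rw [map_zero]; exact h1)

lemma ker_specQuot_app (U : X.affineOpens) (J : Ideal Γ(X, U.1)) :
    RingHom.ker ((specQuot U J).app U.1).hom = J :=
  le_antisymm (ker_specQuot_app_le U J) (le_ker_specQuot_app U J)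

instance [QuasiSeparatedSpace X] (U : X.affineOpens) (J : Ideal Γ(X, U.1)) :
    QuasiCompact (specQuot U J) := inferInstance

lemma ideal_ker_specQuot [QuasiSeparatedSpace X] (U : X.affineOpens) (J : Ideal Γ(X, U.1)) :
    (specQuot U J).ker.ideal U = J := by
  rw [Scheme.Hom.ker_apply, ker_specQuot_app]

end Groth.Agent.Lib.Helper9.FTExt
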