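import Mathlib
import Groth.Prelude.Def_BlowUp2
import Groth.Agent.Lib.Helper9.FTExt1

set_option linter.style.haveILetI false
set_option linter.unusedSectionVars false
set_option autoImplicit false

universe u
open CategoryTheory CategoryTheory.Limits AlgebraicGeometry TopologicalSpace

namespace Groth.Agent.Lib.Helper9.FTExt

open Groth.Agent.Lib.Helper29.EffCart

variable {X : Scheme.{u}}

/-- A section vanishing on an open cover vanishes. -/
lemma eq_zero_of_locally {Y : Scheme.{u}} (N : Y.Opens) (t : Γ(Y, N))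
    (h : ∀ y ∈ N, ∃ (N' : Y.Opens) (hN' : N' ≤ N), y ∈ N' ∧
      (Y.presheaf.map (homOfLE hN').op).hom t = 0) : t = 0 := by
  choose N' hN' hy ht using h
  refine Y.sheaf.eq_of_locally_eq' (fun y : N => N' y.1 y.2) N (fun y => homOfLE (hN' y.1 y.2))
    ?_ t 0 ?_
  · intro y hyN
    exact Opens.mem_iSup.2 ⟨⟨y, hyN⟩, hy y hyN⟩
  · intro y
    rw [map_zero]
    exact ht y.1 y.2

lemma appLE_eq_zero_of_mem (W : X.affineOpens) (F' : Ideal Γ(X, W.1))
    (N : (Spec (.of (Γ(X, W.1) ⧸ F'))).Opens) (e : N ≤ (specQuot W F') ⁻¹ᵁ W.1)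
    (x : Γ(X, W.1)) (hx : x ∈ F') : ((specQuot W F').appLE W.1 N e).hom x = 0 := by
  rw [Scheme.Hom.appLE, CommRingCat.comp_apply]
  have : ((specQuot W F').app W.1).hom x = 0 := le_ker_specQuot_app W F' hx
  rw [this, map_zero]

/-- Over opens where `F'` generates `𝓕`, `𝓕 ≤ ker (specQuot W F')`. -/
lemma ideal_le_ker_specQuot [QuasiSeparatedSpace X] (𝓕 : X.IdealSheafData) (W : X.affineOpens)
    (F' : Ideal Γ(X, W.1)) (U : X.affineOpens)
    (H : ∀ x ∈ U.1 ⊓ W.1, ∃ f : Γ(X, W.1), x ∈ X.basicOpen f ∧ X.basicOpen f ≤ U.1 ∧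
        𝓕.ideal (X.affineBasicOpen f) ≤
          F'.map (X.presheaf.map (homOfLE (X.basicOpen_le f)).op).hom) :
    𝓕.ideal U ≤ (specQuot W F').ker.ideal U := by
  intro s hs
  rw [Scheme.Hom.ker_apply, RingHom.mem_ker]
  set g := specQuot W F' with hg
  apply eq_zero_of_locally
  intro y hy
  have hyW : g y ∈ W.1 := by
    have : y ∈ g ⁻¹ᵁ W.1 := by rw [hg, preimage_specQuot]; trivial
    exact this
  obtain ⟨f, hxf, hfU, hfle⟩ := H (g y) ⟨hy, hyW⟩
  have hN' : g ⁻¹ᵁ X.basicOpen f ≤ g ⁻¹ᵁ U.1 := fun z hz => hfU hz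
  refine ⟨g ⁻¹ᵁ X.basicOpen f, hN', hxf, ?_⟩
  -- restrict
  have h1 : (g.app U.1 ≫ (Spec _).presheaf.map (homOfLE hN').op) =
      X.presheaf.map (homOfLE hfU).op ≫ g.appLE (X.basicOpen f) (g ⁻¹ᵁ X.basicOpen f) le_rfl := by
    rw [Scheme.Hom.app_eq_appLE, Scheme.Hom.appLE_map, Scheme.Hom.map_appLE]
  have h2 : ((Spec _).presheaf.map (homOfLE hN').op).hom ((g.app U.1).hom s) =
      (g.appLE (X.basicOpen f) (g ⁻¹ᵁ X.basicOpen f) le_rfl).hom
        ((X.presheaf.map (homOfLE hfU).op).hom s) := by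
    rw [← CommRingCat.comp_apply, h1, CommRingCat.comp_apply]
  rw [h2]
  have h3 : (X.presheaf.map (homOfLE hfU).op).hom s ∈ 𝓕.ideal (X.affineBasicOpen f) :=
    𝓕.ideal_le_comap_ideal (U := X.affineBasicOpen f) (V := U) hfU hs
  have h4 := hfle h3
  have h5 : F'.map (X.presheaf.map (homOfLE (X.basicOpen_le f)).op).hom ≤
      RingHom.ker (g.appLE (X.basicOpen f) (g ⁻¹ᵁ X.basicOpen f) le_rfl).hom := by
    rw [Ideal.map_le_iff_le_comap]
    intro x hx
    rw [Ideal.mem_comap, RingHom.mem_ker, ← CommRingCat.comp_apply, Scheme.Hom.map_appLE]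
    exact appLE_eq_zero_of_mem W F' _ _ x hx
  exact h5 h4

end Groth.Agent.Lib.Helper9.FTExt
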