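import Mathlib
import Groth.Prelude.Def_BlowUp2
import Groth.Agent.Lib.Helper9.FTExt2

set_option linter.style.haveILetI false
set_option linter.unusedSectionVars false
set_option autoImplicit false

universe u
open CategoryTheory CategoryTheory.Limits AlgebraicGeometry TopologicalSpace

namespace Groth.Agent.Lib.Helper9.FTExt

open Groth.Agent.Lib.Helper29.EffCart

variable {X : Scheme.{u}}

/-- `𝓕` is of finite type on the open `V`. -/
def FTOn (𝓕 : X.IdealSheafData) (V : X.Opens) : Prop :=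
  ∀ O : X.affineOpens, O.1 ≤ V → (𝓕.ideal O).FG

/-- finite generation on an affine open can be checked locally on that open -/
theorem fg_of_locally_fg_on (E : X.IdealSheafData) (U : X.affineOpens)
    (h : ∀ x ∈ U.1, ∃ W : X.affineOpens, x ∈ W.1 ∧ (E.ideal W).FG) :
    (E.ideal U).FG := by
  let t : Set Γ(X, U.1) := {f | (E.ideal (X.affineBasicOpen f)).FG}
  have ht : Ideal.span t = ⊤ := by
    rw [← U.2.self_le_iSup_basicOpen_iff]
    intro x hx
    obtain ⟨W, hxW, hW⟩ := h x hx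
    obtain ⟨f, g, hfg, hxf⟩ := exists_basicOpen_le_affine_inter U.2 W.2 x ⟨hx, hxW⟩
    have ht' : (E.ideal (X.affineBasicOpen g)).FG := by
      rw [← E.map_ideal_basicOpen W g]
      exact hW.map _
    have heq : X.affineBasicOpen f = X.affineBasicOpen g := Subtype.ext hfg
    have key : ∀ V : X.affineOpens, V = X.affineBasicOpen g → (E.ideal V).FG := by
      rintro V rfl; exact ht'
    exact Opens.mem_iSup.2 ⟨⟨f, key _ heq⟩, hxf⟩
  refine Ideal.fg_of_localizationSpan t ht ?_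
  rintro ⟨f, hg⟩
  have inst := U.2.isLocalization_basicOpen f
  have hmap : (X.presheaf.map (homOfLE (X.basicOpen_le f)).op).hom = algebraMap _ _ := rfl
  have h1 : ((E.ideal U).map (algebraMap Γ(X, U.1) Γ(X, X.basicOpen f))).FG := by
    rw [← hmap, E.map_ideal_basicOpen U f]
    exact hg
  let φ : Γ(X, X.basicOpen f) ≃ₐ[Γ(X, U.1)] Localization.Away f :=
    IsLocalization.algEquiv (Submonoid.powers f) _ _
  have h2 : ((E.ideal U).map (algebraMap Γ(X, U.1) Γ(X, X.basicOpen f))).map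
      (φ : Γ(X, X.basicOpen f) →+* Localization.Away f) =
      (E.ideal U).map (algebraMap Γ(X, U.1) (Localization.Away f)) := by
    rw [Ideal.map_map]
    congr 1
    ext r
    simp [φ]
  rw [← h2]
  exact h1.map _

theorem step [QuasiSeparatedSpace X] (𝓕 : X.IdealSheafData) (V : X.Opens)
    (hV : IsCompact (V : Set X)) (hF : FTOn 𝓕 V) (W : X.affineOpens) :
    ∃ 𝓙 : X.IdealSheafData, 𝓙 ≤ 𝓕 ∧ (∀ O : X.affineOpens, O.1 ≤ V → 𝓙.ideal O = 𝓕.ideal O) ∧
      FTOn 𝓙 (V ⊔ W.1) := by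
  classical
  let S : Set Γ(X, W.1) := {f | X.basicOpen f ≤ V}
  have hS : ∀ f : S, ∃ I' : Ideal Γ(X, W.1), I'.FG ∧ I' ≤ 𝓕.ideal W ∧
      I'.map (X.presheaf.map (homOfLE (X.basicOpen_le f.1)).op).hom =
        (𝓕.ideal W).map (X.presheaf.map (homOfLE (X.basicOpen_le f.1)).op).hom := by
    intro f
    apply exists_fg_le_map_eq
    rw [𝓕.map_ideal_basicOpen W f.1]
    exact hF (X.affineBasicOpen f.1) f.2
  choose I' hfg hle hmap using hS
  have hc : IsCompact ((V : Set X) ∩ (W.1 : Set X)) :=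
    QuasiSeparatedSpace.inter_isCompact _ _ V.2 hV W.1.2 W.2.isCompact
  obtain ⟨t, ht⟩ := hc.elim_finite_subcover (fun f : S => (X.basicOpen f.1 : Set X))
    (fun f => (X.basicOpen f.1).2) (by
      rintro x ⟨hxV, hxW⟩
      obtain ⟨f, hfV, hxf⟩ := W.2.exists_basicOpen_le ⟨x, hxV⟩ hxW
      exact Set.mem_iUnion.2 ⟨⟨f, hfV⟩, hxf⟩)
  set F' : Ideal Γ(X, W.1) := ⨆ f ∈ t, I' f with hF'
  have hF'fg : F'.FG := Submodule.fg_biSup t I' (fun f _ => hfg f)
  have hF'le : F' ≤ 𝓕.ideal W := iSup₂_le fun f _ => hle f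
  have hF'map : ∀ f ∈ t, F'.map (X.presheaf.map (homOfLE (X.basicOpen_le f.1)).op).hom =
      (𝓕.ideal W).map (X.presheaf.map (homOfLE (X.basicOpen_le f.1)).op).hom := by
    intro f hf
    apply le_antisymm (Ideal.map_mono hF'le)
    rw [← hmap f]
    exact Ideal.map_mono (le_iSup₂_of_le f hf le_rfl)
  have key : ∀ O : X.affineOpens, O.1 ≤ V → 𝓕.ideal O ≤ (specQuot W F').ker.ideal O := by
    intro O hO
    apply ideal_le_ker_specQuot
    rintro x ⟨hxO, hxW⟩
    obtain ⟨f₀, hf₀t, hxf₀⟩ : ∃ f₀ ∈ t, x ∈ X.basicOpen f₀.1 := by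
      have := ht ⟨hO hxO, hxW⟩
      simpa using this
    obtain ⟨h, hhle, hxh⟩ := W.2.exists_basicOpen_le
      (V := O.1 ⊓ X.basicOpen f₀.1) ⟨x, ⟨hxO, hxf₀⟩⟩ hxW
    refine ⟨h, hxh, hhle.trans inf_le_left, ?_⟩
    have hh0 : X.basicOpen h ≤ X.basicOpen f₀.1 := hhle.trans inf_le_right
    rw [← 𝓕.map_ideal_basicOpen W h]
    have hcomp : (X.presheaf.map (homOfLE (X.basicOpen_le h)).op).hom =
        (X.presheaf.map (homOfLE hh0).op).hom.comp
          (X.presheaf.map (homOfLE (X.basicOpen_le f₀.1)).op).hom := by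
      rw [← CommRingCat.hom_comp, ← Functor.map_comp]
      rfl
    rw [hcomp, ← Ideal.map_map, ← Ideal.map_map, hF'map f₀ hf₀t]
  refine ⟨𝓕 ⊓ (specQuot W F').ker, inf_le_left, ?_, ?_⟩
  · intro O hO
    rw [Scheme.IdealSheafData.ideal_inf, Pi.inf_apply]
    exact inf_eq_left.2 (key O hO)
  · intro O hO
    apply fg_of_locally_fg_on
    intro x hx
    rcases hO hx with hxV | hxW
    · obtain ⟨_, ⟨N, hN, rfl⟩, hxN, hNV⟩ :=
        X.isBasis_affineOpens.exists_subset_of_mem_open hxV V.2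
      refine ⟨⟨N, hN⟩, hxN, ?_⟩
      rw [Scheme.IdealSheafData.ideal_inf, Pi.inf_apply, inf_eq_left.2 (key ⟨N, hN⟩ hNV)]
      exact hF ⟨N, hN⟩ hNV
    · refine ⟨W, hxW, ?_⟩
      rw [Scheme.IdealSheafData.ideal_inf, Pi.inf_apply, ideal_ker_specQuot,
        inf_eq_right.2 hF'le]
      exact hF'fg

end Groth.Agent.Lib.Helper9.FTExt
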