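import Mathlib
import Groth.Prelude.Def_BlowUp2
import Groth.Agent.Lib.Helper9.FTExt3

set_option linter.style.haveILetI false
set_option linter.unusedSectionVars false
set_option autoImplicit false

universe u
open CategoryTheory CategoryTheory.Limits AlgebraicGeometry TopologicalSpace

namespace Groth.Agent.Lib.Helper9.FTExt

variable {X : Scheme.{u}}

/-- **Extension of finite type ideals** (Stacks 01PF for ideal sheaves): on a qcqs scheme, an ideal
sheaf which is of finite type on a quasi-compact open `V` contains a finite type ideal sheaf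
agreeing with it on `V`. -/
theorem exists_fg_extension [CompactSpace X] [QuasiSeparatedSpace X] (𝓘 : X.IdealSheafData)
    (V : X.Opens) (hV : IsCompact (V : Set X)) (hF : FTOn 𝓘 V) :
    ∃ 𝓙 : X.IdealSheafData, 𝓙 ≤ 𝓘 ∧ BlowUp.IsFiniteTypeIdeal 𝓙 ∧
      ∀ O : X.affineOpens, O.1 ≤ V → 𝓙.ideal O = 𝓘.ideal O := by
  have main : ∀ S : X.Opens, IsCompact (S : Set X) →
      ∃ 𝓙 : X.IdealSheafData, 𝓙 ≤ 𝓘 ∧ (∀ O : X.affineOpens, O.1 ≤ V → 𝓙.ideal O = 𝓘.ideal O) ∧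
        FTOn 𝓙 (V ⊔ S) := by
    intro S hS
    refine compact_open_induction_on (P := fun S => ∃ 𝓙 : X.IdealSheafData, 𝓙 ≤ 𝓘 ∧
      (∀ O : X.affineOpens, O.1 ≤ V → 𝓙.ideal O = 𝓘.ideal O) ∧ FTOn 𝓙 (V ⊔ S)) S hS ?_ ?_
    · refine ⟨𝓘, le_rfl, fun _ _ => rfl, ?_⟩
      rw [sup_bot_eq]
      exact hF
    · rintro S hS U ⟨𝓙, h1, h2, h3⟩
      obtain ⟨𝓙', h1', h2', h3'⟩ := step 𝓙 (V ⊔ S) (hV.union hS) h3 U
      refine ⟨𝓙', h1'.trans h1, fun O hO => ?_, ?_⟩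
      · rw [h2' O (hO.trans le_sup_left), h2 O hO]
      · rw [← sup_assoc]
        exact h3'
  obtain ⟨𝓙, h1, h2, h3⟩ := main ⊤ isCompact_univ
  exact ⟨𝓙, h1, fun O => h3 O (le_top.trans le_sup_right), h2⟩

end Groth.Agent.Lib.Helper9.FTExt
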