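import Mathlib
import Groth.Prelude.Def_BlowUp2
import Groth.Agent.Lib.Helper9.FTExt4

set_option linter.style.haveILetI false
set_option linter.unusedSectionVars false
set_option autoImplicit false

universe u
open CategoryTheory CategoryTheory.Limits AlgebraicGeometry TopologicalSpace

namespace Groth.Agent.Lib.Helper9.FTExt

variable {X : Scheme.{u}}

lemma ideal_eq_top_of_disjoint (𝓘 : X.IdealSheafData) (O : X.affineOpens)
    (h : Disjoint (𝓘.support : Set X) (O.1 : Set X)) : 𝓘.ideal O = ⊤ := by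
  have h1 : X.zeroLocus (U := O.1) (𝓘.ideal O) ∩ O.1 = ∅ := by
    rw [← 𝓘.coe_support_inter O]
    exact Set.disjoint_iff_inter_eq_empty.1 h
  rw [← O.2.fromSpec_image_zeroLocus, Set.image_eq_empty] at h1
  exact PrimeSpectrum.zeroLocus_empty_iff_eq_top.1 h1

lemma disjoint_of_ideal_eq_top (𝓘 : X.IdealSheafData) (V : X.Opens)
    (h : ∀ O : X.affineOpens, O.1 ≤ V → 𝓘.ideal O = ⊤) :
    Disjoint (𝓘.support : Set X) (V : Set X) := by
  rw [Set.disjoint_left]
  intro x hx hxV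
  obtain ⟨_, ⟨O, hO, rfl⟩, hxO, hOV⟩ :=
    X.isBasis_affineOpens.exists_subset_of_mem_open hxV V.2
  have h1 : x ∈ X.zeroLocus (U := O) (𝓘.ideal ⟨O, hO⟩) ∩ O := by
    rw [← 𝓘.coe_support_inter ⟨O, hO⟩]
    exact ⟨hx, hxO⟩
  rw [h ⟨O, hO⟩ hOV] at h1
  have := (Scheme.mem_zeroLocus_iff _ _ _).1 h1.1 1 trivial
  rw [Scheme.basicOpen_of_isUnit _ isUnit_one] at this
  exact this hxO

/-- On a qcqs scheme, an ideal sheaf whose support misses a quasi-compact open `V` contains a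
finite type ideal sheaf whose support misses `V`. -/
theorem exists_ft_le_disjoint [CompactSpace X] [QuasiSeparatedSpace X] (𝓘 : X.IdealSheafData)
    (V : X.Opens) (hV : IsCompact (V : Set X))
    (h : Disjoint (𝓘.support : Set X) (V : Set X)) :
    ∃ 𝓙 : X.IdealSheafData, 𝓙 ≤ 𝓘 ∧ BlowUp.IsFiniteTypeIdeal 𝓙 ∧
      Disjoint (𝓙.support : Set X) (V : Set X) := by
  have htop : ∀ O : X.affineOpens, O.1 ≤ V → 𝓘.ideal O = ⊤ := fun O hO =>
    ideal_eq_top_of_disjoint 𝓘 O (h.mono_right hO)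
  obtain ⟨𝓙, h1, h2, h3⟩ := exists_fg_extension 𝓘 V hV (fun O hO => by
    rw [htop O hO]; exact ⟨{1}, by simp⟩)
  refine ⟨𝓙, h1, h2, disjoint_of_ideal_eq_top 𝓙 V fun O hO => ?_⟩
  rw [h3 O hO, htop O hO]

/-- On a qcqs scheme, a closed subset with quasi-compact complement is the support of a finite
type ideal sheaf. -/
theorem exists_ft_support_eq [CompactSpace X] [QuasiSeparatedSpace X] (Z : Closeds X)
    (hZ : IsCompact ((Z : Set X)ᶜ)) :
    ∃ 𝓙 : X.IdealSheafData, BlowUp.IsFiniteTypeIdeal 𝓙 ∧ (𝓙.support : Set X) = (Z : Set X) := by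
  let V : X.Opens := ⟨(Z : Set X)ᶜ, Z.isClosed.isOpen_compl⟩
  have hd : Disjoint ((Scheme.IdealSheafData.vanishingIdeal Z).support : Set X) (V : Set X) := by
    rw [Scheme.IdealSheafData.coe_support_vanishingIdeal]
    exact disjoint_compl_right
  obtain ⟨𝓙, h1, h2, h3⟩ := exists_ft_le_disjoint _ V hZ hd
  refine ⟨𝓙, h2, Set.Subset.antisymm ?_ ?_⟩
  · intro x hx
    by_contra hxZ
    exact Set.disjoint_left.1 h3 hx hxZ
  · have := Scheme.IdealSheafData.support_antitone h1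
    rw [← Scheme.IdealSheafData.coe_support_vanishingIdeal Z]
    exact this

end Groth.Agent.Lib.Helper9.FTExt
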