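import Mathlib
import Groth.Prelude.Def_BlowUp2
import Groth.Agent.Lib.Helper9.BlowSep5
import Groth.Agent.Lib.Helper9.FTExt5

set_option linter.style.haveILetI false
set_option linter.unusedSectionVars false
set_option autoImplicit false

universe u
open CategoryTheory CategoryTheory.Limits AlgebraicGeometry TopologicalSpace

namespace Groth.Agent.Lib.Helper9.BlowSep

open Groth.Agent.Lib.Helper9.FTExt

lemma isFiniteTypeIdeal_sup' {X : Scheme.{u}} (E F : X.IdealSheafData)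
    (hE : BlowUp.IsFiniteTypeIdeal E)
    (hF : BlowUp.IsFiniteTypeIdeal F) : BlowUp.IsFiniteTypeIdeal (E ⊔ F) := by
  intro U
  rw [Scheme.IdealSheafData.ideal_sup]
  exact Submodule.FG.sup (hE U) (hF U)

theorem main17392
    {X₁ X₂ : Scheme.{u}} [CompactSpace X₁] [QuasiSeparatedSpace X₁] [CompactSpace X₂]
    [QuasiSeparatedSpace X₂]
    (q : X₂ ⟶ X₁)
    (V₁ : X₁.Opens) (hV₁ : IsCompact (V₁ : Set X₁))
    (U : X₂.Opens) (hU : U ≤ q ⁻¹ᵁ V₁)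
    (Z₁ : Set X₁) (hZ₁ : IsClosed Z₁) (hZ₁c : IsCompact Z₁ᶜ)
    (Z₂ : Set X₂) (hZ₂ : IsClosed Z₂) (hZ₂c : IsCompact Z₂ᶜ)
    (hYZ : (fun x => q x) ⁻¹' (Z₁ ∩ (V₁ : Set X₁)) ⊆ Z₂) :
    ∃ 𝓔 : X₁.IdealSheafData, BlowUp.IsFiniteTypeIdeal 𝓔 ∧
      (𝓔.support : Set X₁) ⊆ Z₁ \ (V₁ : Set X₁) ∧
      ∀ (X₁' : Scheme.{u}) (c : X₁' ⟶ X₁), BlowUp.IsBlowUp c 𝓔 →
        (fun z => (pullback.snd q c) z) ⁻¹' closure ((fun x => c x) ⁻¹' (Z₁ ∩ (V₁ : Set X₁))) ∩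
            closure ((fun z => (pullback.fst q c) z) ⁻¹' (U : Set X₂)) ⊆
          (fun z => (pullback.fst q c) z) ⁻¹' Z₂ := by
  let W₂ : X₂.Opens := ⟨Z₂ᶜ, hZ₂.isOpen_compl⟩
  haveI : CompactSpace W₂ := isCompact_iff_compactSpace.1 hZ₂c
  let p : (W₂ : Scheme.{u}) ⟶ X₁ := W₂.ι ≫ q
  obtain ⟨𝓕₀, hft, hsupp⟩ := exists_ft_support_eq (⟨Z₁, hZ₁⟩ : Closeds X₁) hZ₁c
  replace hsupp : (𝓕₀.support : Set X₁) = Z₁ := hsupp
  let S' : Set W₂ := (fun w => W₂.ι w) ⁻¹' (U : Set X₂)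
  let G : Closeds W₂ := ⟨closure S', isClosed_closure⟩
  let 𝓖 := Scheme.IdealSheafData.vanishingIdeal G
  let J := 𝓕₀.comap p ⊔ 𝓖
  let Emax := J.map p
  have hJsupp : ∀ w : W₂, w ∈ J.support → p w ∈ Z₁ := by
    intro w hw
    rw [Scheme.IdealSheafData.support_sup] at hw
    have h1 := hw.1
    rw [Scheme.IdealSheafData.support_comap] at h1
    have h2 : p w ∈ (𝓕₀.support : Set X₁) := h1
    rwa [hsupp] at h2
  have hpV : ∀ w : W₂, p w ∈ Z₁ → p w ∉ V₁ := by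
    intro w hw1 hw2
    have h1 : W₂.ι w ∈ Z₂ := hYZ (show q (W₂.ι w) ∈ Z₁ ∩ (V₁ : Set X₁) from ⟨hw1, hw2⟩)
    have h2 : W₂.ι w ∈ W₂ := w.2
    exact h2 h1
  haveI : CompactSpace J.subscheme := QuasiCompact.compactSpace_of_compactSpace J.subschemeι
  have hdis : Disjoint (Emax.support : Set X₁) (V₁ : Set X₁) := by
    have h1 : Emax.support = closure (Set.range (J.subschemeι ≫ p)) :=
      Scheme.Hom.support_ker (J.subschemeι ≫ p)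
    rw [h1, Set.disjoint_left]
    have h2 : closure (Set.range (J.subschemeι ≫ p)) ⊆ (V₁ : Set X₁)ᶜ := by
      refine closure_minimal ?_ V₁.2.isClosed_compl
      rintro _ ⟨s, rfl⟩
      rw [Scheme.Hom.comp_apply]
      refine hpV _ (hJsupp _ ?_)
      have : J.subschemeι s ∈ Set.range J.subschemeι := ⟨s, rfl⟩
      rw [J.range_subschemeι] at this
      exact this
    exact fun x hx hxV => h2 hx hxV
  obtain ⟨E₀, hE₀le, hE₀ft, hE₀d⟩ := exists_ft_le_disjoint Emax V₁ hV₁ hdis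
  have h𝓕₀le : 𝓕₀ ≤ Emax :=
    Scheme.IdealSheafData.le_map_iff_comap_le.2 le_sup_left
  have hEsupp : ((E₀ ⊔ 𝓕₀).support : Set X₁) ⊆ Z₁ \ (V₁ : Set X₁) := by
    intro x hx
    rw [Scheme.IdealSheafData.support_sup] at hx
    refine ⟨?_, fun hxV => Set.disjoint_left.1 hE₀d hx.1 hxV⟩
    rw [← hsupp]
    exact hx.2
  refine ⟨E₀ ⊔ 𝓕₀, isFiniteTypeIdeal_sup' _ _ hE₀ft hft, hEsupp, ?_⟩
  intro X₁' c hc
  rintro z' ⟨hz1, hz2⟩
  by_contra hz3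
  have hz3' : pullback.fst q c z' ∈ W₂ := hz3
  let Ω : (pullback q c).Opens := (pullback.fst q c) ⁻¹ᵁ W₂
  let z'' : Ω := ⟨z', hz3'⟩
  let fstΩ : (Ω : Scheme.{u}) ⟶ (W₂ : Scheme.{u}) := (pullback.fst q c) ∣_ W₂
  let sndΩ : (Ω : Scheme.{u}) ⟶ X₁' := Ω.ι ≫ pullback.snd q c
  have hfstι : fstΩ ≫ W₂.ι = Ω.ι ≫ pullback.fst q c := morphismRestrict_ι _ _
  have w : fstΩ ≫ p = sndΩ ≫ c := by
    change fstΩ ≫ W₂.ι ≫ q = (Ω.ι ≫ pullback.snd q c) ≫ c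
    rw [← Category.assoc, hfstι, Category.assoc, Category.assoc, pullback.condition]
  have hpt : ∀ y : Ω, W₂.ι (fstΩ y) = pullback.fst q c (Ω.ι y) := by
    intro y
    rw [← Scheme.Hom.comp_apply, ← Scheme.Hom.comp_apply, hfstι]
  refine sep_general p c fstΩ sndΩ w (Z₁ ∩ (V₁ : Set X₁)) S' 𝓕₀ (E₀ ⊔ 𝓕₀) 𝓖
    ?_ ?_ ?_ ?_ le_sup_right ?_ hc.1 z'' ?_ ?_
  · rw [hsupp]; exact Set.inter_subset_left
  · intro x hx hx'
    exact (hEsupp hx').2 hx.2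
  · change S' ⊆ ((Scheme.IdealSheafData.vanishingIdeal G).support : Set W₂)
    rw [Scheme.IdealSheafData.coe_support_vanishingIdeal]
    exact subset_closure
  · intro z hz hz'
    have h1 : q (W₂.ι z) ∈ V₁ := hU hz
    exact (hEsupp hz').2 h1
  · exact Scheme.IdealSheafData.le_map_iff_comap_le.1 (sup_le hE₀le h𝓕₀le)
  · exact hz1
  · have h1 : (fun z => fstΩ z) ⁻¹' S' =
        (fun y => Ω.ι y) ⁻¹' ((fun z => (pullback.fst q c) z) ⁻¹' (U : Set X₂)) := by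
      ext y
      change W₂.ι (fstΩ y) ∈ U ↔ pullback.fst q c (Ω.ι y) ∈ U
      rw [hpt y]
    rw [h1, ← Ω.ι.isOpenEmbedding.isOpenMap.preimage_closure_eq_closure_preimage
      Ω.ι.continuous]
    exact hz2

end Groth.Agent.Lib.Helper9.BlowSep
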