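import Mathlib
import Groth.Prelude.Def_BlowUp2
import Groth.Agent.Lib.Helper9.FTExt5
import Groth.Agent.Lib.Helper9.BlowProper7

set_option linter.style.haveILetI false
set_option linter.unusedSectionVars false
set_option autoImplicit false

universe u
open CategoryTheory CategoryTheory.Limits AlgebraicGeometry TopologicalSpace

namespace Groth.Agent.Lib.Helper9.FTExt

open Groth.Agent.Lib.Helper29.EffCart

variable {X : Scheme.{u}}

/-- ideals of the restriction of an ideal sheaf to an open subscheme -/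
lemma ideal_comap_ι (I : X.IdealSheafData) (V : X.Opens) (W : (V : Scheme.{u}).affineOpens) :
    (I.comap V.ι).ideal W =
      (I.ideal ⟨V.ι ''ᵁ W.1, W.2.image_of_isOpenImmersion _⟩).map (V.ι.appIso W.1).hom.hom := by
  rw [ideal_comap_eq_map I V.ι ⟨V.ι ''ᵁ W.1, W.2.image_of_isOpenImmersion _⟩ W
    (V.ι.preimage_image_eq W.1).ge, Scheme.Hom.appIso_hom']

lemma isPullback_of_mono {C : Type*} [Category C] {A B D : C} (f : A ⟶ B) (i : B ⟶ D) [Mono i] :
    IsPullback f (𝟙 A) i (f ≫ i) := by
  have h1 : IsPullback f (𝟙 A) (𝟙 B) f := IsPullback.of_vert_isIso ⟨by simp⟩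
  have h2 : IsPullback (𝟙 B) (𝟙 B) i i := (IsKernelPair.id_of_mono i)
  simpa using h1.paste_horiz h2

/-- ideals of the pushforward of an ideal sheaf along a quasi-compact open immersion -/
lemma ideal_map_ι [QuasiSeparatedSpace X] (V : X.Opens) [CompactSpace V]
    (I : (V : Scheme.{u}).IdealSheafData) (W : (V : Scheme.{u}).affineOpens) :
    I.ideal W = ((I.map V.ι).ideal ⟨V.ι ''ᵁ W.1, W.2.image_of_isOpenImmersion _⟩).comap
      (V.ι.appIso W.1).inv.hom := by
  haveI : CompactSpace I.subscheme := QuasiCompact.compactSpace_of_compactSpace I.subschemeι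
  have H := isPullback_of_mono I.subschemeι V.ι
  have := Scheme.ker_ideal_of_isPullback_of_isOpenImmersion (I.subschemeι ≫ V.ι) I.subschemeι (𝟙 _) V.ι H W
  rw [I.ker_subschemeι] at this
  exact this

lemma comap_map_ι [QuasiSeparatedSpace X] (V : X.Opens) [CompactSpace V]
    (I : (V : Scheme.{u}).IdealSheafData) : (I.map V.ι).comap V.ι = I := by
  ext W : 2
  rw [ideal_comap_ι, ideal_map_ι V I W]
  set e := V.ι.appIso W.1 with he
  set K := (I.map V.ι).ideal ⟨V.ι ''ᵁ W.1, W.2.image_of_isOpenImmersion _⟩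
  ext s
  rw [Ideal.mem_comap]
  constructor
  · intro hs
    obtain ⟨r, hr, rfl⟩ := (Ideal.mem_map_iff_of_surjective e.hom.hom
      ((ConcreteCategory.bijective_of_isIso e.hom).2)).1 hs
    have : e.inv.hom (e.hom.hom r) = r := by
      rw [← CommRingCat.comp_apply, e.hom_inv_id]; rfl
    rw [this]; exact hr
  · intro hs
    have : s = e.hom.hom (e.inv.hom s) := by
      rw [← CommRingCat.comp_apply, e.inv_hom_id]; rfl
    rw [this]
    exact Ideal.mem_map_of_mem _ hs

lemma comap_ι_congr (I J : X.IdealSheafData) (V : X.Opens)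
    (h : ∀ O : X.affineOpens, O.1 ≤ V → I.ideal O = J.ideal O) :
    I.comap V.ι = J.comap V.ι := by
  ext W : 2
  rw [ideal_comap_ι, ideal_comap_ι, h]
  rintro _ ⟨y, -, rfl⟩
  exact y.2

end Groth.Agent.Lib.Helper9.FTExt
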