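import Mathlib
import Groth.Prelude.Def_BlowUp2
import Groth.Agent.Lib.Helper9.FTExt6

set_option linter.style.haveILetI false
set_option linter.unusedSectionVars false
set_option autoImplicit false

universe u
open CategoryTheory CategoryTheory.Limits AlgebraicGeometry TopologicalSpace Topology

namespace Groth.Agent.Lib.Helper9.FTExt

open Groth.Agent.Lib.Helper29.EffCart

/-- constructible subsets of a prime spectrum are quasi-compact -/
lemma isCompact_of_isConstructible_primeSpectrum {R : Type u} [CommRing R]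
    {s : Set (PrimeSpectrum R)} (hs : IsConstructible s) : IsCompact s := by
  obtain ⟨S, _, f, rfl⟩ := PrimeSpectrum.exists_range_eq_of_isConstructible hs
  exact isCompact_range (PrimeSpectrum.continuous_comap f)

/-- constructible subsets of a quasi-compact scheme are quasi-compact -/
lemma isCompact_of_isConstructible {Y : Scheme.{u}} [CompactSpace Y] {s : Set Y}
    (hs : IsConstructible s) : IsCompact s := by
  let 𝒰 := Y.affineCover.finiteSubcover
  have hcov : s = ⋃ i : 𝒰.I₀, (𝒰.f i) '' ((𝒰.f i) ⁻¹' s) := by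
    ext y
    simp only [Set.mem_iUnion, Set.mem_image, Set.mem_preimage]
    constructor
    · intro hy
      obtain ⟨i, x, rfl⟩ := 𝒰.exists_eq y
      exact ⟨i, x, hy, rfl⟩
    · rintro ⟨i, x, hx, rfl⟩
      exact hx
  rw [hcov]
  apply isCompact_iUnion
  intro i
  apply IsCompact.image _ (𝒰.f i).continuous
  have h1 : IsConstructible ((𝒰.f i) ⁻¹' s) :=
    hs.preimage_of_isOpenEmbedding (𝒰.f i).isOpenEmbedding
  exact isCompact_of_isConstructible_primeSpectrum h1

variable {X : Scheme.{u}}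

/-- A closed subset of a quasi-compact open `U` of a qcqs scheme with quasi-compact complement in
`U` is the trace on `U` of the support of a finite type ideal sheaf on `X`. -/
theorem exists_ft_with_trace [CompactSpace X] [QuasiSeparatedSpace X] (U : X.Opens)
    (hU : IsCompact (U : Set X)) (T : Set U) (hT : IsClosed T) (hTc : IsCompact Tᶜ) :
    ∃ 𝓙 : X.IdealSheafData, BlowUp.IsFiniteTypeIdeal 𝓙 ∧
      ∀ x : U, (x : X) ∈ 𝓙.support ↔ x ∈ T := by
  haveI : CompactSpace U := isCompact_iff_compactSpace.1 hU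
  haveI : QuasiSeparatedSpace U := U.ι.isOpenEmbedding.quasiSeparatedSpace
  obtain ⟨𝓣, h𝓣ft, h𝓣s⟩ := exists_ft_support_eq (X := (U : Scheme.{u})) (⟨T, hT⟩ : Closeds U) hTc
  replace h𝓣s : (𝓣.support : Set U) = T := h𝓣s
  haveI : CompactSpace 𝓣.subscheme := QuasiCompact.compactSpace_of_compactSpace 𝓣.subschemeι
  set 𝓣X := 𝓣.map U.ι with h𝓣X
  have F3 : FTOn 𝓣X U := by
    intro O hO
    apply fg_of_locally_fg_on
    intro x hx
    obtain ⟨_, ⟨N', hN', rfl⟩, hxN', -⟩ :=
      (U : Scheme.{u}).isBasis_affineOpens.exists_subset_of_mem_open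
        (show (⟨x, hO hx⟩ : U) ∈ (⊤ : (U : Scheme.{u}).Opens) from trivial) isOpen_univ
    refine ⟨⟨U.ι ''ᵁ N', hN'.image_of_isOpenImmersion _⟩, ⟨_, hxN', rfl⟩, ?_⟩
    have h1 := ideal_map_ι U 𝓣 ⟨N', hN'⟩
    have h2 : (𝓣.ideal ⟨N', hN'⟩).FG := h𝓣ft ⟨N', hN'⟩
    rw [h1] at h2
    set e := U.ι.appIso N' with he
    set K := (𝓣.map U.ι).ideal ⟨U.ι ''ᵁ N', hN'.image_of_isOpenImmersion _⟩ with hK
    have h3 : K = (K.comap e.inv.hom).map e.inv.hom := by
      rw [Ideal.map_comap_of_surjective]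
      exact (ConcreteCategory.bijective_of_isIso e.inv).2
    rw [h3]
    exact h2.map _
  obtain ⟨𝓙, -, hft, heq⟩ := exists_fg_extension 𝓣X U hU F3
  have F4 : 𝓙.comap U.ι = 𝓣 := by
    rw [← comap_map_ι U 𝓣]
    exact comap_ι_congr 𝓙 𝓣X U fun O hO => heq O hO
  refine ⟨𝓙, hft, fun x => ?_⟩
  have h1 : x ∈ (𝓙.comap U.ι).support ↔ x ∈ T := by
    rw [F4, ← h𝓣s]; rfl
  rw [← h1, Scheme.IdealSheafData.support_comap]
  rfl

end Groth.Agent.Lib.Helper9.FTExt
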