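import Mathlib
import Groth.Prelude.Def_BlowUp2
import Groth.Agent.Lib.Helper9.FTExt5

set_option linter.style.haveILetI false
set_option linter.unusedSectionVars false
set_option autoImplicit false

universe u
open CategoryTheory CategoryTheory.Limits AlgebraicGeometry TopologicalSpace Topology

namespace Groth.Agent.Lib.Helper9.FTExt

variable {X : Scheme.{u}}

/-- the complement of the support of a finite type ideal is quasi-compact in each affine open -/
lemma isCompact_compl_support_inter (I : X.IdealSheafData) (W : X.affineOpens)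
    (h : (I.ideal W).FG) : IsCompact ((I.support : Set X)ᶜ ∩ (W.1 : Set X)) := by
  obtain ⟨s, hs⟩ := h
  have h1 : (I.support : Set X)ᶜ ∩ (W.1 : Set X) = ⋃ f ∈ s, (X.basicOpen f : Set X) := by
    ext x
    simp only [Set.mem_inter_iff, Set.mem_compl_iff, SetLike.mem_coe, Set.mem_iUnion, exists_prop]
    constructor
    · rintro ⟨hx, hxW⟩
      rw [I.mem_support_iff_of_mem hxW, ← hs, X.zeroLocus_span, Scheme.mem_zeroLocus_iff] at hx
      push Not at hx
      obtain ⟨f, hf, hxf⟩ := hx
      exact ⟨f, hf, hxf⟩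
    · rintro ⟨f, hf, hxf⟩
      have hxW : x ∈ W.1 := X.basicOpen_le f hxf
      refine ⟨?_, hxW⟩
      rw [I.mem_support_iff_of_mem hxW, ← hs, X.zeroLocus_span, Scheme.mem_zeroLocus_iff]
      push Not
      exact ⟨f, hf, hxf⟩
  rw [h1]
  exact s.isCompact_biUnion fun f _ => (W.2.basicOpen f).isCompact

theorem main9823 (X : Scheme.{u}) [CompactSpace X] [QuasiSeparatedSpace X]
    (U : X.Opens) :
    IsCompact (U : Set X) ↔
      ∃ I : X.IdealSheafData, (∀ V : X.affineOpens, (I.ideal V).FG) ∧
        (I.support : Set X) = (U : Set X)ᶜ := by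
  constructor
  · intro hU
    obtain ⟨𝓙, h1, h2⟩ := exists_ft_support_eq (⟨(U : Set X)ᶜ, U.2.isClosed_compl⟩ : Closeds X)
      (by simpa using hU)
    exact ⟨𝓙, h1, h2⟩
  · rintro ⟨I, hI, hs⟩
    let 𝒰 := X.affineCover.finiteSubcover
    have hcov : (U : Set X) = ⋃ i : 𝒰.I₀,
        ((I.support : Set X)ᶜ ∩ ((𝒰.f i).opensRange : Set X)) := by
      ext x
      simp only [Set.mem_iUnion, Set.mem_inter_iff]
      rw [hs, compl_compl]
      constructor
      · intro hx
        obtain ⟨i, y, rfl⟩ := 𝒰.exists_eq x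
        exact ⟨i, hx, ⟨y, rfl⟩⟩
      · rintro ⟨i, hx, -⟩
        exact hx
    rw [hcov]
    apply isCompact_iUnion
    intro i
    exact isCompact_compl_support_inter I ⟨(𝒰.f i).opensRange, isAffineOpen_opensRange _⟩ (hI _)

end Groth.Agent.Lib.Helper9.FTExt
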