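import Mathlib

set_option linter.style.haveILetI false
set_option linter.unusedSectionVars false
set_option autoImplicit false

universe u
open CategoryTheory CategoryTheory.Limits AlgebraicGeometry TopologicalSpace Topology

namespace Groth.Agent.Lib.Helper9.WideProper

section general
variable {C : Type*} [Category C] [HasPullbacks C] [HasFiniteWidePullbacks C]

lemma widePullback_base_prop (P : MorphismProperty C) [P.IsMultiplicative]
    [P.IsStableUnderBaseChange] [P.HasOfPostcompProperty P] {S : C} {J : Type} [Finite J]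
    (Xb : J → C) (gb : ∀ i, Xb i ⟶ S) (h : ∀ i, P (gb i)) :
    P (WidePullback.base gb) := by
  haveI := Fintype.ofFinite J
  let F : Discrete J ⥤ P.Over ⊤ S :=
    Discrete.functor (fun i => MorphismProperty.Over.mk ⊤ (gb i) (h i))
  let G : Discrete J ⥤ Over S := F ⋙ MorphismProperty.Over.forget P ⊤ S
  have hl1 : IsLimit ((Over.ConstructProducts.conesEquiv S G).functor.obj
      (limit.cone (Over.ConstructProducts.widePullbackDiagramOfDiagramOver S G))) :=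
    IsLimit.ofRightAdjoint (Over.ConstructProducts.conesEquiv S G).symm.toAdjunction
        (limit.isLimit _)
  have hl2 := isLimitOfPreserves (MorphismProperty.Over.forget P ⊤ S) (limit.isLimit F)
  let e := hl1.conePointUniqueUpToIso hl2
  have he := Over.w e.hom
  haveI : IsIso e.hom.left := inferInstanceAs (IsIso ((Over.forget S).map e.hom))
  have h2 : P (e.hom.left ≫ ((MorphismProperty.Over.forget P ⊤ S).mapCone (limit.cone F)).pt.hom) :=
    (P.cancel_left_of_respectsIso _ _).2 (limit F).prop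
  rw [he] at h2
  exact h2

end general

instance : MorphismProperty.HasOfPostcompProperty @IsProper @IsProper :=
  ⟨fun f g hg hfg => @IsProper.of_comp _ _ _ f g hfg hg.toIsSeparated⟩

lemma isProper_widePullback_base {S : Scheme.{u}} {m : ℕ} (Xb : Fin m → Scheme.{u})
    (gb : ∀ i, Xb i ⟶ S) [∀ i, IsProper (gb i)] : IsProper (WidePullback.base gb) :=
  widePullback_base_prop @IsProper Xb gb (fun _ => inferInstance)

lemma isProper_widePullback_π {S : Scheme.{u}} {m : ℕ} (Xb : Fin m → Scheme.{u})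
    (gb : ∀ i, Xb i ⟶ S) [∀ i, IsProper (gb i)] (i : Fin m) : IsProper (WidePullback.π gb i) := by
  haveI : IsProper (WidePullback.π gb i ≫ gb i) := by
    rw [WidePullback.π_arrow]; exact isProper_widePullback_base Xb gb
  exact IsProper.of_comp _ (gb i)

/-- Binary case: in the closure of `U` inside `X̄₁ ×_S X̄₂`, lying over `X₁` forces lying over `X₂`
(when `X₂ → X` is proper). -/
theorem snd_mem_range_of_fst_mem_range {S X U X₁ X₂ Xb₁ Xb₂ : Scheme.{u}} (gX : X ⟶ S)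
    (gb₁ : Xb₁ ⟶ S) (gb₂ : Xb₂ ⟶ S) [IsSeparated gb₂]
    (o₁ : X₁ ⟶ Xb₁) (o₂ : X₂ ⟶ Xb₂) [IsOpenImmersion o₁]
    (q₁ : X₁ ⟶ X) (q₂ : X₂ ⟶ X) [IsProper q₂] (hq₁ : q₁ ≫ gX = o₁ ≫ gb₁)
    (hq₂ : q₂ ≫ gX = o₂ ≫ gb₂)
    (v₁ : U ⟶ X₁) (v₂ : U ⟶ X₂) (hv : v₁ ≫ q₁ = v₂ ≫ q₂)
    (ε : U ⟶ pullback gb₁ gb₂) (hε₁ : ε ≫ pullback.fst gb₁ gb₂ = v₁ ≫ o₁)
    (hε₂ : ε ≫ pullback.snd gb₁ gb₂ = v₂ ≫ o₂)
    (z : ↥(pullback gb₁ gb₂)) (hz : z ∈ closure (Set.range (fun u => ε u)))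
    (h1 : pullback.fst gb₁ gb₂ z ∈ Set.range (fun x => o₁ x)) :
    pullback.snd gb₁ gb₂ z ∈ Set.range (fun x => o₂ x) := by
  let τ : U ⟶ pullback q₁ q₂ := pullback.lift v₁ v₂ hv
  let ιW : pullback (o₁ ≫ gb₁) gb₂ ⟶ pullback gb₁ gb₂ :=
    pullback.map (o₁ ≫ gb₁) gb₂ gb₁ gb₂ o₁ (𝟙 _) (𝟙 _) (by simp) (by simp)
  have hcond : pullback.fst q₁ q₂ ≫ (o₁ ≫ gb₁) = (pullback.snd q₁ q₂ ≫ o₂) ≫ gb₂ := by
    rw [← hq₁, ← Category.assoc, pullback.condition, Category.assoc, hq₂, Category.assoc]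
  let h' : pullback q₁ q₂ ⟶ pullback (o₁ ≫ gb₁) gb₂ :=
    pullback.lift (pullback.fst q₁ q₂) (pullback.snd q₁ q₂ ≫ o₂) hcond
  haveI : IsProper (h' ≫ pullback.fst (o₁ ≫ gb₁) gb₂) := by
    have : h' ≫ pullback.fst (o₁ ≫ gb₁) gb₂ = pullback.fst q₁ q₂ := pullback.lift_fst _ _ _
    rw [this]; infer_instance
  haveI : IsProper h' := IsProper.of_comp h' (pullback.fst (o₁ ≫ gb₁) gb₂)
  have hcl : IsClosed (Set.range (fun t => h' t)) := h'.isClosedMap.isClosed_range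
  have hι₁ : ιW ≫ pullback.fst gb₁ gb₂ = pullback.fst (o₁ ≫ gb₁) gb₂ ≫ o₁ :=
    pullback.lift_fst _ _ _
  have hι₂ : ιW ≫ pullback.snd gb₁ gb₂ = pullback.snd (o₁ ≫ gb₁) gb₂ := by
    have : ιW ≫ pullback.snd gb₁ gb₂ = pullback.snd (o₁ ≫ gb₁) gb₂ ≫ 𝟙 _ := pullback.lift_snd _ _ _
    rw [this, Category.comp_id]
  have hh₁ : h' ≫ pullback.fst (o₁ ≫ gb₁) gb₂ = pullback.fst q₁ q₂ := pullback.lift_fst _ _ _
  have hh₂ : h' ≫ pullback.snd (o₁ ≫ gb₁) gb₂ = pullback.snd q₁ q₂ ≫ o₂ := pullback.lift_snd _ _ _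
  have hτ₁ : τ ≫ pullback.fst q₁ q₂ = v₁ := pullback.lift_fst _ _ _
  have hτ₂ : τ ≫ pullback.snd q₁ q₂ = v₂ := pullback.lift_snd _ _ _
  have hε : τ ≫ h' ≫ ιW = ε := by
    apply pullback.hom_ext
    · rw [Category.assoc, Category.assoc, hι₁, ← Category.assoc h', hh₁, ← Category.assoc, hτ₁, hε₁]
    · rw [Category.assoc, Category.assoc, hι₂, hh₂, ← Category.assoc, hτ₂, hε₂]
  -- z is in the range of ιW
  have hzr : z ∈ Set.range (fun w => ιW w) := by
    have := Scheme.Pullback.range_map (o₁ ≫ gb₁) gb₂ gb₁ gb₂ o₁ (𝟙 _) (𝟙 _) (by simp) (by simp)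
    change z ∈ Set.range ιW
    rw [this]
    refine ⟨h1, ?_⟩
    simp
  obtain ⟨w, rfl⟩ := hzr
  have hw : w ∈ closure (Set.range (fun u => (τ ≫ h') u)) := by
    rw [ιW.isOpenEmbedding.isInducing.closure_eq_preimage_closure_image]
    change (fun w => ιW w) w ∈ closure ((fun w => ιW w) '' Set.range (fun u => (τ ≫ h') u))
    have : (fun w => ιW w) '' Set.range (fun u => (τ ≫ h') u) = Set.range (fun u => ε u) := by
      rw [← Set.range_comp]
      congr 1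
      ext u
      change (ιW) ((τ ≫ h') u) = ε u
      rw [← Scheme.Hom.comp_apply, Category.assoc, hε]
    rw [this]
    exact hz
  have hw' : w ∈ Set.range (fun t => h' t) := by
    refine closure_minimal ?_ hcl hw
    rintro _ ⟨u, rfl⟩
    exact ⟨τ u, by change h' (τ u) = (τ ≫ h') u; rw [Scheme.Hom.comp_apply]⟩
  obtain ⟨t, rfl⟩ := hw'
  refine ⟨pullback.snd q₁ q₂ t, ?_⟩
  change o₂ (pullback.snd q₁ q₂ t) = pullback.snd gb₁ gb₂ (ιW (h' t))
  rw [← Scheme.Hom.comp_apply, ← Scheme.Hom.comp_apply, ← Scheme.Hom.comp_apply]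
  congr 2
  rw [hι₂, hh₂]

/-- Wide case. -/
theorem wide_mem_range {S X U : Scheme.{u}} {m : ℕ} (gX : X ⟶ S)
    (Xi Xb : Fin m → Scheme.{u}) (gb : ∀ i, Xb i ⟶ S) [∀ i, IsProper (gb i)]
    (o : ∀ i, Xi i ⟶ Xb i) [∀ i, IsOpenImmersion (o i)]
    (q : ∀ i, Xi i ⟶ X) [∀ i, IsProper (q i)] (hq : ∀ i, q i ≫ gX = o i ≫ gb i)
    (jU : U ⟶ X) (v : ∀ i, U ⟶ Xi i) (hv : ∀ i, v i ≫ q i = jU)
    (w : ∀ i, (v i ≫ o i) ≫ gb i = jU ≫ gX) (a j : Fin m)
    (z : ↥(widePullback S Xb gb))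
    (hz : z ∈ closure (Set.range
      (fun x => (WidePullback.lift (jU ≫ gX) (fun i => v i ≫ o i) w) x)))
    (h : WidePullback.π gb a z ∈ Set.range (fun x => o a x)) :
    WidePullback.π gb j z ∈ Set.range (fun x => o j x) := by
  set e := WidePullback.lift (jU ≫ gX) (fun i => v i ≫ o i) w with he
  let φ : widePullback S Xb gb ⟶ pullback (gb a) (gb j) :=
    pullback.lift (WidePullback.π gb a) (WidePullback.π gb j)
      (by rw [WidePullback.π_arrow, WidePullback.π_arrow])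
  have hφ₁ : φ ≫ pullback.fst (gb a) (gb j) = WidePullback.π gb a := pullback.lift_fst _ _ _
  have hφ₂ : φ ≫ pullback.snd (gb a) (gb j) = WidePullback.π gb j := pullback.lift_snd _ _ _
  have h1 : pullback.fst (gb a) (gb j) (φ z) = WidePullback.π gb a z := by
    rw [← Scheme.Hom.comp_apply, hφ₁]
  have h2 : pullback.snd (gb a) (gb j) (φ z) = WidePullback.π gb j z := by
    rw [← Scheme.Hom.comp_apply, hφ₂]
  rw [← h2]
  refine snd_mem_range_of_fst_mem_range gX (gb a) (gb j) (o a) (o j) (q a) (q j) (hq a) (hq j)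
    (v a) (v j) ((hv a).trans (hv j).symm) (e ≫ φ) ?_ ?_ (φ z) ?_ (by rw [h1]; exact h)
  · rw [Category.assoc, hφ₁, he, WidePullback.lift_π]
  · rw [Category.assoc, hφ₂, he, WidePullback.lift_π]
  · refine map_mem_closure φ.continuous hz ?_
    rintro _ ⟨u, rfl⟩
    exact ⟨u, by change (e ≫ φ) u = φ (e u); rw [Scheme.Hom.comp_apply]⟩

end Groth.Agent.Lib.Helper9.WideProper
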