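import Mathlib
import Groth.Prelude.Def_BlowUp2
import Groth.Agent.Lib.Helper9.BlowSep10
import Groth.Agent.Lib.Helper9.WideProper1
import Groth.Agent.Lib.Helper9.BlowSep6
import Groth.Agent.Lib.Helper9.FTExt9
import Groth.Agent.Lib.Helper9.FTExt8
import Groth.Agent.Lib.Helper9.BlowExist2
import Groth.Agent.Lib.Helper29.BlowUpUP

set_option linter.style.haveILetI false
set_option linter.unusedSectionVars false
set_option autoImplicit false

universe u
open CategoryTheory CategoryTheory.Limits AlgebraicGeometry TopologicalSpace Topology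

namespace Groth.Agent.Lib.Helper9.BlowSep

open Groth.Agent.Lib.Helper29.EffCart Groth.Agent.Lib.Helper9.FTExt
  Groth.Agent.Lib.Helper9.WideProper

/-- Extend a finite type ideal on a quasi-compact open to a finite type ideal with the same
trace of the support. -/
lemma exists_ft_extend_support {Xi Xb : Scheme.{u}} [CompactSpace Xb] [QuasiSeparatedSpace Xb]
    (o : Xi ⟶ Xb) [IsOpenImmersion o] [QuasiCompact o] (Y : Xi.IdealSheafData)
    (hY : BlowUp.IsFiniteTypeIdeal Y) :
    ∃ 𝓘 : Xb.IdealSheafData, BlowUp.IsFiniteTypeIdeal 𝓘 ∧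
      ∀ y : Xi, o y ∈ 𝓘.support ↔ y ∈ Y.support := by
  haveI : CompactSpace Xi := QuasiCompact.compactSpace_of_compactSpace o
  haveI : QuasiSeparatedSpace Xi := o.isOpenEmbedding.quasiSeparatedSpace
  have hrc : IsCompact (o.opensRange : Set Xb) := by
    rw [Scheme.Hom.coe_opensRange]; exact isCompact_range o.continuous
  let homeo : Xi ≃ₜ ((o.opensRange : Scheme.{u}) : Type u) := Scheme.homeoOfIso o.isoOpensRange
  have hhomeo : ∀ y : Xi, o.opensRange.ι (homeo y) = o y := by
    intro y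
    change o.opensRange.ι (o.isoOpensRange.hom y) = o y
    rw [← Scheme.Hom.comp_apply, Scheme.Hom.isoOpensRange_hom_ι]
  let T : Set o.opensRange := homeo.symm ⁻¹' (Y.support : Set Xi)
  have hT : IsClosed T := Y.support.isClosed.preimage homeo.symm.continuous
  have hTc : IsCompact Tᶜ := by
    have h1 : IsCompact ((Y.support : Set Xi)ᶜ) := by
      have := (main9823 Xi ⟨(Y.support : Set Xi)ᶜ, Y.support.isClosed.isOpen_compl⟩).2
        ⟨Y, hY, by simp⟩
      exact this
    have h2 : Tᶜ = homeo '' ((Y.support : Set Xi)ᶜ) := by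
      rw [← Set.preimage_compl, Homeomorph.image_eq_preimage_symm]
    rw [h2]
    exact h1.image homeo.continuous
  obtain ⟨𝓘, h1, h2⟩ := exists_ft_with_trace o.opensRange hrc T hT hTc
  refine ⟨𝓘, h1, fun y => ?_⟩
  have := h2 (homeo y)
  rw [← hhomeo y]
  refine this.trans ?_
  change homeo.symm (homeo y) ∈ (Y.support : Set Xi) ↔ _
  rw [Homeomorph.symm_apply_apply]
  rfl

theorem main17394
    {S X U : Scheme.{u}} [CompactSpace S] [QuasiSeparatedSpace S] {m : ℕ}
    (gX : X ⟶ S) [QuasiCompact gX]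
    (Xi Xb : Fin m → Scheme.{u}) (gb : ∀ i, Xb i ⟶ S) [∀ i, IsProper (gb i)]
    (o : ∀ i, Xi i ⟶ Xb i) [∀ i, IsOpenImmersion (o i)] [∀ i, QuasiCompact (o i)]
    (q : ∀ i, Xi i ⟶ X) [∀ i, IsProper (q i)] (hq : ∀ i, q i ≫ gX = o i ≫ gb i)
    (jU : U ⟶ X) [QuasiCompact jU]
    (v : ∀ i, U ⟶ Xi i)
    (hv : ∀ i, v i ≫ q i = jU) (w : ∀ i, (v i ≫ o i) ≫ gb i = jU ≫ gX)
    (Y : ∀ i, (Xi i).IdealSheafData) (hY : ∀ i, BlowUp.IsFiniteTypeIdeal (Y i))
    (hempty : ∀ z ∈ closure (Set.range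
        (fun x => (WidePullback.lift (jU ≫ gX) (fun i => v i ≫ o i) w) x)),
      ∃ i, (WidePullback.π gb i) z ∉ (fun x => o i x) '' ((Y i).support : Set (Xi i))) :
    ∃ (𝓔 : ∀ i, (Xb i).IdealSheafData) (Xb' : Fin m → Scheme.{u}) (c : ∀ i, Xb' i ⟶ Xb i)
      (v' : ∀ i, U ⟶ Xb' i) (w' : ∀ i, v' i ≫ c i ≫ gb i = jU ≫ gX),
      (∀ i, BlowUp.IsBlowUp (c i) (𝓔 i) ∧ BlowUp.IsAdmissibleFor (o i).opensRange (𝓔 i) ∧
        v' i ≫ c i = v i ≫ o i) ∧
      ∀ z ∈ closure (Set.range (fun x => (WidePullback.lift (jU ≫ gX) (fun i => v' i) w') x)),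
        ∃ i, (WidePullback.π (fun i => c i ≫ gb i) i) z ∉
          closure ((fun y => c i y) ⁻¹' ((fun x => o i x) '' ((Y i).support : Set (Xi i)))) := by
  classical
  haveI : CompactSpace X := QuasiCompact.compactSpace_of_compactSpace gX
  haveI : CompactSpace U := QuasiCompact.compactSpace_of_compactSpace jU
  haveI hXbc : ∀ i, CompactSpace (Xb i) := fun i =>
    QuasiCompact.compactSpace_of_compactSpace (gb i)
  haveI hXbq : ∀ i, QuasiSeparatedSpace (Xb i) := fun i =>
    quasiSeparatedSpace_of_quasiSeparated (gb i)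
  haveI : IsProper (WidePullback.base gb) := isProper_widePullback_base Xb gb
  haveI hπp : ∀ i, IsProper (WidePullback.π gb i) := fun i => isProper_widePullback_π Xb gb i
  haveI : CompactSpace ↥(widePullback S Xb gb) :=
    QuasiCompact.compactSpace_of_compactSpace (WidePullback.base gb)
  haveI : QuasiSeparatedSpace ↥(widePullback S Xb gb) :=
    quasiSeparatedSpace_of_quasiSeparated (WidePullback.base gb)
  set e : U ⟶ widePullback S Xb gb := WidePullback.lift (jU ≫ gX) (fun i => v i ≫ o i) w with he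
  have heπ : ∀ i, e ≫ WidePullback.π gb i = v i ≫ o i := fun i => WidePullback.lift_π _ _ _ _ i
  haveI hXic : ∀ i, CompactSpace (Xi i) := fun i =>
    QuasiCompact.compactSpace_of_compactSpace (o i)
  have hrc : ∀ i, IsCompact ((o i).opensRange : Set (Xb i)) := fun i => by
    rw [Scheme.Hom.coe_opensRange]; exact isCompact_range (o i).continuous
  -- the extended ideals
  choose 𝓘 h𝓘ft h𝓘s using fun i => exists_ft_extend_support (o i) (Y i) (hY i)
  set L : (widePullback S Xb gb).IdealSheafData :=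
    (⨆ j, (𝓘 j).comap (WidePullback.π gb j)) ⊔ e.ker with hL
  have hLsupp : ∀ z : ↥(widePullback S Xb gb), z ∈ L.support →
      z ∈ closure (Set.range (fun x => e x)) ∧ ∀ j, WidePullback.π gb j z ∈ (𝓘 j).support := by
    intro z hz
    rw [hL, Scheme.IdealSheafData.support_sup] at hz
    refine ⟨?_, fun j => ?_⟩
    · have h2 := hz.2
      have h3 : e.ker.support = closure (Set.range e) := Scheme.Hom.support_ker e
      have h4 : z ∈ (e.ker.support : Set _) := h2
      rw [h3] at h4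
      exact h4
    · have h1 := hz.1
      rw [Scheme.IdealSheafData.support_iSup] at h1
      have h2 := (TopologicalSpace.Closeds.mem_iInf (ι := Fin m)).1 h1 j
      rw [Scheme.IdealSheafData.support_comap] at h2
      exact h2
  have hdis : ∀ i, Disjoint ((L.map (WidePullback.π gb i)).support : Set (Xb i))
      ((o i).opensRange : Set (Xb i)) := by
    intro i
    haveI : CompactSpace L.subscheme := QuasiCompact.compactSpace_of_compactSpace L.subschemeι
    have h1 : (L.map (WidePullback.π gb i)).support =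
        closure (Set.range (L.subschemeι ≫ WidePullback.π gb i)) :=
      Scheme.Hom.support_ker (L.subschemeι ≫ WidePullback.π gb i)
    rw [h1, Set.disjoint_left]
    have hcl : IsClosed (Set.range (L.subschemeι ≫ WidePullback.π gb i)) :=
      (L.subschemeι ≫ WidePullback.π gb i).isClosedMap.isClosed_range
    rw [hcl.closure_eq]
    rintro _ ⟨s, rfl⟩ hr
    rw [Scheme.Hom.comp_apply] at hr
    have hs : L.subschemeι s ∈ L.support := by
      have : L.subschemeι s ∈ Set.range L.subschemeι := ⟨s, rfl⟩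
      rw [L.range_subschemeι] at this
      exact this
    obtain ⟨hz1, hz2⟩ := hLsupp _ hs
    obtain ⟨j, hj⟩ := hempty _ hz1
    apply hj
    have hr' : WidePullback.π gb i (L.subschemeι s) ∈ Set.range (fun x => o i x) := by
      rw [Scheme.Hom.coe_opensRange] at hr
      exact hr
    obtain ⟨y, hy⟩ := wide_mem_range gX Xi Xb gb o q hq jU v hv w i j _ hz1 hr'
    refine ⟨y, (h𝓘s j y).1 ?_, hy⟩
    rw [show o j y = WidePullback.π gb j (L.subschemeι s) from hy]
    exact hz2 j
  choose 𝔞₀ h𝔞₀le h𝔞₀ft h𝔞₀d using fun i =>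
    exists_ft_le_disjoint (L.map (WidePullback.π gb i)) (o i).opensRange (hrc i) (hdis i)
  set 𝔞 : ∀ i, (Xb i).IdealSheafData := fun i => 𝔞₀ i ⊔ 𝓘 i with h𝔞
  have h𝔞ft : ∀ i, BlowUp.IsFiniteTypeIdeal (𝔞 i) := fun i =>
    isFiniteTypeIdeal_sup' _ _ (h𝔞₀ft i) (h𝓘ft i)
  have h𝔞d : ∀ i, Disjoint ((𝔞 i).support : Set (Xb i)) ((o i).opensRange : Set (Xb i)) := by
    intro i
    refine (h𝔞₀d i).mono_left ?_
    intro x hx
    have : x ∈ (𝔞₀ i ⊔ 𝓘 i).support := hx
    rw [Scheme.IdealSheafData.support_sup] at this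
    exact this.1
  have h𝓘le : ∀ i, 𝓘 i ≤ L.map (WidePullback.π gb i) := fun i =>
    Scheme.IdealSheafData.le_map_iff_comap_le.2
      (le_sup_of_le_left (le_iSup (fun j => (𝓘 j).comap (WidePullback.π gb j)) i))
  have h𝔞le : ∀ i, (𝔞 i).comap (WidePullback.π gb i) ≤ L := fun i =>
    Scheme.IdealSheafData.le_map_iff_comap_le.1 (sup_le (h𝔞₀le i) (h𝓘le i))
  -- blow-ups
  choose Xb' c hc using fun i => Groth.Agent.Lib.Helper9.BlowExist.exists_isBlowUp (𝔞 i)
  have htop : ∀ i, (𝔞 i).comap (v i ≫ o i) = ⊤ := by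
    intro i
    rw [← Scheme.IdealSheafData.support_eq_bot_iff, Scheme.IdealSheafData.support_comap]
    ext x
    simp only [Closeds.coe_preimage, Set.mem_preimage, Closeds.coe_bot, Set.mem_empty_iff_false,
      iff_false]
    intro hx
    refine Set.disjoint_left.1 (h𝔞d i) hx ?_
    rw [Scheme.Hom.coe_opensRange, Scheme.Hom.comp_apply]
    exact ⟨v i x, rfl⟩
  choose v' hv' hv'u using fun i => (hc i).2 U (v i ≫ o i) (htop i ▸ isEffCartierIdeal_top)
  have w' : ∀ i, v' i ≫ c i ≫ gb i = jU ≫ gX := fun i => by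
    rw [← Category.assoc, hv' i, w i]
  refine ⟨𝔞, Xb', c, v', w', fun i => ⟨hc i, ⟨h𝔞ft i, h𝔞d i⟩, hv' i⟩, ?_⟩
  intro z' hz'
  by_contra hcon
  push Not at hcon
  set e' := WidePullback.lift (jU ≫ gX) (fun i => v' i) w' with he'
  let ρ : widePullback S Xb' (fun i => c i ≫ gb i) ⟶ widePullback S Xb gb :=
    WidePullback.lift (WidePullback.base _) (fun i => WidePullback.π (fun i => c i ≫ gb i) i ≫ c i)
      (fun i => by rw [Category.assoc, WidePullback.π_arrow])
  have hρ : ∀ i, ρ ≫ WidePullback.π gb i = WidePullback.π (fun i => c i ≫ gb i) i ≫ c i :=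
    fun i => WidePullback.lift_π _ _ _ _ i
  have heρ : e' ≫ ρ = e := by
    apply WidePullback.hom_ext
    · intro i
      rw [Category.assoc, hρ, ← Category.assoc, he', WidePullback.lift_π, hv' i, heπ]
    · rw [Category.assoc, WidePullback.lift_base, he', WidePullback.lift_base, he,
        WidePullback.lift_base]
  have hρz : ρ z' ∈ closure (Set.range (fun x => e x)) := by
    refine map_mem_closure ρ.continuous hz' ?_
    rintro _ ⟨u, rfl⟩
    exact ⟨u, by change e u = ρ (e' u); rw [← heρ, Scheme.Hom.comp_apply]⟩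
  obtain ⟨i₀, -⟩ := hempty _ hρz
  refine sep_nak Xb Xb' c (fun i => WidePullback.π gb i)
    (fun i => WidePullback.π (fun i => c i ≫ gb i) i) ρ hρ e e' heρ 𝓘 𝔞
    (fun i => (fun x => o i x) '' ((Y i).support : Set (Xi i))) ?_ ?_ ?_ ?_ h𝔞le
    (fun i => (hc i).1) i₀ z' hz' hcon
  · rintro i _ ⟨y, hy, rfl⟩
    exact (h𝓘s i y).2 hy
  · rintro i _ ⟨y, hy, rfl⟩ hx
    refine Set.disjoint_left.1 (h𝔞d i) hx ?_
    rw [Scheme.Hom.coe_opensRange]
    exact ⟨y, rfl⟩
  · intro i u hx
    refine Set.disjoint_left.1 (h𝔞d i) hx ?_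
    rw [Scheme.Hom.coe_opensRange, ← Scheme.Hom.comp_apply, heπ, Scheme.Hom.comp_apply]
    exact ⟨v i u, rfl⟩
  · intro i
    exact le_sup_right

end Groth.Agent.Lib.Helper9.BlowSep
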