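import Mathlib
import Groth.Prelude.Def_BlowUp2
import Groth.Agent.Lib.Helper9.BlowSep6
import Groth.Agent.Lib.Helper9.FTExt8
import Groth.Agent.Lib.Helper9.BlowExist2

set_option linter.style.haveILetI false
set_option linter.unusedSectionVars false
set_option autoImplicit false

universe u
open CategoryTheory CategoryTheory.Limits AlgebraicGeometry TopologicalSpace Topology

namespace Groth.Agent.Lib.Helper9.BlowSep

open Groth.Agent.Lib.Helper9.FTExt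

theorem main1279 {X : Scheme.{u}} [CompactSpace X] [QuasiSeparatedSpace X]
    (U : X.Opens) (hU : IsCompact (U : Set X)) (T₁ T₂ : Set U)
    (h₁ : IsClosed T₁) (h₂ : IsClosed T₂) (c₁ : IsConstructible T₁) (c₂ : IsConstructible T₂)
    (hd : Disjoint T₁ T₂) :
    ∃ (𝓘 : X.IdealSheafData) (X' : Scheme.{u}) (b : X' ⟶ X), BlowUp.IsBlowUp b 𝓘 ∧
      BlowUp.IsAdmissibleFor U 𝓘 ∧
      Disjoint (closure (b.base ⁻¹' (Subtype.val '' T₁)))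
        (closure (b.base ⁻¹' (Subtype.val '' T₂))) := by
  haveI : CompactSpace (U : Scheme.{u}) := isCompact_iff_compactSpace.1 hU
  have hc₁ : IsCompact T₁ᶜ := isCompact_of_isConstructible (Y := (U : Scheme.{u})) c₁.compl
  have hc₂ : IsCompact T₂ᶜ := isCompact_of_isConstructible (Y := (U : Scheme.{u})) c₂.compl
  obtain ⟨𝓙₁, hft₁, hs₁⟩ := exists_ft_with_trace U hU T₁ h₁ hc₁
  obtain ⟨𝓙₂, hft₂, hs₂⟩ := exists_ft_with_trace U hU T₂ h₂ hc₂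
  obtain ⟨X', b, hb⟩ := Groth.Agent.Lib.Helper9.BlowExist.exists_isBlowUp (𝓙₁ ⊔ 𝓙₂)
  have hdisj : Disjoint ((𝓙₁ ⊔ 𝓙₂).support : Set X) (U : Set X) := by
    rw [Set.disjoint_left]
    intro x hx hxU
    rw [Scheme.IdealSheafData.support_sup] at hx
    have h1 : (⟨x, hxU⟩ : U) ∈ T₁ := (hs₁ ⟨x, hxU⟩).1 hx.1
    have h2 : (⟨x, hxU⟩ : U) ∈ T₂ := (hs₂ ⟨x, hxU⟩).1 hx.2
    exact Set.disjoint_left.1 hd h1 h2
  refine ⟨𝓙₁ ⊔ 𝓙₂, X', b, hb, ⟨isFiniteTypeIdeal_sup' _ _ hft₁ hft₂, hdisj⟩, ?_⟩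
  rw [Set.disjoint_left]
  intro z' hz1 hz2
  have hnot : ∀ x ∈ Subtype.val '' T₁ ∪ Subtype.val '' T₂, x ∉ (𝓙₁ ⊔ 𝓙₂).support := by
    rintro x hx hx'
    have hxU : x ∈ U := by
      rcases hx with ⟨y, -, rfl⟩ | ⟨y, -, rfl⟩ <;> exact y.2
    exact Set.disjoint_left.1 hdisj hx' hxU
  refine sep_general (𝟙 X) b b (𝟙 X') (by simp) (Subtype.val '' T₁) (Subtype.val '' T₂)
    𝓙₁ (𝓙₁ ⊔ 𝓙₂) 𝓙₂ ?_ (fun x hx => hnot x (Or.inl hx)) ?_
    (fun x hx => hnot x (Or.inr hx)) le_sup_left ?_ hb.1 z' hz1 hz2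
  · rintro _ ⟨y, hy, rfl⟩
    exact (hs₁ y).2 hy
  · rintro _ ⟨y, hy, rfl⟩
    exact (hs₂ y).2 hy
  · rw [Scheme.IdealSheafData.comap_id, Scheme.IdealSheafData.comap_id]

end Groth.Agent.Lib.Helper9.BlowSep
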