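import Mathlib
import Groth.Prelude.Def_BlowUp2
import Groth.Prelude.Def_W4c6modpairsegaMP
import Groth.Agent.Lib.Helper9.BlowSep8
import Groth.Agent.Lib.Helper9.FTExt9
import Groth.Agent.Lib.Helper9.FTExt8
import Groth.Agent.Lib.Helper9.BlowExist2
import Groth.Agent.Lib.Helper9.BlowProper8
import Groth.Agent.Lib.Helper29.BlowUpUP2

set_option linter.style.haveILetI false
set_option linter.unusedSectionVars false
set_option autoImplicit false

universe u
open CategoryTheory CategoryTheory.Limits AlgebraicGeometry TopologicalSpace Topology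

namespace Groth.Agent.Lib.Helper9.BlowSep

open Groth.Agent.Lib.Helper29.EffCart Groth.Agent.Lib.Helper9.FTExt

lemma isFiniteTypeIdeal_iSup {X : Scheme.{u}} {ι : Type*} [Finite ι] (𝓙 : ι → X.IdealSheafData)
    (h : ∀ i, BlowUp.IsFiniteTypeIdeal (𝓙 i)) : BlowUp.IsFiniteTypeIdeal (⨆ i, 𝓙 i) := by
  intro U
  rw [Scheme.IdealSheafData.ideal_iSup, iSup_apply]
  exact Submodule.fg_iSup _ fun i => h i U

theorem main19336 {S : Scheme.{u}}
    [CompactSpace S] [QuasiSeparatedSpace S] (I : S.IdealSheafData)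
    (hI : BlowUp.IsEffCartierIdeal I) {ι : Type u} (V : ι → S.Opens)
    (hVU : ∀ i, V i ≤ ModPair.interior I) (hVqc : ∀ i, IsCompact (V i : Set S))
    (hcov : ModPair.interior I ≤ ⨆ i, V i) :
    ∃ (F : S.IdealSheafData) (Y : Scheme.{u}) (b : Y ⟶ S) (κ : Type u) (W : κ → Y.Opens),
      BlowUp.IsAdmissibleFor (ModPair.interior I) F ∧ BlowUp.IsBlowUp b F ∧
        BlowUp.IsEffCartierIdeal (I.comap b) ∧ (∀ k, IsCompact (W k : Set Y)) ∧
        (⨆ k, W k) = ⊤ ∧ ∀ k, ∃ i, W k ⊓ b ⁻¹ᵁ ModPair.interior I ≤ b ⁻¹ᵁ V i := by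
  classical
  set U : S.Opens := ModPair.interior I with hUdef
  have hUc : IsCompact (U : Set S) := by
    rw [main9823 S U]
    refine ⟨I, Groth.Agent.Lib.Helper9.BlowProper.isFiniteTypeIdeal_of_isEffCartier I hI, ?_⟩
    change (I.support : Set S) = ((I.support : Set S)ᶜ)ᶜ
    rw [compl_compl]
  -- finite subcover
  obtain ⟨s, hs⟩ := hUc.elim_finite_subcover (fun i => (V i : Set S)) (fun i => (V i).2)
    (by
      intro x hx
      have := hcov hx
      simpa using this)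
  -- the traces
  have hex : ∀ i : ι, ∃ 𝓙 : S.IdealSheafData, BlowUp.IsFiniteTypeIdeal 𝓙 ∧
      ∀ x : U, (x : S) ∈ 𝓙.support ↔ (x : S) ∉ V i := by
    intro i
    have hcl : IsClosed ((fun x : U => (x : S)) ⁻¹' ((V i : Set S)ᶜ)) :=
      (V i).2.isClosed_compl.preimage continuous_subtype_val
    have hcp : IsCompact ((fun x : U => (x : S)) ⁻¹' ((V i : Set S)ᶜ))ᶜ := by
      rw [← Set.preimage_compl, compl_compl]
      refine (Topology.IsInducing.subtypeVal.isCompact_preimage_iff (f := fun x : U => (x : S))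
        ?_).2 (hVqc i)
      intro x hx
      exact ⟨⟨x, hVU i hx⟩, rfl⟩
    obtain ⟨𝓙, h1, h2⟩ := exists_ft_with_trace U hUc _ hcl hcp
    exact ⟨𝓙, h1, fun x => h2 x⟩
  choose 𝓙 h𝓙ft h𝓙s using hex
  set F : S.IdealSheafData := ⨆ i : s, 𝓙 i.1 with hF
  have hFft : BlowUp.IsFiniteTypeIdeal F := isFiniteTypeIdeal_iSup _ fun i => h𝓙ft i.1
  have hFd : Disjoint (F.support : Set S) (U : Set S) := by
    rw [Set.disjoint_left]
    intro x hx hxU
    rw [hF, Scheme.IdealSheafData.support_iSup] at hx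
    have h1 : ∀ i : s, x ∉ V i.1 := by
      intro i
      have : x ∈ (𝓙 i.1).support := by
        have := (TopologicalSpace.Closeds.mem_iInf (ι := s)).1 hx i
        exact this
      exact (h𝓙s i.1 ⟨x, hxU⟩).1 this
    obtain ⟨i, his, hxi⟩ : ∃ i ∈ s, x ∈ V i := by
      have := hs hxU
      simpa using this
    exact h1 ⟨i, his⟩ hxi
  obtain ⟨Y, b, hb⟩ := Groth.Agent.Lib.Helper9.BlowExist.exists_isBlowUp F
  haveI : IsProper b := Groth.Agent.Lib.Helper9.BlowProper.isProper_of_isBlowUp hb hFft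
  haveI : CompactSpace Y := QuasiCompact.compactSpace_of_compactSpace b
  let T : s → Set S := fun i => (U : Set S) \ (V i.1 : Set S)
  have hsep : ∀ y : Y, ∃ i : s, y ∉ closure ((fun y => b y) ⁻¹' T i) := by
    intro y
    by_contra hcon
    push Not at hcon
    refine sep_fintype (fun i : s => 𝓙 i.1) T ?_ ?_ b hb.1 y hcon
    · rintro i x ⟨hxU, hxV⟩
      exact (h𝓙s i.1 ⟨x, hxU⟩).2 hxV
    · rintro i x ⟨hxU, -⟩ hx
      exact Set.disjoint_left.1 hFd hx hxU
  let κ : Type u := {O : Y.affineOpens // ∃ i : s, (O.1 : Set Y) ⊆ (closure ((fun y => b y) ⁻¹' T i))ᶜ}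
  refine ⟨F, Y, b, κ, fun k => k.1.1, ⟨hFft, hFd⟩, hb,
    IsBlowUp.isEffCartierIdeal_comap hb I hI, fun k => k.1.2.isCompact, ?_, ?_⟩
  · rw [eq_top_iff]
    intro y _
    obtain ⟨i, hi⟩ := hsep y
    obtain ⟨_, ⟨O, hO, rfl⟩, hyO, hOle⟩ := Y.isBasis_affineOpens.exists_subset_of_mem_open
      (show y ∈ (closure ((fun y => b y) ⁻¹' T i))ᶜ from hi) isClosed_closure.isOpen_compl
    exact Opens.mem_iSup.2 ⟨⟨⟨O, hO⟩, i, hOle⟩, hyO⟩
  · rintro ⟨O, i, hO⟩
    refine ⟨i.1, ?_⟩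
    rintro y ⟨hyO, hyU⟩
    change b y ∈ V i.1
    by_contra hyV
    exact hO hyO (subset_closure (show b y ∈ T i from ⟨hyU, hyV⟩))

end Groth.Agent.Lib.Helper9.BlowSep
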