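import Groth.Agent.Lib.Helper9.BlowSpecAlg

set_option autoImplicit false
universe u
open CategoryTheory CategoryTheory.Limits AlgebraicGeometry Opposite TopologicalSpace

namespace Groth.Agent.Lib.Helper9.BlowSpec
open Groth.Agent.Lib.Helper29.AffBlow Groth.Agent.Lib.Helper29.EffCart

section Geom

variable {A B : Type u} [CommRing A] [CommRing B] [Algebra A B]

variable (A B) in
/-- The structure morphism `Spec B ⟶ Spec A`. -/
noncomputable abbrev specMap : Spec (CommRingCat.of B) ⟶ Spec (CommRingCat.of A) :=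
  Spec.map (CommRingCat.ofHom (algebraMap A B))

lemma secMap_eq_of_comp' {T : Scheme.{u}} {g : T ⟶ Spec (CommRingCat.of A)}
    (k : T ⟶ Spec (CommRingCat.of B)) (hk : k ≫ specMap A B = g) (r : A) :
    ((Scheme.ΓSpecIso (CommRingCat.of B)).inv ≫ k.appTop).hom
      (algebraMap A B r) = secMap g ⊤ r := by
  subst hk
  rw [secMap_top, Scheme.Hom.comp_appTop]
  have h2 := Scheme.ΓSpecIso_inv_naturality (CommRingCat.ofHom (algebraMap A B))
  have h3 := congrArg (fun φ => (φ ≫ k.appTop).hom r) h2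
  simp only [Category.assoc] at h3
  exact h3

variable (hinj : Function.Injective (algebraMap A B)) (I : Ideal A)
  (hIB : (Ideal.map (algebraMap A B) I : Set B) ⊆ algebraMap A B '' (I : Set A))
  (a₀ : A) (ha₀ : a₀ ∈ I)
  (hgen : Ideal.map (algebraMap A B) I = Ideal.span {algebraMap A B a₀})

include hinj hIB ha₀ hgen

lemma locGen_of_isEffCartierIdeal {T : Scheme.{u}} (g : T ⟶ Spec (CommRingCat.of A))
    (hg : BlowUp.IsEffCartierIdeal ((idealSheaf I).comap g)) : LocGen I a₀ g := by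
  intro t
  obtain ⟨U, htU, f, hf, hIU⟩ := hg t
  rw [ideal_comap I g U] at hIU
  obtain ⟨a', ha', β, hβ, htβ⟩ := exists_gen_basicOpen U f hf hIU t htU
  have hG : Gen I a' g (T.basicOpen β) := gen_basicOpen U f β hf hIU hβ
  refine ⟨⟨T.basicOpen β, U.2.basicOpen β⟩, htβ, ?_⟩
  exact gen_of_gen hinj I hIB a₀ ha₀ hgen (secMap g (T.basicOpen β)) a' ha' hG.1 hG.2

lemma hom_ext_of_locGen {T : Scheme.{u}} {g : T ⟶ Spec (CommRingCat.of A)} (hG : LocGen I a₀ g)
    (k₁ k₂ : T ⟶ Spec (CommRingCat.of B))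
    (h₁ : k₁ ≫ specMap A B = g) (h₂ : k₂ ≫ specMap A B = g) : k₁ = k₂ := by
  apply ext_to_Spec
  apply CommRingCat.hom_ext
  apply ringHom_ext' hinj I hIB a₀ ha₀ hgen
  · intro r
    exact (secMap_eq_of_comp' k₁ h₁ r).trans (secMap_eq_of_comp' k₂ h₂ r).symm
  · have := secMap_eq_of_comp' k₁ h₁ a₀
    rw [show (CommRingCat.Hom.hom ((Scheme.ΓSpecIso (CommRingCat.of B)).inv ≫ Scheme.Γ.map k₁.op))
      ((algebraMap A B) a₀) = secMap g ⊤ a₀ from this]
    exact hG.nzd ⊤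

lemma exists_hom_of_locGen {T : Scheme.{u}} {g : T ⟶ Spec (CommRingCat.of A)}
    (hG : LocGen I a₀ g) :
    ∃ k : T ⟶ Spec (CommRingCat.of B), k ≫ specMap A B = g := by
  obtain ⟨θ, hθ⟩ := exists_lift' hinj I hIB a₀ ha₀ hgen (secMap g ⊤) (hG.nzd ⊤)
    (fun x hx => hG.exists_div ⊤ x hx)
  refine ⟨T.toSpecΓ ≫ Spec.map (CommRingCat.ofHom θ), ?_⟩
  apply ext_to_Spec
  apply CommRingCat.hom_ext
  ext r
  have h1 : ((T.toSpecΓ ≫ Spec.map (CommRingCat.ofHom θ)) ≫ specMap A B) =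
      T.toSpecΓ ≫ Spec.map (CommRingCat.ofHom (secMap g ⊤)) := by
    rw [Category.assoc, specMap, ← Spec.map_comp]
    congr 2
    ext r
    exact hθ r
  rw [h1]
  change ((Scheme.ΓSpecIso (CommRingCat.of A)).inv ≫
    (T.toSpecΓ ≫ Spec.map (CommRingCat.ofHom (secMap g ⊤))).appTop).hom r =
    ((Scheme.ΓSpecIso (CommRingCat.of A)).inv ≫ g.appTop).hom r
  rw [Scheme.Hom.comp_appTop, ← Scheme.ΓSpecIso_inv_naturality_assoc, Scheme.toSpecΓ_appTop,
    Iso.inv_hom_id, Category.comp_id]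
  rw [CommRingCat.hom_ofHom, secMap_top]

lemma locGen_specMap (hf : algebraMap A B a₀ ∈ nonZeroDivisors B) :
    LocGen I a₀ (specMap A B) := by
  intro t
  have hsec : ∀ r, secMap (specMap A B) ⊤ r =
      (Scheme.ΓSpecIso (CommRingCat.of B)).inv.hom (algebraMap A B r) := by
    intro r
    rw [secMap_top]
    have h2 := Scheme.ΓSpecIso_inv_naturality (CommRingCat.ofHom (algebraMap A B))
    exact (congrArg (fun φ => φ.hom r) h2).symm
  have hsec' : secMap (specMap A B) ⊤ =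
      (Scheme.ΓSpecIso (CommRingCat.of B)).inv.hom.comp (algebraMap A B) := RingHom.ext hsec
  have hbij : Function.Bijective (Scheme.ΓSpecIso (CommRingCat.of B)).inv.hom :=
    (ConcreteCategory.isIso_iff_bijective _).1 inferInstance
  refine ⟨⟨⊤, isAffineOpen_top _⟩, trivial, ?_, ?_⟩
  · rw [hsec a₀]
    exact map_mem_nonZeroDivisors_of_flat _ (RingHom.Flat.of_bijective hbij) _ hf
  · rw [hsec', ← Ideal.map_map, hgen, Ideal.map_span, Set.image_singleton]
    rfl

theorem isBlowUp_specMap (hf : algebraMap A B a₀ ∈ nonZeroDivisors B) :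
    BlowUp.IsBlowUp (specMap A B) (idealSheaf I) := by
  refine ⟨(locGen_specMap hinj I hIB a₀ ha₀ hgen hf).isEffCartierIdeal, ?_⟩
  intro Y g hg
  have hG := locGen_of_isEffCartierIdeal hinj I hIB a₀ ha₀ hgen g hg
  obtain ⟨k, hk⟩ := exists_hom_of_locGen hinj I hIB a₀ ha₀ hgen hG
  exact ⟨k, hk, fun k' hk' => hom_ext_of_locGen hinj I hIB a₀ ha₀ hgen hG k' k hk' hk⟩

end Geom

end Groth.Agent.Lib.Helper9.BlowSpec
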