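import Groth.Agent.Lib.Helper29.AffBlowGeom
import Groth.Prelude.Def_CurvBase

set_option autoImplicit false
universe u
open CategoryTheory CategoryTheory.Limits AlgebraicGeometry Opposite TopologicalSpace

namespace Groth.Agent.Lib.Helper9.BlowSpec
open Groth.Agent.Lib.Helper29.AffBlow Groth.Agent.Lib.Helper29.EffCart

section Alg

variable {A B : Type u} [CommRing A] [CommRing B] [Algebra A B]
  (hinj : Function.Injective (algebraMap A B)) (I : Ideal A)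
  (hIB : (Ideal.map (algebraMap A B) I : Set B) ⊆ algebraMap A B '' (I : Set A))
  (a₀ : A) (ha₀ : a₀ ∈ I) 
  (hgen : Ideal.map (algebraMap A B) I = Ideal.span {algebraMap A B a₀})

include hinj hIB ha₀ hgen

lemma exists_mul_eq (b : B) : ∃ y ∈ I, algebraMap A B y = algebraMap A B a₀ * b := by
  have h : algebraMap A B a₀ * b ∈ Ideal.map (algebraMap A B) I :=
    Ideal.mul_mem_right _ _ (Ideal.mem_map_of_mem _ ha₀)
  obtain ⟨y, hy, hy'⟩ := hIB h
  exact ⟨y, hy, hy'⟩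

/-- if some `x₀ ∈ I` generates `I·C` as a nonzerodivisor, so does `a₀`. -/
lemma gen_of_gen {C : Type*} [CommRing C] (ψ : A →+* C) (x₀ : A) (hx₀ : x₀ ∈ I)
    (hnzd : ψ x₀ ∈ nonZeroDivisors C) (hspan : I.map ψ = Ideal.span {ψ x₀}) :
    ψ a₀ ∈ nonZeroDivisors C ∧ I.map ψ = Ideal.span {ψ a₀} := by
  have h1 : algebraMap A B x₀ ∈ Ideal.span {algebraMap A B a₀} :=
    hgen ▸ Ideal.mem_map_of_mem _ hx₀
  obtain ⟨b₀, hb₀⟩ := Ideal.mem_span_singleton'.1 h1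
  obtain ⟨y, hy, hy'⟩ := exists_mul_eq hinj I hIB a₀ ha₀ hgen (b₀ * b₀)
  have h2 : x₀ * x₀ = a₀ * y := by
    apply hinj
    rw [map_mul, map_mul, hy', ← hb₀]; ring
  have h3 : ψ a₀ ∈ Ideal.span {ψ x₀} := hspan ▸ Ideal.mem_map_of_mem _ ha₀
  have h4 : ψ y ∈ Ideal.span {ψ x₀} := hspan ▸ Ideal.mem_map_of_mem _ hy
  obtain ⟨u, hu⟩ := Ideal.mem_span_singleton'.1 h3
  obtain ⟨v, hv⟩ := Ideal.mem_span_singleton'.1 h4
  have h5 : (u * v - 1) * (ψ x₀ * ψ x₀) = 0 := by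
    have : ψ x₀ * ψ x₀ = ψ a₀ * ψ y := by rw [← map_mul, h2, map_mul]
    rw [sub_mul, one_mul, sub_eq_zero]
    conv_rhs => rw [this, ← hu, ← hv]
    ring
  have h6 : u * v = 1 :=
    sub_eq_zero.1 ((mem_nonZeroDivisors_iff_right.1 (mul_mem hnzd hnzd)) _ h5)
  have hunit : IsUnit u := IsUnit.of_mul_eq_one _ h6
  refine ⟨?_, ?_⟩
  · rw [← hu]
    exact mul_mem (IsUnit.mem_nonZeroDivisors hunit) hnzd
  · rw [hspan, ← hu]
    exact (Ideal.span_singleton_mul_left_unit hunit _).symm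

lemma ringHom_ext' {C : Type*} [CommRing C] (θ₁ θ₂ : B →+* C)
    (h : ∀ r : A, θ₁ (algebraMap A B r) = θ₂ (algebraMap A B r))
    (hnzd : θ₁ (algebraMap A B a₀) ∈ nonZeroDivisors C) : θ₁ = θ₂ := by
  ext b
  obtain ⟨y, hy, hy'⟩ := exists_mul_eq hinj I hIB a₀ ha₀ hgen b
  have e1 := congrArg θ₁ hy'
  have e2 := congrArg θ₂ hy'
  rw [map_mul] at e1 e2
  rw [h y, e2, ← h a₀] at e1
  have h0 : (θ₂ b - θ₁ b) * θ₁ (algebraMap A B a₀) = 0 := by
    rw [sub_mul, mul_comm, e1, mul_comm, sub_self]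
  exact (sub_eq_zero.1 ((mem_nonZeroDivisors_iff_right.1 hnzd) _ h0)).symm

theorem exists_lift' {C : Type*} [CommRing C] (Ψ : A →+* C) (hnzd : Ψ a₀ ∈ nonZeroDivisors C)
    (hdiv : ∀ x ∈ I, ∃ s : C, Ψ x = Ψ a₀ * s) :
    ∃ θ : B →+* C, ∀ r : A, θ (algebraMap A B r) = Ψ r := by
  classical
  let R : B → C → Prop := fun b c => ∃ y ∈ I, algebraMap A B y = algebraMap A B a₀ * b ∧
    Ψ y = Ψ a₀ * c
  have hcancel : ∀ c c' : C, Ψ a₀ * c = Ψ a₀ * c' → c = c' := fun c c' h =>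
    (mul_cancel_left_mem_nonZeroDivisors hnzd).1 h
  have hex : ∀ b, ∃ c, R b c := by
    intro b
    obtain ⟨y, hy, hy'⟩ := exists_mul_eq hinj I hIB a₀ ha₀ hgen b
    obtain ⟨s, hs⟩ := hdiv y hy
    exact ⟨s, y, hy, hy', hs⟩
  have huniq : ∀ b c c', R b c → R b c' → c = c' := by
    rintro b c c' ⟨y, hy, hy', hc⟩ ⟨z, hz, hz', hc'⟩
    have : y = z := hinj (hy'.trans hz'.symm)
    subst this
    exact hcancel _ _ (hc.symm.trans hc')
  choose θ hθ using hex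
  have hθ' : ∀ b c, R b c → θ b = c := fun b c h => huniq b _ _ (hθ b) h
  have hone : R 1 1 := ⟨a₀, ha₀, by rw [mul_one], by rw [mul_one]⟩
  have hzero : R 0 0 := ⟨0, I.zero_mem, by rw [map_zero, mul_zero], by rw [map_zero, mul_zero]⟩
  have hadd : ∀ b b' c c', R b c → R b' c' → R (b + b') (c + c') := by
    rintro b b' c c' ⟨y, hy, hy', hc⟩ ⟨z, hz, hz', hc'⟩
    exact ⟨y + z, I.add_mem hy hz, by rw [map_add, hy', hz', mul_add],
      by rw [map_add, hc, hc', mul_add]⟩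
  have hmul : ∀ b b' c c', R b c → R b' c' → R (b * b') (c * c') := by
    rintro b b' c c' ⟨y, hy, hy', hc⟩ ⟨z, hz, hz', hc'⟩
    obtain ⟨w, hw, hw'⟩ := exists_mul_eq hinj I hIB a₀ ha₀ hgen (b * b')
    refine ⟨w, hw, hw', ?_⟩
    have h1 : a₀ * w = y * z := by
      apply hinj
      rw [map_mul, map_mul, hw', hy', hz']; ring
    apply hcancel
    rw [← map_mul, h1, map_mul, hc, hc']; ring
  refine ⟨{ toFun := θ
            map_one' := hθ' _ _ hone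
            map_zero' := hθ' _ _ hzero
            map_add' := fun b b' => hθ' _ _ (hadd _ _ _ _ (hθ b) (hθ b'))
            map_mul' := fun b b' => hθ' _ _ (hmul _ _ _ _ (hθ b) (hθ b')) }, ?_⟩
  intro r
  change θ (algebraMap A B r) = Ψ r
  exact hθ' _ _ ⟨a₀ * r, I.mul_mem_right _ ha₀, by rw [map_mul], by rw [map_mul]⟩

end Alg

end Groth.Agent.Lib.Helper9.BlowSpec
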