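import Mathlib

set_option backward.isDefEq.respectTransparency false
set_option maxHeartbeats 800000
set_option autoImplicit false
set_option linter.unusedSectionVars false
set_option linter.unusedVariables false
universe u
open CategoryTheory CategoryTheory.Limits AlgebraicGeometry Opposite TopologicalSpace

namespace Groth.Agent.Lib.Helper9.CCBij

section top

variable {α : Type*} [TopologicalSpace α]

theorem finite_connectedComponents [NoetherianSpace α] : Finite (ConnectedComponents α) := by
  have hfin : (irreducibleComponents α).Finite := NoetherianSpace.finite_irreducibleComponents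
  haveI : Finite (irreducibleComponents α) := hfin.to_subtype
  have hne : ∀ t : irreducibleComponents α, (t : Set α).Nonempty := fun t => t.2.1.nonempty
  let f : irreducibleComponents α → ConnectedComponents α :=
    fun t => ConnectedComponents.mk (hne t).some
  refine Finite.of_surjective f ?_
  intro c
  obtain ⟨x, rfl⟩ := ConnectedComponents.surjective_coe c
  let t : irreducibleComponents α := ⟨irreducibleComponent x, irreducibleComponent_mem_irreducibleComponents x⟩
  refine ⟨t, ?_⟩
  change ConnectedComponents.mk (hne t).some = ConnectedComponents.mk x
  rw [ConnectedComponents.coe_eq_coe']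
  have h1 : (hne t).some ∈ irreducibleComponent x := (hne t).some_mem
  have h2 : irreducibleComponent x ⊆ connectedComponent x :=
    (isIrreducible_irreducibleComponent (x := x)).isConnected.isPreconnected.subset_connectedComponent
      mem_irreducibleComponent
  exact h2 h1

theorem isClopen_preimage_mk [Finite (ConnectedComponents α)] (S : Set (ConnectedComponents α)) :
    IsClopen (ConnectedComponents.mk ⁻¹' S : Set α) := by
  have hcl : ∀ T : Set (ConnectedComponents α), IsClosed (ConnectedComponents.mk ⁻¹' T : Set α) := by
    intro T
    have : (ConnectedComponents.mk ⁻¹' T : Set α) = ⋃ c ∈ T, ConnectedComponents.mk ⁻¹' {c} := by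
      ext x; simp
    rw [this]
    refine (Set.toFinite T).isClosed_biUnion fun c _ => ?_
    obtain ⟨x, rfl⟩ := ConnectedComponents.surjective_coe c
    rw [connectedComponents_preimage_singleton]
    exact isClosed_connectedComponent
  refine ⟨hcl S, ?_⟩
  rw [← isClosed_compl_iff, ← Set.preimage_compl]
  exact hcl _

theorem preimage_image_mk_of_isClopen {C : Set α} (hC : IsClopen C) :
    (ConnectedComponents.mk ⁻¹' (ConnectedComponents.mk '' C) : Set α) = C := by
  ext x
  constructor
  · rintro ⟨y, hy, hxy⟩
    rw [ConnectedComponents.coe_eq_coe'] at hxy
    have : connectedComponent x ⊆ C := by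
      have h1 : connectedComponent y ⊆ C := hC.connectedComponent_subset hy
      rw [connectedComponent_eq hxy]
      exact h1
    exact this mem_connectedComponent
  · intro hx
    exact ⟨x, hx, rfl⟩

variable {β : Type*} [TopologicalSpace β]

/-- surjectivity on clopen sets from injectivity on `π₀` -/
theorem exists_clopen_of_injective [Finite (ConnectedComponents β)] {q : α → β} (hq : Continuous q)
    (hinj : Function.Injective hq.connectedComponentsMap) (C' : Set α) (hC' : IsClopen C') :
    ∃ C : Set β, IsClopen C ∧ q ⁻¹' C = C' := by
  let S' : Set (ConnectedComponents α) := ConnectedComponents.mk '' C'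
  let S : Set (ConnectedComponents β) := hq.connectedComponentsMap '' S'
  refine ⟨ConnectedComponents.mk ⁻¹' S, isClopen_preimage_mk S, ?_⟩
  rw [← preimage_image_mk_of_isClopen hC']
  ext x
  change hq.connectedComponentsMap (ConnectedComponents.mk x) ∈ S ↔ ConnectedComponents.mk x ∈ S'
  constructor
  · rintro ⟨c, hc, hcx⟩
    rw [← hinj hcx]; exact hc
  · intro hx
    exact ⟨_, hx, rfl⟩

/-- injectivity on clopen sets (top only) from surjectivity on `π₀` -/
theorem eq_univ_of_surjective {q : α → β} (hq : Continuous q)
    (hsurj : Function.Surjective hq.connectedComponentsMap) (D : Set β) (hD : IsClopen D)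
    (h : q ⁻¹' D = Set.univ) : D = Set.univ := by
  apply Set.eq_univ_of_forall
  intro z
  obtain ⟨c, hc⟩ := hsurj (ConnectedComponents.mk z)
  obtain ⟨z₀, rfl⟩ := ConnectedComponents.surjective_coe c
  have h1 : q z₀ ∈ D := by
    have : z₀ ∈ q ⁻¹' D := by rw [h]; trivial
    exact this
  have h2 : ConnectedComponents.mk (q z₀) = ConnectedComponents.mk z := hc
  rw [ConnectedComponents.coe_eq_coe'] at h2
  have h3 : connectedComponent (q z₀) ⊆ D := hD.connectedComponent_subset h1
  rw [← connectedComponent_eq h2] at h3
  exact h3 mem_connectedComponent

end top

end Groth.Agent.Lib.Helper9.CCBij
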