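import Mathlib
import Groth.Agent.Lib.Helper9.PushLoc
import Groth.Agent.Lib.Helper9.RingPB

set_option autoImplicit false
set_option linter.style.haveILetI false
set_option linter.unusedSectionVars false
universe u v w
open CategoryTheory CategoryTheory.Limits AlgebraicGeometry TopologicalSpace Opposite Topology

namespace Groth.Agent.Lib.Helper9.ClosedPO

open Groth.Agent.Lib.Helper9.PushLoc Groth.Agent.Lib.Helper9.RingPB

/-- `C/(𝔞 ⊓ 𝔟) = C/𝔞 ×_{C/(𝔞 ⊔ 𝔟)} C/𝔟`, in elementary terms. -/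
theorem isPB_of_quotients {C Q Q₁ Q₂ Q₀ : Type*} [CommRing C] [CommRing Q] [CommRing Q₁]
    [CommRing Q₂] [CommRing Q₀] (𝔞 𝔟 : Ideal C)
    (σ : C →+* Q) (σ₁ : C →+* Q₁) (σ₂ : C →+* Q₂) (σ₀ : C →+* Q₀)
    (hσ : Function.Surjective σ) (hσ₁ : Function.Surjective σ₁) (hσ₂ : Function.Surjective σ₂)
    (kσ : RingHom.ker σ = 𝔞 ⊓ 𝔟) (kσ₁ : RingHom.ker σ₁ = 𝔞) (kσ₂ : RingHom.ker σ₂ = 𝔟)
    (kσ₀ : RingHom.ker σ₀ = 𝔞 ⊔ 𝔟)
    (π₁ : Q →+* Q₁) (π₂ : Q →+* Q₂) (q₁ : Q₁ →+* Q₀) (q₂ : Q₂ →+* Q₀)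
    (h1 : ∀ t, π₁ (σ t) = σ₁ t) (h2 : ∀ t, π₂ (σ t) = σ₂ t) (h3 : ∀ t, q₁ (σ₁ t) = σ₀ t)
    (h4 : ∀ t, q₂ (σ₂ t) = σ₀ t) : IsPB π₁ π₂ q₁ q₂ := by
  refine ⟨fun x => ?_, fun x hx1 hx2 => ?_, fun x₁ x₂ hx => ?_⟩
  · obtain ⟨t, rfl⟩ := hσ x
    rw [h1, h2, h3, h4]
  · obtain ⟨t, rfl⟩ := hσ x
    rw [h1] at hx1
    rw [h2] at hx2
    have ht : t ∈ RingHom.ker σ := by
      rw [kσ]
      exact ⟨kσ₁ ▸ RingHom.mem_ker.mpr hx1, kσ₂ ▸ RingHom.mem_ker.mpr hx2⟩
    exact RingHom.mem_ker.mp ht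
  · obtain ⟨t₁, rfl⟩ := hσ₁ x₁
    obtain ⟨t₂, rfl⟩ := hσ₂ x₂
    rw [h3, h4] at hx
    have hmem : t₁ - t₂ ∈ 𝔞 ⊔ 𝔟 := by
      rw [← kσ₀, RingHom.mem_ker, map_sub, hx, sub_self]
    obtain ⟨u, hu, v, hv, huv⟩ := Submodule.mem_sup.mp hmem
    have hu0 : σ₁ u = 0 := RingHom.mem_ker.mp (kσ₁.symm ▸ hu)
    have hv0 : σ₂ v = 0 := RingHom.mem_ker.mp (kσ₂.symm ▸ hv)
    refine ⟨σ (t₁ - u), ?_, ?_⟩
    · rw [h1, map_sub, hu0, sub_zero]
    · have : t₁ - u = t₂ + v := by linear_combination -huv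
      rw [h2, this, map_add, hv0, add_zero]

variable {S : Scheme.{u}}

theorem app_props (I : S.IdealSheafData) (U : S.affineOpens) {k : I.subscheme ⟶ S}
    (h : k = I.subschemeι) :
    Function.Surjective (k.app U.1).hom ∧ RingHom.ker (k.app U.1).hom = I.ideal U := by
  subst h
  exact ⟨I.subschemeι_app_surjective U, I.ker_subschemeι_app U⟩

theorem inclusion_injective {I J : S.IdealSheafData} (h : I ≤ J) :
    Function.Injective (Scheme.IdealSheafData.inclusion h) := by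
  intro x y hxy
  have := congrArg I.subschemeι hxy
  rw [← Scheme.Hom.comp_apply, ← Scheme.Hom.comp_apply,
    Scheme.IdealSheafData.inclusion_subschemeι] at this
  exact J.subschemeι.isEmbedding.injective this

theorem inclusion_apply {I J : S.IdealSheafData} (h : I ≤ J) (x : J.subscheme) :
    I.subschemeι (Scheme.IdealSheafData.inclusion h x) = J.subschemeι x := by
  rw [← Scheme.Hom.comp_apply, Scheme.IdealSheafData.inclusion_subschemeι]

theorem mul_le_inf' (I J : S.IdealSheafData) : I * J ≤ I ⊓ J := by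
  rw [Scheme.IdealSheafData.le_def]
  intro U
  change I.ideal U * J.ideal U ≤ I.ideal U ⊓ J.ideal U
  exact Ideal.mul_le_inf

theorem support_inf_le (I J : S.IdealSheafData) (x : S) (hx : x ∈ (I ⊓ J).support) :
    x ∈ I.support ∨ x ∈ J.support := by
  have h1 := Scheme.IdealSheafData.support_antitone (mul_le_inf' I J) hx
  rw [Scheme.IdealSheafData.support_mul] at h1
  exact h1

theorem mem_support_subschemeι (I : S.IdealSheafData) (x : I.subscheme) :
    I.subschemeι x ∈ I.support := by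
  have : I.subschemeι x ∈ Set.range I.subschemeι := ⟨x, rfl⟩
  rw [Scheme.IdealSheafData.range_subschemeι] at this
  exact this

theorem exists_of_mem_support (I : S.IdealSheafData) {s : S} (h : s ∈ I.support) :
    ∃ x, I.subschemeι x = s := by
  have : s ∈ (I.support : Set S) := h
  rw [← Scheme.IdealSheafData.range_subschemeι] at this
  exact this

section main
variable (I J : S.IdealSheafData)

open Scheme.IdealSheafData in
theorem topPushout :
    TopPushout (inclusion (le_sup_left : I ≤ I ⊔ J)) (inclusion (le_sup_right : J ≤ I ⊔ J))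
      (inclusion (inf_le_left : I ⊓ J ≤ I)) (inclusion (inf_le_right : I ⊓ J ≤ J)) := by
  have hsurj : ∀ x : (I ⊓ J).subscheme,
      (∃ x', inclusion (inf_le_left : I ⊓ J ≤ I) x' = x) ∨
        ∃ y, inclusion (inf_le_right : I ⊓ J ≤ J) y = x := by
    intro x
    rcases support_inf_le I J _ (mem_support_subschemeι _ x) with h | h
    · obtain ⟨x', hx'⟩ := exists_of_mem_support I h
      refine Or.inl ⟨x', (I ⊓ J).subschemeι.isEmbedding.injective ?_⟩
      rw [inclusion_apply, hx']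
    · obtain ⟨y, hy⟩ := exists_of_mem_support J h
      refine Or.inr ⟨y, (I ⊓ J).subschemeι.isEmbedding.injective ?_⟩
      rw [inclusion_apply, hy]
  refine ⟨hsurj, fun x' x'' h => Or.inl (inclusion_injective _ h),
    fun y' y'' h => Or.inl (inclusion_injective _ h), fun x' y h => ?_, fun W h1 h2 => ?_⟩
  · have e : I.subschemeι x' = J.subschemeι y := by
      rw [← inclusion_apply (inf_le_left : I ⊓ J ≤ I), h, inclusion_apply]
    have hz : I.subschemeι x' ∈ (I ⊔ J).support := by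
      rw [support_sup]
      exact ⟨mem_support_subschemeι I x', e ▸ mem_support_subschemeι J y⟩
    obtain ⟨z, hz⟩ := exists_of_mem_support _ hz
    refine ⟨z, I.subschemeι.isEmbedding.injective ?_, J.subschemeι.isEmbedding.injective ?_⟩
    · rw [inclusion_apply, hz]
    · rw [inclusion_apply, hz, e]
  · rw [← isClosed_compl_iff]
    have : Wᶜ = inclusion (inf_le_left : I ⊓ J ≤ I) '' (inclusion (inf_le_left : I ⊓ J ≤ I) ⁻¹' W)ᶜ ∪
        inclusion (inf_le_right : I ⊓ J ≤ J) '' (inclusion (inf_le_right : I ⊓ J ≤ J) ⁻¹' W)ᶜ := by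
      ext x
      constructor
      · intro hx
        rcases hsurj x with ⟨x', rfl⟩ | ⟨y, rfl⟩
        · exact Or.inl ⟨x', hx, rfl⟩
        · exact Or.inr ⟨y, hx, rfl⟩
      · rintro (⟨x', hx', rfl⟩ | ⟨y, hy, rfl⟩)
        · exact hx'
        · exact hy
    rw [this]
    exact ((inclusion (inf_le_left : I ⊓ J ≤ I)).isClosedMap _ h1.isClosed_compl).union
      ((inclusion (inf_le_right : I ⊓ J ≤ J)).isClosedMap _ h2.isClosed_compl)

open Scheme.IdealSheafData in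
theorem comm_sq : inclusion (le_sup_left : I ≤ I ⊔ J) ≫ inclusion (inf_le_left : I ⊓ J ≤ I) =
    inclusion (le_sup_right : J ≤ I ⊔ J) ≫ inclusion (inf_le_right : I ⊓ J ≤ J) := by
  rw [inclusion_comp, inclusion_comp]

open Scheme.IdealSheafData in
theorem sheafPB (U : S.affineOpens) :
    SheafPB (comm_sq I J) ((I ⊓ J).subschemeι ⁻¹ᵁ U.1) := by
  have hX := app_props I U
    (inclusion_subschemeι (inf_le_left : I ⊓ J ≤ I))
  have hY := app_props J U
    (inclusion_subschemeι (inf_le_right : I ⊓ J ≤ J))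
  have hZ := app_props (I ⊔ J) U
    (k := inclusion (le_sup_left : I ≤ I ⊔ J) ≫ inclusion (inf_le_left : I ⊓ J ≤ I) ≫
      (I ⊓ J).subschemeι)
    (by rw [inclusion_subschemeι, inclusion_subschemeι])
  have hP := app_props (I ⊓ J) U rfl
  have H := isPB_of_quotients (I.ideal U) (J.ideal U)
    ((I ⊓ J).subschemeι.app U.1).hom
    ((inclusion (inf_le_left : I ⊓ J ≤ I) ≫ (I ⊓ J).subschemeι).app U.1).hom
    ((inclusion (inf_le_right : I ⊓ J ≤ J) ≫ (I ⊓ J).subschemeι).app U.1).hom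
    ((inclusion (le_sup_left : I ≤ I ⊔ J) ≫ inclusion (inf_le_left : I ⊓ J ≤ I) ≫
      (I ⊓ J).subschemeι).app U.1).hom
    hP.1 hX.1 hY.1 hP.2 hX.2 hY.2 hZ.2
    ((inclusion (inf_le_left : I ⊓ J ≤ I)).app ((I ⊓ J).subschemeι ⁻¹ᵁ U.1)).hom
    ((inclusion (inf_le_right : I ⊓ J ≤ J)).app ((I ⊓ J).subschemeι ⁻¹ᵁ U.1)).hom
    ((inclusion (le_sup_left : I ≤ I ⊔ J)).app
      (inclusion (inf_le_left : I ⊓ J ≤ I) ⁻¹ᵁ ((I ⊓ J).subschemeι ⁻¹ᵁ U.1))).hom
    ((inclusion (le_sup_right : J ≤ I ⊔ J)).appLE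
      (inclusion (inf_le_right : I ⊓ J ≤ J) ⁻¹ᵁ ((I ⊓ J).subschemeι ⁻¹ᵁ U.1))
      (inclusion (le_sup_left : I ≤ I ⊔ J) ⁻¹ᵁ
        (inclusion (inf_le_left : I ⊓ J ≤ I) ⁻¹ᵁ ((I ⊓ J).subschemeι ⁻¹ᵁ U.1)))
      (preimage_le (comm_sq I J) _)).hom
    (fun t => by rw [Scheme.Hom.comp_app]; rfl)
    (fun t => by rw [Scheme.Hom.comp_app]; rfl)
    (fun t => by
      rw [Scheme.Hom.comp_app (inclusion (le_sup_left : I ≤ I ⊔ J))]; rfl)
    (fun t => by
      have : ((I ⊓ J).subschemeι.app U.1 ≫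
            (inclusion (inf_le_right : I ⊓ J ≤ J)).app ((I ⊓ J).subschemeι ⁻¹ᵁ U.1)) ≫
          (inclusion (le_sup_right : J ≤ I ⊔ J)).appLE
            (inclusion (inf_le_right : I ⊓ J ≤ J) ⁻¹ᵁ ((I ⊓ J).subschemeι ⁻¹ᵁ U.1))
            (inclusion (le_sup_left : I ≤ I ⊔ J) ⁻¹ᵁ
              (inclusion (inf_le_left : I ⊓ J ≤ I) ⁻¹ᵁ ((I ⊓ J).subschemeι ⁻¹ᵁ U.1)))
            (preimage_le (comm_sq I J) _) =
          ((I ⊓ J).subschemeι.app U.1 ≫
            (inclusion (inf_le_left : I ⊓ J ≤ I)).app ((I ⊓ J).subschemeι ⁻¹ᵁ U.1)) ≫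
          (inclusion (le_sup_left : I ≤ I ⊔ J)).app
            (inclusion (inf_le_left : I ⊓ J ≤ I) ⁻¹ᵁ ((I ⊓ J).subschemeι ⁻¹ᵁ U.1)) := by
        rw [Category.assoc, Category.assoc,
          Scheme.Hom.app_eq_appLE (f := inclusion (inf_le_right : I ⊓ J ≤ J)),
          Scheme.Hom.appLE_comp_appLE,
          Scheme.Hom.app_eq_appLE (f := inclusion (inf_le_left : I ⊓ J ≤ I)),
          Scheme.Hom.app_eq_appLE (f := inclusion (le_sup_left : I ≤ I ⊔ J)),
          Scheme.Hom.appLE_comp_appLE]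
        congr 1
        exact appLE_congr_hom (comm_sq I J).symm _ _ _ _
      exact congrArg (fun φ => φ.hom t) this)
  exact ⟨H.inj, H.ex⟩

open Scheme.IdealSheafData in
/-- **The scheme-theoretic union of two closed subschemes is their pushout along the
scheme-theoretic intersection.** -/
theorem isPushout :
    IsPushout (inclusion (le_sup_left : I ≤ I ⊔ J)) (inclusion (le_sup_right : J ≤ I ⊔ J))
      (inclusion (inf_le_left : I ⊓ J ≤ I)) (inclusion (inf_le_right : I ⊓ J ≤ J)) := by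
  refine isPushout_of_local (comm_sq I J) (topPushout I J) _
    (S.isBasis_affineOpens.of_isInducing (I ⊓ J).subschemeι.isEmbedding.isInducing) ?_
  rintro _ ⟨U, hU, rfl⟩
  exact sheafPB I J ⟨U, hU⟩

end main

end Groth.Agent.Lib.Helper9.ClosedPO
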