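import Mathlib

set_option autoImplicit false
universe u
open TensorProduct

namespace Groth.Agent.Lib.Helper9.CompLoc

section abstract

variable {A R : Type*} [CommRing A] [CommRing R] [Algebra A R]
  (B : Type*) [CommRing B] [Algebra A B]

lemma exists_one_tmul (hsurj : Function.Surjective (algebraMap A R)) (z : R ⊗[A] B) :
    ∃ b : B, z = (1 : R) ⊗ₜ[A] b := by
  induction z using TensorProduct.induction_on with
  | zero => exact ⟨0, by simp⟩
  | tmul r b =>
    obtain ⟨a, rfl⟩ := hsurj r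
    refine ⟨a • b, ?_⟩
    rw [← TensorProduct.smul_tmul, Algebra.smul_def, mul_one]
  | add x y hx hy =>
    obtain ⟨b, rfl⟩ := hx
    obtain ⟨b', rfl⟩ := hy
    exact ⟨b + b', by rw [TensorProduct.tmul_add]⟩

lemma one_tmul_eq_zero_of_mem (b : B)
    (hb : b ∈ Ideal.map (algebraMap A B) (RingHom.ker (algebraMap A R))) :
    (1 : R) ⊗ₜ[A] b = 0 := by
  rw [Ideal.map] at hb
  induction hb using Submodule.span_induction with
  | mem x hx =>
    obtain ⟨a, ha, rfl⟩ := hx
    have : algebraMap A B a = a • (1 : B) := by rw [Algebra.smul_def, mul_one]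
    rw [this, ← TensorProduct.smul_tmul, Algebra.smul_def, mul_one]
    have ha' : algebraMap A R a = 0 := ha
    rw [ha', TensorProduct.zero_tmul]
  | zero => simp
  | add x y _ _ hx hy => rw [TensorProduct.tmul_add, hx, hy, add_zero]
  | smul c x _ hx =>
    have h1 : (1 : R) ⊗ₜ[A] (c • x) = ((1 : R) ⊗ₜ[A] c) * ((1 : R) ⊗ₜ[A] x) := by
      rw [Algebra.TensorProduct.tmul_mul_tmul, mul_one, smul_eq_mul]
    rw [h1, hx, mul_zero]

lemma mem_of_one_tmul_eq_zero (hsurj : Function.Surjective (algebraMap A R)) (b : B)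
    (h : (1 : R) ⊗ₜ[A] b = 0) :
    b ∈ Ideal.map (algebraMap A B) (RingHom.ker (algebraMap A R)) := by
  have hex := rTensor_exact B (LinearMap.exact_subtype_ker_map (Algebra.linearMap A R)) hsurj
  have h1 : LinearMap.rTensor B (Algebra.linearMap A R) ((1 : A) ⊗ₜ[A] b) = 0 := by
    rw [LinearMap.rTensor_tmul, Algebra.linearMap_apply, map_one]
    exact h
  obtain ⟨t, ht⟩ := (hex _).1 h1
  have h2 : b = TensorProduct.lid A B (LinearMap.rTensor B
      (LinearMap.ker (Algebra.linearMap A R)).subtype t) := by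
    rw [ht, TensorProduct.lid_tmul, one_smul]
  rw [h2]
  clear h2 ht
  induction t using TensorProduct.induction_on with
  | zero => simp
  | tmul x b' =>
    rw [LinearMap.rTensor_tmul, TensorProduct.lid_tmul, Submodule.subtype_apply, Algebra.smul_def]
    refine Ideal.mul_mem_right _ _ (Ideal.mem_map_of_mem _ ?_)
    exact x.2
  | add x y hx hy =>
    rw [map_add, map_add]
    exact Ideal.add_mem _ hx hy

/-- elements of `m B` are divisible by `f ^ n` inside `m B` -/
lemma exists_pow_mul_of_mem (f : A)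
    (h2 : ∀ x ∈ RingHom.ker (algebraMap A R), ∀ n : ℕ,
      ∃ y ∈ RingHom.ker (algebraMap A R), x = f ^ n * y) (n : ℕ) (b : B)
    (hb : b ∈ Ideal.map (algebraMap A B) (RingHom.ker (algebraMap A R))) :
    ∃ c ∈ Ideal.map (algebraMap A B) (RingHom.ker (algebraMap A R)),
      b = algebraMap A B f ^ n * c := by
  rw [Ideal.map] at hb
  induction hb using Submodule.span_induction with
  | mem x hx =>
    obtain ⟨a, ha, rfl⟩ := hx
    obtain ⟨y, hy, rfl⟩ := h2 a ha n
    exact ⟨algebraMap A B y, Ideal.mem_map_of_mem _ hy, by rw [map_mul, map_pow]⟩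
  | zero => exact ⟨0, Ideal.zero_mem _, by simp⟩
  | add x y _ _ hx hy =>
    obtain ⟨c, hc, rfl⟩ := hx
    obtain ⟨c', hc', rfl⟩ := hy
    exact ⟨c + c', Ideal.add_mem _ hc hc', by ring⟩
  | smul d x _ hx =>
    obtain ⟨c, hc, rfl⟩ := hx
    exact ⟨d * c, Ideal.mul_mem_left _ _ hc, by rw [smul_eq_mul]; ring⟩

theorem flat_tensor [IsDomain R] [ValuationRing R]
    (hsurj : Function.Surjective (algebraMap A R)) (f : A)
    (h2 : ∀ x ∈ RingHom.ker (algebraMap A R), ∀ n : ℕ,
      ∃ y ∈ RingHom.ker (algebraMap A R), x = f ^ n * y)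
    (h3 : ∀ a : A, algebraMap A R a ≠ 0 → ∃ (b : A) (n : ℕ), a * b = f ^ n)
    (hreg : algebraMap A B f ∈ nonZeroDivisors B) :
    Module.Flat R (R ⊗[A] B) := by
  rw [Module.Flat.flat_iff_torsion_eq_bot_of_isBezout, Submodule.eq_bot_iff]
  intro z hz
  rw [Submodule.mem_torsion_iff] at hz
  obtain ⟨⟨r, hr⟩, hrz⟩ := hz
  obtain ⟨b, rfl⟩ := exists_one_tmul B hsurj z
  obtain ⟨a, rfl⟩ := hsurj r
  have hane : algebraMap A R a ≠ 0 := nonZeroDivisors.ne_zero hr
  have h4 : (1 : R) ⊗ₜ[A] (a • b) = 0 := by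
    have : (algebraMap A R a) • ((1 : R) ⊗ₜ[A] b) = (1 : R) ⊗ₜ[A] (a • b) := by
      rw [TensorProduct.smul_tmul', smul_eq_mul, mul_one, ← TensorProduct.smul_tmul,
        Algebra.smul_def, mul_one]
    rw [← this]
    exact hrz
  have h5 := mem_of_one_tmul_eq_zero B hsurj _ h4
  obtain ⟨b', n, hab⟩ := h3 a hane
  have h6 : algebraMap A B f ^ n * b ∈
      Ideal.map (algebraMap A B) (RingHom.ker (algebraMap A R)) := by
    have : algebraMap A B f ^ n * b = algebraMap A B b' * (a • b) := by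
      rw [← map_pow, ← hab, map_mul, Algebra.smul_def]; ring
    rw [this]
    exact Ideal.mul_mem_left _ _ h5
  obtain ⟨c, hc, hfc⟩ := exists_pow_mul_of_mem B f h2 n _ h6
  have hbc : b = c := by
    have hn : algebraMap A B f ^ n ∈ nonZeroDivisors B := pow_mem hreg n
    exact (mul_cancel_left_mem_nonZeroDivisors hn).1 hfc
  rw [hbc]
  exact one_tmul_eq_zero_of_mem B c hc

end abstract

section concrete

variable {O : Type u} [CommRing O] [IsLocalRing O]
  (R : ValuationSubring (IsLocalRing.ResidueField O))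

/-- the residue map from the composite ring to the valuation ring -/
noncomputable def π : ↥((R.toSubring).comap (IsLocalRing.residue O)) →+* ↥R where
  toFun a := ⟨IsLocalRing.residue O a.1, a.2⟩
  map_one' := Subtype.ext (map_one _)
  map_mul' _ _ := Subtype.ext (map_mul _ _ _)
  map_zero' := Subtype.ext (map_zero _)
  map_add' _ _ := Subtype.ext (map_add _ _ _)

lemma π_surjective : Function.Surjective (π R) := by
  intro r
  obtain ⟨o, ho⟩ := IsLocalRing.residue_surjective r.1
  refine ⟨⟨o, ?_⟩, Subtype.ext ho⟩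
  change IsLocalRing.residue O o ∈ R
  rw [ho]
  exact r.2

lemma π_eq_zero_iff (a : ↥((R.toSubring).comap (IsLocalRing.residue O))) :
    π R a = 0 ↔ (a : O) ∈ IsLocalRing.maximalIdeal O := by
  rw [← IsLocalRing.residue_eq_zero_iff]
  constructor
  · intro h
    exact congrArg Subtype.val h
  · intro h
    exact Subtype.ext h

variable (f : ↥((R.toSubring).comap (IsLocalRing.residue O))) [IsLocalization.Away f O]

lemma isUnit_coe : IsUnit (f : O) := IsLocalization.Away.algebraMap_isUnit f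

include f in
lemma ker_div (x : ↥((R.toSubring).comap (IsLocalRing.residue O))) (hx : π R x = 0) (n : ℕ) :
    ∃ y, π R y = 0 ∧ x = f ^ n * y := by
  obtain ⟨u, hu⟩ := isUnit_coe R f
  have hx' := (π_eq_zero_iff R x).1 hx
  have hy₀ : ((u⁻¹ : Oˣ) : O) ^ n * x.1 ∈ IsLocalRing.maximalIdeal O :=
    Ideal.mul_mem_left _ _ hx'
  have hy₁ : IsLocalRing.residue O (((u⁻¹ : Oˣ) : O) ^ n * x.1) = 0 :=
    (IsLocalRing.residue_eq_zero_iff _).2 hy₀
  refine ⟨⟨((u⁻¹ : Oˣ) : O) ^ n * x.1, ?_⟩, ?_, ?_⟩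
  · change IsLocalRing.residue O _ ∈ R
    rw [hy₁]
    exact R.zero_mem
  · exact (π_eq_zero_iff R _).2 hy₀
  · apply Subtype.ext
    change x.1 = (f : O) ^ n * (((u⁻¹ : Oˣ) : O) ^ n * x.1)
    rw [← hu, ← mul_assoc, ← mul_pow, Units.mul_inv, one_pow, one_mul]

include f in
lemma exists_mul_eq_pow (a : ↥((R.toSubring).comap (IsLocalRing.residue O))) (ha : π R a ≠ 0) :
    ∃ (b : ↥((R.toSubring).comap (IsLocalRing.residue O))) (n : ℕ), a * b = f ^ n := by
  have ha' : (a : O) ∉ IsLocalRing.maximalIdeal O := fun h => ha ((π_eq_zero_iff R a).2 h)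
  have hu : IsUnit (a : O) := by
    by_contra h
    exact ha' ((IsLocalRing.mem_maximalIdeal _).2 h)
  obtain ⟨u, hu⟩ := hu
  obtain ⟨n, b, hb⟩ := IsLocalization.Away.surj f ((u⁻¹ : Oˣ) : O)
  refine ⟨b, n, ?_⟩
  apply Subtype.ext
  change (a : O) * (b : O) = (f : O) ^ n
  have hb' : ((u⁻¹ : Oˣ) : O) * (f : O) ^ n = (b : O) := hb
  rw [← hb', ← hu, ← mul_assoc, Units.mul_inv, one_mul]

/-- base change to the valuation ring is flat as soon as `f` is a nonzerodivisor -/
theorem flat_tensor_concrete (B : Type*) [CommRing B]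
    [Algebra ↥((R.toSubring).comap (IsLocalRing.residue O)) B]
    (hreg : algebraMap ↥((R.toSubring).comap (IsLocalRing.residue O)) B f ∈ nonZeroDivisors B) :
    letI := (π R).toAlgebra
    Module.Flat ↥R (↥R ⊗[↥((R.toSubring).comap (IsLocalRing.residue O))] B) := by
  letI := (π R).toAlgebra
  refine flat_tensor B (π_surjective R) f ?_ ?_ hreg
  · intro x hx n
    obtain ⟨y, hy, hxy⟩ := ker_div R f x hx n
    exact ⟨y, hy, hxy⟩
  · intro a ha
    exact exists_mul_eq_pow R f a ha

end concrete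

end Groth.Agent.Lib.Helper9.CompLoc
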