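import Groth.Agent.Lib.Helper9.CompLoc1
import Groth.Agent.Lib.Helper29.AffBlowGeom

set_option autoImplicit false
universe u
open CategoryTheory CategoryTheory.Limits AlgebraicGeometry TopologicalSpace TensorProduct

namespace Groth.Agent.Lib.Helper9.CompLoc

open Groth.Agent.Lib.Helper29.AffBlow

section flat

variable {A R : Type u} [CommRing A] [CommRing R] [Algebra A R]

lemma flat_fst_spec (B : CommRingCat.{u}) (φ : CommRingCat.of A ⟶ B)
    (h : letI := φ.hom.toAlgebra; Module.Flat R (R ⊗[A] B)) :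
    Flat (pullback.fst (Spec.map (CommRingCat.ofHom (algebraMap A R))) (Spec.map φ)) := by
  letI := φ.hom.toAlgebra
  have e : pullback.fst (Spec.map (CommRingCat.ofHom (algebraMap A R))) (Spec.map φ) =
      (pullbackSpecIso A R B).hom ≫
        Spec.map (CommRingCat.ofHom (algebraMap R (R ⊗[A] B))) :=
    (pullbackSpecIso_hom_fst' A R B).symm
  rw [e]
  have : Flat (Spec.map (CommRingCat.ofHom (algebraMap R (R ⊗[A] B)))) := by
    rw [HasRingHomProperty.Spec_iff (P := @Flat)]
    exact RingHom.flat_algebraMap_iff.2 h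
  infer_instance

lemma flat_fst_of_cover {Q : Scheme.{u}} (q : Q ⟶ Spec (CommRingCat.of A))
    (h : ∀ (B : CommRingCat.{u}) (j : Spec B ⟶ Q) [IsOpenImmersion j]
      (φ : CommRingCat.of A ⟶ B), j ≫ q = Spec.map φ →
        letI := φ.hom.toAlgebra; Module.Flat R (R ⊗[A] B)) :
    Flat (pullback.fst (Spec.map (CommRingCat.ofHom (algebraMap A R))) q) := by
  let g := Spec.map (CommRingCat.ofHom (algebraMap A R))
  let 𝒱 := Q.affineOpenCover
  let 𝒰 := Scheme.Pullback.openCoverOfRight 𝒱.openCover g q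
  rw [IsZariskiLocalAtSource.iff_of_openCover (P := @Flat) 𝒰]
  intro (i' : 𝒱.I₀)
  have h1 : 𝒰.f i' ≫ pullback.fst g q = pullback.fst g (𝒱.f i' ≫ q) := by
    simp [𝒰, Scheme.Pullback.openCoverOfRight, pullback.map]
    exact pullback.lift_fst _ _ _
  rw [h1]
  have h2 := h (𝒱.X i') (𝒱.f i') (Spec.preimage (𝒱.f i' ≫ q))
    (Spec.map_preimage _).symm
  have h3 := flat_fst_spec (R := R) _ (Spec.preimage (𝒱.f i' ≫ q)) h2
  rw [Spec.map_preimage] at h3
  exact h3

end flat

section ideal

variable {A : Type u} [CommRing A] (f : A)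

lemma ker_quotient :
    (Spec.map (CommRingCat.ofHom (Ideal.Quotient.mk (Ideal.span {f})))).ker =
      idealSheaf (Ideal.span {f}) := by
  rw [Scheme.ker_of_isAffine]
  congr 1
  ext x
  set φ : CommRingCat.of A ⟶ CommRingCat.of (A ⧸ Ideal.span {f}) :=
    CommRingCat.ofHom (Ideal.Quotient.mk (Ideal.span {f})) with hφ
  have hnat := Scheme.ΓSpecIso_inv_naturality φ
  obtain ⟨y, rfl⟩ : ∃ y : A, (Scheme.ΓSpecIso (CommRingCat.of A)).inv.hom y = x :=
    ⟨(Scheme.ΓSpecIso (CommRingCat.of A)).hom.hom x, by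
      rw [← CommRingCat.comp_apply, Iso.hom_inv_id]; rfl⟩
  have h1 : (Spec.map φ).appTop.hom ((Scheme.ΓSpecIso (CommRingCat.of A)).inv.hom y) =
      (Scheme.ΓSpecIso (CommRingCat.of (A ⧸ Ideal.span {f}))).inv.hom (φ.hom y) := by
    rw [← CommRingCat.comp_apply, ← CommRingCat.comp_apply, hnat]
  have hinj : Function.Injective (Scheme.ΓSpecIso (CommRingCat.of (A ⧸ Ideal.span {f}))).inv.hom :=
    ((ConcreteCategory.isIso_iff_bijective _).1 inferInstance).1
  have hinj' : Function.Injective (Scheme.ΓSpecIso (CommRingCat.of A)).inv.hom :=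
    ((ConcreteCategory.isIso_iff_bijective _).1 inferInstance).1
  rw [RingHom.mem_ker, h1, map_eq_zero_iff _ hinj]
  constructor
  · intro h
    refine Ideal.mem_map_of_mem _ ?_
    exact (Ideal.Quotient.eq_zero_iff_mem).1 h
  · intro h
    obtain ⟨z, hz, hzy⟩ := (Ideal.mem_map_iff_of_surjective _
      ((ConcreteCategory.isIso_iff_bijective
        (Scheme.ΓSpecIso (CommRingCat.of A)).inv).1 inferInstance).2).1 h
    have : z = y := hinj' hzy
    subst this
    exact (Ideal.Quotient.eq_zero_iff_mem).2 hz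

lemma mem_support_ker_iff (y : Spec (CommRingCat.of A)) :
    y ∈ (Spec.map (CommRingCat.ofHom (Ideal.Quotient.mk (Ideal.span {f})))).ker.support ↔
      f ∈ y.asIdeal := by
  rw [← SetLike.mem_coe, Scheme.Hom.support_ker]
  have hr : Set.range (Spec.map (CommRingCat.ofHom (Ideal.Quotient.mk (Ideal.span {f})))) =
      PrimeSpectrum.zeroLocus (Ideal.span {f} : Set A) := by
    have := range_comap_of_surjective _ (Ideal.Quotient.mk (Ideal.span {f}))
      Ideal.Quotient.mk_surjective
    rw [Ideal.mk_ker] at this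
    exact this
  have hci : IsClosedImmersion
      (Spec.map (CommRingCat.ofHom (Ideal.Quotient.mk (Ideal.span {f})))) :=
    IsClosedImmersion.spec_of_surjective _ Ideal.Quotient.mk_surjective
  have hcl : IsClosed (Set.range
      (Spec.map (CommRingCat.ofHom (Ideal.Quotient.mk (Ideal.span {f}))))) :=
    (Scheme.Hom.isClosedEmbedding _).isClosed_range
  rw [hcl.closure_eq]
  refine (Set.ext_iff.1 hr y).trans ?_
  change (show PrimeSpectrum A from y) ∈ PrimeSpectrum.zeroLocus (Ideal.span {f} : Set A) ↔ _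
  rw [PrimeSpectrum.mem_zeroLocus, SetLike.coe_subset_coe, Ideal.span_singleton_le_iff_mem]

lemma locGen_span {T : Scheme.{u}} (g : T ⟶ Spec (CommRingCat.of A))
    (hg : BlowUp.IsEffCartierIdeal ((idealSheaf (Ideal.span {f})).comap g)) :
    LocGen (Ideal.span {f}) f g := by
  intro t
  obtain ⟨U, htU, s, hs, hIU⟩ := hg t
  rw [ideal_comap (Ideal.span {f}) g U, Ideal.map_span, Set.image_singleton] at hIU
  refine ⟨U, htU, ?_, by rw [Ideal.map_span, Set.image_singleton]⟩
  have hmem : s ∈ Ideal.span {secMap g U.1 f} := by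
    rw [hIU]; exact Ideal.mem_span_singleton_self s
  obtain ⟨c, hc⟩ := Ideal.mem_span_singleton'.1 hmem
  rw [mem_nonZeroDivisors_iff_right]
  intro y hy
  apply (mem_nonZeroDivisors_iff_right.1 hs) y
  rw [← hc, mul_comm c, ← mul_assoc, hy, zero_mul]

end ideal

end Groth.Agent.Lib.Helper9.CompLoc
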