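import Groth.Agent.Lib.Helper9.CompLoc2
import Groth.Agent.Lib.Helper13.ValFinScheme
import Groth.Prelude.Def_W4c6modpairsegaMP

set_option autoImplicit false
universe u
open CategoryTheory CategoryTheory.Limits AlgebraicGeometry TopologicalSpace TensorProduct

namespace Groth.Agent.Lib.Helper9.CompLoc

open Groth.Agent.Lib.Helper29.AffBlow

section nzd

variable {A : Type u} [CommRing A] (f : A)

/-- if `f` locally generates (as a nonzerodivisor) along `q`, then it is a nonzerodivisor on
every affine chart -/
lemma nzd_of_locGen {Q : Scheme.{u}} (q : Q ⟶ Spec (CommRingCat.of A))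
    (hLG : LocGen (Ideal.span {f}) f q) (B : CommRingCat.{u}) (j : Spec B ⟶ Q)
    [IsOpenImmersion j] (φ : CommRingCat.of A ⟶ B) (hφ : j ≫ q = Spec.map φ) :
    φ.hom f ∈ nonZeroDivisors B := by
  have h1 : LocGen (Ideal.span {f}) f (j ≫ q) := locGen_comp_of_flat j (fun t' => hLG (j t'))
  have h2 := h1.nzd ⊤
  rw [hφ, secMap_top] at h2
  have hnat := Scheme.ΓSpecIso_inv_naturality φ
  have h3 : ((Scheme.ΓSpecIso (CommRingCat.of A)).inv ≫ (Spec.map φ).appTop).hom f =
      (Scheme.ΓSpecIso B).inv.hom (φ.hom f) := by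
    rw [← hnat]; rfl
  rw [h3] at h2
  have hbij : Function.Bijective (Scheme.ΓSpecIso B).inv.hom :=
    (ConcreteCategory.isIso_iff_bijective _).1 inferInstance
  rw [mem_nonZeroDivisors_iff_right] at h2 ⊢
  intro y hy
  apply hbij.1
  rw [map_zero]
  apply h2
  rw [← map_mul, hy, map_zero]

end nzd

section generic

lemma isFinite_snd_of_factors {Q Z S K : Scheme.{u}} (q : Q ⟶ Z) (g : S ⟶ Z) (h : K ⟶ S)
    (U : Z.Opens) (l : K ⟶ U) (hl : l ≫ U.ι = h ≫ g) (hfin : IsFinite (q ∣_ U)) :
    IsFinite (pullback.snd (pullback.fst g q) h) := by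
  have sq1 := IsPullback.of_hasPullback (pullback.fst g q) h
  have sq2 := (IsPullback.of_hasPullback g q).flip
  have big := sq1.paste_horiz sq2
  have t := (isPullback_morphismRestrict q U).flip
  have w : (pullback.fst (pullback.fst g q) h ≫ pullback.snd g q) ≫ q =
      (pullback.snd (pullback.fst g q) h ≫ l) ≫ U.ι := by
    rw [Category.assoc _ l, hl]
    exact big.w
  let top := t.lift (pullback.fst (pullback.fst g q) h ≫ pullback.snd g q)
    (pullback.snd (pullback.fst g q) h ≫ l) w
  have htop1 : top ≫ (q ⁻¹ᵁ U).ι = pullback.fst (pullback.fst g q) h ≫ pullback.snd g q :=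
    t.lift_fst _ _ _
  have htop2 : top ≫ (q ∣_ U) = pullback.snd (pullback.fst g q) h ≫ l := t.lift_snd _ _ _
  have big' : IsPullback (top ≫ (q ⁻¹ᵁ U).ι) (pullback.snd (pullback.fst g q) h) q
      (l ≫ U.ι) := by
    rw [htop1, hl]; exact big
  have left := IsPullback.of_right big' htop2 t
  exact MorphismProperty.of_isPullback (P := @IsFinite) left hfin

end generic

section main

variable {O : Type u} [CommRing O] [IsLocalRing O]
  (R : ValuationSubring (IsLocalRing.ResidueField O))
  (f : ↥((R.toSubring).comap (IsLocalRing.residue O))) [IsLocalization.Away f O]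

include f in
lemma π_f_ne_zero : π R f ≠ 0 := by
  intro h
  have h1 := (π_eq_zero_iff R f).1 h
  exact (IsLocalRing.mem_maximalIdeal _).1 h1 (isUnit_coe R f)

theorem main {Q : Scheme.{u}} (IQ : Q.IdealSheafData)
    (hQ : BlowUp.IsEffCartierIdeal IQ)
    (q : Q ⟶ Spec (CommRingCat.of ↥((R.toSubring).comap (IsLocalRing.residue O))))
    (hq : ModPair.IsMinimal IQ
      (Spec.map (CommRingCat.ofHom (Ideal.Quotient.mk (Ideal.span {f})))).ker q)
    [IsProper q]
    (hfin : IsFinite (q ∣_ ModPair.interior
      (Spec.map (CommRingCat.ofHom (Ideal.Quotient.mk (Ideal.span {f})))).ker)) :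
    IsFinite q := by
  letI : Algebra ↥((R.toSubring).comap (IsLocalRing.residue O)) ↥R := (π R).toAlgebra
  set J := (Spec.map (CommRingCat.ofHom (Ideal.Quotient.mk (Ideal.span {f})))).ker with hJ
  let g : Spec (CommRingCat.of ↥R) ⟶
      Spec (CommRingCat.of ↥((R.toSubring).comap (IsLocalRing.residue O))) :=
    Spec.map (CommRingCat.ofHom (algebraMap _ ↥R))
  have hLG : LocGen (Ideal.span {f}) f q := by
    apply locGen_span f q
    rw [← ker_quotient]
    have : IQ = J.comap q := hq
    rw [← this]
    exact hQ
  have hflat : Flat (pullback.fst g q) := by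
    refine flat_fst_of_cover (R := ↥R) q (fun B j _ φ hφ => ?_)
    letI := φ.hom.toAlgebra
    exact flat_tensor_concrete R f B (nzd_of_locGen f q hLG B j φ hφ)
  -- the generic point of `Spec R` maps into the interior
  let hK := Spec.map (CommRingCat.ofHom (algebraMap ↥R (FractionRing ↥R)))
  have hrange : Set.range (hK ≫ g) ⊆ Set.range (ModPair.interior J).ι := by
    rintro _ ⟨z, rfl⟩
    rw [Scheme.Opens.range_ι]
    change (hK ≫ g) z ∈ (J.support : Set _)ᶜ
    rw [Set.mem_compl_iff, SetLike.mem_coe, mem_support_ker_iff]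
    intro hmem
    have h1 : algebraMap ↥R (FractionRing ↥R) (π R f) ∈ z.asIdeal := hmem
    have h2 : z.asIdeal = ⊥ := by
      have := Ideal.eq_bot_or_top z.asIdeal
      rcases this with h | h
      · exact h
      · exact absurd h z.isPrime.ne_top
    rw [h2, Ideal.mem_bot] at h1
    exact π_f_ne_zero R f ((IsFractionRing.injective ↥R (FractionRing ↥R))
      (h1.trans (map_zero _).symm))
  let l := IsOpenImmersion.lift (ModPair.interior J).ι (hK ≫ g) hrange
  have hl : l ≫ (ModPair.interior J).ι = hK ≫ g := IsOpenImmersion.lift_fac _ _ _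
  have hgen : IsFinite (pullback.snd (pullback.fst g q) hK) :=
    isFinite_snd_of_factors q g hK (ModPair.interior J) l hl hfin
  have hfinR : IsFinite (pullback.fst g q) :=
    Groth.Agent.Lib.Helper13.ValFin.isFinite_of_flat_proper_genericallyFinite _ hgen
  have hqf : LocallyQuasiFinite q := by
    refine LocallyQuasiFinite.of_finite_preimage_singleton q (fun y => ?_)
    by_cases hy : y ∈ ModPair.interior J
    · have h1 := (q ∣_ ModPair.interior J).finite_preimage_singleton ⟨y, hy⟩
      refine (h1.image (q ⁻¹ᵁ ModPair.interior J).ι).subset ?_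
      intro x hx
      have hx' : q x = y := hx
      have hxU : x ∈ q ⁻¹ᵁ ModPair.interior J := by
        change q x ∈ ModPair.interior J
        rw [hx']; exact hy
      refine ⟨⟨x, hxU⟩, ?_, rfl⟩
      change (q ∣_ ModPair.interior J) ⟨x, hxU⟩ = ⟨y, hy⟩
      apply Subtype.ext
      rw [morphismRestrict_base_coe]
      exact hx'
    · have hy' : f ∈ y.asIdeal := by
        rw [← mem_support_ker_iff]
        by_contra hn
        exact hy hn
      have hker : RingHom.ker (π R) ≤ y.asIdeal := by
        intro a ha
        obtain ⟨b, -, hab⟩ := ker_div R f a ha 1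
        rw [hab, pow_one]
        exact Ideal.mul_mem_right _ _ hy'
      have hyr : y ∈ Set.range g := by
        have := range_comap_of_surjective _ (π R) (π_surjective R)
        have h2 : (show PrimeSpectrum _ from y) ∈ Set.range (PrimeSpectrum.comap (π R)) := by
          rw [this, PrimeSpectrum.mem_zeroLocus]
          exact hker
        exact h2
      obtain ⟨y', rfl⟩ := hyr
      have h1 := (pullback.fst g q).finite_preimage_singleton y'
      refine (h1.image (pullback.snd g q)).subset ?_
      intro x hx
      have hx' : q x = g y' := hx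
      obtain ⟨z, hz1, hz2⟩ := Scheme.Pullback.exists_preimage_pullback (f := g) (g := q) y' x
        hx'.symm
      exact ⟨z, hz1, hz2⟩
  exact IsFinite.of_isProper_of_locallyQuasiFinite q

end main

end Groth.Agent.Lib.Helper9.CompLoc
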