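import Mathlib.RingTheory.AdicCompletion.Algebra
import Mathlib.RingTheory.Kaehler.Basic

/-!
The universal derivation `d : A → Ω[A⁄A₀]` extends to the `I`-adic completions:
`dHat : Derivation A₀ (AdicCompletion I A) (AdicCompletion I Ω[A⁄A₀])`.
-/

set_option autoImplicit false
universe u

namespace Groth.Agent.Lib.Helper9

open AdicCompletion

section

variable {A₀ A : Type u} [CommRing A₀] [CommRing A] [Algebra A₀ A] (I : Ideal A)

theorem D_mem_pow_smul_top (n : ℕ) :
    ∀ a ∈ I ^ (n + 1), KaehlerDifferential.D A₀ A a ∈ (I ^ n • ⊤ : Submodule A Ω[A⁄A₀]) := by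
  induction n with
  | zero =>
    intro a _
    rw [pow_zero, Ideal.one_eq_top, Submodule.top_smul]
    exact Submodule.mem_top
  | succ n ih =>
    intro a ha
    rw [pow_succ] at ha
    refine Submodule.mul_induction_on ha ?_ ?_
    · intro x hx y hy
      rw [Derivation.leibniz]
      refine Submodule.add_mem _ (Submodule.smul_mem_smul hx Submodule.mem_top) ?_
      have h1 := Submodule.smul_mem_smul hy (ih x hx)
      rwa [← Submodule.smul_assoc, smul_eq_mul, ← pow_succ'] at h1
    · intro x y hx hy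
      rw [map_add]
      exact Submodule.add_mem _ hx hy

/-- the map induced by `d` on the truncations. -/
noncomputable def dTrunc (n : ℕ) :
    (A ⧸ (I ^ (n + 1) • ⊤ : Ideal A)) →ₗ[A₀] (Ω[A⁄A₀] ⧸ (I ^ n • ⊤ : Submodule A Ω[A⁄A₀])) :=
  (((I ^ (n + 1) • ⊤ : Ideal A).restrictScalars A₀).liftQ
    (((I ^ n • ⊤ : Submodule A Ω[A⁄A₀]).mkQ.restrictScalars A₀) ∘ₗ
      (KaehlerDifferential.D A₀ A).toLinearMap) (by
      intro a ha
      have ha' : a ∈ I ^ (n + 1) := by
        have : a ∈ (I ^ (n + 1) • ⊤ : Ideal A) := ha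
        simpa using this
      rw [LinearMap.mem_ker]
      change (I ^ n • ⊤ : Submodule A Ω[A⁄A₀]).mkQ (KaehlerDifferential.D A₀ A a) = 0
      rw [Submodule.mkQ_apply, Submodule.Quotient.mk_eq_zero]
      exact D_mem_pow_smul_top I n a ha')) ∘ₗ
  (Submodule.Quotient.restrictScalarsEquiv A₀ (I ^ (n + 1) • ⊤ : Ideal A)).symm.toLinearMap

theorem dTrunc_mk (n : ℕ) (a : A) :
    dTrunc (A₀ := A₀) I n (Ideal.Quotient.mk _ a) =
      Submodule.Quotient.mk (KaehlerDifferential.D A₀ A a) := rfl

/-- the completed derivation as a function. -/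
noncomputable def dHatFun (x : AdicCompletion I A) : AdicCompletion I Ω[A⁄A₀] :=
  ⟨fun n => dTrunc (A₀ := A₀) I n (x.val (n + 1)), by
    intro m n hmn
    obtain ⟨a, ha⟩ := Ideal.Quotient.mk_surjective (x.val (n + 1))
    have h1 : x.val (m + 1) = Ideal.Quotient.mk _ a := by
      rw [← x.property (Nat.succ_le_succ hmn), ← ha]
      rfl
    change transitionMap I Ω[A⁄A₀] hmn (dTrunc (A₀ := A₀) I n (x.val (n + 1))) =
      dTrunc (A₀ := A₀) I m (x.val (m + 1))
    rw [h1, ← ha, dTrunc_mk, dTrunc_mk]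
    rfl⟩

theorem dHatFun_val (x : AdicCompletion I A) (n : ℕ) :
    (dHatFun (A₀ := A₀) I x).val n = dTrunc (A₀ := A₀) I n (x.val (n + 1)) := rfl

/-- the completed derivation as a linear map. -/
noncomputable def dHatLin : AdicCompletion I A →ₗ[A₀] AdicCompletion I Ω[A⁄A₀] where
  toFun := dHatFun I
  map_add' x y := by
    ext n
    rw [dHatFun_val, val_add_apply, val_add_apply, map_add, dHatFun_val, dHatFun_val]
  map_smul' r x := by
    ext n
    rw [dHatFun_val, val_smul_apply, map_smul, RingHom.id_apply, val_smul_apply, dHatFun_val]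

theorem dHatLin_val (x : AdicCompletion I A) (n : ℕ) :
    (dHatLin (A₀ := A₀) I x).val n = dTrunc (A₀ := A₀) I n (x.val (n + 1)) := rfl

/-- the completed derivation. -/
noncomputable def dHat : Derivation A₀ (AdicCompletion I A) (AdicCompletion I Ω[A⁄A₀]) :=
  Derivation.mk' (dHatLin I) (by
    intro x y
    ext n
    rw [dHatLin_val, val_add_apply, smul_eval, smul_eval, dHatLin_val, dHatLin_val, val_mul]
    obtain ⟨a, ha⟩ := Ideal.Quotient.mk_surjective (x.val (n + 1))
    obtain ⟨b, hb⟩ := Ideal.Quotient.mk_surjective (y.val (n + 1))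
    have h1 : x.val n = Ideal.Quotient.mk _ a := by
      rw [← x.property (Nat.le_succ n), ← ha]
      rfl
    have h2 : y.val n = Ideal.Quotient.mk _ b := by
      rw [← y.property (Nat.le_succ n), ← hb]
      rfl
    rw [h1, h2, ← ha, ← hb, ← map_mul, dTrunc_mk, dTrunc_mk, dTrunc_mk, Derivation.leibniz]
    rfl)

theorem dHat_val (x : AdicCompletion I A) (n : ℕ) :
    (dHat (A₀ := A₀) I x).val n = dTrunc (A₀ := A₀) I n (x.val (n + 1)) := rfl

theorem dHat_of (a : A) :
    dHat (A₀ := A₀) I (of I A a) = of I Ω[A⁄A₀] (KaehlerDifferential.D A₀ A a) := by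
  ext n
  rfl

end

end Groth.Agent.Lib.Helper9
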