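import Mathlib.RingTheory.Ideal.MinimalPrime.Basic
import Mathlib.RingTheory.Ideal.Maximal
import Mathlib.RingTheory.Ideal.Maps
import Mathlib.RingTheory.Finiteness.Defs
import Mathlib.RingTheory.LocalRing.ResidueField.Ideal

/-!
# The conductor argument for universal homeomorphisms (Stacks 0CNC / 0CND), ring-theoretically
-/

set_option autoImplicit false
set_option linter.style.haveILetI false

namespace Groth.Agent.Lib.Helper9.Conductor

variable {A B : Type*} [CommRing A] [CommRing B] (φ : A →+* B)

/-- The conductor of `φ` as an ideal of `B` (contained in the range of `φ`). -/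
def condB : Ideal B where
  carrier := {y | ∀ b : B, y * b ∈ φ.range}
  add_mem' hx hy b := by rw [add_mul]; exact Subring.add_mem _ (hx b) (hy b)
  zero_mem' b := by rw [zero_mul]; exact Subring.zero_mem _
  smul_mem' c x hx b := by
    change c * x * b ∈ _
    rw [mul_comm c x, mul_assoc]
    exact hx (c * b)

theorem mem_condB_iff (y : B) : y ∈ condB φ ↔ ∀ b : B, y * b ∈ φ.range := Iff.rfl

theorem condB_le_range {y : B} (hy : y ∈ condB φ) : y ∈ φ.range := by
  have := hy 1
  rwa [mul_one] at this

/-- The conductor as an ideal of `A`. -/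
def condA : Ideal A := (condB φ).comap φ

theorem mem_condA_iff (a : A) : a ∈ condA φ ↔ ∀ b : B, φ a * b ∈ φ.range := Iff.rfl

theorem condA_ne_top (hns : ¬ Function.Surjective φ) : condA φ ≠ ⊤ := by
  intro h
  apply hns
  intro b
  have h1 : (1 : A) ∈ condA φ := by rw [h]; trivial
  have h2 := h1 b
  rwa [map_one, one_mul] at h2

/-- The hypothesis (*): an element all of whose high powers lie in `A` lies in `A`. -/
def Star : Prop := ∀ (x : B) (N : ℕ), (∀ m, N ≤ m → x ^ m ∈ φ.range) → x ∈ φ.range

variable {φ}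

theorem condB_radical (hstar : Star φ) {x : B} {n : ℕ} (hx : x ^ n ∈ condB φ) : x ∈ condB φ := by
  intro b
  apply hstar (x * b) n
  intro m hm
  have h1 : (x * b) ^ m = x ^ n * (x ^ (m - n) * b ^ m) := by
    rw [mul_pow, ← mul_assoc, ← pow_add, Nat.add_sub_cancel' hm]
  rw [h1]
  exact hx _

section claim

/-- Key claim: elements of `P` are multiplied into the conductor by elements outside `p`. -/
theorem exists_mul_mem_condB (hstar : Star φ)
    (p : Ideal A) (hp : p ∈ (condA φ).minimalPrimes)
    (P : Ideal B) (huniq : ∀ Q : Ideal B, Q.IsPrime → Q.comap φ = p → Q = P)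
    {x : B} (hx : x ∈ P) : ∃ u : A, u ∉ p ∧ φ u * x ∈ condB φ := by
  by_contra hcon
  push Not at hcon
  haveI hpprime : p.IsPrime := hp.1.1
  let S : Submonoid B :=
    { carrier := {y | ∃ s : A, s ∉ p ∧ ∃ n : ℕ, y = φ s * x ^ n}
      one_mem' := ⟨1, (Ideal.ne_top_iff_one p).mp hpprime.ne_top, 0, by simp⟩
      mul_mem' := by
        rintro _ _ ⟨s, hs, n, rfl⟩ ⟨s', hs', n', rfl⟩
        refine ⟨s * s', fun h => (hpprime.mem_or_mem h).elim hs hs', n + n', ?_⟩
        rw [map_mul, pow_add]
        ring }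
  have hdisj : Disjoint (condB φ : Set B) S := by
    rw [Set.disjoint_left]
    rintro y hy ⟨s, hs, n, rfl⟩
    have h1 : (φ s * x) ^ (n + 1) ∈ condB φ := by
      have : (φ s * x) ^ (n + 1) = (φ s * x ^ n) * (φ s ^ n * x) := by ring
      rw [this]
      exact Ideal.mul_mem_right _ _ hy
    exact hcon s hs (condB_radical hstar h1)
  obtain ⟨Q, hQprime, hQle, hQdisj⟩ := Ideal.exists_le_prime_disjoint (condB φ) S hdisj
  have hQp : Q.comap φ ≤ p := by
    intro a ha
    by_contra hap
    exact (Set.disjoint_left.mp hQdisj) ha ⟨a, hap, 0, by simp⟩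
  have hIQ : condA φ ≤ Q.comap φ := Ideal.comap_mono hQle
  haveI := hQprime
  have hpQ : p ≤ Q.comap φ := hp.2 ⟨inferInstance, hIQ⟩ hQp
  have hQP : Q = P := huniq Q hQprime (le_antisymm hQp hpQ)
  have hxQ : x ∈ Q := hQP ▸ hx
  exact (Set.disjoint_left.mp hQdisj) hxQ
    ⟨1, (Ideal.ne_top_iff_one p).mp hpprime.ne_top, 1, by simp⟩

/-- From membership of a residue in the image of the residue field of `A`. -/
theorem exists_sub_mem_of_residue_mem (p : Ideal A) [p.IsPrime] (P : Ideal B) [P.IsPrime]
    (hP : p = P.comap φ) (b : B)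
    (hb : algebraMap B P.ResidueField b ∈ (Ideal.ResidueField.map p P φ hP).range) :
    ∃ a s : A, s ∉ p ∧ φ s * b - φ a ∈ P := by
  obtain ⟨z, hz⟩ := hb
  obtain ⟨x, t, ht, rfl⟩ := IsFractionRing.div_surjective (A ⧸ p) z
  obtain ⟨a, rfl⟩ := Ideal.Quotient.mk_surjective x
  obtain ⟨s, rfl⟩ := Ideal.Quotient.mk_surjective t
  have hs : s ∉ p := by
    intro hs
    have : Ideal.Quotient.mk p s = 0 := Ideal.Quotient.eq_zero_iff_mem.mpr hs
    rw [this] at ht
    exact zero_notMem_nonZeroDivisors ht
  refine ⟨a, s, hs, ?_⟩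
  rw [map_div₀, Ideal.algebraMap_quotient_residueField_mk,
    Ideal.algebraMap_quotient_residueField_mk, Ideal.ResidueField.map_algebraMap,
    Ideal.ResidueField.map_algebraMap] at hz
  have hs' : algebraMap B P.ResidueField (φ s) ≠ 0 := by
    intro h0
    have h1 : φ s ∈ P := Ideal.algebraMap_residueField_eq_zero.mp h0
    have h2 : s ∈ P.comap φ := h1
    rw [← hP] at h2
    exact hs h2
  rw [div_eq_iff hs'] at hz
  apply Ideal.algebraMap_residueField_eq_zero.mp
  rw [map_sub, map_mul, hz]
  ring

/-- If every element of `B` is multiplied into `A` by an element outside `p`, and `B` is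
finite over `A`, then some element outside `p` lies in the conductor. -/
theorem exists_mem_condA_of_finite (hfin : φ.Finite) (p : Ideal A) [p.IsPrime]
    (h : ∀ b : B, ∃ c : A, c ∉ p ∧ φ c * b ∈ φ.range) : ∃ c : A, c ∉ p ∧ c ∈ condA φ := by
  classical
  letI := φ.toAlgebra
  obtain ⟨G, hG⟩ := (show Module.Finite A B from hfin).fg_top
  choose c hc hcb using h
  refine ⟨∏ g ∈ G, c g, ?_, ?_⟩
  · intro hmem
    obtain ⟨g, -, hg⟩ := (Ideal.IsPrime.prod_mem_iff).mp hmem
    exact hc g hg
  · intro b
    let N : Submodule A B :=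
      { carrier := {b | φ (∏ g ∈ G, c g) * b ∈ φ.range}
        add_mem' := fun {x y} hx hy => by
          change φ (∏ g ∈ G, c g) * (x + y) ∈ φ.range
          rw [mul_add]
          exact Subring.add_mem _ hx hy
        zero_mem' := by
          change φ (∏ g ∈ G, c g) * (0 : B) ∈ φ.range
          rw [mul_zero]
          exact Subring.zero_mem _
        smul_mem' := fun a x hx => by
          change φ (∏ g ∈ G, c g) * (φ a * x) ∈ φ.range
          rw [mul_left_comm]
          exact Subring.mul_mem _ ⟨a, rfl⟩ hx }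
    have hGN : (G : Set B) ⊆ N := by
      intro g hg
      change φ (∏ g ∈ G, c g) * g ∈ φ.range
      rw [← Finset.mul_prod_erase G c hg, map_mul, mul_right_comm]
      exact Subring.mul_mem _ (hcb g) ⟨_, rfl⟩
    have : (⊤ : Submodule A B) ≤ N := hG ▸ Submodule.span_le.mpr hGN
    exact this (Submodule.mem_top : b ∈ ⊤)

end claim

end Groth.Agent.Lib.Helper9.Conductor
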