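import Groth.Agent.Lib.Helper9.Conductor
import Mathlib.FieldTheory.PurelyInseparable.Basic
import Mathlib.RingTheory.RingHom.PurelyInseparable
import Mathlib.RingTheory.Spectrum.Prime.Basic
import Mathlib.RingTheory.Spectrum.Prime.RingHom

/-!
# The conductor argument, part 2: the finite case of Stacks 0CNC / 0CND
-/

set_option autoImplicit false
set_option linter.style.haveILetI false

namespace Groth.Agent.Lib.Helper9.Conductor

variable {A B : Type*} [CommRing A] [CommRing B] {φ : A →+* B}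

theorem exists_setup (hns : ¬ Function.Surjective φ)
    (hsurj : Function.Surjective (PrimeSpectrum.comap φ))
    (hinjS : Function.Injective (PrimeSpectrum.comap φ)) :
    ∃ (p : Ideal A) (P : Ideal B), p ∈ (condA φ).minimalPrimes ∧ P.IsPrime ∧ p = P.comap φ ∧
      ∀ Q : Ideal B, Q.IsPrime → Q.comap φ = p → Q = P := by
  obtain ⟨M, hM, hIM⟩ := Ideal.exists_le_maximal _ (condA_ne_top φ hns)
  haveI := hM.isPrime
  obtain ⟨p, hp, -⟩ := Ideal.exists_minimalPrimes_le hIM
  haveI hpprime : p.IsPrime := hp.1.1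
  obtain ⟨Q₀, hQ₀⟩ := hsurj ⟨p, hpprime⟩
  have hQ₀' : Q₀.asIdeal.comap φ = p := congrArg PrimeSpectrum.asIdeal hQ₀
  refine ⟨p, Q₀.asIdeal, hp, Q₀.isPrime, hQ₀'.symm, fun Q hQ hQp => ?_⟩
  have : (⟨Q, hQ⟩ : PrimeSpectrum B) = Q₀ := by
    apply hinjS
    rw [hQ₀]
    exact PrimeSpectrum.ext hQp
  exact congrArg PrimeSpectrum.asIdeal this

theorem mul_mem_range_of_residue_mem (hstar : Star φ)
    (p : Ideal A) [p.IsPrime] (hp : p ∈ (condA φ).minimalPrimes)
    (P : Ideal B) [P.IsPrime] (hP : p = P.comap φ)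
    (huniq : ∀ Q : Ideal B, Q.IsPrime → Q.comap φ = p → Q = P) (b : B)
    (hb : algebraMap B P.ResidueField b ∈ (Ideal.ResidueField.map p P φ hP).range) :
    ∃ c : A, c ∉ p ∧ φ c * b ∈ φ.range := by
  obtain ⟨a, s, hs, has⟩ := exists_sub_mem_of_residue_mem p P hP b hb
  obtain ⟨u, hu, hub⟩ := exists_mul_mem_condB hstar p hp P huniq has
  refine ⟨u * s, fun h => (Ideal.IsPrime.mem_or_mem inferInstance h).elim hu hs, ?_⟩
  have h1 : φ (u * s) * b = φ u * (φ s * b - φ a) + φ (u * a) := by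
    rw [map_mul, map_mul]
    ring
  rw [h1]
  exact Subring.add_mem _ (condB_le_range φ hub) ⟨_, rfl⟩

theorem not_surjective_residue (hfin : φ.Finite) (hstar : Star φ)
    (p : Ideal A) [p.IsPrime] (hp : p ∈ (condA φ).minimalPrimes)
    (P : Ideal B) [P.IsPrime] (hP : p = P.comap φ)
    (huniq : ∀ Q : Ideal B, Q.IsPrime → Q.comap φ = p → Q = P) :
    ¬ Function.Surjective (Ideal.ResidueField.map p P φ hP) := by
  intro hsurj
  have h : ∀ b : B, ∃ c : A, c ∉ p ∧ φ c * b ∈ φ.range := fun b =>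
    mul_mem_range_of_residue_mem hstar p hp P hP huniq b (hsurj _)
  obtain ⟨c, hc, hcI⟩ := exists_mem_condA_of_finite hfin p h
  exact hc (hp.1.2 hcI)

/-- Finite case of Stacks 0CNC. -/
theorem surjective_of_resSurj (hfin : φ.Finite) (hstar : Star φ)
    (hsurj : Function.Surjective (PrimeSpectrum.comap φ))
    (hinjS : Function.Injective (PrimeSpectrum.comap φ))
    (hres : ∀ (P : Ideal B) [P.IsPrime] (p : Ideal A) [p.IsPrime] (hP : p = P.comap φ),
      Function.Surjective (Ideal.ResidueField.map p P φ hP)) : Function.Surjective φ := by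
  by_contra hns
  obtain ⟨p, P, hp, hPprime, hP, huniq⟩ := exists_setup hns hsurj hinjS
  haveI := hPprime
  haveI : p.IsPrime := hp.1.1
  exact not_surjective_residue hfin hstar p hp P hP huniq (hres P p hP)

/-- A non-surjective purely inseparable field extension has an element outside with prime power
inside. -/
theorem exists_pow_prime_mem_of_isPurelyInseparable {K L : Type*} [Field K] [Field L]
    (ρ : K →+* L) (hPI : ρ.IsPurelyInseparable) (hns : ¬ Function.Surjective ρ) :
    ∃ ℓ : ℕ, ℓ.Prime ∧ CharP K ℓ ∧ (∀ x : L, ∃ n : ℕ, x ^ ℓ ^ n ∈ ρ.range) ∧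
      ∃ y : L, y ∉ ρ.range ∧ y ^ ℓ ∈ ρ.range := by
  classical
  letI := ρ.toAlgebra
  haveI : IsPurelyInseparable K L := hPI
  have key : ∀ q : ℕ, ExpChar K q → (∀ x : L, ∃ n : ℕ, x ^ q ^ n ∈ ρ.range) →
      ∃ ℓ : ℕ, ℓ.Prime ∧ CharP K ℓ ∧ (∀ x : L, ∃ n : ℕ, x ^ ℓ ^ n ∈ ρ.range) ∧
      ∃ y : L, y ∉ ρ.range ∧ y ^ ℓ ∈ ρ.range := by
    intro q hE hpow
    rcases hE with _ | ⟨hprime⟩
    · exfalso
      apply hns
      intro x
      obtain ⟨n, hn⟩ := hpow x
      rwa [one_pow, pow_one] at hn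
    · rename_i hchar
      refine ⟨q, hprime, hchar, hpow, ?_⟩
      obtain ⟨y₀, hy₀⟩ : ∃ y₀ : L, y₀ ∉ ρ.range := by
        by_contra h
        push Not at h
        exact hns fun x => h x
      have hn0 : Nat.find (hpow y₀) ≠ 0 := by
        intro h0
        have := Nat.find_spec (hpow y₀)
        rw [h0, pow_zero, pow_one] at this
        exact hy₀ this
      obtain ⟨m, hm⟩ := Nat.exists_eq_succ_of_ne_zero hn0
      refine ⟨y₀ ^ q ^ m, ?_, ?_⟩
      · exact Nat.find_min (hpow y₀) (by omega)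
      · have := Nat.find_spec (hpow y₀)
        rw [hm, pow_succ, pow_mul] at this
        exact this
  exact key (ringExpChar K) inferInstance
    (fun x => IsPurelyInseparable.pow_mem K (ringExpChar K) x)

end Groth.Agent.Lib.Helper9.Conductor
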