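import Groth.Agent.Lib.Helper9.Conductor2

/-!
# The conductor argument, part 3: the finite case of Stacks 0CND
-/

set_option autoImplicit false
set_option linter.style.haveILetI false

namespace Groth.Agent.Lib.Helper9.Conductor

variable {A B : Type*} [CommRing A] [CommRing B] {φ : A →+* B}

section residue
variable (p : Ideal A) [p.IsPrime] (P : Ideal B) [P.IsPrime] (hP : p = P.comap φ)

theorem residue_phi (a : A) : algebraMap B P.ResidueField (φ a) =
    Ideal.ResidueField.map p P φ hP (algebraMap A p.ResidueField a) :=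
  (Ideal.ResidueField.map_algebraMap p P φ hP a).symm

include hP in
theorem residue_phi_ne_zero {c : A} (hc : c ∉ p) : algebraMap B P.ResidueField (φ c) ≠ 0 := by
  intro h0
  have h1 : φ c ∈ P := Ideal.algebraMap_residueField_eq_zero.mp h0
  have h2 : c ∈ P.comap φ := h1
  rw [← hP] at h2
  exact hc h2

theorem inK_of_mul {c : A} (hc : c ∉ p) {b : B}
    (h : algebraMap B P.ResidueField (φ c * b) ∈ (Ideal.ResidueField.map p P φ hP).range) :
    algebraMap B P.ResidueField b ∈ (Ideal.ResidueField.map p P φ hP).range := by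
  obtain ⟨w, hw⟩ := h
  refine ⟨w / algebraMap A p.ResidueField c, ?_⟩
  rw [map_div₀, hw, ← residue_phi p P hP, map_mul, mul_div_cancel_left₀]
  exact residue_phi_ne_zero p P hP hc

end residue

/-- Finite case of Stacks 0CND. -/
theorem exists_prime_of_star (hfin : φ.Finite) (hstar : Star φ)
    (hns : ¬ Function.Surjective φ)
    (hsurj : Function.Surjective (PrimeSpectrum.comap φ))
    (hinjS : Function.Injective (PrimeSpectrum.comap φ))
    (hPI : ∀ (P : Ideal B) [P.IsPrime] (p : Ideal A) [p.IsPrime] (hP : p = P.comap φ),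
      (Ideal.ResidueField.map p P φ hP).IsPurelyInseparable) :
    ∃ (ℓ : ℕ) (b : B), ℓ.Prime ∧ b ∉ φ.range ∧ (ℓ : B) * b ∈ φ.range ∧ b ^ ℓ ∈ φ.range := by
  obtain ⟨p, P, hp, hPprime, hP, huniq⟩ := exists_setup hns hsurj hinjS
  haveI := hPprime
  haveI : p.IsPrime := hp.1.1
  have hρns := not_surjective_residue hfin hstar p hp P hP huniq
  obtain ⟨ℓ, hℓ, hchar, hpow, y, hy, hyℓ⟩ :=
    exists_pow_prime_mem_of_isPurelyInseparable _ (hPI P p hP) hρns
  have hℓ1 : 1 ≤ ℓ := hℓ.one_lt.le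
  -- write `y = β / τ`
  obtain ⟨xb, xt, hxt, hyeq⟩ := IsFractionRing.div_surjective (B ⧸ P) y
  obtain ⟨b, rfl⟩ := Ideal.Quotient.mk_surjective xb
  obtain ⟨t, rfl⟩ := Ideal.Quotient.mk_surjective xt
  rw [Ideal.algebraMap_quotient_residueField_mk, Ideal.algebraMap_quotient_residueField_mk] at hyeq
  have hτ : algebraMap B P.ResidueField t ≠ 0 := by
    intro h0
    have h1 : t ∈ P := Ideal.algebraMap_residueField_eq_zero.mp h0
    have : Ideal.Quotient.mk P t = 0 := Ideal.Quotient.eq_zero_iff_mem.mpr h1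
    rw [this] at hxt
    exact zero_notMem_nonZeroDivisors hxt
  obtain ⟨n, zc, hzc⟩ := hpow (algebraMap B P.ResidueField t)
  have hzc0 : Ideal.ResidueField.map p P φ hP zc ≠ 0 := by
    rw [hzc]
    exact pow_ne_zero _ hτ
  -- `b₁`
  have hβ₁ : algebraMap B P.ResidueField (b * t ^ (ℓ ^ n - 1)) =
      y * Ideal.ResidueField.map p P φ hP zc := by
    have hpos : 1 ≤ ℓ ^ n := Nat.one_le_pow _ _ hℓ.pos
    rw [hzc, ← hyeq, map_mul, map_pow, div_mul_eq_mul_div, eq_div_iff hτ, mul_assoc,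
      ← pow_succ, Nat.sub_add_cancel hpos]
  have hβ₁out : algebraMap B P.ResidueField (b * t ^ (ℓ ^ n - 1)) ∉
      (Ideal.ResidueField.map p P φ hP).range := by
    rintro ⟨w, hw⟩
    apply hy
    refine ⟨w / zc, ?_⟩
    rw [map_div₀, hw, hβ₁, mul_div_cancel_right₀ _ hzc0]
  have hβ₁pow : algebraMap B P.ResidueField ((b * t ^ (ℓ ^ n - 1)) ^ ℓ) ∈
      (Ideal.ResidueField.map p P φ hP).range := by
    obtain ⟨w, hw⟩ := hyℓ
    refine ⟨w * zc ^ ℓ, ?_⟩
    rw [map_pow, hβ₁, mul_pow, map_mul, map_pow, hw]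
  set b₁ := b * t ^ (ℓ ^ n - 1) with hb₁
  obtain ⟨a, s, hs, has⟩ := exists_sub_mem_of_residue_mem p P hP (b₁ ^ ℓ) hβ₁pow
  -- `b₂ = φ s * b₁`
  have hb₂out : algebraMap B P.ResidueField (φ s * b₁) ∉
      (Ideal.ResidueField.map p P φ hP).range := fun h => hβ₁out (inK_of_mul p P hP hs h)
  have hb₂pow : (φ s * b₁) ^ ℓ - φ (s ^ (ℓ - 1) * a) ∈ P := by
    have : (φ s * b₁) ^ ℓ - φ (s ^ (ℓ - 1) * a) = φ s ^ (ℓ - 1) * (φ s * b₁ ^ ℓ - φ a) := by
      rw [map_mul, map_pow, mul_pow, mul_sub, ← mul_assoc, ← pow_succ, Nat.sub_add_cancel hℓ1]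
    rw [this]
    exact Ideal.mul_mem_left _ _ has
  have hℓp : (ℓ : A) ∈ p := by
    rw [← Ideal.algebraMap_residueField_eq_zero, map_natCast]
    exact CharP.cast_eq_zero _ ℓ
  have hb₂ℓ : φ (ℓ : A) * (φ s * b₁) ∈ P := by
    apply Ideal.mul_mem_right
    have : (ℓ : A) ∈ P.comap φ := hP ▸ hℓp
    exact this
  obtain ⟨u, hu, hub⟩ := exists_mul_mem_condB hstar p hp P huniq hb₂pow
  obtain ⟨v, hv, hvb⟩ := exists_mul_mem_condB hstar p hp P huniq hb₂ℓ
  have huv : u * v ∉ p := fun h => (Ideal.IsPrime.mem_or_mem inferInstance h).elim hu hv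
  refine ⟨ℓ, φ (u * v) * (φ s * b₁), hℓ, ?_, ?_, ?_⟩
  · rintro ⟨a₃, ha₃⟩
    apply hb₂out
    apply inK_of_mul p P hP huv
    rw [← ha₃]
    exact ⟨_, (residue_phi p P hP a₃).symm⟩
  · have : (ℓ : B) * (φ (u * v) * (φ s * b₁)) = φ u * (φ v * (φ (ℓ : A) * (φ s * b₁))) := by
      rw [map_mul, map_natCast]
      ring
    rw [this]
    exact condB_le_range φ (Ideal.mul_mem_left _ _ hvb)
  · have h1 : φ u * (φ s * b₁) ^ ℓ ∈ φ.range := by
      have : φ u * (φ s * b₁) ^ ℓ =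
          φ u * ((φ s * b₁) ^ ℓ - φ (s ^ (ℓ - 1) * a)) + φ (u * (s ^ (ℓ - 1) * a)) := by
        rw [map_mul φ u]
        ring
      rw [this]
      exact Subring.add_mem _ (condB_le_range φ hub) ⟨_, rfl⟩
    have h2 : (φ (u * v) * (φ s * b₁)) ^ ℓ =
        φ ((u * v) ^ (ℓ - 1) * v) * (φ u * (φ s * b₁) ^ ℓ) := by
      have h3 : φ (u * v) ^ ℓ = φ (u * v) ^ (ℓ - 1) * φ (u * v) := by
        rw [← pow_succ, Nat.sub_add_cancel hℓ1]
      rw [mul_pow, h3]
      simp only [map_mul, map_pow]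
      ring
    rw [h2]
    exact Subring.mul_mem _ ⟨_, rfl⟩ h1

end Groth.Agent.Lib.Helper9.Conductor
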