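import Groth.Agent.Lib.Helper9.DomLim
set_option autoImplicit false
set_option linter.style.haveILetI false
set_option linter.unusedSectionVars false
universe u v w
open CategoryTheory CategoryTheory.Limits AlgebraicGeometry TopologicalSpace Opposite

namespace Groth.Agent.Lib.Helper9.ConnLim

section topology

variable {A B : Type*} [TopologicalSpace A] [TopologicalSpace B]

lemma finite_range_connectedComponent (hfin : (irreducibleComponents A).Finite) :
    (Set.range (connectedComponent : A → Set A)).Finite := by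
  apply (hfin.image (fun Y => ⋃ y ∈ Y, connectedComponent y)).subset
  rintro _ ⟨x, rfl⟩
  refine ⟨irreducibleComponent x, irreducibleComponent_mem_irreducibleComponents x, ?_⟩
  apply le_antisymm
  · apply Set.iUnion₂_subset
    intro y hy
    have h1 : y ∈ connectedComponent x :=
      isIrreducible_irreducibleComponent.isConnected.isPreconnected.subset_connectedComponent
        mem_irreducibleComponent hy
    rw [connectedComponent_eq h1]
  · exact Set.subset_biUnion_of_mem (u := fun y => connectedComponent y)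
      (mem_irreducibleComponent (x := x))

lemma isClopen_connectedComponent_of_finite
    (hfin : (Set.range (connectedComponent : A → Set A)).Finite) (a : A) :
    IsClopen (connectedComponent a) := by
  refine ⟨isClosed_connectedComponent, ?_⟩
  have h1 : connectedComponent a =
      (⋃ C ∈ (Set.range (connectedComponent : A → Set A)) \ {connectedComponent a}, C)ᶜ := by
    ext x
    simp only [Set.mem_compl_iff, Set.mem_iUnion, Set.mem_sdiff, Set.mem_range,
      Set.mem_singleton_iff, not_exists]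
    constructor
    · rintro hx C ⟨⟨y, rfl⟩, hne⟩ hxC
      exact hne ((connectedComponent_eq hxC).trans (connectedComponent_eq hx).symm)
    · intro h
      by_contra hx
      apply h (connectedComponent x) ⟨⟨x, rfl⟩, ?_⟩ mem_connectedComponent
      intro heq
      exact hx (heq ▸ mem_connectedComponent)
  rw [h1, isOpen_compl_iff]
  apply Set.Finite.isClosed_biUnion (hfin.subset Set.sdiff_subset)
  rintro C ⟨⟨y, rfl⟩, -⟩
  exact isClosed_connectedComponent

/-- pure topology: bijection on connected components -/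
lemma bijOn_connectedComponents (p : A → B) (hp : Continuous p)
    (hfin : (Set.range (connectedComponent : A → Set A)).Finite)
    (H : ∀ b : B, ∃ a : A, p a ⤳ b)
    (Hd : ∀ a a' : A, connectedComponent a ≠ connectedComponent a' →
      Disjoint (closure (p '' connectedComponent a)) (closure (p '' connectedComponent a'))) :
    Set.BijOn (fun C : Set A => closure (p '' C)) (Set.range (connectedComponent : A → Set A))
      (Set.range (connectedComponent : B → Set B)) := by
  let T : A → Set B := fun a => closure (p '' connectedComponent a)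
  have hmem : ∀ a, p a ∈ T a := fun a => subset_closure ⟨a, mem_connectedComponent, rfl⟩
  have hconn : ∀ a, IsConnected (T a) := fun a =>
    (isConnected_connectedComponent.image p hp.continuousOn).closure
  have hcov : ∀ b, ∃ a, b ∈ T a := by
    intro b
    obtain ⟨a, ha⟩ := H b
    exact ⟨a, closure_mono (Set.singleton_subset_iff.2
      (show p a ∈ p '' connectedComponent a from ⟨a, mem_connectedComponent, rfl⟩))
      (specializes_iff_mem_closure.1 ha)⟩
  have hclopen : ∀ a, IsClopen (T a) := by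
    intro a
    refine ⟨isClosed_closure, ?_⟩
    have h1 : T a = (⋃ C ∈ (Set.range (connectedComponent : A → Set A)) \ {connectedComponent a},
        closure (p '' C))ᶜ := by
      ext x
      simp only [Set.mem_compl_iff, Set.mem_iUnion, Set.mem_sdiff, Set.mem_range,
        Set.mem_singleton_iff, not_exists]
      constructor
      · rintro hx C ⟨⟨y, rfl⟩, hne⟩ hxC
        exact Set.disjoint_left.1 (Hd a y (Ne.symm hne)) hx hxC
      · intro h
        obtain ⟨a'', ha''⟩ := hcov x
        by_cases heq : connectedComponent a'' = connectedComponent a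
        · change x ∈ closure (p '' connectedComponent a'') at ha''
          rw [heq] at ha''
          exact ha''
        · exact absurd ha'' (h (connectedComponent a'') ⟨⟨a'', rfl⟩, heq⟩)
    rw [h1, isOpen_compl_iff]
    apply Set.Finite.isClosed_biUnion (hfin.subset Set.sdiff_subset)
    intro C _
    exact isClosed_closure
  have hcomp : ∀ a, T a = connectedComponent (p a) := fun a =>
    le_antisymm ((hconn a).isPreconnected.subset_connectedComponent (hmem a))
      ((hclopen a).connectedComponent_subset (hmem a))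
  refine ⟨?_, ?_, ?_⟩
  · rintro _ ⟨a, rfl⟩
    exact ⟨p a, (hcomp a).symm⟩
  · rintro _ ⟨a, rfl⟩ _ ⟨a', rfl⟩ heq
    by_contra hne
    have heq' : T a = T a' := heq
    have hd := Hd a a' hne
    have h3 : p a ∈ T a' := by rw [← heq']; exact hmem a
    exact Set.disjoint_left.1 hd (hmem a) h3
  · rintro _ ⟨b, rfl⟩
    obtain ⟨a, ha⟩ := hcov b
    refine ⟨connectedComponent a, ⟨a, rfl⟩, ?_⟩
    change T a = connectedComponent b
    rw [hcomp a] at ha ⊢
    exact (connectedComponent_eq ha)

end topology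

variable {I : Type u} [SmallCategory I] [IsCofiltered I] (D : I ⥤ Scheme.{u})
  (c : Cone D) (hc : IsLimit c) [∀ {i j : I} (f : i ⟶ j), IsAffineHom (D.map f)]

section embedding

variable (he : ∀ (i j : I) (φ : i ⟶ j), Topology.IsEmbedding ⇑(D.map φ))

omit [IsCofiltered I] [∀ {i j : I} (f : i ⟶ j), IsAffineHom (D.map f)] in
lemma mapsTo_closure_image (C : Set c.pt) {j k : I} (g : j ⟶ k) :
    Set.MapsTo (D.map g) (closure ((c.π.app j) '' C)) (closure ((c.π.app k) '' C)) := by
  intro x hx
  have h1 : (D.map g) x ∈ closure ((D.map g) '' ((c.π.app j) '' C)) :=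
    image_closure_subset_closure_image (D.map g).continuous ⟨x, hx, rfl⟩
  have h2 : (D.map g) '' ((c.π.app j) '' C) = (c.π.app k) '' C := by
    rw [Set.image_image]
    apply Set.image_congr
    intro w _
    rw [← Scheme.Hom.comp_apply, c.w]
  rw [h2] at h1
  exact h1

include hc he in
lemma exists_stage_disjoint (i₀ : I) [NoetherianSpace (D.obj i₀)] (C C' : Set c.pt)
    (hC : IsClosed C) (hC' : IsClosed C') (hdisj : Disjoint C C') :
    ∃ (k : I) (_ : k ⟶ i₀), ∀ (j : I) (_ : j ⟶ k),
      Disjoint (closure ((c.π.app j) '' C)) (closure ((c.π.app j) '' C')) := by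
  by_contra hcon
  push Not at hcon
  let Z : ∀ (j : I), (j ⟶ i₀) → Set (D.obj j) := fun j _ =>
    closure ((c.π.app j) '' C) ∩ closure ((c.π.app j) '' C')
  have hZne : ∀ (k : I) (f : k ⟶ i₀), (Z k f).Nonempty := by
    intro k f
    obtain ⟨j, g, hj⟩ := hcon k f
    rw [Set.not_disjoint_iff] at hj
    obtain ⟨x, hx1, hx2⟩ := hj
    exact ⟨(D.map g) x, mapsTo_closure_image D c C g hx1, mapsTo_closure_image D c C' g hx2⟩
  obtain ⟨s, hs⟩ := exists_mem_of_isClosed_of_nonempty' D c hc Z
    (fun j f => isClosed_closure.inter isClosed_closure) hZne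
    (fun j f => by
      have : NoetherianSpace (D.obj j) := (he j i₀ f).isInducing.noetherianSpace
      exact NoetherianSpace.isCompact _)
    (fun j j' g f x hx => ⟨mapsTo_closure_image D c C g hx.1, mapsTo_closure_image D c C' g hx.2⟩)
  have hind := EmbLim.isInducing_π D c hc he i₀
  have h1 := hs i₀ (𝟙 i₀)
  have hsC : s ∈ C := by
    rw [← hC.closure_eq, hind.closure_eq_preimage_closure_image]
    exact h1.1
  have hsC' : s ∈ C' := by
    rw [← hC'.closure_eq, hind.closure_eq_preimage_closure_image]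
    exact h1.2
  exact Set.disjoint_left.1 hdisj hsC hsC'

include hc he in
theorem main_embedding (i₀ : I) [NoetherianSpace (D.obj i₀)] [NoetherianSpace c.pt] :
    ∃ (i : I) (_ : i ⟶ i₀), ∀ (j : I) (_ : j ⟶ i),
      Set.BijOn (fun C : Set c.pt => closure (⇑(c.π.app j) '' (C : Set c.pt) : Set (D.obj j)))
        (Set.range (connectedComponent : c.pt → Set c.pt))
        (Set.range (connectedComponent : D.obj j → Set (D.obj j))) := by
  classical
  have hfin : (Set.range (connectedComponent : c.pt → Set c.pt)).Finite :=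
    finite_range_connectedComponent NoetherianSpace.finite_irreducibleComponents
  obtain ⟨i₁, a₁, h₁⟩ := EmbLim.exists_stage_forall_specializes D c hc he i₀
  have key : ∀ C ∈ Set.range (connectedComponent : c.pt → Set c.pt),
      ∀ C' ∈ Set.range (connectedComponent : c.pt → Set c.pt), C ≠ C' →
      ∃ (k : I), ∀ (j : I) (_ : j ⟶ k),
        Disjoint (closure ((c.π.app j) '' C)) (closure ((c.π.app j) '' C')) := by
    rintro _ ⟨a, rfl⟩ _ ⟨a', rfl⟩ hne
    obtain ⟨k, -, hk⟩ := exists_stage_disjoint D c hc he i₀ _ _ isClosed_connectedComponent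
      isClosed_connectedComponent (connectedComponent_disjoint hne)
    exact ⟨k, hk⟩
  choose kk hkk using key
  let O : Finset I := insert i₁ ((hfin.toFinset.attach ×ˢ hfin.toFinset.attach).image
    (fun P => if h : P.1.1 ≠ P.2.1 then
      kk P.1.1 (hfin.mem_toFinset.1 P.1.2) P.2.1 (hfin.mem_toFinset.1 P.2.2) h else i₁))
  obtain ⟨i, hi⟩ := IsCofiltered.inf_objs_exists O
  obtain ⟨a⟩ := hi (Finset.mem_insert_self i₁ _)
  refine ⟨i, a ≫ a₁, fun j g => ?_⟩
  apply bijOn_connectedComponents _ (c.π.app j).continuous hfin (h₁ j (g ≫ a))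
  intro x x' hne
  have hmem : kk _ ⟨x, rfl⟩ _ ⟨x', rfl⟩ hne ∈ O := by
    apply Finset.mem_insert_of_mem
    simp only [Finset.mem_image, Finset.mem_product, Finset.mem_attach, and_self, true_and]
    refine ⟨⟨⟨connectedComponent x, hfin.mem_toFinset.2 ⟨x, rfl⟩⟩,
      ⟨connectedComponent x', hfin.mem_toFinset.2 ⟨x', rfl⟩⟩⟩, ?_⟩
    simp only [ne_eq, hne, not_false_eq_true, dite_true]
  obtain ⟨b⟩ := hi hmem
  exact hkk _ ⟨x, rfl⟩ _ ⟨x', rfl⟩ hne j (g ≫ b)

end embedding

section dominant

variable (hd : ∀ (i j : I) (φ : i ⟶ j), IsDominant (D.map φ))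

include hc hd in
lemma exists_stage_clopen (i₀ : I) [CompactSpace (D.obj i₀)] (C : Set c.pt) (hC : IsClopen C)
    (hCc : IsCompact C) (hCc' : IsCompact Cᶜ) :
    ∃ (k : I), ∀ (j : I) (_ : j ⟶ k), ∃ W : Set (D.obj j), IsClopen W ∧
      (c.π.app j) '' C ⊆ W ∧ (c.π.app j) '' Cᶜ ⊆ Wᶜ := by
  classical
  obtain ⟨k₁, V₁, hV₁c, hV₁⟩ := exists_preimage_eq D c hc ⟨C, hC.2⟩ hCc
  obtain ⟨k₂, V₂, hV₂c, hV₂⟩ := exists_preimage_eq D c hc ⟨Cᶜ, hC.1.isOpen_compl⟩ hCc'
  obtain ⟨m, hm⟩ := IsCofiltered.inf_objs_exists ({k₁, k₂, i₀} : Finset I)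
  obtain ⟨a₁⟩ := hm (show k₁ ∈ ({k₁, k₂, i₀} : Finset I) by simp)
  obtain ⟨a₂⟩ := hm (show k₂ ∈ ({k₁, k₂, i₀} : Finset I) by simp)
  obtain ⟨a₀⟩ := hm (show i₀ ∈ ({k₁, k₂, i₀} : Finset I) by simp)
  let U₁ : (D.obj m).Opens := D.map a₁ ⁻¹ᵁ V₁
  let U₂ : (D.obj m).Opens := D.map a₂ ⁻¹ᵁ V₂
  have hU₁ : ∀ s : c.pt, (c.π.app m) s ∈ U₁ ↔ s ∈ C := by
    intro s
    change (D.map a₁) ((c.π.app m) s) ∈ V₁ ↔ _
    rw [← Scheme.Hom.comp_apply, c.w]
    change s ∈ (c.π.app k₁ ⁻¹ᵁ V₁ : c.pt.Opens) ↔ _
    rw [hV₁]; rfl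
  have hU₂ : ∀ s : c.pt, (c.π.app m) s ∈ U₂ ↔ s ∈ Cᶜ := by
    intro s
    change (D.map a₂) ((c.π.app m) s) ∈ V₂ ↔ _
    rw [← Scheme.Hom.comp_apply, c.w]
    change s ∈ (c.π.app k₂ ⁻¹ᵁ V₂ : c.pt.Opens) ↔ _
    rw [hV₂]; rfl
  have hcm : CompactSpace (D.obj m) := QuasiCompact.compactSpace_of_compactSpace (D.map a₀)
  obtain ⟨k, f, hk⟩ := exists_map_preimage_le_map_preimage D c hc (i := m) (U := ⊤)
    (V := U₁ ⊔ U₂) isCompact_univ (by
      intro s _
      change (c.π.app m) s ∈ (U₁ ⊔ U₂ : (D.obj m).Opens)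
      by_cases hs : s ∈ C
      · exact Or.inl ((hU₁ s).2 hs)
      · exact Or.inr ((hU₂ s).2 hs))
  refine ⟨k, fun j g => ?_⟩
  let W₁ : Set (D.obj j) := (D.map (g ≫ f)) ⁻¹' (U₁ : Set (D.obj m))
  let W₂ : Set (D.obj j) := (D.map (g ≫ f)) ⁻¹' (U₂ : Set (D.obj m))
  have hW₁o : IsOpen W₁ := U₁.isOpen.preimage (D.map (g ≫ f)).continuous
  have hW₂o : IsOpen W₂ := U₂.isOpen.preimage (D.map (g ≫ f)).continuous
  have hw : ∀ s : c.pt, (D.map (g ≫ f)) ((c.π.app j) s) = (c.π.app m) s := fun s => by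
    rw [← Scheme.Hom.comp_apply, c.w]
  have hcover : ∀ y : D.obj j, y ∈ W₁ ∨ y ∈ W₂ := by
    intro y
    have h1 : (D.map g) y ∈ (D.map f ⁻¹ᵁ (U₁ ⊔ U₂) : (D.obj k).Opens) := hk (Set.mem_univ _)
    have h2 : (D.map (g ≫ f)) y ∈ (U₁ ⊔ U₂ : (D.obj m).Opens) := by
      rw [D.map_comp, Scheme.Hom.comp_apply]; exact h1
    exact h2
  have hdense := DomLim.denseRange_π D c hc hd j
  have hdisj : W₁ ∩ W₂ = ∅ := by
    by_contra hne
    obtain ⟨_, ⟨hy1, hy2⟩, ⟨s, rfl⟩⟩ := (dense_iff_inter_open.1 hdense) (W₁ ∩ W₂)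
      (hW₁o.inter hW₂o) (Set.nonempty_iff_ne_empty.2 hne)
    have h1 : s ∈ C := (hU₁ s).1 (by rw [← hw]; exact hy1)
    have h2 : s ∈ Cᶜ := (hU₂ s).1 (by rw [← hw]; exact hy2)
    exact h2 h1
  have hcompl : W₁ᶜ = W₂ := by
    ext y
    constructor
    · intro hy
      exact (hcover y).resolve_left hy
    · intro hy hy1
      have : y ∈ W₁ ∩ W₂ := ⟨hy1, hy⟩
      rw [hdisj] at this
      exact this
  refine ⟨W₁, ⟨?_, hW₁o⟩, ?_, ?_⟩
  · rw [← isOpen_compl_iff, hcompl]; exact hW₂o
  · rintro _ ⟨s, hs, rfl⟩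
    change (D.map (g ≫ f)) ((c.π.app j) s) ∈ U₁
    rw [hw]; exact (hU₁ s).2 hs
  · rintro _ ⟨s, hs, rfl⟩
    rw [hcompl]
    change (D.map (g ≫ f)) ((c.π.app j) s) ∈ U₂
    rw [hw]; exact (hU₂ s).2 hs

include hc hd in
theorem main_dominant (i₀ : I) [CompactSpace (D.obj i₀)] [NoetherianSpace c.pt] :
    ∃ (i : I) (_ : i ⟶ i₀), ∀ (j : I) (_ : j ⟶ i),
      Set.BijOn (fun C : Set c.pt => closure (⇑(c.π.app j) '' (C : Set c.pt) : Set (D.obj j)))
        (Set.range (connectedComponent : c.pt → Set c.pt))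
        (Set.range (connectedComponent : D.obj j → Set (D.obj j))) := by
  classical
  have hfin : (Set.range (connectedComponent : c.pt → Set c.pt)).Finite :=
    finite_range_connectedComponent NoetherianSpace.finite_irreducibleComponents
  have key : ∀ C ∈ Set.range (connectedComponent : c.pt → Set c.pt),
      ∃ (k : I), ∀ (j : I) (_ : j ⟶ k), ∃ W : Set (D.obj j), IsClopen W ∧
        (c.π.app j) '' C ⊆ W ∧ (c.π.app j) '' Cᶜ ⊆ Wᶜ := by
    rintro _ ⟨a, rfl⟩
    exact exists_stage_clopen D c hc hd i₀ _ (isClopen_connectedComponent_of_finite hfin a)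
      (NoetherianSpace.isCompact _) (NoetherianSpace.isCompact _)
  choose kk hkk using key
  let O : Finset I := insert i₀ (hfin.toFinset.attach.image
    (fun P => kk P.1 (hfin.mem_toFinset.1 P.2)))
  obtain ⟨i, hi⟩ := IsCofiltered.inf_objs_exists O
  obtain ⟨a⟩ := hi (Finset.mem_insert_self i₀ _)
  refine ⟨i, a, fun j g => ?_⟩
  have hdense := DomLim.denseRange_π D c hc hd j
  apply bijOn_connectedComponents _ (c.π.app j).continuous hfin
  · intro b
    let q : c.pt ⟶ D.obj j := c.π.app j
    have hq : b ∈ closure (Set.range q) := by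
      rw [DenseRange.closure_range (f := q) hdense]
      exact Set.mem_univ b
    exact EmbLim.exists_specializes_of_mem_closure_range q q.continuous b hq
  · intro x x' hne
    have hmem : kk _ ⟨x, rfl⟩ ∈ O := by
      apply Finset.mem_insert_of_mem
      simp only [Finset.mem_image, Finset.mem_attach, true_and]
      exact ⟨⟨connectedComponent x, hfin.mem_toFinset.2 ⟨x, rfl⟩⟩, rfl⟩
    obtain ⟨b⟩ := hi hmem
    obtain ⟨W, hW, hW1, hW2⟩ := hkk _ ⟨x, rfl⟩ j (g ≫ b)
    have hsub : connectedComponent x' ⊆ (connectedComponent x)ᶜ := by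
      intro y hy hy'
      exact Set.disjoint_left.1 (connectedComponent_disjoint hne) hy' hy
    have h1 : closure ((c.π.app j) '' connectedComponent x) ⊆ W :=
      closure_minimal hW1 hW.1
    have h2 : closure ((c.π.app j) '' connectedComponent x') ⊆ Wᶜ :=
      closure_minimal ((Set.image_mono hsub).trans hW2) hW.2.isClosed_compl
    exact Set.disjoint_left.2 fun y hy hy' => h2 hy' (h1 hy)

end dominant

end Groth.Agent.Lib.Helper9.ConnLim
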