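import Mathlib
import Groth.Prelude.Def_W4c6modpairsegaMP

set_option autoImplicit false
universe u
open CategoryTheory CategoryTheory.Limits AlgebraicGeometry TopologicalSpace

namespace Groth.Agent.Lib.Helper9.PairCoprod

variable {σ : Type u} (g : σ → Scheme.{u}) (I : ∀ a, (g a).IdealSheafData)

/-- The coproduct of the closed immersions of the subschemes. -/
noncomputable def subMap : (∐ fun a => (I a).subscheme) ⟶ ∐ g :=
  Limits.Sigma.map (fun a => (I a).subschemeι)

@[reassoc]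
lemma ι_subMap (a : σ) :
    Sigma.ι (fun a => (I a).subscheme) a ≫ subMap g I = (I a).subschemeι ≫ Sigma.ι g a := by
  simp [subMap]

lemma preimage_opensRange (a : σ) :
    (subMap g I) ⁻¹ᵁ (Sigma.ι g a).opensRange =
      (Sigma.ι (fun a => (I a).subscheme) a).opensRange := by
  ext z
  obtain ⟨b, z', rfl⟩ := (sigmaOpenCover (fun a => (I a).subscheme)).exists_eq z
  change (subMap g I) (Sigma.ι (fun a => (I a).subscheme) b z') ∈ Set.range (Sigma.ι g a) ↔
    Sigma.ι (fun a => (I a).subscheme) b z' ∈ Set.range (Sigma.ι (fun a => (I a).subscheme) a)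
  have h1 : (subMap g I) (Sigma.ι (fun a => (I a).subscheme) b z') =
      Sigma.ι g b ((I b).subschemeι z') := by
    rw [← Scheme.Hom.comp_apply, ι_subMap, Scheme.Hom.comp_apply]
  rw [h1]
  constructor
  · rintro ⟨x, hx⟩
    obtain ⟨rfl, -⟩ := Sigma.mk.inj_iff.1 ((sigmaι_eq_iff g _ _ _ _).1 hx)
    exact ⟨z', rfl⟩
  · rintro ⟨z'', hz''⟩
    obtain ⟨rfl, -⟩ := Sigma.mk.inj_iff.1 ((sigmaι_eq_iff _ _ _ _ _).1 hz'')
    exact ⟨_, rfl⟩

lemma isPullback_subMap (a : σ) :
    IsPullback (I a).subschemeι (Sigma.ι (fun a => (I a).subscheme) a) (Sigma.ι g a)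
      (subMap g I) :=
  IsOpenImmersion.isPullback _ _ _ _ (ι_subMap g I a) (preimage_opensRange g I a)

instance : QuasiCompact (subMap g I) := by
  refine IsZariskiLocalAtTarget.of_openCover (P := @QuasiCompact) (sigmaOpenCover g) ?_
  intro a
  change QuasiCompact (pullback.snd (subMap g I) (Sigma.ι g a))
  have H := (isPullback_subMap g I a).flip
  have e : pullback.snd (subMap g I) (Sigma.ι g a) =
      H.isoPullback.inv ≫ (I a).subschemeι := by
    rw [Iso.eq_inv_comp]
    exact H.isoPullback_hom_snd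
  rw [e]
  infer_instance

/-- The ideal sheaf on the coproduct. -/
noncomputable def sigmaIdeal : (∐ g).IdealSheafData := (subMap g I).ker

lemma sigmaIdeal_comap (a : σ) : (sigmaIdeal g I).comap (Sigma.ι g a) = I a := by
  ext W : 2
  rw [Scheme.IdealSheafData.ideal_comap_of_isOpenImmersion]
  have := Scheme.ker_ideal_of_isPullback_of_isOpenImmersion _ _ _ _
    (isPullback_subMap g I a) W
  rw [Scheme.IdealSheafData.ker_subschemeι] at this
  exact this.symm


lemma exists_ι_eq (x : ↥(∐ g)) : ∃ (a : σ) (x' : g a), Sigma.ι g a x' = x :=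
  (sigmaOpenCover g).exists_eq x

lemma le_of_comap_le {J J' : (∐ g).IdealSheafData}
    (h : ∀ a, J.comap (Sigma.ι g a) ≤ J'.comap (Sigma.ι g a)) : J ≤ J' := by
  refine Scheme.IdealSheafData.le_of_iSup_eq_top
    (ι := Σ a, (g a).affineOpens)
    (fun p => ⟨Sigma.ι g p.1 ''ᵁ p.2.1, p.2.2.image_of_isOpenImmersion _⟩) ?_ ?_
  · rw [eq_top_iff]
    intro x _
    obtain ⟨a, x', rfl⟩ := exists_ι_eq g x
    obtain ⟨_, ⟨W, hW, rfl⟩, hxW, -⟩ :=
      (g a).isBasis_affineOpens.exists_subset_of_mem_open (Set.mem_univ x') isOpen_univ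
    exact Opens.mem_iSup.2 ⟨⟨a, ⟨W, hW⟩⟩, ⟨x', hxW, rfl⟩⟩
  · rintro ⟨a, W⟩
    have := h a W
    rw [Scheme.IdealSheafData.ideal_comap_of_isOpenImmersion,
      Scheme.IdealSheafData.ideal_comap_of_isOpenImmersion] at this
    refine (Ideal.comap_le_comap_iff_of_surjective _ ?_ _ _).1 this
    exact (ConcreteCategory.bijective_of_isIso ((Sigma.ι g a).appIso W.1).inv).2

lemma isEffCartier_sigmaIdeal (hI : ∀ a, BlowUp.IsEffCartierIdeal (I a)) :
    BlowUp.IsEffCartierIdeal (sigmaIdeal g I) := by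
  intro x
  obtain ⟨a, x', rfl⟩ := exists_ι_eq g x
  obtain ⟨W, hxW, t, ht, hW⟩ := hI a x'
  have hbij := ConcreteCategory.bijective_of_isIso ((Sigma.ι g a).appIso W.1).inv
  refine ⟨⟨Sigma.ι g a ''ᵁ W.1, W.2.image_of_isOpenImmersion _⟩, ⟨x', hxW, rfl⟩,
    ((Sigma.ι g a).appIso W.1).inv.hom t, ?_, ?_⟩
  · rw [mem_nonZeroDivisors_iff_right] at ht ⊢
    intro r hr
    obtain ⟨r', rfl⟩ := hbij.2 r
    rw [← map_mul] at hr
    have : r' * t = 0 := hbij.1 (by rw [hr, map_zero])
    rw [ht r' this, map_zero]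
  · have h1 : ((sigmaIdeal g I).comap (Sigma.ι g a)).ideal W = (I a).ideal W := by
      rw [sigmaIdeal_comap g I a]
    rw [Scheme.IdealSheafData.ideal_comap_of_isOpenImmersion] at h1
    have h2 := congrArg (Ideal.map ((Sigma.ι g a).appIso W.1).inv.hom) h1
    rw [Ideal.map_comap_of_surjective _ hbij.2, hW, Ideal.map_span, Set.image_singleton] at h2
    exact h2

section Cocone

variable (F : Discrete σ ⥤ ModPair.Pair.{u})

/-- The coproduct pair. -/
noncomputable def coprodPair : ModPair.Pair.{u} where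
  total := ∐ (fun a => (F.obj ⟨a⟩).total)
  mod := sigmaIdeal _ (fun a => (F.obj ⟨a⟩).mod)
  isEffCartier := isEffCartier_sigmaIdeal _ _ (fun a => (F.obj ⟨a⟩).isEffCartier)

/-- The coprojections. -/
noncomputable def coprodι (a : σ) : F.obj ⟨a⟩ ⟶ coprodPair F :=
  ⟨Sigma.ι (fun a => (F.obj ⟨a⟩).total) a,
    (sigmaIdeal_comap _ (fun a => (F.obj ⟨a⟩).mod) a).ge⟩

/-- The cocone. -/
noncomputable def cocone : Cocone F where
  pt := coprodPair F
  ι := Discrete.natTrans (fun a => coprodι F a.as)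

lemma desc_cond (s : Cocone F) :
    sigmaIdeal _ (fun a => (F.obj ⟨a⟩).mod) ≤
      s.pt.mod.comap (Sigma.desc (fun a => (s.ι.app ⟨a⟩).hom)) := by
  refine le_of_comap_le _ fun a => ?_
  rw [sigmaIdeal_comap, ← Scheme.IdealSheafData.comap_comp, Sigma.ι_desc]
  exact (s.ι.app ⟨a⟩).cond

/-- The cocone is a colimit. -/
noncomputable def isColimit : IsColimit (cocone F) where
  desc s := ⟨Sigma.desc (fun a => (s.ι.app ⟨a⟩).hom), desc_cond F s⟩
  fac s := fun ⟨a⟩ => ModPair.Pair.Hom.ext (Sigma.ι_desc _ _)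
  uniq s m hm := ModPair.Pair.Hom.ext (Sigma.hom_ext _ _ fun a => by
    rw [Sigma.ι_desc]
    exact congrArg ModPair.Pair.Hom.hom (hm ⟨a⟩))

/-- The image cocone in schemes is a colimit. -/
noncomputable def isColimitMap : IsColimit (ModPair.Pair.forget.mapCocone (cocone F)) where
  desc s := Sigma.desc (fun a => s.ι.app ⟨a⟩)
  fac s := fun ⟨a⟩ => Sigma.ι_desc _ _
  uniq s m hm := Sigma.hom_ext _ _ fun a => by
    rw [Sigma.ι_desc]
    exact hm ⟨a⟩

theorem main : HasColimitsOfShape (Discrete σ) ModPair.Pair.{u} ∧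
    PreservesColimitsOfShape (Discrete σ) ModPair.Pair.forget.{u} :=
  ⟨⟨fun F => ⟨⟨⟨cocone F, isColimit F⟩⟩⟩⟩,
    ⟨fun {F} => preservesColimit_of_preserves_colimit_cocone (isColimit F) (isColimitMap F)⟩⟩

end Cocone

end Groth.Agent.Lib.Helper9.PairCoprod
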