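import Groth.Agent.Lib.Helper9.LocPull2
import Groth.Agent.Lib.Helper9.PairCoprod

set_option autoImplicit false
universe u
open CategoryTheory CategoryTheory.Limits AlgebraicGeometry TopologicalSpace

namespace Groth.Agent.Lib.Helper9.CoprodAdm

open Groth.Agent.Lib.Helper9.LocPull

/-- isomorphism over each member of a family of opens implies isomorphism over the union -/
lemma isIso_morphismRestrict_iSup {X Y : Scheme.{u}} (f : X ⟶ Y) {ι : Type*} (O : ι → Y.Opens)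
    (h : ∀ j, IsIso (f ∣_ O j)) : IsIso (f ∣_ ⨆ j, O j) := by
  set U := ⨆ j, O j with hU
  have hcov : ⨆ j, (U.ι ⁻¹ᵁ O j) = ⊤ := by
    rw [eq_top_iff]
    intro x _
    obtain ⟨j, hj⟩ := Opens.mem_iSup.1 x.2
    exact Opens.mem_iSup.2 ⟨j, hj⟩
  change MorphismProperty.isomorphisms Scheme.{u} (f ∣_ U)
  rw [IsZariskiLocalAtTarget.iff_of_iSup_eq_top (P := MorphismProperty.isomorphisms Scheme.{u})
    (fun j => U.ι ⁻¹ᵁ O j) hcov]
  intro j
  rw [(MorphismProperty.isomorphisms Scheme.{u}).arrow_mk_iso_iff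
    (morphismRestrictRestrict f U (U.ι ⁻¹ᵁ O j))]
  have heq : U.ι ''ᵁ (U.ι ⁻¹ᵁ O j) = O j := by
    apply le_antisymm
    · rintro _ ⟨x, hx, rfl⟩; exact hx
    · intro y hy
      exact ⟨⟨y, Opens.mem_iSup.2 ⟨j, hy⟩⟩, hy, rfl⟩
  have key : ∀ U' : Y.Opens, U' = O j → IsIso (f ∣_ U') := by
    rintro _ rfl; exact h j
  exact key _ heq

/-- isomorphism over an open of a summand transfers along a cartesian square of open immersions -/
lemma isIso_morphismRestrict_image {X Y Q P : Scheme.{u}} (f : X ⟶ Y) (w : Q ⟶ P) (ιQ : Q ⟶ X)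
    (ιP : P ⟶ Y) [IsOpenImmersion ιP] (hpb : IsPullback w ιQ ιP f) (U : P.Opens)
    (h : IsIso (w ∣_ U)) : IsIso (f ∣_ (ιP ''ᵁ U)) := by
  have heq : (U.ι ≫ ιP).opensRange = ιP ''ᵁ U := by
    ext y
    constructor
    · rintro ⟨x, rfl⟩; exact ⟨U.ι x, x.2, rfl⟩
    · rintro ⟨x, hx, rfl⟩; exact ⟨⟨x, hx⟩, rfl⟩
  have key : ∀ U' : Y.Opens, U' = (U.ι ≫ ιP).opensRange → IsIso (f ∣_ U') := by
    rintro _ rfl
    change MorphismProperty.isomorphisms Scheme.{u} _
    rw [(MorphismProperty.isomorphisms Scheme.{u}).arrow_mk_iso_iff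
      (morphismRestrictOpensRange f (U.ι ≫ ιP))]
    have top : IsPullback (w ∣_ U) (w ⁻¹ᵁ U).ι U.ι w := isPullback_morphismRestrict w U
    have big : IsPullback (w ∣_ U) ((w ⁻¹ᵁ U).ι ≫ ιQ) (U.ι ≫ ιP) f := top.paste_vert hpb
    have e : pullback.snd f (U.ι ≫ ιP) = big.flip.isoPullback.inv ≫ (w ∣_ U) := by
      rw [Iso.eq_inv_comp]; exact big.flip.isoPullback_hom_snd
    rw [e]
    change IsIso _
    infer_instance
  exact key _ heq.symm

end Groth.Agent.Lib.Helper9.CoprodAdm
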