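import Groth.Agent.Lib.Helper9.CoprodAdm1
import Groth.Agent.Lib.Helper9.MProd

set_option autoImplicit false
universe u
open CategoryTheory CategoryTheory.Limits AlgebraicGeometry TopologicalSpace

namespace Groth.Agent.Lib.Helper9.CoprodAdm

open Groth.Agent.Lib.Helper9.PairCoprod Groth.Agent.Lib.Helper9.MProd

section SigmaMap

variable {σ : Type u} (g₁ g₂ : σ → Scheme.{u}) (w : ∀ a, g₁ a ⟶ g₂ a)

@[reassoc]
lemma ι_sigmaMap (a : σ) : Sigma.ι g₁ a ≫ Limits.Sigma.map w = w a ≫ Sigma.ι g₂ a := by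
  simp

lemma preimage_opensRange_sigmaMap (a : σ) :
    (Limits.Sigma.map w) ⁻¹ᵁ (Sigma.ι g₂ a).opensRange = (Sigma.ι g₁ a).opensRange := by
  ext z
  obtain ⟨b, z', rfl⟩ := (sigmaOpenCover g₁).exists_eq z
  change (Limits.Sigma.map w) (Sigma.ι g₁ b z') ∈ Set.range (Sigma.ι g₂ a) ↔
    Sigma.ι g₁ b z' ∈ Set.range (Sigma.ι g₁ a)
  have h1 : (Limits.Sigma.map w) (Sigma.ι g₁ b z') = Sigma.ι g₂ b (w b z') := by
    rw [← Scheme.Hom.comp_apply, ι_sigmaMap, Scheme.Hom.comp_apply]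
  rw [h1]
  constructor
  · rintro ⟨x, hx⟩
    obtain ⟨rfl, -⟩ := Sigma.mk.inj_iff.1 ((sigmaι_eq_iff g₂ _ _ _ _).1 hx)
    exact ⟨z', rfl⟩
  · rintro ⟨z'', hz''⟩
    obtain ⟨rfl, -⟩ := Sigma.mk.inj_iff.1 ((sigmaι_eq_iff _ _ _ _ _).1 hz'')
    exact ⟨_, rfl⟩

lemma isPullback_sigmaMap (a : σ) :
    IsPullback (w a) (Sigma.ι g₁ a) (Sigma.ι g₂ a) (Limits.Sigma.map w) :=
  IsOpenImmersion.isPullback _ _ _ _ (ι_sigmaMap g₁ g₂ w a) (preimage_opensRange_sigmaMap g₁ g₂ w a)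

lemma isProper_sigmaMap (hw : ∀ a, IsProper (w a)) : IsProper (Limits.Sigma.map w) := by
  refine IsZariskiLocalAtTarget.of_openCover (P := @IsProper) (sigmaOpenCover g₂) ?_
  intro a
  change IsProper (pullback.snd (Limits.Sigma.map w) (Sigma.ι g₂ a))
  have H := (isPullback_sigmaMap g₁ g₂ w a).flip
  have e : pullback.snd (Limits.Sigma.map w) (Sigma.ι g₂ a) = H.isoPullback.inv ≫ w a := by
    rw [Iso.eq_inv_comp]
    exact H.isoPullback_hom_snd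
  rw [e]
  haveI := hw a
  infer_instance

variable (I₁ : ∀ a, (g₁ a).IdealSheafData) (I₂ : ∀ a, (g₂ a).IdealSheafData)

lemma sigmaIdeal_comap_sigmaMap (hmin : ∀ a, I₁ a = (I₂ a).comap (w a)) :
    sigmaIdeal g₁ I₁ = (sigmaIdeal g₂ I₂).comap (Limits.Sigma.map w) := by
  have key : ∀ a, (sigmaIdeal g₁ I₁).comap (Sigma.ι g₁ a) =
      ((sigmaIdeal g₂ I₂).comap (Limits.Sigma.map w)).comap (Sigma.ι g₁ a) := by
    intro a
    rw [sigmaIdeal_comap, ← Scheme.IdealSheafData.comap_comp, ι_sigmaMap,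
      Scheme.IdealSheafData.comap_comp, sigmaIdeal_comap, hmin a]
  exact le_antisymm (le_of_comap_le g₁ fun a => (key a).le) (le_of_comap_le g₁ fun a => (key a).ge)

lemma interior_sigmaIdeal :
    ModPair.interior (sigmaIdeal g₂ I₂) = ⨆ a, (Sigma.ι g₂ a) ''ᵁ ModPair.interior (I₂ a) := by
  ext x
  obtain ⟨a, x', rfl⟩ := exists_ι_eq g₂ x
  have h1 : Sigma.ι g₂ a x' ∈ ModPair.interior (sigmaIdeal g₂ I₂) ↔ x' ∈ ModPair.interior (I₂ a) := by
    rw [← sigmaIdeal_comap g₂ I₂ a, interior_comap]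
    rfl
  rw [SetLike.mem_coe, h1, SetLike.mem_coe, Opens.mem_iSup]
  constructor
  · intro hx
    exact ⟨a, x', hx, rfl⟩
  · rintro ⟨b, x'', hx'', hxx⟩
    obtain ⟨rfl, h2⟩ := Sigma.mk.inj_iff.1 ((sigmaι_eq_iff g₂ _ _ _ _).1 hxx)
    rw [heq_iff_eq] at h2
    rw [← h2]; exact hx''

lemma isIso_sigmaMap_restrict (hiso : ∀ a, IsIso (w a ∣_ ModPair.interior (I₂ a))) :
    IsIso (Limits.Sigma.map w ∣_ ModPair.interior (sigmaIdeal g₂ I₂)) := by
  have key : ∀ U' : (∐ g₂).Opens, U' = ⨆ a, (Sigma.ι g₂ a) ''ᵁ ModPair.interior (I₂ a) →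
      IsIso (Limits.Sigma.map w ∣_ U') := by
    rintro _ rfl
    apply isIso_morphismRestrict_iSup
    intro a
    exact isIso_morphismRestrict_image _ (w a) (Sigma.ι g₁ a) (Sigma.ι g₂ a)
      (isPullback_sigmaMap g₁ g₂ w a) _ (hiso a)
  exact key _ (interior_sigmaIdeal g₂ I₂)

end SigmaMap

end Groth.Agent.Lib.Helper9.CoprodAdm
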