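import Groth.Agent.Lib.Helper9.RCalc

set_option autoImplicit false
universe u
open CategoryTheory CategoryTheory.Limits AlgebraicGeometry TopologicalSpace

namespace Groth.Agent.Lib.Helper9.RCalc

open Groth.Agent.Lib.Helper29.EffCart Groth.Agent.Lib.Helper9.MProd

lemma hom_comp_hom {P Q R : ModPair.Pair.{u}} (f : P ⟶ Q) (g : Q ⟶ R) :
    (f ≫ g).hom = f.hom ≫ g.hom := rfl

lemma hom_id (P : ModPair.Pair.{u}) : (𝟙 P : P ⟶ P).hom = 𝟙 P.total := rfl

/-- ambient morphisms of pairs agreeing after an admissible blow-up are equal -/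
theorem hom_eq_of_comp_eq {X Y Y' : ModPair.Pair.{u}} (f₁ f₂ : X ⟶ Y) (s : Y ⟶ Y')
    (hs : ModPair.Pair.admBlowup s) (h : f₁ ≫ s = f₂ ≫ s) : f₁ = f₂ := by
  obtain ⟨hmin, hprop, hiso⟩ := hs
  have := hprop
  have := hiso
  have h' : f₁.hom ≫ s.hom = f₂.hom ≫ s.hom := congrArg ModPair.Pair.Hom.hom h
  set U := ModPair.interior X.mod with hU
  set W := ModPair.interior Y'.mod with hW
  have hdense : U.ι.ker = ⊥ := ker_ι_compl_support_eq_bot X.mod X.isEffCartier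
  have hr : ∀ f : X ⟶ Y, Set.range (U.ι ≫ f.hom) ⊆ Set.range (s.hom ⁻¹ᵁ W).ι := by
    intro f
    rintro _ ⟨x, rfl⟩
    rw [Scheme.Opens.range_ι]
    change s.hom ((U.ι ≫ f.hom) x) ∉ Y'.mod.support
    intro hx
    have hc : X.mod ≤ Y'.mod.comap (f ≫ s).hom := (f ≫ s).cond
    have h1 : U.ι x ∈ (Y'.mod.comap (f ≫ s).hom).support := by
      rw [Scheme.IdealSheafData.support_comap]
      exact hx
    exact x.2 (Scheme.IdealSheafData.support_antitone hc h1)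
  let q : ∀ f : X ⟶ Y, (U : Scheme.{u}) ⟶ (s.hom ⁻¹ᵁ W : Scheme.{u}) := fun f =>
    IsOpenImmersion.lift (s.hom ⁻¹ᵁ W).ι (U.ι ≫ f.hom) (hr f)
  have hq : ∀ f, q f ≫ (s.hom ⁻¹ᵁ W).ι = U.ι ≫ f.hom := fun f => IsOpenImmersion.lift_fac _ _ _
  have hq12 : q f₁ = q f₂ := by
    rw [← cancel_mono (s.hom ∣_ W), ← cancel_mono W.ι, Category.assoc, Category.assoc,
      morphismRestrict_ι, ← Category.assoc, ← Category.assoc, hq, hq, Category.assoc,
      Category.assoc, h']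
  apply ModPair.Pair.Hom.ext
  refine eq_of_eq_on_dense f₁.hom f₂.hom s.hom h' U hdense ?_
  rw [← hq, ← hq, hq12]

theorem admBlowup_id (P : ModPair.Pair.{u}) : ModPair.Pair.admBlowup (𝟙 P) := by
  refine ⟨?_, ?_, ?_⟩
  · change P.mod = P.mod.comap (𝟙 P.total)
    rw [Scheme.IdealSheafData.comap_id]
  · change IsProper (𝟙 P.total); infer_instance
  · change IsIso ((𝟙 P.total) ∣_ _); infer_instance

theorem admBlowup_comp {P Q R : ModPair.Pair.{u}} (f : P ⟶ Q) (g : Q ⟶ R)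
    (hf : ModPair.Pair.admBlowup f) (hg : ModPair.Pair.admBlowup g) :
    ModPair.Pair.admBlowup (f ≫ g) := by
  obtain ⟨hf1, hf2, hf3⟩ := hf
  obtain ⟨hg1, hg2, hg3⟩ := hg
  refine ⟨?_, ?_, ?_⟩
  · change P.mod = R.mod.comap (f.hom ≫ g.hom)
    rw [Scheme.IdealSheafData.comap_comp]
    exact hf1.trans (congrArg (fun L => Scheme.IdealSheafData.comap L f.hom) hg1)
  · change IsProper (f.hom ≫ g.hom)
    have := hf2; have := hg2; infer_instance
  · change IsIso ((f.hom ≫ g.hom) ∣_ ModPair.interior R.mod)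
    rw [morphismRestrict_comp]
    have e : g.hom ⁻¹ᵁ ModPair.interior R.mod = ModPair.interior Q.mod := by
      rw [← interior_comap]
      exact congrArg ModPair.interior hg1.symm
    have h4 : IsIso (f.hom ∣_ g.hom ⁻¹ᵁ ModPair.interior R.mod) := by rw [e]; exact hf3
    exact @IsIso.comp_isIso _ _ _ _ _ _ _ h4 hg3

theorem hasRightCalculusOfFractions :
    (ModPair.Pair.admBlowup.{u}).HasRightCalculusOfFractions where
  id_mem := admBlowup_id
  comp_mem := admBlowup_comp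
  exists_rightFraction X Y φ := by
    obtain ⟨h1, h2, h3⟩ := Groth.Agent.S18735.result φ.Y'.mod X.mod Y.mod φ.Y'.isEffCartier
      X.isEffCartier Y.isEffCartier φ.f.hom φ.f.cond φ.s.hom φ.hs
    let X' : ModPair.Pair.{u} := ⟨ModPair.mprod φ.s.hom φ.f.hom Y.mod X.mod, _, h1⟩
    let t : X' ⟶ X := ⟨ModPair.mprodι φ.s.hom φ.f.hom Y.mod X.mod ≫ pullback.snd _ _, h2.1.le⟩
    let f' : X' ⟶ Y := ⟨ModPair.mprodι φ.s.hom φ.f.hom Y.mod X.mod ≫ pullback.fst _ _, h3⟩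
    refine ⟨⟨t, h2, f'⟩, ?_⟩
    apply ModPair.Pair.Hom.ext
    change (ModPair.mprodι φ.s.hom φ.f.hom Y.mod X.mod ≫ pullback.snd _ _) ≫ φ.f.hom =
      (ModPair.mprodι φ.s.hom φ.f.hom Y.mod X.mod ≫ pullback.fst _ _) ≫ φ.s.hom
    rw [Category.assoc, Category.assoc, pullback.condition]
  ext X Y Y' f₁ f₂ s hs h := ⟨X, 𝟙 X, admBlowup_id X, by rw [hom_eq_of_comp_eq f₁ f₂ s hs h]⟩

end Groth.Agent.Lib.Helper9.RCalc
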