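import Groth.Agent.Lib.Helper9.CoprodAdm2
import Groth.Agent.Lib.Helper9.RCalc2

set_option autoImplicit false
universe u
open CategoryTheory CategoryTheory.Limits AlgebraicGeometry TopologicalSpace

namespace Groth.Agent.Lib.Helper9.CoprodAdm

open Groth.Agent.Lib.Helper9.PairCoprod Groth.Agent.Lib.Helper9.MProd
open Groth.Agent.Lib.Helper9.RCalc

lemma admBlowup_of_isIso {A B : ModPair.Pair.{u}} (e : A ⟶ B) [IsIso e] :
    ModPair.Pair.admBlowup e := by
  have : IsIso e.hom := by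
    refine ⟨⟨(inv e).hom, ?_, ?_⟩⟩
    · rw [← hom_comp_hom, IsIso.hom_inv_id, hom_id]
    · rw [← hom_comp_hom, IsIso.inv_hom_id, hom_id]
  refine ⟨?_, inferInstance, inferInstance⟩
  apply le_antisymm e.cond
  have h1 : (A.mod.comap (inv e).hom).comap e.hom ≥ B.mod.comap e.hom :=
    Scheme.IdealSheafData.comap_mono e.hom (inv e).cond
  rw [← Scheme.IdealSheafData.comap_comp, ← hom_comp_hom, IsIso.hom_inv_id, hom_id,
    Scheme.IdealSheafData.comap_id] at h1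
  exact h1

instance : (ModPair.Pair.admBlowup.{u}).IsMultiplicative where
  id_mem := admBlowup_id
  comp_mem := admBlowup_comp

instance : (ModPair.Pair.admBlowup.{u}).RespectsIso :=
  MorphismProperty.RespectsIso.of_respects_arrow_iso _ (by
    intro f g e hf
    have h1 : g.hom = inv e.hom.left ≫ f.hom ≫ e.hom.right := by
      rw [IsIso.eq_inv_comp]; exact e.hom.w
    rw [h1]
    exact admBlowup_comp _ _ (admBlowup_of_isIso _) (admBlowup_comp _ _ hf (admBlowup_of_isIso _)))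

/-- coproducts of admissible blow-ups are admissible blow-ups -/
instance stable_sigma (σ : Type u) :
    (ModPair.Pair.admBlowup.{u}).IsStableUnderColimitsOfShape (Discrete σ) where
  condition X₁ X₂ c₁ c₂ h₁ h₂ f hf φ hφ := by
    -- the model map
    let w : ∀ a, (X₁.obj ⟨a⟩).total ⟶ (X₂.obj ⟨a⟩).total := fun a => (f.app ⟨a⟩).hom
    have hmin : ∀ a, (X₁.obj ⟨a⟩).mod = ((X₂.obj ⟨a⟩).mod).comap (w a) := fun a => (hf ⟨a⟩).1
    let Ψ : coprodPair X₁ ⟶ coprodPair X₂ :=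
      ⟨Limits.Sigma.map w, (sigmaIdeal_comap_sigmaMap _ _ w _ _ hmin).le⟩
    have hΨ : ModPair.Pair.admBlowup Ψ :=
      ⟨sigmaIdeal_comap_sigmaMap _ _ w _ _ hmin,
        isProper_sigmaMap _ _ w (fun a => (hf ⟨a⟩).2.1),
        isIso_sigmaMap_restrict _ _ w _ (fun a => (hf ⟨a⟩).2.2)⟩
    let α₁ := IsColimit.coconePointUniqueUpToIso (isColimit X₁) h₁
    let α₂ := IsColimit.coconePointUniqueUpToIso (isColimit X₂) h₂
    have hφΨ : φ = α₁.inv ≫ Ψ ≫ α₂.hom := by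
      apply h₁.hom_ext
      rintro ⟨a⟩
      have hc₂ : (cocone X₂).ι.app ⟨a⟩ ≫ α₂.hom = c₂.ι.app ⟨a⟩ :=
        IsColimit.comp_coconePointUniqueUpToIso_hom _ _ _
      have hc₁ : c₁.ι.app ⟨a⟩ ≫ α₁.inv = (cocone X₁).ι.app ⟨a⟩ :=
        IsColimit.comp_coconePointUniqueUpToIso_inv _ _ _
      have h3 : (cocone X₁).ι.app ⟨a⟩ ≫ Ψ = f.app ⟨a⟩ ≫ (cocone X₂).ι.app ⟨a⟩ := by
        apply ModPair.Pair.Hom.ext
        exact ι_sigmaMap _ _ w a
      rw [hφ, reassoc_of% hc₁, reassoc_of% h3]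
      exact congrArg (f.app ⟨a⟩ ≫ ·) hc₂.symm
    rw [hφΨ]
    exact admBlowup_comp _ _ (admBlowup_of_isIso _) (admBlowup_comp _ _ hΨ (admBlowup_of_isIso _))

end Groth.Agent.Lib.Helper9.CoprodAdm
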