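import Groth.Agent.Lib.Helper9.CoprodAdm3
import Mathlib.CategoryTheory.Localization.FiniteProducts
import Mathlib.CategoryTheory.Localization.Opposite
import Mathlib.CategoryTheory.Limits.Preserves.Opposites
import Mathlib.CategoryTheory.Limits.Shapes.Opposites.Products

set_option autoImplicit false
universe u
open CategoryTheory CategoryTheory.Limits AlgebraicGeometry TopologicalSpace

namespace Groth.Agent.Lib.Helper9.CoprodAdm

open Groth.Agent.Lib.Helper9.PairCoprod Groth.Agent.Lib.Helper9.MProd
open Groth.Agent.Lib.Helper9.RCalc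

section general

universe v₁ u₁ v₂ u₂ v₃ u₃
variable {C : Type u₁} [Category.{v₁} C] (W : MorphismProperty C)

lemma op_isStableUnderLimitsOfShape (J : Type u₂) [Category.{v₂} J]
    [W.IsStableUnderColimitsOfShape Jᵒᵖ] : W.op.IsStableUnderLimitsOfShape J where
  condition X₁ X₂ c₁ c₂ h₁ h₂ f hf φ hφ := by
    refine MorphismProperty.IsStableUnderColimitsOfShape.condition (W := W) X₂.leftOp X₁.leftOp
      (coconeLeftOpOfCone c₂) (coconeLeftOpOfCone c₁)
      (isColimitCoconeLeftOpOfCone _ h₂) (isColimitCoconeLeftOpOfCone _ h₁)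
      (NatTrans.leftOp f) (fun j => hf j.unop) φ.unop (fun j => ?_)
    exact congrArg Quiver.Hom.unop (hφ j.unop)

lemma isStableUnderColimitsOfShape_of_equivalence {J : Type u₂} [Category.{v₂} J]
    {J' : Type u₃} [Category.{v₃} J'] (e : J ≌ J') [h : W.IsStableUnderColimitsOfShape J] :
    W.IsStableUnderColimitsOfShape J' := by
  rw [MorphismProperty.isStableUnderColimitsOfShape_iff_colimitsOfShape_le] at h ⊢
  rwa [← W.colimitsOfShape_eq_of_equivalence e]

end general

theorem main : HasBinaryCoproducts (ModPair.Pair.admBlowup.{u}).Localization ∧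
      PreservesColimitsOfShape (Discrete WalkingPair) (ModPair.Pair.admBlowup.{u}).Q := by
  let e : Discrete (ULift.{u} WalkingPair) ≌ Discrete WalkingPair :=
    Discrete.equivalence Equiv.ulift
  have : HasColimitsOfShape (Discrete (ULift.{u} WalkingPair)) ModPair.Pair.{u} :=
    (PairCoprod.main (σ := ULift.{u} WalkingPair)).1
  have : HasColimitsOfShape (Discrete WalkingPair) ModPair.Pair.{u} :=
    hasColimitsOfShape_of_equivalence e
  have h0 : (ModPair.Pair.admBlowup.{u}).IsStableUnderColimitsOfShape
      (Discrete (ULift.{u} WalkingPair)) := stable_sigma _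
  have h1 : (ModPair.Pair.admBlowup.{u}).IsStableUnderColimitsOfShape (Discrete WalkingPair) :=
    isStableUnderColimitsOfShape_of_equivalence _ e
  have h2 : (ModPair.Pair.admBlowup.{u}).IsStableUnderColimitsOfShape
      (Discrete WalkingPair)ᵒᵖ :=
    isStableUnderColimitsOfShape_of_equivalence _ (Discrete.opposite WalkingPair).symm
  have h3 : (ModPair.Pair.admBlowup.{u}).op.IsStableUnderProductsOfShape WalkingPair :=
    op_isStableUnderLimitsOfShape _ _
  have : HasProductsOfShape WalkingPair ModPair.Pair.{u}ᵒᵖ := hasProductsOfShape_opposite _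
  have h4 : HasProductsOfShape WalkingPair (ModPair.Pair.admBlowup.{u}).Localizationᵒᵖ :=
    Localization.hasProductsOfShape (ModPair.Pair.admBlowup.{u}).Q.op
      (ModPair.Pair.admBlowup.{u}).op WalkingPair
  have h5 : PreservesLimitsOfShape (Discrete WalkingPair) (ModPair.Pair.admBlowup.{u}).Q.op :=
    Localization.preservesProductsOfShape (ModPair.Pair.admBlowup.{u}).Q.op
      (ModPair.Pair.admBlowup.{u}).op WalkingPair
  constructor
  · exact hasCoproductsOfShape_of_opposite WalkingPair
  · haveI : PreservesLimitsOfShape (Discrete WalkingPair)ᵒᵖ (ModPair.Pair.admBlowup.{u}).Q.op :=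
      preservesLimitsOfShape_of_equiv (Discrete.opposite WalkingPair).symm _
    exact preservesColimitsOfShape_of_op _ _

end Groth.Agent.Lib.Helper9.CoprodAdm
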