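import Mathlib

set_option linter.style.haveILetI false
set_option linter.unusedSectionVars false
set_option autoImplicit false

universe u
open CategoryTheory CategoryTheory.Limits AlgebraicGeometry TopologicalSpace

namespace Groth.Agent.Lib.Helper9.Cptf

theorem main9007 {X S : Scheme.{u}} {Y Y' : Scheme.{u}} (j : X ⟶ Y) (q : Y ⟶ S)
    [IsOpenImmersion j] (j' : X ⟶ Y') (q' : Y' ⟶ S) [IsOpenImmersion j'] [IsSeparated q']
    (f : Y' ⟶ Y) (hf : f ≫ q = q') (hfj : j' ≫ f = j) (hd : Dense (Set.range j'.base)) :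
    f ⁻¹ᵁ j.opensRange = j'.opensRange := by
  haveI : IsSeparated (f ≫ q) := by rw [hf]; infer_instance
  haveI : IsSeparated f := IsSeparated.of_comp f q
  set V : Y'.Opens := f ⁻¹ᵁ j.opensRange with hV
  have hrg : Set.range (V.ι ≫ f) ⊆ Set.range j := by
    rintro _ ⟨v, rfl⟩
    exact v.2
  have hrσ : Set.range j' ⊆ Set.range V.ι := by
    rintro _ ⟨x, rfl⟩
    rw [Scheme.Opens.range_ι]
    change f (j' x) ∈ j.opensRange
    rw [← Scheme.Hom.comp_apply, hfj]
    exact ⟨x, rfl⟩
  let g : (V : Scheme.{u}) ⟶ X := IsOpenImmersion.lift j (V.ι ≫ f) hrg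
  let σ : X ⟶ (V : Scheme.{u}) := IsOpenImmersion.lift V.ι j' hrσ
  have hg : g ≫ j = V.ι ≫ f := IsOpenImmersion.lift_fac _ _ _
  have hσ : σ ≫ V.ι = j' := IsOpenImmersion.lift_fac _ _ _
  have hσg : σ ≫ g = 𝟙 X := by
    rw [← cancel_mono j, Category.assoc, hg, ← Category.assoc, hσ, hfj, Category.id_comp]
  haveI : IsSeparated (g ≫ j) := by rw [hg]; infer_instance
  haveI : IsSeparated g := IsSeparated.of_comp g j
  haveI : IsClosedImmersion (σ ≫ g) := by rw [hσg]; infer_instance
  haveI : IsClosedImmersion σ := IsClosedImmersion.of_comp σ g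
  have hcl : IsClosed (Set.range σ) := σ.isClosedEmbedding.isClosed_range
  have hrange : Set.range σ = (fun v : V => V.ι v) ⁻¹' Set.range j' := by
    ext v
    constructor
    · rintro ⟨x, rfl⟩
      refine ⟨x, ?_⟩
      rw [← hσ, Scheme.Hom.comp_apply]
    · rintro ⟨x, hx⟩
      refine ⟨x, V.ι.isOpenEmbedding.injective ?_⟩
      rw [← Scheme.Hom.comp_apply, hσ]
      exact hx
  have hdense : Dense (Set.range σ) := by
    rw [hrange]
    exact hd.preimage V.ι.isOpenEmbedding.isOpenMap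
  have huniv : Set.range σ = Set.univ := by
    rw [← hcl.closure_eq]; exact hdense.closure_eq
  apply le_antisymm
  · intro y hy
    have : (⟨y, hy⟩ : V) ∈ Set.range σ := by rw [huniv]; trivial
    rw [hrange] at this
    exact this
  · rintro _ ⟨x, rfl⟩
    change f (j' x) ∈ j.opensRange
    rw [← Scheme.Hom.comp_apply, hfj]
    exact ⟨x, rfl⟩

end Groth.Agent.Lib.Helper9.Cptf
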