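import Groth.Agent.Lib.Helper9.Decaying2
import Mathlib.RingTheory.AdicCompletion.Completeness

set_option autoImplicit false
universe u v w w'
open W4c5adicflatcompl

namespace Groth.Agent.Lib.Helper9

variable {A : Type u} [CommRing A] {I : Ideal A} {Z : Type v} {M : Type w}
  [AddCommGroup M] [Module A M]

/-- General construction of "convergent sum" maps out of modules of decaying functions:
given compatible bilinear pairings `β n : B → M → M / I^n M` vanishing on `I^n B`, and a family
`f : Z → M` in an `I`-adically complete module `M`, there is a linear map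
`φ : decaying I Z B → M` with `φ g ≡ ∑_{z ∈ S} β n (g z) (f z)` mod `I^n M` for every finite set
`S` outside of which `g` takes values in `I^n B`. -/
theorem exists_linearMap_of_pairing {B : Type w'} [AddCommGroup B] [Module A B]
    [IsAdicComplete I M]
    (β : ∀ n : ℕ, B →ₗ[A] M →ₗ[A] M ⧸ (I ^ n • ⊤ : Submodule A M))
    (hβc : ∀ {m n : ℕ} (h : m ≤ n) (b : B) (x : M),
      Submodule.factorPow I M h (β n b x) = β m b x)
    (hβv : ∀ (n : ℕ) (b : B), b ∈ (I ^ n • ⊤ : Submodule A B) → β n b = 0) (f : Z → M) :
    ∃ φ : decaying I Z B →ₗ[A] M, ∀ (g : decaying I Z B) (n : ℕ) (S : Finset Z),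
      (∀ z, z ∉ S → (g : Z → B) z ∈ (I ^ n • ⊤ : Submodule A B)) →
      (Submodule.Quotient.mk (φ g) : M ⧸ (I ^ n • ⊤ : Submodule A M)) =
        ∑ z ∈ S, β n ((g : Z → B) z) (f z) := by
  classical
  -- the canonical finite sets
  let T : ∀ (n : ℕ) (g : decaying I Z B), Finset Z := fun n g => (g.2 n).toFinset
  have hT : ∀ n g z, z ∉ T n g → (g : Z → B) z ∈ (I ^ n • ⊤ : Submodule A B) := by
    intro n g z hz
    by_contra hcon
    exact hz ((g.2 n).mem_toFinset.mpr hcon)
  let ψ : ∀ (n : ℕ), decaying I Z B → M ⧸ (I ^ n • ⊤ : Submodule A M) := fun n g =>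
    ∑ z ∈ T n g, β n ((g : Z → B) z) (f z)
  have key : ∀ (n : ℕ) (g : decaying I Z B) (S : Finset Z),
      (∀ z, z ∉ S → (g : Z → B) z ∈ (I ^ n • ⊤ : Submodule A B)) →
      ∑ z ∈ S, β n ((g : Z → B) z) (f z) = ψ n g := by
    intro n g S hS
    have h1 : ∑ z ∈ S, β n ((g : Z → B) z) (f z) =
        ∑ z ∈ S ∪ T n g, β n ((g : Z → B) z) (f z) := by
      refine Finset.sum_subset Finset.subset_union_left fun z _ hz => ?_
      rw [hβv n _ (hS z hz)]
      rfl
    have h2 : ψ n g = ∑ z ∈ S ∪ T n g, β n ((g : Z → B) z) (f z) := by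
      refine Finset.sum_subset Finset.subset_union_right fun z _ hz => ?_
      rw [hβv n _ (hT n g z hz)]
      rfl
    rw [h1, h2]
  let Ψ : ∀ n : ℕ, decaying I Z B →ₗ[A] M ⧸ (I ^ n • ⊤ : Submodule A M) := fun n =>
    { toFun := ψ n
      map_add' := by
        intro g g'
        set S := T n (g + g') ∪ T n g ∪ T n g' with hS
        have e1 := key n (g + g') S (fun z hz => hT n _ z (by
          intro h; exact hz (by simp [hS, h])))
        have e2 := key n g S (fun z hz => hT n _ z (by
          intro h; exact hz (by simp [hS, h])))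
        have e3 := key n g' S (fun z hz => hT n _ z (by
          intro h; exact hz (by simp [hS, h])))
        rw [← e1, ← e2, ← e3, ← Finset.sum_add_distrib]
        refine Finset.sum_congr rfl fun z _ => ?_
        show β n ((g : Z → B) z + (g' : Z → B) z) (f z) = _
        rw [map_add, LinearMap.add_apply]
      map_smul' := by
        intro a g
        set S := T n (a • g) ∪ T n g with hS
        have e1 := key n (a • g) S (fun z hz => hT n _ z (by
          intro h; exact hz (by simp [hS, h])))
        have e2 := key n g S (fun z hz => hT n _ z (by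
          intro h; exact hz (by simp [hS, h])))
        rw [← e1, ← e2, RingHom.id_apply, Finset.smul_sum]
        refine Finset.sum_congr rfl fun z _ => ?_
        show β n (a • (g : Z → B) z) (f z) = _
        rw [map_smul, LinearMap.smul_apply] }
  have hΨ : ∀ n g, Ψ n g = ψ n g := fun n g => rfl
  have hcompat : ∀ {m n : ℕ} (hle : m ≤ n), Submodule.factorPow I M hle ∘ₗ Ψ n = Ψ m := by
    intro m n hle
    ext g
    rw [LinearMap.comp_apply, hΨ, hΨ]
    show Submodule.factorPow I M hle (∑ z ∈ T n g, β n ((g : Z → B) z) (f z)) = _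
    rw [map_sum]
    simp only [hβc hle]
    apply key m g
    intro z hz
    exact pow_smul_top_anti hle (hT n g z hz)
  refine ⟨IsAdicComplete.lift I Ψ hcompat, fun g n S hS => ?_⟩
  rw [IsAdicComplete.mk_lift, hΨ]
  exact (key n g S hS).symm

end Groth.Agent.Lib.Helper9
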