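import Groth.Agent.Lib.Helper9.Decaying3
import Mathlib.RingTheory.Flat.EquationalCriterion

set_option autoImplicit false
universe u v w w'
open W4c5adicflatcompl

namespace Groth.Agent.Lib.Helper9

variable {A : Type u} [CommRing A] {I : Ideal A} {Z : Type v} {M : Type w}
  [AddCommGroup M] [Module A M]

/-- A retract of an `I`-adically complete module is `I`-adically complete. -/
theorem isAdicComplete_of_retract {Q : Type w'} [AddCommGroup Q] [Module A Q]
    [IsAdicComplete I Q] (i : M →ₗ[A] Q) (r : Q →ₗ[A] M) (hri : ∀ x, r (i x) = x) :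
    IsAdicComplete I M := by
  refine { toIsHausdorff := ⟨fun x hx => ?_⟩, toIsPrecomplete := ⟨fun F hF => ?_⟩ }
  · have : i x = 0 := by
      apply IsHausdorff.haus (I := I) (M := Q) IsAdicComplete.toIsHausdorff
      intro n
      have := hx n
      rw [SModEq.zero] at this ⊢
      exact Submodule.smul_top_le_comap_smul_top (I ^ n) i this
    rw [← hri x, this, map_zero]
  · obtain ⟨L, hL⟩ := IsPrecomplete.prec
      (IsAdicComplete.toIsPrecomplete (I := I) (M := Q))
      (f := fun n => i (F n)) (fun {m n} hmn => by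
        have := hF hmn
        rw [SModEq.sub_mem] at this ⊢
        rw [← map_sub]
        exact Submodule.smul_top_le_comap_smul_top (I ^ m) i this)
    refine ⟨r L, fun n => ?_⟩
    have := hL n
    rw [SModEq.sub_mem] at this ⊢
    have h2 := Submodule.smul_top_le_comap_smul_top (I ^ n) r this
    rw [Submodule.mem_comap, map_sub, hri] at h2
    exact h2

/-- Functoriality of decaying functions in the coefficient module. -/
def decayingMap (I : Ideal A) (Z : Type v) {B : Type w} {B' : Type w'} [AddCommGroup B]
    [Module A B] [AddCommGroup B'] [Module A B'] (e : B →ₗ[A] B') :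
    decaying I Z B →ₗ[A] decaying I Z B' where
  toFun g := ⟨fun z => e ((g : Z → B) z), fun n => (g.2 n).subset fun z hz hcon =>
    hz (Submodule.smul_top_le_comap_smul_top (I ^ n) e hcon)⟩
  map_add' g g' := by
    apply Subtype.ext
    funext z
    exact map_add e _ _
  map_smul' a g := by
    apply Subtype.ext
    funext z
    exact map_smul e _ _

@[simp] theorem decayingMap_apply (I : Ideal A) (Z : Type v) {B : Type w} {B' : Type w'}
    [AddCommGroup B] [Module A B] [AddCommGroup B'] [Module A B'] (e : B →ₗ[A] B')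
    (g : decaying I Z B) (z : Z) :
    ((decayingMap I Z e g : decaying I Z B') : Z → B') z = e ((g : Z → B) z) := rfl

/-- A linear equivalence of coefficient modules induces one on decaying functions. -/
def decayingCongr (I : Ideal A) (Z : Type v) {B : Type w} {B' : Type w'} [AddCommGroup B]
    [Module A B] [AddCommGroup B'] [Module A B'] (e : B ≃ₗ[A] B') :
    decaying I Z B ≃ₗ[A] decaying I Z B' :=
  LinearEquiv.ofLinearMap (decayingMap I Z e.toLinearMap) (decayingMap I Z e.symm.toLinearMap)
    (by
      ext g z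
      simp)
    (by
      ext g z
      simp)

/-- Flatness of the quotient: if `φ : D → M` is surjective and `M` is flat, then
`ker φ ∩ J D ⊆ J (ker φ)`. -/
theorem mem_smul_ker_of_flat {D : Type w'} [AddCommGroup D] [Module A D] [Module.Flat A M]
    (φ : D →ₗ[A] M) (hφ : Function.Surjective φ) (J : Ideal A) (x : D) (hxK : φ x = 0)
    (hxJ : x ∈ (J • ⊤ : Submodule A D)) : x ∈ (J • LinearMap.ker φ : Submodule A D) := by
  classical
  have hspan : (⊤ : Submodule A D) = Submodule.span A (Set.range (id : D → D)) := by
    rw [Set.range_id, Submodule.span_univ]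
  rw [hspan] at hxJ
  obtain ⟨a, ha, hsum⟩ := (Submodule.mem_ideal_smul_span_iff_exists_sum J (id : D → D) x).mp hxJ
  -- re-index the sum over the finite type `a.support`
  have hx : x = ∑ i : a.support, a (i : D) • (i : D) := by
    rw [← hsum, Finsupp.sum, ← Finset.sum_coe_sort]
    rfl
  have hrel : ∑ i : a.support, a (i : D) • φ (i : D) = 0 := by
    rw [← hxK, hx, map_sum]
    simp
  obtain ⟨k, b, y, hy, hb⟩ := Module.Flat.isTrivialRelation_of_sum_smul_eq_zero hrel
  choose d' hd' using fun j => hφ (y j)
  let κ : a.support → D := fun i => (i : D) - ∑ j, b i j • d' j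
  have hκ : ∀ i, κ i ∈ LinearMap.ker φ := by
    intro i
    rw [LinearMap.mem_ker, map_sub, map_sum, sub_eq_zero]
    have := hy i
    simp only at this
    rw [this]
    refine Finset.sum_congr rfl fun j _ => ?_
    rw [map_smul, hd']
  have hx2 : x = ∑ i : a.support, a (i : D) • κ i := by
    have hzero : ∑ i : a.support, a (i : D) • ∑ j, b i j • d' j = 0 := by
      simp_rw [Finset.smul_sum, smul_smul]
      rw [Finset.sum_comm]
      refine Finset.sum_eq_zero fun j _ => ?_
      rw [← Finset.sum_smul, hb j, zero_smul]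
    simp only [κ, smul_sub, Finset.sum_sub_distrib, hzero, sub_zero]
    exact hx
  rw [hx2]
  exact Submodule.sum_mem _ fun i _ => Submodule.smul_mem_smul (ha _) (hκ i)

/-- Convergent sum map `decaying I Z A → M` for complete `M`. -/
theorem exists_convergentSum [IsAdicComplete I M] (f : Z → M) :
    ∃ φ : decaying I Z A →ₗ[A] M, ∀ (g : decaying I Z A) (n : ℕ) (S : Finset Z),
      (∀ z, z ∉ S → (g : Z → A) z ∈ I ^ n) →
      φ g - ∑ z ∈ S, (g : Z → A) z • f z ∈ (I ^ n • ⊤ : Submodule A M) := by
  have htop : ∀ k : ℕ, (I ^ k • ⊤ : Submodule A A) = I ^ k := fun k => by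
    rw [smul_eq_mul, Ideal.mul_top]
  let β : ∀ n : ℕ, A →ₗ[A] M →ₗ[A] M ⧸ (I ^ n • ⊤ : Submodule A M) := fun n =>
    (LinearMap.lsmul A M).compr₂ (Submodule.mkQ _)
  have hβ : ∀ n (a : A) (x : M), β n a x = Submodule.Quotient.mk (a • x) := fun n a x => rfl
  obtain ⟨φ, hφ⟩ := exists_linearMap_of_pairing (I := I) (Z := Z) β
    (fun h b x => rfl)
    (fun n b hb => by
      ext x
      rw [hβ, LinearMap.zero_apply, Submodule.Quotient.mk_eq_zero]
      rw [htop] at hb
      exact Submodule.smul_mem_smul hb Submodule.mem_top) f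
  refine ⟨φ, fun g n S hS => ?_⟩
  rw [← Submodule.Quotient.mk_eq_zero, Submodule.Quotient.mk_sub, sub_eq_zero]
  rw [hφ g n S (fun z hz => by rw [htop]; exact hS z hz)]
  rw [← Submodule.mkQ_apply, map_sum]
  rfl

end Groth.Agent.Lib.Helper9
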