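import Groth.Agent.Lib.Helper9.Decaying4
import Groth.Agent.S17540
import Mathlib.LinearAlgebra.Basis.VectorSpace
import Mathlib.RingTheory.LocalRing.MaximalIdeal.Basic
import Mathlib.Algebra.Module.Torsion.Basic

set_option autoImplicit false
universe u v w w'
open W4c5adicflatcompl

namespace Groth.Agent.Lib.Helper9

/-- Over a complete Noetherian local ring, a flat and complete module is isomorphic to a module of
decaying functions. -/
theorem exists_equiv_decaying_of_flat_of_complete {A : Type u} [CommRing A] [IsNoetherianRing A]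
    [IsLocalRing A] [IsAdicComplete (IsLocalRing.maximalIdeal A) A]
    (M : Type u) [AddCommGroup M] [Module A M] [Module.Flat A M]
    [IsAdicComplete (IsLocalRing.maximalIdeal A) M] :
    ∃ Z : Type u, Nonempty (M ≃ₗ[A] decaying (IsLocalRing.maximalIdeal A) Z A) := by
  classical
  set m := IsLocalRing.maximalIdeal A with hm
  have hmfg : m.FG := IsNoetherian.noetherian m
  have htop : ∀ k : ℕ, (m ^ k • ⊤ : Submodule A A) = m ^ k := fun k => by
    rw [smul_eq_mul, Ideal.mul_top]
  let _ : Field (A ⧸ m) := Ideal.Quotient.field m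
  let V := M ⧸ (m • ⊤ : Submodule A M)
  let b := Module.Basis.ofVectorSpace (A ⧸ m) V
  let Z := ↥(Module.Basis.ofVectorSpaceIndex (A ⧸ m) V)
  choose f hf using fun z : Z => Submodule.Quotient.mk_surjective (m • ⊤ : Submodule A M) (b z)
  -- independence modulo m
  have hindep : ∀ (S : Finset Z) (a : Z → A),
      ∑ z ∈ S, a z • f z ∈ (m • ⊤ : Submodule A M) → ∀ z ∈ S, a z ∈ m := by
    intro S a hsum z hz
    have h0 : ∑ z ∈ S, (Ideal.Quotient.mk m (a z)) • b z = 0 := by
      have h1 := (Submodule.Quotient.mk_eq_zero (m • ⊤ : Submodule A M)).mpr hsum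
      rw [← Submodule.mkQ_apply, map_sum] at h1
      rw [← h1]
      refine Finset.sum_congr rfl fun z _ => ?_
      rw [← hf z]
      rfl
    have := linearIndependent_iff'.mp b.linearIndependent S
      (fun z => Ideal.Quotient.mk m (a z)) h0 z hz
    exact Ideal.Quotient.eq_zero_iff_mem.mp this
  -- spanning modulo m
  have hspan : Submodule.span A (Set.range f) ⊔ m • ⊤ = ⊤ := by
    rw [eq_top_iff]
    intro x _
    have hx := b.linearCombination_repr (Submodule.Quotient.mk x : V)
    rw [Finsupp.linearCombination_apply, Finsupp.sum] at hx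
    choose c hc using fun z : Z =>
      Ideal.Quotient.mk_surjective (b.repr (Submodule.Quotient.mk x : V) z)
    set S := (b.repr (Submodule.Quotient.mk x : V)).support with hS
    have hmem : x - ∑ z ∈ S, c z • f z ∈ (m • ⊤ : Submodule A M) := by
      rw [← Submodule.Quotient.mk_eq_zero, Submodule.Quotient.mk_sub, sub_eq_zero]
      refine Eq.trans hx.symm ?_
      rw [← Submodule.mkQ_apply (m • ⊤ : Submodule A M) (∑ z ∈ S, c z • f z), map_sum]
      refine Finset.sum_congr rfl fun z _ => ?_
      rw [← hc z, ← hf z]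
      rfl
    have h2 : x = ∑ z ∈ S, c z • f z + (x - ∑ z ∈ S, c z • f z) := by abel
    rw [h2]
    exact Submodule.add_mem_sup (Submodule.sum_mem _ fun z _ =>
      Submodule.smul_mem _ _ (Submodule.subset_span (Set.mem_range_self z))) hmem
  -- the convergent sum map
  obtain ⟨φ, hφ⟩ := exists_convergentSum (I := m) (Z := Z) f
  have hD : IsHausdorff m (decaying m Z A) :=
    @isHausdorff_decaying _ _ m Z A _ _ IsAdicComplete.toIsHausdorff
  -- surjectivity
  have hsurj : Function.Surjective φ := by
    intro x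
    obtain ⟨g, hg, hgn⟩ := (Groth.Agent.S17540.result m M Z f).mp hspan x
    refine ⟨⟨g, hg⟩, ?_⟩
    rw [← sub_eq_zero]
    apply IsHausdorff.haus (I := m) (M := M) IsAdicComplete.toIsHausdorff
    intro n
    rw [SModEq.zero]
    obtain ⟨S', h1, h2⟩ := hgn n
    set T := (hg n).toFinset with hT
    have hTout : ∀ z, z ∉ T → g z ∈ m ^ n := by
      intro z hz
      by_contra hcon
      apply hz
      rw [hT, Set.Finite.mem_toFinset]
      show g z ∉ (m ^ n • ⊤ : Submodule A A)
      rw [htop]
      exact hcon
    have h3 := hφ ⟨g, hg⟩ n (S' ∪ T) (fun z hz => hTout z (fun h => hz (Finset.mem_union_right _ h)))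
    have hunion : S' ∪ T = S' ∪ (T \ S') := (Finset.union_sdiff_self_eq_union).symm
    rw [hunion, Finset.sum_union Finset.disjoint_sdiff] at h3
    have hR : ∑ z ∈ T \ S', g z • f z ∈ (m ^ n • ⊤ : Submodule A M) :=
      Submodule.sum_mem _ fun z hz => h1 z (Finset.mem_sdiff.mp hz).2
    have : φ ⟨g, hg⟩ - x = (φ ⟨g, hg⟩ - (∑ z ∈ S', g z • f z + ∑ z ∈ T \ S', g z • f z)) -
        (x - ∑ z ∈ S', g z • f z) + ∑ z ∈ T \ S', g z • f z := by abel
    rw [this]
    exact Submodule.add_mem _ (Submodule.sub_mem _ h3 h2) hR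
  -- injectivity
  have hK1 : ∀ g : decaying m Z A, φ g = 0 → g ∈ (m • ⊤ : Submodule A (decaying m Z A)) := by
    intro g hg0
    have hval : ∀ z, (g : Z → A) z ∈ (m ^ 1 • ⊤ : Submodule A A) := by
      intro z
      rw [htop, pow_one]
      set T := (g.2 1).toFinset with hT
      have hTout : ∀ z, z ∉ T → (g : Z → A) z ∈ m ^ 1 := by
        intro z hz
        by_contra hcon
        apply hz
        rw [hT, Set.Finite.mem_toFinset]
        show (g : Z → A) z ∉ (m ^ 1 • ⊤ : Submodule A A)
        rw [htop]
        exact hcon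
      have h3 := hφ g 1 T hTout
      rw [hg0, zero_sub, Submodule.neg_mem_iff, pow_one] at h3
      by_cases hz : z ∈ T
      · exact hindep T (fun z => (g : Z → A) z) h3 z hz
      · have := hTout z hz
        rwa [pow_one] at this
    have := decaying_mem_smul_top_of_forall_mem hmfg 1 g hval
    rwa [pow_one] at this
  have hKn : ∀ n : ℕ, LinearMap.ker φ ≤ (m ^ n • ⊤ : Submodule A (decaying m Z A)) := by
    intro n
    induction n with
    | zero => simp
    | succ n ih =>
      intro g hg
      have h1 := mem_smul_ker_of_flat φ hsurj m g hg (hK1 g hg)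
      have h2 : (m • LinearMap.ker φ : Submodule A (decaying m Z A)) ≤ m ^ (n + 1) • ⊤ := by
        rw [pow_succ', mul_smul]
        exact Submodule.smul_mono le_rfl ih
      exact h2 h1
  have hinj : Function.Injective φ := by
    rw [← LinearMap.ker_eq_bot, eq_bot_iff]
    intro g hg
    rw [Submodule.mem_bot]
    apply IsHausdorff.haus (I := m) (M := decaying m Z A) hD
    intro n
    rw [SModEq.zero]
    exact hKn n hg
  exact ⟨Z, ⟨(LinearEquiv.ofBijective φ ⟨hinj, hsurj⟩).symm⟩⟩

end Groth.Agent.Lib.Helper9
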