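import Groth.Agent.Lib.Helper9.Decaying4

set_option autoImplicit false
universe u v w w'
open W4c5adicflatcompl

namespace Groth.Agent.Lib.Helper9

variable {A : Type u} [CommRing A] {I : Ideal A} {Z : Type v}

/-- Finite-sum maps out of decaying functions into a module killed by `I ^ k`. -/
theorem exists_finiteSum_linearMap {N : Type w} [AddCommGroup N] [Module A N] (k : ℕ)
    (hkill : ∀ a ∈ I ^ k, ∀ y : N, a • y = 0) (e : Z → N) :
    ∃ φ : decaying I Z A →ₗ[A] N, ∀ (g : decaying I Z A) (S : Finset Z),
      (∀ z, z ∉ S → (g : Z → A) z ∈ I ^ k) → φ g = ∑ z ∈ S, (g : Z → A) z • e z := by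
  classical
  have htop : (I ^ k • ⊤ : Submodule A A) = I ^ k := by
    rw [smul_eq_mul, Ideal.mul_top]
  let T : ∀ (g : decaying I Z A), Finset Z := fun g => (g.2 k).toFinset
  have hT : ∀ g z, z ∉ T g → (g : Z → A) z ∈ I ^ k := by
    intro g z hz
    by_contra hcon
    apply hz
    rw [Set.Finite.mem_toFinset]
    show (g : Z → A) z ∉ (I ^ k • ⊤ : Submodule A A)
    rw [htop]
    exact hcon
  let ψ : decaying I Z A → N := fun g => ∑ z ∈ T g, (g : Z → A) z • e z
  have key : ∀ (g : decaying I Z A) (S : Finset Z),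
      (∀ z, z ∉ S → (g : Z → A) z ∈ I ^ k) →
      ∑ z ∈ S, (g : Z → A) z • e z = ψ g := by
    intro g S hS
    have h1 : ∑ z ∈ S, (g : Z → A) z • e z = ∑ z ∈ S ∪ T g, (g : Z → A) z • e z := by
      refine Finset.sum_subset Finset.subset_union_left fun z _ hz => ?_
      exact hkill _ (hS z hz) _
    have h2 : ψ g = ∑ z ∈ S ∪ T g, (g : Z → A) z • e z := by
      refine Finset.sum_subset Finset.subset_union_right fun z _ hz => ?_
      exact hkill _ (hT g z hz) _
    rw [h1, h2]
  let Ψ : decaying I Z A →ₗ[A] N :=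
    { toFun := ψ
      map_add' := by
        intro g g'
        set S := T (g + g') ∪ T g ∪ T g' with hS
        have e1 := key (g + g') S (fun z hz => hT _ z (by
          intro h; exact hz (by simp [hS, h])))
        have e2 := key g S (fun z hz => hT _ z (by
          intro h; exact hz (by simp [hS, h])))
        have e3 := key g' S (fun z hz => hT _ z (by
          intro h; exact hz (by simp [hS, h])))
        rw [← e1, ← e2, ← e3, ← Finset.sum_add_distrib]
        refine Finset.sum_congr rfl fun z _ => ?_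
        show ((g : Z → A) z + (g' : Z → A) z) • e z = _
        rw [add_smul]
      map_smul' := by
        intro a g
        set S := T (a • g) ∪ T g with hS
        have e1 := key (a • g) S (fun z hz => hT _ z (by
          intro h; exact hz (by simp [hS, h])))
        have e2 := key g S (fun z hz => hT _ z (by
          intro h; exact hz (by simp [hS, h])))
        rw [← e1, ← e2, RingHom.id_apply, Finset.smul_sum]
        refine Finset.sum_congr rfl fun z _ => ?_
        show (a • (g : Z → A) z) • e z = _
        rw [smul_assoc] }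
  exact ⟨Ψ, fun g S hS => (key g S hS).symm⟩

/-- Equational flatness over a quotient ring: if `N` is flat over `A ⧸ J` and `φ : D → N` is a
surjective `A`-linear map, then `ker φ ∩ 𝔞 D ⊆ 𝔞 (ker φ) + J D`. -/
theorem mem_smul_ker_sup_of_flat_quotient {D : Type w'} [AddCommGroup D] [Module A D]
    {N : Type w} [AddCommGroup N] [Module A N] (J : Ideal A) [Module (A ⧸ J) N]
    [IsScalarTower A (A ⧸ J) N] [Module.Flat (A ⧸ J) N]
    (φ : D →ₗ[A] N) (hφ : Function.Surjective φ) (𝔞 : Ideal A) (x : D) (hxK : φ x = 0)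
    (hx𝔞 : x ∈ (𝔞 • ⊤ : Submodule A D)) :
    x ∈ (𝔞 • LinearMap.ker φ ⊔ J • ⊤ : Submodule A D) := by
  classical
  have hspan : (⊤ : Submodule A D) = Submodule.span A (Set.range (id : D → D)) := by
    rw [Set.range_id, Submodule.span_univ]
  rw [hspan] at hx𝔞
  obtain ⟨a, ha, hsum⟩ := (Submodule.mem_ideal_smul_span_iff_exists_sum 𝔞 (id : D → D) x).mp hx𝔞
  have hx : x = ∑ i : a.support, a (i : D) • (i : D) := by
    rw [← hsum, Finsupp.sum, ← Finset.sum_coe_sort]
    rfl
  have hsm : ∀ (c : A) (y : N), (Ideal.Quotient.mk J c) • y = c • y := by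
    intro c y
    rw [← Ideal.Quotient.algebraMap_eq, algebraMap_smul]
  have hrel : ∑ i : a.support, (Ideal.Quotient.mk J (a (i : D))) • φ (i : D) = 0 := by
    simp_rw [hsm]
    rw [← hxK, hx, map_sum]
    simp
  obtain ⟨k, b, y, hy, hb⟩ := Module.Flat.isTrivialRelation_of_sum_smul_eq_zero hrel
  choose b' hb' using fun i j => Ideal.Quotient.mk_surjective (b i j)
  choose d' hd' using fun j => hφ (y j)
  let κ : a.support → D := fun i => (i : D) - ∑ j, b' i j • d' j
  have hκ : ∀ i, κ i ∈ LinearMap.ker φ := by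
    intro i
    rw [LinearMap.mem_ker, map_sub, map_sum, sub_eq_zero]
    have := hy i
    simp only at this
    rw [this]
    refine Finset.sum_congr rfl fun j _ => ?_
    rw [map_smul, hd', ← hb' i j, hsm]
  have hJ : ∀ j, ∑ i : a.support, a (i : D) * b' i j ∈ J := by
    intro j
    rw [← Ideal.Quotient.eq_zero_iff_mem, map_sum]
    rw [← hb j]
    refine Finset.sum_congr rfl fun i _ => ?_
    rw [map_mul, hb' i j]
  have hx2 : x = ∑ i : a.support, a (i : D) • κ i +
      ∑ j, (∑ i : a.support, a (i : D) * b' i j) • d' j := by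
    have h1 : ∑ i : a.support, a (i : D) • ∑ j, b' i j • d' j =
        ∑ j, (∑ i : a.support, a (i : D) * b' i j) • d' j := by
      simp_rw [Finset.smul_sum, smul_smul]
      rw [Finset.sum_comm]
      refine Finset.sum_congr rfl fun j _ => ?_
      rw [← Finset.sum_smul]
    simp only [κ, smul_sub, Finset.sum_sub_distrib]
    rw [h1, sub_add_cancel]
    exact hx
  rw [hx2]
  refine Submodule.add_mem_sup ?_ ?_
  · exact Submodule.sum_mem _ fun i _ => Submodule.smul_mem_smul (ha _) (hκ i)
  · exact Submodule.sum_mem _ fun j _ => Submodule.smul_mem_smul (hJ j) Submodule.mem_top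

end Groth.Agent.Lib.Helper9
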