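import Mathlib

set_option linter.style.haveILetI false
set_option linter.unusedSectionVars false
set_option autoImplicit false

universe u
open CategoryTheory CategoryTheory.Limits AlgebraicGeometry TopologicalSpace Topology

namespace Groth.Agent.Lib.Helper9.DenseOI

/-- Two morphisms into a separated `Z`-scheme agreeing on a dominant morphism agree pointwise. -/
lemma apply_eq_of_isDominant_of_isSeparated {X Y Z W : Scheme.{u}} {f g : X ⟶ Y}
    (s : Y ⟶ Z) [IsSeparated s] (h : f ≫ s = g ≫ s)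
    (ι : W ⟶ X) [IsDominant ι] (hU : ι ≫ f = ι ≫ g) (x : X) : f x = g x := by
  let X' : Over Z := Over.mk (f ≫ s)
  let Y' : Over Z := Over.mk s
  let U' : Over Z := Over.mk (ι ≫ f ≫ s)
  let f' : X' ⟶ Y' := Over.homMk f
  let g' : X' ⟶ Y' := Over.homMk g
  let ι' : U' ⟶ X' := Over.homMk ι
  have : IsSeparated Y'.hom := ‹_›
  have : IsDominant (equalizer.ι f' g').left := by
    apply +allowSynthFailures IsDominant.of_comp (equalizer.lift ι' ?_).left
    · rwa [← Over.comp_left, equalizer.lift_ι]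
    · ext1; exact hU
  have hsurj : Surjective (equalizer.ι f' g').left :=
    surjective_of_isDominant_of_isClosed_range _ (Scheme.Hom.isClosedEmbedding _).isClosed_range
  obtain ⟨e, rfl⟩ := hsurj.surj x
  have := congr($(equalizer.condition f' g').left)
  change (equalizer.ι f' g').left ≫ f = (equalizer.ι f' g').left ≫ g at this
  rw [← Scheme.Hom.comp_apply, ← Scheme.Hom.comp_apply, this]

theorem main10877 {X Y : Scheme.{u}} (f : X ⟶ Y) [IsSeparated f] {ι : Type u} (U : ι → X.Opens)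
    (hU : ⨆ i, U i = ⊤) (hd : ∀ i, Dense (U i : Set X))
    (h : ∀ i, IsOpenImmersion ((U i).ι ≫ f)) : IsOpenImmersion f := by
  have hcov : ∀ x : X, ∃ i, x ∈ U i := fun x => by
    have : x ∈ (⨆ i, U i : X.Opens) := by rw [hU]; trivial
    simpa [Opens.mem_iSup] using this
  haveI : ∀ x, IsIso (f.stalkMap x) := by
    intro x
    obtain ⟨i, hi⟩ := hcov x
    haveI := h i
    obtain ⟨x', rfl⟩ : ∃ x' : ((U i : X.Opens) : Scheme.{u}), (U i).ι x' = x := ⟨⟨x, hi⟩, rfl⟩
    have h1 := Scheme.Hom.stalkMap_comp (U i).ι f x'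
    haveI h2 : IsIso (((U i).ι ≫ f).stalkMap x') := inferInstance
    haveI : IsIso (f.stalkMap ((U i).ι x') ≫ (U i).ι.stalkMap x') := by
      rw [← h1]; exact h2
    exact IsIso.of_isIso_comp_right (f.stalkMap ((U i).ι x')) ((U i).ι.stalkMap x')
  have hopen : IsOpenMap f := by
    intro O hO
    have : f '' O = ⋃ i, ((U i).ι ≫ f) '' ((U i).ι ⁻¹' O) := by
      ext y
      simp only [Set.mem_image, Set.mem_iUnion, Set.mem_preimage]
      constructor
      · rintro ⟨x, hx, rfl⟩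
        obtain ⟨i, hi⟩ := hcov x
        exact ⟨i, ⟨x, hi⟩, hx, rfl⟩
      · rintro ⟨i, u, hu, rfl⟩
        exact ⟨(U i).ι u, hu, rfl⟩
    rw [this]
    exact isOpen_iUnion fun i =>
      (h i).base_open.isOpenMap _ (hO.preimage (U i).ι.continuous)
  have hinj : Function.Injective f := by
    intro x x' hxx'
    obtain ⟨i, hi⟩ := hcov x
    obtain ⟨j, hj⟩ := hcov x'
    haveI := h i
    haveI := h j
    set fi := (U i).ι ≫ f with hfi
    set fj := (U j).ι ≫ f with hfj
    let V : Y.Opens := fi.opensRange ⊓ fj.opensRange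
    have hVi : Set.range V.ι ⊆ Set.range fi := by
      rw [Scheme.Opens.range_ι]; exact fun y hy => hy.1
    have hVj : Set.range V.ι ⊆ Set.range fj := by
      rw [Scheme.Opens.range_ι]; exact fun y hy => hy.2
    let li : (V : Scheme.{u}) ⟶ (U i : Scheme.{u}) := IsOpenImmersion.lift fi V.ι hVi
    let lj : (V : Scheme.{u}) ⟶ (U j : Scheme.{u}) := IsOpenImmersion.lift fj V.ι hVj
    have hli : li ≫ fi = V.ι := IsOpenImmersion.lift_fac _ _ _
    have hlj : lj ≫ fj = V.ι := IsOpenImmersion.lift_fac _ _ _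
    let si : (V : Scheme.{u}) ⟶ X := li ≫ (U i).ι
    let sj : (V : Scheme.{u}) ⟶ X := lj ≫ (U j).ι
    have hs : si ≫ f = sj ≫ f := by
      change (li ≫ (U i).ι) ≫ f = (lj ≫ (U j).ι) ≫ f
      rw [Category.assoc, Category.assoc, ← hfi, ← hfj, hli, hlj]
    let Wo : X.Opens := U i ⊓ U j
    have hW : Set.range (Wo.ι ≫ f) ⊆ Set.range V.ι := by
      rw [Scheme.Opens.range_ι]
      rintro _ ⟨u, rfl⟩
      exact ⟨⟨⟨u.1, u.2.1⟩, rfl⟩, ⟨⟨u.1, u.2.2⟩, rfl⟩⟩
    let κ : (Wo : Scheme.{u}) ⟶ (V : Scheme.{u}) := IsOpenImmersion.lift V.ι (Wo.ι ≫ f) hW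
    have hκ : κ ≫ V.ι = Wo.ι ≫ f := IsOpenImmersion.lift_fac _ _ _
    have hκi : κ ≫ si = Wo.ι := by
      have h1 : κ ≫ li = X.homOfLE (inf_le_left : Wo ≤ U i) := by
        rw [← cancel_mono fi, Category.assoc, hli, hκ, hfi, ← Category.assoc, Scheme.homOfLE_ι]
      change κ ≫ li ≫ (U i).ι = Wo.ι
      rw [← Category.assoc, h1, Scheme.homOfLE_ι]
    have hκj : κ ≫ sj = Wo.ι := by
      have h1 : κ ≫ lj = X.homOfLE (inf_le_right : Wo ≤ U j) := by
        rw [← cancel_mono fj, Category.assoc, hlj, hκ, hfj, ← Category.assoc, Scheme.homOfLE_ι]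
      change κ ≫ lj ≫ (U j).ι = Wo.ι
      rw [← Category.assoc, h1, Scheme.homOfLE_ι]
    haveI : IsOpenImmersion li := by
      haveI : IsOpenImmersion (li ≫ fi) := by rw [hli]; infer_instance
      exact IsOpenImmersion.of_comp li fi
    haveI : IsDominant κ := by
      refine ⟨dense_iff_inter_open.2 ?_⟩
      rintro O hO ⟨o, ho⟩
      have hO' : IsOpen ((U i).ι '' (li '' O)) :=
        (U i).ι.isOpenEmbedding.isOpenMap _ (li.isOpenEmbedding.isOpenMap _ hO)
      obtain ⟨u, ⟨_, ⟨o', ho', rfl⟩, rfl⟩, huj⟩ :=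
        (hd j).inter_open_nonempty _ hO' ⟨_, _, ⟨o, ho, rfl⟩, rfl⟩
      have hui : (U i).ι (li o') ∈ U i := (li o').2
      refine ⟨o', ho', ⟨⟨(U i).ι (li o'), hui, huj⟩, ?_⟩⟩
      apply V.ι.isOpenEmbedding.injective
      change (κ ≫ V.ι) _ = V.ι o'
      rw [hκ, ← hli]
      rfl
    have key := apply_eq_of_isDominant_of_isSeparated f hs κ (hκi.trans hκj.symm)
    have hyV : f x ∈ V := ⟨⟨⟨x, hi⟩, rfl⟩, ⟨⟨x', hj⟩, hxx'.symm⟩⟩
    have e1 : si ⟨f x, hyV⟩ = x := by
      have h1 : fi (li ⟨f x, hyV⟩) = fi ⟨x, hi⟩ := by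
        rw [← Scheme.Hom.comp_apply, hli]; rfl
      have h2 := fi.isOpenEmbedding.injective h1
      change (U i).ι (li ⟨f x, hyV⟩) = x
      rw [h2]; rfl
    have e2 : sj ⟨f x, hyV⟩ = x' := by
      have h1 : fj (lj ⟨f x, hyV⟩) = fj ⟨x', hj⟩ := by
        rw [← Scheme.Hom.comp_apply, hlj]; exact hxx'
      have h2 := fj.isOpenEmbedding.injective h1
      change (U j).ι (lj ⟨f x, hyV⟩) = x'
      rw [h2]; rfl
    rw [← e1, ← e2, key]
  exact IsOpenImmersion.of_isIso_stalkMap f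
    (.of_continuous_injective_isOpenMap f.continuous hinj hopen)

end Groth.Agent.Lib.Helper9.DenseOI
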