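import Mathlib
import Groth.Agent.Lib.Helper9.DenseOI

set_option linter.style.haveILetI false
set_option linter.unusedSectionVars false
set_option autoImplicit false

universe u
open CategoryTheory CategoryTheory.Limits AlgebraicGeometry TopologicalSpace Topology

namespace Groth.Agent.Lib.Helper9.DenseOI

theorem injective_of_dense_cover {X Y : Scheme.{u}} (f : X ⟶ Y) [IsSeparated f] {ι : Type u}
    (U : ι → X.Opens) (hU : ⨆ i, U i = ⊤) (hd : ∀ i, Dense (U i : Set X))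
    (h : ∀ i, IsImmersion ((U i).ι ≫ f)) : Function.Injective f := by
  have hcov : ∀ x : X, ∃ i, x ∈ U i := fun x => by
    have : x ∈ (⨆ i, U i : X.Opens) := by rw [hU]; trivial
    simpa [Opens.mem_iSup] using this
  intro x x' hxx'
  obtain ⟨i, hi⟩ := hcov x
  obtain ⟨j, hj⟩ := hcov x'
  haveI := h i
  haveI := h j
  set fi := (U i).ι ≫ f with hfi
  set fj := (U j).ι ≫ f with hfj
  let xi : ((U i : X.Opens) : Scheme.{u}) := ⟨x, hi⟩
  let xj : ((U j : X.Opens) : Scheme.{u}) := ⟨x', hj⟩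
  obtain ⟨z, hz1, hz2⟩ := Scheme.Pullback.exists_preimage_pullback (f := fi) (g := fj) xi xj hxx'
  let Wo : X.Opens := U i ⊓ U j
  have hκc : X.homOfLE (inf_le_left : Wo ≤ U i) ≫ fi = X.homOfLE (inf_le_right : Wo ≤ U j) ≫ fj := by
    rw [hfi, hfj, ← Category.assoc, ← Category.assoc, Scheme.homOfLE_ι, Scheme.homOfLE_ι]
  let κ : (Wo : Scheme.{u}) ⟶ pullback fi fj :=
    pullback.lift (X.homOfLE inf_le_left) (X.homOfLE inf_le_right) hκc
  have hκ2 : κ ≫ pullback.snd fi fj = X.homOfLE inf_le_right := pullback.lift_snd _ _ _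
  have hκ1 : κ ≫ pullback.fst fi fj = X.homOfLE inf_le_left := pullback.lift_fst _ _ _
  haveI : IsDominant κ := by
    refine ⟨dense_iff_inter_open.2 ?_⟩
    rintro O hO ⟨z0, hz0⟩
    obtain ⟨O', hO', rfl⟩ := (pullback.snd fi fj).isEmbedding.isInducing.isOpen_iff.1 hO
    have hO'' : IsOpen ((U j).ι '' O') := (U j).ι.isOpenEmbedding.isOpenMap _ hO'
    obtain ⟨_, ⟨u, hu, rfl⟩, hui⟩ :=
      (hd i).inter_open_nonempty _ hO'' ⟨_, pullback.snd fi fj z0, hz0, rfl⟩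
    have huj : (U j).ι u ∈ U j := u.2
    refine ⟨κ ⟨(U j).ι u, hui, huj⟩, ?_, ⟨_, rfl⟩⟩
    change pullback.snd fi fj (κ _) ∈ O'
    rw [← Scheme.Hom.comp_apply, hκ2]
    have : X.homOfLE (inf_le_right : Wo ≤ U j) ⟨(U j).ι u, hui, huj⟩ = u := by
      apply (U j).ι.isOpenEmbedding.injective
      rw [← Scheme.Hom.comp_apply, Scheme.homOfLE_ι]
      rfl
    rw [this]
    exact hu
  have hs : (pullback.fst fi fj ≫ (U i).ι) ≫ f = (pullback.snd fi fj ≫ (U j).ι) ≫ f := by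
    rw [Category.assoc, Category.assoc, ← hfi, ← hfj, pullback.condition]
  have hκeq : κ ≫ (pullback.fst fi fj ≫ (U i).ι) = κ ≫ (pullback.snd fi fj ≫ (U j).ι) := by
    rw [← Category.assoc, ← Category.assoc, hκ1, hκ2, Scheme.homOfLE_ι, Scheme.homOfLE_ι]
  have key := apply_eq_of_isDominant_of_isSeparated f hs κ hκeq z
  rw [Scheme.Hom.comp_apply, Scheme.Hom.comp_apply, hz1, hz2] at key
  exact key

theorem main10878 {X Y : Scheme.{u}} (f : X ⟶ Y) [IsSeparated f] {ι : Type u}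
    (U : ι → X.Opens) (hU : ⨆ i, U i = ⊤) (hd : ∀ i, Dense (U i : Set X))
    (h : ∀ i, IsImmersion ((U i).ι ≫ f)) : IsImmersion f := by
  have hcov : ∀ x : X, ∃ i, x ∈ U i := fun x => by
    have : x ∈ (⨆ i, U i : X.Opens) := by rw [hU]; trivial
    simpa [Opens.mem_iSup] using this
  have hinj := injective_of_dense_cover f U hU hd h
  have hloc : ∀ i, ∀ x ∈ U i, ∃ G : Set Y, IsOpen G ∧ f x ∈ G ∧
      G ∩ closure (Set.range f) ⊆ Set.range ((U i).ι ≫ f) := by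
    intro i x hx
    haveI := h i
    have hlc : IsLocallyClosed (Set.range ((U i).ι ≫ f)) := ((U i).ι ≫ f).isLocallyClosed_range
    have h03 : IsLocallyClosed (Set.range ((U i).ι ≫ f)) ↔
        ∀ y ∈ Set.range ((U i).ι ≫ f), ∃ G, y ∈ G ∧ IsOpen G ∧
          G ∩ closure (Set.range ((U i).ι ≫ f)) ⊆ Set.range ((U i).ι ≫ f) :=
      (isLocallyClosed_tfae _).out 0 3
    obtain ⟨G, hxG, hG, hGs⟩ := h03.1 hlc (f x) ⟨⟨x, hx⟩, rfl⟩
    refine ⟨G, hG, hxG, ?_⟩
    have hcl : closure (Set.range f) ⊆ closure (Set.range ((U i).ι ≫ f)) := by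
      apply closure_minimal _ isClosed_closure
      rintro _ ⟨x'', rfl⟩
      have : x'' ∈ closure (U i : Set X) := (hd i) x''
      refine map_mem_closure f.continuous this ?_
      intro a ha
      exact ⟨⟨a, ha⟩, rfl⟩
    exact fun y hy => hGs ⟨hy.1, hcl hy.2⟩
  haveI : SurjectiveOnStalks f := by
    refine ⟨fun x => ?_⟩
    obtain ⟨i, hi⟩ := hcov x
    haveI := h i
    obtain ⟨x', rfl⟩ : ∃ x' : ((U i : X.Opens) : Scheme.{u}), (U i).ι x' = x := ⟨⟨x, hi⟩, rfl⟩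
    have h1 := Scheme.Hom.stalkMap_comp (U i).ι f x'
    have hs := ((U i).ι ≫ f).stalkMap_surjective x'
    rw [h1] at hs
    have hb : Function.Bijective ((U i).ι.stalkMap x') := ConcreteCategory.bijective_of_isIso _
    intro a
    obtain ⟨b, hb'⟩ := hs ((U i).ι.stalkMap x' a)
    refine ⟨b, hb.1 ?_⟩
    rw [← hb']
    rfl
  have hind : IsInducing f := by
    rw [isInducing_iff_nhds]
    intro x
    refine le_antisymm (f.continuous.tendsto x).le_comap ?_
    intro O hO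
    obtain ⟨i, hi⟩ := hcov x
    haveI := h i
    obtain ⟨G, hG, hxG, hGs⟩ := hloc i x hi
    set O₁ : Set X := interior O ∩ (U i : Set X) with hO₁
    have hO₁o : IsOpen O₁ := isOpen_interior.inter (U i).2
    have hxO₁ : x ∈ O₁ := ⟨mem_interior_iff_mem_nhds.2 hO, hi⟩
    obtain ⟨G₁, hG₁, hG₁e⟩ := ((U i).ι ≫ f).isEmbedding.isInducing.isOpen_iff.1
      (hO₁o.preimage (U i).ι.continuous)
    rw [Filter.mem_comap]
    refine ⟨G₁ ∩ G, (hG₁.inter hG).mem_nhds ⟨?_, hxG⟩, ?_⟩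
    · have : (⟨x, hi⟩ : ((U i : X.Opens) : Scheme.{u})) ∈ ((U i).ι ≫ f) ⁻¹' G₁ := by
        rw [hG₁e]; exact hxO₁
      exact this
    · intro a ha
      obtain ⟨u, hu⟩ := hGs ⟨ha.2, subset_closure ⟨a, rfl⟩⟩
      have hau : (U i).ι u = a := hinj hu
      have : u ∈ ((U i).ι ≫ f) ⁻¹' G₁ := by
        change ((U i).ι ≫ f) u ∈ G₁
        rw [hu]; exact ha.1
      rw [hG₁e] at this
      rw [← hau]
      exact interior_subset this.1
  haveI : IsPreimmersion f := { ‹SurjectiveOnStalks f› with isEmbedding := ⟨hind, hinj⟩ }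
  refine { ‹IsPreimmersion f› with isLocallyClosed_range := ?_ }
  have h03 : IsLocallyClosed (Set.range f) ↔
      ∀ y ∈ Set.range f, ∃ G, y ∈ G ∧ IsOpen G ∧ G ∩ closure (Set.range f) ⊆ Set.range f :=
    (isLocallyClosed_tfae _).out 0 3
  refine h03.2 ?_
  rintro _ ⟨x, rfl⟩
  obtain ⟨i, hi⟩ := hcov x
  obtain ⟨G, hG, hxG, hGs⟩ := hloc i x hi
  refine ⟨G, hxG, hG, fun y hy => ?_⟩
  obtain ⟨u, hu⟩ := hGs hy
  exact ⟨(U i).ι u, hu⟩

end Groth.Agent.Lib.Helper9.DenseOI
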