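import Mathlib

set_option autoImplicit false
set_option linter.style.haveILetI false
set_option linter.unusedSectionVars false
set_option linter.unusedVariables false

universe u

open TensorProduct

namespace Groth.Agent.Lib.Helper9.DescAff

section modules

variable {A A' N : Type u} [CommRing A] [CommRing A'] [Algebra A A'] [AddCommGroup N]
  [Module A N] [Module A' N] [IsScalarTower A A' N]

variable (A A' N) in
/-- the multiplication map `A' ⊗ N → N` -/
noncomputable def delta : A' ⊗[A] N →ₗ[A] N :=
  TensorProduct.lift (Algebra.lsmul A A N).toLinearMap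

@[simp] theorem delta_tmul (a : A') (n : N) : delta A A' N (a ⊗ₜ[A] n) = a • n := by
  simp [delta]

/-- **Faithfully flat descent for modules**, comodule form: if `α : N → A' ⊗_A N` is a coaction
of the Sweedler coring (left `A'`-linear, counital, coassociative) and `A'` is flat over `A`, then
`A' ⊗_A M ≅ N` for `M = {n | α n = 1 ⊗ n}`. -/
theorem descent_bijective [Module.Flat A A'] (α : N →ₗ[A] A' ⊗[A] N)
    (hlin : ∀ (x : A') (n : N), α (x • n) = x • α n)
    (hcounit : ∀ n, delta A A' N (α n) = n)
    (hcoassoc : ∀ n, LinearMap.lTensor A' α (α n) =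
      LinearMap.lTensor A' (TensorProduct.mk A A' N 1) (α n))
    (M : Submodule A N) (hM : ∀ n, n ∈ M ↔ α n = (1 : A') ⊗ₜ[A] n) :
    Function.Bijective (delta A A' N ∘ₗ LinearMap.lTensor A' M.subtype) := by
  set incl := LinearMap.lTensor A' M.subtype with hincl
  have hinclinj : Function.Injective incl :=
    Module.Flat.lTensor_preserves_injective_linearMap _ (Submodule.subtype_injective M)
  have hal : α ∘ₗ (delta A A' N ∘ₗ incl) = incl := by
    apply TensorProduct.ext'
    intro x m
    simp only [LinearMap.comp_apply, hincl, LinearMap.lTensor_tmul, Submodule.subtype_apply,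
      delta_tmul]
    rw [hlin, (hM m.1).1 m.2, TensorProduct.smul_tmul', smul_eq_mul, mul_one]
  constructor
  · intro t t' htt'
    apply hinclinj
    have e1 := LinearMap.congr_fun hal t
    have e2 := LinearMap.congr_fun hal t'
    simp only [LinearMap.comp_apply] at e1 e2
    have htt'' : delta A A' N (incl t) = delta A A' N (incl t') := htt'
    rw [← e1, ← e2, htt'']
  · intro u
    have hex : Function.Exact M.subtype (α - TensorProduct.mk A A' N 1) := by
      intro v
      rw [LinearMap.sub_apply, sub_eq_zero, TensorProduct.mk_apply]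
      constructor
      · intro hv
        exact ⟨⟨v, (hM v).2 hv⟩, rfl⟩
      · rintro ⟨m, rfl⟩
        exact (hM m.1).1 m.2
    have hex' := Module.Flat.lTensor_exact A' hex
    have hz : LinearMap.lTensor A' (α - TensorProduct.mk A A' N 1) (α u) = 0 := by
      rw [LinearMap.lTensor_sub, LinearMap.sub_apply, hcoassoc, sub_self]
    obtain ⟨t, ht⟩ := (hex' (α u)).1 hz
    refine ⟨t, ?_⟩
    show delta A A' N (incl t) = u
    rw [hincl, ht]
    exact hcounit u

end modules

section algebras

variable {A A' B' : Type u} [CommRing A] [CommRing A'] [Algebra A A'] [CommRing B']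
  [Algebra A B'] [Algebra A' B'] [IsScalarTower A A' B']

/-- the descended algebra -/
noncomputable def descAlg (α : B' →ₐ[A] A' ⊗[A] B') : Subalgebra A B' :=
  AlgHom.equalizer α Algebra.TensorProduct.includeRight

theorem mem_descAlg (α : B' →ₐ[A] A' ⊗[A] B') (b : B') :
    b ∈ descAlg α ↔ α b = (1 : A') ⊗ₜ[A] b := Iff.rfl

/-- the comparison map `A' ⊗ B → B'` -/
noncomputable def descLam (α : B' →ₐ[A] A' ⊗[A] B') : A' ⊗[A] ↥(descAlg α) →ₐ[A'] B' :=
  Algebra.TensorProduct.lift (Algebra.ofId A' B') (descAlg α).val (fun _ _ => Commute.all _ _)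

theorem descLam_tmul (α : B' →ₐ[A] A' ⊗[A] B') (x : A') (b : descAlg α) :
    descLam α (x ⊗ₜ b) = x • (b : B') := by
  simp [descLam, Algebra.ofId_apply, Algebra.smul_def]

theorem descLam_bijective [Module.Flat A A'] (α : B' →ₐ[A] A' ⊗[A] B')
    (hlin : ∀ x : A', α (algebraMap A' B' x) = x ⊗ₜ[A] (1 : B'))
    (hcounit : ∀ b, Algebra.TensorProduct.lift (Algebra.ofId A' B') (AlgHom.id A B')
      (fun _ _ => Commute.all _ _) (α b) = b)
    (hcoassoc : ∀ b, Algebra.TensorProduct.map (AlgHom.id A A') α (α b) =
      Algebra.TensorProduct.map (AlgHom.id A A') Algebra.TensorProduct.includeRight (α b)) :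
    Function.Bijective (descLam α) := by
  have key := descent_bijective (A := A) (A' := A') (N := B') α.toLinearMap
    (fun x n => by
      show α (x • n) = x • α n
      rw [Algebra.smul_def, map_mul, hlin, Algebra.smul_def]
      rfl)
    (fun n => by
      have h := hcounit n
      show delta A A' B' (α n) = n
      convert h using 1
      generalize α n = z
      induction z using TensorProduct.induction_on with
      | zero => simp
      | tmul a b => simp [Algebra.ofId_apply, Algebra.smul_def]
      | add z₁ z₂ h₁ h₂ => rw [map_add, map_add, h₁, h₂])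
    (fun n => by
      have h := hcoassoc n
      show LinearMap.lTensor A' α.toLinearMap (α n) =
        LinearMap.lTensor A' (TensorProduct.mk A A' B' 1) (α n)
      convert h using 1
      · generalize α n = z
        induction z using TensorProduct.induction_on with
        | zero => simp
        | tmul a b => rfl
        | add z₁ z₂ h₁ h₂ => rw [map_add, map_add, h₁, h₂]
      · generalize α n = z
        induction z using TensorProduct.induction_on with
        | zero => simp
        | tmul a b => rfl
        | add z₁ z₂ h₁ h₂ => rw [map_add, map_add, h₁, h₂])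
    (Subalgebra.toSubmodule (descAlg α)) (fun n => Iff.rfl)
  have hfun : ⇑(descLam α) = ⇑(delta A A' B' ∘ₗ
      LinearMap.lTensor A' (Subalgebra.toSubmodule (descAlg α)).subtype) := by
    funext z
    induction z using TensorProduct.induction_on with
    | zero => simp
    | tmul a b => simp [descLam_tmul]
    | add z₁ z₂ h₁ h₂ => rw [map_add, map_add, h₁, h₂]
  rw [hfun]
  exact key

end algebras

end Groth.Agent.Lib.Helper9.DescAff
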