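import Groth.Agent.Lib.Helper9.DescSec1

set_option backward.isDefEq.respectTransparency false
set_option autoImplicit false
set_option linter.unusedSectionVars false
set_option linter.unusedVariables false
universe w u
open CategoryTheory CategoryTheory.Limits AlgebraicGeometry

namespace Groth.Agent.Lib.Helper9.DescSec

open Groth.Agent.Lib.Helper9.DescFF

variable {S : Scheme.{u}} {ι : Type w} {X : ι → Scheme.{u}} {f : ∀ i, X i ⟶ S}

/-- a morphism of descent data all of whose components are isomorphisms is an isomorphism -/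
theorem isIso_of_isIso_left {D D' : Desc.SchDDFam f} (a : D ⟶ D')
    (h : ∀ i, IsIso (a.hom i).left) : IsIso a := by
  have hinv : ∀ i, inv (a.hom i).left ≫ (D.obj i).hom = (D'.obj i).hom := by
    intro i
    rw [IsIso.inv_comp_eq, CategoryTheory.Over.w]
  let b : D' ⟶ D := ⟨fun i => Over.homMk (inv (a.hom i).left) (hinv i), by
    intro T i j x₀ x₁ hx v w hw
    have hw' : w.1 = v.1 ≫ inv (a.hom i).left := hw
    have hv : v.1 = w.1 ≫ (a.hom i).left := by rw [hw']; simp
    have := a.comm x₀ x₁ hx w v hv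
    change (D.φ x₀ x₁ hx w).1 = (D'.φ x₀ x₁ hx v).1 ≫ inv (a.hom j).left
    rw [this]; simp⟩
  refine ⟨b, ?_, ?_⟩
  · apply Desc.SchDDFam.hom_ext
    funext i
    apply Over.OverMorphism.ext
    change (a.hom i).left ≫ inv (a.hom i).left = 𝟙 _
    simp
  · apply Desc.SchDDFam.hom_ext
    funext i
    apply Over.OverMorphism.ext
    change inv (a.hom i).left ≫ (a.hom i).left = 𝟙 _
    simp

variable {D : Desc.SchDDFam f}

theorem Sec.comp_s_hom {T : Scheme.{u}} {t : T ⟶ S} (σ : Sec D t) {T' : Scheme.{u}} {i : ι}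
    (y : T' ⟶ pullback (f i) t) : (y ≫ σ.s i) ≫ (D.obj i).hom = y ≫ pullback.fst (f i) t := by
  rw [Category.assoc, σ.hs]

/-- the section determined by a point of `D.obj i` -/
noncomputable def secOfPt {T : Scheme.{u}} {i : ι} (d : T ⟶ (D.obj i).left) (t : T ⟶ S)
    (ht : (d ≫ (D.obj i).hom) ≫ f i = t) : Sec D t where
  s j := tr D (pullback.snd (f j) t ≫ d) (pullback.fst (f j) t)
    (by rw [Category.assoc, Category.assoc, ← Category.assoc d, ht, pullback.condition])
  hs j := tr_hom D _ _ _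
  compat := by
    intro T' j k y₀ y₁ h h'
    have e0 : ((y₀ ≫ pullback.snd (f j) t ≫ d) ≫ (D.obj i).hom) ≫ f i =
        (y₀ ≫ pullback.fst (f j) t) ≫ f j := by
      simp only [Category.assoc]
      rw [← Category.assoc d, ht, pullback.condition]
    have e1 : ((y₁ ≫ pullback.snd (f k) t ≫ d) ≫ (D.obj i).hom) ≫ f i =
        (y₁ ≫ pullback.fst (f k) t) ≫ f k := by
      simp only [Category.assoc]
      rw [← Category.assoc d, ht, pullback.condition]
    have e01 : ((y₀ ≫ pullback.snd (f j) t ≫ d) ≫ (D.obj i).hom) ≫ f i =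
        (y₁ ≫ pullback.fst (f k) t) ≫ f k := by
      rw [reassoc_of% h]; exact e1
    rw [tr_natural D y₁ _ _ _ e1]
    have e2 := tr_natural D y₀ (pullback.snd (f j) t ≫ d) (pullback.fst (f j) t)
      (by rw [Category.assoc, Category.assoc, ← Category.assoc d, ht, pullback.condition]) e0
    have hh : (tr D (y₀ ≫ pullback.snd (f j) t ≫ d) (y₀ ≫ pullback.fst (f j) t) e0 ≫
        (D.obj j).hom) ≫ f j = (y₁ ≫ pullback.fst (f k) t) ≫ f k := by
      rw [tr_hom, ← e0, e01]
    refine (tr_congr D e2 rfl h' hh).trans ?_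
    rw [tr_tr D _ _ e0 _ hh e01]
    exact tr_congr D (by rw [reassoc_of% h]) rfl _ _

theorem secOfPt_pt {T : Scheme.{u}} {i : ι} (d : T ⟶ (D.obj i).left) (t : T ⟶ S)
    (ht : (d ≫ (D.obj i).hom) ≫ f i = t) {T' : Scheme.{u}} (a : T' ⟶ T) {j : ι} (x : T' ⟶ X j)
    (h : x ≫ f j = a ≫ t) (hh : ((a ≫ d) ≫ (D.obj i).hom) ≫ f i = x ≫ f j) :
    (secOfPt d t ht).pt a x h = tr D (a ≫ d) x hh := by
  change pullback.lift x a h ≫ tr D _ _ _ = _
  rw [tr_natural D (pullback.lift x a h) _ _ _ (by
    rw [pullback.lift_fst]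
    simp only [Category.assoc] at hh ⊢
    rw [pullback.lift_snd_assoc]; exact hh)]
  exact tr_congr D (by simp) (by simp) _ _

/-- the universal property of a representing object of the functor of sections -/
def IsUniv (U : Over S) (σ : Sec D U.hom) : Prop :=
  ∀ (T : Scheme.{u}) (t : T ⟶ S) (τ : Sec D t),
    ∃! g : T ⟶ U.left, ∃ hg : g ≫ U.hom = t, σ.pull g t hg = τ

/-- the morphism from the canonical descent datum given by a section -/
noncomputable def homOfSec (U : Over S) (σ : Sec D U.hom) : (Desc.toDDFam f).obj U ⟶ D :=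
  ⟨fun i => Over.homMk (σ.s i) (σ.hs i), by
    intro T i j x₀ x₁ h v w hw
    have hw' : w.1 = v.1 ≫ σ.s i := hw
    rw [phi_eq_tr]
    have hv2 : v.1 ≫ pullback.fst (f i) U.hom = x₀ := v.2
    let y₁ : T ⟶ pullback (f j) U.hom := ((Desc.toDDFam f).obj U).φ x₀ x₁ h v |>.1
    have hy₁ : y₁ = pullback.lift x₁ (v.1 ≫ pullback.snd (f i) U.hom) (by
        rw [Category.assoc, ← pullback.condition, ← Category.assoc, hv2, h]) := rfl
    have h1 : y₁ ≫ pullback.fst (f j) U.hom = x₁ := by rw [hy₁, pullback.lift_fst]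
    have h2 : v.1 ≫ pullback.snd (f i) U.hom = y₁ ≫ pullback.snd (f j) U.hom := by
      rw [hy₁, pullback.lift_snd]
    have h3 : ((v.1 ≫ σ.s i) ≫ (D.obj i).hom) ≫ f i = (y₁ ≫ pullback.fst (f j) U.hom) ≫ f j := by
      rw [Sec.comp_s_hom, hv2, h1]; exact h
    have := σ.compat v.1 y₁ h2 h3
    change _ = y₁ ≫ σ.s j
    rw [← this]
    exact tr_congr D hw' h1.symm _ _⟩

theorem iso_of_isUniv (U : Over S) (σ : Sec D U.hom) (hσ : IsUniv U σ) :
    Nonempty ((Desc.toDDFam f).obj U ≅ D) := by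
  -- the classifying maps of the tautological sections
  have hτ : ∀ i, ((𝟙 (D.obj i).left ≫ (D.obj i).hom) ≫ f i) = (D.obj i).hom ≫ f i := by
    intro i; simp
  choose g hg hguniq using fun i => hσ (D.obj i).left ((D.obj i).hom ≫ f i)
    (secOfPt (𝟙 _) _ (hτ i))
  have hg1 : ∀ i, g i ≫ U.hom = (D.obj i).hom ≫ f i := fun i => (hg i).1
  have hg2 : ∀ i, σ.pull (g i) _ (hg1 i) = secOfPt (𝟙 _) _ (hτ i) := fun i => (hg i).2
  let B : ∀ i, (D.obj i).left ⟶ pullback (f i) U.hom := fun i =>
    pullback.lift (D.obj i).hom (g i) (hg1 i).symm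
  have hBA : ∀ i, B i ≫ σ.s i = 𝟙 _ := by
    intro i
    have e1 : B i ≫ σ.s i = σ.pt (g i) (D.obj i).hom (hg1 i).symm := rfl
    have e2 : σ.pt (g i) (D.obj i).hom (hg1 i).symm =
        (σ.pull (g i) _ (hg1 i)).pt (𝟙 _) (D.obj i).hom (by simp) := by
      rw [Sec.pull_pt _ _ _ _ _ _ _ (by simpa using (hg1 i).symm)]
      exact Sec.pt_congr σ (by simp) rfl _ _
    rw [e1, e2, hg2 i, secOfPt_pt _ _ _ _ _ _ (by simp)]
    exact tr_self D _ _ (by simp) _
  have hAB : ∀ i, σ.s i ≫ B i = 𝟙 _ := by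
    intro i
    apply pullback.hom_ext
    · rw [Category.assoc, pullback.lift_fst, σ.hs, Category.id_comp]
    · rw [Category.assoc, pullback.lift_snd, Category.id_comp]
      -- both classify the same section over `pullback (f i) U.hom`
      have ht : (σ.s i ≫ g i) ≫ U.hom = pullback.snd (f i) U.hom ≫ U.hom := by
        rw [Category.assoc, hg1 i, ← Category.assoc, σ.hs, pullback.condition]
      obtain ⟨g₀, -, hg₀⟩ := hσ _ (pullback.snd (f i) U.hom ≫ U.hom)
        (σ.pull (pullback.snd (f i) U.hom) _ rfl)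
      rw [hg₀ (pullback.snd (f i) U.hom) ⟨rfl, rfl⟩]
      apply hg₀
      refine ⟨ht, ?_⟩
      rw [← Sec.pull_pull σ (g i) _ (hg1 i) (σ.s i) _
        (by rw [← Category.assoc, σ.hs, pullback.condition]) ht, hg2 i]
      apply Sec.ext_pt
      intro j
      have hc : pullback.fst (f j) (pullback.snd (f i) U.hom ≫ U.hom) ≫ f j =
          (pullback.snd (f j) (pullback.snd (f i) U.hom ≫ U.hom) ≫ pullback.snd (f i) U.hom) ≫
            U.hom := by
        rw [pullback.condition, Category.assoc]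
      rw [Sec.pull_pt _ _ _ _ _ _ _ (by
          rw [← Category.assoc _ _ (f i), Sec.comp_s_hom, Category.assoc,
            pullback.condition (f := f i), ← Category.assoc]
          exact hc),
        Sec.pull_pt _ _ _ _ _ _ _ hc,
        secOfPt_pt _ _ _ _ _ _ (by
          rw [Category.comp_id, Sec.comp_s_hom, Category.assoc, pullback.condition,
            ← Category.assoc, ← hc])]
      -- now use compatibility of `σ`
      let y₀ : pullback (f j) (pullback.snd (f i) U.hom ≫ U.hom) ⟶ pullback (f i) U.hom :=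
        pullback.snd _ _
      let y₁ : pullback (f j) (pullback.snd (f i) U.hom ≫ U.hom) ⟶ pullback (f j) U.hom :=
        pullback.lift (pullback.fst _ _) (pullback.snd _ _ ≫ pullback.snd (f i) U.hom) hc
      have h2 : y₀ ≫ pullback.snd (f i) U.hom = y₁ ≫ pullback.snd (f j) U.hom := by
        simp [y₀, y₁]
      have h3 : ((y₀ ≫ σ.s i) ≫ (D.obj i).hom) ≫ f i =
          (y₁ ≫ pullback.fst (f j) U.hom) ≫ f j := by
        rw [Sec.comp_s_hom]
        simp only [y₀, y₁, pullback.lift_fst, Category.assoc]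
        rw [pullback.condition, ← Category.assoc, ← hc]
      have := σ.compat y₀ y₁ h2 h3
      refine (tr_congr D (by simp [y₀]) (by simp [y₁]) _ h3).trans (this.trans ?_)
      rfl
  have : IsIso (homOfSec U σ) := isIso_of_isIso_left _ (fun i => ⟨B i, hAB i, hBA i⟩)
  exact ⟨asIso (homOfSec U σ)⟩

end Groth.Agent.Lib.Helper9.DescSec
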