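import Groth.Agent.Lib.Helper9.DescAff1
import Groth.Agent.Lib.Helper9.DescSec2

set_option backward.isDefEq.respectTransparency false
set_option autoImplicit false
set_option linter.unusedSectionVars false
set_option linter.unusedVariables false
universe u
open CategoryTheory CategoryTheory.Limits AlgebraicGeometry Opposite TensorProduct

namespace Groth.Agent.Lib.Helper9.DescAff

/-- the abstract "transport" operation of a descent datum on a scheme `V` over `X` relative to
`p : X ⟶ S` -/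
structure AffAct {X S V : Scheme.{u}} (p : X ⟶ S) (q : V ⟶ X) where
  act : ∀ {T : Scheme.{u}} (d : T ⟶ V) (x₁ : T ⟶ X), (d ≫ q) ≫ p = x₁ ≫ p → (T ⟶ V)
  act_hom : ∀ {T : Scheme.{u}} (d : T ⟶ V) (x₁ : T ⟶ X) (h : (d ≫ q) ≫ p = x₁ ≫ p),
    act d x₁ h ≫ q = x₁
  act_natural : ∀ {T T' : Scheme.{u}} (t : T' ⟶ T) (d : T ⟶ V) (x₁ : T ⟶ X)
    (h : (d ≫ q) ≫ p = x₁ ≫ p) (h' : ((t ≫ d) ≫ q) ≫ p = (t ≫ x₁) ≫ p),
    t ≫ act d x₁ h = act (t ≫ d) (t ≫ x₁) h'
  act_act : ∀ {T : Scheme.{u}} (d : T ⟶ V) (x₁ x₂ : T ⟶ X) (h : (d ≫ q) ≫ p = x₁ ≫ p)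
    (h' : (act d x₁ h ≫ q) ≫ p = x₂ ≫ p) (h'' : (d ≫ q) ≫ p = x₂ ≫ p),
    act (act d x₁ h) x₂ h' = act d x₂ h''
  act_self : ∀ {T : Scheme.{u}} (d : T ⟶ V) (x : T ⟶ X) (hx : d ≫ q = x)
    (h : (d ≫ q) ≫ p = x ≫ p), act d x h = d

namespace AffAct

variable {X S V : Scheme.{u}} {p : X ⟶ S} {q : V ⟶ X} (a : AffAct p q)

theorem act_congr {T : Scheme.{u}} {d d' : T ⟶ V} {x₁ x₁' : T ⟶ X} (hd : d = d') (hx : x₁ = x₁')
    (h : (d ≫ q) ≫ p = x₁ ≫ p) (h' : (d' ≫ q) ≫ p = x₁' ≫ p) :
    a.act d x₁ h = a.act d' x₁' h' := by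
  subst hd hx; rfl

end AffAct

section core

open CommRingCat Algebra.TensorProduct

variable (R R' B' : Type u) [CommRing R] [CommRing R'] [CommRing B'] [Algebra R R']
  [Algebra R' B'] [Algebra R B'] [IsScalarTower R R' B']

/-- `Spec R' ⟶ Spec R` -/
noncomputable abbrev pp : Spec (.of R') ⟶ Spec (.of R) := Spec.map (ofHom (algebraMap R R'))

/-- `Spec B' ⟶ Spec R'` -/
noncomputable abbrev qq : Spec (.of B') ⟶ Spec (.of R') := Spec.map (ofHom (algebraMap R' B'))

/-- left inclusion -/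
noncomputable abbrev inL : CommRingCat.of R' ⟶ CommRingCat.of (R' ⊗[R] B') :=
  ofHom includeLeftRingHom

/-- right inclusion -/
noncomputable abbrev inR : CommRingCat.of B' ⟶ CommRingCat.of (R' ⊗[R] B') :=
  ofHom (includeRight (R := R) (A := R') (B := B')).toRingHom

theorem qq_pp : qq R' B' ≫ pp R R' = Spec.map (ofHom (algebraMap R B')) := by
  rw [← Spec.map_comp, ← ofHom_comp]
  congr 2
  exact (IsScalarTower.algebraMap_eq R R' B').symm

theorem sq_ring : ofHom (algebraMap R R') ≫ inL R R' B' = ofHom (algebraMap R B') ≫ inR R R' B' :=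
  (isPushout_tensorProduct R R' B').w

variable {R R' B'}

theorem hN_aux {C : CommRingCat.{u}} (l : CommRingCat.of (R' ⊗[R] B') ⟶ C) :
    (Spec.map (inR R R' B' ≫ l) ≫ qq R' B') ≫ pp R R' = Spec.map (inL R R' B' ≫ l) ≫ pp R R' := by
  rw [Category.assoc, qq_pp, ← Spec.map_comp, ← Spec.map_comp, ← Category.assoc, ← Category.assoc,
    sq_ring]

variable (a : AffAct (pp R R') (qq R' B'))

/-- the universal transport -/
noncomputable def theta : Spec (.of (R' ⊗[R] B')) ⟶ Spec (.of B') :=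
  a.act (Spec.map (inR R R' B')) (Spec.map (inL R R' B')) (by
    have := hN_aux (R := R) (R' := R') (B' := B') (𝟙 _)
    simpa using this)

/-- the coaction, as a morphism of rings -/
noncomputable def alpha' : CommRingCat.of B' ⟶ CommRingCat.of (R' ⊗[R] B') :=
  Spec.preimage (theta a)

theorem map_alpha' : Spec.map (alpha' a) = theta a := Spec.map_preimage _

theorem key_N {C : CommRingCat.{u}} (l : CommRingCat.of (R' ⊗[R] B') ⟶ C) :
    a.act (Spec.map (inR R R' B' ≫ l)) (Spec.map (inL R R' B' ≫ l)) (hN_aux l) =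
      Spec.map (alpha' a ≫ l) := by
  have e1 : Spec.map (alpha' a ≫ l) = Spec.map l ≫ theta a := by rw [Spec.map_comp, map_alpha']
  refine Eq.trans ?_ e1.symm
  unfold theta
  have h' : ((Spec.map l ≫ Spec.map (inR R R' B')) ≫ qq R' B') ≫ pp R R' =
      (Spec.map l ≫ Spec.map (inL R R' B')) ≫ pp R R' := by
    have := hN_aux (R := R) (R' := R') (B' := B') l
    rw [Spec.map_comp, Spec.map_comp] at this
    exact this
  refine Eq.trans ?_ (a.act_natural (Spec.map l) _ _ _ h').symm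
  exact a.act_congr (Spec.map_comp _ _) (Spec.map_comp _ _) _ _

theorem alpha'_lin : ofHom (algebraMap R' B') ≫ alpha' a = inL R R' B' := by
  apply Spec.map_injective
  rw [Spec.map_comp, map_alpha', theta]
  exact a.act_hom _ _ _

/-- the coaction as a ring homomorphism -/
noncomputable def alphaR : B' →+* R' ⊗[R] B' := (alpha' a).hom

theorem alphaR_algebraMap (x : R') : alphaR a (algebraMap R' B' x) = x ⊗ₜ[R] (1 : B') := by
  have := congrArg (fun g : CommRingCat.of R' ⟶ CommRingCat.of (R' ⊗[R] B') => g.hom x)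
    (alpha'_lin a)
  exact this

/-- the coaction as an algebra homomorphism -/
noncomputable def alphaA : B' →ₐ[R] R' ⊗[R] B' :=
  { alphaR a with
    commutes' := fun r => by
      change alphaR a (algebraMap R B' r) = algebraMap R (R' ⊗[R] B') r
      rw [IsScalarTower.algebraMap_apply R R' B', alphaR_algebraMap,
        Algebra.TensorProduct.algebraMap_apply] }

theorem alphaA_apply (b : B') : alphaA a b = (alpha' a).hom b := rfl

theorem ofHom_alphaA : ofHom (alphaA a).toRingHom = alpha' a := rfl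

/-- multiplication `R' ⊗ B' → B'` -/
noncomputable def mulA : R' ⊗[R] B' →ₐ[R'] B' :=
  Algebra.TensorProduct.lift (Algebra.ofId R' B') (AlgHom.id R B') (fun _ _ => Commute.all _ _)

theorem alpha_counit (b : B') : mulA (R := R) (alphaA a b) = b := by
  have h1 : inL R R' B' ≫ ofHom (mulA (R := R) (R' := R') (B' := B')).toRingHom =
      ofHom (algebraMap R' B') := by
    ext x
    simp [mulA, Algebra.ofId_apply]
  have h2 : inR R R' B' ≫ ofHom (mulA (R := R) (R' := R') (B' := B')).toRingHom = 𝟙 _ := by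
    ext x
    simp [mulA]
  have key := key_N a (ofHom (mulA (R := R) (R' := R') (B' := B')).toRingHom)
  have e : a.act (Spec.map (inR R R' B' ≫ ofHom (mulA (R := R) (R' := R') (B' := B')).toRingHom))
      (Spec.map (inL R R' B' ≫ ofHom (mulA (R := R) (R' := R') (B' := B')).toRingHom))
      (hN_aux _) = 𝟙 _ := by
    refine (a.act_congr (d' := 𝟙 _) (x₁' := qq R' B') (by rw [h2, Spec.map_id])
      (by rw [h1]) _ (by simp)).trans ?_
    exact a.act_self _ _ (Category.id_comp _) _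
  rw [e] at key
  have key' : alpha' a ≫ ofHom (mulA (R := R) (R' := R') (B' := B')).toRingHom = 𝟙 _ := by
    apply Spec.map_injective
    rw [← key, Spec.map_id]
  exact congrArg (fun g : CommRingCat.of B' ⟶ CommRingCat.of B' => g.hom b) key'

theorem alpha_coassoc (b : B') :
    Algebra.TensorProduct.map (AlgHom.id R R') (alphaA a) (alphaA a b) =
      Algebra.TensorProduct.map (AlgHom.id R R') Algebra.TensorProduct.includeRight
        (alphaA a b) := by
  let l₁ : CommRingCat.of (R' ⊗[R] B') ⟶ CommRingCat.of (R' ⊗[R] (R' ⊗[R] B')) :=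
    ofHom (includeRight (R := R) (A := R') (B := R' ⊗[R] B')).toRingHom
  let l₂ : CommRingCat.of (R' ⊗[R] B') ⟶ CommRingCat.of (R' ⊗[R] (R' ⊗[R] B')) :=
    ofHom (Algebra.TensorProduct.map (AlgHom.id R R') (alphaA a)).toRingHom
  let l₃ : CommRingCat.of (R' ⊗[R] B') ⟶ CommRingCat.of (R' ⊗[R] (R' ⊗[R] B')) :=
    ofHom (Algebra.TensorProduct.map (AlgHom.id R R')
      (includeRight (R := R) (A := R') (B := B'))).toRingHom
  have hL23 : inL R R' B' ≫ l₂ = inL R R' B' ≫ l₃ := by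
    ext x
    simp [l₂, l₃]
  have hR2 : inR R R' B' ≫ l₂ = alpha' a ≫ l₁ := by
    ext x
    simp [l₂, l₁, alphaA_apply]
  have hR3 : inR R R' B' ≫ l₃ = inR R R' B' ≫ l₁ := by
    ext x
    simp [l₃, l₁]
  have k1 := key_N a l₁
  have k2 := key_N a l₂
  have k3 := key_N a l₃
  have e : Spec.map (alpha' a ≫ l₂) = Spec.map (alpha' a ≫ l₃) := by
    rw [← k2, ← k3]
    have h2' : (Spec.map (alpha' a ≫ l₁) ≫ qq R' B') ≫ pp R R' =
        Spec.map (inL R R' B' ≫ l₂) ≫ pp R R' := by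
      rw [← hR2]; exact hN_aux l₂
    refine (a.act_congr (by rw [hR2]) rfl _ h2').trans ?_
    have h2'' : (a.act (Spec.map (inR R R' B' ≫ l₁)) (Spec.map (inL R R' B' ≫ l₁)) (hN_aux l₁) ≫
        qq R' B') ≫ pp R R' = Spec.map (inL R R' B' ≫ l₂) ≫ pp R R' := by
      rw [k1]; exact h2'
    refine (a.act_congr k1.symm rfl h2' h2'').trans ?_
    have h3' : (Spec.map (inR R R' B' ≫ l₁) ≫ qq R' B') ≫ pp R R' =
        Spec.map (inL R R' B' ≫ l₂) ≫ pp R R' := by
      rw [← hR3, hL23]; exact hN_aux l₃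
    refine (a.act_act _ _ _ _ h2'' h3').trans ?_
    exact a.act_congr (by rw [hR3]) (by rw [hL23]) _ _
  have e' : alpha' a ≫ l₂ = alpha' a ≫ l₃ := Spec.map_injective e
  exact congrArg (fun g : CommRingCat.of B' ⟶ CommRingCat.of (R' ⊗[R] (R' ⊗[R] B')) =>
    g.hom b) e'

end core

end Groth.Agent.Lib.Helper9.DescAff
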