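import Groth.Agent.Lib.Helper9.DescAff2

set_option backward.isDefEq.respectTransparency false
set_option autoImplicit false
set_option linter.unusedSectionVars false
set_option linter.unusedVariables false
universe u
open CategoryTheory CategoryTheory.Limits AlgebraicGeometry Opposite TensorProduct

namespace Groth.Agent.Lib.Helper9.DescAff

open CommRingCat Algebra.TensorProduct Groth.Agent.Lib.Helper9.DescFF Groth.Agent.Lib.Helper9.DescSec

variable {R R' B' : Type u} [CommRing R] [CommRing R'] [CommRing B'] [Algebra R R']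
  [Algebra R' B'] [Algebra R B'] [IsScalarTower R R' B']

section inv

variable (a : AffAct (pp R R') (qq R' B'))

/-- the inclusion of the descended algebra, on spectra -/
noncomputable def rho : Spec (.of B') ⟶ Spec (.of (descAlg (alphaA a))) :=
  Spec.map (ofHom (descAlg (alphaA a)).val.toRingHom)

theorem isPullback_tensor :
    IsPullback (Spec.map (inL R R' B')) (Spec.map (inR R R' B')) (pp R R')
      (Spec.map (ofHom (algebraMap R B'))) :=
  isPullback_SpecMap_of_isPushout _ _ _ _ (isPushout_tensorProduct R R' B')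

theorem theta_rho : theta a ≫ rho a = Spec.map (inR R R' B') ≫ rho a := by
  rw [← map_alpha', rho, ← Spec.map_comp, ← Spec.map_comp]
  congr 1
  ext b
  exact b.2

theorem act_rho {T : Scheme.{u}} (d : T ⟶ Spec (.of B')) (x₁ : T ⟶ Spec (.of R'))
    (h : (d ≫ qq R' B') ≫ pp R R' = x₁ ≫ pp R R') : a.act d x₁ h ≫ rho a = d ≫ rho a := by
  have hc : x₁ ≫ pp R R' = d ≫ Spec.map (ofHom (algebraMap R B')) := by
    rw [← h, Category.assoc, qq_pp]
  let t : T ⟶ Spec (.of (R' ⊗[R] B')) := (isPullback_tensor (R := R) (R' := R') (B' := B')).lift x₁ d hc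
  have ht1 : t ≫ Spec.map (inL R R' B') = x₁ := IsPullback.lift_fst _ _ _ _
  have ht2 : t ≫ Spec.map (inR R R' B') = d := IsPullback.lift_snd _ _ _ _
  have e : a.act d x₁ h = t ≫ theta a := by
    unfold theta
    rw [a.act_natural t _ _ _ (by rw [ht1, ht2]; exact h)]
    exact a.act_congr ht2.symm ht1.symm _ _
  rw [e, Category.assoc, theta_rho, ← Category.assoc, ht2]

end inv

section main

variable [Module.Flat R R']
  (D : Desc.SchDDFam (fun _ : PUnit.{u + 1} => pp R R'))
  (eV : (D.obj PUnit.unit).left ≅ Spec (.of B'))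
  (heV : eV.inv ≫ (D.obj PUnit.unit).hom = qq R' B')

include heV in
theorem eV_hom_qq : eV.hom ≫ qq R' B' = (D.obj PUnit.unit).hom := by
  rw [← heV, Iso.hom_inv_id_assoc]

include heV in
theorem aux1 {T : Scheme.{u}} (d : T ⟶ Spec (.of B')) :
    (d ≫ eV.inv) ≫ (D.obj PUnit.unit).hom = d ≫ qq R' B' := by rw [Category.assoc, heV]

/-- the transport operation of the descent datum, on `Spec B'` -/
noncomputable def affActOfD : AffAct (pp R R') (qq R' B') where
  act d x₁ h := tr (j := PUnit.unit) (j' := PUnit.unit) D (d ≫ eV.inv) x₁ (by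
    rw [aux1 D eV heV]; exact h) ≫ eV.hom
  act_hom d x₁ h := by
    rw [Category.assoc, eV_hom_qq D eV heV]
    exact tr_hom D _ _ _
  act_natural t d x₁ h h' := by
    rw [← Category.assoc]
    congr 1
    refine (tr_natural D t _ _ _ (by
      rw [← Category.assoc t, aux1 D eV heV]
      exact h')).trans ?_
    exact tr_congr D (Category.assoc _ _ _).symm rfl _ _
  act_act d x₁ x₂ h h' h'' := by
    congr 1
    have h1 : (tr (j := PUnit.unit) (j' := PUnit.unit) D (d ≫ eV.inv) x₁ (by
        rw [aux1 D eV heV]; exact h) ≫ (D.obj PUnit.unit).hom) ≫ pp R R' = x₂ ≫ pp R R' := by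
      rw [tr_hom]
      rw [← h, ← h'']
    refine (tr_congr D (by rw [Category.assoc, Iso.hom_inv_id, Category.comp_id]) rfl _ h1).trans ?_
    exact tr_tr D _ _ _ _ h1 (by rw [aux1 D eV heV]; exact h'')
  act_self d x hx h := by
    have : tr (j := PUnit.unit) (j' := PUnit.unit) D (d ≫ eV.inv) x (by
        rw [aux1 D eV heV]; exact h) = d ≫ eV.inv :=
      tr_self D _ _ (by rw [aux1 D eV heV]; exact hx) _
    rw [this, Category.assoc, Iso.inv_hom_id, Category.comp_id]

/-- the descended scheme -/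
noncomputable def descU : Over (Spec (.of R)) :=
  Over.mk (Spec.map (ofHom (algebraMap R (descAlg (alphaA (affActOfD D eV heV))))))

theorem qq_pp_rho : qq R' B' ≫ pp R R' = rho (affActOfD D eV heV) ≫ (descU D eV heV).hom := by
  rw [qq_pp]
  change _ = Spec.map _ ≫ Spec.map _
  rw [← Spec.map_comp]
  rfl

/-- the comparison morphism `Spec B' ⟶ Spec R' ×_{Spec R} Spec B` -/
noncomputable def compC : Spec (.of B') ⟶ pullback (pp R R') (descU D eV heV).hom :=
  pullback.lift (qq R' B') (rho (affActOfD D eV heV)) (qq_pp_rho D eV heV)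

theorem isIso_compC : IsIso (compC D eV heV) := by
  set a := affActOfD D eV heV with ha
  have hbij := descLam_bijective (alphaA a) (alphaR_algebraMap a) (alpha_counit a)
    (alpha_coassoc a)
  let e : (R' ⊗[R] (descAlg (alphaA a))) ≃+* B' :=
    RingEquiv.ofBijective (descLam (alphaA a)).toRingHom hbij
  let iso := pullbackSpecIso R R' (descAlg (alphaA a))
  have key : compC D eV heV = Spec.map (ofHom e.toRingHom) ≫ iso.inv := by
    apply pullback.hom_ext
    · rw [compC, pullback.lift_fst, Category.assoc]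
      have := pullbackSpecIso_inv_fst R R' (descAlg (alphaA a))
      refine Eq.trans ?_ (congrArg (Spec.map (ofHom e.toRingHom) ≫ ·) this).symm
      rw [← Spec.map_comp]
      apply congrArg Spec.map
      ext x
      change algebraMap R' B' x = descLam (alphaA a) (x ⊗ₜ 1)
      rw [descLam_tmul, Algebra.smul_def]
      simp
    · rw [compC, pullback.lift_snd, Category.assoc]
      have := pullbackSpecIso_inv_snd R R' (descAlg (alphaA a))
      refine Eq.trans ?_ (congrArg (Spec.map (ofHom e.toRingHom) ≫ ·) this).symm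
      rw [← Spec.map_comp]
      unfold rho
      apply congrArg Spec.map
      ext x
      change (x : B') = descLam (alphaA a) (1 ⊗ₜ x)
      rw [descLam_tmul, one_smul]
  rw [key]
  have : IsIso (ofHom e.toRingHom) := e.toCommRingCatIso.isIso_hom
  infer_instance

theorem compC_fst : compC D eV heV ≫ pullback.fst _ _ = qq R' B' := pullback.lift_fst _ _ _

theorem compC_snd : compC D eV heV ≫ pullback.snd _ _ = rho (affActOfD D eV heV) :=
  pullback.lift_snd _ _ _

theorem core_comm {T : Scheme.{u}} (x₀ x₁ : T ⟶ Spec (.of R')) (h : x₀ ≫ pp R R' = x₁ ≫ pp R R')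
    (v : T ⟶ (D.obj PUnit.unit).left) (hv : v ≫ (D.obj PUnit.unit).hom = x₀)
    (w : T ⟶ pullback (pp R R') (descU D eV heV).hom) (hw1 : w ≫ pullback.fst _ _ = x₀)
    (hw : w = v ≫ eV.hom ≫ compC D eV heV) :
    ((((Desc.toDDFam (fun _ : PUnit.{u + 1} => pp R R')).obj (descU D eV heV)).φ
      (i := PUnit.unit) (j := PUnit.unit) x₀ x₁ h ⟨w, hw1⟩).1 :
        T ⟶ pullback (pp R R') (descU D eV heV).hom) =
      (D.φ (i := PUnit.unit) (j := PUnit.unit) x₀ x₁ h ⟨v, hv⟩).1 ≫ eV.hom ≫ compC D eV heV := by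
  apply pullback.hom_ext
  · have e1 : ((((Desc.toDDFam (fun _ : PUnit.{u + 1} => pp R R')).obj (descU D eV heV)).φ
      (i := PUnit.unit) (j := PUnit.unit) x₀ x₁ h ⟨w, hw1⟩).1 :
        T ⟶ pullback (pp R R') (descU D eV heV).hom) ≫ pullback.fst _ _ = x₁ :=
      (((Desc.toDDFam (fun _ : PUnit.{u + 1} => pp R R')).obj (descU D eV heV)).φ
        (i := PUnit.unit) (j := PUnit.unit) x₀ x₁ h ⟨w, hw1⟩).2
    refine e1.trans ?_
    rw [Category.assoc, Category.assoc, compC_fst, eV_hom_qq D eV heV]
    exact ((D.φ (i := PUnit.unit) (j := PUnit.unit) x₀ x₁ h ⟨v, hv⟩).2).symm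
  · have e1 : ((((Desc.toDDFam (fun _ : PUnit.{u + 1} => pp R R')).obj (descU D eV heV)).φ
      (i := PUnit.unit) (j := PUnit.unit) x₀ x₁ h ⟨w, hw1⟩).1 :
        T ⟶ pullback (pp R R') (descU D eV heV).hom) ≫ pullback.snd _ _ =
        w ≫ pullback.snd _ _ := pullback.lift_snd _ _ _
    refine e1.trans ?_
    rw [hw, Category.assoc, Category.assoc, Category.assoc, Category.assoc, compC_snd]
    have hh0 : (v ≫ eV.hom) ≫ qq R' B' = x₀ := by
      rw [Category.assoc, eV_hom_qq D eV heV, hv]
    have hh : ((v ≫ eV.hom) ≫ qq R' B') ≫ pp R R' = x₁ ≫ pp R R' := by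
      rw [hh0]; exact h
    have e2 := act_rho (affActOfD D eV heV) (v ≫ eV.hom) x₁ hh
    have e3 : (D.φ (i := PUnit.unit) (j := PUnit.unit) x₀ x₁ h ⟨v, hv⟩).1 ≫ eV.hom =
        (affActOfD D eV heV).act (v ≫ eV.hom) x₁ hh := by
      change _ = tr (j := PUnit.unit) (j' := PUnit.unit) D ((v ≫ eV.hom) ≫ eV.inv) x₁ _ ≫ eV.hom
      congr 1
      rw [phi_eq_tr]
      exact tr_congr D (by simp) rfl _ _
    exact (e2.symm.trans (congrArg (· ≫ rho (affActOfD D eV heV)) e3.symm)).trans
      (Category.assoc _ _ _)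

include eV heV in
/-- **fpqc descent for affine schemes, affine case**: a descent datum relative to
`Spec R' ⟶ Spec R` (with `R'` flat over `R`) on an affine scheme is effective. -/
theorem core : D.IsEffective := by
  let A : D ⟶ (Desc.toDDFam (fun _ : PUnit.{u + 1} => pp R R')).obj (descU D eV heV) :=
    ⟨fun _ => Over.homMk (eV.hom ≫ compC D eV heV) (by
      change (eV.hom ≫ compC D eV heV) ≫ pullback.fst _ _ = _
      rw [Category.assoc, compC_fst, eV_hom_qq D eV heV]), by
      intro T i j x₀ x₁ h v w hw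
      obtain ⟨v, hv⟩ := v
      obtain ⟨w, hw1⟩ := w
      exact core_comm D eV heV x₀ x₁ h v hv w hw1 hw⟩
  have hc := isIso_compC D eV heV
  have : IsIso A := isIso_of_isIso_left A (fun _ => by
    change IsIso (eV.hom ≫ compC D eV heV)
    infer_instance)
  exact ⟨descU D eV heV, ⟨(asIso A).symm⟩⟩

end main

end Groth.Agent.Lib.Helper9.DescAff
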