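import Groth.Agent.Lib.Helper9.DescSec7

set_option backward.isDefEq.respectTransparency false
set_option autoImplicit false
set_option linter.unusedSectionVars false
set_option linter.unusedVariables false
universe w w' u
open CategoryTheory CategoryTheory.Limits AlgebraicGeometry Opposite

namespace Groth.Agent.Lib.Helper9.DescSec

open Groth.Agent.Lib.Helper9.DescFF

variable {S : Scheme.{u}} {κ : Type w} {V : κ → Scheme.{u}} {fV : ∀ j, V j ⟶ S}
  {ι : Type w'} {U : ι → Scheme.{u}} {fU : ∀ i, U i ⟶ S} {α : ι → κ} {g : ∀ i, U i ⟶ V (α i)}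
  (w : ∀ i, g i ≫ fV (α i) = fU i ≫ 𝟙 S)

/-- transport in the canonical descent datum keeps the `U`-component (any index universe) -/
theorem tr_can_snd' (U₀ : Over S) {T : Scheme.{u}} {i j : κ}
    (d : T ⟶ pullback (fV i) U₀.hom) (x₁ : T ⟶ V j)
    (h : ((d : T ⟶ (((Desc.toDDFam fV).obj U₀).obj i).left) ≫
      (((Desc.toDDFam fV).obj U₀).obj i).hom) ≫ fV i = x₁ ≫ fV j) :
    (tr ((Desc.toDDFam fV).obj U₀) d x₁ h : T ⟶ pullback (fV j) U₀.hom) ≫
      pullback.snd (fV j) U₀.hom = d ≫ pullback.snd (fV i) U₀.hom :=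
  pullback.lift_snd _ _ _

/-- components of the comparison of the pulled-back canonical datum with the canonical datum -/
noncomputable def pullCanHom (U₀ : Over S) (i : ι) :
    pullback (pullback.fst (fV (α i)) U₀.hom) (g i) ⟶ pullback (fU i) U₀.hom :=
  pullback.lift (pullback.snd _ _) (pullback.fst _ _ ≫ pullback.snd _ _) (by
    have := gw w i
    rw [← this, ← Category.assoc, ← pullback.condition, Category.assoc, Category.assoc,
      pullback.condition])

/-- the inverse components -/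
noncomputable def pullCanInv (U₀ : Over S) (i : ι) :
    pullback (fU i) U₀.hom ⟶ pullback (pullback.fst (fV (α i)) U₀.hom) (g i) :=
  pullback.lift (pullback.lift (pullback.fst _ _ ≫ g i) (pullback.snd _ _) (by
      rw [Category.assoc, gw w i, pullback.condition])) (pullback.fst _ _)
    (by rw [pullback.lift_fst])

theorem pullCanHom_inv (U₀ : Over S) (i : ι) : pullCanHom w U₀ i ≫ pullCanInv w U₀ i = 𝟙 _ := by
  apply pullback.hom_ext
  · apply pullback.hom_ext
    · simp [pullCanHom, pullCanInv, pullback.condition]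
    · simp [pullCanHom, pullCanInv]
  · simp [pullCanHom, pullCanInv]

theorem pullCanInv_hom (U₀ : Over S) (i : ι) : pullCanInv w U₀ i ≫ pullCanHom w U₀ i = 𝟙 _ := by
  apply pullback.hom_ext <;> simp [pullCanHom, pullCanInv]

theorem pullCanHom_fst (U₀ : Over S) (i : ι) :
    pullCanHom w U₀ i ≫ pullback.fst (fU i) U₀.hom = pullback.snd _ _ := pullback.lift_fst _ _ _

theorem pullCanHom_snd (U₀ : Over S) (i : ι) :
    pullCanHom w U₀ i ≫ pullback.snd (fU i) U₀.hom = pullback.fst _ _ ≫ pullback.snd _ _ :=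
  pullback.lift_snd _ _ _

theorem pullCan_comm (U₀ : Over S) {T : Scheme.{u}} {i i' : ι} (x₀ : T ⟶ U i) (x₁ : T ⟶ U i')
    (h : x₀ ≫ fU i = x₁ ≫ fU i')
    (v1 : T ⟶ pullback (pullback.fst (fV (α i)) U₀.hom) (g i))
    (hv1 : v1 ≫ pullback.snd (pullback.fst (fV (α i)) U₀.hom) (g i) = x₀)
    (w1 : T ⟶ pullback (fU i) U₀.hom) (hw1 : w1 ≫ pullback.fst (fU i) U₀.hom = x₀)
    (hw : w1 = v1 ≫ pullCanHom w U₀ i) :
    ((((Desc.toDDFam fU).obj U₀).φ x₀ x₁ h ⟨w1, hw1⟩).1 : T ⟶ pullback (fU i') U₀.hom) =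
      (((Desc.pullDDFamObj w ((Desc.toDDFam fV).obj U₀)).φ x₀ x₁ h ⟨v1, hv1⟩).1 :
        T ⟶ pullback (pullback.fst (fV (α i')) U₀.hom) (g i')) ≫ pullCanHom w U₀ i' := by
  apply pullback.hom_ext
  · have e1 : ((((Desc.toDDFam fU).obj U₀).φ x₀ x₁ h ⟨w1, hw1⟩).1 : T ⟶ pullback (fU i') U₀.hom) ≫
        pullback.fst (fU i') U₀.hom = x₁ := (((Desc.toDDFam fU).obj U₀).φ x₀ x₁ h ⟨w1, hw1⟩).2
    have e2 : (((Desc.pullDDFamObj w ((Desc.toDDFam fV).obj U₀)).φ x₀ x₁ h ⟨v1, hv1⟩).1 :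
        T ⟶ pullback (pullback.fst (fV (α i')) U₀.hom) (g i')) ≫ pullback.snd _ _ = x₁ :=
      ((Desc.pullDDFamObj w ((Desc.toDDFam fV).obj U₀)).φ x₀ x₁ h ⟨v1, hv1⟩).2
    refine e1.trans ?_
    refine Eq.trans ?_ (Category.assoc _ _ _).symm
    refine Eq.trans e2.symm ?_
    exact congrArg (_ ≫ ·) (pullCanHom_fst w U₀ i').symm
  · have e1 : ((((Desc.toDDFam fU).obj U₀).φ x₀ x₁ h ⟨w1, hw1⟩).1 : T ⟶ pullback (fU i') U₀.hom) ≫
        pullback.snd (fU i') U₀.hom = w1 ≫ pullback.snd (fU i) U₀.hom := pullback.lift_snd _ _ _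
    have e2 := pull_phi_fst w ((Desc.toDDFam fV).obj U₀) x₀ x₁ h v1 hv1
    have e3 := tr_can_snd' (fV := fV) U₀ (v1 ≫ pullback.fst _ _) (x₁ ≫ g i')
      (pull_h w ((Desc.toDDFam fV).obj U₀) x₀ x₁ h v1 hv1)
    refine e1.trans ?_
    refine Eq.trans ?_ (Category.assoc _ _ _).symm
    refine Eq.trans ?_ (congrArg (_ ≫ ·) (pullCanHom_snd w U₀ i').symm)
    refine Eq.trans ?_ (Category.assoc _ _ _)
    refine Eq.trans ?_ (congrArg (· ≫ pullback.snd (fV (α i')) U₀.hom) e2).symm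
    refine Eq.trans ?_ e3.symm
    rw [hw, Category.assoc, pullCanHom_snd, Category.assoc]

/-- the comparison morphism of descent data -/
noncomputable def pullCan (U₀ : Over S) :
    (Desc.pullDDFam w).obj ((Desc.toDDFam fV).obj U₀) ⟶ (Desc.toDDFam fU).obj U₀ :=
  ⟨fun i => Over.homMk (pullCanHom w U₀ i) (pullback.lift_fst _ _ _), by
    intro T i i' x₀ x₁ h v w' hw
    obtain ⟨v1, hv1⟩ := v
    obtain ⟨w1, hw1⟩ := w'
    exact pullCan_comm w U₀ x₀ x₁ h v1 hv1 w1 hw1 hw⟩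

theorem isIso_pullCan (U₀ : Over S) : IsIso (pullCan w U₀) :=
  isIso_of_isIso_left _ (fun i => ⟨pullCanInv w U₀ i, pullCanHom_inv w U₀ i, pullCanInv_hom w U₀ i⟩)

/-- effectivity can be checked after pulling back along a (local) refinement of families -/
theorem isEffective_of_pull (H : LocRef fU fV) (D : Desc.SchDDFam fV)
    (h : ((Desc.pullDDFam w).obj D).IsEffective) : D.IsEffective := by
  obtain ⟨U₀, ⟨e⟩⟩ := h
  have := full_pullDDFam w H
  have := faithful_pullDDFam w H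
  have := isIso_pullCan w U₀
  let e' : (Desc.pullDDFam w).obj ((Desc.toDDFam fV).obj U₀) ≅ (Desc.pullDDFam w).obj D :=
    asIso (pullCan w U₀) ≪≫ e
  exact ⟨U₀, ⟨(Desc.pullDDFam w).preimageIso e'⟩⟩

end Groth.Agent.Lib.Helper9.DescSec
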