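import Groth.Agent.Lib.Helper9.DescAff3
import Groth.Agent.Lib.Helper9.DescRef

set_option backward.isDefEq.respectTransparency false
set_option autoImplicit false
set_option linter.unusedSectionVars false
set_option linter.unusedVariables false
universe u
open CategoryTheory CategoryTheory.Limits AlgebraicGeometry Opposite TensorProduct

namespace Groth.Agent.Lib.Helper9.DescAff

open CommRingCat Groth.Agent.Lib.Helper9.DescFF Groth.Agent.Lib.Helper9.DescSec

theorem core_ringHom (R R' B' : CommRingCat.{u}) (φ : R ⟶ R') (ψ : R' ⟶ B') (hflat : φ.hom.Flat)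
    (D : Desc.SchDDFam (fun _ : PUnit.{u + 1} => Spec.map φ))
    (eV : (D.obj PUnit.unit).left ≅ Spec B') (heV : eV.inv ≫ (D.obj PUnit.unit).hom = Spec.map ψ) :
    D.IsEffective := by
  letI := φ.hom.toAlgebra
  letI := ψ.hom.toAlgebra
  letI := (φ ≫ ψ).hom.toAlgebra
  haveI : IsScalarTower R R' B' := IsScalarTower.of_algebraMap_eq' rfl
  haveI : Module.Flat R R' := hflat
  exact core (R := R) (R' := R') (B' := B') D eV heV

theorem core_spec (R R' : CommRingCat.{u}) (g : Spec R' ⟶ Spec R) [Flat g]
    (D : Desc.SchDDFam (fun _ : PUnit.{u + 1} => g)) [IsAffine (D.obj PUnit.unit).left] :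
    D.IsEffective := by
  obtain ⟨φ, rfl⟩ : ∃ φ : R ⟶ R', Spec.map φ = g := ⟨Spec.preimage g, Spec.map_preimage g⟩
  have hflat : φ.hom.Flat := (Flat.SpecMap_iff).1 inferInstance
  let eV : (D.obj PUnit.unit).left ≅ Spec Γ((D.obj PUnit.unit).left, ⊤) :=
    (D.obj PUnit.unit).left.isoSpec
  exact core_ringHom R R' _ φ (Spec.preimage (eV.inv ≫ (D.obj PUnit.unit).hom)) hflat D eV
    (Spec.map_preimage _).symm

theorem mem_fpqc_of_pUnit {X S : Scheme.{u}} (p : X ⟶ S) [Flat p] [Surjective p] [QuasiCompact p] :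
    Presieve.ofArrows (fun _ : PUnit.{u + 1} => X) (fun _ => p) ∈ Scheme.fpqcPrecoverage S := by
  rw [Presieve.ofArrows_pUnit]
  exact p.singleton_mem_fpqcPrecoverage

theorem quasiCompact_of_isAffine {X S : Scheme.{u}} (p : X ⟶ S) [IsAffine X] [IsAffine S] :
    QuasiCompact p := by
  haveI : IsAffineHom p := isAffineHom_of_isAffine p
  infer_instance

/-- descent data on schemes affine over `X`, relative to a flat surjective morphism of affine
schemes, are effective -/
theorem isEffective_affine {X S : Scheme.{u}} (p : X ⟶ S) [IsAffine X] [IsAffine S] [Flat p]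
    [Surjective p] (D : Desc.SchDDFam (fun _ : PUnit.{u + 1} => p))
    [IsAffineHom (D.obj PUnit.unit).hom] : D.IsEffective := by
  haveI : QuasiCompact p := quasiCompact_of_isAffine p
  have hf := mem_fpqc_of_pUnit p
  let q : Spec Γ(S, ⊤) ⟶ S := S.isoSpec.inv
  refine isEffective_of_local hf D (A := PUnit.{u + 1}) (S' := fun _ => Spec Γ(S, ⊤))
    (fun _ => q) (fun s => ⟨PUnit.unit, (S.isoSpec.inv.surjective) s⟩)
    (X' := fun _ _ => pullback p q) (fun _ _ => pullback.snd p q) (fun _ _ => pullback.fst p q)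
    (fun _ _ => pullback.condition) (fun _ _ => IsPullback.of_hasPullback p q) (fun _ => ?_)
  let g : Spec Γ(pullback p q, ⊤) ⟶ pullback p q := (pullback p q).isoSpec.inv
  have w : ∀ i : PUnit.{u + 1}, g ≫ pullback.snd p q = (g ≫ pullback.snd p q) ≫ 𝟙 _ :=
    fun _ => (Category.comp_id _).symm
  haveI : QuasiCompact (g ≫ pullback.snd p q) := quasiCompact_of_isAffine _
  have H : LocRef (fun _ : PUnit.{u + 1} => g ≫ pullback.snd p q)
      (fun _ : PUnit.{u + 1} => pullback.snd p q) :=
    locRef_of_cover _ _ (mem_fpqc_of_pUnit (g ≫ pullback.snd p q))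
  apply isEffective_of_pull (α := fun i => i) (g := fun _ => g) w H
  haveI : IsAffine (((Desc.pullDDFam (α := fun i => i) (p' := fun _ => g) w).obj
      (pullD (fun _ : PUnit.{u + 1} => pullback.condition) D)).obj PUnit.unit).left := by
    change IsAffine (pullback (pullback.snd (D.obj PUnit.unit).hom (pullback.fst p q)) g)
    exact isAffine_of_isAffineHom (pullback.snd _ g)
  exact core_spec _ _ (g ≫ pullback.snd p q) _

/-- effectivity for a single morphism from effectivity for the one-member family -/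
theorem effective_of_fam {X S : Scheme.{u}} (p : X ⟶ S) (D : Desc.SchDD p)
    (h : ((Desc.SchDDFam.ofSchDD.{u} p).obj D).IsEffective) :
    ∃ U : Over S, Nonempty ((Desc.toDD p).obj U ≅ D) := by
  obtain ⟨U, ⟨e⟩⟩ := h
  exact ⟨U, ⟨(Desc.SchDDFam.toSchDD.{u} p).mapIso e⟩⟩

/-- the affine case of fpqc descent for schemes affine over the base -/
theorem h3_affine (X S : Scheme.{u}) (p : X ⟶ S) (hX : IsAffine X) (hS : IsAffine S)
    (hflat : Flat p) (hsurj : Surjective p) (D : Desc.SchDD p) (hD : IsAffineHom D.obj.hom) :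
    ∃ U : Over S, Nonempty ((Desc.toDD p).obj U ≅ D) := by
  apply effective_of_fam
  haveI : IsAffineHom (((Desc.SchDDFam.ofSchDD.{u} p).obj D).obj PUnit.unit).hom := hD
  exact isEffective_affine p _

end Groth.Agent.Lib.Helper9.DescAff
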