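import Groth.Agent.Lib.Helper9.DescCoprod2
import Groth.Agent.Lib.Helper9.DescRef

set_option backward.isDefEq.respectTransparency false
set_option autoImplicit false
set_option linter.unusedSectionVars false
set_option linter.unusedVariables false
universe u
open CategoryTheory CategoryTheory.Limits AlgebraicGeometry Opposite

namespace Groth.Agent.Lib.Helper9.DescCoprod

open Groth.Agent.Lib.Helper9.DescFF Groth.Agent.Lib.Helper9.DescSec

variable {S : Scheme.{u}} {n : ℕ} {W : Fin n → Scheme.{u}} {g : ∀ j, W j ⟶ S}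
  (D : Desc.SchDDFam g)

/-- the coproduct datum as a datum relative to the one-member family -/
noncomputable abbrev coprodFam : Desc.SchDDFam (fun _ : PUnit.{u + 1} => πc g) :=
  (Desc.SchDDFam.ofSchDD.{u} (πc g)).obj (coprodDD D)

variable (g) in
theorem wι (j : Fin n) :
    Sigma.ι W j ≫ (fun _ : PUnit.{u + 1} => πc g) PUnit.unit = g j ≫ 𝟙 S := by
  simp

variable (g) in
/-- restriction to the summands -/
noncomputable abbrev pullι : Desc.SchDDFam (fun _ : PUnit.{u + 1} => πc g) ⥤ Desc.SchDDFam g :=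
  Desc.pullDDFam (f := fun _ : PUnit.{u + 1} => πc g) (X := fun _ => ∐ W) (f' := g)
    (α := fun _ => PUnit.unit) (p := 𝟙 S) (p' := fun j => Sigma.ι W j) (wι g)

/-- the components of the comparison -/
noncomputable def cmpHom (j : Fin n) : (D.obj j).left ⟶ pullback (Qc D) (Sigma.ι W j) :=
  pullback.lift (Sigma.ι (VV D) j) (D.obj j).hom (ιV_Qc D j)

theorem cmpHom_fst (j : Fin n) : cmpHom D j ≫ pullback.fst (Qc D) (Sigma.ι W j) =
    Sigma.ι (VV D) j := pullback.lift_fst _ _ _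

theorem cmpHom_snd (j : Fin n) : cmpHom D j ≫ pullback.snd (Qc D) (Sigma.ι W j) =
    (D.obj j).hom := pullback.lift_snd _ _ _

theorem isIso_cmpHom (j : Fin n) : IsIso (cmpHom D j) := by
  obtain ⟨d, hd1, hd2⟩ := exists_lift_sigma (fun j => (D.obj j).hom)
    (pullback.fst (Qc D) (Sigma.ι W j)) (pullback.snd (Qc D) (Sigma.ι W j)) pullback.condition
  refine ⟨d, ?_, ?_⟩
  · rw [← cancel_mono (Sigma.ι (VV D) j), Category.assoc, hd1, cmpHom_fst, Category.id_comp]
  · apply pullback.hom_ext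
    · rw [Category.assoc, cmpHom_fst, hd1, Category.id_comp]
    · rw [Category.assoc, cmpHom_snd, hd2, Category.id_comp]

theorem tr_coprodFam {T : Scheme.{u}} (d : T ⟶ ∐ VV D) (x₁ : T ⟶ ∐ W)
    (h : (d ≫ Qc D) ≫ πc g = x₁ ≫ πc g) :
    tr (coprodFam D) (j := PUnit.unit) (j' := PUnit.unit) d x₁ h =
      (phiFun (d ≫ Qc D) x₁ h ⟨d, rfl⟩).1 := rfl

theorem cmp_comm {T : Scheme.{u}} {i j : Fin n} (x₀ : T ⟶ W i) (x₁ : T ⟶ W j)
    (h : x₀ ≫ g i = x₁ ≫ g j)
    (v1 : T ⟶ (D.obj i).left) (hv1 : v1 ≫ (D.obj i).hom = x₀)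
    (w1 : T ⟶ pullback (Qc D) (Sigma.ι W i)) (hw1 : w1 ≫ pullback.snd (Qc D) (Sigma.ι W i) = x₀)
    (hw : w1 = v1 ≫ cmpHom D i) :
    ((((pullι g).obj (coprodFam D)).φ x₀ x₁ h ⟨w1, hw1⟩).1 :
      T ⟶ pullback (Qc D) (Sigma.ι W j)) = (D.φ x₀ x₁ h ⟨v1, hv1⟩).1 ≫ cmpHom D j := by
  apply pullback.hom_ext
  · have e1 := pull_phi_fst (fV := fun _ : PUnit.{u + 1} => πc g) (V := fun _ => ∐ W) (fU := g)
      (α := fun _ => PUnit.unit) (g := fun j => Sigma.ι W j) (wι g) (coprodFam D) x₀ x₁ h w1 hw1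
    refine e1.trans ?_
    rw [tr_coprodFam]
    have hh : (v1 ≫ (D.obj i).hom) ≫ g i = x₁ ≫ g j := by rw [hv1, h]
    have r := phiFun_rel ((w1 ≫ pullback.fst (Qc D) (Sigma.ι W i)) ≫ Qc D) (x₁ ≫ Sigma.ι W j)
      (pull_h (fV := fun _ : PUnit.{u + 1} => πc g) (V := fun _ => ∐ W) (fU := g)
      (α := fun _ => PUnit.unit) (g := fun j => Sigma.ι W j) (wι g) (coprodFam D) x₀ x₁ h w1 hw1) ⟨w1 ≫ pullback.fst (Qc D) (Sigma.ι W i), rfl⟩
    have r' := r (𝟙 T) x₀ x₁ v1
      (by rw [Category.id_comp, Category.assoc, pullback.condition, ← Category.assoc, hw1])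
      (by rw [Category.id_comp])
      (by
        show 𝟙 T ≫ (w1 ≫ pullback.fst (Qc D) (Sigma.ι W i)) = _
        rw [Category.id_comp, hw, Category.assoc, cmpHom_fst]) hh
    rw [Category.id_comp] at r'
    refine r'.trans ?_
    refine Eq.trans ?_ (Category.assoc _ _ _).symm
    refine Eq.trans ?_ (congrArg (_ ≫ ·) (cmpHom_fst D j).symm)
    rw [phi_eq_tr]
  · have e1 := pull_phi_snd (fV := fun _ : PUnit.{u + 1} => πc g) (V := fun _ => ∐ W) (fU := g)
      (α := fun _ => PUnit.unit) (g := fun j => Sigma.ι W j) (wι g) (coprodFam D) x₀ x₁ h w1 hw1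
    refine e1.trans ?_
    refine Eq.trans ?_ (Category.assoc _ _ _).symm
    refine Eq.trans ?_ (congrArg (_ ≫ ·) (cmpHom_snd D j).symm)
    exact (D.φ x₀ x₁ h ⟨v1, hv1⟩).2.symm

/-- the comparison of `D` with the restriction of the coproduct datum to the summands -/
noncomputable def cmp : D ⟶ (pullι g).obj (coprodFam D) :=
  ⟨fun j => Over.homMk (cmpHom D j) (cmpHom_snd D j), by
    intro T i j x₀ x₁ h v w hw
    obtain ⟨v1, hv1⟩ := v
    obtain ⟨w1, hw1⟩ := w
    exact cmp_comm D x₀ x₁ h v1 hv1 w1 hw1 hw⟩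

theorem isIso_cmp : IsIso (cmp D) :=
  isIso_of_isIso_left _ (fun j => isIso_cmpHom D j)

/-- a one-morphism datum effective in the `SchDD` sense is effective as a family datum -/
theorem fam_of_effective {X S : Scheme.{u}} (p : X ⟶ S) (D : Desc.SchDD p)
    (h : ∃ U : Over S, Nonempty ((Desc.toDD p).obj U ≅ D)) :
    ((Desc.SchDDFam.ofSchDD.{u} p).obj D).IsEffective := by
  obtain ⟨U, ⟨e⟩⟩ := h
  exact ⟨U, ⟨(Desc.SchDDFam.ofSchDD.{u} p).mapIso e⟩⟩

/-- if the coproduct datum is effective then so is `D` -/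
theorem isEffective_of_coprod
    (h : ∃ U : Over S, Nonempty ((Desc.toDD (πc g)).obj U ≅ coprodDD D)) : D.IsEffective := by
  obtain ⟨U₀, ⟨e⟩⟩ := fam_of_effective _ _ h
  have := isIso_cmp D
  have := isIso_pullCan (fV := fun _ : PUnit.{u + 1} => πc g) (V := fun _ => ∐ W) (fU := g)
    (α := fun _ => PUnit.unit) (g := fun j => Sigma.ι W j) (wι g) U₀
  exact ⟨U₀, ⟨(asIso (pullCan (fV := fun _ : PUnit.{u + 1} => πc g) (V := fun _ => ∐ W) (fU := g)
    (α := fun _ => PUnit.unit) (g := fun j => Sigma.ι W j) (wι g) U₀)).symm ≪≫ (pullι g).mapIso e ≪≫ (asIso (cmp D)).symm⟩⟩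

end Groth.Agent.Lib.Helper9.DescCoprod
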