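import Groth.Agent.Lib.Helper9.DescRef

set_option backward.isDefEq.respectTransparency false
set_option autoImplicit false
set_option linter.unusedSectionVars false
set_option linter.unusedVariables false
universe u
open CategoryTheory CategoryTheory.Limits AlgebraicGeometry Opposite

namespace Groth.Agent.Lib.Helper9.DescCoprodG

open Groth.Agent.Lib.Helper9.DescFF Groth.Agent.Lib.Helper9.DescSec

section sigma

variable {ι : Type u} {V W : ι → Scheme.{u}} (q : ∀ j, V j ⟶ W j)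

/-- morphisms out of a scheme admitting maps to two different summands agree -/
theorem eq_of_ne {Z Y : Scheme.{u}} {j k : ι} (hjk : j ≠ k) (a : Z ⟶ W j) (b : Z ⟶ W k)
    (h : a ≫ Sigma.ι W j = b ≫ Sigma.ι W k) (f₁ f₂ : Z ⟶ Y) : f₁ = f₂ := by
  haveI : IsEmpty Z := isEmpty_of_commSq_sigmaι_of_ne ⟨h⟩ hjk
  exact (isInitialOfIsEmpty (X := Z)).hom_ext _ _

/-- a point of `∐ V` lying over the `j`-th summand of `∐ W` lies in the `j`-th summand -/
theorem exists_lift_sigma {Z : Scheme.{u}} {j : ι} (d' : Z ⟶ ∐ V) (y₀ : Z ⟶ W j)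
    (h : d' ≫ Limits.Sigma.map q = y₀ ≫ Sigma.ι W j) :
    ∃ d : Z ⟶ V j, d ≫ Sigma.ι V j = d' ∧ d ≫ q j = y₀ := by
  have hr : Set.range d' ⊆ Set.range (Sigma.ι V j) := by
    rintro _ ⟨z, rfl⟩
    obtain ⟨k, v, hv'⟩ : ∃ k, ∃ v : V k, (Sigma.ι V k) v = d' z := by
      obtain ⟨v, hv⟩ := (sigmaOpenCover V).covers (d' z)
      exact ⟨(sigmaOpenCover V).idx (d' z), v, hv⟩
    have h1 : (Limits.Sigma.map q) (d' z) = (Sigma.ι W k) (q k v) := by
      rw [← hv', ← Scheme.Hom.comp_apply, Limits.Sigma.ι_map, Scheme.Hom.comp_apply]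
    have h2 : (Limits.Sigma.map q) (d' z) = (Sigma.ι W j) (y₀ z) := by
      rw [← Scheme.Hom.comp_apply, h, Scheme.Hom.comp_apply]
    have h3 := (sigmaι_eq_iff W k j (q k v) (y₀ z)).1 (h1.symm.trans h2)
    have hkj : k = j := congrArg Sigma.fst h3
    rw [← hkj]
    exact ⟨v, hv'⟩
  refine ⟨IsOpenImmersion.lift (Sigma.ι V j) d' hr, IsOpenImmersion.lift_fac _ _ _, ?_⟩
  rw [← cancel_mono (Sigma.ι W j), Category.assoc, ← Limits.Sigma.ι_map, ← Category.assoc,
    IsOpenImmersion.lift_fac, h]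

theorem sigmaι_mem_fpqc :
    Presieve.ofArrows W (Sigma.ι W) ∈ Scheme.fpqcPrecoverage (∐ W) :=
  Scheme.zariskiPrecoverage_le_fpqcPrecoverage _ (sigmaOpenCover W).mem₀

theorem cover_of_sigma {T : Scheme.{u}} (x : T ⟶ ∐ W) :
    Presieve.ofArrows (fun j => pullback x (Sigma.ι W j)) (fun j => pullback.fst x (Sigma.ι W j)) ∈
      Scheme.fpqcPrecoverage T :=
  Scheme.fpqcPrecoverage.mem_coverings_of_isPullback (Sigma.ι W) sigmaι_mem_fpqc x _
    (fun j => pullback.snd x (Sigma.ι W j)) (fun j => IsPullback.of_hasPullback x (Sigma.ι W j))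

end sigma

end Groth.Agent.Lib.Helper9.DescCoprodG
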