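import Groth.Agent.Lib.Helper9.DescCoprodG1

set_option backward.isDefEq.respectTransparency false
set_option autoImplicit false
set_option linter.unusedSectionVars false
set_option linter.unusedVariables false
universe u
open CategoryTheory CategoryTheory.Limits AlgebraicGeometry Opposite

namespace Groth.Agent.Lib.Helper9.DescCoprodG

open Groth.Agent.Lib.Helper9.DescFF Groth.Agent.Lib.Helper9.DescSec

section glue

variable {ι : Type u} {W : ι → Scheme.{u}}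

/-- morphisms glue along the disjoint open cover of `T` induced by `x : T ⟶ ∐ W` -/
theorem glue_disjoint {T Y : Scheme.{u}} (x : T ⟶ ∐ W)
    (m : ∀ j, pullback x (Sigma.ι W j) ⟶ Y) :
    ∃! w : T ⟶ Y, ∀ j, pullback.fst x (Sigma.ι W j) ≫ w = m j := by
  apply FpqcLoc.existsUnique_glue _ (cover_of_sigma x) m
  intro j j' Z gj gj' e
  by_cases hjj' : j = j'
  · subst hjj'
    have : gj = gj' := by
      apply pullback.hom_ext e
      rw [← cancel_mono (Sigma.ι W j), Category.assoc, Category.assoc, ← pullback.condition,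
        reassoc_of% e]
    rw [this]
  · apply eq_of_ne hjj' (gj ≫ pullback.snd x (Sigma.ι W j)) (gj' ≫ pullback.snd x (Sigma.ι W j'))
    rw [Category.assoc, Category.assoc, ← pullback.condition, ← pullback.condition, reassoc_of% e]

theorem hom_ext_disjoint {T Y : Scheme.{u}} (x : T ⟶ ∐ W) (w w' : T ⟶ Y)
    (h : ∀ j, pullback.fst x (Sigma.ι W j) ≫ w = pullback.fst x (Sigma.ι W j) ≫ w') : w = w' :=
  hom_ext_of_fpqc _ (cover_of_sigma x) w w' h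

end glue

section main

variable {S : Scheme.{u}} {ι : Type u} {W : ι → Scheme.{u}} {g : ∀ j, W j ⟶ S}
  (D : Desc.SchDDFam g)

/-- the summands of the total space -/
abbrev VV (j : ι) : Scheme.{u} := (D.obj j).left

/-- the structure morphism of the coproduct -/
noncomputable abbrev Qc : ∐ VV D ⟶ ∐ W := Limits.Sigma.map (fun j => (D.obj j).hom)

variable (g) in
/-- the coproduct of the covering family -/
noncomputable abbrev πc : ∐ W ⟶ S := Sigma.desc g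

theorem ι_πc (j : ι) : Sigma.ι W j ≫ πc g = g j := Sigma.ι_desc _ _

theorem ιV_Qc (j : ι) : Sigma.ι (VV D) j ≫ Qc D = (D.obj j).hom ≫ Sigma.ι W j :=
  Limits.Sigma.ι_map _ _

/-- the local formula characterising the gluing bijections of the coproduct datum -/
def Rel {T : Scheme.{u}} (x₀ x₁ : T ⟶ ∐ W) (v w : T ⟶ ∐ VV D) : Prop :=
  ∀ ⦃Z : Scheme.{u}⦄ (z : Z ⟶ T) ⦃j k : ι⦄ (y₀ : Z ⟶ W j) (y₁ : Z ⟶ W k) (d : Z ⟶ VV D j),
    z ≫ x₀ = y₀ ≫ Sigma.ι W j → z ≫ x₁ = y₁ ≫ Sigma.ι W k → z ≫ v = d ≫ Sigma.ι (VV D) j →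
    ∀ h : (d ≫ (D.obj j).hom) ≫ g j = y₁ ≫ g k, z ≫ w = tr D d y₁ h ≫ Sigma.ι (VV D) k

variable {D}

theorem Rel.natural {T T' : Scheme.{u}} {x₀ x₁ : T ⟶ ∐ W} {v w : T ⟶ ∐ VV D}
    (h : Rel D x₀ x₁ v w) (t : T' ⟶ T) : Rel D (t ≫ x₀) (t ≫ x₁) (t ≫ v) (t ≫ w) := by
  intro Z z j k y₀ y₁ d h0 h1 hv hh
  have := h (z ≫ t) y₀ y₁ d (by rw [Category.assoc, h0]) (by rw [Category.assoc, h1])
    (by rw [Category.assoc, hv]) hh
  rw [← Category.assoc]; exact this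

/-- a chart lifts: the `V`-component is determined -/
theorem chart_hom {T Z : Scheme.{u}} {x₀ : T ⟶ ∐ W} {v : T ⟶ ∐ VV D} (hv : v ≫ Qc D = x₀)
    (z : Z ⟶ T) {j : ι} (y₀ : Z ⟶ W j) (d : Z ⟶ VV D j) (h0 : z ≫ x₀ = y₀ ≫ Sigma.ι W j)
    (hd : z ≫ v = d ≫ Sigma.ι (VV D) j) : d ≫ (D.obj j).hom = y₀ := by
  rw [← cancel_mono (Sigma.ι W j), Category.assoc, ← ιV_Qc, ← Category.assoc, ← hd,
    Category.assoc, hv, h0]

theorem chart_tr_hyp {T Z : Scheme.{u}} {x₀ x₁ : T ⟶ ∐ W} (hx : x₀ ≫ πc g = x₁ ≫ πc g)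
    {v : T ⟶ ∐ VV D} (hv : v ≫ Qc D = x₀)
    (z : Z ⟶ T) {j k : ι} (y₀ : Z ⟶ W j) (y₁ : Z ⟶ W k) (d : Z ⟶ VV D j)
    (h0 : z ≫ x₀ = y₀ ≫ Sigma.ι W j) (h1 : z ≫ x₁ = y₁ ≫ Sigma.ι W k)
    (hd : z ≫ v = d ≫ Sigma.ι (VV D) j) : (d ≫ (D.obj j).hom) ≫ g j = y₁ ≫ g k := by
  calc (d ≫ (D.obj j).hom) ≫ g j = y₀ ≫ g j := by rw [chart_hom hv z y₀ d h0 hd]
    _ = y₀ ≫ Sigma.ι W j ≫ πc g := by rw [ι_πc]
    _ = (z ≫ x₀) ≫ πc g := by rw [h0, Category.assoc]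
    _ = (z ≫ x₁) ≫ πc g := by rw [Category.assoc, hx, Category.assoc]
    _ = y₁ ≫ g k := by rw [h1, Category.assoc, ι_πc]

theorem Rel.self {T : Scheme.{u}} {x : T ⟶ ∐ W} {v : T ⟶ ∐ VV D} (hv : v ≫ Qc D = x) :
    Rel D x x v v := by
  intro Z z j k y₀ y₁ d h0 h1 hd hh
  by_cases hjk : j = k
  · subst hjk
    have e : y₀ = y₁ := by rw [← cancel_mono (Sigma.ι W j), ← h0, h1]
    rw [tr_self D d y₁ (by rw [chart_hom hv z y₀ d h0 hd, e]) hh]
    exact hd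
  · exact eq_of_ne hjk y₀ y₁ (by rw [← h0, h1]) _ _

section std

variable {T : Scheme.{u}} (x₀ x₁ : T ⟶ ∐ W) (hx : x₀ ≫ πc g = x₁ ≫ πc g) (v : T ⟶ ∐ VV D)
  (hv : v ≫ Qc D = x₀)

include hv in
theorem exists_d1 (j : ι) : ∃ d : pullback x₀ (Sigma.ι W j) ⟶ VV D j,
    d ≫ Sigma.ι (VV D) j = pullback.fst x₀ (Sigma.ι W j) ≫ v ∧
      d ≫ (D.obj j).hom = pullback.snd x₀ (Sigma.ι W j) :=
  exists_lift_sigma (fun j => (D.obj j).hom) (pullback.fst x₀ (Sigma.ι W j) ≫ v)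
    (pullback.snd x₀ (Sigma.ι W j)) (by rw [Category.assoc, hv, pullback.condition])

/-- the lifts on the standard charts -/
noncomputable def d1 (j : ι) : pullback x₀ (Sigma.ι W j) ⟶ VV D j :=
  (exists_d1 x₀ v hv j).choose

theorem d1_ι (j : ι) :
    d1 x₀ v hv j ≫ Sigma.ι (VV D) j = pullback.fst x₀ (Sigma.ι W j) ≫ v :=
  (exists_d1 x₀ v hv j).choose_spec.1

theorem d1_hom (j : ι) : d1 x₀ v hv j ≫ (D.obj j).hom = pullback.snd x₀ (Sigma.ι W j) :=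
  (exists_d1 x₀ v hv j).choose_spec.2

/-- the second layer of standard charts -/
noncomputable abbrev T2 (j k : ι) : Scheme.{u} :=
  pullback (pullback.fst x₀ (Sigma.ι W j) ≫ x₁) (Sigma.ι W k)

include hx in
theorem std_hyp (j k : ι) :
    ((pullback.fst (pullback.fst x₀ (Sigma.ι W j) ≫ x₁) (Sigma.ι W k) ≫ d1 x₀ v hv j) ≫
      (D.obj j).hom) ≫ g j =
    pullback.snd (pullback.fst x₀ (Sigma.ι W j) ≫ x₁) (Sigma.ι W k) ≫ g k :=
  chart_tr_hyp hx hv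
    (pullback.fst (pullback.fst x₀ (Sigma.ι W j) ≫ x₁) (Sigma.ι W k) ≫ pullback.fst x₀ (Sigma.ι W j))
    (pullback.fst (pullback.fst x₀ (Sigma.ι W j) ≫ x₁) (Sigma.ι W k) ≫ pullback.snd x₀ (Sigma.ι W j))
    (pullback.snd (pullback.fst x₀ (Sigma.ι W j) ≫ x₁) (Sigma.ι W k))
    (pullback.fst (pullback.fst x₀ (Sigma.ι W j) ≫ x₁) (Sigma.ι W k) ≫ d1 x₀ v hv j)
    (by rw [Category.assoc, pullback.condition, Category.assoc])
    (by rw [Category.assoc, pullback.condition])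
    (by rw [Category.assoc, Category.assoc, d1_ι])

/-- the value of the gluing bijection on the standard charts -/
noncomputable def stdVal (j k : ι) : T2 x₀ x₁ j k ⟶ ∐ VV D :=
  tr D (pullback.fst (pullback.fst x₀ (Sigma.ι W j) ≫ x₁) (Sigma.ι W k) ≫ d1 x₀ v hv j)
    (pullback.snd (pullback.fst x₀ (Sigma.ι W j) ≫ x₁) (Sigma.ι W k)) (std_hyp x₀ x₁ hx v hv j k) ≫
    Sigma.ι (VV D) k

theorem rel_iff_std (w : T ⟶ ∐ VV D) : Rel D x₀ x₁ v w ↔
    ∀ j k, (pullback.fst (pullback.fst x₀ (Sigma.ι W j) ≫ x₁) (Sigma.ι W k) ≫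
      pullback.fst x₀ (Sigma.ι W j)) ≫ w = stdVal x₀ x₁ hx v hv j k := by
  constructor
  · intro h j k
    exact h _ (pullback.fst (pullback.fst x₀ (Sigma.ι W j) ≫ x₁) (Sigma.ι W k) ≫
        pullback.snd x₀ (Sigma.ι W j)) (pullback.snd _ _) _
      (by rw [Category.assoc, pullback.condition, Category.assoc])
      (by rw [Category.assoc, pullback.condition])
      (by rw [Category.assoc, Category.assoc, d1_ι]) _
  · intro h Z z j k y₀ y₁ d h0 h1 hd hh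
    let z1 : Z ⟶ pullback x₀ (Sigma.ι W j) := pullback.lift z y₀ h0
    have hz1 : z1 ≫ pullback.fst x₀ (Sigma.ι W j) = z := pullback.lift_fst _ _ _
    let z2 : Z ⟶ T2 x₀ x₁ j k := pullback.lift z1 y₁ (by rw [← Category.assoc, hz1, h1])
    have hz2 : z2 ≫ pullback.fst _ _ = z1 := pullback.lift_fst _ _ _
    have hz2' : z2 ≫ pullback.snd _ _ = y₁ := pullback.lift_snd _ _ _
    have hzz : z = z2 ≫ (pullback.fst (pullback.fst x₀ (Sigma.ι W j) ≫ x₁) (Sigma.ι W k) ≫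
        pullback.fst x₀ (Sigma.ι W j)) := by rw [← Category.assoc, hz2, hz1]
    have hd1 : z1 ≫ d1 x₀ v hv j = d := by
      rw [← cancel_mono (Sigma.ι (VV D) j), Category.assoc, d1_ι, ← Category.assoc, hz1, hd]
    rw [hzz, Category.assoc, h j k, stdVal, ← Category.assoc]
    congr 1
    refine (tr_natural D z2 _ _ _ (by
      rw [← Category.assoc, hz2, hd1, hz2']; exact hh)).trans ?_
    exact tr_congr D (by rw [← Category.assoc, hz2, hd1]) hz2' _ _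

include hx hv in
theorem existsUnique_rel : ∃! w : T ⟶ ∐ VV D, Rel D x₀ x₁ v w := by
  -- inner gluing
  choose wj hwj hwjuniq using fun j =>
    glue_disjoint (pullback.fst x₀ (Sigma.ι W j) ≫ x₁) (fun k => stdVal x₀ x₁ hx v hv j k)
  obtain ⟨w, hw, -⟩ := glue_disjoint x₀ wj
  refine ⟨w, ?_, ?_⟩
  · show Rel D x₀ x₁ v w
    rw [rel_iff_std x₀ x₁ hx v hv]
    intro j k
    rw [Category.assoc, hw j, hwj j k]
  · intro w' hw'
    have hw'' : Rel D x₀ x₁ v w' := hw'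
    rw [rel_iff_std x₀ x₁ hx v hv] at hw''
    apply hom_ext_disjoint x₀
    intro j
    apply hom_ext_disjoint (pullback.fst x₀ (Sigma.ι W j) ≫ x₁)
    intro k
    rw [← Category.assoc, ← Category.assoc, hw'' j k, Category.assoc, hw j, hwj j k]

include hx hv in
theorem Rel.hom {w : T ⟶ ∐ VV D} (h : Rel D x₀ x₁ v w) : w ≫ Qc D = x₁ := by
  rw [rel_iff_std x₀ x₁ hx v hv] at h
  apply hom_ext_disjoint x₀
  intro j
  apply hom_ext_disjoint (pullback.fst x₀ (Sigma.ι W j) ≫ x₁)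
  intro k
  rw [← Category.assoc, ← Category.assoc, h j k, stdVal, Category.assoc, ιV_Qc, ← Category.assoc,
    tr_hom, pullback.condition]

end std

theorem Rel.comp {T : Scheme.{u}} {x₀ x₁ x₂ : T ⟶ ∐ W} (hx01 : x₀ ≫ πc g = x₁ ≫ πc g)
    (hx12 : x₁ ≫ πc g = x₂ ≫ πc g) {v w w' : T ⟶ ∐ VV D} (hv : v ≫ Qc D = x₀)
    (h01 : Rel D x₀ x₁ v w) (h12 : Rel D x₁ x₂ w w') : Rel D x₀ x₂ v w' := by
  have hw : w ≫ Qc D = x₁ := Rel.hom x₀ x₁ hx01 v hv h01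
  intro Z z j l y₀ y₂ d h0 h2 hd hh
  apply hom_ext_disjoint (z ≫ x₁)
  intro k
  have hc : pullback.fst (z ≫ x₁) (Sigma.ι W k) ≫ z ≫ x₁ =
      pullback.snd (z ≫ x₁) (Sigma.ι W k) ≫ Sigma.ι W k := pullback.condition
  have e0 : (pullback.fst (z ≫ x₁) (Sigma.ι W k) ≫ z) ≫ x₀ =
      (pullback.fst (z ≫ x₁) (Sigma.ι W k) ≫ y₀) ≫ Sigma.ι W j := by
    rw [Category.assoc, h0, Category.assoc]
  have e1 : (pullback.fst (z ≫ x₁) (Sigma.ι W k) ≫ z) ≫ x₁ =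
      pullback.snd (z ≫ x₁) (Sigma.ι W k) ≫ Sigma.ι W k := by
    rw [Category.assoc, hc]
  have e2 : (pullback.fst (z ≫ x₁) (Sigma.ι W k) ≫ z) ≫ x₂ =
      (pullback.fst (z ≫ x₁) (Sigma.ι W k) ≫ y₂) ≫ Sigma.ι W l := by
    rw [Category.assoc, h2, Category.assoc]
  have ed : (pullback.fst (z ≫ x₁) (Sigma.ι W k) ≫ z) ≫ v =
      (pullback.fst (z ≫ x₁) (Sigma.ι W k) ≫ d) ≫ Sigma.ι (VV D) j := by
    rw [Category.assoc, hd, Category.assoc]
  have hh1 := chart_tr_hyp hx01 hv _ _ _ _ e0 e1 ed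
  have r1 := h01 _ _ _ _ e0 e1 ed hh1
  have hh2 := chart_tr_hyp hx12 hw _ _ _ _ e1 e2 r1
  have r2 := h12 _ _ _ _ e1 e2 r1 hh2
  rw [← Category.assoc, r2, ← Category.assoc]
  congr 1
  have hh3 : ((pullback.fst (z ≫ x₁) (Sigma.ι W k) ≫ d) ≫ (D.obj j).hom) ≫ g j =
      (pullback.fst (z ≫ x₁) (Sigma.ι W k) ≫ y₂) ≫ g l := by
    rw [Category.assoc, Category.assoc, Category.assoc]
    rw [Category.assoc] at hh
    rw [hh]
  rw [tr_tr D _ _ hh1 _ hh2 hh3]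
  exact (tr_natural D _ _ _ hh hh3).symm

section phi

variable {T : Scheme.{u}} (x₀ x₁ : T ⟶ ∐ W) (hx : x₀ ≫ πc g = x₁ ≫ πc g)

/-- the gluing map of the coproduct datum -/
noncomputable def phiFun (v : Desc.Lifts (Over.mk (Qc D)) x₀) : Desc.Lifts (Over.mk (Qc D)) x₁ :=
  ⟨(existsUnique_rel x₀ x₁ hx v.1 v.2).choose,
    Rel.hom x₀ x₁ hx v.1 v.2 (existsUnique_rel x₀ x₁ hx v.1 v.2).choose_spec.1⟩

theorem phiFun_rel (v : Desc.Lifts (Over.mk (Qc D)) x₀) :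
    Rel D x₀ x₁ v.1 (phiFun x₀ x₁ hx v).1 :=
  (existsUnique_rel x₀ x₁ hx v.1 v.2).choose_spec.1

theorem eq_phiFun (v : Desc.Lifts (Over.mk (Qc D)) x₀) (w : T ⟶ ∐ VV D)
    (h : Rel D x₀ x₁ v.1 w) : w = (phiFun x₀ x₁ hx v).1 :=
  (existsUnique_rel x₀ x₁ hx v.1 v.2).choose_spec.2 w h

end phi

variable (D) in
/-- the descent datum on the coproduct of the `V j` relative to `∐ W ⟶ S` -/
noncomputable def coprodDD : Desc.SchDD (πc g) where
  obj := Over.mk (Qc D)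
  φ T x₀ x₁ h :=
    { toFun := phiFun x₀ x₁ h
      invFun := phiFun x₁ x₀ h.symm
      left_inv := fun v => Subtype.ext (by
        have h1 := phiFun_rel x₀ x₁ h v
        have h2 := phiFun_rel x₁ x₀ h.symm (phiFun x₀ x₁ h v)
        have h3 := Rel.comp h h.symm v.2 h1 h2
        have h4 := eq_phiFun x₀ x₀ rfl v _ h3
        have h5 := eq_phiFun x₀ x₀ rfl v _ (Rel.self v.2)
        exact h4.trans h5.symm)
      right_inv := fun v => Subtype.ext (by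
        have h1 := phiFun_rel x₁ x₀ h.symm v
        have h2 := phiFun_rel x₀ x₁ h (phiFun x₁ x₀ h.symm v)
        have h3 := Rel.comp h.symm h v.2 h1 h2
        have h4 := eq_phiFun x₁ x₁ rfl v _ h3
        have h5 := eq_phiFun x₁ x₁ rfl v _ (Rel.self v.2)
        exact h4.trans h5.symm) }
  φ_natural T T' t x₀ x₁ h h' v v' hv' := by
    have h1 := (phiFun_rel x₀ x₁ h v).natural t
    rw [← hv'] at h1
    exact (eq_phiFun (t ≫ x₀) (t ≫ x₁) h' v' _ h1).symm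
  φ_self T x v := Subtype.ext (eq_phiFun x x rfl v _ (Rel.self v.2)).symm
  φ_comp T x₀ x₁ x₂ h₀₁ h₁₂ v := Subtype.ext (by
    have h1 := phiFun_rel x₀ x₁ h₀₁ v
    have h2 := phiFun_rel x₁ x₂ h₁₂ (phiFun x₀ x₁ h₀₁ v)
    exact eq_phiFun x₀ x₂ (h₀₁.trans h₁₂) v _ (Rel.comp h₀₁ h₁₂ v.2 h1 h2))

end main

end Groth.Agent.Lib.Helper9.DescCoprodG
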