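import Groth.Agent.Lib.Helper9.DescCoprodG3

set_option backward.isDefEq.respectTransparency false
set_option autoImplicit false
set_option linter.unusedSectionVars false
set_option linter.unusedVariables false
universe u
open CategoryTheory CategoryTheory.Limits AlgebraicGeometry Opposite

namespace Groth.Agent.Lib.Helper9.DescCoprodG

open Groth.Agent.Lib.Helper9.DescFF Groth.Agent.Lib.Helper9.DescSec

variable {S : Scheme.{u}} {ι : Type u} {W : ι → Scheme.{u}} (g : ∀ j, W j ⟶ S)

theorem locRef_sigma : LocRef g (fun _ : PUnit.{u + 1} => πc g) := by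
  intro j
  refine ⟨ι, W, Sigma.ι W, sigmaι_mem_fpqc, fun k => ⟨k, 𝟙 _, ?_⟩⟩
  rw [Category.id_comp]
  exact (ι_πc k).symm

instance : (Desc.SchDDFam.ofSchDD.{u} (πc g)).IsEquivalence :=
  (Desc.SchDDFam.oneEquiv.{u} (πc g)).isEquivalence_inverse

theorem isEquivalence_pullι :
    (Desc.SchDDFam.ofSchDD.{u} (πc g) ⋙ pullι g).IsEquivalence := by
  haveI : (pullι g).Full := full_pullDDFam (fV := fun _ : PUnit.{u + 1} => πc g)
    (V := fun _ => ∐ W) (fU := g) (α := fun _ => PUnit.unit) (g := fun j => Sigma.ι W j) (wι g)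
    (locRef_sigma g)
  haveI : (pullι g).Faithful := faithful_pullDDFam (fV := fun _ : PUnit.{u + 1} => πc g)
    (V := fun _ => ∐ W) (fU := g) (α := fun _ => PUnit.unit) (g := fun j => Sigma.ι W j) (wι g)
    (locRef_sigma g)
  haveI : (Desc.SchDDFam.ofSchDD.{u} (πc g) ⋙ pullι g).EssSurj := ⟨fun D => by
    haveI := isIso_cmp D
    exact ⟨coprodDD D, ⟨(asIso (cmp D)).symm⟩⟩⟩
  exact { }

end Groth.Agent.Lib.Helper9.DescCoprodG
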