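import Mathlib.AlgebraicGeometry.AffineTransitionLimit

namespace Groth.Agent.Lib.Helper9.DescCov

open CategoryTheory CategoryTheory.Limits AlgebraicGeometry TopologicalSpace

universe u

theorem descend_openCover_aux {I : Type u} [SmallCategory I] [IsCofiltered I]
    (D : I ⥤ Scheme.{u}) (c : Cone D) (hc : IsLimit c)
    [∀ {i j : I} (t : i ⟶ j), IsAffineHom (D.map t)] [∀ i, CompactSpace (D.obj i)]
    [∀ i, QuasiSeparatedSpace (D.obj i)] {ι : Type u} (U : ι → Scheme.{u}) (u : ∀ a, U a ⟶ c.pt)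
    [∀ a, IsOpenImmersion (u a)] [∀ a, QuasiCompact (u a)]
    (hcov : ∀ x : c.pt, ∃ (a : ι) (y : U a), (u a).base y = x) :
    ∃ (i : I) (n : ℕ) (a : Fin n → ι) (W : Fin n → (D.obj i).Opens),
      (∀ j, IsCompact (W j : Set (D.obj i))) ∧ (⨆ j, W j = ⊤) ∧
        ∀ j, c.π.app i ⁻¹ᵁ (W j) = (u (a j)).opensRange := by
  classical
  have := Scheme.compactSpace_of_isLimit D c hc
  have hcpt : ∀ a, IsCompact ((u a).opensRange : Set c.pt) := fun a => by
    have := QuasiCompact.compactSpace_of_compactSpace (u a)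
    exact isCompact_range (u a).continuous
  obtain ⟨t, ht⟩ := isCompact_univ.elim_finite_subcover (fun a => ((u a).opensRange : Set c.pt))
    (fun a => (u a).opensRange.2) (by
      intro x _
      obtain ⟨a, y, hy⟩ := hcov x
      exact Set.mem_iUnion.mpr ⟨a, y, hy⟩)
  let n := t.card
  let a : Fin n → ι := fun j => (t.equivFin.symm j).1
  have ha : ∀ x : c.pt, ∃ j, x ∈ (u (a j)).opensRange := by
    intro x
    obtain ⟨b, hb, hxb⟩ : ∃ b ∈ t, x ∈ ((u b).opensRange : Set c.pt) := by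
      simpa using ht (Set.mem_univ x)
    refine ⟨t.equivFin ⟨b, hb⟩, ?_⟩
    have hab : a (t.equivFin ⟨b, hb⟩) = b := by simp [a]
    rw [hab]
    exact hxb
  choose i₁ V₁ hV₁ hV₁' using fun j : Fin n =>
    exists_preimage_eq D c hc (u (a j)).opensRange (hcpt (a j))
  obtain ⟨k, hk⟩ := IsCofiltered.inf_objs_exists (Finset.univ.image i₁)
  have f : ∀ j, k ⟶ i₁ j := fun j => (hk (Finset.mem_image_of_mem _ (Finset.mem_univ j))).some
  let W₀ : Fin n → (D.obj k).Opens := fun j => D.map (f j) ⁻¹ᵁ V₁ j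
  have hW₀ : ∀ j, c.π.app k ⁻¹ᵁ W₀ j = (u (a j)).opensRange := by
    intro j
    rw [← hV₁' j, ← Scheme.Hom.comp_preimage, c.w]
  have htop : c.π.app k ⁻¹ᵁ (⨆ j, W₀ j) = ⊤ := by
    rw [Scheme.Hom.preimage_iSup, eq_top_iff]
    intro x _
    obtain ⟨j, hj⟩ := ha x
    exact Opens.mem_iSup.mpr ⟨j, by rw [hW₀]; exact hj⟩
  obtain ⟨l, g, hl⟩ := exists_map_eq_top D c hc (⨆ j, W₀ j) htop
  refine ⟨l, n, a, fun j => D.map g ⁻¹ᵁ W₀ j, ?_, ?_, ?_⟩
  · intro j
    exact (D.map g).isCompact_preimage ((D.map (f j)).isCompact_preimage (hV₁ j))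
  · rw [← Scheme.Hom.preimage_iSup, hl]
  · intro j
    rw [← hW₀ j, ← Scheme.Hom.comp_preimage, c.w]

theorem descend_openCover {I : Type u} [SmallCategory I] [IsCofiltered I]
    (D : I ⥤ Scheme.{u}) (c : Cone D) (hc : IsLimit c)
    [∀ (i j : I) (t : i ⟶ j), IsAffineHom (D.map t)] (i₀ : I) [CompactSpace (D.obj i₀)]
    [QuasiSeparatedSpace (D.obj i₀)] {ι : Type u} (U : ι → Scheme.{u}) (u : ∀ a, U a ⟶ c.pt)
    [∀ a, IsOpenImmersion (u a)] [∀ a, QuasiCompact (u a)]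
    (hcov : ∀ x : c.pt, ∃ (a : ι) (y : U a), (u a).base y = x) :
    ∃ (i : I) (n : ℕ) (V : Fin n → Scheme.{u}) (v : ∀ j, V j ⟶ D.obj i) (a : Fin n → ι)
      (e : ∀ j, U (a j) ⟶ V j),
      (∀ j, IsOpenImmersion (v j) ∧ QuasiCompact (v j)) ∧
      (∀ x : D.obj i, ∃ (j : Fin n) (y : V j), (v j).base y = x) ∧
      ∀ j, IsPullback (e j) (u (a j)) (v j) (c.π.app i) := by
  let D' : Over i₀ ⥤ Scheme.{u} := Over.forget i₀ ⋙ D
  let c' : Cone D' := c.whisker (Over.forget i₀)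
  have hc' : IsLimit c' := (Functor.Initial.isLimitWhiskerEquiv (Over.forget i₀) c).symm hc
  have h1 : ∀ {i j : Over i₀} (t : i ⟶ j), IsAffineHom (D'.map t) := fun t => by
    dsimp [D']; infer_instance
  have h2 : ∀ i, CompactSpace (D'.obj i) := fun i =>
    QuasiCompact.compactSpace_of_compactSpace (D.map i.hom)
  have h3 : ∀ i, QuasiSeparatedSpace (D'.obj i) := fun i =>
    quasiSeparatedSpace_of_quasiSeparated (D.map i.hom)
  obtain ⟨i, n, a, (W : Fin n → (D.obj i.left).Opens), (hW : ∀ j, IsCompact (W j : Set (D.obj i.left))),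
    (hWtop : ⨆ j, W j = ⊤), hWr⟩ := descend_openCover_aux D' c' hc' U u hcov
  have hWr' : ∀ j, c.π.app i.left ⁻¹ᵁ (W j) = (u (a j)).opensRange := hWr
  have hle : ∀ j, Set.range (u (a j) ≫ c.π.app i.left).base ⊆ Set.range (W j).ι.base := by
    intro j
    rw [Scheme.Opens.range_ι]
    rintro _ ⟨y, rfl⟩
    have : (u (a j)) y ∈ c.π.app i.left ⁻¹ᵁ (W j) := by
      rw [hWr']; exact ⟨y, rfl⟩
    exact this
  refine ⟨i.left, n, fun j => (W j : Scheme.{u}), fun j => (W j).ι, a,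
    fun j => IsOpenImmersion.lift (W j).ι (u (a j) ≫ c.π.app i.left) (hle j), ?_, ?_, ?_⟩
  · intro j
    have : CompactSpace ((W j : Scheme.{u})) := isCompact_iff_compactSpace.mp (hW j)
    have : QuasiSeparatedSpace (D.obj i.left) := h3 i
    exact ⟨inferInstance, inferInstance⟩
  · intro x
    have hx : x ∈ (⨆ j, W j : (D.obj i.left).Opens) := by rw [hWtop]; trivial
    obtain ⟨j, hj⟩ := Opens.mem_iSup.mp hx
    exact ⟨j, ⟨x, hj⟩, rfl⟩
  · intro j
    apply IsOpenImmersion.isPullback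
    · rw [IsOpenImmersion.lift_fac]
    · rw [Scheme.Opens.opensRange_ι]
      exact hWr' j

end Groth.Agent.Lib.Helper9.DescCov
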