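import Groth.Prelude.Def_DescFam
import Groth.Agent.Lib.Helper9.FpqcLoc4

set_option autoImplicit false
universe u
open CategoryTheory CategoryTheory.Limits AlgebraicGeometry MorphismProperty

namespace Groth.Agent.Lib.Helper9.DescFF

variable {S : Scheme.{u}} {ι : Type u} {X : ι → Scheme.{u}} (f : ∀ i, X i ⟶ S)

theorem pullback_snd_mem (hf : Presieve.ofArrows X f ∈ Scheme.fpqcPrecoverage S) (U : Over S) :
    Presieve.ofArrows (fun i => pullback (f i) U.hom) (fun i => pullback.snd (f i) U.hom) ∈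
      Scheme.fpqcPrecoverage U.left :=
  Scheme.fpqcPrecoverage.mem_coverings_of_isPullback f hf U.hom _ (fun i => pullback.fst (f i) U.hom)
    (fun i => (IsPullback.of_hasPullback (f i) U.hom).flip)

theorem faithful_toDDFam (hf : Presieve.ofArrows X f ∈ Scheme.fpqcPrecoverage S) :
    (Desc.toDDFam f).Faithful := by
  refine ⟨fun {U U'} g g' hgg' => ?_⟩
  apply Over.OverMorphism.ext
  have hcov := pullback_snd_mem f hf U
  have hx : ∀ (i j : ι) (Z : Scheme.{u}) (gi : Z ⟶ pullback (f i) U.hom)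
      (gj : Z ⟶ pullback (f j) U.hom), gi ≫ pullback.snd (f i) U.hom = gj ≫ pullback.snd (f j) U.hom →
      gi ≫ pullback.snd (f i) U.hom ≫ g.left = gj ≫ pullback.snd (f j) U.hom ≫ g.left := by
    intro i j Z gi gj h
    rw [reassoc_of% h]
  obtain ⟨t, -, ht⟩ := FpqcLoc.existsUnique_glue _ hcov
    (fun i => pullback.snd (f i) U.hom ≫ g.left) hx
  rw [ht g.left (fun i => rfl)]
  refine (ht g'.left (fun i => ?_)).symm
  have := congrArg (fun a : (Desc.toDDFam f).obj U ⟶ (Desc.toDDFam f).obj U' =>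
    (a.hom i).left ≫ pullback.snd (f i) U'.hom) hgg'
  have e1 : ∀ (k : U ⟶ U'), (((Desc.toDDFam f).map k).hom i).left ≫ pullback.snd (f i) U'.hom =
      pullback.snd (f i) U.hom ≫ k.left := fun k => pullback.lift_snd _ _ _
  exact ((e1 g').symm.trans (this.symm.trans (e1 g)))


theorem full_toDDFam (hf : Presieve.ofArrows X f ∈ Scheme.fpqcPrecoverage S) :
    (Desc.toDDFam f).Full := by
  refine ⟨fun {U U'} a => ?_⟩
  have hcov := pullback_snd_mem f hf U
  -- the local pieces
  let al : ∀ i, pullback (f i) U.hom ⟶ pullback (f i) U'.hom := fun i => (a.hom i).left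
  let x : ∀ i, pullback (f i) U.hom ⟶ U'.left := fun i => al i ≫ pullback.snd (f i) U'.hom
  have hfst : ∀ i, al i ≫ pullback.fst (f i) U'.hom = pullback.fst (f i) U.hom :=
    fun i => Over.w (a.hom i)
  have hx : ∀ (i j : ι) (Z : Scheme.{u}) (gi : Z ⟶ pullback (f i) U.hom)
      (gj : Z ⟶ pullback (f j) U.hom),
      gi ≫ pullback.snd (f i) U.hom = gj ≫ pullback.snd (f j) U.hom → gi ≫ x i = gj ≫ x j := by
    intro i j Z gi gj h
    let x₀ : Z ⟶ X i := gi ≫ pullback.fst (f i) U.hom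
    let x₁ : Z ⟶ X j := gj ≫ pullback.fst (f j) U.hom
    have h01 : x₀ ≫ f i = x₁ ≫ f j := by
      simp only [x₀, x₁, Category.assoc, pullback.condition]
      rw [reassoc_of% h]
    let v : Desc.Lifts (((Desc.toDDFam f).obj U).obj i) x₀ := ⟨gi, rfl⟩
    let w : Desc.Lifts (((Desc.toDDFam f).obj U').obj i) x₀ :=
      ⟨gi ≫ al i, by
        change (gi ≫ al i) ≫ pullback.fst (f i) U'.hom = x₀
        rw [Category.assoc, hfst]⟩
    have hc := a.comm x₀ x₁ h01 v w rfl
    have e1 : (((Desc.toDDFam f).obj U).φ x₀ x₁ h01 v).1 = gj := by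
      change pullback.lift x₁ (gi ≫ pullback.snd (f i) U.hom) _ = gj
      apply pullback.hom_ext
      · rw [pullback.lift_fst]
      · rw [pullback.lift_snd, h]
    have e2 : (((Desc.toDDFam f).obj U').φ x₀ x₁ h01 w).1 ≫ pullback.snd (f j) U'.hom =
        (gi ≫ al i) ≫ pullback.snd (f i) U'.hom := pullback.lift_snd _ _ _
    rw [hc, e1] at e2
    change (gj ≫ al j) ≫ pullback.snd (f j) U'.hom = _ at e2
    simp only [x, ← Category.assoc]
    exact e2.symm
  obtain ⟨t, ht, -⟩ := FpqcLoc.existsUnique_glue _ hcov x hx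
  -- `t` is a morphism over `S`
  have htS : t ≫ U'.hom = U.hom := by
    have hx' : ∀ (i j : ι) (Z : Scheme.{u}) (gi : Z ⟶ pullback (f i) U.hom)
        (gj : Z ⟶ pullback (f j) U.hom),
        gi ≫ pullback.snd (f i) U.hom = gj ≫ pullback.snd (f j) U.hom →
        gi ≫ pullback.snd (f i) U.hom ≫ U.hom = gj ≫ pullback.snd (f j) U.hom ≫ U.hom := by
      intro i j Z gi gj h
      rw [reassoc_of% h]
    obtain ⟨s, -, hs⟩ := FpqcLoc.existsUnique_glue _ hcov
      (fun i => pullback.snd (f i) U.hom ≫ U.hom) hx'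
    rw [hs U.hom (fun i => rfl)]
    refine hs _ (fun i => ?_)
    rw [← Category.assoc, ht i]
    simp only [x, Category.assoc]
    rw [← pullback.condition, reassoc_of% hfst i, pullback.condition]
  refine ⟨Over.homMk t htS, ?_⟩
  apply Desc.SchDDFam.hom_ext
  funext i
  apply Over.OverMorphism.ext
  have key : ∀ (g₁ g₂ : pullback (f i) U.hom ⟶ pullback (f i) U'.hom),
      g₁ ≫ pullback.fst (f i) U'.hom = g₂ ≫ pullback.fst (f i) U'.hom →
      g₁ ≫ pullback.snd (f i) U'.hom = g₂ ≫ pullback.snd (f i) U'.hom → g₁ = g₂ :=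
    fun g₁ g₂ h1 h2 => pullback.hom_ext h1 h2
  apply key
  · refine (pullback.lift_fst _ _ _).trans ?_
    rw [Category.comp_id]
    exact (hfst i).symm
  · refine (pullback.lift_snd _ _ _).trans ?_
    exact ht i

end Groth.Agent.Lib.Helper9.DescFF
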