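import Groth.Prelude.Def_DescFam
import Groth.Agent.Lib.Helper9.FpqcLoc4

set_option autoImplicit false
universe w w' u
open CategoryTheory CategoryTheory.Limits AlgebraicGeometry MorphismProperty

namespace Groth.Agent.Lib.Helper9.DescFF

theorem hom_ext_of_fpqc {Y T : Scheme.{u}} {I : Type*} {W : I → Scheme.{u}} (π : ∀ i, W i ⟶ Y)
    (hπ : Presieve.ofArrows W π ∈ Scheme.fpqcPrecoverage Y) (s t : Y ⟶ T)
    (h : ∀ i, π i ≫ s = π i ≫ t) : s = t := by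
  obtain ⟨t', -, ht'⟩ := FpqcLoc.existsUnique_glue π hπ (fun i => π i ≫ s)
    (fun i j Z gi gj e => by rw [reassoc_of% e])
  rw [ht' s (fun i => rfl), ht' t (fun i => (h i).symm)]

section tr

variable {S : Scheme.{u}} {κ : Type w} {V : κ → Scheme.{u}} {fV : ∀ j, V j ⟶ S}

/-- transport of a point along the gluing bijections -/
def tr (D : Desc.SchDDFam fV) {T : Scheme.{u}} {j j' : κ} (d : T ⟶ (D.obj j).left)
    (x₁ : T ⟶ V j') (h : (d ≫ (D.obj j).hom) ≫ fV j = x₁ ≫ fV j') : T ⟶ (D.obj j').left :=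
  (D.φ (d ≫ (D.obj j).hom) x₁ h ⟨d, rfl⟩).1

theorem tr_hom (D : Desc.SchDDFam fV) {T : Scheme.{u}} {j j' : κ} (d : T ⟶ (D.obj j).left)
    (x₁ : T ⟶ V j') (h : (d ≫ (D.obj j).hom) ≫ fV j = x₁ ≫ fV j') :
    tr D d x₁ h ≫ (D.obj j').hom = x₁ :=
  (D.φ (d ≫ (D.obj j).hom) x₁ h ⟨d, rfl⟩).2

theorem phi_eq_tr (D : Desc.SchDDFam fV) {T : Scheme.{u}} {j j' : κ} (x₀ : T ⟶ V j)
    (x₁ : T ⟶ V j') (h : x₀ ≫ fV j = x₁ ≫ fV j') (vv : Desc.Lifts (D.obj j) x₀) :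
    (D.φ x₀ x₁ h vv).1 = tr D vv.1 x₁ (by rw [vv.2]; exact h) := by
  obtain ⟨d, rfl⟩ := vv
  rfl

theorem tr_congr (D : Desc.SchDDFam fV) {T : Scheme.{u}} {j j' : κ} {d d' : T ⟶ (D.obj j).left}
    {x₁ x₁' : T ⟶ V j'} (hd : d = d') (hx : x₁ = x₁')
    (h : (d ≫ (D.obj j).hom) ≫ fV j = x₁ ≫ fV j')
    (h' : (d' ≫ (D.obj j).hom) ≫ fV j = x₁' ≫ fV j') : tr D d x₁ h = tr D d' x₁' h' := by
  subst hd hx; rfl

theorem tr_natural (D : Desc.SchDDFam fV) {T T' : Scheme.{u}} (t : T' ⟶ T) {j j' : κ}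
    (d : T ⟶ (D.obj j).left) (x₁ : T ⟶ V j') (h : (d ≫ (D.obj j).hom) ≫ fV j = x₁ ≫ fV j')
    (h' : ((t ≫ d) ≫ (D.obj j).hom) ≫ fV j = (t ≫ x₁) ≫ fV j') :
    t ≫ tr D d x₁ h = tr D (t ≫ d) (t ≫ x₁) h' :=
  (D.φ_natural t (d ≫ (D.obj j).hom) x₁ h ((t ≫ d) ≫ (D.obj j).hom) (t ≫ x₁)
    (Category.assoc _ _ _).symm rfl h' ⟨d, rfl⟩ ⟨t ≫ d, rfl⟩ rfl).symm

theorem tr_tr (D : Desc.SchDDFam fV) {T : Scheme.{u}} {j j' j'' : κ} (d : T ⟶ (D.obj j).left)
    (x₁ : T ⟶ V j') (h : (d ≫ (D.obj j).hom) ≫ fV j = x₁ ≫ fV j') (x₂ : T ⟶ V j'')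
    (h' : (tr D d x₁ h ≫ (D.obj j').hom) ≫ fV j' = x₂ ≫ fV j'')
    (h'' : (d ≫ (D.obj j).hom) ≫ fV j = x₂ ≫ fV j'') :
    tr D (tr D d x₁ h) x₂ h' = tr D d x₂ h'' := by
  have h12 : x₁ ≫ fV j' = x₂ ≫ fV j'' := by rw [← h', tr_hom]
  have := D.φ_comp (d ≫ (D.obj j).hom) x₁ x₂ h h12 ⟨d, rfl⟩
  exact ((phi_eq_tr D x₁ x₂ h12 (D.φ _ x₁ h ⟨d, rfl⟩)).symm).trans (congrArg Subtype.val this)

theorem tr_self (D : Desc.SchDDFam fV) {T : Scheme.{u}} {j : κ} (d : T ⟶ (D.obj j).left)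
    (x : T ⟶ V j) (hx : d ≫ (D.obj j).hom = x)
    (h : (d ≫ (D.obj j).hom) ≫ fV j = x ≫ fV j) : tr D d x h = d := by
  subst hx
  exact congrArg Subtype.val (D.φ_self (d ≫ (D.obj j).hom) ⟨d, rfl⟩)

theorem hom_tr {D D' : Desc.SchDDFam fV} (a : D ⟶ D') {T : Scheme.{u}} {j j' : κ}
    (d : T ⟶ (D.obj j).left) (x₁ : T ⟶ V j')
    (h : (d ≫ (D.obj j).hom) ≫ fV j = x₁ ≫ fV j')
    (h' : ((d ≫ (a.hom j).left) ≫ (D'.obj j).hom) ≫ fV j = x₁ ≫ fV j') :
    tr D' (d ≫ (a.hom j).left) x₁ h' = tr D d x₁ h ≫ (a.hom j').left := by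
  have := a.comm (d ≫ (D.obj j).hom) x₁ h ⟨d, rfl⟩
    ⟨d ≫ (a.hom j).left, by rw [Category.assoc, CategoryTheory.Over.w]⟩ rfl
  rw [phi_eq_tr] at this
  exact this

end tr


section pull

variable {S : Scheme.{u}} {κ : Type w} {V : κ → Scheme.{u}} {fV : ∀ j, V j ⟶ S}
  {ι : Type w'} {U : ι → Scheme.{u}} {fU : ∀ i, U i ⟶ S} {α : ι → κ} {g : ∀ i, U i ⟶ V (α i)}
  (w : ∀ i, g i ≫ fV (α i) = fU i ≫ 𝟙 S)

include w in
theorem gw (i : ι) : g i ≫ fV (α i) = fU i := by simpa using w i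

include w in
theorem pull_h (D : Desc.SchDDFam fV) {T : Scheme.{u}} {i i' : ι} (y : T ⟶ U i)
    (y' : T ⟶ U i') (h : y ≫ fU i = y' ≫ fU i')
    (e1 : T ⟶ pullback (D.obj (α i)).hom (g i))
    (he : e1 ≫ pullback.snd (D.obj (α i)).hom (g i) = y) :
    ((e1 ≫ pullback.fst (D.obj (α i)).hom (g i)) ≫ (D.obj (α i)).hom) ≫ fV (α i) =
      (y' ≫ g i') ≫ fV (α i') := by
  have e : (e1 ≫ pullback.fst (D.obj (α i)).hom (g i)) ≫ (D.obj (α i)).hom = y ≫ g i := by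
    rw [Category.assoc, pullback.condition, ← Category.assoc, he]
  rw [e]
  exact Desc.pull_compat w y y' h

theorem pull_phi_fst (D : Desc.SchDDFam fV) {T : Scheme.{u}} {i i' : ι} (y : T ⟶ U i)
    (y' : T ⟶ U i') (h : y ≫ fU i = y' ≫ fU i')
    (e1 : T ⟶ pullback (D.obj (α i)).hom (g i))
    (he : e1 ≫ pullback.snd (D.obj (α i)).hom (g i) = y) :
    ((Desc.pullDDFamObj w D).φ y y' h ⟨e1, he⟩).1 ≫ pullback.fst (D.obj (α i')).hom (g i') =
      tr D (e1 ≫ pullback.fst (D.obj (α i)).hom (g i)) (y' ≫ g i') (pull_h w D y y' h e1 he) :=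
  (pullback.lift_fst _ _ _).trans (phi_eq_tr D _ _ _ _)

theorem pull_phi_snd (D : Desc.SchDDFam fV) {T : Scheme.{u}} {i i' : ι} (y : T ⟶ U i)
    (y' : T ⟶ U i') (h : y ≫ fU i = y' ≫ fU i')
    (e1 : T ⟶ pullback (D.obj (α i)).hom (g i))
    (he : e1 ≫ pullback.snd (D.obj (α i)).hom (g i) = y) :
    ((Desc.pullDDFamObj w D).φ y y' h ⟨e1, he⟩).1 ≫ pullback.snd (D.obj (α i')).hom (g i') = y' :=
  ((Desc.pullDDFamObj w D).φ y y' h ⟨e1, he⟩).2

variable {D D' : Desc.SchDDFam fV} (c : Desc.pullDDFamObj w D ⟶ Desc.pullDDFamObj w D')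

/-- the underlying morphism of `c` on the `i`-th component -/
noncomputable def cl (i : ι) : pullback (D.obj (α i)).hom (g i) ⟶ pullback (D'.obj (α i)).hom (g i) :=
  (c.hom i).left

theorem cl_snd (i : ι) : cl w c i ≫ pullback.snd (D'.obj (α i)).hom (g i) =
    pullback.snd (D.obj (α i)).hom (g i) :=
  CategoryTheory.Over.w (c.hom i)

/-- the map induced by `c` on points of `D.obj (α i)` lying over `U i` -/
noncomputable def M {T : Scheme.{u}} {i : ι} (z : T ⟶ (D.obj (α i)).left) (y : T ⟶ U i)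
    (hz : z ≫ (D.obj (α i)).hom = y ≫ g i) : T ⟶ (D'.obj (α i)).left :=
  pullback.lift z y hz ≫ cl w c i ≫ pullback.fst (D'.obj (α i)).hom (g i)

theorem M_hom {T : Scheme.{u}} {i : ι} (z : T ⟶ (D.obj (α i)).left) (y : T ⟶ U i)
    (hz : z ≫ (D.obj (α i)).hom = y ≫ g i) : M w c z y hz ≫ (D'.obj (α i)).hom = y ≫ g i := by
  unfold M
  rw [Category.assoc, Category.assoc, pullback.condition, reassoc_of% cl_snd w c i,
    pullback.lift_snd_assoc]

theorem M_congr {T : Scheme.{u}} {i : ι} {z z' : T ⟶ (D.obj (α i)).left} {y y' : T ⟶ U i}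
    (hzz : z = z') (hyy : y = y')
    (hz : z ≫ (D.obj (α i)).hom = y ≫ g i) (hz' : z' ≫ (D.obj (α i)).hom = y' ≫ g i) :
    M w c z y hz = M w c z' y' hz' := by
  subst hzz hyy; rfl

theorem M_natural {T T' : Scheme.{u}} (t : T' ⟶ T) {i : ι} (z : T ⟶ (D.obj (α i)).left)
    (y : T ⟶ U i) (hz : z ≫ (D.obj (α i)).hom = y ≫ g i)
    (hz' : (t ≫ z) ≫ (D.obj (α i)).hom = (t ≫ y) ≫ g i) :
    t ≫ M w c z y hz = M w c (t ≫ z) (t ≫ y) hz' := by
  unfold M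
  rw [← Category.assoc]
  congr 1
  apply pullback.hom_ext
  · rw [Category.assoc, pullback.lift_fst, pullback.lift_fst]
  · rw [Category.assoc, pullback.lift_snd, pullback.lift_snd]

theorem M_tr {T : Scheme.{u}} {i i' : ι} (z : T ⟶ (D.obj (α i)).left) (y : T ⟶ U i)
    (hz : z ≫ (D.obj (α i)).hom = y ≫ g i) (y' : T ⟶ U i') (hyy' : y ≫ fU i = y' ≫ fU i')
    (h1 : (M w c z y hz ≫ (D'.obj (α i)).hom) ≫ fV (α i) = (y' ≫ g i') ≫ fV (α i'))
    (h2 : (z ≫ (D.obj (α i)).hom) ≫ fV (α i) = (y' ≫ g i') ≫ fV (α i')) :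
    tr D' (M w c z y hz) (y' ≫ g i') h1 =
      M w c (tr D z (y' ≫ g i') h2) y' (tr_hom D z _ h2) := by
  have hlc : (pullback.lift z y hz ≫ cl w c i) ≫ pullback.snd (D'.obj (α i)).hom (g i) = y := by
    rw [Category.assoc, cl_snd, pullback.lift_snd]
  have hc := c.comm y y' hyy' ⟨pullback.lift z y hz, pullback.lift_snd _ _ _⟩
    ⟨pullback.lift z y hz ≫ cl w c i, hlc⟩ rfl
  have hc' := congrArg (· ≫ pullback.fst (D'.obj (α i')).hom (g i')) hc
  have e1 := pull_phi_fst w D' y y' hyy' (pullback.lift z y hz ≫ cl w c i) hlc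
  have e2 := pull_phi_fst w D y y' hyy' (pullback.lift z y hz) (pullback.lift_snd _ _ _)
  have e3 := pull_phi_snd w D y y' hyy' (pullback.lift z y hz) (pullback.lift_snd _ _ _)
  refine (tr_congr D' (Category.assoc _ _ _).symm rfl _ _).trans (e1.symm.trans (hc'.trans ?_))
  refine (Category.assoc _ _ _).trans ?_
  change _ ≫ cl w c i' ≫ _ = pullback.lift _ _ _ ≫ cl w c i' ≫ _
  congr 1
  apply pullback.hom_ext
  · rw [pullback.lift_fst]
    exact e2.trans (tr_congr D (pullback.lift_fst _ _ _) rfl _ _)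
  · rw [pullback.lift_snd]
    exact e3

/-- the candidate value of the descended morphism on a point `d` of `D.obj j` that, over `S`,
factors through `U i` via `y`. -/
noncomputable def L {T : Scheme.{u}} {j : κ} (d : T ⟶ (D.obj j).left) (i : ι) (y : T ⟶ U i)
    (hy : (d ≫ (D.obj j).hom) ≫ fV j = (y ≫ g i) ≫ fV (α i)) : T ⟶ (D'.obj j).left :=
  tr D' (M w c (tr D d (y ≫ g i) hy) y (tr_hom D d _ hy)) (d ≫ (D.obj j).hom)
    (by rw [M_hom]; exact hy.symm)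

theorem L_hom {T : Scheme.{u}} {j : κ} (d : T ⟶ (D.obj j).left) (i : ι) (y : T ⟶ U i)
    (hy : (d ≫ (D.obj j).hom) ≫ fV j = (y ≫ g i) ≫ fV (α i)) :
    L w c d i y hy ≫ (D'.obj j).hom = d ≫ (D.obj j).hom :=
  tr_hom D' _ _ _

theorem L_congr {T : Scheme.{u}} {j : κ} {d d' : T ⟶ (D.obj j).left} (i : ι) {y y' : T ⟶ U i}
    (hd : d = d') (hyy : y = y')
    (hy : (d ≫ (D.obj j).hom) ≫ fV j = (y ≫ g i) ≫ fV (α i))
    (hy' : (d' ≫ (D.obj j).hom) ≫ fV j = (y' ≫ g i) ≫ fV (α i)) :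
    L w c d i y hy = L w c d' i y' hy' := by
  subst hd hyy; rfl

theorem L_natural {T T' : Scheme.{u}} (t : T' ⟶ T) {j : κ} (d : T ⟶ (D.obj j).left) (i : ι)
    (y : T ⟶ U i) (hy : (d ≫ (D.obj j).hom) ≫ fV j = (y ≫ g i) ≫ fV (α i))
    (hy' : ((t ≫ d) ≫ (D.obj j).hom) ≫ fV j = ((t ≫ y) ≫ g i) ≫ fV (α i)) :
    t ≫ L w c d i y hy = L w c (t ≫ d) i (t ≫ y) hy' := by
  have h1 : ((t ≫ d) ≫ (D.obj j).hom) ≫ fV j = (t ≫ y ≫ g i) ≫ fV (α i) := by
    rw [hy', Category.assoc t y]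
  have h2 : (t ≫ tr D d (y ≫ g i) hy) ≫ (D.obj (α i)).hom = (t ≫ y) ≫ g i := by
    rw [Category.assoc, tr_hom, Category.assoc]
  have h3 : ((t ≫ M w c (tr D d (y ≫ g i) hy) y (tr_hom D d _ hy)) ≫ (D'.obj (α i)).hom) ≫
      fV (α i) = (t ≫ d ≫ (D.obj j).hom) ≫ fV j := by
    rw [Category.assoc t, M_hom, ← Category.assoc t, ← Category.assoc t, ← hy']
  unfold L
  refine (tr_natural D' t _ _ _ h3).trans ?_
  refine tr_congr D' ?_ (Category.assoc _ _ _).symm _ _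
  refine (M_natural w c t _ _ _ h2).trans ?_
  refine M_congr w c ?_ rfl _ _
  refine (tr_natural D t d _ hy h1).trans ?_
  exact tr_congr D rfl (Category.assoc _ _ _).symm _ _

include w in
theorem L_indep_aux {T : Scheme.{u}} {j : κ} (d : T ⟶ (D.obj j).left) (i : ι) (y : T ⟶ U i)
    (hy : (d ≫ (D.obj j).hom) ≫ fV j = (y ≫ g i) ≫ fV (α i)) (i' : ι) (y' : T ⟶ U i')
    (hy' : (d ≫ (D.obj j).hom) ≫ fV j = (y' ≫ g i') ≫ fV (α i')) :
    y ≫ fU i = y' ≫ fU i' := by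
  rw [← gw w i, ← gw w i', ← Category.assoc, ← Category.assoc, ← hy, ← hy']

theorem L_indep {T : Scheme.{u}} {j : κ} (d : T ⟶ (D.obj j).left) (i : ι) (y : T ⟶ U i)
    (hy : (d ≫ (D.obj j).hom) ≫ fV j = (y ≫ g i) ≫ fV (α i)) (i' : ι) (y' : T ⟶ U i')
    (hy' : (d ≫ (D.obj j).hom) ≫ fV j = (y' ≫ g i') ≫ fV (α i')) :
    L w c d i y hy = L w c d i' y' hy' := by
  have hyy' := L_indep_aux w d i y hy i' y' hy'
  have h1 : (M w c (tr D d (y ≫ g i) hy) y (tr_hom D d _ hy) ≫ (D'.obj (α i)).hom) ≫ fV (α i) =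
      (y' ≫ g i') ≫ fV (α i') := by
    rw [M_hom]; exact hy.symm.trans hy'
  have h2 : (tr D d (y ≫ g i) hy ≫ (D.obj (α i)).hom) ≫ fV (α i) = (y' ≫ g i') ≫ fV (α i') := by
    rw [tr_hom]; exact hy.symm.trans hy'
  have key := M_tr w c (tr D d (y ≫ g i) hy) y (tr_hom D d _ hy) y' hyy' h1 h2
  have hz' : tr D (tr D d (y ≫ g i) hy) (y' ≫ g i') h2 ≫ (D.obj (α i')).hom = y' ≫ g i' :=
    tr_hom D _ _ h2
  have e0 : tr D (tr D d (y ≫ g i) hy) (y' ≫ g i') h2 = tr D d (y' ≫ g i') hy' :=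
    tr_tr D d _ hy _ h2 hy'
  have e1 : M w c (tr D (tr D d (y ≫ g i) hy) (y' ≫ g i') h2) y' hz' =
      M w c (tr D d (y' ≫ g i') hy') y' (tr_hom D d _ hy') := M_congr w c e0 rfl _ _
  have e2 := key.trans e1
  have h4 : (tr D' (M w c (tr D d (y ≫ g i) hy) y (tr_hom D d _ hy)) (y' ≫ g i') h1 ≫
      (D'.obj (α i')).hom) ≫ fV (α i') = (d ≫ (D.obj j).hom) ≫ fV j := by
    rw [tr_hom]; exact hy'.symm
  have e3 := tr_tr D' (M w c (tr D d (y ≫ g i) hy) y (tr_hom D d _ hy)) (y' ≫ g i') h1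
    (d ≫ (D.obj j).hom) h4 (by rw [M_hom]; exact hy.symm)
  unfold L
  exact e3.symm.trans (tr_congr D' e2 rfl _ _)

theorem L_tr {T : Scheme.{u}} {j j' : κ} (d : T ⟶ (D.obj j).left) (i : ι) (y : T ⟶ U i)
    (hy : (d ≫ (D.obj j).hom) ≫ fV j = (y ≫ g i) ≫ fV (α i)) (x₁ : T ⟶ V j')
    (h : (d ≫ (D.obj j).hom) ≫ fV j = x₁ ≫ fV j')
    (h' : (L w c d i y hy ≫ (D'.obj j).hom) ≫ fV j = x₁ ≫ fV j')
    (hy' : (tr D d x₁ h ≫ (D.obj j').hom) ≫ fV j' = (y ≫ g i) ≫ fV (α i)) :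
    tr D' (L w c d i y hy) x₁ h' = L w c (tr D d x₁ h) i y hy' := by
  have h3 : (M w c (tr D d (y ≫ g i) hy) y (tr_hom D d _ hy) ≫ (D'.obj (α i)).hom) ≫ fV (α i) =
      x₁ ≫ fV j' := by
    rw [M_hom]; exact hy.symm.trans h
  unfold L
  refine (tr_tr D' _ _ _ x₁ h' h3).trans ?_
  symm
  refine tr_congr D' (M_congr w c (tr_tr D d x₁ h _ hy' hy) rfl _ _) (tr_hom D d x₁ h) _ _

theorem L_self {T : Scheme.{u}} {i : ι} (z : T ⟶ (D.obj (α i)).left) (y : T ⟶ U i)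
    (hz : z ≫ (D.obj (α i)).hom = y ≫ g i)
    (hy : (z ≫ (D.obj (α i)).hom) ≫ fV (α i) = (y ≫ g i) ≫ fV (α i)) :
    L w c z i y hy = M w c z y hz := by
  unfold L
  refine (tr_self D' _ _ ((M_hom w c _ _ _).trans hz.symm) _).trans ?_
  exact M_congr w c (tr_self D z _ hz _) rfl _ _

/-- for a genuine morphism `a`, the formula `L` computes composition with `a`. -/
theorem L_map (a : D ⟶ D') {T : Scheme.{u}} {j : κ} (d : T ⟶ (D.obj j).left) (i : ι)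
    (y : T ⟶ U i) (hy : (d ≫ (D.obj j).hom) ≫ fV j = (y ≫ g i) ≫ fV (α i)) :
    L w ((Desc.pullDDFam w).map a) d i y hy = d ≫ (a.hom j).left := by
  have hM : ∀ (z : T ⟶ (D.obj (α i)).left) (hz : z ≫ (D.obj (α i)).hom = y ≫ g i),
      M w ((Desc.pullDDFam w).map a) z y hz = z ≫ (a.hom (α i)).left := by
    intro z hz
    unfold M
    have : cl w ((Desc.pullDDFam w).map a) i ≫ pullback.fst (D'.obj (α i)).hom (g i) =
        pullback.fst (D.obj (α i)).hom (g i) ≫ (a.hom (α i)).left := pullback.lift_fst _ _ _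
    rw [this, pullback.lift_fst_assoc]
  unfold L
  refine (tr_congr D' (hM _ _) rfl _ ?_).trans ?_
  · have e : (tr D d (y ≫ g i) hy ≫ (a.hom (α i)).left) ≫ (D'.obj (α i)).hom = y ≫ g i := by
      rw [Category.assoc, CategoryTheory.Over.w, tr_hom]
    rw [e]; exact hy.symm
  refine (hom_tr a _ _ ?_ _).trans ?_
  · rw [tr_hom]; exact hy.symm
  congr 1
  refine (tr_tr D d _ hy _ _ rfl).trans ?_
  exact tr_self D d _ rfl _

end pull

section glue

variable {S : Scheme.{u}} {κ : Type w} {V : κ → Scheme.{u}} {fV : ∀ j, V j ⟶ S}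
  {ι : Type w'} {U : ι → Scheme.{u}} {fU : ∀ i, U i ⟶ S} {α : ι → κ} {g : ∀ i, U i ⟶ V (α i)}
  (w : ∀ i, g i ≫ fV (α i) = fU i ≫ 𝟙 S)

/-- the family `fU` refines `fV` fpqc-locally on each `V j`. -/
def LocRef (fU : ∀ i, U i ⟶ S) (fV : ∀ j, V j ⟶ S) : Prop :=
  ∀ j, ∃ (K : Type u) (W : K → Scheme.{u}) (π : ∀ k, W k ⟶ V j),
    Presieve.ofArrows W π ∈ Scheme.fpqcPrecoverage (V j) ∧
    ∀ k, ∃ (i : ι) (r : W k ⟶ U i), r ≫ fU i = π k ≫ fV j

include w in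
theorem exists_cover (H : LocRef fU fV) {T : Scheme.{u}} {j : κ} (x : T ⟶ V j) :
    ∃ (K : Type u) (W : K → Scheme.{u}) (q : ∀ k, W k ⟶ T),
      Presieve.ofArrows W q ∈ Scheme.fpqcPrecoverage T ∧
      ∀ k, ∃ (i : ι) (y : W k ⟶ U i), (q k ≫ x) ≫ fV j = (y ≫ g i) ≫ fV (α i) := by
  obtain ⟨K, W, π, hπ, hk⟩ := H j
  refine ⟨K, fun k => pullback x (π k), fun k => pullback.fst _ _, ?_, fun k => ?_⟩
  · exact Scheme.fpqcPrecoverage.mem_coverings_of_isPullback π hπ x _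
      (fun k => pullback.snd x (π k)) (fun k => IsPullback.of_hasPullback x (π k))
  · obtain ⟨i, r, hr⟩ := hk k
    refine ⟨i, pullback.snd _ _ ≫ r, ?_⟩
    change (pullback.fst x (π k) ≫ x) ≫ fV j = _
    simp only [Category.assoc, gw w i, hr]
    rw [pullback.condition_assoc]

variable {D D' : Desc.SchDDFam fV} (c : Desc.pullDDFamObj w D ⟶ Desc.pullDDFamObj w D')

theorem exists_component (H : LocRef fU fV) (j : κ) :
    ∃ a : (D.obj j).left ⟶ (D'.obj j).left,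
      ∀ (T : Scheme.{u}) (d : T ⟶ (D.obj j).left) (i : ι) (y : T ⟶ U i)
        (hy : (d ≫ (D.obj j).hom) ≫ fV j = (y ≫ g i) ≫ fV (α i)), d ≫ a = L w c d i y hy := by
  obtain ⟨K, W, q, hq, hk⟩ := exists_cover w H (D.obj j).hom
  choose idx y hy using hk
  obtain ⟨a, ha, -⟩ := FpqcLoc.existsUnique_glue q hq
    (fun k => L w c (q k) (idx k) (y k) (hy k)) (by
      intro k k' Z gk gk' e
      have h1 : ((gk ≫ q k) ≫ (D.obj j).hom) ≫ fV j =
          ((gk ≫ y k) ≫ g (idx k)) ≫ fV (α (idx k)) := by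
        simp only [Category.assoc]
        have := hy k
        simp only [Category.assoc] at this
        rw [this]
      have h2 : ((gk' ≫ q k') ≫ (D.obj j).hom) ≫ fV j =
          ((gk' ≫ y k') ≫ g (idx k')) ≫ fV (α (idx k')) := by
        simp only [Category.assoc]
        have := hy k'
        simp only [Category.assoc] at this
        rw [this]
      rw [L_natural w c gk (q k) (idx k) (y k) (hy k) h1,
        L_natural w c gk' (q k') (idx k') (y k') (hy k') h2]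
      have h3 : ((gk ≫ q k) ≫ (D.obj j).hom) ≫ fV j =
          ((gk' ≫ y k') ≫ g (idx k')) ≫ fV (α (idx k')) := by rw [e]; exact h2
      exact (L_indep w c _ _ _ h1 _ _ h3).trans (L_congr w c _ e rfl _ _))
  refine ⟨a, fun T d i y₀ hy₀ => ?_⟩
  apply hom_ext_of_fpqc (fun k => pullback.fst d (q k))
    (Scheme.fpqcPrecoverage.mem_coverings_of_isPullback q hq d _
      (fun k => pullback.snd d (q k)) (fun k => IsPullback.of_hasPullback d (q k)))
  intro k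
  have h1 : ((pullback.snd d (q k) ≫ q k) ≫ (D.obj j).hom) ≫ fV j =
      ((pullback.snd d (q k) ≫ y k) ≫ g (idx k)) ≫ fV (α (idx k)) := by
    simp only [Category.assoc]
    have := hy k
    simp only [Category.assoc] at this
    rw [this]
  have h2 : ((pullback.fst d (q k) ≫ d) ≫ (D.obj j).hom) ≫ fV j =
      ((pullback.fst d (q k) ≫ y₀) ≫ g i) ≫ fV (α i) := by
    simp only [Category.assoc]
    have := hy₀
    simp only [Category.assoc] at this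
    rw [this]
  have h3 : ((pullback.fst d (q k) ≫ d) ≫ (D.obj j).hom) ≫ fV j =
      ((pullback.snd d (q k) ≫ y k) ≫ g (idx k)) ≫ fV (α (idx k)) := by
    rw [pullback.condition]; exact h1
  rw [← Category.assoc, pullback.condition, Category.assoc, ha k,
    L_natural w c _ (q k) (idx k) (y k) (hy k) h1, L_natural w c _ d i y₀ hy₀ h2]
  exact (L_congr w c _ pullback.condition.symm rfl _ h3).trans (L_indep w c _ _ _ h3 _ _ h2)

include w in
theorem cover_obj (H : LocRef fU fV) (D : Desc.SchDDFam fV) (j : κ) :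
    ∃ (K : Type u) (W : K → Scheme.{u}) (q : ∀ k, W k ⟶ (D.obj j).left),
      Presieve.ofArrows W q ∈ Scheme.fpqcPrecoverage (D.obj j).left ∧
      ∀ k, ∃ (i : ι) (y : W k ⟶ U i),
        (q k ≫ (D.obj j).hom) ≫ fV j = (y ≫ g i) ≫ fV (α i) :=
  exists_cover w H (D.obj j).hom

theorem faithful_pullDDFam (H : LocRef fU fV) : (Desc.pullDDFam w).Faithful := by
  refine ⟨fun {D D'} a b hab => ?_⟩
  apply Desc.SchDDFam.hom_ext
  funext j
  apply Over.OverMorphism.ext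
  obtain ⟨K, W, q, hq, hk⟩ := cover_obj w H D j
  apply hom_ext_of_fpqc q hq
  intro k
  obtain ⟨i, y, hy⟩ := hk k
  rw [← L_map w a (q k) i y hy, ← L_map w b (q k) i y hy, hab]

theorem full_aux (H : LocRef fU fV) :
    ∃ A : D ⟶ D', (Desc.pullDDFam w).map A = c := by
  choose a ha using exists_component w c H
  -- `a j` is a morphism over `V j`
  have hover : ∀ j, a j ≫ (D'.obj j).hom = (D.obj j).hom := by
    intro j
    obtain ⟨K, W, q, hq, hk⟩ := cover_obj w H D j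
    apply hom_ext_of_fpqc q hq
    intro k
    obtain ⟨i, y, hy⟩ := hk k
    rw [← Category.assoc, ha j _ (q k) i y hy, L_hom]
  -- compatibility with the gluing bijections
  have hcomm : ∀ ⦃T : Scheme.{u}⦄ ⦃j j' : κ⦄ (d : T ⟶ (D.obj j).left) (x₁ : T ⟶ V j')
      (h : (d ≫ (D.obj j).hom) ≫ fV j = x₁ ≫ fV j')
      (h' : ((d ≫ a j) ≫ (D'.obj j).hom) ≫ fV j = x₁ ≫ fV j'),
      tr D' (d ≫ a j) x₁ h' = tr D d x₁ h ≫ a j' := by
    intro T j j' d x₁ h h'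
    obtain ⟨K, W, q, hq, hk⟩ := exists_cover w H (d ≫ (D.obj j).hom)
    apply hom_ext_of_fpqc q hq
    intro k
    obtain ⟨i, y, hy⟩ := hk k
    have hy1 : ((q k ≫ d) ≫ (D.obj j).hom) ≫ fV j = (y ≫ g i) ≫ fV (α i) := by
      rw [Category.assoc]; exact hy
    have h1 : ((q k ≫ d) ≫ (D.obj j).hom) ≫ fV j = (q k ≫ x₁) ≫ fV j' := by
      simp only [Category.assoc] at h ⊢
      rw [h]
    have h1' : ((q k ≫ d ≫ a j) ≫ (D'.obj j).hom) ≫ fV j = (q k ≫ x₁) ≫ fV j' := by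
      simp only [Category.assoc] at h' ⊢
      rw [h']
    have hy2 : (tr D (q k ≫ d) (q k ≫ x₁) h1 ≫ (D.obj j').hom) ≫ fV j' =
        (y ≫ g i) ≫ fV (α i) := by
      rw [tr_hom]; exact h1.symm.trans hy1
    have h3 : (L w c (q k ≫ d) i y hy1 ≫ (D'.obj j).hom) ≫ fV j = (q k ≫ x₁) ≫ fV j' := by
      rw [L_hom w c]; exact h1
    exact (tr_natural D' (q k) _ _ h' h1').trans
      ((tr_congr D' ((Category.assoc _ _ _).symm.trans (ha j _ (q k ≫ d) i y hy1)) rfl h1' h3).trans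
      ((L_tr w c (q k ≫ d) i y hy1 (q k ≫ x₁) h1 h3 hy2).trans
      ((ha j' _ _ i y hy2).symm.trans
      ((congrArg (· ≫ a j') (tr_natural D (q k) d x₁ h h1).symm).trans (Category.assoc _ _ _)))))
  let A : D ⟶ D' := ⟨fun j => Over.homMk (a j) (hover j), by
    intro T j j' x₀ x₁ h vv ww hw
    obtain ⟨d, rfl⟩ := vv
    obtain ⟨d', hd'⟩ := ww
    change d' = d ≫ a j at hw
    subst hw
    rw [phi_eq_tr, phi_eq_tr]
    exact hcomm d x₁ h _⟩
  refine ⟨A, ?_⟩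
  apply Desc.SchDDFam.hom_ext
  funext i
  apply Over.OverMorphism.ext
  have key : ∀ (g₁ g₂ : pullback (D.obj (α i)).hom (g i) ⟶ pullback (D'.obj (α i)).hom (g i)),
      g₁ ≫ pullback.fst _ _ = g₂ ≫ pullback.fst _ _ →
      g₁ ≫ pullback.snd _ _ = g₂ ≫ pullback.snd _ _ → g₁ = g₂ :=
    fun g₁ g₂ h1 h2 => pullback.hom_ext h1 h2
  apply key
  · refine (pullback.lift_fst _ _ _).trans ?_
    change pullback.fst (D.obj (α i)).hom (g i) ≫ a (α i) = cl w c i ≫ _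
    have hy : (pullback.fst (D.obj (α i)).hom (g i) ≫ (D.obj (α i)).hom) ≫ fV (α i) =
        (pullback.snd (D.obj (α i)).hom (g i) ≫ g i) ≫ fV (α i) := by
      rw [pullback.condition]
    rw [ha (α i) _ _ i (pullback.snd _ _) hy, L_self w c _ _ pullback.condition hy]
    unfold M
    have : pullback.lift (pullback.fst (D.obj (α i)).hom (g i)) (pullback.snd _ _)
        pullback.condition = 𝟙 _ := by
      apply pullback.hom_ext <;> simp
    rw [this, Category.id_comp]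
  · refine (pullback.lift_snd _ _ _).trans ?_
    rw [Category.comp_id]
    exact (cl_snd w c i).symm

theorem full_pullDDFam (H : LocRef fU fV) : (Desc.pullDDFam w).Full :=
  ⟨fun {D D'} c => full_aux w c H⟩

end glue

section locref

variable {S : Scheme.{u}} {κ : Type w} {V : κ → Scheme.{u}} (fV : ∀ j, V j ⟶ S)
  {ι : Type u} {U : ι → Scheme.{u}} (fU : ∀ i, U i ⟶ S)

theorem locRef_of_cover (hu : Presieve.ofArrows U fU ∈ Scheme.fpqcPrecoverage S) :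
    LocRef fU fV := by
  intro j
  refine ⟨ι, fun i => pullback (fV j) (fU i), fun i => pullback.fst _ _, ?_, fun i => ?_⟩
  · exact Scheme.fpqcPrecoverage.mem_coverings_of_isPullback fU hu (fV j) _
      (fun i => pullback.snd (fV j) (fU i)) (fun i => IsPullback.of_hasPullback (fV j) (fU i))
  · exact ⟨i, pullback.snd _ _, pullback.condition.symm⟩

theorem locRef_of_refinement {α : ι → κ} (g : ∀ i, U i ⟶ V (α i))
    (w : ∀ i, g i ≫ fV (α i) = fU i)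
    (hcov : ∀ j, Presieve.ofArrows (fun i : {i // α i = j} => U i.1)
      (fun i => g i.1 ≫ eqToHom (congrArg V i.2)) ∈ Scheme.fpqcPrecoverage (V j)) :
    LocRef fU fV := by
  intro j
  refine ⟨{i // α i = j}, _, _, hcov j, fun k => ⟨k.1, 𝟙 _, ?_⟩⟩
  obtain ⟨i, rfl⟩ := k
  simp [w]

end locref

end Groth.Agent.Lib.Helper9.DescFF
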