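import Groth.Agent.Lib.Helper9.FpqcLoc2

set_option autoImplicit false
universe v u
open CategoryTheory CategoryTheory.Limits AlgebraicGeometry MorphismProperty

namespace Groth.Agent.Lib.Helper9.FpqcLoc

set_option backward.isDefEq.respectTransparency.types false in
/-- Over an affine open of the base, a flat quasi-compact cover is refined by a finite flat jointly
surjective family of affine opens of its members. -/
theorem exists_finite_affine_family {Y : Scheme.{u}} (𝒰 : PreZeroHypercover.{v} Y)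
    [QuasiCompactCover 𝒰] (hflat : ∀ i, Flat (𝒰.f i)) {Z : Scheme.{u}} [IsAffine Z] (ι : Z ⟶ Y)
    [IsOpenImmersion ι] :
    ∃ (n : ℕ) (idx : Fin n → 𝒰.I₀) (V : ∀ j, (𝒰.X (idx j)).Opens) (c : ∀ j, (V j).toScheme ⟶ Z),
      (∀ j, IsAffineOpen (V j)) ∧ (∀ j, c j ≫ ι = (V j).ι ≫ 𝒰.f (idx j)) ∧ (∀ j, Flat (c j)) ∧
        ∀ z : Z, ∃ j, z ∈ Set.range (c j) := by
  obtain ⟨n, idx, V, hV, hU⟩ := QuasiCompactCover.exists_isAffineOpen_of_isCompact 𝒰
    (U := ι.opensRange) (isAffineOpen_opensRange ι).isCompact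
  have hle : ∀ j, Set.range ((V j).ι ≫ 𝒰.f (idx j)) ⊆ Set.range ι := by
    intro j
    rintro _ ⟨x, rfl⟩
    have : (𝒰.f (idx j)) ((V j).ι x) ∈ (ι.opensRange : Set Y) := by
      rw [← hU]
      exact Set.mem_iUnion.2 ⟨j, ⟨(V j).ι x, (Scheme.Opens.range_ι (V j)) ▸ Set.mem_range_self x, rfl⟩⟩
    simpa using this
  let c : ∀ j, (V j).toScheme ⟶ Z :=
    fun j => IsOpenImmersion.lift ι ((V j).ι ≫ 𝒰.f (idx j)) (hle j)
  have hc : ∀ j, c j ≫ ι = (V j).ι ≫ 𝒰.f (idx j) := fun j => IsOpenImmersion.lift_fac _ _ _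
  refine ⟨n, idx, V, c, hV, hc, ?_, ?_⟩
  · intro j
    have : Flat (c j ≫ ι) := by rw [hc]; infer_instance
    exact MorphismProperty.of_postcomp (W := @Flat) (W' := MorphismProperty.monomorphisms _)
      (c j) ι (inferInstanceAs (Mono ι)) this
  · intro z
    have : ι z ∈ (ι.opensRange : Set Y) := ⟨z, rfl⟩
    rw [← hU] at this
    obtain ⟨j, x, hx, hxz⟩ := Set.mem_iUnion.1 this
    refine ⟨j, ⟨x, hx⟩, ?_⟩
    apply ι.injective
    calc ι (c j ⟨x, hx⟩) = (c j ≫ ι) ⟨x, hx⟩ := rfl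
      _ = ((V j).ι ≫ 𝒰.f (idx j)) ⟨x, hx⟩ := by rw [hc]
      _ = ι z := hxz

set_option backward.isDefEq.respectTransparency.types false in
/-- A flat quasi-compact cover induces the quotient topology: a subset of the base whose preimages in
all members are open is open. -/
theorem isOpen_of_forall_isOpen_preimage {Y : Scheme.{u}} (𝒰 : PreZeroHypercover.{v} Y)
    [QuasiCompactCover 𝒰] (hflat : ∀ i, Flat (𝒰.f i)) (W : Set Y)
    (hW : ∀ i, IsOpen ((𝒰.f i) ⁻¹' W)) : IsOpen W := by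
  let 𝒱 := Y.affineCover
  rw [𝒱.isOpenCover_opensRange.isOpen_iff_inter]
  intro k
  rw [Scheme.Hom.coe_opensRange, ← Set.image_preimage_eq_inter_range]
  apply (𝒱.f k).isOpenEmbedding.isOpenMap
  obtain ⟨n, idx, V, c, hV, hc, hcf, hcs⟩ := exists_finite_affine_family 𝒰 hflat (𝒱.f k)
  have : ∀ j, IsAffine (V j).toScheme := fun j => hV j
  let π : (∐ fun j => (V j).toScheme) ⟶ 𝒱.X k := Sigma.desc c
  have hπf : Flat π := IsZariskiLocalAtSource.sigmaDesc (P := @Flat) hcf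
  have hπs : Surjective π := by
    refine ⟨fun z => ?_⟩
    obtain ⟨j, w, rfl⟩ := hcs z
    refine ⟨(Sigma.ι (fun j => (V j).toScheme) j) w, ?_⟩
    rw [← Scheme.Hom.comp_apply, Sigma.ι_desc]
  have hπq : QuasiCompact π := inferInstance
  rw [← (Flat.isQuotientMap_of_surjective π).isOpen_preimage]
  rw [(sigmaOpenCover fun j => (V j).toScheme).isOpenCover_opensRange.isOpen_iff_inter]
  intro j
  rw [Scheme.Hom.coe_opensRange, ← Set.image_preimage_eq_inter_range]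
  apply ((sigmaOpenCover fun j => (V j).toScheme).f j).isOpenEmbedding.isOpenMap
  change IsOpen ((Sigma.ι (fun j => (V j).toScheme) j) ⁻¹' (π ⁻¹' ((𝒱.f k) ⁻¹' W)))
  have e : (Sigma.ι (fun j => (V j).toScheme) j) ⁻¹' (π ⁻¹' ((𝒱.f k) ⁻¹' W)) =
      (V j).ι ⁻¹' ((𝒰.f (idx j)) ⁻¹' W) := by
    ext x
    simp only [Set.mem_preimage]
    have : (𝒱.f k) (π ((Sigma.ι (fun j => (V j).toScheme) j) x)) = (𝒰.f (idx j)) ((V j).ι x) := by
      calc (𝒱.f k) (π ((Sigma.ι (fun j => (V j).toScheme) j) x))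
          = ((Sigma.ι (fun j => (V j).toScheme) j ≫ π) ≫ 𝒱.f k) x := rfl
        _ = (c j ≫ 𝒱.f k) x := by rw [Sigma.ι_desc]
        _ = ((V j).ι ≫ 𝒰.f (idx j)) x := by rw [hc]
        _ = _ := rfl
    rw [this]
  rw [e]
  exact (hW (idx j)).preimage (V j).ι.continuous

end Groth.Agent.Lib.Helper9.FpqcLoc
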