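import Groth.Agent.Lib.Helper9.DescCoprod3
import Groth.Agent.Lib.Helper9.DescAff4
import Groth.Agent.Lib.Helper9.FpqcLoc3

set_option backward.isDefEq.respectTransparency false
set_option autoImplicit false
set_option linter.unusedSectionVars false
set_option linter.unusedVariables false
universe v u
open CategoryTheory CategoryTheory.Limits AlgebraicGeometry Opposite

namespace Groth.Agent.Lib.Helper9.DescMain

open Groth.Agent.Lib.Helper9.DescFF Groth.Agent.Lib.Helper9.DescSec
  Groth.Agent.Lib.Helper9.DescCoprod Groth.Agent.Lib.Helper9.DescAff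

/-- a finite, jointly surjective family of flat quasi-compact morphisms is an fpqc covering -/
theorem mem_fpqc_of_finite {S : Scheme.{u}} {K : Type v} [Finite K] {W : K → Scheme.{u}}
    (gW : ∀ k, W k ⟶ S) (hfl : ∀ k, Flat (gW k)) (hqc : ∀ k, QuasiCompact (gW k))
    (hs : ∀ s : S, ∃ k, s ∈ Set.range (gW k)) :
    Presieve.ofArrows W gW ∈ Scheme.fpqcPrecoverage S := by
  let 𝒰 : S.Cover (Scheme.precoverage @Flat) :=
    { I₀ := K, X := W, f := gW
      mem₀ := by
        rw [Scheme.presieve₀_mem_precoverage_iff]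
        exact ⟨hs, hfl⟩ }
  haveI : ∀ i, QuasiCompact (𝒰.f i) := hqc
  haveI : Finite 𝒰.I₀ := ‹Finite K›
  haveI : QuasiCompactCover 𝒰.toPreZeroHypercover := .of_finite
  exact (Scheme.Cover.ofQuasiCompactCover 𝒰).mem₀

section main

variable (P : MorphismProperty Scheme.{u}) [P.IsStableUnderBaseChange]
  (h2 : ∀ (m : ℕ) (Y V : Fin m → Scheme.{u}) (q : ∀ j, Y j ⟶ V j), (∀ j, P (q j)) →
    P (Limits.Sigma.map q))
  (h3 : ∀ (X S : Scheme.{u}) (p : X ⟶ S), IsAffine X → IsAffine S → Flat p → Surjective p →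
      ∀ D : Desc.SchDD p, P D.obj.hom → ∃ U : Over S, Nonempty ((Desc.toDD p).obj U ≅ D))

include h2 h3 in
/-- finite affine flat covering family of an affine base -/
theorem isEffective_finite_affine {S : Scheme.{u}} [IsAffine S] {n : ℕ} {W : Fin n → Scheme.{u}}
    [∀ j, IsAffine (W j)] (g : ∀ j, W j ⟶ S) (hfl : ∀ j, Flat (g j))
    (hs : ∀ s : S, ∃ j, s ∈ Set.range (g j))
    (D : Desc.SchDDFam g) (hD : ∀ j, P (D.obj j).hom) : D.IsEffective := by
  apply isEffective_of_coprod
  haveI : Flat (πc g) := IsZariskiLocalAtSource.sigmaDesc (P := @Flat) hfl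
  haveI : Surjective (πc g) := ⟨fun s => by
    obtain ⟨j, w, rfl⟩ := hs s
    exact ⟨(Sigma.ι W j) w, by rw [← Scheme.Hom.comp_apply, Sigma.ι_desc]⟩⟩
  exact h3 _ _ (πc g) inferInstance inferInstance inferInstance inferInstance (coprodDD D)
    (h2 n _ _ _ hD)

include h2 h3 in
/-- fpqc covering family of an affine base -/
theorem isEffective_affine_base {ι : Type u} {S : Scheme.{u}} [IsAffine S] {U : ι → Scheme.{u}}
    (u : ∀ i, U i ⟶ S) (hu : Presieve.ofArrows U u ∈ Scheme.fpqcPrecoverage S)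
    (D : Desc.SchDDFam u) (hD : ∀ i, P (D.obj i).hom) : D.IsEffective := by
  let 𝒰 : PreZeroHypercover.{u} S := ⟨ι, U, u⟩
  have hm : 𝒰.presieve₀ ∈ Scheme.propQCPrecoverage @Flat S := hu
  have : QuasiCompactCover 𝒰 := by
    rw [← Scheme.presieve₀_mem_qcPrecoverage_iff]; exact hm.1
  have hfl : ∀ i, Flat (u i) := ((Scheme.presieve₀_mem_precoverage_iff 𝒰).1 hm.2).2
  obtain ⟨n, idx, V, c, hV, hc, hcf, hcs⟩ := FpqcLoc.exists_finite_affine_family 𝒰 hfl (𝟙 S)
  have hcg : ∀ j, c j = (V j).ι ≫ u (idx j) := fun j => by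
    rw [← Category.comp_id (c j)]; exact hc j
  haveI : ∀ j, IsAffine (V j).toScheme := fun j => hV j
  have hflW : ∀ j, Flat ((V j).ι ≫ u (idx j)) := fun j => by rw [← hcg]; exact hcf j
  have hsW : ∀ s : S, ∃ j, s ∈ Set.range ((V j).ι ≫ u (idx j)) := fun s => by
    obtain ⟨j, hj⟩ := hcs s
    exact ⟨j, by rw [← hcg]; exact hj⟩
  have w : ∀ j, (V j).ι ≫ u (idx j) = ((V j).ι ≫ u (idx j)) ≫ 𝟙 S :=
    fun j => (Category.comp_id _).symm
  have hgW : Presieve.ofArrows (fun k : ULift.{u} (Fin n) => (V k.down).toScheme)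
      (fun k => (V k.down).ι ≫ u (idx k.down)) ∈ Scheme.fpqcPrecoverage S :=
    mem_fpqc_of_finite _ (fun k => hflW k.down) (fun k => quasiCompact_of_isAffine _)
      (fun s => by obtain ⟨j, hj⟩ := hsW s; exact ⟨⟨j⟩, hj⟩)
  have H : LocRef (fun j : Fin n => (V j).ι ≫ u (idx j)) u := by
    intro i
    refine ⟨ULift.{u} (Fin n), fun k => pullback (u i) ((V k.down).ι ≫ u (idx k.down)),
      fun k => pullback.fst _ _, ?_, fun k => ⟨k.down, pullback.snd _ _, pullback.condition.symm⟩⟩
    exact Scheme.fpqcPrecoverage.mem_coverings_of_isPullback _ hgW (u i) _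
      (fun k => pullback.snd _ _) (fun k => IsPullback.of_hasPullback _ _)
  apply isEffective_of_pull (α := idx) (g := fun j => (V j).ι) w H
  apply isEffective_finite_affine P h2 h3 _ hflW hsW
  intro j
  exact P.pullback_snd _ _ (hD (idx j))

include h2 h3 in
/-- fpqc descent for schemes with property `P` over the members of the covering:
reduction to the affine case -/
theorem isEffective_of_fpqc {ι : Type u} {S : Scheme.{u}} {U : ι → Scheme.{u}}
    (u : ∀ i, U i ⟶ S) (hu : Presieve.ofArrows U u ∈ Scheme.fpqcPrecoverage S)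
    (D : Desc.SchDDFam u) (hD : ∀ i, P (D.obj i).hom) : D.IsEffective := by
  refine isEffective_of_local hu D (A := S.affineOpens) (S' := fun a => a.1.toScheme)
    (fun a => a.1.ι) (fun s => ?_) (X' := fun a i => pullback (u i) a.1.ι)
    (fun a i => pullback.snd _ _) (fun a i => pullback.fst _ _) (fun a i => pullback.condition)
    (fun a i => IsPullback.of_hasPullback _ _) (fun a => ?_)
  · obtain ⟨V, hV, hsV, -⟩ := exists_isAffineOpen_mem_and_subset (x := s) (U := ⊤) trivial
    exact ⟨⟨V, hV⟩, by rw [Scheme.Opens.range_ι]; exact hsV⟩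
  · haveI : IsAffine (a.1.toScheme) := a.2
    refine isEffective_affine_base P h2 h3 _ ?_ _ (fun i => P.pullback_snd _ _ (hD i))
    exact Scheme.fpqcPrecoverage.mem_coverings_of_isPullback u hu a.1.ι _
      (fun i => pullback.fst _ _) (fun i => (IsPullback.of_hasPullback _ _).flip)

end main

end Groth.Agent.Lib.Helper9.DescMain
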