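import Groth.Prelude.Def_DescFam
import Groth.Agent.Lib.Helper9.DescFF2

set_option backward.isDefEq.respectTransparency false
set_option autoImplicit false
set_option linter.unusedSectionVars false
set_option linter.unusedVariables false
universe w u
open CategoryTheory CategoryTheory.Limits AlgebraicGeometry

namespace Groth.Agent.Lib.Helper9.DescSec

open Groth.Agent.Lib.Helper9.DescFF

variable {S : Scheme.{u}} {ι : Type w} {X : ι → Scheme.{u}} {f : ∀ i, X i ⟶ S}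

/-- Sections of the descent datum `D` over `t : T ⟶ S`. -/
structure Sec (D : Desc.SchDDFam f) {T : Scheme.{u}} (t : T ⟶ S) where
  s : ∀ i, pullback (f i) t ⟶ (D.obj i).left
  hs : ∀ i, s i ≫ (D.obj i).hom = pullback.fst (f i) t
  compat : ∀ ⦃T' : Scheme.{u}⦄ ⦃i j : ι⦄ (y₀ : T' ⟶ pullback (f i) t) (y₁ : T' ⟶ pullback (f j) t)
    (_ : y₀ ≫ pullback.snd (f i) t = y₁ ≫ pullback.snd (f j) t)
    (h' : ((y₀ ≫ s i) ≫ (D.obj i).hom) ≫ f i = (y₁ ≫ pullback.fst (f j) t) ≫ f j),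
    tr D (y₀ ≫ s i) (y₁ ≫ pullback.fst (f j) t) h' = y₁ ≫ s j

namespace Sec

variable {D : Desc.SchDDFam f} {T : Scheme.{u}} {t : T ⟶ S}

theorem ext' {σ σ' : Sec D t} (h : ∀ i, σ.s i = σ'.s i) : σ = σ' := by
  cases σ; cases σ'
  congr
  funext i
  exact h i

/-- value of a section at a point -/
noncomputable def pt (σ : Sec D t) {T' : Scheme.{u}} (a : T' ⟶ T) {i : ι} (x : T' ⟶ X i)
    (h : x ≫ f i = a ≫ t) : T' ⟶ (D.obj i).left :=
  pullback.lift x a h ≫ σ.s i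

theorem pt_hom (σ : Sec D t) {T' : Scheme.{u}} (a : T' ⟶ T) {i : ι} (x : T' ⟶ X i)
    (h : x ≫ f i = a ≫ t) : σ.pt a x h ≫ (D.obj i).hom = x := by
  unfold pt
  rw [Category.assoc, σ.hs, pullback.lift_fst]

theorem pt_congr (σ : Sec D t) {T' : Scheme.{u}} {a a' : T' ⟶ T} {i : ι} {x x' : T' ⟶ X i}
    (ha : a = a') (hx : x = x') (h : x ≫ f i = a ≫ t) (h' : x' ≫ f i = a' ≫ t) :
    σ.pt a x h = σ.pt a' x' h' := by
  subst ha hx; rfl

theorem comp_pt (σ : Sec D t) {T' T'' : Scheme.{u}} (g : T'' ⟶ T') (a : T' ⟶ T) {i : ι}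
    (x : T' ⟶ X i) (h : x ≫ f i = a ≫ t) (h' : (g ≫ x) ≫ f i = (g ≫ a) ≫ t) :
    g ≫ σ.pt a x h = σ.pt (g ≫ a) (g ≫ x) h' := by
  unfold pt
  rw [← Category.assoc]
  congr 1
  apply pullback.hom_ext <;> simp

theorem s_eq_pt (σ : Sec D t) (i : ι) :
    σ.s i = σ.pt (pullback.snd (f i) t) (pullback.fst (f i) t) pullback.condition := by
  unfold pt
  have : pullback.lift (pullback.fst (f i) t) (pullback.snd (f i) t) pullback.condition = 𝟙 _ := by
    apply pullback.hom_ext <;> simp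
  rw [this, Category.id_comp]

theorem comp_s (σ : Sec D t) {T' : Scheme.{u}} {i : ι} (y : T' ⟶ pullback (f i) t)
    (h : (y ≫ pullback.fst (f i) t) ≫ f i = (y ≫ pullback.snd (f i) t) ≫ t) :
    y ≫ σ.s i = σ.pt (y ≫ pullback.snd (f i) t) (y ≫ pullback.fst (f i) t) h := by
  rw [s_eq_pt, comp_pt]

theorem pt_tr (σ : Sec D t) {T' : Scheme.{u}} (a : T' ⟶ T) {i j : ι} (x : T' ⟶ X i)
    (h : x ≫ f i = a ≫ t) (x' : T' ⟶ X j) (hx' : x' ≫ f j = a ≫ t)
    (hh : ((σ.pt a x h) ≫ (D.obj i).hom) ≫ f i = x' ≫ f j) :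
    tr D (σ.pt a x h) x' hh = σ.pt a x' hx' := by
  have h1 : ((pullback.lift x a h ≫ σ.s i) ≫ (D.obj i).hom) ≫ f i =
      (pullback.lift x' a hx' ≫ pullback.fst (f j) t) ≫ f j := by
    rw [pullback.lift_fst]; exact hh
  have := σ.compat (pullback.lift x a h) (pullback.lift x' a hx') (by simp) h1
  unfold pt
  rw [← this]
  exact tr_congr D rfl (by simp) _ _

/-- pull a section back along a morphism -/
noncomputable def pull (σ : Sec D t) {T' : Scheme.{u}} (g : T' ⟶ T) (t' : T' ⟶ S)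
    (hg : g ≫ t = t') : Sec D t' where
  s i := σ.pt (pullback.snd (f i) t' ≫ g) (pullback.fst (f i) t')
    (by rw [pullback.condition, Category.assoc, hg])
  hs i := pt_hom _ _ _ _
  compat := by
    intro T'' i j y₀ y₁ h h'
    have e0 : (y₀ ≫ pullback.fst (f i) t') ≫ f i = (y₀ ≫ pullback.snd (f i) t' ≫ g) ≫ t := by
      simp only [Category.assoc]
      rw [pullback.condition, hg]
    have e1 : (y₁ ≫ pullback.fst (f j) t') ≫ f j = (y₁ ≫ pullback.snd (f j) t' ≫ g) ≫ t := by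
      simp only [Category.assoc]
      rw [pullback.condition, hg]
    have e1' : (y₁ ≫ pullback.fst (f j) t') ≫ f j = (y₀ ≫ pullback.snd (f i) t' ≫ g) ≫ t := by
      rw [e1, reassoc_of% h]
    rw [comp_pt σ y₁ _ _ _ e1]
    have e2 := comp_pt σ y₀ (pullback.snd (f i) t' ≫ g) (pullback.fst (f i) t')
      (by rw [pullback.condition, Category.assoc, hg]) e0
    have hh : ((σ.pt (y₀ ≫ pullback.snd (f i) t' ≫ g) (y₀ ≫ pullback.fst (f i) t') e0) ≫
        (D.obj i).hom) ≫ f i = (y₁ ≫ pullback.fst (f j) t') ≫ f j := by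
      rw [pt_hom]; rw [e0, e1']
    refine (tr_congr D e2 rfl h' hh).trans ?_
    rw [pt_tr σ _ _ e0 _ e1' hh]
    exact pt_congr σ (by rw [reassoc_of% h]) rfl _ _

theorem pull_pt (σ : Sec D t) {T' : Scheme.{u}} (g : T' ⟶ T) (t' : T' ⟶ S)
    (hg : g ≫ t = t') {T'' : Scheme.{u}} (a : T'' ⟶ T') {i : ι} (x : T'' ⟶ X i)
    (h : x ≫ f i = a ≫ t') (h' : x ≫ f i = (a ≫ g) ≫ t) :
    (σ.pull g t' hg).pt a x h = σ.pt (a ≫ g) x h' := by
  change pullback.lift x a h ≫ σ.pt _ _ _ = _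
  rw [comp_pt σ (pullback.lift x a h) _ _ _ (by simpa using h')]
  exact pt_congr σ (by simp) (by simp) _ _

theorem pull_s (σ : Sec D t) {T' : Scheme.{u}} (g : T' ⟶ T) (t' : T' ⟶ S)
    (hg : g ≫ t = t') (i : ι) :
    (σ.pull g t' hg).s i = σ.pt (pullback.snd (f i) t' ≫ g) (pullback.fst (f i) t')
      (by rw [pullback.condition, Category.assoc, hg]) := rfl

theorem ext_pt {σ σ' : Sec D t}
    (h : ∀ i, σ.pt (pullback.snd (f i) t) (pullback.fst (f i) t) pullback.condition =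
      σ'.pt (pullback.snd (f i) t) (pullback.fst (f i) t) pullback.condition) : σ = σ' :=
  ext' (fun i => by rw [s_eq_pt σ, s_eq_pt σ', h i])

theorem pull_pull (σ : Sec D t) {T' T'' : Scheme.{u}} (g : T' ⟶ T) (t' : T' ⟶ S)
    (hg : g ≫ t = t') (g' : T'' ⟶ T') (t'' : T'' ⟶ S) (hg' : g' ≫ t' = t'')
    (hgg : (g' ≫ g) ≫ t = t'') :
    (σ.pull g t' hg).pull g' t'' hg' = σ.pull (g' ≫ g) t'' hgg := by
  apply ext_pt
  intro i
  rw [pull_pt _ _ _ _ _ _ _ (by rw [pullback.condition, Category.assoc, hg']),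
    pull_pt _ _ _ _ _ _ _ (by rw [pullback.condition, Category.assoc, Category.assoc, hg, hg']),
    pull_pt _ _ _ _ _ _ _ (by rw [pullback.condition, Category.assoc, hgg])]
  exact pt_congr σ (by simp) rfl _ _

theorem pull_id (σ : Sec D t) (h : 𝟙 T ≫ t = t) : σ.pull (𝟙 T) t h = σ := by
  apply ext_pt
  intro i
  rw [pull_pt _ _ _ _ _ _ _ (by rw [pullback.condition, Category.comp_id])]
  exact pt_congr σ (by simp) rfl _ _

/-- push a section along a morphism of descent data -/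
noncomputable def map {D' : Desc.SchDDFam f} (a : D ⟶ D') (σ : Sec D t) : Sec D' t where
  s i := σ.s i ≫ (a.hom i).left
  hs i := by rw [Category.assoc, CategoryTheory.Over.w, σ.hs]
  compat := by
    intro T' i j y₀ y₁ h h'
    have h0 : ((y₀ ≫ σ.s i) ≫ (D.obj i).hom) ≫ f i = (y₁ ≫ pullback.fst (f j) t) ≫ f j := by
      have := h'
      simp only [Category.assoc, CategoryTheory.Over.w] at this ⊢
      exact this
    have h1 : (((y₀ ≫ σ.s i) ≫ (a.hom i).left) ≫ (D'.obj i).hom) ≫ f i =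
        (y₁ ≫ pullback.fst (f j) t) ≫ f j := by
      simp only [Category.assoc] at h' ⊢
      exact h'
    refine (tr_congr D' (Category.assoc _ _ _).symm rfl h' h1).trans ?_
    rw [hom_tr a (y₀ ≫ σ.s i) _ h0 h1, σ.compat y₀ y₁ h h0, Category.assoc]

theorem map_pt {D' : Desc.SchDDFam f} (a : D ⟶ D') (σ : Sec D t) {T' : Scheme.{u}} (b : T' ⟶ T)
    {i : ι} (x : T' ⟶ X i) (h : x ≫ f i = b ≫ t) :
    (σ.map a).pt b x h = σ.pt b x h ≫ (a.hom i).left := by
  unfold pt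
  rw [Category.assoc]
  rfl

theorem map_pull {D' : Desc.SchDDFam f} (a : D ⟶ D') (σ : Sec D t) {T' : Scheme.{u}} (g : T' ⟶ T)
    (t' : T' ⟶ S) (hg : g ≫ t = t') : (σ.map a).pull g t' hg = (σ.pull g t' hg).map a := by
  apply ext'
  intro i
  rw [pull_s, map_pt]
  rfl

theorem map_id (σ : Sec D t) : σ.map (𝟙 D) = σ := by
  apply ext'
  intro i
  change σ.s i ≫ (𝟙 (D.obj i) : D.obj i ⟶ D.obj i).left = _
  simp

theorem map_comp {D' D'' : Desc.SchDDFam f} (a : D ⟶ D') (b : D' ⟶ D'') (σ : Sec D t) :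
    σ.map (a ≫ b) = (σ.map a).map b := by
  apply ext'
  intro i
  change σ.s i ≫ (a.hom i ≫ b.hom i).left = (σ.s i ≫ (a.hom i).left) ≫ (b.hom i).left
  simp

end Sec

end Groth.Agent.Lib.Helper9.DescSec
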