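import Groth.Agent.Lib.Helper9.DescSec2
import Groth.Agent.Lib.Helper9.DescFF1

set_option backward.isDefEq.respectTransparency false
set_option autoImplicit false
set_option linter.unusedSectionVars false
set_option linter.unusedVariables false
universe w u
open CategoryTheory CategoryTheory.Limits AlgebraicGeometry

namespace Groth.Agent.Lib.Helper9.DescSec

open Groth.Agent.Lib.Helper9.DescFF

variable {S : Scheme.{u}} {ι : Type u} {X : ι → Scheme.{u}} {f : ∀ i, X i ⟶ S}

/-- transport in the canonical descent datum keeps the `U`-component -/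
theorem tr_can_snd (U : Over S) {T : Scheme.{u}} {i j : ι}
    (d : T ⟶ pullback (f i) U.hom) (x₁ : T ⟶ X j)
    (h : ((d : T ⟶ (((Desc.toDDFam f).obj U).obj i).left) ≫
      (((Desc.toDDFam f).obj U).obj i).hom) ≫ f i = x₁ ≫ f j) :
    (tr ((Desc.toDDFam f).obj U) d x₁ h : T ⟶ pullback (f j) U.hom) ≫ pullback.snd (f j) U.hom =
      d ≫ pullback.snd (f i) U.hom :=
  pullback.lift_snd _ _ _

/-- the tautological section of the canonical descent datum -/
noncomputable def canSec (U : Over S) : Sec ((Desc.toDDFam f).obj U) U.hom where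
  s i := 𝟙 (((Desc.toDDFam f).obj U).obj i).left
  hs i := Category.id_comp _
  compat := by
    intro T' i j y₀ y₁ h h'
    apply pullback.hom_ext
    · refine (tr_hom ((Desc.toDDFam f).obj U) _ (y₁ ≫ pullback.fst (f j) U.hom) h').trans ?_
      exact (congrArg (· ≫ pullback.fst (f j) U.hom) (Category.comp_id y₁)).symm
    · refine (tr_can_snd U _ _ h').trans ?_
      exact ((congrArg (· ≫ pullback.snd (f i) U.hom) (Category.comp_id y₀)).trans h).trans
        (congrArg (· ≫ pullback.snd (f j) U.hom) (Category.comp_id y₁)).symm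

theorem canSec_pt (U : Over S) {T' : Scheme.{u}} (a : T' ⟶ U.left) {i : ι} (x : T' ⟶ X i)
    (h : x ≫ f i = a ≫ U.hom) : (canSec (f := f) U).pt a x h = pullback.lift x a h :=
  Category.comp_id _

theorem isUniv_canSec (hf : Presieve.ofArrows X f ∈ Scheme.fpqcPrecoverage S) (U : Over S) :
    IsUniv U (canSec (f := f) U) := by
  intro T t τ
  have hcov := pullback_snd_mem f hf (Over.mk t)
  -- components of `τ` in `U`
  let x : ∀ i, pullback (f i) t ⟶ U.left := fun i =>
    (τ.s i : pullback (f i) t ⟶ pullback (f i) U.hom) ≫ pullback.snd (f i) U.hom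
  have hτ1 : ∀ i, (τ.s i : pullback (f i) t ⟶ pullback (f i) U.hom) ≫ pullback.fst (f i) U.hom =
      pullback.fst (f i) t := fun i => τ.hs i
  have hx : ∀ (i j : ι) (Z : Scheme.{u}) (gi : Z ⟶ pullback (f i) t) (gj : Z ⟶ pullback (f j) t),
      gi ≫ pullback.snd (f i) t = gj ≫ pullback.snd (f j) t → gi ≫ x i = gj ≫ x j := by
    intro i j Z gi gj h
    have h' : ((gi ≫ τ.s i) ≫ (((Desc.toDDFam f).obj U).obj i).hom) ≫ f i =
        (gj ≫ pullback.fst (f j) t) ≫ f j := by
      rw [Sec.comp_s_hom]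
      simp only [Category.assoc]
      rw [pullback.condition, pullback.condition, reassoc_of% h]
    have := τ.compat gi gj h h'
    have e := tr_can_snd U (gi ≫ τ.s i) _ h'
    rw [this] at e
    simp only [x, ← Category.assoc]
    exact e.symm
  obtain ⟨g, hg, hguniq⟩ := FpqcLoc.existsUnique_glue _ hcov x hx
  have hg' : ∀ i, pullback.snd (f i) t ≫ g = x i := hg
  have hgt : g ≫ U.hom = t := by
    apply hom_ext_of_fpqc _ hcov
    intro i
    change pullback.snd (f i) t ≫ g ≫ U.hom = pullback.snd (f i) t ≫ t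
    rw [← Category.assoc, hg' i]
    simp only [x, Category.assoc]
    rw [← pullback.condition, ← Category.assoc, hτ1 i, pullback.condition]
  refine ⟨g, ⟨hgt, ?_⟩, ?_⟩
  · apply Sec.ext'
    intro i
    rw [Sec.pull_s, canSec_pt]
    apply pullback.hom_ext
    · rw [pullback.lift_fst]; exact (hτ1 i).symm
    · rw [pullback.lift_snd]; exact hg' i
  · rintro g' ⟨hg't, hg'2⟩
    apply hguniq
    intro i
    have := congrArg (fun σ : Sec ((Desc.toDDFam f).obj U) t => σ.s i) hg'2
    change (Sec.pull _ _ _ _).s i = τ.s i at this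
    rw [Sec.pull_s, canSec_pt] at this
    change pullback.snd (f i) t ≫ g' = (τ.s i : pullback (f i) t ⟶ pullback (f i) U.hom) ≫ _
    rw [← this, pullback.lift_snd]

variable {D : Desc.SchDDFam f}

theorem isUniv_map {D' : Desc.SchDDFam f} (e : D ≅ D') (U : Over S) (σ : Sec D U.hom)
    (hσ : IsUniv U σ) : IsUniv U (σ.map e.hom) := by
  intro T t τ
  obtain ⟨g, ⟨hg1, hg2⟩, hguniq⟩ := hσ T t (τ.map e.inv)
  refine ⟨g, ⟨hg1, ?_⟩, ?_⟩
  · rw [Sec.map_pull, hg2, ← Sec.map_comp, e.inv_hom_id, Sec.map_id]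
  · rintro g' ⟨hg'1, hg'2⟩
    apply hguniq
    refine ⟨hg'1, ?_⟩
    rw [← hg'2, Sec.map_pull, ← Sec.map_comp, e.hom_inv_id, Sec.map_id]

/-- an effective descent datum relative to an fpqc covering has a representable functor of
sections -/
theorem exists_isUniv_of_iso (hf : Presieve.ofArrows X f ∈ Scheme.fpqcPrecoverage S) (U : Over S)
    (e : (Desc.toDDFam f).obj U ≅ D) : ∃ σ : Sec D U.hom, IsUniv U σ :=
  ⟨_, isUniv_map e U _ (isUniv_canSec hf U)⟩

end Groth.Agent.Lib.Helper9.DescSec
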