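import Groth.Agent.Lib.Helper9.DescSec3

set_option backward.isDefEq.respectTransparency false
set_option autoImplicit false
set_option linter.unusedSectionVars false
set_option linter.unusedVariables false
universe w u
open CategoryTheory CategoryTheory.Limits AlgebraicGeometry

namespace Groth.Agent.Lib.Helper9.DescSec

open Groth.Agent.Lib.Helper9.DescFF

section bc

variable {S S' : Scheme.{u}} {ι : Type w} {X X' : ι → Scheme.{u}}
  {f : ∀ i, X i ⟶ S} {f' : ∀ i, X' i ⟶ S'}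
  {p : S' ⟶ S} {p' : ∀ i, X' i ⟶ X i} (w : ∀ i, p' i ≫ f i = f' i ≫ p)
  (hpb : ∀ i, IsPullback (p' i) (f' i) (f i) p)
  {D : Desc.SchDDFam f} {T : Scheme.{u}} {t : T ⟶ S'}

/-- the pulled-back descent datum -/
noncomputable abbrev pullD (D : Desc.SchDDFam f) : Desc.SchDDFam f' :=
  Desc.pullDDFamObj (α := fun i => i) w D

/-- the projection from the pulled-back object -/
noncomputable def fstP (i : ι) : ((pullD w D).obj i).left ⟶ (D.obj i).left :=
  pullback.fst (D.obj i).hom (p' i)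

theorem fstP_hom (i : ι) : fstP w i ≫ (D.obj i).hom = ((pullD w D).obj i).hom ≫ p' i :=
  pullback.condition

/-- lifting to the pulled-back object -/
noncomputable def liftP {T' : Scheme.{u}} {i : ι} (a : T' ⟶ (D.obj i).left) (x : T' ⟶ X' i)
    (h : a ≫ (D.obj i).hom = x ≫ p' i) : T' ⟶ ((pullD w D).obj i).left :=
  pullback.lift a x h

theorem liftP_fstP {T' : Scheme.{u}} {i : ι} (a : T' ⟶ (D.obj i).left) (x : T' ⟶ X' i)
    (h : a ≫ (D.obj i).hom = x ≫ p' i) : liftP w a x h ≫ fstP w i = a :=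
  pullback.lift_fst _ _ _

theorem liftP_hom {T' : Scheme.{u}} {i : ι} (a : T' ⟶ (D.obj i).left) (x : T' ⟶ X' i)
    (h : a ≫ (D.obj i).hom = x ≫ p' i) : liftP w a x h ≫ ((pullD w D).obj i).hom = x :=
  pullback.lift_snd _ _ _

theorem hom_extP {T' : Scheme.{u}} {i : ι} {a b : T' ⟶ ((pullD w D).obj i).left}
    (h1 : a ≫ fstP w i = b ≫ fstP w i)
    (h2 : a ≫ ((pullD w D).obj i).hom = b ≫ ((pullD w D).obj i).hom) : a = b :=
  pullback.hom_ext h1 h2

theorem tr_fstP {T' : Scheme.{u}} {j j' : ι} (d : T' ⟶ ((pullD w D).obj j).left) (x₁ : T' ⟶ X' j')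
    (h : (d ≫ ((pullD w D).obj j).hom) ≫ f' j = x₁ ≫ f' j')
    (h'' : ((d ≫ fstP w j) ≫ (D.obj j).hom) ≫ f j = (x₁ ≫ p' j') ≫ f j') :
    tr (pullD w D) d x₁ h ≫ fstP w j' = tr D (d ≫ fstP w j) (x₁ ≫ p' j') h'' :=
  (pullback.lift_fst _ _ _).trans (phi_eq_tr D _ _ _ _)

include w in
theorem bc_aux {T' : Scheme.{u}} (a : T' ⟶ T) {i : ι} (x : T' ⟶ X' i) (h : x ≫ f' i = a ≫ t) :
    (x ≫ p' i) ≫ f i = a ≫ (t ≫ p) := by
  rw [Category.assoc, w i, ← Category.assoc, h, Category.assoc]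

/-- components of the restriction of a section to the base change -/
noncomputable def bcS (σ : Sec D (t ≫ p)) (i : ι) : pullback (f' i) t ⟶ ((pullD w D).obj i).left :=
  liftP w (σ.pt (pullback.snd (f' i) t) (pullback.fst (f' i) t ≫ p' i)
      (bc_aux w _ _ pullback.condition)) (pullback.fst (f' i) t) (σ.pt_hom _ _ _)

theorem comp_bcS_fstP (σ : Sec D (t ≫ p)) {T' : Scheme.{u}} {i : ι} (y : T' ⟶ pullback (f' i) t)
    (e : ((y ≫ pullback.fst (f' i) t) ≫ p' i) ≫ f i = (y ≫ pullback.snd (f' i) t) ≫ (t ≫ p)) :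
    (y ≫ bcS w σ i) ≫ fstP w i =
      σ.pt (y ≫ pullback.snd (f' i) t) ((y ≫ pullback.fst (f' i) t) ≫ p' i) e := by
  unfold bcS
  rw [Category.assoc, liftP_fstP]
  refine (Sec.comp_pt σ y _ _ _ (by simpa using e)).trans ?_
  exact Sec.pt_congr σ rfl (by simp) _ _

theorem bcS_hom (σ : Sec D (t ≫ p)) (i : ι) :
    bcS w σ i ≫ ((pullD w D).obj i).hom = pullback.fst (f' i) t := liftP_hom w _ _ _

/-- restriction of a section to the base change -/
noncomputable def bc (σ : Sec D (t ≫ p)) : Sec (pullD w D) t where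
  s i := bcS w σ i
  hs i := bcS_hom w σ i
  compat := by
    intro T' i j y₀ y₁ h h'
    have c0 : (y₀ ≫ pullback.fst (f' i) t) ≫ f' i = (y₀ ≫ pullback.snd (f' i) t) ≫ t := by
      rw [Category.assoc, pullback.condition, Category.assoc]
    have c1 : (y₁ ≫ pullback.fst (f' j) t) ≫ f' j = (y₁ ≫ pullback.snd (f' j) t) ≫ t := by
      rw [Category.assoc, pullback.condition, Category.assoc]
    have c1' : (y₁ ≫ pullback.fst (f' j) t) ≫ f' j = (y₀ ≫ pullback.snd (f' i) t) ≫ t := by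
      rw [c1, h]
    have e0 := bc_aux (p := p) w _ _ c0
    have e1 := bc_aux (p := p) w _ _ c1
    have e1' := bc_aux (p := p) w _ _ c1'
    apply hom_extP w
    · have hd := comp_bcS_fstP w σ y₀ e0
      have h'' : (σ.pt (y₀ ≫ pullback.snd (f' i) t) ((y₀ ≫ pullback.fst (f' i) t) ≫ p' i) e0 ≫
          (D.obj i).hom) ≫ f i = ((y₁ ≫ pullback.fst (f' j) t) ≫ p' j) ≫ f j := by
        rw [Sec.pt_hom, e0, e1']
      refine (tr_fstP w _ _ h' (by rw [hd]; exact h'')).trans ?_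
      refine (tr_congr D hd rfl _ h'').trans ?_
      refine (Sec.pt_tr σ _ _ e0 _ e1' h'').trans ?_
      refine Eq.trans ?_ (comp_bcS_fstP w σ y₁ e1).symm
      exact Sec.pt_congr σ h rfl _ _
    · refine (tr_hom (pullD w D) _ _ h').trans ?_
      rw [Category.assoc, bcS_hom]

theorem bc_s_fstP (σ : Sec D (t ≫ p)) (i : ι) :
    (bc w σ).s i ≫ fstP w i =
      σ.pt (pullback.snd (f' i) t) (pullback.fst (f' i) t ≫ p' i)
        (bc_aux w _ _ pullback.condition) :=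
  liftP_fstP w _ _ _

theorem bc_s_hom (σ : Sec D (t ≫ p)) (i : ι) :
    (bc w σ).s i ≫ ((pullD w D).obj i).hom = pullback.fst (f' i) t := bcS_hom w σ i

/-- the point of the base change corresponding to a point of the original family -/
noncomputable def ptP {T' : Scheme.{u}} (a : T' ⟶ T) {i : ι} (x : T' ⟶ X i)
    (h : x ≫ f i = a ≫ (t ≫ p)) : T' ⟶ X' i :=
  (hpb i).lift x (a ≫ t) (by rw [h, Category.assoc])

theorem ptP_p' {T' : Scheme.{u}} (a : T' ⟶ T) {i : ι} (x : T' ⟶ X i)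
    (h : x ≫ f i = a ≫ (t ≫ p)) : ptP hpb a x h ≫ p' i = x := (hpb i).lift_fst _ _ _

theorem ptP_f' {T' : Scheme.{u}} (a : T' ⟶ T) {i : ι} (x : T' ⟶ X i)
    (h : x ≫ f i = a ≫ (t ≫ p)) : ptP hpb a x h ≫ f' i = a ≫ t := (hpb i).lift_snd _ _ _

theorem comp_ptP {T' T'' : Scheme.{u}} (g : T'' ⟶ T') (a : T' ⟶ T) {i : ι} (x : T' ⟶ X i)
    (h : x ≫ f i = a ≫ (t ≫ p)) (h' : (g ≫ x) ≫ f i = (g ≫ a) ≫ (t ≫ p)) :
    g ≫ ptP hpb a x h = ptP hpb (g ≫ a) (g ≫ x) h' := by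
  apply (hpb i).hom_ext
  · rw [Category.assoc, ptP_p', ptP_p']
  · rw [Category.assoc, ptP_f', ptP_f', Category.assoc]

theorem ptP_congr {T' : Scheme.{u}} {a a' : T' ⟶ T} {i : ι} {x x' : T' ⟶ X i} (ha : a = a')
    (hx : x = x') (h : x ≫ f i = a ≫ (t ≫ p)) (h' : x' ≫ f i = a' ≫ (t ≫ p)) :
    ptP hpb a x h = ptP hpb a' x' h' := by
  subst ha hx; rfl

/-- extension of a section from the base change -/
noncomputable def bcInv (σ' : Sec (pullD w D) t) : Sec D (t ≫ p) where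
  s i := σ'.pt (pullback.snd (f i) (t ≫ p))
    (ptP hpb (pullback.snd (f i) (t ≫ p)) (pullback.fst (f i) (t ≫ p)) pullback.condition)
    (ptP_f' hpb _ _ _) ≫ fstP w i
  hs i := by
    rw [Category.assoc, fstP_hom, ← Category.assoc, Sec.pt_hom, ptP_p']
  compat := by
    intro T' i j y₀ y₁ h h'
    have c0 : (y₀ ≫ pullback.fst (f i) (t ≫ p)) ≫ f i =
        (y₀ ≫ pullback.snd (f i) (t ≫ p)) ≫ (t ≫ p) := by
      rw [Category.assoc, pullback.condition, Category.assoc]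
    have c1 : (y₁ ≫ pullback.fst (f j) (t ≫ p)) ≫ f j =
        (y₁ ≫ pullback.snd (f j) (t ≫ p)) ≫ (t ≫ p) := by
      rw [Category.assoc, pullback.condition, Category.assoc]
    have c1' : (y₁ ≫ pullback.fst (f j) (t ≫ p)) ≫ f j =
        (y₀ ≫ pullback.snd (f i) (t ≫ p)) ≫ (t ≫ p) := by rw [c1, h]
    -- the points of the base change
    let x₀ : T' ⟶ X' i := ptP hpb (y₀ ≫ pullback.snd (f i) (t ≫ p)) (y₀ ≫ pullback.fst (f i) (t ≫ p)) c0
    let x₁ : T' ⟶ X' j := ptP hpb (y₀ ≫ pullback.snd (f i) (t ≫ p)) (y₁ ≫ pullback.fst (f j) (t ≫ p)) c1'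
    have hx₀ : x₀ ≫ f' i = (y₀ ≫ pullback.snd (f i) (t ≫ p)) ≫ t := ptP_f' hpb _ _ _
    have hx₁ : x₁ ≫ f' j = (y₀ ≫ pullback.snd (f i) (t ≫ p)) ≫ t := ptP_f' hpb _ _ _
    have hx₁p : x₁ ≫ p' j = y₁ ≫ pullback.fst (f j) (t ≫ p) := ptP_p' hpb _ _ _
    have e0 : y₀ ≫ σ'.pt (pullback.snd (f i) (t ≫ p))
        (ptP hpb (pullback.snd (f i) (t ≫ p)) (pullback.fst (f i) (t ≫ p)) pullback.condition)
        (ptP_f' hpb _ _ _) = σ'.pt (y₀ ≫ pullback.snd (f i) (t ≫ p)) x₀ hx₀ := by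
      refine (Sec.comp_pt σ' y₀ _ _ _ (by
        rw [Category.assoc, ptP_f', Category.assoc])).trans ?_
      exact Sec.pt_congr σ' rfl (comp_ptP hpb _ _ _ _ c0) _ _
    have e1 : y₁ ≫ σ'.pt (pullback.snd (f j) (t ≫ p))
        (ptP hpb (pullback.snd (f j) (t ≫ p)) (pullback.fst (f j) (t ≫ p)) pullback.condition)
        (ptP_f' hpb _ _ _) = σ'.pt (y₀ ≫ pullback.snd (f i) (t ≫ p)) x₁ hx₁ := by
      refine (Sec.comp_pt σ' y₁ _ _ _ (by
        rw [Category.assoc, ptP_f', Category.assoc])).trans ?_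
      exact Sec.pt_congr σ' h.symm ((comp_ptP hpb _ _ _ _ c1).trans
        (ptP_congr hpb h.symm rfl _ _)) _ _
    have hh : ((σ'.pt (y₀ ≫ pullback.snd (f i) (t ≫ p)) x₀ hx₀) ≫ ((pullD w D).obj i).hom) ≫ f' i =
        x₁ ≫ f' j := by rw [Sec.pt_hom, hx₀, hx₁]
    have key := Sec.pt_tr σ' (y₀ ≫ pullback.snd (f i) (t ≫ p)) x₀ hx₀ x₁ hx₁ hh
    have hh2 : ((σ'.pt (y₀ ≫ pullback.snd (f i) (t ≫ p)) x₀ hx₀ ≫ fstP w i) ≫
        (D.obj i).hom) ≫ f i = (x₁ ≫ p' j) ≫ f j := by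
      have e : (σ'.pt (y₀ ≫ pullback.snd (f i) (t ≫ p)) x₀ hx₀ ≫ fstP w i) ≫ (D.obj i).hom =
          x₀ ≫ p' i := by
        rw [Category.assoc, fstP_hom, ← Category.assoc, Sec.pt_hom]
      rw [e]
      simp only [Category.assoc]
      rw [w i, w j, reassoc_of% hx₀, reassoc_of% hx₁]
    have key2 := tr_fstP w (σ'.pt (y₀ ≫ pullback.snd (f i) (t ≫ p)) x₀ hx₀) x₁ hh hh2
    have lhs : y₀ ≫ σ'.pt (pullback.snd (f i) (t ≫ p))
        (ptP hpb (pullback.snd (f i) (t ≫ p)) (pullback.fst (f i) (t ≫ p)) pullback.condition)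
        (ptP_f' hpb _ _ _) ≫ fstP w i =
        σ'.pt (y₀ ≫ pullback.snd (f i) (t ≫ p)) x₀ hx₀ ≫ fstP w i := by
      rw [← Category.assoc, e0]
    refine (tr_congr D lhs hx₁p.symm h' hh2).trans (key2.symm.trans ?_)
    rw [key, ← Category.assoc, e1]

theorem bcInv_s (σ' : Sec (pullD w D) t) (i : ι) :
    (bcInv w hpb σ').s i = σ'.pt (pullback.snd (f i) (t ≫ p))
    (ptP hpb (pullback.snd (f i) (t ≫ p)) (pullback.fst (f i) (t ≫ p)) pullback.condition)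
    (ptP_f' hpb _ _ _) ≫ fstP w i := rfl

theorem bcInv_pt (σ' : Sec (pullD w D) t) {T' : Scheme.{u}} (a : T' ⟶ T) {i : ι} (x : T' ⟶ X i)
    (h : x ≫ f i = a ≫ (t ≫ p)) :
    (bcInv w hpb σ').pt a x h = σ'.pt a (ptP hpb a x h) (ptP_f' hpb _ _ _) ≫ fstP w i := by
  change pullback.lift x a h ≫ (bcInv w hpb σ').s i = _
  rw [bcInv_s, ← Category.assoc]
  congr 1
  refine (Sec.comp_pt σ' _ _ _ _ (by
    rw [Category.assoc, ptP_f', ← Category.assoc, pullback.lift_snd])).trans ?_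
  refine Sec.pt_congr σ' (pullback.lift_snd _ _ _) ?_ _ _
  refine (comp_ptP hpb _ _ _ _ (by
    rw [pullback.lift_fst, pullback.lift_snd]; exact h)).trans ?_
  exact ptP_congr hpb (pullback.lift_snd _ _ _) (pullback.lift_fst _ _ _) _ _

theorem bc_pt_fstP (σ : Sec D (t ≫ p)) {T' : Scheme.{u}} (a : T' ⟶ T) {i : ι} (x : T' ⟶ X' i)
    (h : x ≫ f' i = a ≫ t) :
    (bc w σ).pt a x h ≫ fstP w i = σ.pt a (x ≫ p' i) (bc_aux w a x h) := by
  change (pullback.lift x a h ≫ bcS w σ i) ≫ fstP w i = _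
  refine (comp_bcS_fstP w σ _ (by
    rw [pullback.lift_fst, pullback.lift_snd]; exact bc_aux w a x h)).trans ?_
  exact Sec.pt_congr σ (pullback.lift_snd _ _ _) (by rw [pullback.lift_fst]) _ _

theorem bcInv_bc (σ : Sec D (t ≫ p)) : bcInv w hpb (bc w σ) = σ := by
  apply Sec.ext_pt
  intro i
  rw [bcInv_pt, bc_pt_fstP]
  exact Sec.pt_congr σ rfl (ptP_p' hpb _ _ _) _ _

theorem bc_bcInv (σ' : Sec (pullD w D) t) : bc w (bcInv w hpb σ') = σ' := by
  apply Sec.ext'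
  intro i
  apply hom_extP w
  · rw [bc_s_fstP, bcInv_pt]
    congr 1
    rw [Sec.s_eq_pt σ' i]
    refine Sec.pt_congr σ' rfl ?_ _ _
    apply (hpb i).hom_ext
    · rw [ptP_p']
    · rw [ptP_f', pullback.condition]
  · rw [bc_s_hom, σ'.hs]

/-- sections over the base change -/
noncomputable def secBC : Sec D (t ≫ p) ≃ Sec (pullD w D) t where
  toFun := bc w
  invFun := bcInv w hpb
  left_inv := bcInv_bc w hpb
  right_inv := bc_bcInv w hpb

theorem bcInv_pull (σ' : Sec (pullD w D) t) {T' : Scheme.{u}} (g : T' ⟶ T) (t' : T' ⟶ S')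
    (hg : g ≫ t = t') (hg' : g ≫ (t ≫ p) = t' ≫ p) :
    (bcInv w hpb σ').pull g (t' ≫ p) hg' = bcInv w hpb (σ'.pull g t' hg) := by
  apply Sec.ext_pt
  intro i
  rw [Sec.pull_pt _ _ _ _ _ _ _ (by rw [pullback.condition, Category.assoc, ← hg']),
    bcInv_pt, bcInv_pt]
  congr 1
  rw [Sec.pull_pt _ _ _ _ _ _ _ (by
    rw [ptP_f', Category.assoc, hg])]
  refine Sec.pt_congr σ' rfl ?_ _ _
  apply (hpb i).hom_ext
  · rw [ptP_p', ptP_p']
  · rw [ptP_f', ptP_f', Category.assoc, hg]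

/-- the universal property of a representing object over `S'` for sections over `S` -/
def IsUnivOn (p : S' ⟶ S) (D : Desc.SchDDFam f) (U : Over S') (σ : Sec D (U.hom ≫ p)) : Prop :=
  ∀ (T : Scheme.{u}) (t : T ⟶ S') (τ : Sec D (t ≫ p)),
    ∃! g : T ⟶ U.left, ∃ hg : g ≫ U.hom = t,
      σ.pull g (t ≫ p) (by rw [← hg, Category.assoc]) = τ

theorem isUnivOn_of_isUniv (U : Over S') (σ' : Sec (pullD w D) U.hom) (hσ' : IsUniv U σ') :
    IsUnivOn p D U (bcInv w hpb σ') := by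
  intro T t τ
  obtain ⟨g, ⟨hg1, hg2⟩, hguniq⟩ := hσ' T t (bc w τ)
  refine ⟨g, ⟨hg1, ?_⟩, ?_⟩
  · rw [bcInv_pull w hpb σ' g t hg1, hg2, bcInv_bc]
  · rintro g' ⟨hg'1, hg'2⟩
    apply hguniq
    refine ⟨hg'1, ?_⟩
    rw [← hg'2, bcInv_pull w hpb σ' g' t hg'1, bc_bcInv]

end bc

end Groth.Agent.Lib.Helper9.DescSec
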