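import Groth.Agent.Lib.Helper9.DescSec4

set_option backward.isDefEq.respectTransparency false
set_option autoImplicit false
set_option linter.unusedSectionVars false
set_option linter.unusedVariables false
universe w u
open CategoryTheory CategoryTheory.Limits AlgebraicGeometry

namespace Groth.Agent.Lib.Helper9.DescSec

open Groth.Agent.Lib.Helper9.DescFF

variable {S : Scheme.{u}} {ι : Type w} {X : ι → Scheme.{u}} {f : ∀ i, X i ⟶ S}
  {D : Desc.SchDDFam f}

section glue

variable {T : Scheme.{u}} {K : Type*} {Y : K → Scheme.{u}} (π : ∀ k, Y k ⟶ T)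
  (hπ : Presieve.ofArrows Y π ∈ Scheme.fpqcPrecoverage T) (t : T ⟶ S)
  (σ : ∀ k, Sec D (π k ≫ t))
  (hσ : ∀ (k k' : K) (Z : Scheme.{u}) (gk : Z ⟶ Y k) (gk' : Z ⟶ Y k') (_ : gk ≫ π k = gk' ≫ π k')
    (i : ι) (x : Z ⟶ X i) (h : x ≫ f i = gk ≫ (π k ≫ t)) (h' : x ≫ f i = gk' ≫ (π k' ≫ t)),
    (σ k).pt gk x h = (σ k').pt gk' x h')

include hπ in
theorem cover_pullback (i : ι) :
    Presieve.ofArrows (fun k => pullback (pullback.snd (f i) t) (π k))
      (fun k => pullback.fst (pullback.snd (f i) t) (π k)) ∈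
      Scheme.fpqcPrecoverage (pullback (f i) t) :=
  Scheme.fpqcPrecoverage.mem_coverings_of_isPullback π hπ (pullback.snd (f i) t) _
    (fun k => pullback.snd (pullback.snd (f i) t) (π k))
    (fun k => IsPullback.of_hasPullback (pullback.snd (f i) t) (π k))

theorem glue_aux (i : ι) (k : K) :
    (pullback.fst (pullback.snd (f i) t) (π k) ≫ pullback.fst (f i) t) ≫ f i =
      pullback.snd (pullback.snd (f i) t) (π k) ≫ (π k ≫ t) := by
  rw [Category.assoc, pullback.condition, pullback.condition_assoc]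

include hπ hσ in
theorem exists_glue_s (i : ι) : ∃ s : pullback (f i) t ⟶ (D.obj i).left,
    ∀ k, pullback.fst (pullback.snd (f i) t) (π k) ≫ s =
      (σ k).pt (pullback.snd (pullback.snd (f i) t) (π k))
        (pullback.fst (pullback.snd (f i) t) (π k) ≫ pullback.fst (f i) t) (glue_aux π t i k) := by
  obtain ⟨s, hs, -⟩ := FpqcLoc.existsUnique_glue _ (cover_pullback π hπ t i)
    (fun k => (σ k).pt (pullback.snd (pullback.snd (f i) t) (π k))
        (pullback.fst (pullback.snd (f i) t) (π k) ≫ pullback.fst (f i) t) (glue_aux π t i k)) (by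
      intro k k' Z gk gk' e
      have e1 : (gk ≫ pullback.snd (pullback.snd (f i) t) (π k)) ≫ π k =
          (gk' ≫ pullback.snd (pullback.snd (f i) t) (π k')) ≫ π k' := by
        rw [Category.assoc, ← pullback.condition, Category.assoc, ← pullback.condition,
          reassoc_of% e]
      have h1 : (gk ≫ pullback.fst (pullback.snd (f i) t) (π k) ≫ pullback.fst (f i) t) ≫ f i =
          (gk ≫ pullback.snd (pullback.snd (f i) t) (π k)) ≫ (π k ≫ t) := by
        rw [Category.assoc, glue_aux π t i k, Category.assoc]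
      have h2 : (gk' ≫ pullback.fst (pullback.snd (f i) t) (π k') ≫ pullback.fst (f i) t) ≫ f i =
          (gk' ≫ pullback.snd (pullback.snd (f i) t) (π k')) ≫ (π k' ≫ t) := by
        rw [Category.assoc, glue_aux π t i k', Category.assoc]
      have h2' : (gk ≫ pullback.fst (pullback.snd (f i) t) (π k) ≫ pullback.fst (f i) t) ≫ f i =
          (gk' ≫ pullback.snd (pullback.snd (f i) t) (π k')) ≫ (π k' ≫ t) := by
        rw [reassoc_of% e]; exact h2
      refine (Sec.comp_pt (σ k) gk _ _ _ h1).trans ?_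
      refine Eq.trans ?_ (Sec.comp_pt (σ k') gk' _ _ _ h2).symm
      refine (hσ k k' Z _ _ e1 i _ h1 h2').trans ?_
      exact Sec.pt_congr (σ k') rfl (by rw [reassoc_of% e]) _ _)
  exact ⟨s, hs⟩

variable (s : ∀ i, pullback (f i) t ⟶ (D.obj i).left)
  (hs : ∀ i k, pullback.fst (pullback.snd (f i) t) (π k) ≫ s i =
      (σ k).pt (pullback.snd (pullback.snd (f i) t) (π k))
        (pullback.fst (pullback.snd (f i) t) (π k) ≫ pullback.fst (f i) t) (glue_aux π t i k))

include hs in
/-- the key property of the glued components -/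
theorem glue_key {Z : Scheme.{u}} (k : K) (g : Z ⟶ Y k) {i : ι} (x : Z ⟶ X i)
    (h : x ≫ f i = (g ≫ π k) ≫ t) (h' : x ≫ f i = g ≫ (π k ≫ t)) :
    pullback.lift x (g ≫ π k) h ≫ s i = (σ k).pt g x h' := by
  have e : pullback.lift x (g ≫ π k) h =
      pullback.lift (pullback.lift x (g ≫ π k) h) g (by rw [pullback.lift_snd]) ≫
        pullback.fst (pullback.snd (f i) t) (π k) := by
    rw [pullback.lift_fst]
  rw [e, Category.assoc, hs i k]
  refine (Sec.comp_pt (σ k) _ _ _ _ (by
    rw [Category.assoc, glue_aux π t i k, Category.assoc])).trans ?_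
  exact Sec.pt_congr (σ k) (pullback.lift_snd _ _ _)
    (by rw [pullback.lift_fst_assoc, pullback.lift_fst]) _ _

include hπ hs in
theorem glue_hs (i : ι) : s i ≫ (D.obj i).hom = pullback.fst (f i) t := by
  apply hom_ext_of_fpqc _ (cover_pullback π hπ t i)
  intro k
  rw [← Category.assoc, hs i k, Sec.pt_hom]

include hπ hs in
theorem glue_compat ⦃T' : Scheme.{u}⦄ ⦃i j : ι⦄ (y₀ : T' ⟶ pullback (f i) t)
    (y₁ : T' ⟶ pullback (f j) t)
    (h : y₀ ≫ pullback.snd (f i) t = y₁ ≫ pullback.snd (f j) t)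
    (h' : ((y₀ ≫ s i) ≫ (D.obj i).hom) ≫ f i = (y₁ ≫ pullback.fst (f j) t) ≫ f j) :
    tr D (y₀ ≫ s i) (y₁ ≫ pullback.fst (f j) t) h' = y₁ ≫ s j := by
  -- check on a cover of `T'`
  have hcov := Scheme.fpqcPrecoverage.mem_coverings_of_isPullback π hπ
    (y₀ ≫ pullback.snd (f i) t) _
    (fun k => pullback.snd (y₀ ≫ pullback.snd (f i) t) (π k))
    (fun k => IsPullback.of_hasPullback (y₀ ≫ pullback.snd (f i) t) (π k))
  apply hom_ext_of_fpqc _ hcov
  intro k
  let c : pullback (y₀ ≫ pullback.snd (f i) t) (π k) ⟶ T' := pullback.fst _ _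
  let g : pullback (y₀ ≫ pullback.snd (f i) t) (π k) ⟶ Y k := pullback.snd _ _
  have hcg : c ≫ y₀ ≫ pullback.snd (f i) t = g ≫ π k := pullback.condition
  have hcg' : c ≫ y₁ ≫ pullback.snd (f j) t = g ≫ π k := by rw [← h]; exact hcg
  change c ≫ _ = c ≫ _
  have hx0 : (c ≫ y₀ ≫ pullback.fst (f i) t) ≫ f i = g ≫ (π k ≫ t) := by
    simp only [Category.assoc]
    rw [pullback.condition, ← Category.assoc y₀, ← Category.assoc c, hcg, Category.assoc]
  have hx1 : (c ≫ y₁ ≫ pullback.fst (f j) t) ≫ f j = g ≫ (π k ≫ t) := by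
    simp only [Category.assoc]
    rw [pullback.condition, ← Category.assoc y₁, ← Category.assoc c, hcg', Category.assoc]
  -- the two sides on the cover
  have e0 : c ≫ y₀ ≫ s i = (σ k).pt g (c ≫ y₀ ≫ pullback.fst (f i) t) hx0 := by
    have : c ≫ y₀ = pullback.lift (c ≫ y₀ ≫ pullback.fst (f i) t) (g ≫ π k)
        (by rw [hx0, Category.assoc]) := by
      apply pullback.hom_ext
      · rw [pullback.lift_fst, Category.assoc]
      · rw [pullback.lift_snd, Category.assoc, hcg]
    rw [← Category.assoc, this]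
    exact glue_key π t σ s hs k g _ _ hx0
  have e1 : c ≫ y₁ ≫ s j = (σ k).pt g (c ≫ y₁ ≫ pullback.fst (f j) t) hx1 := by
    have : c ≫ y₁ = pullback.lift (c ≫ y₁ ≫ pullback.fst (f j) t) (g ≫ π k)
        (by rw [hx1, Category.assoc]) := by
      apply pullback.hom_ext
      · rw [pullback.lift_fst, Category.assoc]
      · rw [pullback.lift_snd, Category.assoc, hcg']
    rw [← Category.assoc, this]
    exact glue_key π t σ s hs k g _ _ hx1
  have hh : (((σ k).pt g (c ≫ y₀ ≫ pullback.fst (f i) t) hx0) ≫ (D.obj i).hom) ≫ f i =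
      (c ≫ y₁ ≫ pullback.fst (f j) t) ≫ f j := by
    rw [Sec.pt_hom, hx0, hx1]
  have hn : ((c ≫ y₀ ≫ s i) ≫ (D.obj i).hom) ≫ f i = (c ≫ y₁ ≫ pullback.fst (f j) t) ≫ f j := by
    rw [e0]; exact hh
  refine (tr_natural D c _ _ h' hn).trans ?_
  refine (tr_congr D e0 rfl hn hh).trans ?_
  rw [Sec.pt_tr (σ k) g _ hx0 _ hx1 hh, e1]

include hπ hσ in
/-- sections glue uniquely along fpqc coverings -/
theorem existsUnique_glue : ∃! τ : Sec D t, ∀ k, τ.pull (π k) (π k ≫ t) rfl = σ k := by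
  choose s hs using exists_glue_s π hπ t σ hσ
  let τ : Sec D t := ⟨s, glue_hs π hπ t σ s hs, glue_compat π hπ t σ s hs⟩
  have key : ∀ {Z : Scheme.{u}} (k : K) (g : Z ⟶ Y k) {i : ι} (x : Z ⟶ X i)
      (h : x ≫ f i = (g ≫ π k) ≫ t) (h' : x ≫ f i = g ≫ (π k ≫ t)),
      τ.pt (g ≫ π k) x h = (σ k).pt g x h' := fun k g i x h h' => glue_key π t σ s hs k g x h h'
  refine ⟨τ, fun k => ?_, fun τ' hτ' => ?_⟩
  · apply Sec.ext_pt
    intro i
    rw [Sec.pull_pt _ _ _ _ _ _ _ (by rw [pullback.condition, Category.assoc])]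
    exact key k _ _ _ _
  · apply Sec.ext'
    intro i
    apply hom_ext_of_fpqc _ (cover_pullback π hπ t i)
    intro k
    change pullback.fst _ _ ≫ τ'.s i = pullback.fst _ _ ≫ s i
    rw [hs i k, ← hτ' k, Sec.pull_pt _ _ _ _ _ _ _ (by
      rw [glue_aux π t i k, Category.assoc])]
    refine (Sec.comp_s τ' _ (by
      rw [Category.assoc, pullback.condition, Category.assoc])).trans ?_
    exact Sec.pt_congr τ' pullback.condition rfl _ _

end glue

end Groth.Agent.Lib.Helper9.DescSec
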