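import Groth.Agent.Lib.Helper9.DescSec5
import Mathlib.AlgebraicGeometry.Sites.Representability

set_option backward.isDefEq.respectTransparency false
set_option autoImplicit false
set_option linter.unusedSectionVars false
set_option linter.unusedVariables false
universe u
open CategoryTheory CategoryTheory.Limits AlgebraicGeometry Opposite

namespace Groth.Agent.Lib.Helper9.DescSec

open Groth.Agent.Lib.Helper9.DescFF

variable {S : Scheme.{u}} {ι : Type u} {X : ι → Scheme.{u}} {f : ∀ i, X i ⟶ S}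
  (D : Desc.SchDDFam f)

/-- the elements of the functor of sections -/
abbrev El (T : Scheme.{u}) : Type u := Σ t : T ⟶ S, Sec D t

variable {D}

theorem Sec.pull_congr {T T' : Scheme.{u}} {t : T ⟶ S} (σ : Sec D t) {g g' : T' ⟶ T} (hgg : g = g')
    (t' : T' ⟶ S) (h : g ≫ t = t') (h' : g' ≫ t = t') : σ.pull g t' h = σ.pull g' t' h' := by
  subst hgg; rfl

theorem El.ext {T : Scheme.{u}} {a b : El D T} (h1 : a.1 = b.1)
    (h2 : a.2.pull (𝟙 T) b.1 (by rw [Category.id_comp, h1]) = b.2) : a = b := by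
  obtain ⟨t, σ⟩ := a
  obtain ⟨t', σ'⟩ := b
  dsimp only at h1
  subst h1
  rw [Sec.pull_id] at h2
  dsimp only at h2
  subst h2
  rfl

/-- restriction of elements -/
noncomputable def El.res {T T' : Scheme.{u}} (g : T' ⟶ T) (a : El D T) : El D T' :=
  ⟨g ≫ a.1, a.2.pull g _ rfl⟩

theorem El.res_id {T : Scheme.{u}} (a : El D T) : El.res (𝟙 T) a = a := by
  apply El.ext (Category.id_comp _)
  change (a.2.pull (𝟙 T) (𝟙 T ≫ a.1) rfl).pull (𝟙 T) a.1 _ = a.2
  rw [Sec.pull_pull _ _ _ _ _ _ _ (by simp)]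
  exact (Sec.pull_congr _ (Category.id_comp _) _ _ (Category.id_comp _)).trans (Sec.pull_id _ _)

theorem El.res_res {T T' T'' : Scheme.{u}} (g : T' ⟶ T) (g' : T'' ⟶ T') (a : El D T) :
    El.res g' (El.res g a) = El.res (g' ≫ g) a := by
  apply El.ext (Category.assoc _ _ _).symm
  change ((a.2.pull g (g ≫ a.1) rfl).pull g' (g' ≫ g ≫ a.1) rfl).pull (𝟙 T'') ((g' ≫ g) ≫ a.1) _ =
    a.2.pull (g' ≫ g) _ rfl
  rw [Sec.pull_pull _ _ _ _ _ _ _ (by simp), Sec.pull_pull _ _ _ _ _ _ _ (by simp)]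
  exact Sec.pull_congr _ (by simp) _ _ _

variable (D)

/-- the functor of sections of a descent datum -/
noncomputable def secFunctor : Scheme.{u}ᵒᵖ ⥤ Type u where
  obj T := El D T.unop
  map g := ↾fun a => El.res g.unop a
  map_id T := by
    apply ConcreteCategory.hom_ext
    intro a
    exact El.res_id a
  map_comp g g' := by
    apply ConcreteCategory.hom_ext
    intro a
    exact (El.res_res g.unop g'.unop a).symm

variable {D}

theorem El.eq_iff {T : Scheme.{u}} {a b : El D T} (h : a = b) :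
    ∃ h1 : a.1 = b.1, a.2.pull (𝟙 T) b.1 (by rw [Category.id_comp, h1]) = b.2 := by
  subst h
  exact ⟨rfl, Sec.pull_id _ _⟩

theorem El.res_pt {T T' : Scheme.{u}} (g : T' ⟶ T) (a : El D T) {T'' : Scheme.{u}} (c : T'' ⟶ T')
    {i : ι} (x : T'' ⟶ X i) (h : x ≫ f i = c ≫ (El.res g a).1) (h' : x ≫ f i = (c ≫ g) ≫ a.1) :
    (El.res g a).2.pt c x h = a.2.pt (c ≫ g) x h' :=
  Sec.pull_pt a.2 g (g ≫ a.1) rfl c x h h' 

theorem El.pt_eq_of_eq {T : Scheme.{u}} {a b : El D T} (hab : a = b) {T' : Scheme.{u}} (c : T' ⟶ T)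
    {i : ι} (x : T' ⟶ X i) (h : x ≫ f i = c ≫ a.1) (h' : x ≫ f i = c ≫ b.1) :
    a.2.pt c x h = b.2.pt c x h' := by
  subst hab; rfl

variable (D)

theorem isSheaf_secFunctor : Presheaf.IsSheaf Scheme.zariskiTopology (secFunctor D) := by
  rw [isSheaf_iff_isSheaf_of_type]
  rw [Precoverage.isSheaf_toGrothendieck_iff_of_isStableUnderBaseChange]
  rintro Y R hR
  have hR' : R ∈ Scheme.fpqcPrecoverage Y := Scheme.zariskiPrecoverage_le_fpqcPrecoverage _ hR
  obtain ⟨(𝓤 : Scheme.OpenCover Y), rfl⟩ := Scheme.exists_cover_of_mem_pretopology hR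
  rw [Presieve.isSheafFor_arrows_iff]
  intro x hx
  have hx' : ∀ (k k' : 𝓤.I₀) (Z : Scheme.{u}) (gk : Z ⟶ 𝓤.X k) (gk' : Z ⟶ 𝓤.X k'),
      gk ≫ 𝓤.f k = gk' ≫ 𝓤.f k' → El.res gk (x k) = El.res gk' (x k') :=
    fun k k' Z gk gk' e => hx k k' Z gk gk' e
  -- glue the base maps
  obtain ⟨t, ht, htuniq⟩ := FpqcLoc.existsUnique_glue 𝓤.f hR' (fun k => (x k).1) (by
    intro k k' Z gk gk' e
    exact (El.eq_iff (hx' k k' Z gk gk' e)).1)
  have ht' : ∀ k, 𝓤.f k ≫ t = (x k).1 := ht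
  let σ : ∀ k, Sec D (𝓤.f k ≫ t) := fun k =>
    (x k).2.pull (𝟙 _) (𝓤.f k ≫ t) (by rw [Category.id_comp, ht' k])
  have hσpt : ∀ (k : 𝓤.I₀) {Z : Scheme.{u}} (g : Z ⟶ 𝓤.X k) {i : ι} (x0 : Z ⟶ X i)
      (h : x0 ≫ f i = g ≫ (𝓤.f k ≫ t)) (h' : x0 ≫ f i = g ≫ (x k).1),
      (σ k).pt g x0 h = (x k).2.pt g x0 h' := by
    intro k Z g i x0 h h'
    refine (Sec.pull_pt _ _ _ _ _ _ _ (by rw [Category.comp_id]; exact h')).trans ?_
    exact Sec.pt_congr _ (Category.comp_id _) rfl _ _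
  have hσ : ∀ (k k' : 𝓤.I₀) (Z : Scheme.{u}) (gk : Z ⟶ 𝓤.X k) (gk' : Z ⟶ 𝓤.X k')
      (_ : gk ≫ 𝓤.f k = gk' ≫ 𝓤.f k') (i : ι) (x0 : Z ⟶ X i)
      (h : x0 ≫ f i = gk ≫ (𝓤.f k ≫ t)) (h' : x0 ≫ f i = gk' ≫ (𝓤.f k' ≫ t)),
      (σ k).pt gk x0 h = (σ k').pt gk' x0 h' := by
    intro k k' Z gk gk' e i x0 h h'
    have h1 : x0 ≫ f i = gk ≫ (x k).1 := by rw [h, ht' k]
    have h2 : x0 ≫ f i = gk' ≫ (x k').1 := by rw [h', ht' k']
    rw [hσpt k gk x0 h h1, hσpt k' gk' x0 h' h2]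
    have := El.pt_eq_of_eq (hx' k k' Z gk gk' e) (𝟙 Z) x0
      (by rw [Category.id_comp]; exact h1) (by rw [Category.id_comp]; exact h2)
    rw [El.res_pt _ _ _ _ _ (by rw [Category.id_comp]; exact h1),
      El.res_pt _ _ _ _ _ (by rw [Category.id_comp]; exact h2)] at this
    refine (Sec.pt_congr _ (Category.id_comp _).symm rfl _ _).trans (this.trans ?_)
    exact Sec.pt_congr _ (Category.id_comp _) rfl _ _
  obtain ⟨τ, hτ, hτuniq⟩ := existsUnique_glue 𝓤.f hR' t σ hσ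
  refine ⟨⟨t, τ⟩, fun k => ?_, fun b hb => ?_⟩
  · change El.res (𝓤.f k) ⟨t, τ⟩ = x k
    apply El.ext (ht' k)
    change (τ.pull (𝓤.f k) (𝓤.f k ≫ t) rfl).pull (𝟙 _) (x k).1 _ = (x k).2
    rw [hτ k]
    change ((x k).2.pull (𝟙 _) (𝓤.f k ≫ t) _).pull (𝟙 _) (x k).1 _ = (x k).2
    rw [Sec.pull_pull _ _ _ _ _ _ _ (by simp)]
    exact (Sec.pull_congr _ (Category.id_comp _) _ _ (Category.id_comp _)).trans (Sec.pull_id _ _)
  · have hb' : ∀ k, El.res (𝓤.f k) b = x k := hb
    obtain ⟨t', τ'⟩ := b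
    have e1 : t' = t := htuniq t' (fun k => (El.eq_iff (hb' k)).1)
    subst e1
    congr 1
    apply hτuniq
    intro k
    apply Sec.ext_pt
    intro i
    rw [hσpt k _ _ _ (by rw [pullback.condition, ht' k])]
    have := El.pt_eq_of_eq (hb' k) (pullback.snd (f i) (𝓤.f k ≫ t')) (pullback.fst _ _)
      pullback.condition (by rw [pullback.condition, ht' k])
    exact this

/-- the sheaf of sections -/
noncomputable def secSheaf : Sheaf Scheme.zariskiTopology (Type u) :=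
  ⟨secFunctor D, isSheaf_secFunctor D⟩

variable {D}

/-- the morphism from a representable functor given by an element -/
noncomputable def homOfEl {T : Scheme.{u}} (e : El D T) : yoneda.obj T ⟶ secFunctor D where
  app T' := ↾fun b => El.res b e
  naturality := by
    intro T' T'' c
    apply ConcreteCategory.hom_ext
    intro b
    exact (El.res_res b c.unop e).symm

theorem homOfEl_app {T T' : Scheme.{u}} (e : El D T) (b : T' ⟶ T) :
    (homOfEl e).app (op T') b = El.res b e := rfl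

theorem g_app {T T' : Scheme.{u}} (g : yoneda.obj T ⟶ secFunctor D) (b : T' ⟶ T) :
    g.app (op T') b = El.res b (yonedaEquiv g) := by
  have h1 : g.app (op T') b = (secFunctor D).map b.op (yonedaEquiv g) := by
    rw [yonedaEquiv_naturality]
    simp [yonedaEquiv]
  rw [h1]
  rfl

section loc

variable {A : Type u} {S' : A → Scheme.{u}} (q : ∀ a, S' a ⟶ S) [∀ a, IsOpenImmersion (q a)]
  (U : ∀ a, Over (S' a)) (σ : ∀ a, Sec D ((U a).hom ≫ q a))
  (hσ : ∀ a, IsUnivOn (q a) D (U a) (σ a))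

/-- the local universal elements -/
noncomputable def elOf (a : A) : El D (U a).left := ⟨(U a).hom ≫ q a, σ a⟩

include hσ in
theorem existsUnique_res_eq (a : A) {T : Scheme.{u}} (e : El D T) (t' : T ⟶ S' a)
    (ht' : t' ≫ q a = e.1) : ∃! g : T ⟶ (U a).left, El.res g (elOf q U σ a) = e := by
  obtain ⟨g, ⟨hg1, hg2⟩, hguniq⟩ := hσ a T t' (e.2.pull (𝟙 T) (t' ≫ q a) (by
    rw [Category.id_comp, ht']))
  refine ⟨g, ?_, ?_⟩
  · apply El.ext (by
      change g ≫ (U a).hom ≫ q a = e.1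
      rw [← Category.assoc, hg1, ht'])
    change ((σ a).pull g (g ≫ (U a).hom ≫ q a) rfl).pull (𝟙 T) e.1 _ = e.2
    rw [Sec.pull_pull _ _ _ _ _ _ _ (by
      rw [Category.id_comp, ← Category.assoc, hg1, ht'])]
    have h3 : (σ a).pull (𝟙 T ≫ g) e.1 (by
        rw [Category.id_comp, ← Category.assoc, hg1, ht']) =
        ((σ a).pull g (t' ≫ q a) (by rw [← hg1, Category.assoc])).pull (𝟙 T) e.1 (by
          rw [Category.id_comp, ht']) := by
      rw [Sec.pull_pull _ _ _ _ _ _ _ (by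
        rw [Category.id_comp, ← Category.assoc, hg1, ht'])]
    rw [h3, hg2, Sec.pull_pull _ _ _ _ _ _ _ (by simp)]
    exact (Sec.pull_congr _ (Category.id_comp _) _ _ (Category.id_comp _)).trans (Sec.pull_id _ _)
  · intro g' hg'
    apply hguniq
    obtain ⟨h1, h2⟩ := El.eq_iff hg'
    have hg'1 : g' ≫ (U a).hom = t' := by
      rw [← cancel_mono (q a), Category.assoc, ht']
      exact h1
    refine ⟨hg'1, ?_⟩
    rw [← h2]
    change _ = (((σ a).pull g' (g' ≫ (U a).hom ≫ q a) rfl).pull (𝟙 T) e.1 _).pull (𝟙 T) _ _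
    have hh1 : (𝟙 T ≫ g') ≫ (U a).hom ≫ q a = e.1 := by
      rw [Category.id_comp, ← Category.assoc, hg'1, ht']
    have hh2 : (𝟙 T ≫ 𝟙 T ≫ g') ≫ (U a).hom ≫ q a = t' ≫ q a := by
      rw [Category.id_comp, Category.id_comp, ← Category.assoc, hg'1]
    rw [Sec.pull_pull _ _ _ _ _ _ _ hh1, Sec.pull_pull _ _ _ _ _ _ _ hh2]
    exact Sec.pull_congr _ (by simp) _ _ _

/-- the open where an element comes from the `a`-th piece -/
def Wof (a : A) {T : Scheme.{u}} (e : El D T) : T.Opens := e.1 ⁻¹ᵁ (q a).opensRange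

/-- the factorisation through `S' a` on `Wof` -/
noncomputable def tW (a : A) {T : Scheme.{u}} (e : El D T) : (Wof q a e).toScheme ⟶ S' a :=
  IsOpenImmersion.lift (q a) ((Wof q a e).ι ≫ e.1) (by
    rintro _ ⟨w, rfl⟩
    have : (e.1) ((Wof q a e).ι w) ∈ (q a).opensRange := w.2
    rw [Scheme.Hom.comp_apply]
    exact this)

theorem tW_q (a : A) {T : Scheme.{u}} (e : El D T) : tW q a e ≫ q a = (Wof q a e).ι ≫ e.1 :=
  IsOpenImmersion.lift_fac _ _ _

include hσ in
theorem exists_liftW (a : A) {T : Scheme.{u}} (e : El D T) :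
    ∃ l : (Wof q a e).toScheme ⟶ (U a).left,
      El.res l (elOf q U σ a) = El.res (Wof q a e).ι e :=
  (existsUnique_res_eq q U σ hσ a (El.res (Wof q a e).ι e) (tW q a e) (tW_q q a e)).exists

/-- the local lift -/
noncomputable def liftW (a : A) {T : Scheme.{u}} (e : El D T) :
    (Wof q a e).toScheme ⟶ (U a).left := (exists_liftW q U σ hσ a e).choose

theorem liftW_spec (a : A) {T : Scheme.{u}} (e : El D T) :
    El.res (liftW q U σ hσ a e) (elOf q U σ a) = El.res (Wof q a e).ι e :=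
  (exists_liftW q U σ hσ a e).choose_spec

theorem comm_sq (a : A) {T T' : Scheme.{u}} (e : El D T) (c : T' ⟶ (Wof q a e).toScheme) :
    El.res (c ≫ liftW q U σ hσ a e) (elOf q U σ a) = El.res (c ≫ (Wof q a e).ι) e := by
  rw [← El.res_res, liftW_spec, El.res_res]

theorem exists_lift_sq (a : A) {T T' : Scheme.{u}} (e : El D T) (b : T' ⟶ (U a).left)
    (c' : T' ⟶ T) (h : El.res b (elOf q U σ a) = El.res c' e) :
    ∃ c : T' ⟶ (Wof q a e).toScheme, c ≫ liftW q U σ hσ a e = b ∧ c ≫ (Wof q a e).ι = c' := by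
  have h1 : b ≫ (U a).hom ≫ q a = c' ≫ e.1 := (El.eq_iff h).1
  have hr : Set.range c' ⊆ Set.range (Wof q a e).ι := by
    rw [Scheme.Opens.range_ι]
    rintro _ ⟨x, rfl⟩
    change e.1 (c' x) ∈ Set.range (q a)
    rw [← Scheme.Hom.comp_apply, ← h1]
    exact ⟨(b ≫ (U a).hom) x, by simp⟩
  refine ⟨IsOpenImmersion.lift (Wof q a e).ι c' hr, ?_, IsOpenImmersion.lift_fac _ _ _⟩
  have huniq := existsUnique_res_eq q U σ hσ a (El.res c' e) (b ≫ (U a).hom) (by
    rw [Category.assoc]; exact h1)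
  apply huniq.unique
  · rw [comm_sq, IsOpenImmersion.lift_fac]
  · exact h

theorem isPullback_liftW (a : A) {T : Scheme.{u}} (g : yoneda.obj T ⟶ secFunctor D) :
    IsPullback (yoneda.map (liftW q U σ hσ a (yonedaEquiv g)))
      (yoneda.map (Wof q a (yonedaEquiv g)).ι) (homOfEl (elOf q U σ a)) g := by
  apply IsPullback.of_forall_isPullback_app
  rintro ⟨T'⟩
  rw [Types.isPullback_iff]
  refine ⟨?_, ?_, ?_⟩
  · ext c
    have := comm_sq q U σ hσ a (T' := T') (yonedaEquiv g) c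
    rw [← g_app] at this
    exact this
  · intro c₁ c₂ h
    have h2 : c₁ ≫ (Wof q a (yonedaEquiv g)).ι = c₂ ≫ (Wof q a (yonedaEquiv g)).ι := h.2
    exact (cancel_mono _).1 h2
  · intro b c' h
    have h0 : El.res b (elOf q U σ a) = El.res c' (yonedaEquiv g) := by
      rw [← g_app]
      exact h
    obtain ⟨c, hc1, hc2⟩ := exists_lift_sq q U σ hσ a (yonedaEquiv g) b c' h0
    exact ⟨c, hc1, hc2⟩

include hσ in
theorem homOfEl_isOpenImmersion (a : A) :
    IsOpenImmersion.presheaf (homOfEl (elOf q U σ a)) := by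
  apply MorphismProperty.relative.of_exists
  intro T g
  exact ⟨(Wof q a (yonedaEquiv g)).toScheme, yoneda.map (liftW q U σ hσ a (yonedaEquiv g)),
    (Wof q a (yonedaEquiv g)).ι, isPullback_liftW q U σ hσ a g, inferInstance⟩

variable (hsurj : ∀ s : S, ∃ a, s ∈ Set.range (q a))

include hsurj in
theorem isOpenCover_Wof {T : Scheme.{u}} (e : El D T) :
    TopologicalSpace.IsOpenCover (fun a : A => Wof q a e) := by
  rw [TopologicalSpace.IsOpenCover]
  apply top_le_iff.1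
  intro x _
  obtain ⟨a, ha⟩ := hsurj (e.1 x)
  exact TopologicalSpace.Opens.mem_iSup.2 ⟨a, ha⟩

include hσ hsurj in
theorem isLocallySurjective_sigmaDesc :
    Presheaf.IsLocallySurjective Scheme.zariskiTopology
      (Sigma.desc (fun a => homOfEl (elOf q U σ a)) : _ ⟶ (secSheaf D).1) where
  imageSieve_mem {T} s := by
    let e : El D T := s
    refine Scheme.zariskiTopology.superset_covering ?_
      (T.openCoverOfIsOpenCover _ (isOpenCover_Wof q hsurj e)).mem_grothendieckTopology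
    refine (Sieve.generate_le_iff _ _).2 ?_
    rintro V c ⟨a⟩
    refine ⟨(Sigma.ι (fun a => yoneda.obj (U a).left) a).app (op (Wof q a e).toScheme)
      (liftW q U σ hσ a e), ?_⟩
    have h1 : (Sigma.ι (fun a => yoneda.obj (U a).left) a ≫
        Sigma.desc (fun a => homOfEl (elOf q U σ a))) = homOfEl (elOf q U σ a) :=
      Sigma.ι_desc _ _
    have h2 := comm_sq q U σ hσ a e (𝟙 (Wof q a e).toScheme)
    rw [Category.id_comp, Category.id_comp] at h2
    have h3 : (Sigma.ι (fun a => yoneda.obj (U a).left) a ≫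
        Sigma.desc (fun a => homOfEl (elOf q U σ a))).app
        (op (Wof q a e).toScheme) (liftW q U σ hσ a e) = El.res (Wof q a e).ι e := by
      rw [h1]; exact h2
    exact h3

include hσ hsurj in
/-- Zariski-local representability of the functor of sections. -/
theorem exists_isUniv_of_local : ∃ (U₀ : Over S) (σ₀ : Sec D U₀.hom), IsUniv U₀ σ₀ := by
  haveI := isLocallySurjective_sigmaDesc q U σ hσ hsurj
  have hrep : (secSheaf D).1.IsRepresentable :=
    Scheme.LocalRepresentability.isRepresentable (F := secSheaf D)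
      (f := fun a => homOfEl (elOf q U σ a)) (fun a => homOfEl_isOpenImmersion q U σ hσ a)
  obtain ⟨Y, ⟨h⟩⟩ := hrep
  let e₀ : El D Y := h.homEquiv (𝟙 Y)
  have hres : ∀ {T : Scheme.{u}} (g : T ⟶ Y), El.res g e₀ = h.homEquiv g := by
    intro T g
    have := h.homEquiv_comp g (𝟙 Y)
    rw [Category.comp_id] at this
    exact this.symm
  refine ⟨Over.mk e₀.1, e₀.2, ?_⟩
  intro T t τ
  let g : T ⟶ Y := h.homEquiv.symm (⟨t, τ⟩ : El D T)
  have hg : El.res g e₀ = (⟨t, τ⟩ : El D T) := by rw [hres]; exact h.homEquiv.apply_symm_apply _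
  obtain ⟨h1, h2⟩ := El.eq_iff hg
  have h1' : g ≫ e₀.1 = t := h1
  refine ⟨g, ⟨h1', ?_⟩, ?_⟩
  · have h2' : (e₀.2.pull g (g ≫ e₀.1) rfl).pull (𝟙 T) t (by rw [Category.id_comp]; exact h1') = τ :=
      h2
    rw [← h2', Sec.pull_pull _ _ _ _ _ _ _ (by rw [Category.id_comp]; exact h1')]
    exact Sec.pull_congr _ (Category.id_comp _).symm _ _ _
  · rintro g' ⟨hg'1, hg'2⟩
    have : El.res g' e₀ = (⟨t, τ⟩ : El D T) := by
      apply El.ext hg'1
      have e1 : (e₀.2.pull g' (g' ≫ e₀.1) rfl).pull (𝟙 T) t (by rw [Category.id_comp]; exact hg'1) =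
          e₀.2.pull (𝟙 T ≫ g') t (by rw [Category.id_comp]; exact hg'1) :=
        Sec.pull_pull _ _ _ _ _ _ _ _
      exact e1.trans ((Sec.pull_congr _ (Category.id_comp _) _ _ hg'1).trans hg'2)
    rw [hres] at this
    exact (h.homEquiv.symm_apply_apply g').symm.trans (congrArg h.homEquiv.symm this)

end loc

end Groth.Agent.Lib.Helper9.DescSec
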