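import Groth.Agent.Lib.Helper9.DescSec6

set_option backward.isDefEq.respectTransparency false
set_option autoImplicit false
set_option linter.unusedSectionVars false
set_option linter.unusedVariables false
universe u
open CategoryTheory CategoryTheory.Limits AlgebraicGeometry Opposite

namespace Groth.Agent.Lib.Helper9.DescSec

open Groth.Agent.Lib.Helper9.DescFF

variable {S : Scheme.{u}} {ι : Type u} {X : ι → Scheme.{u}} {f : ∀ i, X i ⟶ S}
  (hf : Presieve.ofArrows X f ∈ Scheme.fpqcPrecoverage S) (D : Desc.SchDDFam f)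

include hf in
/-- a descent datum relative to an fpqc covering is effective iff its functor of sections is
representable -/
theorem isEffective_iff_exists_isUniv :
    D.IsEffective ↔ ∃ (U : Over S) (σ : Sec D U.hom), IsUniv U σ := by
  constructor
  · rintro ⟨U, ⟨e⟩⟩
    exact ⟨U, exists_isUniv_of_iso hf U e⟩
  · rintro ⟨U, σ, hσ⟩
    obtain ⟨e⟩ := iso_of_isUniv U σ hσ
    exact ⟨U, ⟨e⟩⟩

theorem isEffective_of_isUniv (U : Over S) (σ : Sec D U.hom) (hσ : IsUniv U σ) : D.IsEffective := by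
  obtain ⟨e⟩ := iso_of_isUniv U σ hσ
  exact ⟨U, ⟨e⟩⟩

section loc

variable {A : Type u} {S' : A → Scheme.{u}} (q : ∀ a, S' a ⟶ S) [∀ a, IsOpenImmersion (q a)]
  (hsurj : ∀ s : S, ∃ a, s ∈ Set.range (q a))
  {X' : A → ι → Scheme.{u}} (f' : ∀ a i, X' a i ⟶ S' a) (p' : ∀ a i, X' a i ⟶ X i)
  (w : ∀ a i, p' a i ≫ f i = f' a i ≫ q a)
  (hpb : ∀ a i, IsPullback (p' a i) (f' a i) (f i) (q a))

include hf hsurj hpb in
/-- effectivity of descent data relative to an fpqc covering is Zariski-local on the base -/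
theorem isEffective_of_local
    (h : ∀ a, (pullD (w a) D).IsEffective) : D.IsEffective := by
  have hf' : ∀ a, Presieve.ofArrows (X' a) (f' a) ∈ Scheme.fpqcPrecoverage (S' a) := fun a =>
    Scheme.fpqcPrecoverage.mem_coverings_of_isPullback f hf (q a) _ (p' a)
      (fun i => (hpb a i).flip)
  choose U hU using h
  have hU' : ∀ a, ∃ σ' : Sec (pullD (w a) D) (U a).hom, IsUniv (U a) σ' := fun a => by
    obtain ⟨e⟩ := hU a
    exact exists_isUniv_of_iso (hf' a) (U a) e
  choose σ' hσ' using hU'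
  obtain ⟨U₀, σ₀, h₀⟩ := exists_isUniv_of_local q U (fun a => bcInv (w a) (hpb a) (σ' a))
    (fun a => isUnivOn_of_isUniv (w a) (hpb a) (U a) (σ' a) (hσ' a)) hsurj
  exact isEffective_of_isUniv D U₀ σ₀ h₀

end loc

end Groth.Agent.Lib.Helper9.DescSec
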