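import Groth.Prelude.Def_DescFam
import Groth.Agent.Lib.Helper9.FpqcLoc3
import Mathlib.AlgebraicGeometry.PullbackCarrier
import Mathlib.AlgebraicGeometry.ResidueField

set_option autoImplicit false
universe u
open CategoryTheory CategoryTheory.Limits AlgebraicGeometry MorphismProperty

namespace Groth.Agent.Lib.Helper9.OpenDesc

variable {S : Scheme.{u}} {ι : Type u} {X : ι → Scheme.{u}} {f : ∀ i, X i ⟶ S}

/-- For a descent datum of open subschemes: a point of `X i` with the same image in `S` as a point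
of the open `Z j ⊆ X j` lies in `Z i`. -/
theorem mem_range_of_eq (D : Desc.SchDDFam f) (hD : ∀ i, IsOpenImmersion (D.obj i).hom)
    {i j : ι} (x : X i) (z : (D.obj j).left) (hxz : f i x = f j ((D.obj j).hom z)) :
    x ∈ Set.range (D.obj i).hom := by
  obtain ⟨w, hw1, hw2⟩ := Scheme.Pullback.exists_preimage_pullback x ((D.obj j).hom z) hxz
  let t := (pullback (f i) (f j)).fromSpecResidueField w
  let x₀ := t ≫ pullback.fst (f i) (f j)
  let x₁ := t ≫ pullback.snd (f i) (f j)
  have h : x₀ ≫ f i = x₁ ≫ f j := by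
    simp only [x₀, x₁, Category.assoc, pullback.condition]
  have hr : Set.range x₁ ⊆ Set.range (D.obj j).hom := by
    rintro _ ⟨y, rfl⟩
    have hy : t y = w := by
      have : t y ∈ Set.range t := ⟨y, rfl⟩
      rw [Scheme.range_fromSpecResidueField] at this
      exact this
    refine ⟨z, ?_⟩
    change _ = (pullback.snd (f i) (f j)) (t y)
    rw [hy, hw2]
  have := hD j
  let l₁ : Desc.Lifts (D.obj j) x₁ :=
    ⟨IsOpenImmersion.lift (D.obj j).hom x₁ hr, IsOpenImmersion.lift_fac _ _ _⟩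
  let v₀ := (D.φ x₀ x₁ h).symm l₁
  have hv₀ : v₀.1 ≫ (D.obj i).hom = x₀ := v₀.2
  let pt : Spec ((pullback (f i) (f j)).residueField w) := IsLocalRing.closedPoint _
  refine ⟨v₀.1 pt, ?_⟩
  have e1 : (D.obj i).hom (v₀.1 pt) = x₀ pt :=
    congrArg (fun (g : Spec ((pullback (f i) (f j)).residueField w) ⟶ X i) => g pt) hv₀
  rw [e1]
  change (pullback.fst (f i) (f j)) (t pt) = x
  have : t pt = w := by
    have : t pt ∈ Set.range t := ⟨pt, rfl⟩
    rw [Scheme.range_fromSpecResidueField] at this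
    exact this
  rw [this, hw1]


/-- Open immersions descend along fpqc covering families. -/
theorem isEffective_of_isOpenImmersion
    (hf : Presieve.ofArrows X f ∈ Scheme.fpqcPrecoverage S)
    (D : Desc.SchDDFam f) (hD : ∀ i, IsOpenImmersion (D.obj i).hom) : D.IsEffective := by
  let 𝒰 : PreZeroHypercover.{u} S := ⟨ι, X, f⟩
  have hm : 𝒰.presieve₀ ∈ Scheme.propQCPrecoverage @Flat S := hf
  have : QuasiCompactCover 𝒰 := by
    rw [← Scheme.presieve₀_mem_qcPrecoverage_iff]; exact hm.1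
  have hfl : ∀ i, Flat (𝒰.f i) := ((Scheme.presieve₀_mem_precoverage_iff 𝒰).1 hm.2).2
  let U₀ : Set S := ⋃ i, f i '' Set.range (D.obj i).hom
  have hpre : ∀ i, (f i) ⁻¹' U₀ = Set.range (D.obj i).hom := by
    intro i; ext x; constructor
    · intro hx
      obtain ⟨j, _, ⟨z, rfl⟩, hz⟩ := Set.mem_iUnion.1 hx
      exact mem_range_of_eq D hD x z hz.symm
    · intro hx
      exact Set.mem_iUnion.2 ⟨i, x, hx, rfl⟩
  have hopen : IsOpen U₀ := FpqcLoc.isOpen_of_forall_isOpen_preimage 𝒰 hfl U₀ (fun i => by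
    change IsOpen ((f i) ⁻¹' U₀)
    rw [hpre]; exact (D.obj i).hom.isOpenEmbedding.isOpen_range)
  let U : S.Opens := ⟨U₀, hopen⟩
  have hrange : ∀ i, Set.range (pullback.fst (f i) U.ι) = Set.range (D.obj i).hom := by
    intro i
    rw [Scheme.Pullback.range_fst, Scheme.Opens.range_ι]
    exact hpre i
  let e : ∀ i, pullback (f i) U.ι ≅ (D.obj i).left := fun i =>
    IsOpenImmersion.isoOfRangeEq (pullback.fst (f i) U.ι) (D.obj i).hom (hrange i)
  have he : ∀ i, (e i).hom ≫ (D.obj i).hom = pullback.fst (f i) U.ι := fun i =>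
    IsOpenImmersion.isoOfRangeEq_hom_fac _ _ _
  have he' : ∀ i, (e i).inv ≫ pullback.fst (f i) U.ι = (D.obj i).hom := fun i =>
    IsOpenImmersion.isoOfRangeEq_inv_fac _ _ _
  have hmono : ∀ i, Mono (D.obj i).hom := fun i => inferInstance
  refine ⟨Over.mk U.ι, ⟨?_⟩⟩
  let a : (Desc.toDDFam f).obj (Over.mk U.ι) ⟶ D :=
    ⟨fun i => Over.homMk (e i).hom (he i), fun T i j x₀ x₁ h v w hw => by
      rw [← cancel_mono (D.obj j).hom]
      have h1 := (D.φ x₀ x₁ h w).2
      have h2 := (((Desc.toDDFam f).obj (Over.mk U.ι)).φ x₀ x₁ h v).2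
      rw [h1, Category.assoc]
      change _ = _ ≫ (e j).hom ≫ (D.obj j).hom
      rw [he j]
      exact h2.symm⟩
  let b : D ⟶ (Desc.toDDFam f).obj (Over.mk U.ι) :=
    ⟨fun i => Over.homMk (e i).inv (he' i), fun T i j x₀ x₁ h v w hw => by
      have key : ∀ (g₁ g₂ : T ⟶ pullback (f j) U.ι),
          g₁ ≫ pullback.fst (f j) U.ι = g₂ ≫ pullback.fst (f j) U.ι → g₁ = g₂ :=
        fun g₁ g₂ hg => (cancel_mono _).1 hg
      apply key
      have h1 : (((Desc.toDDFam f).obj (Over.mk U.ι)).φ x₀ x₁ h w).1 ≫ pullback.fst (f j) U.ι = x₁ :=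
        (((Desc.toDDFam f).obj (Over.mk U.ι)).φ x₀ x₁ h w).2
      have h2 : (D.φ x₀ x₁ h v).1 ≫ (D.obj j).hom = x₁ := (D.φ x₀ x₁ h v).2
      refine h1.trans ?_
      change x₁ = ((D.φ x₀ x₁ h v).1 ≫ (e j).inv) ≫ pullback.fst (f j) U.ι
      rw [Category.assoc, he' j, h2]⟩
  exact
    { hom := a
      inv := b
      hom_inv_id := by
        apply Desc.SchDDFam.hom_ext
        funext i
        apply Over.OverMorphism.ext
        exact (e i).hom_inv_id
      inv_hom_id := by
        apply Desc.SchDDFam.hom_ext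
        funext i
        apply Over.OverMorphism.ext
        exact (e i).inv_hom_id }

end Groth.Agent.Lib.Helper9.OpenDesc
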