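import Groth.Agent.Lib.Helper9.DescSec7
import Groth.Agent.Lib.Helper9.OpenDesc1

set_option backward.isDefEq.respectTransparency false
set_option autoImplicit false
set_option linter.unusedSectionVars false
set_option linter.unusedVariables false
universe u
open CategoryTheory CategoryTheory.Limits AlgebraicGeometry Opposite

namespace Groth.Agent.Lib.Helper9.DescSec

open Groth.Agent.Lib.Helper9.DescFF

section openDescent

variable {S : Scheme.{u}} {ι : Type u} {X : ι → Scheme.{u}} {f : ∀ i, X i ⟶ S}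

/-- a compatible (saturated) family of opens of the members of an fpqc covering comes from a unique
open of the base -/
theorem exists_opens_of_saturated (hf : Presieve.ofArrows X f ∈ Scheme.fpqcPrecoverage S)
    (O : ∀ i, (X i).Opens)
    (hO : ∀ (i j : ι) (x : X i) (z : X j), z ∈ O j → f i x = f j z → x ∈ O i) :
    ∃ W : S.Opens, ∀ i, (f i) ⁻¹ᵁ W = O i := by
  let 𝒰 : PreZeroHypercover.{u} S := ⟨ι, X, f⟩
  have hm : 𝒰.presieve₀ ∈ Scheme.propQCPrecoverage @Flat S := hf
  have : QuasiCompactCover 𝒰 := by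
    rw [← Scheme.presieve₀_mem_qcPrecoverage_iff]; exact hm.1
  have hfl : ∀ i, Flat (𝒰.f i) := ((Scheme.presieve₀_mem_precoverage_iff 𝒰).1 hm.2).2
  let U₀ : Set S := ⋃ i, f i '' (O i : Set (X i))
  have hpre : ∀ i, (f i) ⁻¹' U₀ = (O i : Set (X i)) := by
    intro i; ext x; constructor
    · intro hx
      obtain ⟨j, z, hz, hzx⟩ := Set.mem_iUnion.1 hx
      exact hO i j x z hz hzx.symm
    · intro hx
      exact Set.mem_iUnion.2 ⟨i, x, hx, rfl⟩
  have hopen : IsOpen U₀ := FpqcLoc.isOpen_of_forall_isOpen_preimage 𝒰 hfl U₀ (fun i => by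
    change IsOpen ((f i) ⁻¹' U₀)
    rw [hpre]; exact (O i).2)
  refine ⟨⟨U₀, hopen⟩, fun i => ?_⟩
  ext x
  change x ∈ (f i) ⁻¹' U₀ ↔ x ∈ (O i : Set (X i))
  rw [hpre]

/-- the members of an fpqc covering are jointly surjective -/
theorem exists_mem_range_of_fpqc (hf : Presieve.ofArrows X f ∈ Scheme.fpqcPrecoverage S) (s : S) :
    ∃ i, s ∈ Set.range (f i) := by
  let 𝒰 : PreZeroHypercover.{u} S := ⟨ι, X, f⟩
  have hm : 𝒰.presieve₀ ∈ Scheme.propQCPrecoverage @Flat S := hf
  exact ((Scheme.presieve₀_mem_precoverage_iff 𝒰).1 hm.2).1 s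

end openDescent

section sub

variable {S : Scheme.{u}} {ι : Type u} {X : ι → Scheme.{u}} {f : ∀ i, X i ⟶ S}
  {D D' : Desc.SchDDFam f} (j : D' ⟶ D) [∀ i, IsOpenImmersion (j.hom i).left]

theorem Sec.map_injective {T : Scheme.{u}} {t : T ⟶ S} {σ σ' : Sec D' t}
    (h : σ.map j = σ'.map j) : σ = σ' := by
  apply Sec.ext'
  intro i
  rw [← cancel_mono (j.hom i).left]
  exact congrArg (fun τ : Sec D t => τ.s i) h

/-- a section of `D` whose components land in the open sub-datum `D'` is a section of `D'` -/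
noncomputable def Sec.lift {T : Scheme.{u}} {t : T ⟶ S} (τ : Sec D t)
    (h : ∀ i, Set.range (τ.s i) ⊆ Set.range (j.hom i).left) : Sec D' t where
  s i := IsOpenImmersion.lift (j.hom i).left (τ.s i) (h i)
  hs i := by
    rw [← CategoryTheory.Over.w (j.hom i), ← Category.assoc, IsOpenImmersion.lift_fac, τ.hs]
  compat := by
    intro T' i k y₀ y₁ hy h'
    rw [← cancel_mono (j.hom k).left, Category.assoc, IsOpenImmersion.lift_fac]
    have h1 : (((y₀ ≫ IsOpenImmersion.lift (j.hom i).left (τ.s i) (h i)) ≫ (j.hom i).left) ≫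
        (D.obj i).hom) ≫ f i = (y₁ ≫ pullback.fst (f k) t) ≫ f k := by
      rw [Category.assoc _ _ (D.obj i).hom, CategoryTheory.Over.w]; exact h'
    rw [← hom_tr j _ _ h' h1]
    have h2 : ((y₀ ≫ τ.s i) ≫ (D.obj i).hom) ≫ f i = (y₁ ≫ pullback.fst (f k) t) ≫ f k := by
      rw [Category.assoc y₀, IsOpenImmersion.lift_fac] at h1; exact h1
    refine (tr_congr D ?_ rfl h1 h2).trans (τ.compat y₀ y₁ hy h2)
    rw [Category.assoc, IsOpenImmersion.lift_fac]

theorem Sec.lift_map {T : Scheme.{u}} {t : T ⟶ S} (τ : Sec D t)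
    (h : ∀ i, Set.range (τ.s i) ⊆ Set.range (j.hom i).left) : (Sec.lift j τ h).map j = τ := by
  apply Sec.ext'
  intro i
  exact IsOpenImmersion.lift_fac _ _ _

theorem Sec.range_map_s {T : Scheme.{u}} {t : T ⟶ S} (σ : Sec D' t) (i : ι) :
    Set.range ((σ.map j).s i) ⊆ Set.range (j.hom i).left := by
  rintro _ ⟨y, rfl⟩
  exact ⟨σ.s i y, rfl⟩

theorem Sec.compat_hyp {T : Scheme.{u}} {t : T ⟶ S} (τ : Sec D t) {T' : Scheme.{u}} {i k : ι}
    (y₀ : T' ⟶ pullback (f k) t) (y₁ : T' ⟶ pullback (f i) t)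
    (hy : y₀ ≫ pullback.snd (f k) t = y₁ ≫ pullback.snd (f i) t) :
    ((y₀ ≫ τ.s k) ≫ (D.obj k).hom) ≫ f k = (y₁ ≫ pullback.fst (f i) t) ≫ f i := by
  calc ((y₀ ≫ τ.s k) ≫ (D.obj k).hom) ≫ f k = (y₀ ≫ pullback.fst (f k) t) ≫ f k := by
        rw [Sec.comp_s_hom]
    _ = (y₀ ≫ pullback.snd (f k) t) ≫ t := by
        rw [Category.assoc, pullback.condition, Category.assoc]
    _ = (y₁ ≫ pullback.snd (f i) t) ≫ t := by rw [hy]
    _ = (y₁ ≫ pullback.fst (f i) t) ≫ f i := by
        rw [Category.assoc, ← pullback.condition, Category.assoc]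

/-- the locus in `pullback (f i) t` where a section lands in the open sub-datum -/
noncomputable def subLocus {T : Scheme.{u}} {t : T ⟶ S} (τ : Sec D t) (i : ι) : (pullback (f i) t).Opens :=
  (τ.s i) ⁻¹ᵁ (j.hom i).left.opensRange

theorem mem_subLocus_iff {T : Scheme.{u}} {t : T ⟶ S} (τ : Sec D t) (i : ι)
    (y : ↥(pullback (f i) t)) : y ∈ subLocus j τ i ↔ (τ.s i) y ∈ Set.range (j.hom i).left :=
  Iff.rfl

/-- the loci are saturated for the covering of `T` by the `pullback (f i) t` -/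
theorem subLocus_saturated {T : Scheme.{u}} {t : T ⟶ S} (τ : Sec D t) (i k : ι)
    (y : ↥(pullback (f i) t)) (z : ↥(pullback (f k) t)) (hz : z ∈ subLocus j τ k)
    (hyz : (pullback.snd (f i) t) y = (pullback.snd (f k) t) z) : y ∈ subLocus j τ i := by
  obtain ⟨w, hw1, hw2⟩ := Scheme.Pullback.exists_preimage_pullback
    (f := pullback.snd (f i) t) (g := pullback.snd (f k) t) y z hyz
  let c := (pullback (pullback.snd (f i) t) (pullback.snd (f k) t)).fromSpecResidueField w
  let y₁ := c ≫ pullback.fst (pullback.snd (f i) t) (pullback.snd (f k) t)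
  let y₀ := c ≫ pullback.snd (pullback.snd (f i) t) (pullback.snd (f k) t)
  have hy : y₀ ≫ pullback.snd (f k) t = y₁ ≫ pullback.snd (f i) t := by
    simp only [y₀, y₁, Category.assoc, pullback.condition]
  have hr : Set.range (y₀ ≫ τ.s k) ⊆ Set.range (j.hom k).left := by
    rintro _ ⟨p, rfl⟩
    have hp : c p = w := by
      have : c p ∈ Set.range c := ⟨p, rfl⟩
      rw [Scheme.range_fromSpecResidueField] at this
      exact this
    have : (y₀ ≫ τ.s k) p = (τ.s k) z := by
      change (τ.s k) ((pullback.snd (pullback.snd (f i) t) (pullback.snd (f k) t)) (c p)) = _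
      rw [hp, hw2]
    rw [this]
    exact hz
  let d' := IsOpenImmersion.lift (j.hom k).left (y₀ ≫ τ.s k) hr
  have hd' : d' ≫ (j.hom k).left = y₀ ≫ τ.s k := IsOpenImmersion.lift_fac _ _ _
  have h' : ((y₀ ≫ τ.s k) ≫ (D.obj k).hom) ≫ f k = (y₁ ≫ pullback.fst (f i) t) ≫ f i := by
    exact Sec.compat_hyp τ y₀ y₁ hy
  have hc := τ.compat y₀ y₁ hy h'
  have h1 : ((d' ≫ (j.hom k).left) ≫ (D.obj k).hom) ≫ f k = (y₁ ≫ pullback.fst (f i) t) ≫ f i := by
    rw [hd']; exact h'
  have h0 : (d' ≫ (D'.obj k).hom) ≫ f k = (y₁ ≫ pullback.fst (f i) t) ≫ f i := by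
    rw [← CategoryTheory.Over.w (j.hom k), ← Category.assoc]; exact h1
  have e1 : tr D (y₀ ≫ τ.s k) (y₁ ≫ pullback.fst (f i) t) h' =
      tr D' d' (y₁ ≫ pullback.fst (f i) t) h0 ≫ (j.hom i).left :=
    (tr_congr D hd'.symm rfl h' h1).trans (hom_tr j d' _ h0 h1)
  have e2 : y₁ ≫ τ.s i = tr D' d' (y₁ ≫ pullback.fst (f i) t) h0 ≫ (j.hom i).left :=
    hc.symm.trans e1
  let pt : Spec ((pullback (pullback.snd (f i) t) (pullback.snd (f k) t)).residueField w) :=
    IsLocalRing.closedPoint _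
  have hpt : c pt = w := by
    have : c pt ∈ Set.range c := ⟨pt, rfl⟩
    rw [Scheme.range_fromSpecResidueField] at this
    exact this
  have hy1 : y₁ pt = y := by
    change (pullback.fst (pullback.snd (f i) t) (pullback.snd (f k) t)) (c pt) = y
    rw [hpt, hw1]
  rw [mem_subLocus_iff, ← hy1]
  refine ⟨(tr D' d' (y₁ ≫ pullback.fst (f i) t) h0) pt, ?_⟩
  have := congrArg (fun (g : Spec ((pullback (pullback.snd (f i) t)
    (pullback.snd (f k) t)).residueField w) ⟶ (D.obj i).left) => g pt) e2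
  exact this.symm

theorem cover_snd (hf : Presieve.ofArrows X f ∈ Scheme.fpqcPrecoverage S) {T : Scheme.{u}}
    (t : T ⟶ S) :
    Presieve.ofArrows (fun i => pullback (f i) t) (fun i => pullback.snd (f i) t) ∈
      Scheme.fpqcPrecoverage T :=
  Scheme.fpqcPrecoverage.mem_coverings_of_isPullback f hf t _
    (fun i => pullback.fst (f i) t) (fun i => (IsPullback.of_hasPullback (f i) t).flip)

theorem exists_subOpen (hf : Presieve.ofArrows X f ∈ Scheme.fpqcPrecoverage S) {T : Scheme.{u}}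
    {t : T ⟶ S} (τ : Sec D t) :
    ∃ W : T.Opens, ∀ i, (pullback.snd (f i) t) ⁻¹ᵁ W = subLocus j τ i :=
  exists_opens_of_saturated (cover_snd hf t) (fun i => subLocus j τ i)
    (fun i k y z hz hyz => subLocus_saturated j τ i k y z hz hyz)

/-- the open of `T` over which the section `τ` lands in the sub-datum -/
noncomputable def subOpen (hf : Presieve.ofArrows X f ∈ Scheme.fpqcPrecoverage S) {T : Scheme.{u}}
    {t : T ⟶ S} (τ : Sec D t) : T.Opens := (exists_subOpen j hf τ).choose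

theorem preimage_subOpen (hf : Presieve.ofArrows X f ∈ Scheme.fpqcPrecoverage S) {T : Scheme.{u}}
    {t : T ⟶ S} (τ : Sec D t) (i : ι) :
    (pullback.snd (f i) t) ⁻¹ᵁ subOpen j hf τ = subLocus j τ i :=
  (exists_subOpen j hf τ).choose_spec i

theorem mem_subOpen_iff (hf : Presieve.ofArrows X f ∈ Scheme.fpqcPrecoverage S) {T : Scheme.{u}}
    {t : T ⟶ S} (τ : Sec D t) (i : ι) (y : ↥(pullback (f i) t)) :
    (pullback.snd (f i) t) y ∈ subOpen j hf τ ↔ (τ.s i) y ∈ Set.range (j.hom i).left := by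
  rw [← mem_subLocus_iff, ← preimage_subOpen j hf τ i]
  rfl

end sub

end Groth.Agent.Lib.Helper9.DescSec
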