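import Groth.Agent.Lib.Helper9.DescSub1

set_option backward.isDefEq.respectTransparency false
set_option autoImplicit false
set_option linter.unusedSectionVars false
set_option linter.unusedVariables false
universe u
open CategoryTheory CategoryTheory.Limits AlgebraicGeometry Opposite

namespace Groth.Agent.Lib.Helper9.DescSec

open Groth.Agent.Lib.Helper9.DescFF

variable {S : Scheme.{u}} {ι : Type u} {X : ι → Scheme.{u}} {f : ∀ i, X i ⟶ S}
  {D : Desc.SchDDFam f}

theorem El.pull_eq_of_res_eq {T₀ T' : Scheme.{u}} (a : El D T₀) {g g' : T' ⟶ T₀}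
    (H : El.res g a = El.res g' a) (t' : T' ⟶ S) (h : g ≫ a.1 = t') (h' : g' ≫ a.1 = t') :
    a.2.pull g t' h = a.2.pull g' t' h' := by
  subst h'
  obtain ⟨h1, h2⟩ := El.eq_iff H
  have h2' : (a.2.pull g (g ≫ a.1) rfl).pull (𝟙 T') (g' ≫ a.1) (by
      rw [Category.id_comp]; exact h) = a.2.pull g' (g' ≫ a.1) rfl := h2
  rw [← h2', Sec.pull_pull _ _ _ _ _ _ _ (by rw [Category.id_comp]; exact h)]
  exact Sec.pull_congr _ (Category.id_comp _).symm _ _ _

/-- representability of the functor of sections gives a universal section -/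
theorem exists_isUniv_of_isRepresentable (hrep : (secFunctor D).IsRepresentable) :
    ∃ (U₀ : Over S) (σ₀ : Sec D U₀.hom), IsUniv U₀ σ₀ := by
  obtain ⟨Y, ⟨h⟩⟩ := hrep
  let e₀ : El D Y := h.homEquiv (𝟙 Y)
  have hres : ∀ {T : Scheme.{u}} (g : T ⟶ Y), El.res g e₀ = h.homEquiv g := by
    intro T g
    have := h.homEquiv_comp g (𝟙 Y)
    rw [Category.comp_id] at this
    exact this.symm
  refine ⟨Over.mk e₀.1, e₀.2, ?_⟩
  intro T t τ
  let g : T ⟶ Y := h.homEquiv.symm (⟨t, τ⟩ : El D T)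
  have hg : El.res g e₀ = (⟨t, τ⟩ : El D T) := by rw [hres]; exact h.homEquiv.apply_symm_apply _
  obtain ⟨h1, h2⟩ := El.eq_iff hg
  have h1' : g ≫ e₀.1 = t := h1
  refine ⟨g, ⟨h1', ?_⟩, ?_⟩
  · have h2' : (e₀.2.pull g (g ≫ e₀.1) rfl).pull (𝟙 T) t (by rw [Category.id_comp]; exact h1') = τ :=
      h2
    rw [← h2', Sec.pull_pull _ _ _ _ _ _ _ (by rw [Category.id_comp]; exact h1')]
    exact Sec.pull_congr _ (Category.id_comp _).symm _ _ _
  · rintro g' ⟨hg'1, hg'2⟩
    have : El.res g' e₀ = (⟨t, τ⟩ : El D T) := by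
      apply El.ext hg'1
      have e1 : (e₀.2.pull g' (g' ≫ e₀.1) rfl).pull (𝟙 T) t (by rw [Category.id_comp]; exact hg'1) =
          e₀.2.pull (𝟙 T ≫ g') t (by rw [Category.id_comp]; exact hg'1) :=
        Sec.pull_pull _ _ _ _ _ _ _ _
      exact e1.trans ((Sec.pull_congr _ (Category.id_comp _) _ _ hg'1).trans hg'2)
    rw [hres] at this
    exact (h.homEquiv.symm_apply_apply g').symm.trans (congrArg h.homEquiv.symm this)

section sub

variable (hf : Presieve.ofArrows X f ∈ Scheme.fpqcPrecoverage S)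
  {A : Type u} (D' : A → Desc.SchDDFam f) (j : ∀ a, D' a ⟶ D)
  [∀ a i, IsOpenImmersion ((j a).hom i).left]
  (U : ∀ a, Over S) (σ' : ∀ a, Sec (D' a) (U a).hom) (hσ' : ∀ a, IsUniv (U a) (σ' a))

/-- the elements of the functor of sections of `D` given by the universal sections of the
sub-data -/
noncomputable def elSub (a : A) : El D (U a).left := ⟨(U a).hom, (σ' a).map (j a)⟩

/-- the open of `T` where the element `e` comes from the `a`-th sub-datum -/
noncomputable def Wsub (a : A) {T : Scheme.{u}} (e : El D T) : T.Opens := subOpen (j a) hf e.2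

theorem range_resW (a : A) {T : Scheme.{u}} (e : El D T) (i : ι) :
    Set.range ((e.2.pull (Wsub hf D' j a e).ι ((Wsub hf D' j a e).ι ≫ e.1) rfl).s i) ⊆
      Set.range ((j a).hom i).left := by
  rintro _ ⟨y', rfl⟩
  rw [Sec.pull_s]
  let l : pullback (f i) ((Wsub hf D' j a e).ι ≫ e.1) ⟶ pullback (f i) e.1 :=
    pullback.lift (pullback.fst _ _) (pullback.snd _ _ ≫ (Wsub hf D' j a e).ι) (by
      rw [pullback.condition, Category.assoc])
  have hl : l ≫ pullback.snd (f i) e.1 = pullback.snd _ _ ≫ (Wsub hf D' j a e).ι :=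
    pullback.lift_snd _ _ _
  change (e.2.s i) (l y') ∈ _
  rw [← mem_subOpen_iff (j a) hf e.2 i (l y')]
  have : (pullback.snd (f i) e.1) (l y') =
      (Wsub hf D' j a e).ι ((pullback.snd (f i) ((Wsub hf D' j a e).ι ≫ e.1)) y') := by
    rw [← Scheme.Hom.comp_apply, hl, Scheme.Hom.comp_apply]
  rw [this]
  exact ((pullback.snd (f i) ((Wsub hf D' j a e).ι ≫ e.1)) y').2

include hσ' in
theorem exists_liftSub (a : A) {T : Scheme.{u}} (e : El D T) :
    ∃ l : (Wsub hf D' j a e).toScheme ⟶ (U a).left,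
      El.res l (elSub D' j U σ' a) = El.res (Wsub hf D' j a e).ι e := by
  obtain ⟨l, ⟨hl1, hl2⟩, -⟩ := hσ' a _ ((Wsub hf D' j a e).ι ≫ e.1)
    (Sec.lift (j a) (e.2.pull (Wsub hf D' j a e).ι _ rfl) (range_resW hf D' j a e))
  refine ⟨l, ?_⟩
  apply El.ext hl1
  change ((((σ' a).map (j a)).pull l (l ≫ (U a).hom) rfl).pull (𝟙 _) _ _) = e.2.pull _ _ rfl
  rw [Sec.pull_pull _ _ _ _ _ _ _ (by rw [Category.id_comp]; exact hl1)]
  refine (Sec.pull_congr _ (Category.id_comp _) _ _ hl1).trans ?_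
  rw [Sec.map_pull, hl2, Sec.lift_map]

/-- the local lift -/
noncomputable def liftSub (a : A) {T : Scheme.{u}} (e : El D T) :
    (Wsub hf D' j a e).toScheme ⟶ (U a).left := (exists_liftSub hf D' j U σ' hσ' a e).choose

theorem liftSub_spec (a : A) {T : Scheme.{u}} (e : El D T) :
    El.res (liftSub hf D' j U σ' hσ' a e) (elSub D' j U σ' a) = El.res (Wsub hf D' j a e).ι e :=
  (exists_liftSub hf D' j U σ' hσ' a e).choose_spec

theorem comm_sq_sub (a : A) {T T' : Scheme.{u}} (e : El D T)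
    (c : T' ⟶ (Wsub hf D' j a e).toScheme) :
    El.res (c ≫ liftSub hf D' j U σ' hσ' a e) (elSub D' j U σ' a) =
      El.res (c ≫ (Wsub hf D' j a e).ι) e := by
  rw [← El.res_res, liftSub_spec, El.res_res]

include hσ' in
theorem elSub_res_injective (a : A) {T' : Scheme.{u}} {b b' : T' ⟶ (U a).left}
    (h : El.res b (elSub D' j U σ' a) = El.res b' (elSub D' j U σ' a)) : b = b' := by
  have h1 : b ≫ (U a).hom = b' ≫ (U a).hom := (El.eq_iff h).1
  have h2 := El.pull_eq_of_res_eq (elSub D' j U σ' a) h (b' ≫ (U a).hom) h1 rfl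
  change ((σ' a).map (j a)).pull b _ h1 = ((σ' a).map (j a)).pull b' _ rfl at h2
  rw [Sec.map_pull, Sec.map_pull] at h2
  have h3 := Sec.map_injective (j a) h2
  obtain ⟨g, -, hguniq⟩ := hσ' a T' (b' ≫ (U a).hom) ((σ' a).pull b' _ rfl)
  rw [hguniq b ⟨h1, h3⟩, hguniq b' ⟨rfl, rfl⟩]

include hσ' in
theorem exists_lift_sq_sub (a : A) {T T' : Scheme.{u}} (e : El D T) (b : T' ⟶ (U a).left)
    (c' : T' ⟶ T) (h : El.res b (elSub D' j U σ' a) = El.res c' e) :
    ∃ c : T' ⟶ (Wsub hf D' j a e).toScheme,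
      c ≫ liftSub hf D' j U σ' hσ' a e = b ∧ c ≫ (Wsub hf D' j a e).ι = c' := by
  have h1 : b ≫ (U a).hom = c' ≫ e.1 := (El.eq_iff h).1
  have hr : Set.range c' ⊆ Set.range (Wsub hf D' j a e).ι := by
    rw [Scheme.Opens.range_ι]
    rintro _ ⟨x, rfl⟩
    obtain ⟨i, y', hy'⟩ := exists_mem_range_of_fpqc (cover_snd hf (c' ≫ e.1)) x
    let l : pullback (f i) (c' ≫ e.1) ⟶ pullback (f i) e.1 :=
      pullback.lift (pullback.fst _ _) (pullback.snd _ _ ≫ c') (by
        rw [pullback.condition, Category.assoc])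
    have hl : l ≫ pullback.snd (f i) e.1 = pullback.snd _ _ ≫ c' := pullback.lift_snd _ _ _
    have hx : c' x = (pullback.snd (f i) e.1) (l y') := by
      rw [← Scheme.Hom.comp_apply, hl, Scheme.Hom.comp_apply, hy']
    change c' x ∈ subOpen (j a) hf e.2
    rw [hx, mem_subOpen_iff (j a) hf e.2 i (l y')]
    -- the value of the section at the point
    have hc : pullback.fst (f i) (c' ≫ e.1) ≫ f i =
        pullback.snd (f i) (c' ≫ e.1) ≫ (El.res c' e).1 := pullback.condition
    have hb : pullback.fst (f i) (c' ≫ e.1) ≫ f i =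
        pullback.snd (f i) (c' ≫ e.1) ≫ (El.res b (elSub D' j U σ' a)).1 := by
      rw [pullback.condition]
      change _ = _ ≫ b ≫ (U a).hom
      rw [h1]
    have key := El.pt_eq_of_eq h (pullback.snd (f i) (c' ≫ e.1)) (pullback.fst (f i) (c' ≫ e.1))
      hb hc
    rw [El.res_pt _ _ _ _ _ (by rw [hb]; rfl), El.res_pt _ _ _ _ _ (by rw [hc]; rfl)] at key
    change ((σ' a).map (j a)).pt _ _ _ = _ at key
    rw [Sec.map_pt] at key
    have e1 : e.2.pt (pullback.snd (f i) (c' ≫ e.1) ≫ c') (pullback.fst (f i) (c' ≫ e.1))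
        (by rw [hc]; rfl) = l ≫ e.2.s i := rfl
    rw [e1] at key
    refine ⟨((σ' a).pt (pullback.snd (f i) (c' ≫ e.1) ≫ b) (pullback.fst (f i) (c' ≫ e.1))
      (by rw [hb]; rfl)) y', ?_⟩
    have := congrArg (fun (g : pullback (f i) (c' ≫ e.1) ⟶ (D.obj i).left) => g y') key
    exact this
  refine ⟨IsOpenImmersion.lift (Wsub hf D' j a e).ι c' hr, ?_, IsOpenImmersion.lift_fac _ _ _⟩
  apply elSub_res_injective D' j U σ' hσ' a
  rw [comm_sq_sub, IsOpenImmersion.lift_fac]
  exact h.symm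

theorem isPullback_liftSub (a : A) {T : Scheme.{u}} (g : yoneda.obj T ⟶ secFunctor D) :
    IsPullback (yoneda.map (liftSub hf D' j U σ' hσ' a (yonedaEquiv g)))
      (yoneda.map (Wsub hf D' j a (yonedaEquiv g)).ι) (homOfEl (elSub D' j U σ' a)) g := by
  apply IsPullback.of_forall_isPullback_app
  rintro ⟨T'⟩
  rw [Types.isPullback_iff]
  refine ⟨?_, ?_, ?_⟩
  · ext c
    have := comm_sq_sub hf D' j U σ' hσ' a (T' := T') (yonedaEquiv g) c
    rw [← g_app] at this
    exact this
  · intro c₁ c₂ h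
    have h2 : c₁ ≫ (Wsub hf D' j a (yonedaEquiv g)).ι = c₂ ≫ (Wsub hf D' j a (yonedaEquiv g)).ι :=
      h.2
    exact (cancel_mono _).1 h2
  · intro b c' h
    have h0 : El.res b (elSub D' j U σ' a) = El.res c' (yonedaEquiv g) := by
      rw [← g_app]
      exact h
    obtain ⟨c, hc1, hc2⟩ := exists_lift_sq_sub hf D' j U σ' hσ' a (yonedaEquiv g) b c' h0
    exact ⟨c, hc1, hc2⟩

include hf hσ' in
theorem homOfEl_isOpenImmersion_sub (a : A) :
    IsOpenImmersion.presheaf (homOfEl (elSub D' j U σ' a)) := by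
  apply MorphismProperty.relative.of_exists
  intro T g
  exact ⟨(Wsub hf D' j a (yonedaEquiv g)).toScheme,
    yoneda.map (liftSub hf D' j U σ' hσ' a (yonedaEquiv g)),
    (Wsub hf D' j a (yonedaEquiv g)).ι, isPullback_liftSub hf D' j U σ' hσ' a g, inferInstance⟩

variable (hcov : ∀ (i : ι) (v : ↥(D.obj i).left), ∃ a, v ∈ Set.range ((j a).hom i).left)

include hcov in
theorem isOpenCover_Wsub {T : Scheme.{u}} (e : El D T) :
    TopologicalSpace.IsOpenCover (fun a : A => Wsub hf D' j a e) := by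
  rw [TopologicalSpace.IsOpenCover]
  apply top_le_iff.1
  intro x _
  obtain ⟨i, y, hy⟩ := exists_mem_range_of_fpqc (cover_snd hf e.1) x
  obtain ⟨a, ha⟩ := hcov i ((e.2.s i) y)
  refine TopologicalSpace.Opens.mem_iSup.2 ⟨a, ?_⟩
  change x ∈ subOpen (j a) hf e.2
  rw [← hy, mem_subOpen_iff (j a) hf e.2 i y]
  exact ha

include hf hσ' hcov in
theorem isLocallySurjective_sub :
    Presheaf.IsLocallySurjective Scheme.zariskiTopology
      (Sigma.desc (fun a => homOfEl (elSub D' j U σ' a)) : _ ⟶ (secSheaf D).1) where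
  imageSieve_mem {T} s := by
    let e : El D T := s
    refine Scheme.zariskiTopology.superset_covering ?_
      (T.openCoverOfIsOpenCover _ (isOpenCover_Wsub hf D' j hcov e)).mem_grothendieckTopology
    refine (Sieve.generate_le_iff _ _).2 ?_
    rintro V c ⟨a⟩
    refine ⟨(Sigma.ι (fun a => yoneda.obj (U a).left) a).app (op (Wsub hf D' j a e).toScheme)
      (liftSub hf D' j U σ' hσ' a e), ?_⟩
    have h1 : (Sigma.ι (fun a => yoneda.obj (U a).left) a ≫
        Sigma.desc (fun a => homOfEl (elSub D' j U σ' a))) = homOfEl (elSub D' j U σ' a) :=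
      Sigma.ι_desc _ _
    have h2 := comm_sq_sub hf D' j U σ' hσ' a e (𝟙 (Wsub hf D' j a e).toScheme)
    rw [Category.id_comp, Category.id_comp] at h2
    have h3 : (Sigma.ι (fun a => yoneda.obj (U a).left) a ≫
        Sigma.desc (fun a => homOfEl (elSub D' j U σ' a))).app
        (op (Wsub hf D' j a e).toScheme) (liftSub hf D' j U σ' hσ' a e) =
          El.res (Wsub hf D' j a e).ι e := by
      rw [h1]; exact h2
    exact h3

include hf hσ' hcov in
/-- a descent datum covered by open sub-data whose functors of sections are representable has a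
representable functor of sections -/
theorem exists_isUniv_of_sub : ∃ (U₀ : Over S) (σ₀ : Sec D U₀.hom), IsUniv U₀ σ₀ := by
  haveI := isLocallySurjective_sub hf D' j U σ' hσ' hcov
  have hrep : (secSheaf D).1.IsRepresentable :=
    Scheme.LocalRepresentability.isRepresentable (F := secSheaf D)
      (f := fun a => homOfEl (elSub D' j U σ' a))
      (fun a => homOfEl_isOpenImmersion_sub hf D' j U σ' hσ' a)
  exact exists_isUniv_of_isRepresentable hrep

end sub

/-- local effectivity: a descent datum (relative to an fpqc covering) covered by effective open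
sub-data is effective -/
theorem isEffective_of_sub (hf : Presieve.ofArrows X f ∈ Scheme.fpqcPrecoverage S)
    {A : Type u} (D' : A → Desc.SchDDFam f) (j : ∀ a, D' a ⟶ D)
    (hj : ∀ a i, IsOpenImmersion ((j a).hom i).left) (hD' : ∀ a, (D' a).IsEffective)
    (hcov : ∀ (i : ι) (v : ↥(D.obj i).left), ∃ a, v ∈ Set.range ((j a).hom i).left) :
    D.IsEffective := by
  choose U hU using hD'
  have hU' : ∀ a, ∃ σ' : Sec (D' a) (U a).hom, IsUniv (U a) σ' := fun a => by
    obtain ⟨e⟩ := hU a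
    exact exists_isUniv_of_iso hf (U a) e
  choose σ' hσ' using hU'
  obtain ⟨U₀, σ₀, h₀⟩ := exists_isUniv_of_sub hf D' j U σ' hσ' hcov
  exact isEffective_of_isUniv D U₀ σ₀ h₀

end Groth.Agent.Lib.Helper9.DescSec
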