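import Groth.Agent.Lib.Helper9.DescSub2

set_option backward.isDefEq.respectTransparency false
set_option autoImplicit false
set_option linter.unusedSectionVars false
set_option linter.unusedVariables false
universe w u
open CategoryTheory CategoryTheory.Limits AlgebraicGeometry Opposite

namespace Groth.Agent.Lib.Helper9.DescSec

open Groth.Agent.Lib.Helper9.DescFF

section restrict

variable {S : Scheme.{u}} {ι : Type w} {X : ι → Scheme.{u}} {f : ∀ i, X i ⟶ S}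
  (D : Desc.SchDDFam f) (O : ∀ i, (D.obj i).left.Opens)

/-- a family of opens of the members of a descent datum is stable when transport preserves it -/
def IsStable : Prop :=
  ∀ ⦃T : Scheme.{u}⦄ ⦃i j : ι⦄ (d : T ⟶ (D.obj i).left) (x₁ : T ⟶ X j)
    (h : (d ≫ (D.obj i).hom) ≫ f i = x₁ ≫ f j),
    Set.range d ⊆ (O i : Set (D.obj i).left) → Set.range (tr D d x₁ h) ⊆ (O j : Set (D.obj j).left)

variable {D O} (hO : IsStable D O)

theorem range_comp_ι {T : Scheme.{u}} {i : ι} (v : T ⟶ (O i).toScheme) :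
    Set.range (v ≫ (O i).ι) ⊆ (O i : Set (D.obj i).left) := by
  rintro _ ⟨x, rfl⟩
  exact (v x).2

theorem restr_hyp {T : Scheme.{u}} {i j : ι} (x₀ : T ⟶ X i) (x₁ : T ⟶ X j)
    (h : x₀ ≫ f i = x₁ ≫ f j) (v : T ⟶ (O i).toScheme)
    (hv : v ≫ (O i).ι ≫ (D.obj i).hom = x₀) :
    ((v ≫ (O i).ι) ≫ (D.obj i).hom) ≫ f i = x₁ ≫ f j := by
  have : (v ≫ (O i).ι) ≫ (D.obj i).hom = x₀ := (Category.assoc _ _ _).trans hv
  rw [this, h]

theorem lifts_hom {T : Scheme.{u}} {i : ι} {x : T ⟶ X i}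
    (v : Desc.Lifts (Over.mk ((O i).ι ≫ (D.obj i).hom)) x) :
    (v.1 ≫ (O i).ι) ≫ (D.obj i).hom = x := (Category.assoc _ _ _).trans v.2

include hO in
theorem range_tr_restr {T : Scheme.{u}} {i j : ι} (x₀ : T ⟶ X i) (x₁ : T ⟶ X j)
    (h : x₀ ≫ f i = x₁ ≫ f j) (v : T ⟶ (O i).toScheme)
    (hv : v ≫ (O i).ι ≫ (D.obj i).hom = x₀) :
    Set.range (tr D (v ≫ (O i).ι) x₁ (restr_hyp x₀ x₁ h v hv)) ⊆ Set.range (O j).ι := by
  rw [Scheme.Opens.range_ι]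
  exact hO _ _ _ (range_comp_ι v)

/-- transport in the restricted datum -/
noncomputable def restrMap {T : Scheme.{u}} {i j : ι} (x₀ : T ⟶ X i) (x₁ : T ⟶ X j)
    (h : x₀ ≫ f i = x₁ ≫ f j) (v : Desc.Lifts (Over.mk ((O i).ι ≫ (D.obj i).hom)) x₀) :
    Desc.Lifts (Over.mk ((O j).ι ≫ (D.obj j).hom)) x₁ :=
  ⟨IsOpenImmersion.lift (O j).ι (tr D (v.1 ≫ (O i).ι) x₁ (restr_hyp x₀ x₁ h v.1 v.2))
      (range_tr_restr hO x₀ x₁ h v.1 v.2), by
    change _ ≫ (O j).ι ≫ (D.obj j).hom = x₁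
    rw [← Category.assoc, IsOpenImmersion.lift_fac, tr_hom]⟩

theorem restrMap_ι {T : Scheme.{u}} {i j : ι} (x₀ : T ⟶ X i) (x₁ : T ⟶ X j)
    (h : x₀ ≫ f i = x₁ ≫ f j) (v : Desc.Lifts (Over.mk ((O i).ι ≫ (D.obj i).hom)) x₀) :
    (restrMap hO x₀ x₁ h v).1 ≫ (O j).ι =
      tr D (v.1 ≫ (O i).ι) x₁ (restr_hyp x₀ x₁ h v.1 v.2) :=
  IsOpenImmersion.lift_fac _ _ _

theorem lifts_ext_ι {T : Scheme.{u}} {i : ι} {x : T ⟶ X i}
    {v v' : Desc.Lifts (Over.mk ((O i).ι ≫ (D.obj i).hom)) x}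
    (h : v.1 ≫ (O i).ι = v'.1 ≫ (O i).ι) : v = v' :=
  Subtype.ext ((cancel_mono (O i).ι).1 h)

theorem restrMap_restrMap {T : Scheme.{u}} {i j k : ι} (x₀ : T ⟶ X i) (x₁ : T ⟶ X j)
    (x₂ : T ⟶ X k) (h₀₁ : x₀ ≫ f i = x₁ ≫ f j) (h₁₂ : x₁ ≫ f j = x₂ ≫ f k)
    (v : Desc.Lifts (Over.mk ((O i).ι ≫ (D.obj i).hom)) x₀) :
    (restrMap hO x₁ x₂ h₁₂ (restrMap hO x₀ x₁ h₀₁ v)).1 ≫ (O k).ι =
      tr D (v.1 ≫ (O i).ι) x₂ (restr_hyp x₀ x₂ (h₀₁.trans h₁₂) v.1 v.2) := by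
  have h' : (tr D (v.1 ≫ (O i).ι) x₁ (restr_hyp x₀ x₁ h₀₁ v.1 v.2) ≫ (D.obj j).hom) ≫ f j =
      x₂ ≫ f k := by rw [tr_hom]; exact h₁₂
  refine (restrMap_ι hO x₁ x₂ h₁₂ _).trans ?_
  refine (tr_congr D (restrMap_ι hO x₀ x₁ h₀₁ v) rfl _ h').trans ?_
  exact tr_tr D _ _ _ _ _ _

theorem restrMap_self {T : Scheme.{u}} {i : ι} (x : T ⟶ X i)
    (v : Desc.Lifts (Over.mk ((O i).ι ≫ (D.obj i).hom)) x) (h : x ≫ f i = x ≫ f i) :
    (restrMap hO x x h v).1 ≫ (O i).ι = v.1 ≫ (O i).ι :=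
  (restrMap_ι hO x x h v).trans (tr_self D _ _ (lifts_hom v) _)

/-- the restriction of a descent datum to a stable family of opens -/
noncomputable def restrictDD : Desc.SchDDFam f where
  obj i := Over.mk ((O i).ι ≫ (D.obj i).hom)
  φ T i j x₀ x₁ h :=
    { toFun := restrMap hO x₀ x₁ h
      invFun := restrMap hO x₁ x₀ h.symm
      left_inv := fun v => lifts_ext_ι (by
        refine (restrMap_restrMap hO x₀ x₁ x₀ h h.symm v).trans ?_
        exact tr_self D _ _ (lifts_hom v) _)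
      right_inv := fun v => lifts_ext_ι (by
        refine (restrMap_restrMap hO x₁ x₀ x₁ h.symm h v).trans ?_
        exact tr_self D _ _ (lifts_hom v) _) }
  φ_natural T T' g i j x₀ x₁ h y₀ y₁ hy₀ hy₁ h' v v' hv' := by
    subst hy₀ hy₁
    apply (cancel_mono (O j).ι).1
    refine (restrMap_ι hO _ _ h' v').trans ?_
    refine Eq.trans ?_ (Category.assoc _ _ _).symm
    refine Eq.trans ?_ (congrArg (g ≫ ·) (restrMap_ι hO _ _ h v)).symm
    have h'' : ((g ≫ v.1 ≫ (O i).ι) ≫ (D.obj i).hom) ≫ f i = (g ≫ x₁) ≫ f j := by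
      rw [Category.assoc g, lifts_hom v]; exact h'
    refine Eq.trans ?_ (tr_natural D g _ _ _ h'').symm
    exact tr_congr D (by rw [hv', Category.assoc]) rfl _ _
  φ_self T i x v := lifts_ext_ι (restrMap_self hO x v rfl)
  φ_comp T i j k x₀ x₁ x₂ h₀₁ h₁₂ v := lifts_ext_ι (by
    refine (restrMap_restrMap hO x₀ x₁ x₂ h₀₁ h₁₂ v).trans ?_
    exact (restrMap_ι hO x₀ x₂ (h₀₁.trans h₁₂) v).symm)

/-- the inclusion of the restricted datum -/
noncomputable def restrictι : restrictDD hO ⟶ D :=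
  ⟨fun i => Over.homMk (O i).ι rfl, by
    intro T i j x₀ x₁ h v w hw
    have hw' : w.1 = v.1 ≫ (O i).ι := hw
    change _ = (restrMap hO x₀ x₁ h v).1 ≫ (O j).ι
    rw [restrMap_ι, phi_eq_tr]
    exact tr_congr D hw' rfl _ _⟩

instance (i : ι) : IsOpenImmersion ((restrictι hO).hom i).left :=
  inferInstanceAs (IsOpenImmersion (O i).ι)

theorem range_restrictι (i : ι) :
    Set.range ((restrictι hO).hom i).left = (O i : Set (D.obj i).left) :=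
  Scheme.Opens.range_ι (O i)

end restrict

end Groth.Agent.Lib.Helper9.DescSec
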