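import Groth.Agent.Lib.Helper9.DescSub3

set_option backward.isDefEq.respectTransparency false
set_option autoImplicit false
set_option linter.unusedSectionVars false
set_option linter.unusedVariables false
universe u
open CategoryTheory CategoryTheory.Limits AlgebraicGeometry Opposite

namespace Groth.Agent.Lib.Helper9.DescSec

open Groth.Agent.Lib.Helper9.DescFF

section loc'

variable {S : Scheme.{u}} {ι : Type u} {X : ι → Scheme.{u}} {f : ∀ i, X i ⟶ S}
  (hf : Presieve.ofArrows X f ∈ Scheme.fpqcPrecoverage S) {D : Desc.SchDDFam f}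
  {A : Type u} {S' : A → Scheme.{u}} (q : ∀ a, S' a ⟶ S) [∀ a, IsOpenImmersion (q a)]
  (U : ∀ a, Over (S' a)) (σ : ∀ a, Sec D ((U a).hom ≫ q a))
  (hσ : ∀ a, IsUnivOn (q a) D (U a) (σ a))
  (hsupp : ∀ {T : Scheme.{u}} (e : El D T) (x : T), ∃ a, e.1 x ∈ Set.range (q a))

include hsupp in
theorem isOpenCover_Wof' {T : Scheme.{u}} (e : El D T) :
    TopologicalSpace.IsOpenCover (fun a : A => Wof q a e) := by
  rw [TopologicalSpace.IsOpenCover]
  apply top_le_iff.1
  intro x _
  obtain ⟨a, ha⟩ := hsupp e x
  exact TopologicalSpace.Opens.mem_iSup.2 ⟨a, ha⟩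

include hσ hsupp in
theorem isLocallySurjective_sigmaDesc' :
    Presheaf.IsLocallySurjective Scheme.zariskiTopology
      (Sigma.desc (fun a => homOfEl (elOf q U σ a)) : _ ⟶ (secSheaf D).1) where
  imageSieve_mem {T} s := by
    let e : El D T := s
    refine Scheme.zariskiTopology.superset_covering ?_
      (T.openCoverOfIsOpenCover _ (isOpenCover_Wof' q hsupp e)).mem_grothendieckTopology
    refine (Sieve.generate_le_iff _ _).2 ?_
    rintro V c ⟨a⟩
    refine ⟨(Sigma.ι (fun a => yoneda.obj (U a).left) a).app (op (Wof q a e).toScheme)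
      (liftW q U σ hσ a e), ?_⟩
    have h1 : (Sigma.ι (fun a => yoneda.obj (U a).left) a ≫
        Sigma.desc (fun a => homOfEl (elOf q U σ a))) = homOfEl (elOf q U σ a) :=
      Sigma.ι_desc _ _
    have h2 := comm_sq q U σ hσ a e (𝟙 (Wof q a e).toScheme)
    rw [Category.id_comp, Category.id_comp] at h2
    have h3 : (Sigma.ι (fun a => yoneda.obj (U a).left) a ≫
        Sigma.desc (fun a => homOfEl (elOf q U σ a))).app
        (op (Wof q a e).toScheme) (liftW q U σ hσ a e) = El.res (Wof q a e).ι e := by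
      rw [h1]; exact h2
    exact h3

include hσ hsupp in
/-- Zariski-local representability of the functor of sections, with the covering condition only
required on the support of the functor. -/
theorem exists_isUniv_of_local' : ∃ (U₀ : Over S) (σ₀ : Sec D U₀.hom), IsUniv U₀ σ₀ := by
  haveI := isLocallySurjective_sigmaDesc' q U σ hσ hsupp
  have hrep : (secSheaf D).1.IsRepresentable :=
    Scheme.LocalRepresentability.isRepresentable (F := secSheaf D)
      (f := fun a => homOfEl (elOf q U σ a)) (fun a => homOfEl_isOpenImmersion q U σ hσ a)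
  exact exists_isUniv_of_isRepresentable hrep

variable {X' : A → ι → Scheme.{u}} (f' : ∀ a i, X' a i ⟶ S' a) (p' : ∀ a i, X' a i ⟶ X i)
  (w : ∀ a i, p' a i ≫ f i = f' a i ≫ q a)
  (hpb : ∀ a i, IsPullback (p' a i) (f' a i) (f i) (q a))

include hf hsupp hpb in
/-- effectivity is local on the part of the base over which the descent datum lives -/
theorem isEffective_of_local'
    (h : ∀ a, (pullD (w a) D).IsEffective) : D.IsEffective := by
  have hf' : ∀ a, Presieve.ofArrows (X' a) (f' a) ∈ Scheme.fpqcPrecoverage (S' a) := fun a =>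
    Scheme.fpqcPrecoverage.mem_coverings_of_isPullback f hf (q a) _ (p' a)
      (fun i => (hpb a i).flip)
  choose U hU using h
  have hU' : ∀ a, ∃ σ' : Sec (pullD (w a) D) (U a).hom, IsUniv (U a) σ' := fun a => by
    obtain ⟨e⟩ := hU a
    exact exists_isUniv_of_iso (hf' a) (U a) e
  choose σ' hσ' using hU'
  obtain ⟨U₀, σ₀, h₀⟩ := exists_isUniv_of_local' q U (fun a => bcInv (w a) (hpb a) (σ' a))
    (fun a => isUnivOn_of_isUniv (w a) (hpb a) (U a) (σ' a) (hσ' a)) hsupp
  exact isEffective_of_isUniv D U₀ σ₀ h₀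

end loc'

section support

variable {S : Scheme.{u}} {ι : Type u} {X : ι → Scheme.{u}} {f : ∀ i, X i ⟶ S}
  (hf : Presieve.ofArrows X f ∈ Scheme.fpqcPrecoverage S) (D : Desc.SchDDFam f)

include hf in
theorem El.mem_of_support (S₀ : S.Opens)
    (hsupp : ∀ i (v : ↥(D.obj i).left), (f i) ((D.obj i).hom v) ∈ S₀)
    {T : Scheme.{u}} (e : El D T) (x : T) : e.1 x ∈ S₀ := by
  obtain ⟨i, y, hy⟩ := exists_mem_range_of_fpqc (cover_snd hf e.1) x
  have h1 : e.1 x = (f i) ((D.obj i).hom ((e.2.s i) y)) := by
    rw [← hy, ← Scheme.Hom.comp_apply, ← pullback.condition, ← e.2.hs i]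
    rfl
  rw [h1]
  exact hsupp i _

include hf in
/-- a descent datum living over an open `S₀` of the base is effective as soon as its restriction
to `S₀` is -/
theorem isEffective_of_support (S₀ : S.Opens)
    (hsupp : ∀ i (v : ↥(D.obj i).left), (f i) ((D.obj i).hom v) ∈ S₀)
    (h : (pullD (p := S₀.ι) (f' := fun i => pullback.snd (f i) S₀.ι)
      (p' := fun i => pullback.fst (f i) S₀.ι) (fun i => pullback.condition) D).IsEffective) :
    D.IsEffective := by
  refine isEffective_of_local' hf (A := PUnit.{u + 1}) (S' := fun _ => S₀.toScheme)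
    (fun _ => S₀.ι) (fun e x => ⟨PUnit.unit, ?_⟩) (X' := fun _ i => pullback (f i) S₀.ι)
    (fun _ i => pullback.snd _ _) (fun _ i => pullback.fst _ _) (fun _ i => pullback.condition)
    (fun _ i => IsPullback.of_hasPullback _ _) (fun _ => h)
  rw [Scheme.Opens.range_ι]
  exact El.mem_of_support hf D S₀ hsupp e x

end support

end Groth.Agent.Lib.Helper9.DescSec
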