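import Groth.Agent.Lib.Helper9.DescSub4
import Groth.Agent.Lib.Helper9.DescMain2
import Mathlib.AlgebraicGeometry.Morphisms.UniversallyInjective

set_option backward.isDefEq.respectTransparency false
set_option autoImplicit false
set_option linter.unusedSectionVars false
set_option linter.unusedVariables false
universe u
open CategoryTheory CategoryTheory.Limits AlgebraicGeometry Opposite

namespace Groth.Agent.Lib.Helper9.DescSec

open Groth.Agent.Lib.Helper9.DescFF

section radicial

variable {X S : Scheme.{u}} (g : X ⟶ S) [UniversallyInjective g]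
  (D : Desc.SchDDFam (fun _ : PUnit.{u + 1} => g))

/-- relative to a universally injective morphism, transport does not move points -/
theorem tr_apply_of_universallyInjective {T : Scheme.{u}}
    (d : T ⟶ (D.obj PUnit.unit).left) (x₁ : T ⟶ X)
    (h : (d ≫ (D.obj PUnit.unit).hom) ≫ g = x₁ ≫ g) (y : T) :
    (tr D (j := PUnit.unit) (j' := PUnit.unit) d x₁ h) y = d y := by
  let m : T ⟶ pullback g g := pullback.lift (d ≫ (D.obj PUnit.unit).hom) x₁ h
  haveI : Surjective (pullback.diagonal g) := (UniversallyInjective.iff_diagonal g).1 inferInstance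
  let pr := pullback.fst m (pullback.diagonal g)
  let r := pullback.snd m (pullback.diagonal g)
  have hc : pr ≫ m = r ≫ pullback.diagonal g := pullback.condition
  have h0 : pr ≫ d ≫ (D.obj PUnit.unit).hom = r := by
    have := congrArg (· ≫ pullback.fst g g) hc
    simp only [Category.assoc, pullback.diagonal_fst, Category.comp_id] at this
    rw [← this]
    congr 1
    exact (pullback.lift_fst _ _ _).symm
  have h1 : pr ≫ x₁ = r := by
    have := congrArg (· ≫ pullback.snd g g) hc
    simp only [Category.assoc, pullback.diagonal_snd, Category.comp_id] at this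
    rw [← this]
    congr 1
    exact (pullback.lift_snd _ _ _).symm
  have h00 : (pr ≫ d) ≫ (D.obj PUnit.unit).hom = pr ≫ x₁ := by
    rw [Category.assoc, h0, h1]
  have h' : ((pr ≫ d) ≫ (D.obj PUnit.unit).hom) ≫ g = (pr ≫ x₁) ≫ g := by
    rw [h00]
  have e1 : pr ≫ tr D (j := PUnit.unit) (j' := PUnit.unit) d x₁ h = pr ≫ d :=
    (tr_natural D pr d x₁ h h').trans (tr_self D (pr ≫ d) (pr ≫ x₁) h00 h')
  obtain ⟨y', hy'⟩ := pr.surjective y
  rw [← hy', ← Scheme.Hom.comp_apply, e1, Scheme.Hom.comp_apply]

theorem isStable_of_universallyInjective (O : ∀ i : PUnit.{u + 1}, (D.obj i).left.Opens) :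
    IsStable D O := by
  rintro T ⟨⟩ ⟨⟩ d x₁ h hd _ ⟨y, rfl⟩
  rw [tr_apply_of_universallyInjective g D d x₁ h y]
  exact hd ⟨y, rfl⟩

end radicial

section radicialMain

open Groth.Agent.Lib.Helper9.DescMain Groth.Agent.Lib.Helper9.DescAff

variable {X S : Scheme.{u}} (g : X ⟶ S) [Flat g] [Surjective g] [QuasiCompact g]
  [UniversallyInjective g]

theorem isOpen_image_of_radicial (X₀ : X.Opens) : IsOpen (g '' (X₀ : Set X)) := by
  rw [← (Flat.isQuotientMap_of_surjective g).isOpen_preimage,
    Set.preimage_image_eq _ g.injective]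
  exact X₀.2

/-- the open image of an open -/
noncomputable def imageOpen (X₀ : X.Opens) : S.Opens := ⟨g '' (X₀ : Set X), isOpen_image_of_radicial g X₀⟩

theorem preimage_imageOpen (X₀ : X.Opens) : g ⁻¹ᵁ imageOpen g X₀ = X₀ := by
  ext x
  change x ∈ g ⁻¹' (g '' (X₀ : Set X)) ↔ _
  rw [Set.preimage_image_eq _ g.injective]

variable (D : Desc.SchDDFam (fun _ : PUnit.{u + 1} => g))

theorem isEffective_restrict_affine (O : (D.obj PUnit.unit).left.Opens) (hO : IsAffineOpen O)
    (X₀ : X.Opens) (hX₀ : IsAffineOpen X₀)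
    (hOX : ∀ v ∈ O, (D.obj PUnit.unit).hom v ∈ X₀) :
    (restrictDD (isStable_of_universallyInjective g D (fun _ => O))).IsEffective := by
  have hf := mem_fpqc_of_pUnit g
  apply isEffective_of_support hf _ (imageOpen g X₀)
  · rintro ⟨⟩ v
    exact ⟨_, hOX _ v.2, rfl⟩
  · have hf' : Presieve.ofArrows (fun _ : PUnit.{u + 1} => pullback g (imageOpen g X₀).ι)
        (fun _ => pullback.snd g (imageOpen g X₀).ι) ∈
        Scheme.fpqcPrecoverage (imageOpen g X₀).toScheme :=
      Scheme.fpqcPrecoverage.mem_coverings_of_isPullback _ hf (imageOpen g X₀).ι _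
        (fun _ => pullback.fst g (imageOpen g X₀).ι)
        (fun _ => (IsPullback.of_hasPullback g (imageOpen g X₀).ι).flip)
    refine isEffective_of_isAffineHom _ hf' _ ?_
    rintro ⟨⟩
    -- the target is affine
    have hr1 : Set.range (pullback.fst g (imageOpen g X₀).ι) = Set.range X₀.ι := by
      rw [Scheme.Pullback.range_fst, Scheme.Opens.range_ι, Scheme.Opens.range_ι]
      exact congrArg (fun W : X.Opens => (W : Set X)) (preimage_imageOpen g X₀)
    haveI : IsAffine X₀.toScheme := hX₀
    haveI : IsAffine (pullback g (imageOpen g X₀).ι) :=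
      IsAffine.of_isIso (IsOpenImmersion.isoOfRangeEq (pullback.fst g (imageOpen g X₀).ι) X₀.ι hr1).hom
    -- the source is affine
    have hr2 : Set.range (pullback.fst (O.ι ≫ (D.obj PUnit.unit).hom)
        (pullback.fst g (imageOpen g X₀).ι)) = Set.range (𝟙 O.toScheme) := by
      rw [Scheme.Pullback.range_fst, hr1, Scheme.Opens.range_ι]
      ext v
      constructor
      · intro _
        exact ⟨v, rfl⟩
      · intro _
        exact hOX _ v.2
    haveI : IsAffine O.toScheme := hO
    haveI : IsAffine (pullback (O.ι ≫ (D.obj PUnit.unit).hom)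
        (pullback.fst g (imageOpen g X₀).ι)) :=
      IsAffine.of_isIso (IsOpenImmersion.isoOfRangeEq (pullback.fst (O.ι ≫ (D.obj PUnit.unit).hom)
        (pullback.fst g (imageOpen g X₀).ι)) (𝟙 O.toScheme) hr2).hom
    exact isAffineHom_of_isAffine (pullback.snd (O.ι ≫ (D.obj PUnit.unit).hom)
        (pullback.fst g (imageOpen g X₀).ι))

/-- relative to a flat, surjective, quasi-compact, universally injective morphism every descent
datum is effective -/
theorem isEffective_of_radicial : D.IsEffective := by
  have hf := mem_fpqc_of_pUnit g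
  have key : ∀ v : ↥(D.obj PUnit.unit).left, ∃ O : (D.obj PUnit.unit).left.Opens, v ∈ O ∧
      (restrictDD (isStable_of_universallyInjective g D (fun _ => O))).IsEffective := by
    intro v
    obtain ⟨X₀, hX₀, hvX₀, -⟩ := exists_isAffineOpen_mem_and_subset
      (x := (D.obj PUnit.unit).hom v) (U := ⊤) trivial
    obtain ⟨O, hO, hvO, hOsub⟩ := exists_isAffineOpen_mem_and_subset
      (x := v) (U := (D.obj PUnit.unit).hom ⁻¹ᵁ X₀) hvX₀
    exact ⟨O, hvO, isEffective_restrict_affine g D O hO X₀ hX₀ (fun v hv => hOsub hv)⟩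
  choose O hvO hOeff using key
  refine isEffective_of_sub hf
    (fun v => restrictDD (isStable_of_universallyInjective g D (fun _ => O v)))
    (fun v => restrictι _) (fun v i => inferInstance) hOeff ?_
  rintro ⟨⟩ v
  refine ⟨v, ?_⟩
  rw [range_restrictι]
  exact hvO v

end radicialMain

end Groth.Agent.Lib.Helper9.DescSec
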