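import Groth.Agent.Lib.Helper9.EmbLim
set_option autoImplicit false
set_option linter.style.haveILetI false
set_option linter.unusedSectionVars false
universe u v w
open CategoryTheory CategoryTheory.Limits AlgebraicGeometry TopologicalSpace Opposite

namespace Groth.Agent.Lib.Helper9.DomLim

/-- pure topology: variant of `EmbLim.bijOn_irreducibleComponents` for a continuous map with
finitely many irreducible components in the source, separated by the map -/
lemma bijOn_irreducibleComponents {A B : Type*} [TopologicalSpace A] [TopologicalSpace B]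
    (p : A → B) (hp : Continuous p) (hfin : (irreducibleComponents A).Finite)
    (H : ∀ b : B, ∃ a : A, p a ⤳ b)
    (H3 : ∀ Y ∈ irreducibleComponents A, ∀ Y' ∈ irreducibleComponents A,
      closure (p '' Y) ⊆ closure (p '' Y') → Y = Y') :
    Set.BijOn (fun Y : Set A => closure (p '' Y)) (irreducibleComponents A)
      (irreducibleComponents B) := by
  classical
  have hirr : ∀ Y ∈ irreducibleComponents A, IsIrreducible (closure (p '' Y)) := fun Y hY =>
    (hY.1.image p hp.continuousOn).closure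
  have hcover : ∀ Z : Set B, IsIrreducible Z →
      ∃ Y' ∈ irreducibleComponents A, Z ⊆ closure (p '' Y') := by
    intro Z hZ
    let t : Finset (Set B) := hfin.toFinset.image (fun Y => closure (p '' Y))
    obtain ⟨z, hz, hZz⟩ := isIrreducible_iff_sUnion_isClosed.1 hZ t (by
      intro z hz
      simp only [t, Finset.mem_image] at hz
      obtain ⟨Y, -, rfl⟩ := hz
      exact isClosed_closure) (by
      intro b _
      obtain ⟨a, ha⟩ := H b
      refine ⟨closure (p '' irreducibleComponent a), ?_, ?_⟩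
      · simp only [t, Finset.coe_image, Set.mem_image, Finset.mem_coe, Set.Finite.mem_toFinset]
        exact ⟨_, irreducibleComponent_mem_irreducibleComponents a, rfl⟩
      · exact closure_mono (Set.singleton_subset_iff.2
          (show p a ∈ p '' irreducibleComponent a from ⟨a, mem_irreducibleComponent, rfl⟩))
          (specializes_iff_mem_closure.1 ha))
    simp only [t, Finset.mem_image, Set.Finite.mem_toFinset] at hz
    obtain ⟨Y', hY', rfl⟩ := hz
    exact ⟨Y', hY', hZz⟩
  refine ⟨?_, ?_, ?_⟩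
  · intro Y hY
    refine ⟨hirr Y hY, fun Z' hZ' hle => ?_⟩
    obtain ⟨Y', hY', hZY'⟩ := hcover Z' hZ'
    have h2 : Y = Y' := H3 Y hY Y' hY' (hle.trans hZY')
    subst h2
    exact hZY'
  · intro Y hY Y' hY' heq
    have heq' : closure (p '' Y) = closure (p '' Y') := heq
    exact H3 Y hY Y' hY' heq'.le
  · intro Z hZ
    obtain ⟨Y', hY', hZY'⟩ := hcover Z hZ.1
    exact ⟨Y', hY', le_antisymm (hZ.2 (hirr Y' hY') hZY') hZY'⟩

variable {I : Type u} [SmallCategory I] [IsCofiltered I] (D : I ⥤ Scheme.{u})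
  (c : Cone D) (hc : IsLimit c) [∀ {i j : I} (f : i ⟶ j), IsAffineHom (D.map f)]
  (hd : ∀ (i j : I) (φ : i ⟶ j), IsDominant (D.map φ))

include hc hd in
/-- the projections from a limit with dominant affine transition maps are dominant -/
lemma denseRange_π (j : I) : DenseRange (c.π.app j) := by
  rw [DenseRange, dense_iff_inter_open]
  rintro W hW ⟨w, hw⟩
  obtain ⟨_, ⟨V, hV : IsAffineOpen V, rfl⟩, hwV, hVW⟩ :=
    (D.obj j).isBasis_affineOpens.exists_subset_of_mem_open hw hW
  have hne : ∀ k : Over j, Nonempty ((opensDiagram D j V).obj k) := by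
    intro k
    have := hd k.left j k.hom
    obtain ⟨y, hy1, ⟨z, rfl⟩⟩ := (dense_iff_inter_open.1 (D.map k.hom).denseRange) V V.isOpen
      ⟨w, hwV⟩
    exact ⟨⟨z, hy1⟩⟩
  have hcpt : ∀ k : Over j, CompactSpace ((opensDiagram D j V).obj k) := by
    intro k
    exact isCompact_iff_compactSpace.1 (hV.preimage (D.map k.hom)).isCompact
  obtain ⟨x⟩ := Scheme.nonempty_of_isLimit (opensDiagram D j V) (opensCone D c j V)
    (isLimitOpensCone D c hc j V)
  have hx : ∃ z : c.pt, z ∈ (c.π.app j ⁻¹ᵁ V : c.pt.Opens) := ⟨x.1, x.2⟩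
  obtain ⟨z, hz⟩ := hx
  exact ⟨c.π.app j z, hVW hz, ⟨z, rfl⟩⟩

include hc hd in
theorem main (i₀ : I) [NoetherianSpace c.pt] :
    ∃ (i : I) (_ : i ⟶ i₀), ∀ (j : I) (_ : j ⟶ i),
      Set.BijOn (fun Y : Set c.pt => closure (⇑(c.π.app j) '' (Y : Set c.pt) : Set (D.obj j)))
        (irreducibleComponents c.pt) (irreducibleComponents (D.obj j)) := by
  classical
  have hfin : (irreducibleComponents c.pt).Finite := NoetherianSpace.finite_irreducibleComponents
  have hB := isBasis_preimage_isAffineOpen D c hc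
  -- separating stage for each pair of distinct components
  have key : ∀ Y ∈ irreducibleComponents c.pt, ∀ Y' ∈ irreducibleComponents c.pt, Y ≠ Y' →
      ∃ k : I, ∀ (j : I) (_ : j ⟶ k),
        ¬ closure ((c.π.app j) '' Y) ⊆ closure ((c.π.app j) '' Y') := by
    intro Y hY Y' hY' hne
    have hnsub : ¬ Y ⊆ Y' := fun hsub => hne (le_antisymm hsub (hY.2 hY'.1 hsub))
    obtain ⟨y, hyY, hyY'⟩ := Set.not_subset.1 hnsub
    have hcl : IsClosed Y' := isClosed_of_mem_irreducibleComponents Y' hY'
    obtain ⟨_, ⟨k, V, hV, rfl⟩, hyV, hVY'⟩ :=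
      (Opens.isBasis_iff_nbhd.mp hB) (show y ∈ (⟨Y'ᶜ, hcl.isOpen_compl⟩ : c.pt.Opens) from hyY')
    refine ⟨k, fun j g hsub => ?_⟩
    have hw : ∀ w : c.pt, (D.map g) ((c.π.app j) w) = (c.π.app k) w := fun w => by
      rw [← Scheme.Hom.comp_apply, c.w]
    have h1 : (c.π.app j) y ∈ closure ((c.π.app j) '' Y') :=
      hsub (subset_closure ⟨y, hyY, rfl⟩)
    have hopen : IsOpen ((D.map g) ⁻¹' (V : Set (D.obj k))) := V.isOpen.preimage (D.map g).continuous
    have hmem : (c.π.app j) y ∈ (D.map g) ⁻¹' (V : Set (D.obj k)) := by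
      change (D.map g) ((c.π.app j) y) ∈ V
      rw [hw]; exact hyV
    obtain ⟨_, hz1, ⟨y', hy', rfl⟩⟩ := mem_closure_iff.1 h1 _ hopen hmem
    have : y' ∈ (c.π.app k ⁻¹ᵁ V : c.pt.Opens) := by
      change (c.π.app k) y' ∈ V
      rw [← hw]; exact hz1
    exact hVY' this hy'
  choose kk hkk using key
  let O : Finset I := insert i₀ ((hfin.toFinset.attach ×ˢ hfin.toFinset.attach).image
    (fun P => if h : P.1.1 ≠ P.2.1 then
      kk P.1.1 (hfin.mem_toFinset.1 P.1.2) P.2.1 (hfin.mem_toFinset.1 P.2.2) h else i₀))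
  obtain ⟨i, hi⟩ := IsCofiltered.inf_objs_exists O
  obtain ⟨a⟩ := hi (Finset.mem_insert_self i₀ _)
  refine ⟨i, a, fun j g => ?_⟩
  have hdense := denseRange_π D c hc hd j
  apply bijOn_irreducibleComponents _ (c.π.app j).continuous hfin
  · intro b
    let q : c.pt ⟶ D.obj j := c.π.app j
    have hq : b ∈ closure (Set.range q) := by
      rw [DenseRange.closure_range (f := q) hdense]
      exact Set.mem_univ b
    exact EmbLim.exists_specializes_of_mem_closure_range q q.continuous b hq
  · intro Y hY Y' hY' hsub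
    by_contra hne
    have hmem : kk Y hY Y' hY' hne ∈ O := by
      apply Finset.mem_insert_of_mem
      simp only [Finset.mem_image, Finset.mem_product, Finset.mem_attach, and_self, true_and]
      refine ⟨⟨⟨Y, hfin.mem_toFinset.2 hY⟩, ⟨Y', hfin.mem_toFinset.2 hY'⟩⟩, ?_⟩
      simp only [ne_eq, hne, not_false_eq_true, dite_true]
    obtain ⟨b⟩ := hi hmem
    exact hkk Y hY Y' hY' hne j (g ≫ b) hsub

end Groth.Agent.Lib.Helper9.DomLim
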