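import Groth.Agent.Lib.Helper9.TopLim
set_option autoImplicit false
set_option linter.style.haveILetI false
set_option linter.unusedSectionVars false
universe u v w
open CategoryTheory CategoryTheory.Limits AlgebraicGeometry TopologicalSpace Opposite

namespace Groth.Agent.Lib.Helper9.EmbLim

/-- pure topology: an inducing map whose image is "generically dense" (every point of the target
is a specialization of a point of the image) induces a bijection on irreducible components -/
lemma bijOn_irreducibleComponents {A B : Type*} [TopologicalSpace A] [TopologicalSpace B]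
    [QuasiSober B] (p : A → B) (hp : Topology.IsInducing p)
    (H : ∀ b : B, ∃ a : A, p a ⤳ b) :
    Set.BijOn (fun Y : Set A => closure (p '' Y)) (irreducibleComponents A)
      (irreducibleComponents B) := by
  have hcont := hp.continuous
  have hirr : ∀ Y ∈ irreducibleComponents A, IsIrreducible (closure (p '' Y)) := fun Y hY =>
    (hY.1.image p hcont.continuousOn).closure
  have hpre : ∀ Y ∈ irreducibleComponents A, p ⁻¹' (closure (p '' Y)) = Y := by
    intro Y hY
    rw [← hp.closure_eq_preimage_closure_image,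
      (isClosed_of_mem_irreducibleComponents Y hY).closure_eq]
  have hcover : ∀ Z : Set B, IsIrreducible Z →
      ∃ Y' ∈ irreducibleComponents A, Z ⊆ closure (p '' Y') := by
    intro Z hZ
    obtain ⟨ζ, hζ⟩ := QuasiSober.sober hZ.closure isClosed_closure
    have hζ' : closure {ζ} = closure Z := hζ
    obtain ⟨a, ha⟩ := H ζ
    refine ⟨irreducibleComponent a, irreducibleComponent_mem_irreducibleComponents a, ?_⟩
    have h1 : ζ ∈ closure (p '' irreducibleComponent a) :=
      closure_mono (Set.singleton_subset_iff.2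
        (show p a ∈ p '' irreducibleComponent a from ⟨a, mem_irreducibleComponent, rfl⟩))
        (specializes_iff_mem_closure.1 ha)
    calc Z ⊆ closure Z := subset_closure
      _ = closure {ζ} := hζ'.symm
      _ ⊆ _ := closure_minimal (Set.singleton_subset_iff.2 h1) isClosed_closure
  refine ⟨?_, ?_, ?_⟩
  · intro Y hY
    refine ⟨hirr Y hY, fun Z' hZ' hle => ?_⟩
    obtain ⟨Y', hY', hZY'⟩ := hcover Z' hZ'
    have h1 : Y ⊆ Y' := by
      rw [← hpre Y' hY']
      intro y hy
      exact hZY' (hle (subset_closure ⟨y, hy, rfl⟩))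
    have h2 : Y = Y' := le_antisymm h1 (hY.2 hY'.1 h1)
    subst h2
    exact hZY'
  · intro Y hY Y' hY' heq
    have heq' : closure (p '' Y) = closure (p '' Y') := heq
    rw [← hpre Y hY, ← hpre Y' hY', heq']
  · intro Z hZ
    obtain ⟨Y', hY', hZY'⟩ := hcover Z hZ.1
    exact ⟨Y', hY', le_antisymm (hZ.2 (hirr Y' hY') hZY') hZY'⟩

variable {I : Type u} [SmallCategory I] [IsCofiltered I] (D : I ⥤ Scheme.{u})
  (c : Cone D) (hc : IsLimit c) [∀ {i j : I} (f : i ⟶ j), IsAffineHom (D.map f)]
  (he : ∀ (i j : I) (φ : i ⟶ j), Topology.IsEmbedding ⇑(D.map φ))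

include hc he in
lemma isInducing_π (i : I) : Topology.IsInducing (c.π.app i) := by
  constructor
  apply le_antisymm
  · exact (c.π.app i).continuous.le_induced
  · intro U hU
    have hB := isBasis_preimage_isAffineOpen D c hc
    rw [isOpen_induced_iff]
    have key : ∀ x ∈ U, ∃ W : Set (D.obj i),
        IsOpen W ∧ (c.π.app i) ⁻¹' W ⊆ U ∧ x ∈ (c.π.app i) ⁻¹' W := by
      intro x hxU
      obtain ⟨_, ⟨j, V, hV, rfl⟩, hxV, hVU⟩ :=
        (Opens.isBasis_iff_nbhd.mp hB) (show x ∈ (⟨U, hU⟩ : c.pt.Opens) from hxU)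
      let k := IsCofiltered.min i j
      let a : k ⟶ i := IsCofiltered.minToLeft i j
      let b : k ⟶ j := IsCofiltered.minToRight i j
      have hwa : ∀ w : c.pt, (D.map a) ((c.π.app k) w) = (c.π.app i) w := fun w => by
        rw [← Scheme.Hom.comp_apply, c.w]
      have hwb : ∀ w : c.pt, (D.map b) ((c.π.app k) w) = (c.π.app j) w := fun w => by
        rw [← Scheme.Hom.comp_apply, c.w]
      obtain ⟨W, hWo, hW⟩ := (he k i a).isInducing.isOpen_iff.1
        (V.isOpen.preimage (D.map b).continuous)
      refine ⟨W, hWo, ?_, ?_⟩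
      · intro z hz
        apply hVU
        change (c.π.app j) z ∈ V
        rw [← hwb]
        have hz' : (D.map a) ((c.π.app k) z) ∈ W := by rw [hwa]; exact hz
        have : (c.π.app k) z ∈ (D.map a) ⁻¹' W := hz'
        rw [hW] at this
        exact this
      · change (c.π.app i) x ∈ W
        rw [← hwa]
        have : (c.π.app k) x ∈ (D.map a) ⁻¹' W := by
          rw [hW]
          change (D.map b) ((c.π.app k) x) ∈ V
          rw [hwb]; exact hxV
        exact this
    choose W hWo hWU hxW using key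
    refine ⟨⋃ x : U, W x.1 x.2, isOpen_iUnion fun x => hWo x.1 x.2, ?_⟩
    ext z
    simp only [Set.preimage_iUnion, Set.mem_iUnion]
    constructor
    · rintro ⟨x, hz⟩
      exact hWU x.1 x.2 hz
    · intro hz
      exact ⟨⟨z, hz⟩, hxW z hz⟩

/-- in a Noetherian quasi-sober space every point of the closure of the range is a specialization
of a point of the range -/
lemma exists_specializes_of_mem_closure_range {A B : Type*} [TopologicalSpace A]
    [TopologicalSpace B] [NoetherianSpace A] [QuasiSober A] (p : A → B) (hp : Continuous p)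
    (z : B) (hz : z ∈ closure (Set.range p)) : ∃ a : A, p a ⤳ z := by
  have hfin : (irreducibleComponents A).Finite := NoetherianSpace.finite_irreducibleComponents
  have h1 : Set.range p = ⋃ Y ∈ irreducibleComponents A, p '' Y := by
    rw [← Set.image_univ, ← sUnion_irreducibleComponents, Set.sUnion_eq_biUnion, Set.image_iUnion₂]
  rw [h1, hfin.closure_biUnion] at hz
  simp only [Set.mem_iUnion] at hz
  obtain ⟨Y, hY, hzY⟩ := hz
  obtain ⟨ξ, hξ⟩ := QuasiSober.sober hY.1 (isClosed_of_mem_irreducibleComponents Y hY)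
  have hξ' : closure {ξ} = Y := hξ
  refine ⟨ξ, ?_⟩
  rw [specializes_iff_mem_closure]
  have h2 : p '' Y ⊆ closure {p ξ} := by
    rw [← hξ']
    exact (image_closure_subset_closure_image hp).trans (by rw [Set.image_singleton])
  exact closure_minimal h2 isClosed_closure hzY

include hc he in
theorem exists_stage_forall_specializes (i₀ : I) [NoetherianSpace (D.obj i₀)]
    [NoetherianSpace c.pt] :
    ∃ (i : I) (_ : i ⟶ i₀), ∀ (j : I) (_ : j ⟶ i) (b : D.obj j), ∃ a : c.pt, c.π.app j a ⤳ b := by
  let p : c.pt ⟶ D.obj i₀ := c.π.app i₀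
  let F : Set (D.obj i₀) := closure (Set.range p)
  let U₀ : (D.obj i₀).Opens := ⟨Fᶜ, isClosed_closure.isOpen_compl⟩
  have hU₀ : p ⁻¹ᵁ U₀ = ⊥ := by
    ext x
    simp only [Opens.coe_bot, Set.mem_empty_iff_false, iff_false]
    intro hx
    exact hx (subset_closure ⟨x, rfl⟩)
  -- some stage has empty preimage of U₀
  have key : ∃ j₁ : Over i₀, ∀ y : D.obj j₁.left, (D.map j₁.hom) y ∈ F := by
    by_contra hcon
    push Not at hcon
    have hne : ∀ j : Over i₀, Nonempty ((opensDiagram D i₀ U₀).obj j) := by
      intro j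
      obtain ⟨y, hy⟩ := hcon j
      exact ⟨⟨y, hy⟩⟩
    have hcpt : ∀ j : Over i₀, CompactSpace ((opensDiagram D i₀ U₀).obj j) := by
      intro j
      have : NoetherianSpace (D.obj j.left) := (he j.left i₀ j.hom).isInducing.noetherianSpace
      exact isCompact_iff_compactSpace.1 (NoetherianSpace.isCompact _)
    have := Scheme.nonempty_of_isLimit (opensDiagram D i₀ U₀) (opensCone D c i₀ U₀)
      (isLimitOpensCone D c hc i₀ U₀)
    obtain ⟨x⟩ := this
    have hx : ∃ z : c.pt, z ∈ (p ⁻¹ᵁ U₀ : c.pt.Opens) := ⟨x.1, x.2⟩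
    obtain ⟨z, hz⟩ := hx
    rw [hU₀] at hz
    exact hz
  obtain ⟨j₁, hj₁⟩ := key
  refine ⟨j₁.left, j₁.hom, fun j g b => ?_⟩
  have h1 : (D.map (g ≫ j₁.hom)) b ∈ F := by
    rw [D.map_comp, Scheme.Hom.comp_apply]
    exact hj₁ _
  obtain ⟨a, ha⟩ := exists_specializes_of_mem_closure_range p p.continuous _ h1
  refine ⟨a, ?_⟩
  rw [← (he j i₀ (g ≫ j₁.hom)).isInducing.specializes_iff, ← Scheme.Hom.comp_apply, c.w]
  exact ha

include hc he in
theorem main (i₀ : I) [NoetherianSpace (D.obj i₀)] [NoetherianSpace c.pt] :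
    ∃ (i : I) (_ : i ⟶ i₀), ∀ (j : I) (_ : j ⟶ i),
      Set.BijOn (fun Y : Set c.pt => closure (⇑(c.π.app j) '' (Y : Set c.pt) : Set (D.obj j)))
        (irreducibleComponents c.pt) (irreducibleComponents (D.obj j)) := by
  obtain ⟨i, a, h⟩ := exists_stage_forall_specializes D c hc he i₀
  exact ⟨i, a, fun j g => bijOn_irreducibleComponents _ (isInducing_π D c hc he j) (h j g)⟩

end Groth.Agent.Lib.Helper9.EmbLim
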