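import Groth.Agent.Lib.Helper28.EtDescent
import Groth.Prelude.Def_Desc

set_option autoImplicit false
set_option linter.style.haveILetI false
set_option linter.unusedSectionVars false
set_option linter.unusedVariables false
universe u
open CategoryTheory CategoryTheory.Limits AlgebraicGeometry MorphismProperty
open Groth.Agent.Lib.Helper28 Groth.Agent.Lib.Helper28.EtDescent

namespace Groth.Agent.Lib.Helper9.EtSub

section
variable {X' X Z : Scheme.{u}} (π : X' ⟶ X) (h : Z ⟶ X) (φ : X' ⟶ Z) (hφ : φ ≫ h = π)
  (hcoc : pullback.fst π π ≫ φ = pullback.snd π π ≫ φ)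

include hφ hcoc in
/-- the range of `φ` is open (only the one relevant base change of `π` is assumed to be a
quotient map; generalises `Helper28.EtDescent.isOpen_range`) -/
theorem isOpen_range' (hq : Topology.IsQuotientMap (pullback.snd π h).base)
    [FormallyUnramified h] [LocallyOfFiniteType h] :
    IsOpen (Set.range φ) := by
  rw [← hq.isOpen_preimage]
  let γ : X' ⟶ pullback π h := pullback.lift (𝟙 _) φ (by rw [Category.id_comp, hφ])
  haveI : FormallyUnramified (pullback.fst π h) :=
    MorphismProperty.of_isPullback (P := @FormallyUnramified.{u})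
      (IsPullback.of_hasPullback π h).flip ‹_›
  haveI : IsOpenImmersion γ := isOpenImmersion_of_section (pullback.fst π h) γ
    (by simp only [γ, pullback.lift_fst])
  have : (pullback.snd π h) ⁻¹' (Set.range φ) = Set.range γ := by
    ext w
    constructor
    · rintro ⟨x, hx⟩
      obtain ⟨t, ht1, ht2⟩ := Scheme.Pullback.exists_preimage_pullback (f := pullback.snd π h)
        (g := φ) w x hx.symm
      refine ⟨pullback.fst π h w, ?_⟩
      have h1 : pullback.fst (pullback.snd π h) φ ≫ pullback.fst π h ≫ γ =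
          pullback.fst (pullback.snd π h) φ := by
        apply pullback.hom_ext
        · simp only [γ, Category.assoc, pullback.lift_fst, Category.comp_id]
        · simp only [Category.assoc, γ, pullback.lift_snd]
          exact cocycle_aux π h φ hφ hcoc
      have h2 := congr($h1 t)
      simp only [Scheme.Hom.comp_apply] at h2
      rw [ht1] at h2
      exact h2
    · rintro ⟨x, rfl⟩
      refine ⟨x, ?_⟩
      rw [← Scheme.Hom.comp_apply]
      simp only [γ, pullback.lift_snd]
  rw [this]
  exact γ.isOpenEmbedding.isOpen_range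

include hφ hcoc in
/-- descent of a section of an étale morphism along a surjective morphism `π` whose base change
to the étale scheme is a quotient map. -/
theorem exists_section' (hq : Topology.IsQuotientMap (pullback.snd π h).base) [Surjective π]
    [Etale h] : ∃ σ : X ⟶ Z, σ ≫ h = 𝟙 X ∧ π ≫ σ = φ := by
  let Γ : Z.Opens := ⟨Set.range φ, isOpen_range' π h φ hφ hcoc hq⟩
  let φΓ : X' ⟶ Γ.toScheme := IsOpenImmersion.lift Γ.ι φ (by
    rw [Scheme.Opens.range_ι]; rfl)
  have hφΓ : φΓ ≫ Γ.ι = φ := IsOpenImmersion.lift_fac _ _ _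
  haveI : Surjective φΓ := by
    refine ⟨fun z => ?_⟩
    obtain ⟨x, hx⟩ : (Γ.ι z) ∈ Set.range φ := z.2
    refine ⟨x, ?_⟩
    apply Γ.ι.isOpenEmbedding.injective
    rw [← Scheme.Hom.comp_apply, hφΓ, hx]
  let hΓ : Γ.toScheme ⟶ X := Γ.ι ≫ h
  have hφΓ' : φΓ ≫ hΓ = π := by rw [← Category.assoc, hφΓ, hφ]
  have hcocΓ : pullback.fst π π ≫ φΓ = pullback.snd π π ≫ φΓ := by
    rw [← cancel_mono Γ.ι, Category.assoc, Category.assoc, hφΓ, hcoc]
  haveI : Etale hΓ := inferInstance
  haveI : IsIso (pullback.fst π hΓ) := isIso_fst π hΓ φΓ hφΓ' hcocΓ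
  haveI : Surjective (φΓ ≫ hΓ) := by rw [hφΓ']; infer_instance
  haveI : Surjective hΓ := Surjective.of_comp φΓ hΓ
  haveI : UniversallyInjective hΓ :=
    DescendsAlong.of_isPullback (P := @UniversallyInjective) (Q := @Surjective)
      (IsPullback.of_hasPullback π hΓ) (inferInstance : Surjective π)
      (inferInstance : UniversallyInjective (pullback.fst π hΓ))
  haveI : IsIso hΓ := isIso_of_etale hΓ
  refine ⟨inv hΓ ≫ Γ.ι, ?_, ?_⟩
  · rw [Category.assoc]; exact IsIso.inv_hom_id hΓ
  · rw [← hφΓ', Category.assoc, IsIso.hom_inv_id_assoc, hφΓ]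

end

end Groth.Agent.Lib.Helper9.EtSub
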