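import Groth.Agent.Lib.Helper9.EtSub1

set_option backward.isDefEq.respectTransparency false
set_option autoImplicit false
set_option linter.style.haveILetI false
set_option linter.unusedSectionVars false
set_option linter.unusedVariables false
universe u
open CategoryTheory CategoryTheory.Limits AlgebraicGeometry MorphismProperty

namespace Groth.Agent.Lib.Helper9.EtSub

theorem toDD_map_surjective {X S : Scheme.{u}} (p : X ⟶ S)
    (hp : ∀ U : Over S, Etale U.hom → Topology.IsQuotientMap (pullback.snd p U.hom).base)
    (U₁ U₂ : Over S) [Etale U₁.hom] [Etale U₂.hom] :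
    Function.Surjective ((Desc.toDD p).map : (U₁ ⟶ U₂) → _) := by
  intro Φ
  let π : pullback p U₁.hom ⟶ U₁.left := pullback.snd p U₁.hom
  let h : pullback U₁.hom U₂.hom ⟶ U₁.left := pullback.fst U₁.hom U₂.hom
  have hw : Φ.hom.left ≫ pullback.fst p U₂.hom = pullback.fst p U₁.hom := Over.w Φ.hom
  let θ : pullback p U₁.hom ⟶ U₂.left := Φ.hom.left ≫ pullback.snd p U₂.hom
  have hθ : π ≫ U₁.hom = θ ≫ U₂.hom := by
    simp only [π, θ, Category.assoc]
    rw [← pullback.condition, ← pullback.condition, ← Category.assoc, hw]
  let φ : pullback p U₁.hom ⟶ pullback U₁.hom U₂.hom := pullback.lift π θ hθ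
  have hφ : φ ≫ h = π := pullback.lift_fst _ _ _
  have hφ2 : φ ≫ pullback.snd U₁.hom U₂.hom = θ := pullback.lift_snd _ _ _
  -- the cocycle condition
  have hcθ : pullback.fst π π ≫ θ = pullback.snd π π ≫ θ := by
    have hx : (pullback.fst π π ≫ pullback.fst p U₁.hom) ≫ p =
        (pullback.snd π π ≫ pullback.fst p U₁.hom) ≫ p := by
      rw [Category.assoc, Category.assoc, pullback.condition (f := p), ← Category.assoc,
        ← Category.assoc]
      exact congr($(pullback.condition (f := π) (g := π)) ≫ U₁.hom)
    have key := Φ.comm (pullback.fst π π ≫ pullback.fst p U₁.hom)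
      (pullback.snd π π ≫ pullback.fst p U₁.hom) hx ⟨pullback.fst π π, rfl⟩
      ⟨pullback.fst π π ≫ Φ.hom.left, by
        show (pullback.fst π π ≫ Φ.hom.left) ≫ pullback.fst p U₂.hom = _
        rw [Category.assoc, hw]⟩ rfl
    have key2 := congr($key ≫ pullback.snd p U₂.hom)
    have e1 : pullback.lift (pullback.snd π π ≫ pullback.fst p U₁.hom)
        (pullback.fst π π ≫ pullback.snd p U₁.hom) (by
          rw [Category.assoc, Category.assoc, pullback.condition (f := p)]
          exact congr($((pullback.condition (f := π) (g := π)).symm) ≫ U₁.hom)) =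
        pullback.snd π π := by
      apply pullback.hom_ext
      · rw [pullback.lift_fst]
      · rw [pullback.lift_snd]; exact pullback.condition
    simp only [Desc.toDD, Desc.canonicalDD, Equiv.coe_fn_mk, Desc.canMap_val, Category.assoc,
      pullback.lift_snd] at key2
    rw [← Category.assoc, e1] at key2
    exact key2
  have hcoc : pullback.fst π π ≫ φ = pullback.snd π π ≫ φ := by
    apply pullback.hom_ext
    · rw [Category.assoc, Category.assoc, pullback.lift_fst]; exact pullback.condition
    · rw [Category.assoc, Category.assoc, hφ2]; exact hcθ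
  -- the quotient map hypothesis
  haveI : Etale h := MorphismProperty.pullback_fst (P := @Etale) _ _ inferInstance
  have hq : Topology.IsQuotientMap (pullback.snd π h).base := by
    have h1 := hp (Over.mk (h ≫ U₁.hom)) (by dsimp; infer_instance)
    have h2 : pullback.snd π h = (pullbackLeftPullbackSndIso p U₁.hom h).hom ≫
        pullback.snd p (h ≫ U₁.hom) := (pullbackLeftPullbackSndIso_hom_snd _ _ _).symm
    rw [h2, Scheme.Hom.comp_base, TopCat.coe_comp]
    exact h1.comp (Scheme.Hom.homeomorph (pullbackLeftPullbackSndIso p U₁.hom h).hom).isQuotientMap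
  haveI : Surjective π := ⟨(hp U₁ inferInstance).surjective⟩
  obtain ⟨σ, hσ1, hσ2⟩ := exists_section' π h φ hφ hcoc hq
  refine ⟨Over.homMk (σ ≫ pullback.snd U₁.hom U₂.hom) ?_, ?_⟩
  · rw [Category.assoc, ← pullback.condition, ← Category.assoc]
    show (σ ≫ h) ≫ U₁.hom = U₁.hom
    rw [hσ1, Category.id_comp]
  · apply Desc.SchDD.hom_ext
    apply Over.OverMorphism.ext
    apply pullback.hom_ext
    · simp only [Desc.toDD, Over.homMk_left, pullback.map, pullback.lift_fst, Category.comp_id]
      exact hw.symm
    · simp only [Desc.toDD, Over.homMk_left, pullback.map, pullback.lift_snd]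
      show π ≫ σ ≫ _ = θ
      rw [← Category.assoc, hσ2, hφ2]

end Groth.Agent.Lib.Helper9.EtSub
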