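import Groth.Prelude.Def_W4c1chowmix47Eta
import Mathlib.Algebra.CharP.Reduced
import Mathlib.Algebra.CharP.Algebra
import Mathlib.RingTheory.IntegralClosure.IntegrallyClosed
import Mathlib.Algebra.GCDMonoid.IntegrallyClosed
import Mathlib.RingTheory.PrincipalIdealDomain
import Mathlib.RingTheory.Valuation.LocalSubring
import Mathlib.RingTheory.Localization.AtPrime.Basic
import Mathlib.RingTheory.IntegralClosure.IsIntegralClosure.Basic

/-!
Helper lemmas on the pointwise construction `EtaPt`.
-/

set_option autoImplicit false
universe u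

namespace Groth.Agent.Lib.Helper9.EtaPt

open _root_.EtaPt

variable (η : FieldEndo.{u})

/-- `F(f)` is injective, being a homomorphism of fields. -/
theorem map_injective {K L : Type u} [Field K] [Field L] (f : K →+* L) :
    Function.Injective (η.map f) := (η.map f).injective

/-- `η_K` is injective. -/
theorem eta_injective (K : Type u) [Field K] : Function.Injective (η.eta K) := (η.eta K).injective

theorem map_eta {K L : Type u} [Field K] [Field L] (f : K →+* L) (x : K) :
    η.map f (η.eta K x) = η.eta L (f x) :=
  congrArg (fun h => h x) (congrArg DFunLike.coe (η.eta_natural f))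

/-- In `F K`, `e^n`-th powers (with `e` the exponential characteristic of a field mapping to `K`)
are injective. -/
theorem pow_inj_of_ringHom {K L : Type u} [Field K] [Field L] (f : K →+* L) (n : ℕ) {z w : η.obj L}
    (h : z ^ ringExpChar K ^ n = w ^ ringExpChar K ^ n) : z = w := by
  haveI : ExpChar L (ringExpChar K) := expChar_of_injective_ringHom f.injective _
  haveI : ExpChar (η.obj L) (ringExpChar K) :=
    expChar_of_injective_ringHom (η.eta L).injective _
  apply iterateFrobenius_inj (η.obj L) (ringExpChar K) n
  rw [iterateFrobenius_def, iterateFrobenius_def, h]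

/-- Key lemma: an element of `F(k)` for a field `k` receiving `K`, pushed to a valuation ring at whose
fraction field `η` is bijective, comes from an element of the valuation ring. -/
theorem exists_of_field {K : Type u} [Field K] (k : Type u) [Field k] (i : K →+* k)
    (hi : Function.Surjective i) (x : η.obj k)
    (R : Type u) [CommRing R] [IsDomain R] [ValuationRing R] (hR : η.InV R) (g : K →+* R) :
    ∃ r : R, ∀ (L : Type u) [Field L] (j : R →+* L) (h : k →+* L), h.comp i = j.comp g →
      η.map h x = η.eta L (j r) := by
  obtain ⟨n, c, hc⟩ := η.exists_pow_mem_range_eta k x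
  obtain ⟨c', rfl⟩ := hi c
  -- the map `k → Frac R`
  let ie : K ≃+* k := RingEquiv.ofBijective i ⟨i.injective, hi⟩
  let ψ : k →+* FractionRing R := ((algebraMap R (FractionRing R)).comp g).comp ie.symm.toRingHom
  have hψ : ∀ a : K, ψ (i a) = algebraMap R (FractionRing R) (g a) := by
    intro a
    change algebraMap R (FractionRing R) (g (ie.symm (ie a))) = _
    rw [RingEquiv.symm_apply_apply]
  obtain ⟨y, hy⟩ := hR.2 (η.map ψ x)
  have hye : y ^ ringExpChar k ^ n = algebraMap R (FractionRing R) (g c') := by
    apply eta_injective η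
    rw [map_pow, hy, ← map_pow, ← hc, map_eta, hψ]
  have hint : IsIntegral R y := by
    refine ⟨Polynomial.X ^ (ringExpChar k ^ n) - Polynomial.C (g c'),
      Polynomial.monic_X_pow_sub_C _ ?_, ?_⟩
    · have : 0 < ringExpChar k := lt_of_lt_of_le Nat.zero_lt_one (le_max_right _ _)
      exact (pow_pos this n).ne'
    · simp [hye]
  obtain ⟨r, hr⟩ := IsIntegrallyClosed.algebraMap_eq_of_integral hint
  have hre : r ^ ringExpChar k ^ n = g c' := by
    apply IsFractionRing.injective R (FractionRing R)
    rw [map_pow, hr, hye]
  refine ⟨r, fun L _ j h hcomp => ?_⟩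
  apply pow_inj_of_ringHom η h n
  rw [← map_pow, ← hc, map_eta, ← map_pow, ← map_pow, hre]
  congr 1
  exact congrArg (fun f => f c') (congrArg DFunLike.coe hcomp)


/-- Evaluation of `Nmap` at a prime, with the preimage prime given up to propositional equality. -/
theorem Nmap_apply {A B : Type u} [CommRing A] [CommRing B] (g : A →+* B) (x : η.N A)
    (q : PrimeSpectrum B) (p : PrimeSpectrum A) (hp : p.asIdeal = q.asIdeal.comap g) :
    η.Nmap g x q = η.map (Ideal.ResidueField.map p.asIdeal q.asIdeal g hp) (x p) := by
  obtain rfl : p = PrimeSpectrum.comap g q := PrimeSpectrum.ext hp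
  rfl

theorem t_apply (A : Type u) [CommRing A] (a : A) (p : PrimeSpectrum A) :
    η.t A a p = η.eta _ (algebraMap A p.asIdeal.ResidueField a) := rfl

/-- Bijectivity of `η` is invariant under isomorphisms of fields. -/
theorem bijective_eta_of_ringEquiv {K L : Type u} [Field K] [Field L] (φ : K ≃+* L)
    (h : Function.Bijective (η.eta K)) : Function.Bijective (η.eta L) := by
  have hF : Function.Bijective (η.map φ.toRingHom) := by
    refine ⟨(η.map φ.toRingHom).injective, fun y => ⟨η.map φ.symm.toRingHom y, ?_⟩⟩
    have : (η.map φ.toRingHom).comp (η.map φ.symm.toRingHom) = RingHom.id _ := by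
      rw [← η.map_comp, ← η.map_id]
      congr 1
      ext a
      simp
    exact congrArg (fun f => f y) (congrArg DFunLike.coe this)
  have hcomp : (η.eta L : L → η.obj L) = η.map φ.toRingHom ∘ η.eta K ∘ φ.symm := by
    funext a
    simp only [Function.comp]
    rw [map_eta]
    simp
  rw [hcomp]
  exact hF.comp (h.comp φ.symm.bijective)

/-- `InV` for a domain with a given fraction field. -/
theorem inV_of_isFractionRing (R : Type u) [CommRing R] [IsDomain R] (K : Type u) [Field K]
    [Algebra R K] [IsFractionRing R K] (h : Function.Bijective (η.eta K)) : η.InV R :=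
  bijective_eta_of_ringEquiv η (FractionRing.algEquiv R K).symm.toRingEquiv h

theorem bijective_eta_of_inV (R : Type u) [CommRing R] [IsDomain R] (K : Type u) [Field K]
    [Algebra R K] [IsFractionRing R K] (h : η.InV R) : Function.Bijective (η.eta K) :=
  bijective_eta_of_ringEquiv η (FractionRing.algEquiv R K).toRingEquiv h

/-- For a prime `p` of a domain `A` there is a valuation subring of the fraction field containing `A`
whose maximal ideal contracts to `p`. -/
theorem exists_valuationSubring_dominating (A : Type u) [CommRing A] [IsDomain A] (p : Ideal A)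
    [p.IsPrime] :
    ∃ (V : ValuationSubring (FractionRing A)) (g : A →+* V),
      (∀ a, ((g a : V) : FractionRing A) = algebraMap A (FractionRing A) a) ∧
      (IsLocalRing.maximalIdeal V).comap g = p := by
  have hu : ∀ y : p.primeCompl, IsUnit (algebraMap A (FractionRing A) y) := by
    intro y
    apply IsUnit.mk0
    intro h0
    have : (y : A) = 0 := (IsFractionRing.injective A (FractionRing A)) (by rw [h0, map_zero])
    exact y.2 (this ▸ p.zero_mem)
  let f : Localization.AtPrime p →+* FractionRing A := IsLocalization.lift hu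
  obtain ⟨V, h, hloc⟩ := IsLocalRing.exists_factor_valuationRing f
  refine ⟨V, (f.codRestrict V.toSubring h).comp (algebraMap A (Localization.AtPrime p)), ?_, ?_⟩
  · intro a
    change f (algebraMap A (Localization.AtPrime p) a) = _
    exact IsLocalization.lift_eq hu a
  · ext a
    rw [Ideal.mem_comap, IsLocalRing.mem_maximalIdeal, mem_nonunits_iff]
    change ¬ IsUnit ((f.codRestrict V.toSubring h) (algebraMap A (Localization.AtPrime p) a)) ↔ _
    rw [isUnit_map_iff (f.codRestrict V.toSubring h),
      IsLocalization.AtPrime.isUnit_to_map_iff (Localization.AtPrime p) p a]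
    simp [Ideal.primeCompl]


theorem isIntegrallyClosedIn_range (A : Type u) [CommRing A] [IsDomain A] [IsIntegrallyClosed A]
    (K : Type u) [Field K] [Algebra A K] [IsFractionRing A K] :
    IsIntegrallyClosedIn (algebraMap A K).range K := by
  rw [Subring.isIntegrallyClosedIn_iff]
  intro x hx
  let _ : Algebra A (algebraMap A K).range := (algebraMap A K).rangeRestrict.toAlgebra
  have : IsScalarTower A (algebraMap A K).range K := IsScalarTower.of_algebraMap_eq (fun _ => rfl)
  have : Algebra.IsIntegral A (algebraMap A K).range :=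
    Algebra.IsIntegral.of_surjective (Algebra.ofId A (algebraMap A K).range)
      (algebraMap A K).rangeRestrict_surjective
  have hx' : IsIntegral A x := isIntegral_trans x hx
  obtain ⟨y, hy⟩ := IsIntegrallyClosed.algebraMap_eq_of_integral hx'
  exact ⟨y, hy⟩


/-- `F` of a bijective field homomorphism is bijective. -/
theorem bijective_map_of_bijective {K L : Type u} [Field K] [Field L] (f : K →+* L)
    (hf : Function.Bijective f) : Function.Bijective (η.map f) := by
  let φ : K ≃+* L := RingEquiv.ofBijective f hf
  refine ⟨(η.map f).injective, fun y => ⟨η.map φ.symm.toRingHom y, ?_⟩⟩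
  have : (η.map f).comp (η.map φ.symm.toRingHom) = RingHom.id _ := by
    rw [← η.map_comp, ← η.map_id]
    congr 1
    ext a
    exact φ.apply_symm_apply a
  exact congrArg (fun f => f y) (congrArg DFunLike.coe this)

/-- Functoriality of `Nmap`. -/
theorem Nmap_comp {A B C : Type u} [CommRing A] [CommRing B] [CommRing C] (f : A →+* B)
    (g : B →+* C) (x : η.N A) : η.Nmap (g.comp f) x = η.Nmap g (η.Nmap f x) := by
  funext q
  rw [Nmap_apply η (g.comp f) x q (PrimeSpectrum.comap f (PrimeSpectrum.comap g q)) rfl]
  change _ = η.map _ (η.map _ (x _))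
  rw [← RingHom.comp_apply, ← η.map_comp]
  congr 2
  apply Ideal.ResidueField.ringHom_ext
  ext a
  simp only [RingHom.comp_apply]
  rw [Ideal.ResidueField.map_algebraMap, Ideal.ResidueField.map_algebraMap,
    Ideal.ResidueField.map_algebraMap]
  rfl


/-- If `N_η(f)` is injective then `Spec f` is surjective. -/
theorem comap_surjective_of_Nmap_injective {A B : Type u} [CommRing A] [CommRing B] (f : A →+* B)
    (h : Function.Injective (η.Nmap f)) : Function.Surjective (PrimeSpectrum.comap f) := by
  classical
  intro p
  by_contra hp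
  push Not at hp
  let x : η.N A := Pi.single p 1
  have hx : η.Nmap f x = 0 := by
    funext q
    rw [Nmap_apply η f x q (PrimeSpectrum.comap f q) rfl]
    have : x (PrimeSpectrum.comap f q) = 0 := Pi.single_eq_of_ne (hp q) _
    rw [this, map_zero]
    rfl
  have hx0 : x = 0 := h (hx.trans (map_zero _).symm)
  have : x p = 1 := Pi.single_eq_same p 1
  rw [hx0] at this
  exact zero_ne_one this

/-- If `N_η(f)` is surjective then `Spec f` is injective. -/
theorem comap_injective_of_Nmap_surjective {A B : Type u} [CommRing A] [CommRing B] (f : A →+* B)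
    (h : Function.Surjective (η.Nmap f)) : Function.Injective (PrimeSpectrum.comap f) := by
  classical
  intro q q' hqq'
  by_contra hne
  obtain ⟨x, hx⟩ := h (Pi.single q 1)
  have h1 := congrFun hx q
  have h2 := congrFun hx q'
  rw [Nmap_apply η f x q (PrimeSpectrum.comap f q) rfl, Pi.single_eq_same] at h1
  rw [Nmap_apply η f x q' (PrimeSpectrum.comap f q') rfl,
    Pi.single_eq_of_ne (Ne.symm hne)] at h2
  have h3 : x (PrimeSpectrum.comap f q') = 0 := map_injective η _ (h2.trans (map_zero _).symm)
  have h4 : ∀ p₁ p₂ : PrimeSpectrum A, p₁ = p₂ → x p₂ = 0 → x p₁ = 0 := by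
    rintro _ _ rfl h
    exact h
  rw [h4 _ _ hqq' h3, map_zero] at h1
  exact zero_ne_one h1

/-- If `N_η(f)` is surjective then every `F(k(f⁻¹q) → k(q))` is bijective. -/
theorem bijective_map_residue_of_Nmap_surjective {A B : Type u} [CommRing A] [CommRing B]
    (f : A →+* B) (h : Function.Surjective (η.Nmap f)) (q : PrimeSpectrum B) (p : PrimeSpectrum A)
    (hp : p.asIdeal = q.asIdeal.comap f) :
    Function.Bijective (η.map (Ideal.ResidueField.map p.asIdeal q.asIdeal f hp)) := by
  classical
  refine ⟨map_injective η _, fun w => ?_⟩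
  obtain ⟨x, hx⟩ := h (Pi.single q w)
  have h1 := congrFun hx q
  rw [Nmap_apply η f x q p hp, Pi.single_eq_same] at h1
  exact ⟨x p, h1⟩


/-- If `Spec f` is surjective then `N_η(f)` is injective. -/
theorem Nmap_injective_of_comap_surjective {A B : Type u} [CommRing A] [CommRing B] (f : A →+* B)
    (h : Function.Surjective (PrimeSpectrum.comap f)) : Function.Injective (η.Nmap f) := by
  intro x x' hxx'
  funext p
  obtain ⟨q, rfl⟩ := h p
  have h1 := congrFun hxx' q
  rw [Nmap_apply η f x q (PrimeSpectrum.comap f q) rfl,
    Nmap_apply η f x' q (PrimeSpectrum.comap f q) rfl] at h1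
  exact map_injective η _ h1

/-- `N_η(f)` maps `M_η(A)` into `M_η(B)`. -/
theorem Nmap_mem_M {A B : Type u} [CommRing A] [CommRing B] (f : A →+* B) {x : η.N A}
    (hx : x ∈ η.M A) : η.Nmap f x ∈ η.M B := by
  intro R _ _ _ hR g
  rw [← Nmap_comp]
  exact hx R hR _

theorem mem_rel_iff {A B : Type u} [CommRing A] [CommRing B] (f : A →+* B) (b : B) :
    b ∈ η.rel f ↔ ∃ x ∈ η.M A, η.Nmap f x = η.t B b := Iff.rfl

theorem qRel_bijective_iff {A B : Type u} [CommRing A] [CommRing B] (f : A →+* B) :
    Function.Bijective (η.qRel f) ↔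
      Function.Injective f ∧ ∀ b ∈ η.rel f, ∃ a, f a = b := by
  constructor
  · rintro ⟨hi, hs⟩
    refine ⟨fun a a' h => hi (Subtype.ext h), fun b hb => ?_⟩
    obtain ⟨a, ha⟩ := hs ⟨b, hb⟩
    exact ⟨a, congrArg Subtype.val ha⟩
  · rintro ⟨hi, hs⟩
    refine ⟨fun a a' h => hi (congrArg Subtype.val h), fun ⟨b, hb⟩ => ?_⟩
    obtain ⟨a, ha⟩ := hs b hb
    exact ⟨a, Subtype.ext ha⟩

end Groth.Agent.Lib.Helper9.EtaPt
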