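import Groth.Agent.Lib.Helper9.EtaPt9

/-!
# `M_η` of a valuation ring: the perfect case
-/

set_option autoImplicit false
set_option linter.style.haveILetI false
universe u

namespace Groth.Agent.Lib.Helper9.EtaPt

open _root_.EtaPt Polynomial

variable (η : FieldEndo.{u})

section perfect
variable (p : ℕ) [hp : Fact p.Prime]

theorem charP_of_ringHom {S k : Type*} [CommRing S] [Field k] [CharP S p] (f : S →+* k) :
    CharP k p :=
  (CharP.charP_iff_prime_eq_zero hp.out).mpr (by
    rw [← map_natCast f, CharP.cast_eq_zero S p, map_zero])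

theorem charP_obj (k : Type u) [Field k] [CharP k p] : CharP (η.obj k) p :=
  charP_of_ringHom p (η.eta k)

theorem root_unique (k : Type u) [Field k] [CharP k p] (n : ℕ) {b b' : η.obj k}
    (h : b ^ p ^ n = b' ^ p ^ n) : b = b' := by
  haveI := charP_obj η p k
  apply iterateFrobenius_inj (η.obj k) p n
  rw [iterateFrobenius_def, iterateFrobenius_def, h]

variable (hperf : ∀ (k : Type u) [Field k], ringChar k = p →
  Function.Bijective (η.eta k) → PerfectField k)

include hperf in
theorem exists_root (k : Type u) [Field k] [CharP k p] (n : ℕ) (a : η.obj k) :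
    ∃ b : η.obj k, b ^ p ^ n = a := by
  haveI := charP_obj η p k
  haveI : PerfectField (η.obj k) := hperf (η.obj k) (ringChar.eq _ p) (bijective_eta_obj η k)
  haveI : PerfectRing (η.obj k) p := PerfectField.toPerfectRing p
  obtain ⟨b, hb⟩ := (iterateFrobeniusEquiv (η.obj k) p n).surjective a
  exact ⟨b, by rw [← hb, iterateFrobeniusEquiv_apply, iterateFrobenius_def]⟩

include hperf in
theorem exists_root_field (L : Type u) [Field L] [CharP L p] (hL : Function.Bijective (η.eta L))
    (n : ℕ) (a : L) : ∃ b : L, b ^ p ^ n = a := by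
  haveI : PerfectField L := hperf L (ringChar.eq _ p) hL
  haveI : PerfectRing L p := PerfectField.toPerfectRing p
  obtain ⟨b, hb⟩ := (iterateFrobeniusEquiv L p n).surjective a
  exact ⟨b, by rw [← hb, iterateFrobeniusEquiv_apply, iterateFrobenius_def]⟩

theorem ringExpChar_eq (k : Type*) [Field k] [CharP k p] : ringExpChar k = p := by
  rw [ringExpChar, ringChar.eq k p]
  exact max_eq_left hp.out.one_lt.le

variable (R : Type u) [CommRing R] [IsDomain R] [ValuationRing R] [CharP R p]

include hperf in
theorem exists_of_isIntegral_of_perfect (y : η.obj (⊥ : Ideal R).ResidueField)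
    (hy : (psi η R).IsIntegralElem y) :
    ∃ (n : ℕ) (c : R) (x : η.N R), x ∈ η.M R ∧ x (gen R) = y ∧
      ∀ 𝔭 : PrimeSpectrum R, x 𝔭 ^ p ^ n = η.eta _ (algebraMap R 𝔭.asIdeal.ResidueField c) := by
  haveI : CharP (⊥ : Ideal R).ResidueField p := charP_of_ringHom p (algebraMap R _)
  obtain ⟨n, c₀, hc₀⟩ := η.exists_pow_mem_range_eta (⊥ : Ideal R).ResidueField y
  rw [ringExpChar_eq p] at hc₀
  have hint : (psi η R).IsIntegralElem (η.eta _ c₀) := by
    rw [hc₀]
    letI := (psi η R).toAlgebra
    have : IsIntegral R y := hy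
    exact this.pow _
  obtain ⟨c, rfl⟩ := exists_of_isIntegralElem_eta η R c₀ hint
  have hex : ∀ 𝔭 : PrimeSpectrum R, ∃ b : η.obj 𝔭.asIdeal.ResidueField,
      b ^ p ^ n = η.eta _ (algebraMap R 𝔭.asIdeal.ResidueField c) := fun 𝔭 => by
    haveI : CharP 𝔭.asIdeal.ResidueField p := charP_of_ringHom p (algebraMap R _)
    exact exists_root η p hperf _ n _
  choose x hxr using hex
  refine ⟨n, c, x, ?_, ?_, hxr⟩
  · intro V _ _ _ hV g
    haveI : CharP (FractionRing V) p :=
      charP_of_ringHom p ((algebraMap V (FractionRing V)).comp g)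
    obtain ⟨v₀, hv₀⟩ := exists_root_field η p hperf (FractionRing V) hV n
      (algebraMap V (FractionRing V) (g c))
    have hintv : IsIntegral V v₀ := by
      refine ⟨X ^ (p ^ n) - C (g c), monic_X_pow_sub_C _ (pow_pos hp.out.pos n).ne', ?_⟩
      simp [hv₀]
    obtain ⟨v, rfl⟩ := IsIntegrallyClosed.algebraMap_eq_of_integral hintv
    have hvc : v ^ p ^ n = g c := by
      apply IsFractionRing.injective V (FractionRing V)
      rw [map_pow, hv₀]
    refine ⟨v, ?_⟩
    funext 𝔮
    rw [t_apply, Nmap_apply η g x 𝔮 (PrimeSpectrum.comap g 𝔮) rfl]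
    haveI : CharP 𝔮.asIdeal.ResidueField p :=
      charP_of_ringHom p ((algebraMap V 𝔮.asIdeal.ResidueField).comp g)
    apply root_unique η p _ n
    rw [← map_pow, ← map_pow, ← map_pow, hvc, hxr, map_eta, Ideal.ResidueField.map_algebraMap]
  · haveI : CharP (gen R).asIdeal.ResidueField p := charP_of_ringHom p (algebraMap R _)
    apply root_unique η p _ n
    rw [hxr, hc₀]

end perfect

end Groth.Agent.Lib.Helper9.EtaPt
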