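import Groth.Agent.Lib.Helper9.EtaPt10

/-!
# `M_η` of a valuation ring: assembling the cases
-/

set_option autoImplicit false
set_option linter.style.haveILetI false
universe u

namespace Groth.Agent.Lib.Helper9.EtaPt

open _root_.EtaPt Polynomial

variable (η : FieldEndo.{u})

theorem exists_prime_charP_of_not_bijective (R : Type u) [CommRing R] [IsDomain R]
    (hK : ¬ Function.Bijective (η.eta (⊥ : Ideal R).ResidueField)) :
    ∃ p : ℕ, p.Prime ∧ CharP R p := by
  have h1 : ringExpChar (⊥ : Ideal R).ResidueField ≠ 1 := by
    intro h1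
    apply hK
    refine ⟨RingHom.injective (η.eta (⊥ : Ideal R).ResidueField), fun y => ?_⟩
    obtain ⟨n, c₀, hc₀⟩ := η.exists_pow_mem_range_eta (⊥ : Ideal R).ResidueField y
    rw [h1, one_pow, pow_one] at hc₀
    exact ⟨c₀, hc₀⟩
  have hp : (ringChar (⊥ : Ideal R).ResidueField).Prime := by
    rcases CharP.char_is_prime_or_zero (⊥ : Ideal R).ResidueField
      (ringChar (⊥ : Ideal R).ResidueField) with h | h
    · exact h
    · exfalso
      apply h1
      rw [ringExpChar, h]
      rfl
  refine ⟨ringChar (⊥ : Ideal R).ResidueField, hp, ?_⟩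
  exact (RingHom.charP_iff (algebraMap R (⊥ : Ideal R).ResidueField)
    (IsFractionRing.injective R _) _).mpr (ringChar.charP _)

/-- The dichotomy used for a valuation ring `R`: either `η` is bijective at `Frac R`, or `R` has
prime characteristic `p` and `η`-bijective fields of characteristic `p` are perfect. -/
theorem dichotomy (R : Type u) [CommRing R] [IsDomain R]
    (hη : η.InV R ∨ ∀ (k : Type u) [Field k], ringChar k = ringChar R →
      Function.Bijective (η.eta k) → PerfectField k) :
    Function.Bijective (η.eta (⊥ : Ideal R).ResidueField) ∨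
      ∃ p : ℕ, p.Prime ∧ CharP R p ∧ ∀ (k : Type u) [Field k], ringChar k = p →
        Function.Bijective (η.eta k) → PerfectField k := by
  by_cases hK : Function.Bijective (η.eta (⊥ : Ideal R).ResidueField)
  · exact Or.inl hK
  · rcases hη with hV | hperf
    · exact absurd (bijective_eta_of_inV η R _ hV) hK
    · obtain ⟨p, hp, hcp⟩ := exists_prime_charP_of_not_bijective η R hK
      refine Or.inr ⟨p, hp, hcp, fun k _ hk hb => hperf k ?_ hb⟩
      rw [hk, ringChar.eq R p]

end Groth.Agent.Lib.Helper9.EtaPt
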