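import Groth.Agent.S13813
import Groth.Agent.Lib.Helper9.EtaPt11

/-!
# `M_η` of a valuation ring is a valuation ring
-/

set_option autoImplicit false
set_option linter.style.haveILetI false
universe u

namespace Groth.Agent.Lib.Helper9.EtaPt

open _root_.EtaPt Polynomial

variable (η : FieldEndo.{u}) (R : Type u) [CommRing R] [IsDomain R] [ValuationRing R]

theorem ringExpChar_pow_ne_zero (k : Type*) [Field k] (n : ℕ) : ringExpChar k ^ n ≠ 0 :=
  pow_ne_zero _ (expChar_pos k (ringExpChar k)).ne'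

theorem isIntegralElem_or_inv (y : η.obj (⊥ : Ideal R).ResidueField) :
    (psi η R).IsIntegralElem y ∨ (psi η R).IsIntegralElem y⁻¹ := by
  obtain ⟨n, z, hz⟩ := η.exists_pow_mem_range_eta (⊥ : Ideal R).ResidueField y
  have hq := ringExpChar_pow_ne_zero (⊥ : Ideal R).ResidueField n
  rcases ValuationRing.isInteger_or_isInteger R z with ⟨r, hr⟩ | ⟨r, hr⟩
  · left
    refine ⟨X ^ (ringExpChar (⊥ : Ideal R).ResidueField ^ n) - C r, monic_X_pow_sub_C _ hq, ?_⟩
    rw [eval₂_sub, eval₂_X_pow, eval₂_C, ← hz, ← hr]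
    simp
  · right
    refine ⟨X ^ (ringExpChar (⊥ : Ideal R).ResidueField ^ n) - C r, monic_X_pow_sub_C _ hq, ?_⟩
    rw [eval₂_sub, eval₂_X_pow, eval₂_C, inv_pow, ← hz, ← map_inv₀, ← hr]
    simp

variable (hη : η.InV R ∨ ∀ (k : Type u) [Field k], ringChar k = ringChar R →
      Function.Bijective (η.eta k) → PerfectField k)

include hη in
theorem exists_mem_M_of_isIntegralElem (y : η.obj (⊥ : Ideal R).ResidueField)
    (hy : (psi η R).IsIntegralElem y) : ∃ x : η.M R, (x : η.N R) (gen R) = y := by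
  have h := (Groth.Agent.S13813.result η R hη).2
  have hy' : y ∈ (fun x : η.N R => x ⟨⊥, Ideal.isPrime_bot⟩) '' (η.M R : Set (η.N R)) := by
    rw [h]
    exact hy
  obtain ⟨x, hx, hxy⟩ := hy'
  exact ⟨⟨x, hx⟩, hxy⟩

theorem M_ext {a b : η.M R} (h : (a : η.N R) (gen R) = (b : η.N R) (gen R)) : a = b :=
  Subtype.ext (ev_injOn η R a.2 b.2 h)

theorem M_eq_zero {a : η.M R} (h : (a : η.N R) (gen R) = 0) : a = 0 :=
  M_ext η R (by rw [h]; rfl)

theorem isDomain_M : IsDomain (η.M R) := by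
  let f : η.M R →+* η.obj (⊥ : Ideal R).ResidueField :=
    (Pi.evalRingHom (fun 𝔭 : PrimeSpectrum R => η.obj 𝔭.asIdeal.ResidueField) (gen R)).comp
      (η.M R).subtype
  have hf : Function.Injective f := fun a b h => M_ext η R h
  exact hf.isDomain f

include hη in
theorem preValuationRing_M : PreValuationRing (η.M R) := by
  constructor
  intro a b
  by_cases hb : (b : η.N R) (gen R) = 0
  · exact ⟨0, Or.inl (by rw [mul_zero, M_eq_zero η R hb])⟩
  by_cases ha : (a : η.N R) (gen R) = 0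
  · exact ⟨0, Or.inr (by rw [mul_zero, M_eq_zero η R ha])⟩
  rcases isIntegralElem_or_inv η R ((a : η.N R) (gen R) / (b : η.N R) (gen R)) with h | h
  · obtain ⟨c, hc⟩ := exists_mem_M_of_isIntegralElem η R hη _ h
    refine ⟨c, Or.inr (M_ext η R ?_)⟩
    change (b : η.N R) (gen R) * (c : η.N R) (gen R) = _
    rw [hc, mul_div_cancel₀ _ hb]
  · obtain ⟨c, hc⟩ := exists_mem_M_of_isIntegralElem η R hη _ h
    refine ⟨c, Or.inl (M_ext η R ?_)⟩
    change (a : η.N R) (gen R) * (c : η.N R) (gen R) = _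
    rw [hc, inv_div, mul_div_cancel₀ _ ha]

include hη in
theorem exists_quotient (y : η.obj (⊥ : Ideal R).ResidueField) :
    ∃ a b : η.M R, (b : η.N R) (gen R) ≠ 0 ∧
      y * (b : η.N R) (gen R) = (a : η.N R) (gen R) := by
  rcases isIntegralElem_or_inv η R y with h | h
  · obtain ⟨a, ha⟩ := exists_mem_M_of_isIntegralElem η R hη _ h
    refine ⟨a, 1, ?_, ?_⟩
    · change (1 : η.obj _) ≠ 0
      exact one_ne_zero
    · change y * (1 : η.obj _) = _
      rw [mul_one, ha]
  · by_cases hy : y = 0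
    · refine ⟨0, 1, ?_, ?_⟩
      · change (1 : η.obj _) ≠ 0
        exact one_ne_zero
      · change y * (1 : η.obj _) = (0 : η.obj _)
        rw [mul_one, hy]
    · obtain ⟨b, hb⟩ := exists_mem_M_of_isIntegralElem η R hη _ h
      refine ⟨1, b, ?_, ?_⟩
      · rw [hb]
        exact inv_ne_zero hy
      · rw [hb, mul_inv_cancel₀ hy]
        rfl

theorem image_inter_range :
    (fun x : η.N R => x (gen R)) '' (η.M R : Set (η.N R)) ∩
        Set.range (η.eta (⊥ : Ideal R).ResidueField) = Set.range (psi η R) := by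
  ext y
  constructor
  · rintro ⟨⟨x, hx, rfl⟩, ⟨z, hz⟩⟩
    have hint := ev_isIntegralElem η R x hx
    have hz' : η.eta _ z = x (gen R) := hz
    rw [← hz'] at hint
    obtain ⟨r, rfl⟩ := exists_of_isIntegralElem_eta η R z hint
    exact ⟨r, hz⟩
  · rintro ⟨r, rfl⟩
    exact ⟨⟨η.t R r, η.t_mem_M R r, rfl⟩, ⟨algebraMap R _ r, rfl⟩⟩

end Groth.Agent.Lib.Helper9.EtaPt
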