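import Groth.Agent.Lib.Helper9.EtaPt
import Mathlib.RingTheory.Localization.Away.Basic
import Mathlib.RingTheory.Localization.LocalizationLocalization
import Mathlib.RingTheory.Spectrum.Prime.Topology

/-!
Integrality of `q_A : A → M_η(A)` for rings with finitely many minimal primes.
-/

set_option autoImplicit false
universe u

namespace Groth.Agent.Lib.Helper9.EtaPt

open _root_.EtaPt

variable (η : FieldEndo.{u})

/-- `η_{F K} = F(η_K)`. -/
theorem eta_obj_eq_map_eta (K : Type u) [Field K] (z : η.obj K) :
    η.eta (η.obj K) z = η.map (η.eta K) z := by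
  obtain ⟨n, c, hc⟩ := η.exists_pow_mem_range_eta K z
  apply pow_inj_of_ringHom η (η.eta K) n
  rw [← map_pow, ← map_pow, ← hc, map_eta]

/-- `η` is bijective at `F K`. -/
theorem bijective_eta_obj (K : Type u) [Field K] : Function.Bijective (η.eta (η.obj K)) := by
  have : (η.eta (η.obj K) : η.obj K → η.obj (η.obj K)) = η.map (η.eta K) := by
    funext z
    exact eta_obj_eq_map_eta η K z
  rw [this]
  exact η.bijective_map_eta K

/-- For a ring map `ι : A → L` to a field and a prime `p ⊇ ker ι` there is a valuation subring of `L`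
containing `ι(A)` whose maximal ideal contracts to `p`. -/
theorem exists_valuationSubring_dominating' {A : Type u} [CommRing A] {L : Type u} [Field L]
    (ι : A →+* L) (p : Ideal A) [p.IsPrime] (hp : RingHom.ker ι ≤ p) :
    ∃ (V : ValuationSubring L) (g : A →+* V),
      (∀ a, ((g a : V) : L) = ι a) ∧ (IsLocalRing.maximalIdeal V).comap g = p := by
  have hu : ∀ y : p.primeCompl, IsUnit (ι y) := by
    intro y
    apply IsUnit.mk0
    intro h0
    exact y.2 (hp h0)
  let f : Localization.AtPrime p →+* L := IsLocalization.lift hu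
  obtain ⟨V, h, hloc⟩ := IsLocalRing.exists_factor_valuationRing f
  refine ⟨V, (f.codRestrict V.toSubring h).comp (algebraMap A (Localization.AtPrime p)), ?_, ?_⟩
  · intro a
    change f (algebraMap A (Localization.AtPrime p) a) = _
    exact IsLocalization.lift_eq hu a
  · ext a
    rw [Ideal.mem_comap, IsLocalRing.mem_maximalIdeal, mem_nonunits_iff]
    change ¬ IsUnit ((f.codRestrict V.toSubring h) (algebraMap A (Localization.AtPrime p) a)) ↔ _
    rw [isUnit_map_iff (f.codRestrict V.toSubring h),
      IsLocalization.AtPrime.isUnit_to_map_iff (Localization.AtPrime p) p a]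
    simp [Ideal.primeCompl]


/-- The map `A → F(k(P₀))`. -/
noncomputable def iotaAt {A : Type u} [CommRing A] (P₀ : PrimeSpectrum A) :
    A →+* η.obj P₀.asIdeal.ResidueField :=
  (η.eta P₀.asIdeal.ResidueField).comp (algebraMap A P₀.asIdeal.ResidueField)

theorem iotaAt_apply {A : Type u} [CommRing A] (P₀ : PrimeSpectrum A) (a : A) :
    iotaAt η P₀ a = η.eta _ (algebraMap A P₀.asIdeal.ResidueField a) := rfl

theorem iotaAt_eq_zero_iff {A : Type u} [CommRing A] (P₀ : PrimeSpectrum A) (a : A) :
    iotaAt η P₀ a = 0 ↔ a ∈ P₀.asIdeal := by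
  rw [iotaAt_apply, map_eq_zero_iff _ (eta_injective η _), Ideal.algebraMap_residueField_eq_zero]

theorem ker_iotaAt {A : Type u} [CommRing A] (P₀ : PrimeSpectrum A) :
    RingHom.ker (iotaAt η P₀) = P₀.asIdeal := by
  ext a
  rw [RingHom.mem_ker, iotaAt_eq_zero_iff]

/-- If `N(g) x = t_V(v)` for a valuation subring `V` of `F(k(P₀))` containing the image of `A`,
then `v` is the component of `x` at `P₀`. -/
theorem eq_of_t_eq_Nmap {A : Type u} [CommRing A] (P₀ : PrimeSpectrum A) (x : η.N A)
    (V : ValuationSubring (η.obj P₀.asIdeal.ResidueField)) (g : A →+* V)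
    (hg : ∀ a, ((g a : V) : η.obj P₀.asIdeal.ResidueField) = iotaAt η P₀ a) (v : V)
    (hv : η.t V v = η.Nmap g x) : (v : η.obj P₀.asIdeal.ResidueField) = x P₀ := by
  let botV : PrimeSpectrum V := ⟨⊥, Ideal.isPrime_bot⟩
  have hbot : P₀.asIdeal = Ideal.comap g (⊥ : Ideal V) := by
    ext a
    rw [Ideal.mem_comap, Ideal.mem_bot, ← iotaAt_eq_zero_iff η P₀ a, ← hg a]
    constructor
    · intro h
      exact Subtype.ext h
    · intro h
      rw [h]
      rfl
  have h1 := congrFun hv botV
  rw [t_apply, Nmap_apply η g x botV P₀ hbot] at h1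
  let σ : η.obj P₀.asIdeal.ResidueField ≃ₐ[V] (⊥ : Ideal V).ResidueField :=
    IsLocalization.algEquiv (nonZeroDivisors V) _ _
  have hρ : Ideal.ResidueField.map P₀.asIdeal (⊥ : Ideal V) g hbot =
      σ.toRingEquiv.toRingHom.comp (η.eta P₀.asIdeal.ResidueField) := by
    apply Ideal.ResidueField.ringHom_ext
    ext a
    simp only [RingHom.comp_apply]
    rw [Ideal.ResidueField.map_algebraMap]
    change _ = σ (η.eta _ (algebraMap A P₀.asIdeal.ResidueField a))
    rw [← iotaAt_apply, ← hg a]
    exact (σ.commutes (g a)).symm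
  rw [hρ, η.map_comp, RingHom.comp_apply, ← eta_obj_eq_map_eta, map_eta] at h1
  have h2 := eta_injective η _ h1
  have h3 : σ (v : η.obj P₀.asIdeal.ResidueField) = algebraMap V _ v := σ.commutes v
  exact σ.injective (h3.trans h2)


/-- The component at `P₀` of an element of `M_η(A)` is integral over `A`. -/
theorem exists_monic_eval₂_iotaAt {A : Type u} [CommRing A] (P₀ : PrimeSpectrum A) (x : η.N A)
    (hx : x ∈ η.M A) :
    ∃ P : Polynomial A, P.Monic ∧ Polynomial.eval₂ (iotaAt η P₀) (x P₀) P = 0 := by
  have hz : x P₀ ∈ (integralClosure (iotaAt η P₀).range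
      (η.obj P₀.asIdeal.ResidueField)).toSubring := by
    by_contra hz
    obtain ⟨V, hle, hzV⟩ := Subring.exists_le_valuationSubring_of_isIntegrallyClosedIn hz
    apply hzV
    have hSV : ∀ a, iotaAt η P₀ a ∈ V.toSubring := fun a =>
      hle (Subalgebra.algebraMap_mem _ (⟨iotaAt η P₀ a, ⟨a, rfl⟩⟩ : (iotaAt η P₀).range))
    let g : A →+* V := (iotaAt η P₀).codRestrict V.toSubring hSV
    have hV : η.InV V := inV_of_isFractionRing η V (η.obj P₀.asIdeal.ResidueField)
      (bijective_eta_obj η _)
    obtain ⟨v, hv⟩ := hx V hV g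
    rw [← eq_of_t_eq_Nmap η P₀ x V g (fun a => rfl) v hv]
    exact v.2
  have hint : IsIntegral (iotaAt η P₀).range (x P₀) := hz
  let _ : Algebra A (η.obj P₀.asIdeal.ResidueField) := (iotaAt η P₀).toAlgebra
  let _ : Algebra A (iotaAt η P₀).range := (iotaAt η P₀).rangeRestrict.toAlgebra
  have : IsScalarTower A (iotaAt η P₀).range (η.obj P₀.asIdeal.ResidueField) :=
    IsScalarTower.of_algebraMap_eq (fun _ => rfl)
  have : Algebra.IsIntegral A (iotaAt η P₀).range :=
    Algebra.IsIntegral.of_surjective (Algebra.ofId A (iotaAt η P₀).range)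
      (iotaAt η P₀).rangeRestrict_surjective
  have h' : IsIntegral A (x P₀) := isIntegral_trans (x P₀) hint
  exact h'


/-- A polynomial killing the `P₀`-component of `x ∈ M_η(A)` kills all components at primes
containing `P₀`. -/
theorem eval₂_iotaAt_eq_zero_of_le {A : Type u} [CommRing A] (P₀ p : PrimeSpectrum A)
    (hle : P₀.asIdeal ≤ p.asIdeal) (x : η.N A) (hx : x ∈ η.M A) (P : Polynomial A)
    (hP : Polynomial.eval₂ (iotaAt η P₀) (x P₀) P = 0) :
    Polynomial.eval₂ (iotaAt η p) (x p) P = 0 := by
  obtain ⟨V, g, hg1, hg2⟩ := exists_valuationSubring_dominating' (iotaAt η P₀) p.asIdeal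
    (by rw [ker_iotaAt]; exact hle)
  have hV : η.InV V := inV_of_isFractionRing η V (η.obj P₀.asIdeal.ResidueField)
    (bijective_eta_obj η _)
  obtain ⟨v, hv⟩ := hx V hV g
  have hvz := eq_of_t_eq_Nmap η P₀ x V g hg1 v hv
  have h0 : Polynomial.eval₂ g v P = 0 := by
    have h3 := Polynomial.hom_eval₂ P g V.subtype v
    have hc : V.subtype.comp g = iotaAt η P₀ := RingHom.ext hg1
    rw [hc] at h3
    have h4 : V.subtype v = x P₀ := hvz
    rw [h4, hP] at h3
    exact Subtype.ext h3
  let mV : PrimeSpectrum V := ⟨IsLocalRing.maximalIdeal V, inferInstance⟩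
  have h1 := congrFun hv mV
  rw [t_apply, Nmap_apply η g x mV p hg2.symm] at h1
  apply map_injective η (Ideal.ResidueField.map p.asIdeal mV.asIdeal g hg2.symm)
  rw [map_zero, Polynomial.hom_eval₂, ← h1]
  have hcomp : (η.map (Ideal.ResidueField.map p.asIdeal mV.asIdeal g hg2.symm)).comp (iotaAt η p) =
      ((η.eta _).comp (algebraMap V mV.asIdeal.ResidueField)).comp g := by
    ext a
    simp only [RingHom.comp_apply, iotaAt_apply]
    rw [map_eta, Ideal.ResidueField.map_algebraMap]
  rw [hcomp]
  have h2 := Polynomial.hom_eval₂ P g ((η.eta _).comp (algebraMap V mV.asIdeal.ResidueField)) v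
  rw [h0, map_zero] at h2
  exact h2.symm


theorem isDomain_away (R : Type u) [CommRing R] [IsDomain R] (r : R) (hr : r ≠ 0) :
    IsDomain (Localization.Away r) :=
  IsLocalization.isDomain_localization (powers_le_nonZeroDivisors_of_noZeroDivisors hr)

theorem preValuationRing_away (R : Type u) [CommRing R] [IsDomain R] [ValuationRing R] (r : R) :
    PreValuationRing (Localization.Away r) := by
  constructor
  intro a b
  obtain ⟨a₀, s, rfl⟩ := IsLocalization.exists_mk'_eq (Submonoid.powers r) a
  obtain ⟨b₀, s', rfl⟩ := IsLocalization.exists_mk'_eq (Submonoid.powers r) b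
  obtain ⟨c₀, h | h⟩ := ValuationRing.cond a₀ b₀
  · refine ⟨IsLocalization.mk' _ (c₀ * s) s', Or.inl ?_⟩
    rw [← IsLocalization.mk'_mul, IsLocalization.mk'_eq_iff_eq]
    congr 1
    rw [← h]
    simp only [Submonoid.coe_mul]
    ring
  · refine ⟨IsLocalization.mk' _ (c₀ * s') s, Or.inr ?_⟩
    rw [← IsLocalization.mk'_mul, IsLocalization.mk'_eq_iff_eq]
    congr 1
    rw [← h]
    simp only [Submonoid.coe_mul]
    ring

theorem inV_away (R : Type u) [CommRing R] [IsDomain R] (hR : η.InV R)
    (r : R) (hr : r ≠ 0) :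
    @EtaPt.FieldEndo.InV η (Localization.Away r) _ (isDomain_away R r hr) := by
  haveI := isDomain_away R r hr
  have hu : ∀ y : Submonoid.powers r, IsUnit (algebraMap R (FractionRing R) y) := by
    intro y
    apply IsUnit.mk0
    intro h0
    have h1 : (y : R) = 0 := IsFractionRing.injective R (FractionRing R) (by rw [h0, map_zero])
    obtain ⟨n, hn⟩ := y.2
    rw [← hn] at h1
    exact hr (pow_eq_zero_iff (fun h => by simp [h] at h1) |>.mp h1)
  letI : Algebra (Localization.Away r) (FractionRing R) := (IsLocalization.lift hu).toAlgebra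
  haveI : IsScalarTower R (Localization.Away r) (FractionRing R) :=
    IsScalarTower.of_algebraMap_eq (fun x => (IsLocalization.lift_eq hu x).symm)
  haveI : IsFractionRing (Localization.Away r) (FractionRing R) :=
    IsFractionRing.isFractionRing_of_isDomain_of_isLocalization (Submonoid.powers r)
      (Localization.Away r) (FractionRing R)
  exact inV_of_isFractionRing η (Localization.Away r) (FractionRing R) hR


/-- `t_R` is injective for a domain `R`. -/
theorem t_injective_of_isDomain (R : Type u) [CommRing R] [IsDomain R] :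
    Function.Injective (η.t R) := by
  intro a b hab
  have h1 := congrFun hab ⟨⊥, Ideal.isPrime_bot⟩
  rw [t_apply, t_apply] at h1
  have h2 := eta_injective η _ h1
  rw [← sub_eq_zero, ← map_sub, Ideal.algebraMap_residueField_eq_zero] at h2
  exact sub_eq_zero.mp h2

/-- Gluing along `D(r) ∪ V(r)`. -/
theorem eq_t_of_away {R : Type u} [CommRing R] (r s₁ : R) (z : η.N R)
    (h1 : ∀ 𝔮 : PrimeSpectrum R, r ∈ 𝔮.asIdeal → z 𝔮 = 0)
    (h2 : η.Nmap (algebraMap R (Localization.Away r)) z =
      η.t (Localization.Away r) (algebraMap R (Localization.Away r) (r * s₁))) :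
    z = η.t R (r * s₁) := by
  funext 𝔮
  rw [t_apply]
  by_cases hr : r ∈ 𝔮.asIdeal
  · rw [h1 𝔮 hr, (Ideal.algebraMap_residueField_eq_zero).mpr (𝔮.asIdeal.mul_mem_right _ hr),
      map_zero]
  · have hp : 𝔮 ∈ Set.range (PrimeSpectrum.comap (algebraMap R (Localization.Away r))) := by
      rw [PrimeSpectrum.localization_away_comap_range (Localization.Away r) r]
      exact hr
    obtain ⟨𝔮', rfl⟩ := hp
    have h3 := congrFun h2 𝔮'
    rw [Nmap_apply η _ z 𝔮' (PrimeSpectrum.comap (algebraMap R (Localization.Away r)) 𝔮') rfl,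
      t_apply, ← Ideal.ResidueField.map_algebraMap _ 𝔮'.asIdeal (algebraMap R (Localization.Away r))
        rfl, ← map_eta] at h3
    exact map_injective η _ h3


/-- An element of `R[1/r]` integral over the integrally closed domain `R` lies in `R`. -/
theorem exists_of_isIntegral_away (R : Type u) [CommRing R] [IsDomain R] [IsIntegrallyClosed R]
    (r : R) (hr : r ≠ 0) (v' : Localization.Away r) (P : Polynomial R) (hP : P.Monic)
    (h : Polynomial.eval₂ (algebraMap R (Localization.Away r)) v' P = 0) :
    ∃ r₁ : R, algebraMap R (Localization.Away r) r₁ = v' := by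
  haveI := isDomain_away R r hr
  have hu : ∀ y : Submonoid.powers r, IsUnit (algebraMap R (FractionRing R) y) := by
    intro y
    apply IsUnit.mk0
    intro h0
    have h1 : (y : R) = 0 := IsFractionRing.injective R (FractionRing R) (by rw [h0, map_zero])
    obtain ⟨n, hn⟩ := y.2
    rw [← hn] at h1
    exact hr (pow_eq_zero_iff (fun h => by simp [h] at h1) |>.mp h1)
  letI : Algebra (Localization.Away r) (FractionRing R) := (IsLocalization.lift hu).toAlgebra
  haveI : IsScalarTower R (Localization.Away r) (FractionRing R) :=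
    IsScalarTower.of_algebraMap_eq (fun x => (IsLocalization.lift_eq hu x).symm)
  haveI : IsFractionRing (Localization.Away r) (FractionRing R) :=
    IsFractionRing.isFractionRing_of_isDomain_of_isLocalization (Submonoid.powers r)
      (Localization.Away r) (FractionRing R)
  have hint : IsIntegral R (algebraMap (Localization.Away r) (FractionRing R) v') := by
    refine ⟨P, hP, ?_⟩
    rw [IsScalarTower.algebraMap_eq R (Localization.Away r) (FractionRing R),
      ← Polynomial.hom_eval₂, h, map_zero]
  obtain ⟨r₁, hr₁⟩ := IsIntegrallyClosed.algebraMap_eq_of_integral hint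
  refine ⟨r₁, ?_⟩
  apply IsFractionRing.injective (Localization.Away r) (FractionRing R)
  rw [← hr₁, ← IsScalarTower.algebraMap_apply]

end Groth.Agent.Lib.Helper9.EtaPt
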