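import Groth.Agent.Lib.Helper9.EtaPt2
import Groth.Agent.S13802
import Mathlib.RingTheory.Ideal.GoingUp

/-!
Primes of `M_η(A)`: every prime of `M_η(A)` is the kernel of a projection.
-/

set_option autoImplicit false
universe u

namespace Groth.Agent.Lib.Helper9.EtaPt

open _root_.EtaPt

variable (η : FieldEndo.{u})

/-- The projection `M_η(A) → F(k(P))`. -/
noncomputable def proj {A : Type u} [CommRing A] (P : PrimeSpectrum A) :
    η.M A →+* η.obj P.asIdeal.ResidueField :=
  (Pi.evalRingHom (fun p : PrimeSpectrum A => η.obj p.asIdeal.ResidueField) P).comp (η.M A).subtype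

theorem proj_apply {A : Type u} [CommRing A] (P : PrimeSpectrum A) (x : η.M A) :
    proj η P x = (x : η.N A) P := rfl

theorem proj_q {A : Type u} [CommRing A] (P : PrimeSpectrum A) (a : A) :
    proj η P (η.q A a) = iotaAt η P a := rfl

instance ker_proj_isPrime {A : Type u} [CommRing A] (P : PrimeSpectrum A) :
    (RingHom.ker (proj η P)).IsPrime := RingHom.ker_isPrime _

theorem comap_ker_proj {A : Type u} [CommRing A] (P : PrimeSpectrum A) :
    Ideal.comap (η.q A) (RingHom.ker (proj η P)) = P.asIdeal := by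
  ext a
  rw [Ideal.mem_comap, RingHom.mem_ker, proj_q, iotaAt_eq_zero_iff]

/-- An element of `M_η(A)` vanishing at `P₀` vanishes at all primes containing `P₀`. -/
theorem eq_zero_of_le {A : Type u} [CommRing A] (P₀ p : PrimeSpectrum A)
    (hle : P₀.asIdeal ≤ p.asIdeal) (x : η.N A) (hx : x ∈ η.M A) (h0 : x P₀ = 0) : x p = 0 := by
  have := eval₂_iotaAt_eq_zero_of_le η P₀ p hle x hx Polynomial.X (by rw [Polynomial.eval₂_X, h0])
  rwa [Polynomial.eval₂_X] at this

/-- An element of `M_η(A)` vanishing at all minimal primes is zero. -/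
theorem eq_zero_of_minimalPrimes {A : Type u} [CommRing A] (x : η.N A) (hx : x ∈ η.M A)
    (h0 : ∀ P₀ : PrimeSpectrum A, P₀.asIdeal ∈ minimalPrimes A → x P₀ = 0) : x = 0 := by
  funext p
  obtain ⟨I, hI, hIle⟩ := Ideal.exists_minimalPrimes_le (J := p.asIdeal) bot_le
  exact eq_zero_of_le η ⟨I, hI.1.1⟩ p hIle x hx (h0 ⟨I, hI.1.1⟩ hI)


/-- Every prime of `M_η(A)` contains the kernel of the projection at some minimal prime. -/
theorem exists_minimal_ker_proj_le {A : Type u} [CommRing A] (hA : (minimalPrimes A).Finite)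
    (Q : Ideal (η.M A)) [hQ : Q.IsPrime] :
    ∃ P₀ : PrimeSpectrum A, P₀.asIdeal ∈ minimalPrimes A ∧ RingHom.ker (proj η P₀) ≤ Q := by
  classical
  let J : Ideal A → Ideal (η.M A) := fun I =>
    if h : I.IsPrime then RingHom.ker (proj η ⟨I, h⟩) else ⊤
  have hle : hA.toFinset.inf J ≤ Q := by
    intro x hx
    rw [Submodule.mem_finsetInf] at hx
    have hx0 : (x : η.N A) = 0 := by
      apply eq_zero_of_minimalPrimes η _ x.2
      intro P₀ hP₀
      have := hx P₀.asIdeal (hA.mem_toFinset.mpr hP₀)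
      simp only [J, dif_pos P₀.isPrime] at this
      exact this
    have : x = 0 := Subtype.ext hx0
    rw [this]
    exact Q.zero_mem
  obtain ⟨I, hI, hIQ⟩ := (Ideal.IsPrime.inf_le' hQ).mp hle
  have hImin := hA.mem_toFinset.mp hI
  refine ⟨⟨I, hImin.1.1⟩, hImin, ?_⟩
  simp only [J, dif_pos hImin.1.1] at hIQ
  exact hIQ


/-- Key lemma: an element of `M_η(A)` vanishing at `P = Q ∩ A` lies in `Q`. -/
theorem mem_of_proj_eq_zero {A : Type u} [CommRing A] (hA : (minimalPrimes A).Finite)
    (Q : PrimeSpectrum (η.M A)) (P : PrimeSpectrum A)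
    (hP : P.asIdeal = Ideal.comap (η.q A) Q.asIdeal) (y : η.M A) (hy : proj η P y = 0) :
    y ∈ Q.asIdeal := by
  obtain ⟨P₀, -, hP₀⟩ := exists_minimal_ker_proj_le η hA Q.asIdeal
  obtain ⟨W, G, hG1, hG2⟩ := exists_valuationSubring_dominating' (proj η P₀) Q.asIdeal hP₀
  have hW : η.InV W := inV_of_isFractionRing η W (η.obj P₀.asIdeal.ResidueField)
    (bijective_eta_obj η _)
  obtain ⟨v, hv⟩ := y.2 W hW (G.comp (η.q A))
  have hvy : v = G y := by
    apply Subtype.ext
    rw [eq_of_t_eq_Nmap η P₀ (y : η.N A) W (G.comp (η.q A)) (fun a => hG1 (η.q A a)) v hv, hG1]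
    rfl
  let mW : PrimeSpectrum W := ⟨IsLocalRing.maximalIdeal W, inferInstance⟩
  have hPm : P.asIdeal = Ideal.comap (G.comp (η.q A)) mW.asIdeal := by
    rw [hP, ← hG2]
    rfl
  have h1 := congrFun hv mW
  rw [t_apply, Nmap_apply η _ (y : η.N A) mW P hPm] at h1
  have hy' : (y : η.N A) P = 0 := hy
  rw [hy', map_zero] at h1
  have h2 := eta_injective η _ (h1.trans (map_zero _).symm)
  rw [Ideal.algebraMap_residueField_eq_zero, hvy] at h2
  rw [← hG2]
  exact h2

/-- Every prime of `M_η(A)` is the kernel of the projection at its contraction. -/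
theorem eq_ker_proj {A : Type u} [CommRing A] (hA : (minimalPrimes A).Finite)
    (Q : PrimeSpectrum (η.M A)) (P : PrimeSpectrum A)
    (hP : P.asIdeal = Ideal.comap (η.q A) Q.asIdeal) :
    Q.asIdeal = RingHom.ker (proj η P) := by
  have hle : RingHom.ker (proj η P) ≤ Q.asIdeal := fun y hy =>
    mem_of_proj_eq_zero η hA Q P hP y hy
  by_contra hne
  have hlt : RingHom.ker (proj η P) < Q.asIdeal := lt_of_le_of_ne hle (Ne.symm hne)
  obtain ⟨x, hxQ, hxn⟩ := SetLike.exists_of_lt hlt
  letI : Algebra A (η.M A) := (η.q A).toAlgebra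
  have hint : IsIntegral A x := Groth.Agent.S13802.result η A hA x
  have := Ideal.comap_lt_comap_of_integral_mem_sdiff hle ⟨hxQ, hxn⟩ hint
  change Ideal.comap (η.q A) _ < Ideal.comap (η.q A) _ at this
  rw [comap_ker_proj, ← hP] at this
  exact lt_irrefl _ this


/-- The embedding `k(Q) → F(k(Q ∩ A))`. -/
noncomputable def resLift {A : Type u} [CommRing A] (hA : (minimalPrimes A).Finite)
    (Q : PrimeSpectrum (η.M A)) :
    Q.asIdeal.ResidueField →+* η.obj (PrimeSpectrum.comap (η.q A) Q).asIdeal.ResidueField :=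
  Ideal.ResidueField.lift Q.asIdeal (proj η (PrimeSpectrum.comap (η.q A) Q))
    (le_of_eq (eq_ker_proj η hA Q (PrimeSpectrum.comap (η.q A) Q) rfl)) (by
      intro x hx
      rw [Submonoid.mem_comap]
      apply IsUnit.mk0
      intro h0
      apply hx
      rw [eq_ker_proj η hA Q (PrimeSpectrum.comap (η.q A) Q) rfl]
      exact h0)

theorem resLift_algebraMap {A : Type u} [CommRing A] (hA : (minimalPrimes A).Finite)
    (Q : PrimeSpectrum (η.M A)) (x : η.M A) :
    resLift η hA Q (algebraMap (η.M A) Q.asIdeal.ResidueField x) =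
      (x : η.N A) (PrimeSpectrum.comap (η.q A) Q) :=
  Ideal.ResidueField.lift_algebraMap _ _ _ _ x

theorem resLift_map {A : Type u} [CommRing A] (hA : (minimalPrimes A).Finite)
    (Q : PrimeSpectrum (η.M A)) (d : (PrimeSpectrum.comap (η.q A) Q).asIdeal.ResidueField) :
    resLift η hA Q (Ideal.ResidueField.map (PrimeSpectrum.comap (η.q A) Q).asIdeal Q.asIdeal
      (η.q A) rfl d) = η.eta _ d := by
  have : (resLift η hA Q).comp (Ideal.ResidueField.map (PrimeSpectrum.comap (η.q A) Q).asIdeal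
      Q.asIdeal (η.q A) rfl) = η.eta _ := by
    apply Ideal.ResidueField.ringHom_ext
    ext a
    simp only [RingHom.comp_apply]
    rw [Ideal.ResidueField.map_algebraMap, resLift_algebraMap]
    rfl
  exact congrArg (fun ψ => ψ d) (congrArg DFunLike.coe this)

/-- `F(ρ) ∘ φ = η_{k(Q)}`. -/
theorem map_resLift {A : Type u} [CommRing A] (hA : (minimalPrimes A).Finite)
    (Q : PrimeSpectrum (η.M A)) (c : Q.asIdeal.ResidueField) :
    η.map (Ideal.ResidueField.map (PrimeSpectrum.comap (η.q A) Q).asIdeal Q.asIdeal (η.q A) rfl)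
      (resLift η hA Q c) = η.eta _ c := by
  obtain ⟨n, d, hd⟩ := η.exists_pow_mem_range_eta _ (resLift η hA Q c)
  have hc : c ^ ringExpChar (PrimeSpectrum.comap (η.q A) Q).asIdeal.ResidueField ^ n =
      Ideal.ResidueField.map (PrimeSpectrum.comap (η.q A) Q).asIdeal Q.asIdeal (η.q A) rfl d := by
    apply (resLift η hA Q).injective
    rw [map_pow, ← hd, resLift_map]
  apply pow_inj_of_ringHom η
    (Ideal.ResidueField.map (PrimeSpectrum.comap (η.q A) Q).asIdeal Q.asIdeal (η.q A) rfl) n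
  rw [← map_pow, ← hd, map_eta, ← map_pow, hc]

/-- `N(q_A)(x) = t_{M A}(x)` for `x ∈ M_η(A)`. -/
theorem Nmap_q_eq_t {A : Type u} [CommRing A] (hA : (minimalPrimes A).Finite) (x : η.M A) :
    η.Nmap (η.q A) (x : η.N A) = η.t (η.M A) x := by
  funext Q
  rw [Nmap_apply η (η.q A) _ Q (PrimeSpectrum.comap (η.q A) Q) rfl, t_apply,
    ← resLift_algebraMap η hA Q x, map_resLift]


theorem comap_q_injective {A : Type u} [CommRing A] (hA : (minimalPrimes A).Finite) :
    Function.Injective (PrimeSpectrum.comap (η.q A)) := by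
  intro Q₁ Q₂ h
  apply PrimeSpectrum.ext
  rw [eq_ker_proj η hA Q₁ (PrimeSpectrum.comap (η.q A) Q₁) rfl,
    eq_ker_proj η hA Q₂ (PrimeSpectrum.comap (η.q A) Q₁) (by rw [h]; rfl)]

theorem comap_q_surjective {A : Type u} [CommRing A] :
    Function.Surjective (PrimeSpectrum.comap (η.q A)) := by
  intro P
  refine ⟨⟨RingHom.ker (proj η P), inferInstance⟩, ?_⟩
  apply PrimeSpectrum.ext
  exact comap_ker_proj η P

/-- `F(k(P) → k(Q))` is bijective for `Q` a prime of `M_η(A)` over `P`. -/
theorem bijective_map_residue_q {A : Type u} [CommRing A] (hA : (minimalPrimes A).Finite)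
    (Q : PrimeSpectrum (η.M A)) (P : PrimeSpectrum A)
    (hP : P.asIdeal = Ideal.comap (η.q A) Q.asIdeal) :
    Function.Bijective (η.map (Ideal.ResidueField.map P.asIdeal Q.asIdeal (η.q A) hP)) := by
  obtain rfl : P = PrimeSpectrum.comap (η.q A) Q := PrimeSpectrum.ext hP
  have h1 : (η.map (resLift η hA Q)).comp (η.map (Ideal.ResidueField.map
      (PrimeSpectrum.comap (η.q A) Q).asIdeal Q.asIdeal (η.q A) rfl)) = η.map (η.eta _) := by
    rw [← η.map_comp]
    congr 1
    exact RingHom.ext fun d => resLift_map η hA Q d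
  have h2 : (η.map (η.map (Ideal.ResidueField.map
      (PrimeSpectrum.comap (η.q A) Q).asIdeal Q.asIdeal (η.q A) rfl))).comp
      (η.map (resLift η hA Q)) = η.map (η.eta _) := by
    rw [← η.map_comp]
    congr 1
    exact RingHom.ext fun c => map_resLift η hA Q c
  have hφ : Function.Bijective (η.map (resLift η hA Q)) := by
    refine ⟨map_injective η _, ?_⟩
    have hs : Function.Surjective ((η.map (resLift η hA Q)).comp (η.map (Ideal.ResidueField.map
      (PrimeSpectrum.comap (η.q A) Q).asIdeal Q.asIdeal (η.q A) rfl))) := by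
      rw [h1]
      exact (η.bijective_map_eta _).2
    exact Function.Surjective.of_comp hs
  refine ⟨map_injective η _, fun w => ?_⟩
  obtain ⟨z, hz⟩ := (η.bijective_map_eta _).2 (η.map (resLift η hA Q) w)
  refine ⟨z, hφ.1 ?_⟩
  rw [← hz]
  exact congrArg (fun ψ => ψ z) (congrArg DFunLike.coe h1)

/-- `N_η(q_A)` is bijective. -/
theorem bijective_Nmap_q {A : Type u} [CommRing A] (hA : (minimalPrimes A).Finite) :
    Function.Bijective (η.Nmap (η.q A)) := by
  refine ⟨Nmap_injective_of_comap_surjective η _ (comap_q_surjective η), fun w => ?_⟩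
  have key : ∀ P : PrimeSpectrum A, ∃ z : η.obj P.asIdeal.ResidueField,
      ∀ (Q : PrimeSpectrum (η.M A)) (hQ : P.asIdeal = Ideal.comap (η.q A) Q.asIdeal),
        η.map (Ideal.ResidueField.map P.asIdeal Q.asIdeal (η.q A) hQ) z = w Q := by
    intro P
    obtain ⟨Q₀, hQ₀⟩ := comap_q_surjective η P
    have h₀ : P.asIdeal = Ideal.comap (η.q A) Q₀.asIdeal := by rw [← hQ₀]; rfl
    obtain ⟨z, hz⟩ := (bijective_map_residue_q η hA Q₀ P h₀).2 (w Q₀)
    refine ⟨z, fun Q hQ => ?_⟩
    have : Q = Q₀ := by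
      apply comap_q_injective η hA
      rw [hQ₀]
      exact (PrimeSpectrum.ext hQ).symm
    subst this
    exact hz
  choose z hz using key
  refine ⟨z, ?_⟩
  funext Q
  rw [Nmap_apply η (η.q A) z Q (PrimeSpectrum.comap (η.q A) Q) rfl]
  exact hz _ Q rfl

end Groth.Agent.Lib.Helper9.EtaPt
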