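import Groth.Agent.Lib.Helper9.EtaPt3
import Mathlib.RingTheory.IntegralClosure.IsIntegralClosure.Basic

/-!
Residue field factorizations and the ring `rel f`.
-/

set_option autoImplicit false
universe u

namespace Groth.Agent.Lib.Helper9.EtaPt

open _root_.EtaPt

variable (η : FieldEndo.{u})

section factor

variable {k k' : Type u} [Field k] [Field k'] (ρ : k →+* k') (φ : k' →+* η.obj k)

/-- If `φ ∘ ρ = η_k` then `F(ρ) ∘ φ = η_{k'}`. -/
theorem map_factor (h : φ.comp ρ = η.eta k) (c : k') : η.map ρ (φ c) = η.eta k' c := by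
  have hρ : ∀ d, φ (ρ d) = η.eta k d := fun d => congrArg (fun ψ => ψ d) (congrArg DFunLike.coe h)
  obtain ⟨n, d, hd⟩ := η.exists_pow_mem_range_eta _ (φ c)
  have hc : c ^ ringExpChar k ^ n = ρ d := by
    apply φ.injective
    rw [map_pow, ← hd, hρ]
  apply pow_inj_of_ringHom η ρ n
  rw [← map_pow, ← hd, map_eta, ← map_pow, hc]

/-- If `φ ∘ ρ = η_k` then `F(ρ)` is bijective. -/
theorem bijective_map_of_factor (h : φ.comp ρ = η.eta k) : Function.Bijective (η.map ρ) := by
  have h1 : (η.map φ).comp (η.map ρ) = η.map (η.eta k) := by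
    rw [← η.map_comp, h]
  have hφ : Function.Injective (η.map φ) := map_injective η φ
  refine ⟨map_injective η _, fun w => ?_⟩
  obtain ⟨z, hz⟩ := (η.bijective_map_eta k).2 (η.map φ w)
  refine ⟨z, hφ ?_⟩
  rw [← hz]
  exact congrArg (fun ψ => ψ z) (congrArg DFunLike.coe h1)

end factor

/-- If `Spec g` is bijective and all residue field extensions factor through `η`, then `N_η(g)` is
bijective. -/
theorem bijective_Nmap_of_factor {A C : Type u} [CommRing A] [CommRing C] (g : A →+* C)
    (hbij : Function.Bijective (PrimeSpectrum.comap g))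
    (hφ : ∀ Q : PrimeSpectrum C,
      ∃ φ : Q.asIdeal.ResidueField →+* η.obj (PrimeSpectrum.comap g Q).asIdeal.ResidueField,
        φ.comp (Ideal.ResidueField.map (PrimeSpectrum.comap g Q).asIdeal Q.asIdeal g rfl) =
          η.eta (PrimeSpectrum.comap g Q).asIdeal.ResidueField) :
    Function.Bijective (η.Nmap g) := by
  refine ⟨Nmap_injective_of_comap_surjective η _ hbij.2, fun w => ?_⟩
  have key : ∀ P : PrimeSpectrum A, ∃ z : η.obj P.asIdeal.ResidueField,
      ∀ (Q : PrimeSpectrum C) (hQ : P.asIdeal = Ideal.comap g Q.asIdeal),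
        η.map (Ideal.ResidueField.map P.asIdeal Q.asIdeal g hQ) z = w Q := by
    intro P
    obtain ⟨Q₀, rfl⟩ := hbij.2 P
    obtain ⟨φ, hφ₀⟩ := hφ Q₀
    obtain ⟨z, hz⟩ := (bijective_map_of_factor η _ φ hφ₀).2 (w Q₀)
    refine ⟨z, fun Q hQ => ?_⟩
    have : Q = Q₀ := by
      apply hbij.1
      exact (PrimeSpectrum.ext hQ).symm
    subst this
    exact hz
  choose z hz using key
  refine ⟨z, ?_⟩
  funext Q
  rw [Nmap_apply η g z Q (PrimeSpectrum.comap g Q) rfl]
  exact hz _ Q rfl


section rel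

variable {A B : Type u} [CommRing A] [CommRing B] (f : A →+* B)
  (hs : Function.Surjective (PrimeSpectrum.comap f))

/-- The underlying function of `relTheta`. -/
noncomputable def relThetaFun (b : η.rel f) : η.M A :=
  ⟨Classical.choose b.2, (Classical.choose_spec b.2).1⟩

theorem relThetaFun_spec (b : η.rel f) :
    η.Nmap f (relThetaFun η f b : η.N A) = η.t B b :=
  (Classical.choose_spec b.2).2

include hs in
theorem eq_of_Nmap_eq (x y : η.M A) (h : η.Nmap f (x : η.N A) = η.Nmap f (y : η.N A)) : x = y :=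
  Subtype.ext (Nmap_injective_of_comap_surjective η f hs h)

/-- The canonical map `rel f → M_η(A)`, `b ↦ N(f)⁻¹(t_B b)`. -/
noncomputable def relTheta : η.rel f →+* η.M A where
  toFun := relThetaFun η f
  map_one' := by
    apply eq_of_Nmap_eq η f hs
    rw [relThetaFun_spec]
    change η.t B 1 = η.Nmap f 1
    rw [map_one, map_one]
  map_mul' b b' := by
    apply eq_of_Nmap_eq η f hs
    rw [relThetaFun_spec]
    change η.t B (b * b') = η.Nmap f ((relThetaFun η f b : η.N A) * (relThetaFun η f b' : η.N A))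
    rw [map_mul, map_mul, relThetaFun_spec, relThetaFun_spec]
  map_zero' := by
    apply eq_of_Nmap_eq η f hs
    rw [relThetaFun_spec]
    change η.t B 0 = η.Nmap f 0
    rw [map_zero, map_zero]
  map_add' b b' := by
    apply eq_of_Nmap_eq η f hs
    rw [relThetaFun_spec]
    change η.t B (b + b') = η.Nmap f ((relThetaFun η f b : η.N A) + (relThetaFun η f b' : η.N A))
    rw [map_add, map_add, relThetaFun_spec, relThetaFun_spec]

theorem relTheta_spec (b : η.rel f) :
    η.Nmap f (relTheta η f hs b : η.N A) = η.t B b := relThetaFun_spec η f b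

theorem relTheta_qRel (a : A) : relTheta η f hs (η.qRel f a) = η.q A a := by
  apply eq_of_Nmap_eq η f hs
  rw [relTheta_spec]
  exact (η.Nmap_t_apply f a).symm

theorem relTheta_comp_qRel : (relTheta η f hs).comp (η.qRel f) = η.q A :=
  RingHom.ext (relTheta_qRel η f hs)

/-- Elements of `B` killed by `t_B` are nilpotent. -/
theorem isNilpotent_of_t_eq_zero (c : B) (h : η.t B c = 0) : IsNilpotent c := by
  rw [nilpotent_iff_mem_prime]
  intro J hJ
  have h1 := congrFun h ⟨J, hJ⟩
  rw [t_apply] at h1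
  have h2 := eta_injective η _ (h1.trans (map_zero _).symm)
  rwa [Ideal.algebraMap_residueField_eq_zero] at h2

theorem isNilpotent_of_relTheta_eq_zero (b : η.rel f) (h : relTheta η f hs b = 0) :
    IsNilpotent b := by
  have h1 : η.t B b = 0 := by
    rw [← relTheta_spec η f hs, h]
    exact map_zero _
  obtain ⟨n, hn⟩ := isNilpotent_of_t_eq_zero η (b : B) h1
  exact ⟨n, Subtype.ext hn⟩

end rel


section rel2

variable {A B : Type u} [CommRing A] [CommRing B] (f : A →+* B)
  (hs : Function.Surjective (PrimeSpectrum.comap f)) (hA : (minimalPrimes A).Finite)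

include hs

include hA in
theorem qRel_isIntegral : (η.qRel f).IsIntegral := by
  intro b
  obtain ⟨P, hPm, hP⟩ := Groth.Agent.S13802.result η A hA (relTheta η f hs b)
  have hc : relTheta η f hs (Polynomial.eval₂ (η.qRel f) b P) = 0 := by
    rw [Polynomial.hom_eval₂, relTheta_comp_qRel, hP]
  obtain ⟨n, hn⟩ := isNilpotent_of_relTheta_eq_zero η f hs _ hc
  refine ⟨P ^ n, hPm.pow n, ?_⟩
  rw [Polynomial.eval₂_pow, hn]

include hA in
theorem relTheta_isIntegral : (relTheta η f hs).IsIntegral := by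
  have h := Groth.Agent.S13802.result η A hA
  rw [← relTheta_comp_qRel η f hs] at h
  exact RingHom.IsIntegral.tower_top _ _ h

theorem comap_qRel_surjective : Function.Surjective (PrimeSpectrum.comap (η.qRel f)) := by
  intro P
  obtain ⟨Q, hQ⟩ := comap_q_surjective η P
  refine ⟨PrimeSpectrum.comap (relTheta η f hs) Q, ?_⟩
  rw [← hQ]
  apply PrimeSpectrum.ext
  change Ideal.comap (η.qRel f) (Ideal.comap (relTheta η f hs) Q.asIdeal) =
    Ideal.comap (η.q A) Q.asIdeal
  rw [Ideal.comap_comap, relTheta_comp_qRel]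

include hA in
/-- Lying over along `relTheta`. -/
theorem exists_comap_relTheta_eq (𝔮 : PrimeSpectrum (η.rel f)) :
    ∃ Q : PrimeSpectrum (η.M A), PrimeSpectrum.comap (relTheta η f hs) Q = 𝔮 := by
  letI : Algebra (η.rel f) (η.M A) := (relTheta η f hs).toAlgebra
  haveI : Algebra.IsIntegral (η.rel f) (η.M A) := ⟨relTheta_isIntegral η f hs hA⟩
  have hker : (⊥ : Ideal (η.M A)).comap (algebraMap (η.rel f) (η.M A)) ≤ 𝔮.asIdeal := by
    intro b hb
    have hb0 : relTheta η f hs b = 0 := hb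
    obtain ⟨n, hn⟩ := isNilpotent_of_relTheta_eq_zero η f hs b hb0
    exact 𝔮.isPrime.mem_of_pow_mem n (hn ▸ 𝔮.asIdeal.zero_mem)
  obtain ⟨Q, -, hQp, hQ⟩ := Ideal.exists_ideal_over_prime_of_isIntegral 𝔮.asIdeal
    (⊥ : Ideal (η.M A)) hker
  exact ⟨⟨Q, hQp⟩, PrimeSpectrum.ext hQ⟩

include hA in
theorem comap_qRel_injective : Function.Injective (PrimeSpectrum.comap (η.qRel f)) := by
  intro 𝔮₁ 𝔮₂ h
  obtain ⟨Q₁, rfl⟩ := exists_comap_relTheta_eq η f hs hA 𝔮₁
  obtain ⟨Q₂, rfl⟩ := exists_comap_relTheta_eq η f hs hA 𝔮₂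
  have : Q₁ = Q₂ := by
    apply comap_q_injective η hA
    have e : ∀ Q : PrimeSpectrum (η.M A), PrimeSpectrum.comap (η.q A) Q =
        PrimeSpectrum.comap (η.qRel f) (PrimeSpectrum.comap (relTheta η f hs) Q) := by
      intro Q
      apply PrimeSpectrum.ext
      change Ideal.comap (η.q A) Q.asIdeal =
        Ideal.comap (η.qRel f) (Ideal.comap (relTheta η f hs) Q.asIdeal)
      rw [Ideal.comap_comap, relTheta_comp_qRel]
    rw [e, e, h]
  rw [this]

end rel2


section rel3

variable {A B : Type u} [CommRing A] [CommRing B] (f : A →+* B)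
  (hs : Function.Surjective (PrimeSpectrum.comap f)) (hA : (minimalPrimes A).Finite)

include hs hA

theorem ker_proj_comp_relTheta (𝔮 : PrimeSpectrum (η.rel f)) :
    RingHom.ker ((proj η (PrimeSpectrum.comap (η.qRel f) 𝔮)).comp (relTheta η f hs)) =
      𝔮.asIdeal := by
  let 𝔮' : PrimeSpectrum (η.rel f) := PrimeSpectrum.comap (relTheta η f hs)
    ⟨RingHom.ker (proj η (PrimeSpectrum.comap (η.qRel f) 𝔮)), inferInstance⟩
  have h1 : 𝔮' = 𝔮 := by
    apply comap_qRel_injective η f hs hA
    apply PrimeSpectrum.ext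
    change Ideal.comap (η.qRel f) (Ideal.comap (relTheta η f hs)
      (RingHom.ker (proj η (PrimeSpectrum.comap (η.qRel f) 𝔮)))) = _
    rw [Ideal.comap_comap, relTheta_comp_qRel, comap_ker_proj]
  have h2 : 𝔮'.asIdeal = 𝔮.asIdeal := congrArg PrimeSpectrum.asIdeal h1
  rw [← h2]
  rfl

theorem exists_residue_factor_qRel (𝔮 : PrimeSpectrum (η.rel f)) :
    ∃ φ : 𝔮.asIdeal.ResidueField →+*
        η.obj (PrimeSpectrum.comap (η.qRel f) 𝔮).asIdeal.ResidueField,
      φ.comp (Ideal.ResidueField.map (PrimeSpectrum.comap (η.qRel f) 𝔮).asIdeal 𝔮.asIdeal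
        (η.qRel f) rfl) = η.eta (PrimeSpectrum.comap (η.qRel f) 𝔮).asIdeal.ResidueField := by
  have hker := ker_proj_comp_relTheta η f hs hA 𝔮
  refine ⟨Ideal.ResidueField.lift 𝔮.asIdeal
    ((proj η (PrimeSpectrum.comap (η.qRel f) 𝔮)).comp (relTheta η f hs)) (le_of_eq hker.symm) ?_, ?_⟩
  · intro x hx
    rw [Submonoid.mem_comap]
    apply IsUnit.mk0
    intro h0
    apply hx
    rw [← hker]
    exact h0
  · apply Ideal.ResidueField.ringHom_ext
    ext a
    simp only [RingHom.comp_apply]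
    rw [Ideal.ResidueField.map_algebraMap, Ideal.ResidueField.lift_algebraMap]
    simp only [RingHom.comp_apply]
    rw [relTheta_qRel]
    rfl

theorem bijective_Nmap_qRel : Function.Bijective (η.Nmap (η.qRel f)) :=
  bijective_Nmap_of_factor η (η.qRel f)
    ⟨comap_qRel_injective η f hs hA, comap_qRel_surjective η f hs⟩
    (exists_residue_factor_qRel η f hs hA)

end rel3


section rel4

variable {A B : Type u} [CommRing A] [CommRing B] (f : A →+* B)
  (hs : Function.Surjective (PrimeSpectrum.comap f)) (hA : (minimalPrimes A).Finite)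

/-- The embedding `k(𝔮) → F(k(𝔮 ∩ A))` for a prime `𝔮` of `rel f`. -/
noncomputable def relLift (𝔮 : PrimeSpectrum (η.rel f)) :
    𝔮.asIdeal.ResidueField →+* η.obj (PrimeSpectrum.comap (η.qRel f) 𝔮).asIdeal.ResidueField :=
  Ideal.ResidueField.lift 𝔮.asIdeal
    ((proj η (PrimeSpectrum.comap (η.qRel f) 𝔮)).comp (relTheta η f hs))
    (le_of_eq (ker_proj_comp_relTheta η f hs hA 𝔮).symm) (by
      intro x hx
      rw [Submonoid.mem_comap]
      apply IsUnit.mk0
      intro h0
      apply hx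
      rw [← ker_proj_comp_relTheta η f hs hA 𝔮]
      exact h0)

theorem relLift_algebraMap (𝔮 : PrimeSpectrum (η.rel f)) (b : η.rel f) :
    relLift η f hs hA 𝔮 (algebraMap (η.rel f) 𝔮.asIdeal.ResidueField b) =
      (relTheta η f hs b : η.N A) (PrimeSpectrum.comap (η.qRel f) 𝔮) :=
  Ideal.ResidueField.lift_algebraMap _ _ _ _ b

theorem relLift_comp (𝔮 : PrimeSpectrum (η.rel f)) :
    (relLift η f hs hA 𝔮).comp (Ideal.ResidueField.map
      (PrimeSpectrum.comap (η.qRel f) 𝔮).asIdeal 𝔮.asIdeal (η.qRel f) rfl) =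
      η.eta (PrimeSpectrum.comap (η.qRel f) 𝔮).asIdeal.ResidueField := by
  apply Ideal.ResidueField.ringHom_ext
  ext a
  simp only [RingHom.comp_apply]
  rw [Ideal.ResidueField.map_algebraMap, relLift_algebraMap, relTheta_qRel]
  rfl

include hA in
/-- `N(qRel f)(θ b) = t_{rel f}(b)`. -/
theorem Nmap_qRel_relTheta (b : η.rel f) :
    η.Nmap (η.qRel f) (relTheta η f hs b : η.N A) = η.t (η.rel f) b := by
  funext 𝔮
  rw [Nmap_apply η (η.qRel f) _ 𝔮 (PrimeSpectrum.comap (η.qRel f) 𝔮) rfl, t_apply,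
    ← relLift_algebraMap η f hs hA 𝔮 b, map_factor η _ _ (relLift_comp η f hs hA 𝔮)]

end rel4

end Groth.Agent.Lib.Helper9.EtaPt
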