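import Groth.Agent.Lib.Helper9.NormalLoc
import Groth.Agent.Lib.Helper9.EtaPt
import Groth.Agent.S13809
import Groth.Agent.S13825

/-!
# `q_A` is bijective for normal rings with finitely many minimal primes
-/

set_option autoImplicit false
set_option linter.style.haveILetI false
universe u

namespace Groth.Agent.Lib.Helper9.EtaPt

open _root_.EtaPt

variable (η : FieldEndo.{u})

theorem inV_away_of {A : Type u} [CommRing A] (f : A) (p₀ : Ideal A) [p₀.IsPrime]
    [IsDomain (Localization.Away f)]
    (hker : RingHom.ker (algebraMap A (Localization.Away f)) = p₀)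
    (hη : Function.Bijective (η.eta p₀.ResidueField)) : η.InV (Localization.Away f) := by
  have hq : p₀ = (⊥ : Ideal (Localization.Away f)).comap (algebraMap A (Localization.Away f)) := by
    rw [← hker]
    rfl
  have hb := RingHom.SurjectiveOnStalks.residueFieldMap_bijective
    (RingHom.surjectiveOnStalks_of_isLocalization (Submonoid.powers f) (Localization.Away f))
    p₀ (⊥ : Ideal (Localization.Away f)) hq
  have h2 := bijective_eta_of_ringEquiv η (RingEquiv.ofBijective _ hb) hη
  exact inV_of_isFractionRing η (Localization.Away f)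
    (⊥ : Ideal (Localization.Away f)).ResidueField h2

theorem bijective_q_of_isNormalRing {A : Type u} [CommRing A] (hn : EGA4.IsNormalRing A)
    (hA : (minimalPrimes A).Finite)
    (hη : ∀ p : PrimeSpectrum A, p.asIdeal ∈ minimalPrimes A →
      Function.Bijective (η.eta p.asIdeal.ResidueField)) :
    Function.Bijective (η.q A) := by
  haveI : IsReduced A := NormalLoc.isReduced_of_isNormalRing hn
  constructor
  · rw [injective_iff_map_eq_zero]
    intro a ha
    have h1 : η.t A a = 0 := congrArg Subtype.val ha
    have hnil : IsNilpotent a := by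
      rw [nilpotent_iff_mem_prime]
      intro P hP
      have h2 := congrFun h1 ⟨P, hP⟩
      rw [t_apply] at h2
      have h3 : η.eta _ (algebraMap A P.ResidueField a) = 0 := h2
      rw [map_eq_zero] at h3
      exact Ideal.algebraMap_residueField_eq_zero.mp h3
    exact hnil.eq_zero
  · rintro ⟨m, hm⟩
    -- the ideal of denominators
    let I : Ideal A :=
      { carrier := {s | ∃ a : A, η.t A s * m = η.t A a}
        add_mem' := by
          rintro s s' ⟨a, ha⟩ ⟨a', ha'⟩
          exact ⟨a + a', by rw [map_add, add_mul, ha, ha', map_add]⟩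
        zero_mem' := ⟨0, by rw [map_zero, zero_mul]⟩
        smul_mem' := by
          rintro c s ⟨a, ha⟩
          exact ⟨c * a, by rw [smul_eq_mul, map_mul, mul_assoc, ha, map_mul]⟩ }
    have hI : I = ⊤ := by
      by_contra hne
      obtain ⟨P, hP, hle⟩ := Ideal.exists_le_maximal I hne
      haveI : P.IsPrime := hP.isPrime
      obtain ⟨f, p₀, hfP, hp₀min, -, hker, hdom, hic⟩ := NormalLoc.exists_away hn hA P
      haveI := hdom
      haveI := hic
      haveI : p₀.IsPrime := hp₀min.1.1
      have hInV : η.InV (Localization.Away f) :=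
        inV_away_of η f p₀ hker (hη ⟨p₀, inferInstance⟩ hp₀min)
      have hbij := Groth.Agent.S13809.result η (Localization.Away f) hInV
      have hmB : η.Nmap (algebraMap A (Localization.Away f)) m ∈ η.M (Localization.Away f) :=
        Nmap_mem_M η _ hm
      obtain ⟨y, hy⟩ := hbij.2 ⟨_, hmB⟩
      have hy' : η.t (Localization.Away f) y = η.Nmap (algebraMap A (Localization.Away f)) m :=
        congrArg Subtype.val hy
      obtain ⟨a, s, rfl⟩ := IsLocalization.exists_mk'_eq (Submonoid.powers f) y
      obtain ⟨k, hk⟩ := s.2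
      -- `t(f^k) * Nmap m = Nmap (t a)`
      have h1 : η.Nmap (algebraMap A (Localization.Away f)) (η.t A (f ^ k) * m - η.t A a) = 0 := by
        rw [map_sub, map_mul, η.Nmap_t_apply, η.Nmap_t_apply, ← hy', ← map_mul, sub_eq_zero]
        congr 1
        have : algebraMap A (Localization.Away f) (f ^ k) =
            algebraMap A (Localization.Away f) (s : A) := by rw [← hk]
        rw [this, mul_comm, IsLocalization.mk'_spec]
      have h2 : η.t A (f ^ k) * m - η.t A a ∈ η.M A :=
        Subring.sub_mem _ (Subring.mul_mem _ (η.t_mem_M A _) hm) (η.t_mem_M A _)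
      obtain ⟨n, hn0⟩ := (Groth.Agent.S13825.result η A hA f).2 _ h2 h1
      have h3 : f ^ (n + k) ∈ I := by
        refine ⟨f ^ n * a, ?_⟩
        rw [mul_sub, sub_eq_zero] at hn0
        have e1 : η.t A (f ^ (n + k)) * m = η.t A f ^ n * (η.t A (f ^ k) * m) := by
          rw [pow_add, map_mul, map_pow, mul_assoc]
        rw [e1, hn0, map_mul, map_pow]
      exact hfP (hP.isPrime.mem_of_pow_mem _ (hle h3))
    have h1 : (1 : A) ∈ I := hI ▸ Submodule.mem_top
    obtain ⟨a, ha⟩ := h1
    refine ⟨a, Subtype.ext ?_⟩
    rw [map_one, one_mul] at ha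
    exact ha.symm

end Groth.Agent.Lib.Helper9.EtaPt
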