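import Groth.Agent.Lib.Helper9.EtaPt2
import Groth.Agent.Lib.Helper9.AWN
import Mathlib.FieldTheory.IsAlgClosed.AlgebraicClosure

/-!
# Membership in `M_η` descends along integral maps surjective on spectra
-/

set_option autoImplicit false
set_option linter.style.haveILetI false
universe u

namespace Groth.Agent.Lib.Helper9.EtaPt

open _root_.EtaPt

variable (η : FieldEndo.{u})

theorem bijective_eta_of_isAlgClosed (Ω : Type u) [Field Ω] [IsAlgClosed Ω] :
    Function.Bijective (η.eta Ω) := by
  refine ⟨eta_injective η Ω, fun x => ?_⟩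
  obtain ⟨n, c, hc⟩ := η.exists_pow_mem_range_eta Ω x
  have hpos : 0 < ringExpChar Ω ^ n := by
    have : 0 < ringExpChar Ω := lt_of_lt_of_le Nat.zero_lt_one (le_max_right _ _)
    exact pow_pos this n
  obtain ⟨d, hd⟩ := IsAlgClosed.exists_pow_nat_eq c hpos
  refine ⟨d, ?_⟩
  apply pow_inj_of_ringHom η (RingHom.id Ω) n
  rw [← map_pow, hd, hc]

section ext
variable {A B : Type u} [CommRing A] [CommRing B] (f : A →+* B)

theorem exists_extension (hf : f.IsIntegral) (hs : Function.Surjective (PrimeSpectrum.comap f))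
    (R : Type u) [CommRing R] [IsDomain R] (g : A →+* R) (𝔭 : Ideal R) [𝔭.IsPrime] :
    ∃ (V : ValuationSubring (AlgebraicClosure (FractionRing R))) (ι : R →+* V) (g' : B →+* V),
      Function.Injective ι ∧ g'.comp f = ι.comp g ∧
        (IsLocalRing.maximalIdeal V).comap ι = 𝔭 := by
  let Ω := AlgebraicClosure (FractionRing R)
  let j : R →+* Ω := (algebraMap (FractionRing R) Ω).comp (algebraMap R (FractionRing R))
  have hj : Function.Injective j :=
    (algebraMap (FractionRing R) Ω).injective.comp (IsFractionRing.injective R (FractionRing R))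
  have hker : RingHom.ker f ≤ RingHom.ker (j.comp g) := by
    intro a ha
    have hnil : IsNilpotent a := by
      rw [nilpotent_iff_mem_prime]
      intro P hP
      obtain ⟨Q, hQ⟩ := hs ⟨P, hP⟩
      have h1 : a ∈ (PrimeSpectrum.comap f Q).asIdeal := by
        change f a ∈ Q.asIdeal
        rw [(RingHom.mem_ker).mp ha]
        exact Q.asIdeal.zero_mem
      rw [hQ] at h1
      exact h1
    rw [RingHom.mem_ker]
    exact (hnil.map (j.comp g)).eq_zero
  obtain ⟨γ, hγ⟩ := UnivHomeoRing.exists_ringHom_extension_of_ker_le f hf (j.comp g) hker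
  letI : Algebra R Ω := j.toAlgebra
  let E : Subalgebra R Ω := integralClosure R Ω
  have hγE : ∀ b, γ b ∈ E := by
    intro b
    obtain ⟨P, hP, hP0⟩ := hf b
    refine ⟨P.map g, hP.map g, ?_⟩
    rw [Polynomial.eval₂_map]
    have : (algebraMap R Ω).comp g = γ.comp f := hγ.symm
    rw [this, ← Polynomial.hom_eval₂, hP0, map_zero]
  have hkerE : (⊥ : Ideal E).comap (algebraMap R E) ≤ 𝔭 := by
    intro r hr
    have h0 : algebraMap R E r = 0 := hr
    have h1 : j r = 0 := congrArg Subtype.val h0
    rw [hj (h1.trans (map_zero j).symm)]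
    exact 𝔭.zero_mem
  obtain ⟨𝔓, -, h𝔓prime, h𝔓⟩ := Ideal.exists_ideal_over_prime_of_isIntegral 𝔭 (⊥ : Ideal E) hkerE
  haveI := h𝔓prime
  have hkerval : RingHom.ker (E.val : E →+* Ω) ≤ 𝔓 := by
    intro e he
    have : e = 0 := Subtype.ext he
    rw [this]
    exact 𝔓.zero_mem
  obtain ⟨V, gE, hgE, hmV⟩ := exists_valuationSubring_dominating' (E.val : E →+* Ω) 𝔓 hkerval
  have hV : ∀ e ∈ E, e ∈ V := by
    intro e he
    have := (gE ⟨e, he⟩).2
    rwa [hgE] at this
  refine ⟨V, j.codRestrict V.toSubring (fun r => hV _ (E.algebraMap_mem r)),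
    γ.codRestrict V.toSubring (fun b => hV _ (hγE b)), ?_, ?_, ?_⟩
  · intro r r' h
    exact hj (congrArg Subtype.val h)
  · refine RingHom.ext fun a => Subtype.ext ?_
    exact congrArg (fun ψ : A →+* Ω => ψ a) hγ
  · ext r
    rw [Ideal.mem_comap, ← h𝔓, Ideal.mem_comap, ← hmV, Ideal.mem_comap]
    have : (j.codRestrict V.toSubring (fun r => hV _ (E.algebraMap_mem r))) r =
        gE (algebraMap R E r) := by
      apply Subtype.ext
      rw [hgE]
      rfl
    rw [this]

end ext

end Groth.Agent.Lib.Helper9.EtaPt
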