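import Groth.Agent.Lib.Helper9.EtaPt6

/-!
# Membership in `M_η` descends along integral maps surjective on spectra, II
-/

set_option autoImplicit false
set_option linter.style.haveILetI false
universe u

namespace Groth.Agent.Lib.Helper9.EtaPt

open _root_.EtaPt

variable (η : FieldEndo.{u})

theorem generic_cmp {R V : Type u} [CommRing R] [IsDomain R] [CommRing V] [IsDomain V]
    (ι : R →+* V) (hbot : (⊥ : Ideal R) = (⊥ : Ideal V).comap ι) (y : η.N R) (v : V)
    (h : η.Nmap ι y = η.t V v) (r₀ : (⊥ : Ideal R).ResidueField)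
    (hr₀ : η.eta _ r₀ = y ⟨⊥, Ideal.isPrime_bot⟩) :
    algebraMap V (⊥ : Ideal V).ResidueField v = Ideal.ResidueField.map ⊥ ⊥ ι hbot r₀ := by
  have h1 := congrFun h ⟨⊥, Ideal.isPrime_bot⟩
  rw [Nmap_apply η ι y ⟨⊥, Ideal.isPrime_bot⟩ ⟨⊥, Ideal.isPrime_bot⟩ hbot, t_apply, ← hr₀,
    map_eta] at h1
  exact (eta_injective η _ h1).symm

theorem mem_M_of_Nmap_mem_M {A B : Type u} [CommRing A] [CommRing B] (f : A →+* B)
    (hf : f.IsIntegral) (hs : Function.Surjective (PrimeSpectrum.comap f)) (x : η.N A)
    (hx : η.Nmap f x ∈ η.M B) : x ∈ η.M A := by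
  intro R _ _ _ hR g
  set y := η.Nmap g x with hy
  let Ω := AlgebraicClosure (FractionRing R)
  let gen : PrimeSpectrum R := ⟨⊥, Ideal.isPrime_bot⟩
  have hK : Function.Bijective (η.eta gen.asIdeal.ResidueField) := bijective_eta_of_inV η R _ hR
  obtain ⟨r₀, hr₀⟩ := hK.2 (y gen)
  have key : ∀ 𝔭 : PrimeSpectrum R, ∃ (V : ValuationSubring Ω) (ι : R →+* V) (v : V),
      Function.Injective ι ∧ (IsLocalRing.maximalIdeal V).comap ι = 𝔭.asIdeal ∧
        η.Nmap ι y = η.t V v := by
    intro 𝔭
    obtain ⟨V, ι, g', hι, hcomp, hm⟩ := exists_extension f hf hs R g 𝔭.asIdeal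
    have hV : η.InV V := inV_of_isFractionRing η V Ω (bijective_eta_of_isAlgClosed η Ω)
    obtain ⟨v, hv⟩ := hx V hV g'
    refine ⟨V, ι, v, hι, hm, ?_⟩
    rw [hy, ← Nmap_comp, ← hcomp, Nmap_comp]
    exact hv.symm
  have hbot_of : ∀ {V : Type u} [CommRing V] [IsDomain V] (ι : R →+* V), Function.Injective ι →
      (⊥ : Ideal R) = (⊥ : Ideal V).comap ι := by
    intro V _ _ ι hι
    ext a
    rw [Ideal.mem_comap, Ideal.mem_bot, Ideal.mem_bot]
    exact ⟨fun h => h ▸ map_zero ι, fun h => hι (h.trans (map_zero ι).symm)⟩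
  -- Step 1: `r₀` comes from `R`
  have hr₀R : ∃ r : R, algebraMap R gen.asIdeal.ResidueField r = r₀ := by
    obtain ⟨a, b, hb, hab⟩ := IsFractionRing.div_surjective (A := R) r₀
    have hb0 : algebraMap R gen.asIdeal.ResidueField b ≠ 0 := by
      intro h0
      have := (IsFractionRing.injective R gen.asIdeal.ResidueField) (h0.trans (map_zero _).symm)
      exact (mem_nonZeroDivisors_iff_ne_zero.mp hb) this
    obtain ⟨c, hc | hc⟩ := ValuationRing.cond a b
    · -- `a * c = b`
      by_cases hcu : IsUnit c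
      · obtain ⟨u, rfl⟩ := hcu
        refine ⟨((u⁻¹ : Rˣ) : R), ?_⟩
        have ha0 : algebraMap R gen.asIdeal.ResidueField a ≠ 0 := by
          intro h0
          apply hb0
          rw [← hc, map_mul, h0, zero_mul]
        have hu : algebraMap R gen.asIdeal.ResidueField (u : R) *
            algebraMap R gen.asIdeal.ResidueField ((u⁻¹ : Rˣ) : R) = 1 := by
          rw [← map_mul, Units.mul_inv, map_one]
        have hu0 : algebraMap R gen.asIdeal.ResidueField (u : R) ≠ 0 := by
          intro h0
          rw [h0, zero_mul] at hu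
          exact zero_ne_one hu
        rw [← hab, ← hc, map_mul, eq_div_iff (mul_ne_zero ha0 hu0)]
        linear_combination (algebraMap R gen.asIdeal.ResidueField a) * hu
      · exfalso
        obtain ⟨V, ι, v, hι, hm, hv⟩ := key ⟨IsLocalRing.maximalIdeal R, inferInstance⟩
        have hcmp := generic_cmp η ι (hbot_of ι hι) y v hv r₀ hr₀
        have hcm : ι c ∈ IsLocalRing.maximalIdeal V := by
          have : c ∈ (IsLocalRing.maximalIdeal V).comap ι := by
            rw [hm]
            exact hcu
          exact this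
        apply hcm
        have h1 : algebraMap V (⊥ : Ideal V).ResidueField (ι c * v) = 1 := by
          rw [map_mul, hcmp, ← Ideal.ResidueField.map_algebraMap ⊥ ⊥ ι (hbot_of ι hι) c, ← map_mul,
            ← hab]
          have : algebraMap R gen.asIdeal.ResidueField c *
              (algebraMap R gen.asIdeal.ResidueField a / algebraMap R gen.asIdeal.ResidueField b) = 1 := by
            rw [← hc, map_mul]
            have ha0 : algebraMap R gen.asIdeal.ResidueField a ≠ 0 := by
              intro h0
              apply hb0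
              rw [← hc, map_mul, h0, zero_mul]
            have hc0 : algebraMap R gen.asIdeal.ResidueField c ≠ 0 := by
              intro h0
              apply hb0
              rw [← hc, map_mul, h0, mul_zero]
            field_simp
          rw [this, map_one]
        have h2 : ι c * v = 1 := by
          apply IsFractionRing.injective V (⊥ : Ideal V).ResidueField
          rw [h1, map_one]
        exact IsUnit.of_mul_eq_one _ h2
    · -- `b * c = a`
      refine ⟨c, ?_⟩
      rw [← hab, ← hc, map_mul]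
      field_simp
  obtain ⟨r, hr⟩ := hr₀R
  refine ⟨r, ?_⟩
  funext 𝔭
  obtain ⟨V, ι, v, hι, hm, hv⟩ := key 𝔭
  have hcmp := generic_cmp η ι (hbot_of ι hι) y v hv r₀ hr₀
  have hvr : v = ι r := by
    apply IsFractionRing.injective V (⊥ : Ideal V).ResidueField
    rw [hcmp, ← hr, Ideal.ResidueField.map_algebraMap]
  have h1 := congrFun hv ⟨IsLocalRing.maximalIdeal V, inferInstance⟩
  rw [Nmap_apply η ι y ⟨IsLocalRing.maximalIdeal V, inferInstance⟩ 𝔭 hm.symm, t_apply, hvr,
    ← Ideal.ResidueField.map_algebraMap 𝔭.asIdeal (IsLocalRing.maximalIdeal V) ι hm.symm r,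
    ← map_eta] at h1
  rw [t_apply]
  exact (map_injective η _ h1).symm

end Groth.Agent.Lib.Helper9.EtaPt
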