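import Groth.Agent.S13828
import Mathlib.RingTheory.Flat.TorsionFree
import Mathlib.RingTheory.Flat.FaithfullyFlat.Algebra

/-!
# Faithfully flat descent for `q` of the integral closure in the total ring of fractions
-/

set_option autoImplicit false
set_option linter.style.haveILetI false
universe u

namespace Groth.Agent.Lib.Helper9.EtaPt

open _root_.EtaPt

variable (η : FieldEndo.{u})

section
variable (A A' : Type u) [CommRing A] [CommRing A'] [Algebra A A'] [Module.FaithfullyFlat A A']

theorem nonZeroDivisors_le_comap :
    nonZeroDivisors A ≤ (nonZeroDivisors A').comap (algebraMap A A') := by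
  intro s hs
  rw [Submonoid.mem_comap, mem_nonZeroDivisors_iff_right]
  intro x hx
  have hreg : IsSMulRegular A' s := Module.Flat.isSMulRegular_of_nonZeroDivisors hs
  apply hreg
  change s • x = s • 0
  rw [smul_zero, Algebra.smul_def, mul_comm]
  exact hx

/-- The induced map on total rings of fractions. -/
noncomputable def fracMap : FractionRing A →+* FractionRing A' :=
  IsLocalization.map (FractionRing A') (algebraMap A A') (nonZeroDivisors_le_comap A A')

theorem fracMap_algebraMap (a : A) :
    fracMap A A' (algebraMap A (FractionRing A) a) =
      algebraMap A' (FractionRing A') (algebraMap A A' a) :=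
  IsLocalization.map_eq _ a

theorem fracMap_mem (b : FractionRing A) (hb : b ∈ integralClosure A (FractionRing A)) :
    fracMap A A' b ∈ integralClosure A' (FractionRing A') := by
  obtain ⟨P, hP, hP0⟩ := hb
  refine ⟨P.map (algebraMap A A'), hP.map _, ?_⟩
  rw [Polynomial.eval₂_map]
  have : (algebraMap A' (FractionRing A')).comp (algebraMap A A') =
      (fracMap A A').comp (algebraMap A (FractionRing A)) :=
    RingHom.ext fun a => (fracMap_algebraMap A A' a).symm
  rw [this, ← Polynomial.hom_eval₂, hP0, map_zero]

/-- The induced map on integral closures. -/
noncomputable def icMap : integralClosure A (FractionRing A) →+*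
    integralClosure A' (FractionRing A') :=
  ((fracMap A A').comp (integralClosure A (FractionRing A)).val.toRingHom).codRestrict
    (integralClosure A' (FractionRing A')).toSubring (fun b => fracMap_mem A A' b b.2)

theorem icMap_coe (b : integralClosure A (FractionRing A)) :
    ((icMap A A' b : integralClosure A' (FractionRing A')) : FractionRing A') =
      fracMap A A' (b : FractionRing A) := rfl

theorem comap_algebraMap_integralClosure_surjective (R : Type u) [CommRing R] :
    Function.Surjective (PrimeSpectrum.comap
      (algebraMap R (integralClosure R (FractionRing R)))) := by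
  intro p
  have hker : (⊥ : Ideal (integralClosure R (FractionRing R))).comap
      (algebraMap R (integralClosure R (FractionRing R))) ≤ p.asIdeal := by
    intro x hx
    have h0 : algebraMap R (integralClosure R (FractionRing R)) x = 0 := hx
    have h1 : algebraMap R (FractionRing R) x = 0 := congrArg Subtype.val h0
    have h2 : x = 0 := (IsFractionRing.injective R (FractionRing R)) (h1.trans (map_zero _).symm)
    rw [h2]
    exact p.asIdeal.zero_mem
  obtain ⟨q, -, hq_prime, hq⟩ := Ideal.exists_ideal_over_prime_of_isIntegral p.asIdeal
    (⊥ : Ideal (integralClosure R (FractionRing R))) hker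
  exact ⟨⟨q, hq_prime⟩, PrimeSpectrum.ext hq⟩

theorem bijective_qRel_integralClosure (hA : (minimalPrimes A).Finite)
    (hA' : (minimalPrimes A').Finite)
    (h : Function.Bijective (η.qRel (algebraMap A' (integralClosure A' (FractionRing A'))))) :
    Function.Bijective (η.qRel (algebraMap A (integralClosure A (FractionRing A)))) := by
  have hfinj : Function.Injective (algebraMap A A') :=
    FaithfulSMul.algebraMap_injective A A'
  refine Groth.Agent.S13828.result η (algebraMap A (integralClosure A (FractionRing A)))
    (algebraMap A A') (icMap A A') (algebraMap A' (integralClosure A' (FractionRing A'))) ?_ ?_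
    hA hA' (comap_algebraMap_integralClosure_surjective A)
    (comap_algebraMap_integralClosure_surjective A') h
  · refine RingHom.ext fun a => Subtype.ext ?_
    exact (fracMap_algebraMap A A' a).symm
  · intro a' b hab
    have hab' : algebraMap A' (FractionRing A') a' = fracMap A A' (b : FractionRing A) :=
      congrArg Subtype.val hab
    obtain ⟨x, s, hxs⟩ := IsLocalization.exists_mk'_eq (nonZeroDivisors A) (b : FractionRing A)
    have hs' : algebraMap A A' s ∈ nonZeroDivisors A' := nonZeroDivisors_le_comap A A' s.2
    have h1 : a' * algebraMap A A' s = algebraMap A A' x := by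
      apply IsFractionRing.injective A' (FractionRing A')
      rw [map_mul, hab', ← hxs, ← fracMap_algebraMap, ← fracMap_algebraMap, ← map_mul,
        IsLocalization.mk'_spec]
    have h2 : x ∈ ((Ideal.span {(s : A)}).map (algebraMap A A')).comap (algebraMap A A') := by
      rw [Ideal.mem_comap, ← h1, Ideal.map_span, Set.image_singleton]
      exact Ideal.mul_mem_left _ _ (Ideal.subset_span rfl)
    rw [Ideal.comap_map_eq_self_of_faithfullyFlat, Ideal.mem_span_singleton'] at h2
    obtain ⟨a, ha⟩ := h2
    have hfa : algebraMap A A' a = a' := by
      have h3 : algebraMap A A' a * algebraMap A A' s = a' * algebraMap A A' s := by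
        rw [← map_mul, ha, h1]
      exact (mul_cancel_right_mem_nonZeroDivisors hs').mp h3
    refine ⟨a, ⟨hfa, ?_⟩, ?_⟩
    · apply Subtype.ext
      change algebraMap A (FractionRing A) a = (b : FractionRing A)
      rw [← hxs, IsLocalization.eq_mk'_iff_mul_eq, ← map_mul, ha]
    · rintro a₂ ⟨h4, -⟩
      exact hfinj (h4.trans hfa.symm)

end

end Groth.Agent.Lib.Helper9.EtaPt
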