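import Groth.Agent.Lib.Helper9.EtaPt7
import Groth.Agent.Lib.Helper9.EtaPt3
import Groth.Agent.S13802
import Mathlib.FieldTheory.Perfect

/-!
# `M_η` of a valuation ring: generic evaluation
-/

set_option autoImplicit false
set_option linter.style.haveILetI false
universe u

namespace Groth.Agent.Lib.Helper9.EtaPt

open _root_.EtaPt

variable (η : FieldEndo.{u})

section general
variable (R : Type u) [CommRing R] [IsDomain R]

/-- The generic point. -/
abbrev gen : PrimeSpectrum R := ⟨⊥, Ideal.isPrime_bot⟩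

/-- The map `R → F(K)`. -/
noncomputable abbrev psi : R →+* η.obj (⊥ : Ideal R).ResidueField :=
  (η.eta (⊥ : Ideal R).ResidueField).comp (algebraMap R (⊥ : Ideal R).ResidueField)

theorem ev_injOn : Set.InjOn (fun x : η.N R => x (gen R)) (η.M R) := by
  intro x hx x' hx' hxx'
  have hxx : x (gen R) = x' (gen R) := hxx'
  have hz : x - x' ∈ η.M R := Subring.sub_mem _ hx hx'
  have hzgen : (x - x') (gen R) = 0 := by
    change x (gen R) - x' (gen R) = 0
    rw [hxx, sub_self]
  rw [← sub_eq_zero]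
  funext 𝔭
  obtain ⟨V, ι, g', hι, hcomp, hm⟩ := exists_extension (RingHom.id R)
    (RingHom.isIntegral_of_surjective _ Function.surjective_id) (fun P => ⟨P, rfl⟩) R (RingHom.id R)
    𝔭.asIdeal
  have hV : η.InV V := inV_of_isFractionRing η V (AlgebraicClosure (FractionRing R))
    (bijective_eta_of_isAlgClosed η _)
  have hιg : ι = g' := by
    have := hcomp
    rw [RingHom.comp_id, RingHom.comp_id] at this
    exact this.symm
  obtain ⟨v, hv⟩ := hz V hV ι
  have hbot : (⊥ : Ideal R) = (⊥ : Ideal V).comap ι := by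
    ext a
    rw [Ideal.mem_comap, Ideal.mem_bot, Ideal.mem_bot]
    exact ⟨fun h => h ▸ map_zero ι, fun h => hι (h.trans (map_zero ι).symm)⟩
  have hcmp := generic_cmp η ι hbot (x - x') v hv.symm 0 (by rw [map_zero]; exact hzgen.symm)
  rw [map_zero] at hcmp
  have hv0 : v = 0 := by
    apply IsFractionRing.injective V (⊥ : Ideal V).ResidueField
    rw [hcmp, map_zero]
  have h1 := congrFun hv ⟨IsLocalRing.maximalIdeal V, inferInstance⟩
  rw [hv0, map_zero, Nmap_apply η ι (x - x') ⟨IsLocalRing.maximalIdeal V, inferInstance⟩ 𝔭 hm.symm]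
    at h1
  have h2 : η.map (Ideal.ResidueField.map 𝔭.asIdeal (IsLocalRing.maximalIdeal V) ι hm.symm)
      ((x - x') 𝔭) = 0 := h1.symm
  rw [map_eq_zero] at h2
  exact h2

theorem ev_isIntegralElem (x : η.N R) (hx : x ∈ η.M R) :
    (psi η R).IsIntegralElem (x (gen R)) := by
  have hfin : (minimalPrimes R).Finite := by
    rw [IsDomain.minimalPrimes_eq_singleton_bot]
    exact Set.finite_singleton _
  obtain ⟨P, hP, hP0⟩ := Groth.Agent.S13802.result η R hfin ⟨x, hx⟩
  refine ⟨P, hP, ?_⟩
  have h1 := congrArg (proj η (gen R)) hP0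
  rw [Polynomial.hom_eval₂, map_zero] at h1
  exact h1

/-- Integral elements of `η(K)` come from `R` when `R` is integrally closed. -/
theorem exists_of_isIntegralElem_eta [IsIntegrallyClosed R] (z : (⊥ : Ideal R).ResidueField)
    (hz : (psi η R).IsIntegralElem (η.eta _ z)) : ∃ r : R, algebraMap R _ r = z := by
  obtain ⟨P, hP, hP0⟩ := hz
  have h1 : η.eta _ (Polynomial.eval₂ (algebraMap R (⊥ : Ideal R).ResidueField) z P) = 0 := by
    rw [Polynomial.hom_eval₂]
    exact hP0
  rw [map_eq_zero] at h1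
  have hint : IsIntegral R z := ⟨P, hP, h1⟩
  exact IsIntegrallyClosed.algebraMap_eq_of_integral hint

theorem exists_of_isIntegral_of_bijective [IsIntegrallyClosed R]
    (hK : Function.Bijective (η.eta (⊥ : Ideal R).ResidueField))
    (y : η.obj (⊥ : Ideal R).ResidueField) (hy : (psi η R).IsIntegralElem y) :
    ∃ x ∈ η.M R, x (gen R) = y := by
  obtain ⟨z, rfl⟩ := hK.2 y
  obtain ⟨r, rfl⟩ := exists_of_isIntegralElem_eta η R z hy
  exact ⟨η.t R r, η.t_mem_M R r, rfl⟩

end general

end Groth.Agent.Lib.Helper9.EtaPt
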