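import Mathlib
set_option backward.isDefEq.respectTransparency false
set_option maxHeartbeats 800000
set_option autoImplicit false
set_option linter.unusedSectionVars false
set_option linter.unusedVariables false
universe w w' w'' v v' v'' u u' u''
open CategoryTheory CategoryTheory.Limits Opposite

namespace Groth.Agent.Lib.Helper9.ExtFun

open Abelian

section

variable {C : Type u} [Category.{v} C] [Abelian C] [HasExt.{w} C] [EnoughInjectives C]

/-- the standard short exact sequence `0 → Y → I(Y) → Q → 0` -/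
noncomputable def injSES (Y : C) : ShortComplex C :=
  ShortComplex.mk (Injective.ι Y) (cokernel.π (Injective.ι Y)) (cokernel.condition _)

lemma injSES_shortExact (Y : C) : (injSES Y).ShortExact where
  exact := ShortComplex.exact_cokernel _
  mono_f := by dsimp [injSES]; infer_instance
  epi_g := by dsimp [injSES]; infer_instance

/-- dimension shifting -/
lemma exists_comp_extClass {X Y : C} {n : ℕ} (x : Ext X Y (n + 1)) :
    ∃ x' : Ext X (injSES Y).X₃ n, x'.comp (injSES_shortExact Y).extClass rfl = x := by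
  apply Ext.covariant_sequence_exact₁ X (injSES_shortExact Y) (x : Ext X (injSES Y).X₁ (n + 1)) _ rfl
  haveI : Injective (injSES Y).X₂ := by dsimp [injSES]; infer_instance
  exact Ext.eq_zero_of_injective _

variable {D : Type u'} [Category.{v'} D] [Abelian D] [HasExt.{w'} D]

/-- **naturality of `mapExactFunctor` in the functor** -/
theorem mapExactFunctor_naturality (F F' : C ⥤ D) [F.Additive] [F'.Additive]
    [PreservesFiniteLimits F] [PreservesFiniteColimits F]
    [PreservesFiniteLimits F'] [PreservesFiniteColimits F'] (τ : F ⟶ F') :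
    ∀ (n : ℕ) {X Y : C} (x : Ext X Y n),
      (x.mapExactFunctor F).comp (Ext.mk₀ (τ.app Y)) (add_zero n) =
        (Ext.mk₀ (τ.app X)).comp (x.mapExactFunctor F') (zero_add n) := by
  intro n
  induction n with
  | zero =>
    intro X Y x
    obtain ⟨φ, rfl⟩ := (Ext.mk₀_bijective X Y).2 x
    rw [Ext.mapExactFunctor_mk₀, Ext.mapExactFunctor_mk₀, Ext.mk₀_comp_mk₀, Ext.mk₀_comp_mk₀,
      τ.naturality]
  | succ n ih =>
    intro X Y x
    obtain ⟨x', rfl⟩ := exists_comp_extClass x
    have hS := injSES_shortExact Y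
    rw [Ext.mapExactFunctor_comp, Ext.mapExactFunctor_comp, Ext.mapExactFunctor_extClass,
      Ext.mapExactFunctor_extClass]
    let φ : (injSES Y).map F ⟶ (injSES Y).map F' :=
      { τ₁ := τ.app _, τ₂ := τ.app _, τ₃ := τ.app _
        comm₁₂ := (τ.naturality _).symm
        comm₂₃ := (τ.naturality _).symm }
    have hnat := ShortComplex.ShortExact.extClass_naturality (hS.map_of_exact F) (hS.map_of_exact F') φ
    have e1 : ((x'.mapExactFunctor F).comp (hS.map_of_exact F).extClass rfl).comp
        (Ext.mk₀ (τ.app Y)) (add_zero (n + 1)) =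
        (x'.mapExactFunctor F).comp ((hS.map_of_exact F).extClass.comp (Ext.mk₀ (τ.app Y)) (add_zero 1)) rfl :=
      Ext.comp_assoc_of_third_deg_zero _ _ _ _
    rw [e1]
    have e2 : (hS.map_of_exact F).extClass.comp (Ext.mk₀ (τ.app Y)) (add_zero 1) =
        (Ext.mk₀ (τ.app (injSES Y).X₃)).comp (hS.map_of_exact F').extClass (zero_add 1) := hnat
    rw [e2]
    rw [← Ext.comp_assoc (a₁ := n) (a₂ := 0) (a₃ := 1) _ _ _ (add_zero n) (zero_add 1) (by lia)]
    rw [ih x']
    rw [Ext.comp_assoc (a₁ := 0) (a₂ := n) (a₃ := 1) _ _ _ (zero_add n) rfl (by lia)]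

/-- `mapExactFunctor` along the identity functor -/
theorem mapExactFunctor_id :
    ∀ (n : ℕ) {X Y : C} (x : Ext X Y n), x.mapExactFunctor (𝟭 C) = x := by
  intro n
  induction n with
  | zero =>
    intro X Y x
    obtain ⟨φ, rfl⟩ := (Ext.mk₀_bijective X Y).2 x
    rw [Ext.mapExactFunctor_mk₀]
    rfl
  | succ n ih =>
    intro X Y x
    obtain ⟨x', rfl⟩ := exists_comp_extClass x
    have hS := injSES_shortExact Y
    rw [Ext.mapExactFunctor_comp, Ext.mapExactFunctor_extClass, ih x']

variable {E : Type u''} [Category.{v''} E] [Abelian E] [HasExt.{w''} E]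

/-- `mapExactFunctor` along a composite -/
theorem mapExactFunctor_comp_functor (F : C ⥤ D) (G : D ⥤ E) [F.Additive] [G.Additive]
    [PreservesFiniteLimits F] [PreservesFiniteColimits F]
    [PreservesFiniteLimits G] [PreservesFiniteColimits G] :
    ∀ (n : ℕ) {X Y : C} (x : Ext X Y n),
      x.mapExactFunctor (F ⋙ G) = (x.mapExactFunctor F).mapExactFunctor G := by
  intro n
  induction n with
  | zero =>
    intro X Y x
    obtain ⟨φ, rfl⟩ := (Ext.mk₀_bijective X Y).2 x
    rw [Ext.mapExactFunctor_mk₀, Ext.mapExactFunctor_mk₀, Ext.mapExactFunctor_mk₀]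
    rfl
  | succ n ih =>
    intro X Y x
    obtain ⟨x', rfl⟩ := exists_comp_extClass x
    have hS := injSES_shortExact Y
    rw [Ext.mapExactFunctor_comp, Ext.mapExactFunctor_comp, Ext.mapExactFunctor_comp,
      Ext.mapExactFunctor_extClass, Ext.mapExactFunctor_extClass, Ext.mapExactFunctor_extClass, ih x']

end

end Groth.Agent.Lib.Helper9.ExtFun
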