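import Groth.Prelude.Def_MoreMor
import Mathlib.AlgebraicGeometry.Cover.Directed

namespace Groth.Agent.Lib.Helper9.FEtLift

open CategoryTheory CategoryTheory.Limits AlgebraicGeometry TopologicalSpace

universe u

set_option backward.isDefEq.respectTransparency.types false in
theorem affine_lift {X S : Scheme.{u}} (f : X ⟶ S) (hf : MoreMor.IsFormallyEtaleHom f)
    {T T' : Scheme.{u}} [IsAffine T'] (t : T ⟶ T') [IsClosedImmersion t]
    (hK : ∀ x y : Γ(T', ⊤), t.appTop x = 0 → t.appTop y = 0 → x * y = 0)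
    (a : T ⟶ X) (b : T' ⟶ S) (w : t ≫ b = a ≫ f) :
    ∃! l : T' ⟶ X, t ≫ l = a ∧ l ≫ f = b := by
  let e' : T' ≅ Spec Γ(T', ⊤) := T'.isoSpec
  have hci : IsClosedImmersion (t ≫ e'.hom) := inferInstance
  obtain ⟨I, e, hg⟩ := (IsClosedImmersion.Spec_iff (f := t ≫ e'.hom)).mp hci
  have hI : I ^ 2 = ⊥ := by
    rw [pow_two, eq_bot_iff, Ideal.mul_le]
    intro x hx y hy
    have key : ∀ z ∈ I, t.appTop z = 0 := by
      intro z hz
      have h1 : (t ≫ e'.hom).appTop ((Scheme.ΓSpecIso Γ(T', ⊤)).inv z) = t.appTop z := by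
        rw [Scheme.Hom.comp_appTop]
        change t.appTop (T'.toSpecΓ.appTop ((Scheme.ΓSpecIso Γ(T', ⊤)).inv z)) = _
        rw [Scheme.toSpecΓ_appTop]
        simp
      rw [← h1, hg, Scheme.Hom.comp_appTop]
      have h2 : (Spec.map (CommRingCat.ofHom (Ideal.Quotient.mk I))).appTop
          ((Scheme.ΓSpecIso Γ(T', ⊤)).inv z) = 0 := by
        have := congrArg (fun φ => φ z) (congrArg (fun φ => φ.hom)
          (Scheme.ΓSpecIso_inv_naturality (CommRingCat.ofHom (Ideal.Quotient.mk I))))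
        simp only [CommRingCat.hom_comp, RingHom.coe_comp, Function.comp_apply,
          CommRingCat.hom_ofHom] at this
        exact this.symm.trans (by rw [Ideal.Quotient.eq_zero_iff_mem.mpr hz, map_zero])
      change e.hom.appTop ((Spec.map (CommRingCat.ofHom (Ideal.Quotient.mk I))).appTop
        ((Scheme.ΓSpecIso Γ(T', ⊤)).inv z)) = 0
      rw [h2, map_zero]
    have := hK x y (key x hx) (key y hy)
    rw [this]
    exact Ideal.zero_mem _
  have hsq : Spec.map (CommRingCat.ofHom (Ideal.Quotient.mk I)) ≫ e'.inv = e.inv ≫ t := by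
    rw [Iso.eq_inv_comp, ← Category.assoc, ← hg, Category.assoc, Iso.hom_inv_id, Category.comp_id]
  obtain ⟨l', ⟨hl1, hl2⟩, huniq⟩ := hf Γ(T', ⊤) I hI (e.inv ≫ a) (e'.inv ≫ b) (by
    rw [← Category.assoc, hsq, Category.assoc, Category.assoc, w])
  refine ⟨e'.hom ≫ l', ⟨?_, ?_⟩, ?_⟩
  · rw [← Category.assoc, hg, Category.assoc, hl1, Iso.hom_inv_id_assoc]
  · rw [Category.assoc, hl2, Iso.hom_inv_id_assoc]
  · rintro l₂ ⟨h1, h2⟩
    have := huniq (e'.inv ≫ l₂) ⟨by rw [← Category.assoc, hsq, Category.assoc, h1],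
      by rw [Category.assoc, h2]⟩
    rw [← this, Iso.hom_inv_id_assoc]


theorem morphismRestrict_homOfLE {T T' : Scheme.{u}} (t : T ⟶ T') {U' V' : T'.Opens} (h : U' ≤ V') :
    (t ∣_ U') ≫ T'.homOfLE h =
      T.homOfLE (show t ⁻¹ᵁ U' ≤ t ⁻¹ᵁ V' from fun _ hx => h hx) ≫ (t ∣_ V') := by
  rw [← cancel_mono V'.ι]
  simp only [Category.assoc, Scheme.homOfLE_ι, morphismRestrict_ι, Scheme.homOfLE_ι_assoc]

set_option backward.isDefEq.respectTransparency.types false in
theorem lift_of_isFirstOrderThickening {X S : Scheme.{u}} (f : X ⟶ S)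
    (hf : MoreMor.IsFormallyEtaleHom f)
    {T T' : Scheme.{u}} (t : T ⟶ T') (ht : MoreMor.IsFirstOrderThickening t) (a : T ⟶ X)
    (b : T' ⟶ S) (w : t ≫ b = a ≫ f) :
    ∃! l : T' ⟶ X, t ≫ l = a ∧ l ≫ f = b := by
  haveI : IsClosedImmersion t := ht.1.1
  have hker : t.ker * t.ker = ⊥ := ht.2
  have hsq : ∀ (W : T'.Opens) (_ : IsAffineOpen W) (x y : Γ(T', W)),
      t.app W x = 0 → t.app W y = 0 → x * y = 0 := by
    intro W hW x y hx hy
    have h1 := congrArg (fun I => I.ideal ⟨W, hW⟩) hker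
    simp only [Scheme.IdealSheafData.ideal_mul, Pi.mul_apply, Scheme.Hom.ker_apply,
      Scheme.IdealSheafData.ideal_bot, Pi.bot_apply] at h1
    have h2 : x * y ∈ RingHom.ker (t.app W).hom * RingHom.ker (t.app W).hom :=
      Ideal.mul_mem_mul hx hy
    rw [h1] at h2
    exact h2
  -- the restricted problem
  have hcomm : ∀ U' : T'.Opens, (t ∣_ U') ≫ U'.ι ≫ b = ((t ⁻¹ᵁ U').ι ≫ a) ≫ f := by
    intro U'
    rw [morphismRestrict_ι_assoc, w, Category.assoc]
  have hK : ∀ U' : T'.affineOpens, ∀ x y : Γ(U'.1.toScheme, ⊤),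
      (t ∣_ U'.1).appTop x = 0 → (t ∣_ U'.1).appTop y = 0 → x * y = 0 := by
    intro U' x y hx hy
    have haff : IsAffineOpen (U'.1.ι ''ᵁ ⊤) := by
      rw [Scheme.Opens.ι_image_top]; exact U'.2
    have hinj : Function.Injective
        (T.presheaf.map (eqToHom (image_morphismRestrict_preimage t U'.1 ⊤)).op) := by
      have : IsIso (T.presheaf.map (eqToHom (image_morphismRestrict_preimage t U'.1 ⊤)).op) :=
        inferInstance
      exact ((ConcreteCategory.isIso_iff_bijective _).mp this).1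
    rw [morphismRestrict_appTop] at hx hy
    have hx' : t.app (U'.1.ι ''ᵁ ⊤) x = 0 := hinj (by rw [map_zero]; exact hx)
    have hy' : t.app (U'.1.ι ''ᵁ ⊤) y = 0 := hinj (by rw [map_zero]; exact hy)
    exact hsq _ haff x y hx' hy'
  have hex : ∀ U' : T'.affineOpens, ∃! l : U'.1.toScheme ⟶ X,
      (t ∣_ U'.1) ≫ l = (t ⁻¹ᵁ U'.1).ι ≫ a ∧ l ≫ f = U'.1.ι ≫ b := by
    intro U'
    haveI : IsAffine U'.1.toScheme := U'.2
    exact affine_lift f hf (t ∣_ U'.1) (hK U') _ _ (hcomm U'.1)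
  choose lU hlU huniq using hex
  have hres : ∀ (U' V' : T'.affineOpens) (h : U' ≤ V'), T'.homOfLE h ≫ lU V' = lU U' := by
    intro U' V' h
    apply huniq U'
    constructor
    · rw [← Category.assoc, morphismRestrict_homOfLE, Category.assoc, (hlU V').1,
        Scheme.homOfLE_ι_assoc]
    · rw [Category.assoc, (hlU V').2, Scheme.homOfLE_ι_assoc]
  let l : T' ⟶ X := T'.directedAffineCover.glueMorphismsOfLocallyDirected (fun U' => lU U')
    (fun {U' V'} hij => by
      have := hres U' V' (leOfHom hij)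
      exact this)
  have hl : ∀ U' : T'.affineOpens, U'.1.ι ≫ l = lU U' := fun U' =>
    T'.directedAffineCover.map_glueMorphismsOfLocallyDirected _ _ U'
  have hcover : IsOpenCover (fun U' : T'.affineOpens => t ⁻¹ᵁ U'.1) := by
    rw [IsOpenCover, eq_top_iff]
    intro x _
    obtain ⟨U', y, hy⟩ := T'.directedAffineCover.exists_eq (t x)
    rw [Opens.mem_iSup]
    refine ⟨U', ?_⟩
    change t x ∈ U'.1
    rw [← hy]
    exact y.2
  refine ⟨l, ⟨?_, ?_⟩, ?_⟩
  · apply (T.openCoverOfIsOpenCover _ hcover).hom_ext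
    intro U'
    change (t ⁻¹ᵁ U'.1).ι ≫ t ≫ l = (t ⁻¹ᵁ U'.1).ι ≫ a
    rw [← morphismRestrict_ι_assoc, hl, (hlU U').1]
  · apply T'.directedAffineCover.hom_ext
    intro U'
    change U'.1.ι ≫ l ≫ f = U'.1.ι ≫ b
    rw [← Category.assoc, hl, (hlU U').2]
  · rintro l₂ ⟨h1, h2⟩
    apply T'.directedAffineCover.hom_ext
    intro U'
    change U'.1.ι ≫ l₂ = U'.1.ι ≫ l
    rw [hl]
    apply huniq U'
    constructor
    · rw [morphismRestrict_ι_assoc, h1]
    · rw [Category.assoc, h2]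

end Groth.Agent.Lib.Helper9.FEtLift
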