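import Mathlib.Algebra.MvPolynomial.Supported
import Mathlib.RingTheory.FinitePresentation
import Mathlib.RingTheory.Ideal.Quotient.Operations

/-!
# Presenting an algebra as a directed colimit of finitely presented algebras (ring level)

For an `A`-algebra `B` we consider the big polynomial ring `MvPolynomial B A` with its evaluation
map to `B`.  The index set consists of pairs `(S, T)` with `S` a finite set of variables and `T`
a finite set of relations (polynomials in the variables `S` evaluating to `0`).
-/

set_option autoImplicit false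
universe u

namespace Groth.Agent.Lib.Helper9.FPColim

open MvPolynomial

variable (A B : Type u) [CommRing A] [CommRing B] [Algebra A B]

/-- Evaluation of the big polynomial ring. -/
noncomputable def ev : MvPolynomial B A →ₐ[A] B := MvPolynomial.aeval id

@[simp] theorem ev_X (b : B) : ev A B (X b) = b := by simp [ev]

/-- The index set. -/
structure Idx where
  S : Finset B
  T : Finset (MvPolynomial B A)
  supp : ∀ t ∈ T, t ∈ supported A (S : Set B)
  ker : ∀ t ∈ T, ev A B t = 0

instance : Preorder (Idx A B) where
  le i j := i.S ⊆ j.S ∧ i.T ⊆ j.T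
  le_refl i := ⟨subset_rfl, subset_rfl⟩
  le_trans i j k h1 h2 := ⟨h1.1.trans h2.1, h1.2.trans h2.2⟩

variable {A B}

theorem X_mem_supported' {s : Set B} {b : B} (hb : b ∈ s) : (X b : MvPolynomial B A) ∈ supported A s :=
  Algebra.subset_adjoin ⟨b, hb, rfl⟩

open Classical in
/-- The retraction of the big polynomial ring onto the polynomials in the variables `S`. -/
noncomputable def retr (S : Finset B) : MvPolynomial B A →ₐ[A] supported A (S : Set B) :=
  MvPolynomial.aeval (fun b => if h : b ∈ S then ⟨X b, X_mem_supported' (Finset.mem_coe.mpr h)⟩ else 0)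

theorem retr_X_of_mem {S : Finset B} {b : B} (h : b ∈ S) :
    retr (A := A) S (X b) = ⟨X b, X_mem_supported' (Finset.mem_coe.mpr h)⟩ := by
  simp [retr, h]

theorem retr_X_of_not_mem {S : Finset B} {b : B} (h : b ∉ S) :
    retr (A := A) S (X b) = 0 := by
  simp [retr, h]

theorem coe_retr_of_mem {S : Finset B} {r : MvPolynomial B A} (hr : r ∈ supported A (S : Set B)) :
    ((retr S r : supported A (S : Set B)) : MvPolynomial B A) = r := by
  rw [supported_eq_adjoin_X] at hr
  induction hr using Algebra.adjoin_induction with
  | mem x hx =>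
    obtain ⟨b, hb, rfl⟩ := hx
    rw [retr_X_of_mem (Finset.mem_coe.mp hb)]
  | algebraMap a =>
    rw [AlgHom.commutes]
    rfl
  | add x y _ _ hx hy =>
    rw [map_add, Subalgebra.coe_add, hx, hy]
  | mul x y _ _ hx hy =>
    rw [map_mul, Subalgebra.coe_mul, hx, hy]

theorem retr_coe {S : Finset B} (x : supported A (S : Set B)) : retr S (x : MvPolynomial B A) = x :=
  Subtype.ext (coe_retr_of_mem x.2)

theorem retr_surjective (S : Finset B) : Function.Surjective (retr (A := A) S) :=
  fun x => ⟨x, retr_coe x⟩

/-- The ideal of relations. -/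
noncomputable def relIdeal (i : Idx A B) : Ideal (supported A (i.S : Set B)) :=
  Ideal.span {t | (t : MvPolynomial B A) ∈ i.T}

theorem relIdeal_fg (i : Idx A B) : (relIdeal i).FG := by
  refine ⟨((i.T.finite_toSet.preimage (f := fun t : supported A (i.S : Set B) => (t : MvPolynomial B A))
    (Subtype.val_injective.injOn)).toFinset), ?_⟩
  rw [Set.Finite.coe_toFinset]
  rfl

/-- The finitely presented algebra attached to an index. -/
abbrev Q (i : Idx A B) : Type u := supported A (i.S : Set B) ⧸ relIdeal i

/-- The quotient map from the big polynomial ring. -/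
noncomputable def q (i : Idx A B) : MvPolynomial B A →ₐ[A] Q i :=
  (Ideal.Quotient.mkₐ A (relIdeal i)).comp (retr i.S)

theorem q_surjective (i : Idx A B) : Function.Surjective (q i) :=
  (Ideal.Quotient.mkₐ_surjective A (relIdeal i)).comp (retr_surjective i.S)

theorem q_coe (i : Idx A B) (x : supported A (i.S : Set B)) :
    q i (x : MvPolynomial B A) = Ideal.Quotient.mk (relIdeal i) x := by
  change Ideal.Quotient.mk (relIdeal i) (retr i.S x) = _
  rw [retr_coe]

theorem exists_q_eq (i : Idx A B) (x : Q i) :
    ∃ r ∈ supported A (i.S : Set B), q i r = x := by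
  obtain ⟨y, rfl⟩ := Ideal.Quotient.mk_surjective x
  exact ⟨y, y.2, q_coe i y⟩

theorem q_eq_zero_of_mem (i : Idx A B) {t : MvPolynomial B A} (ht : t ∈ i.T) : q i t = 0 := by
  have h := q_coe i ⟨t, i.supp t ht⟩
  rw [h, Ideal.Quotient.eq_zero_iff_mem]
  exact Ideal.subset_span ht

theorem q_X_of_not_mem (i : Idx A B) {b : B} (h : b ∉ i.S) : q i (X b) = 0 := by
  change Ideal.Quotient.mk (relIdeal i) (retr i.S (X b)) = 0
  rw [retr_X_of_not_mem h, map_zero]

/-- The finitely presented algebra is finitely presented. -/
theorem finitePresentation_Q (i : Idx A B) : Algebra.FinitePresentation A (Q i) := by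
  have : Algebra.FinitePresentation A (supported A (i.S : Set B)) :=
    Algebra.FinitePresentation.equiv (supportedEquivMvPolynomial (R := A) (i.S : Set B)).symm
  exact Algebra.FinitePresentation.quotient (relIdeal_fg i)

/-- The map to `B`. -/
noncomputable def leg (i : Idx A B) : Q i →ₐ[A] B :=
  Ideal.Quotient.liftₐ (relIdeal i) ((ev A B).comp (supported A (i.S : Set B)).val) (by
    intro a ha
    have hle : relIdeal i ≤ RingHom.ker ((ev A B).comp (supported A (i.S : Set B)).val).toRingHom := by
      rw [relIdeal, Ideal.span_le]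
      intro t ht
      exact i.ker _ ht
    exact hle ha)

theorem leg_q (i : Idx A B) {r : MvPolynomial B A} (hr : r ∈ supported A (i.S : Set B)) :
    leg i (q i r) = ev A B r := by
  have h := q_coe i ⟨r, hr⟩
  change q i r = _ at h
  rw [h]
  rfl

/-- The transition maps. -/
noncomputable def tr {i j : Idx A B} (h : i ≤ j) : Q i →ₐ[A] Q j :=
  Ideal.Quotient.liftₐ (relIdeal i) ((q j).comp (supported A (i.S : Set B)).val) (by
    intro a ha
    have hle : relIdeal i ≤ RingHom.ker ((q j).comp (supported A (i.S : Set B)).val).toRingHom := by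
      rw [relIdeal, Ideal.span_le]
      intro t ht
      exact q_eq_zero_of_mem j (h.2 ht)
    exact hle ha)

theorem tr_q {i j : Idx A B} (h : i ≤ j) {r : MvPolynomial B A}
    (hr : r ∈ supported A (i.S : Set B)) : tr h (q i r) = q j r := by
  have h' := q_coe i ⟨r, hr⟩
  change q i r = _ at h'
  rw [h']
  rfl

theorem tr_refl (i : Idx A B) (x : Q i) : tr (le_refl i) x = x := by
  obtain ⟨r, hr, rfl⟩ := exists_q_eq i x
  exact tr_q _ hr

theorem tr_trans {i j k : Idx A B} (h1 : i ≤ j) (h2 : j ≤ k) (x : Q i) :
    tr h2 (tr h1 x) = tr (h1.trans h2) x := by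
  obtain ⟨r, hr, rfl⟩ := exists_q_eq i x
  rw [tr_q _ hr, tr_q _ hr, tr_q _ (supported_mono (Finset.coe_subset.mpr h1.1) hr)]

theorem leg_tr {i j : Idx A B} (h : i ≤ j) (x : Q i) : leg j (tr h x) = leg i x := by
  obtain ⟨r, hr, rfl⟩ := exists_q_eq i x
  rw [tr_q _ hr, leg_q _ hr, leg_q _ (supported_mono (Finset.coe_subset.mpr h.1) hr)]

/-- Join of two indices. -/
noncomputable def Idx.sup (i j : Idx A B) : Idx A B := by
  classical
  exact
  { S := i.S ∪ j.S
    T := i.T ∪ j.T
    supp := fun t ht => by
      rcases Finset.mem_union.mp ht with h | h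
      · exact supported_mono (by simp) (i.supp t h)
      · exact supported_mono (by simp) (j.supp t h)
    ker := fun t ht => by
      rcases Finset.mem_union.mp ht with h | h
      · exact i.ker t h
      · exact j.ker t h }

theorem Idx.le_sup_left (i j : Idx A B) : i ≤ i.sup j := by
  classical
  exact ⟨Finset.subset_union_left, Finset.subset_union_left⟩

theorem Idx.le_sup_right (i j : Idx A B) : j ≤ i.sup j := by
  classical
  exact ⟨Finset.subset_union_right, Finset.subset_union_right⟩

/-- The index of a single variable. -/
def Idx.single (b : B) : Idx A B where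
  S := {b}
  T := ∅
  supp := fun t ht => absurd ht (Finset.notMem_empty t)
  ker := fun t ht => absurd ht (Finset.notMem_empty t)

/-- Add a relation. -/
noncomputable def Idx.addRel (i : Idx A B) (r : MvPolynomial B A) (hr : r ∈ supported A (i.S : Set B))
    (h0 : ev A B r = 0) : Idx A B := by
  classical
  exact
  { S := i.S
    T := insert r i.T
    supp := fun t ht => by
      rcases Finset.mem_insert.mp ht with rfl | h
      · exact hr
      · exact i.supp t h
    ker := fun t ht => by
      rcases Finset.mem_insert.mp ht with rfl | h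
      · exact h0
      · exact i.ker t h }

theorem Idx.le_addRel (i : Idx A B) (r : MvPolynomial B A) (hr : r ∈ supported A (i.S : Set B))
    (h0 : ev A B r = 0) : i ≤ i.addRel r hr h0 := by
  classical
  exact ⟨subset_rfl, Finset.subset_insert _ _⟩

theorem Idx.mem_addRel (i : Idx A B) (r : MvPolynomial B A) (hr : r ∈ supported A (i.S : Set B))
    (h0 : ev A B r = 0) : r ∈ (i.addRel r hr h0).T := by
  classical
  exact Finset.mem_insert_self _ _

end Groth.Agent.Lib.Helper9.FPColim
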