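import Groth.Agent.Lib.Helper9.Towers3

/-!
# Towers: variants without injectivity
-/

set_option autoImplicit false
set_option linter.style.haveILetI false
universe u
open CategoryTheory AlgebraicGeometry

namespace Groth.Agent.Lib.Helper9.Towers

open Groth.Agent.Lib.Helper9.UnivHomeoRing Groth.Agent.Lib.Helper9.Conductor

variable {A B : Type u} [CommRing A] [CommRing B] [Algebra A B]

theorem isUnivHomeo_of_WN' (hsurj : Function.Surjective (PrimeSpectrum.comap (algebraMap A B)))
    (hB : ∀ E : Finset B, ∃ l : List B,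
      (↑E : Set B) ⊆ Algebra.adjoin A {b : B | b ∈ l} ∧ IsTow (A := A) stepWN l) :
    FlatMor.IsUnivHomeo (Spec.map (CommRingCat.ofHom (algebraMap A B))) := by
  rw [isUnivHomeo_SpecMap_iff']
  have hint : (algebraMap A B).IsIntegral := by
    intro b
    have : b ∈ integralClosure A B := by
      apply forall_mem_of_closed stepWN stepWN_mono hB
      intro b hb
      rcases hb with hb | ⟨p, hp, -, h2⟩
      · exact IsIntegral.of_pow (n := 2) (by norm_num) hb.1
      · exact IsIntegral.of_pow (n := p) hp.pos h2
    exact this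
  refine ⟨hint, hsurj, ?_⟩
  intro K _ g₁ g₂ h12
  let S : Subalgebra A B :=
    { (RingHom.eqLocus g₁ g₂) with
      algebraMap_mem' := fun a => by
        change g₁ (algebraMap A B a) = g₂ (algebraMap A B a)
        exact congrArg (fun ψ : A →+* K => ψ a) h12 }
  have hmem : ∀ b : B, b ∈ S ↔ g₁ b = g₂ b := fun b => Iff.rfl
  refine RingHom.ext fun b => (hmem b).mp ?_
  apply forall_mem_of_closed stepWN stepWN_mono hB
  intro b hb
  rw [hmem]
  rcases hb with hb | ⟨p, hp, h1, h2⟩
  · apply eq_of_sq_eq_of_cube_eq
    · rw [← map_pow, ← map_pow]; exact (hmem _).mp hb.1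
    · rw [← map_pow, ← map_pow]; exact (hmem _).mp hb.2
  · apply eq_of_mul_eq_of_pow_eq hp
    · have := (hmem _).mp h1
      rwa [map_mul, map_mul, map_natCast, map_natCast] at this
    · rw [← map_pow, ← map_pow]; exact (hmem _).mp h2

/-- `Spec φ` is surjective if every residue field point of `A` lifts (after a field extension). -/
theorem comap_surjective_of_forall_exists_hom {A B : Type u} [CommRing A] [CommRing B]
    (φ : A →+* B)
    (h : ∀ p : PrimeSpectrum A, ∃ (Ω : Type u) (_ : Field Ω) (ι : p.asIdeal.ResidueField →+* Ω)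
      (θ : B →+* Ω), θ.comp φ = ι.comp (algebraMap A p.asIdeal.ResidueField)) :
    Function.Surjective (PrimeSpectrum.comap φ) := by
  intro p
  obtain ⟨Ω, _, ι, θ, hθ⟩ := h p
  refine ⟨⟨RingHom.ker θ, RingHom.ker_isPrime θ⟩, ?_⟩
  apply PrimeSpectrum.ext
  change Ideal.comap φ (RingHom.ker θ) = p.asIdeal
  ext a
  rw [Ideal.mem_comap, RingHom.mem_ker, ← RingHom.comp_apply, hθ, RingHom.comp_apply,
    map_eq_zero_iff _ ι.injective]
  exact Ideal.algebraMap_residueField_eq_zero

/-- A single generator tower. -/
theorem exists_tower_singleton (t : B) (ht : Algebra.adjoin A {t} = ⊤)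
    (step : Subalgebra A B → B → Prop) (hstep : step ⊥ t) (E : Finset B) :
    ∃ l : List B, (↑E : Set B) ⊆ Algebra.adjoin A {b : B | b ∈ l} ∧ IsTow (A := A) step l := by
  refine ⟨[t], ?_, ?_⟩
  · have : {b : B | b ∈ [t]} = {t} := by
      ext b
      simp
    rw [this, ht]
    exact fun _ _ => trivial
  · intro i
    have hi : i = ⟨0, by simp⟩ := by
      apply Fin.ext
      have h1 : i.val < [t].length := i.isLt
      have h2 : [t].length = 1 := rfl
      change i.val = 0
      omega
    subst hi
    have hempty : {b : B | ∃ j : Fin [t].length, j < (⟨0, by simp⟩ : Fin [t].length) ∧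
        b = [t].get j} = ∅ := by
      ext b
      simp only [Set.mem_ofPred_eq, Set.mem_empty_iff_false, iff_false, not_exists, not_and]
      intro j hj
      exact absurd hj (Nat.not_lt_zero _)
    rw [hempty, Algebra.adjoin_empty]
    exact hstep

end Groth.Agent.Lib.Helper9.Towers
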