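import Groth.Agent.Lib.Helper9.FPColim
import Groth.Agent.Lib.Helper9.Towers4

/-!
# Cofinality of universally homeomorphic finitely presented approximations
-/

set_option autoImplicit false
set_option linter.style.haveILetI false
universe u

open CategoryTheory AlgebraicGeometry MvPolynomial

namespace Groth.Agent.Lib.Helper9.FPColim

open Groth.Agent.Lib.Helper9.Towers Groth.Agent.Lib.Helper9.UnivHomeoRing

variable {A B : Type u} [CommRing A] [CommRing B] [Algebra A B]

theorem exists_supported_ev_eq {s : Set B} {y : B} (hy : y ∈ Algebra.adjoin A s) :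
    ∃ r ∈ supported A s, ev A B r = y := by
  have h1 : (supported A s).map (ev A B) = Algebra.adjoin A s := by
    rw [supported_eq_adjoin_X, AlgHom.map_adjoin, Set.image_image]
    congr 1
    ext b
    simp
  rw [← h1] at hy
  obtain ⟨r, hr, rfl⟩ := hy
  exact ⟨r, hr, rfl⟩

/-- The generator attached to `b`. -/
noncomputable def gen (j : Idx A B) (b : B) : Q j := q j (X b)

theorem q_mem_adjoin (j : Idx A B) {s : Set B} {r : MvPolynomial B A} (hr : r ∈ supported A s) :
    q j r ∈ Algebra.adjoin A (gen j '' s) := by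
  have h1 : (supported A s).map (q j) = Algebra.adjoin A (gen j '' s) := by
    change (Algebra.adjoin A (X '' s)).map (q j) = _
    rw [AlgHom.map_adjoin, Set.image_image]
    rfl
  rw [← h1]
  exact ⟨r, hr, rfl⟩

theorem q_mem_adjoin_of_rel (j : Idx A B) {s : Set B} {m r : MvPolynomial B A}
    (hr : r ∈ supported A s) (hmem : m - r ∈ j.T) :
    q j m ∈ Algebra.adjoin A (gen j '' s) := by
  have h0 := q_eq_zero_of_mem j hmem
  rw [map_sub, sub_eq_zero] at h0
  rw [h0]
  exact q_mem_adjoin j hr

theorem setOf_mem_map (j : Idx A B) (l : List B) :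
    {x | x ∈ l.map (gen j)} = gen j '' {x | x ∈ l} := by
  ext x
  simp only [List.mem_map, Set.mem_ofPred_eq, Set.mem_image]

theorem mem_supported_snoc_left {l : List B} {b : B} {r : MvPolynomial B A}
    (hr : r ∈ supported A {x | x ∈ l}) : r ∈ supported A {x | x ∈ l ++ [b]} :=
  supported_mono (fun x hx => List.mem_append_left _ hx) hr

theorem X_mem_supported_snoc (l : List B) (b : B) :
    (X b : MvPolynomial B A) ∈ supported A {x | x ∈ l ++ [b]} :=
  X_mem_supported' (List.mem_append_right _ (List.mem_singleton_self b))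

theorem exists_rels_SN {l : List B} (hl : Tower (A := A) stepSN l) :
    ∃ T₁ : Finset (MvPolynomial B A),
      (∀ t ∈ T₁, t ∈ supported A {x | x ∈ l} ∧ ev A B t = 0) ∧
      ∀ j : Idx A B, (∀ x ∈ l, x ∈ j.S) → T₁ ⊆ j.T →
        Tower (A := A) stepSN (l.map (gen j)) := by
  classical
  induction hl with
  | nil => exact ⟨∅, fun t ht => absurd ht (Finset.notMem_empty t), fun j _ _ => Tower.nil⟩
  | snoc l b _ hb ih =>
    obtain ⟨T₀, hT₀, hlift⟩ := ih
    obtain ⟨r₂, hr₂, e₂⟩ := exists_supported_ev_eq hb.1
    obtain ⟨r₃, hr₃, e₃⟩ := exists_supported_ev_eq hb.2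
    refine ⟨T₀ ∪ {X b ^ 2 - r₂, X b ^ 3 - r₃}, ?_, ?_⟩
    · intro t ht
      rcases Finset.mem_union.mp ht with h | h
      · exact ⟨mem_supported_snoc_left (hT₀ t h).1, (hT₀ t h).2⟩
      · simp only [Finset.mem_insert, Finset.mem_singleton] at h
        rcases h with rfl | rfl
        · exact ⟨Subalgebra.sub_mem _ (Subalgebra.pow_mem _ (X_mem_supported_snoc l b) 2)
            (mem_supported_snoc_left hr₂), by rw [map_sub, map_pow, ev_X, e₂, sub_self]⟩
        · exact ⟨Subalgebra.sub_mem _ (Subalgebra.pow_mem _ (X_mem_supported_snoc l b) 3)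
            (mem_supported_snoc_left hr₃), by rw [map_sub, map_pow, ev_X, e₃, sub_self]⟩
    · intro j hjS hjT
      rw [List.map_append, List.map_singleton]
      refine Tower.snoc _ _ (hlift j (fun x hx => hjS x (List.mem_append_left _ hx))
        (fun t ht => hjT (Finset.mem_union_left _ ht))) ?_
      rw [setOf_mem_map]
      refine ⟨?_, ?_⟩
      · rw [gen, ← map_pow]
        exact q_mem_adjoin_of_rel j hr₂ (hjT (Finset.mem_union_right _ (by simp)))
      · rw [gen, ← map_pow]
        exact q_mem_adjoin_of_rel j hr₃ (hjT (Finset.mem_union_right _ (by simp)))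

theorem exists_rels_WN {l : List B} (hl : Tower (A := A) stepWN l) :
    ∃ T₁ : Finset (MvPolynomial B A),
      (∀ t ∈ T₁, t ∈ supported A {x | x ∈ l} ∧ ev A B t = 0) ∧
      ∀ j : Idx A B, (∀ x ∈ l, x ∈ j.S) → T₁ ⊆ j.T →
        Tower (A := A) stepWN (l.map (gen j)) := by
  classical
  induction hl with
  | nil => exact ⟨∅, fun t ht => absurd ht (Finset.notMem_empty t), fun j _ _ => Tower.nil⟩
  | snoc l b _ hb ih =>
    obtain ⟨T₀, hT₀, hlift⟩ := ih
    rcases hb with hb | ⟨p, hp, h1, h2⟩
    · obtain ⟨r₂, hr₂, e₂⟩ := exists_supported_ev_eq hb.1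
      obtain ⟨r₃, hr₃, e₃⟩ := exists_supported_ev_eq hb.2
      refine ⟨T₀ ∪ {X b ^ 2 - r₂, X b ^ 3 - r₃}, ?_, ?_⟩
      · intro t ht
        rcases Finset.mem_union.mp ht with h | h
        · exact ⟨mem_supported_snoc_left (hT₀ t h).1, (hT₀ t h).2⟩
        · simp only [Finset.mem_insert, Finset.mem_singleton] at h
          rcases h with rfl | rfl
          · exact ⟨Subalgebra.sub_mem _ (Subalgebra.pow_mem _ (X_mem_supported_snoc l b) 2)
              (mem_supported_snoc_left hr₂), by rw [map_sub, map_pow, ev_X, e₂, sub_self]⟩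
          · exact ⟨Subalgebra.sub_mem _ (Subalgebra.pow_mem _ (X_mem_supported_snoc l b) 3)
              (mem_supported_snoc_left hr₃), by rw [map_sub, map_pow, ev_X, e₃, sub_self]⟩
      · intro j hjS hjT
        rw [List.map_append, List.map_singleton]
        refine Tower.snoc _ _ (hlift j (fun x hx => hjS x (List.mem_append_left _ hx))
          (fun t ht => hjT (Finset.mem_union_left _ ht))) ?_
        rw [setOf_mem_map]
        refine Or.inl ⟨?_, ?_⟩
        · rw [gen, ← map_pow]
          exact q_mem_adjoin_of_rel j hr₂ (hjT (Finset.mem_union_right _ (by simp)))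
        · rw [gen, ← map_pow]
          exact q_mem_adjoin_of_rel j hr₃ (hjT (Finset.mem_union_right _ (by simp)))
    · obtain ⟨r₁, hr₁, e₁⟩ := exists_supported_ev_eq h1
      obtain ⟨r₂, hr₂, e₂⟩ := exists_supported_ev_eq h2
      refine ⟨T₀ ∪ {(p : MvPolynomial B A) * X b - r₁, X b ^ p - r₂}, ?_, ?_⟩
      · intro t ht
        rcases Finset.mem_union.mp ht with h | h
        · exact ⟨mem_supported_snoc_left (hT₀ t h).1, (hT₀ t h).2⟩
        · simp only [Finset.mem_insert, Finset.mem_singleton] at h
          rcases h with rfl | rfl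
          · exact ⟨Subalgebra.sub_mem _ (Subalgebra.mul_mem _ (natCast_mem _ p)
              (X_mem_supported_snoc l b)) (mem_supported_snoc_left hr₁),
              by rw [map_sub, map_mul, map_natCast, ev_X, e₁, sub_self]⟩
          · exact ⟨Subalgebra.sub_mem _ (Subalgebra.pow_mem _ (X_mem_supported_snoc l b) p)
              (mem_supported_snoc_left hr₂), by rw [map_sub, map_pow, ev_X, e₂, sub_self]⟩
      · intro j hjS hjT
        rw [List.map_append, List.map_singleton]
        refine Tower.snoc _ _ (hlift j (fun x hx => hjS x (List.mem_append_left _ hx))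
          (fun t ht => hjT (Finset.mem_union_left _ ht))) ?_
        rw [setOf_mem_map]
        refine Or.inr ⟨p, hp, ?_, ?_⟩
        · have : (p : Q j) * gen j b = q j ((p : MvPolynomial B A) * X b) := by
            rw [map_mul, map_natCast]
            rfl
          rw [this]
          exact q_mem_adjoin_of_rel j hr₁ (hjT (Finset.mem_union_right _ (by simp)))
        · rw [gen, ← map_pow]
          exact q_mem_adjoin_of_rel j hr₂ (hjT (Finset.mem_union_right _ (by simp)))

end Groth.Agent.Lib.Helper9.FPColim
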