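import Groth.Agent.Lib.Helper9.FPColim3

/-!
# Cofinality of universally homeomorphic finitely presented approximations, II
-/

set_option autoImplicit false
set_option linter.style.haveILetI false
universe u

open CategoryTheory AlgebraicGeometry MvPolynomial

namespace Groth.Agent.Lib.Helper9.FPColim

open Groth.Agent.Lib.Helper9.Towers Groth.Agent.Lib.Helper9.UnivHomeoRing

variable {A B : Type u} [CommRing A] [CommRing B] [Algebra A B]

/-- Given a tower `l` in `B` generating the elements of `i.S`, and relations `T₁`, the enlarged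
index. -/
theorem exists_idx_ge (i : Idx A B) (l : List B)
    (hS : (↑i.S : Set B) ⊆ Algebra.adjoin A {x : B | x ∈ l})
    (T₁ : Finset (MvPolynomial B A))
    (hT₁ : ∀ t ∈ T₁, t ∈ supported A {x | x ∈ l} ∧ ev A B t = 0) :
    ∃ j : Idx A B, i ≤ j ∧ (∀ x ∈ l, x ∈ j.S) ∧ T₁ ⊆ j.T ∧
      Algebra.adjoin A {x | x ∈ l.map (gen j)} = ⊤ := by
  classical
  have hex : ∀ b : B, ∃ r : MvPolynomial B A, b ∈ i.S → r ∈ supported A {x | x ∈ l} ∧ ev A B r = b := by
    intro b
    by_cases hb : b ∈ i.S
    · obtain ⟨r, hr, e⟩ := exists_supported_ev_eq (hS (Finset.mem_coe.mpr hb))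
      exact ⟨r, fun _ => ⟨hr, e⟩⟩
    · exact ⟨0, fun h => absurd h hb⟩
  choose r hr using hex
  have hlS : {x | x ∈ l} ⊆ ((i.S ∪ l.toFinset : Finset B) : Set B) := by
    intro x hx
    simp only [Finset.coe_union, List.coe_toFinset, Set.mem_union]
    exact Or.inr hx
  let j : Idx A B :=
    { S := i.S ∪ l.toFinset
      T := i.T ∪ T₁ ∪ i.S.image (fun b => X b - r b)
      supp := by
        intro t ht
        rcases Finset.mem_union.mp ht with h | h
        · rcases Finset.mem_union.mp h with h | h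
          · exact supported_mono (by simp) (i.supp t h)
          · exact supported_mono hlS (hT₁ t h).1
        · obtain ⟨b, hb, rfl⟩ := Finset.mem_image.mp h
          refine Subalgebra.sub_mem _ (X_mem_supported' ?_) (supported_mono hlS (hr b hb).1)
          simp [hb]
      ker := by
        intro t ht
        rcases Finset.mem_union.mp ht with h | h
        · rcases Finset.mem_union.mp h with h | h
          · exact i.ker t h
          · exact (hT₁ t h).2
        · obtain ⟨b, hb, rfl⟩ := Finset.mem_image.mp h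
          rw [map_sub, ev_X, (hr b hb).2, sub_self] }
  have hjS : j.S = i.S ∪ l.toFinset := rfl
  have hjT : j.T = i.T ∪ T₁ ∪ i.S.image (fun b => X b - r b) := rfl
  refine ⟨j, ⟨?_, ?_⟩, ?_, ?_, ?_⟩
  · rw [hjS]; exact Finset.subset_union_left
  · rw [hjT]; exact fun t ht => Finset.mem_union_left _ (Finset.mem_union_left _ ht)
  · intro x hx
    rw [hjS]
    exact Finset.mem_union_right _ (List.mem_toFinset.mpr hx)
  · rw [hjT]; exact fun t ht => Finset.mem_union_left _ (Finset.mem_union_right _ ht)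
  · rw [eq_top_iff]
    intro x _
    obtain ⟨ρ, hρ, rfl⟩ := exists_q_eq j x
    have h1 := q_mem_adjoin j hρ
    refine Algebra.adjoin_le ?_ h1
    rintro y ⟨b, hb, rfl⟩
    rw [setOf_mem_map]
    have hb' : b ∈ i.S ∪ l.toFinset := hb
    rcases Finset.mem_union.mp hb' with h | h
    · apply q_mem_adjoin_of_rel j (hr b h).1
      rw [hjT]
      exact Finset.mem_union_right _ (Finset.mem_image.mpr ⟨b, h, rfl⟩)
    · exact Algebra.subset_adjoin ⟨b, List.mem_toFinset.mp h, rfl⟩

theorem comap_surjective_Q (j : Idx A B)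
    (h : Function.Surjective (PrimeSpectrum.comap (algebraMap A B))) :
    Function.Surjective (PrimeSpectrum.comap (R := A) (S := Q j) (algebraMap A (Q j))) := by
  intro p
  obtain ⟨q', rfl⟩ := h p
  refine ⟨PrimeSpectrum.comap (leg j).toRingHom q', ?_⟩
  apply PrimeSpectrum.ext
  ext a
  change (leg j) (algebraMap A (Q j) a) ∈ q'.asIdeal ↔ algebraMap A B a ∈ q'.asIdeal
  rw [(leg j).commutes]

theorem cofinal_WN (hU : FlatMor.IsUnivHomeo (Spec.map (CommRingCat.ofHom (algebraMap A B))))
    (i : Idx A B) :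
    ∃ j : Idx A B, FlatMor.IsUnivHomeo (Spec.map (CommRingCat.ofHom (R := A) (S := Q j) (algebraMap A (Q j)))) ∧
      i ≤ j := by
  obtain ⟨l, hl, hS⟩ := exists_tower_of_finset (A := A) stepWN_mono i.S
    (fun b _ => forall_inTower_WN hU b)
  obtain ⟨T₁, hT₁, hlift⟩ := exists_rels_WN hl
  obtain ⟨j, hij, hjS, hjT, htop⟩ := exists_idx_ge i l hS T₁ hT₁
  refine ⟨j, ?_, hij⟩
  have htow := hlift j hjS hjT
  apply isUnivHomeo_of_WN' (comap_surjective_Q j ((isUnivHomeo_SpecMap_iff' _).mp hU).2.1)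
  intro E
  refine ⟨l.map (gen j), ?_, htow.isTow stepWN_mono⟩
  rw [htop]
  exact fun _ _ => trivial

theorem cofinal_SN (hU : FlatMor.IsUnivHomeo (Spec.map (CommRingCat.ofHom (algebraMap A B))))
    (hres : ResSurj (algebraMap A B)) (i : Idx A B) :
    ∃ j : Idx A B, (FlatMor.IsUnivHomeo (Spec.map (CommRingCat.ofHom (R := A) (S := Q j) (algebraMap A (Q j)))) ∧
      ResSurj (A := A) (B := Q j) (algebraMap A (Q j))) ∧ i ≤ j := by
  obtain ⟨l, hl, hS⟩ := exists_tower_of_finset (A := A) stepSN_mono i.S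
    (fun b _ => forall_inTower_SN hU hres b)
  obtain ⟨T₁, hT₁, hlift⟩ := exists_rels_SN hl
  obtain ⟨j, hij, hjS, hjT, htop⟩ := exists_idx_ge i l hS T₁ hT₁
  refine ⟨j, ⟨?_, ?_⟩, hij⟩
  · have htow := hlift j hjS hjT
    apply isUnivHomeo_of_WN' (comap_surjective_Q j ((isUnivHomeo_SpecMap_iff' _).mp hU).2.1)
    intro E
    refine ⟨l.map (gen j), ?_, fun k => Or.inl (htow.isTow stepSN_mono k)⟩
    rw [htop]
    exact fun _ _ => trivial
  · have htow := hlift j hjS hjT
    apply resSurj_of_SN
    intro E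
    refine ⟨l.map (gen j), ?_, htow.isTow stepSN_mono⟩
    rw [htop]
    exact fun _ _ => trivial

end Groth.Agent.Lib.Helper9.FPColim
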