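import Groth.Agent.Lib.Helper9.FPColim2
import Groth.Agent.Lib.Helper9.FPColim4

/-!
# Filtered colimit presentations by finitely presented universally homeomorphic algebras
-/

set_option autoImplicit false
universe u
open CategoryTheory AlgebraicGeometry

namespace Groth.Agent.Lib.Helper9.FPColim
open Groth.Agent.Lib.Helper9.UnivHomeoRing

variable {A B : Type u} [CommRing A] [CommRing B] [Algebra A B]

theorem resSurj_objOf (i : Idx A B) (h : ResSurj (A := A) (B := Q i) (algebraMap A (Q i))) :
    ∀ x : Spec (objOf i).right,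
      Function.Surjective ((Spec.map (objOf i).hom).residueFieldMap x) := by
  have h2 := (resSurj_iff_SpecMap (A := A) (B := Q i) (algebraMap A (Q i))).mp h
  exact h2

theorem finitePresentation_objOf (i : Idx A B) : (objOf i).hom.hom.FinitePresentation :=
  (RingHom.finitePresentation_algebraMap (A := A) (B := Q i)).mpr (finitePresentation_Q i)

/-- The predicate: universal homeomorphism. -/
def PU (j : Idx A B) : Prop :=
  FlatMor.IsUnivHomeo (Spec.map (CommRingCat.ofHom (R := A) (S := Q j) (algebraMap A (Q j))))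

/-- The predicate: universal homeomorphism with surjective residue field maps. -/
def PS (j : Idx A B) : Prop :=
  FlatMor.IsUnivHomeo (Spec.map (CommRingCat.ofHom (R := A) (S := Q j) (algebraMap A (Q j)))) ∧
    ResSurj (A := A) (B := Q j) (algebraMap A (Q j))

theorem isUnivHomeo_objOf_of_PU (i : Idx A B) (h : PU i) :
    FlatMor.IsUnivHomeo (Spec.map (objOf i).hom) := h

theorem isUnivHomeo_objOf_of_PS (i : Idx A B) (h : PS i) :
    FlatMor.IsUnivHomeo (Spec.map (objOf i).hom) := h.1

theorem resSurj_objOf_of_PS (i : Idx A B) (h : PS i) :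
    ∀ x : Spec (objOf i).right,
      Function.Surjective ((Spec.map (objOf i).hom).residueFieldMap x) :=
  resSurj_objOf i h.2

theorem exists_presentation_UH
    (hU : FlatMor.IsUnivHomeo (Spec.map (CommRingCat.ofHom (algebraMap A B)))) :
    ∃ (J : Type u) (_ : SmallCategory J) (_ : IsFiltered J) (F : J ⥤ Under (CommRingCat.of A))
      (c : Limits.Cocone F) (_ : Limits.IsColimit c),
      (∀ j, (F.obj j).hom.hom.FinitePresentation ∧
        FlatMor.IsUnivHomeo (Spec.map (F.obj j).hom)) ∧
      c.pt = objB (A := A) (B := B) := by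
  obtain ⟨J, i1, i2, F, c, hc, hF, hpt⟩ := exists_presentation (A := A) (B := B) PU
    (cofinal_WN hU)
  refine ⟨J, i1, i2, F, c, hc, ?_, hpt⟩
  intro j
  obtain ⟨i, hP, h⟩ := hF j
  rw [h]
  exact ⟨finitePresentation_objOf i, isUnivHomeo_objOf_of_PU i hP⟩

theorem exists_presentation_UH_res
    (hU : FlatMor.IsUnivHomeo (Spec.map (CommRingCat.ofHom (algebraMap A B))))
    (hres : ResSurj (algebraMap A B)) :
    ∃ (J : Type u) (_ : SmallCategory J) (_ : IsFiltered J) (F : J ⥤ Under (CommRingCat.of A))
      (c : Limits.Cocone F) (_ : Limits.IsColimit c),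
      (∀ j, (F.obj j).hom.hom.FinitePresentation ∧
        FlatMor.IsUnivHomeo (Spec.map (F.obj j).hom) ∧
        ∀ x : Spec (F.obj j).right,
          Function.Surjective ((Spec.map (F.obj j).hom).residueFieldMap x)) ∧
      c.pt = objB (A := A) (B := B) := by
  obtain ⟨J, i1, i2, F, c, hc, hF, hpt⟩ := exists_presentation (A := A) (B := B) PS
    (cofinal_SN hU hres)
  refine ⟨J, i1, i2, F, c, hc, ?_, hpt⟩
  intro j
  obtain ⟨i, hP, h⟩ := hF j
  rw [h]
  exact ⟨finitePresentation_objOf i, isUnivHomeo_objOf_of_PS i hP, resSurj_objOf_of_PS i hP⟩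

end Groth.Agent.Lib.Helper9.FPColim
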