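import Mathlib
import Groth.Prelude.Def_BlowUp2
import Groth.Agent.Lib.Helper9.FTExt6

set_option linter.style.haveILetI false
set_option linter.unusedSectionVars false
set_option autoImplicit false

universe u
open CategoryTheory CategoryTheory.Limits AlgebraicGeometry TopologicalSpace

namespace Groth.Agent.Lib.Helper9.FTExt

open Groth.Agent.Lib.Helper29.EffCart Groth.Agent.Lib.Helper9.BlowProper

theorem main8857 (X : Scheme.{u}) [CompactSpace ↥X] [QuasiSeparatedSpace ↥X]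
    (U V : X.Opens) (hU : IsCompact (U : Set ↥X)) (hV : IsCompact (V : Set ↥X))
    (𝓘 : (V : Scheme.{u}).IdealSheafData) (h𝓘 : BlowUp.IsAdmissibleFor (V.ι ⁻¹ᵁ U) 𝓘) :
    ∃ 𝓙 : X.IdealSheafData, BlowUp.IsAdmissibleFor U 𝓙 ∧ 𝓙.comap V.ι = 𝓘 ∧
      ∀ (X' : Scheme.{u}) (c : X' ⟶ X), BlowUp.IsBlowUp c 𝓙 → BlowUp.IsBlowUp (c ∣_ V) 𝓘 := by
  haveI : CompactSpace V := isCompact_iff_compactSpace.1 hV
  haveI : CompactSpace 𝓘.subscheme := QuasiCompact.compactSpace_of_compactSpace 𝓘.subschemeι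
  set 𝓘X := 𝓘.map V.ι with h𝓘X
  have F1 : 𝓘X.comap V.ι = 𝓘 := comap_map_ι V 𝓘
  -- support of 𝓘X misses U
  have F2 : Disjoint (𝓘X.support : Set X) (U : Set X) := by
    have h1 : 𝓘X.support = closure (Set.range (𝓘.subschemeι ≫ V.ι)) :=
      Scheme.Hom.support_ker (𝓘.subschemeι ≫ V.ι)
    rw [h1, Set.disjoint_left]
    have h2 : closure (Set.range (𝓘.subschemeι ≫ V.ι)) ⊆ (U : Set X)ᶜ := by
      refine closure_minimal ?_ U.2.isClosed_compl
      rintro _ ⟨s, rfl⟩ hsU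
      rw [Scheme.Hom.comp_apply] at hsU
      have : 𝓘.subschemeι s ∈ Set.range 𝓘.subschemeι := ⟨s, rfl⟩
      rw [𝓘.range_subschemeι] at this
      exact Set.disjoint_left.1 h𝓘.2 this hsU
    exact fun x hx hxU => h2 hx hxU
  have F3 : FTOn 𝓘X (V ⊔ U) := by
    intro O hO
    apply fg_of_locally_fg_on
    intro x hx
    rcases hO hx with hxV | hxU
    · obtain ⟨_, ⟨N', hN', rfl⟩, hxN', -⟩ :=
        (V : Scheme.{u}).isBasis_affineOpens.exists_subset_of_mem_open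
          (show (⟨x, hxV⟩ : V) ∈ (⊤ : (V : Scheme.{u}).Opens) from trivial) isOpen_univ
      refine ⟨⟨V.ι ''ᵁ N', hN'.image_of_isOpenImmersion _⟩, ⟨_, hxN', rfl⟩, ?_⟩
      have h1 := ideal_map_ι V 𝓘 ⟨N', hN'⟩
      have h2 : (𝓘.ideal ⟨N', hN'⟩).FG := h𝓘.1 ⟨N', hN'⟩
      rw [h1] at h2
      set e := V.ι.appIso N' with he
      set K := (𝓘.map V.ι).ideal ⟨V.ι ''ᵁ N', hN'.image_of_isOpenImmersion _⟩ with hK
      have h3 : K = (K.comap e.inv.hom).map e.inv.hom := by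
        rw [Ideal.map_comap_of_surjective]
        exact (ConcreteCategory.bijective_of_isIso e.inv).2
      rw [h3]
      exact h2.map _
    · obtain ⟨_, ⟨N, hN, rfl⟩, hxN, hNU⟩ :=
        X.isBasis_affineOpens.exists_subset_of_mem_open hxU U.2
      refine ⟨⟨N, hN⟩, hxN, ?_⟩
      rw [ideal_eq_top_of_disjoint 𝓘X ⟨N, hN⟩ (F2.mono_right hNU)]
      exact ⟨{1}, by simp⟩
  obtain ⟨𝓙, hle, hft, heq⟩ := exists_fg_extension 𝓘X (V ⊔ U) (hV.union hU) F3
  have F4 : 𝓙.comap V.ι = 𝓘 := by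
    rw [← F1]
    exact comap_ι_congr 𝓙 𝓘X V fun O hO => heq O (hO.trans le_sup_left)
  have F5 : Disjoint (𝓙.support : Set X) (U : Set X) := by
    apply disjoint_of_ideal_eq_top
    intro O hO
    rw [heq O (hO.trans le_sup_right)]
    exact ideal_eq_top_of_disjoint 𝓘X O (F2.mono_right hO)
  refine ⟨𝓙, ⟨hft, F5⟩, F4, ?_⟩
  intro X' c hc
  have := isBlowUp_morphismRestrict hc V
  rwa [F4] at this

end Groth.Agent.Lib.Helper9.FTExt
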