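import Mathlib
import Groth.Agent.Lib.Helper9.Ferrand19

set_option autoImplicit false
set_option linter.style.haveILetI false
set_option linter.unusedSectionVars false
universe u v w
open CategoryTheory CategoryTheory.Limits AlgebraicGeometry TopologicalSpace Opposite Topology

namespace Groth.Agent.Lib.Helper9.Ferrand

open Groth.Agent.Lib.Helper9.PushLoc Groth.Agent.Lib.Helper9.RingPB Groth.Agent.Lib.Helper9.OILoc
open Groth.Agent.Lib.Helper9.JointSurj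

section cube
variable {X Y Z P S S' X' Y' Z' P' : Scheme.{u}}
  (i : Z ⟶ X) (j : Z ⟶ Y) (a : X ⟶ P) (b : Y ⟶ P)
  [IsClosedImmersion i] [IsAffineHom a] [IsAffineHom b]
  (s : P ⟶ S) (g : S' ⟶ S)
  (pP : P' ⟶ P) (s' : P' ⟶ S')
  (pX : X' ⟶ X) (a' : X' ⟶ P')
  (pY : Y' ⟶ Y) (b' : Y' ⟶ P')
  (pZ : Z' ⟶ Z) (c' : Z' ⟶ P')
  (i' : Z' ⟶ X') (j' : Z' ⟶ Y')

/-- **Arbitrary base change of pushouts** when the glued-along scheme `Z` is flat over the
base. -/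
theorem isPushout_baseChange_of_flat_source [Flat ((i ≫ a) ≫ s)]
    (hP : IsPushout i j a b) (hP' : IsPullback pP s' s g)
    (hX' : IsPullback pX a' a pP) (hY' : IsPullback pY b' b pP)
    (hZ' : IsPullback pZ c' (i ≫ a) pP)
    (hi₁ : i' ≫ pX = pZ ≫ i) (hi₂ : i' ≫ a' = c') (hj₁ : j' ≫ pY = pZ ≫ j)
    (hj₂ : j' ≫ b' = c') : IsPushout i' j' a' b' := by
  refine isPushout_baseChange i j a b s g pP s' pX a' pY b' pZ c' i' j' hP hP' hX' hY' hZ'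
    hi₁ hi₂ hj₁ hj₂ ?_
  intro U U' W hU hU' hW hU'le hWle
  have HW := (sheafPB_iff_isPB hP.w W).mp (sheafPB_of_isPushout i j a b hP.w hP W hW)
  have hZle : i ⁻¹ᵁ (a ⁻¹ᵁ W) ≤ ((i ≫ a) ≫ s) ⁻¹ᵁ U := by
    rw [Scheme.Hom.comp_preimage, Scheme.Hom.comp_preimage]
    exact i.preimage_mono (a.preimage_mono hWle)
  have eZ : ((i ≫ a) ≫ s).appLE U (i ⁻¹ᵁ (a ⁻¹ᵁ W)) hZle =
      (s.appLE U W hWle ≫ a.app W) ≫ i.app (a ⁻¹ᵁ W) := by
    rw [Scheme.Hom.app_eq_appLE, Scheme.Hom.app_eq_appLE, Scheme.Hom.appLE_comp_appLE,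
      Scheme.Hom.appLE_comp_appLE]
    exact appLE_congr_hom (Category.assoc _ _ _) _ _ _ _
  have hfl := Flat.flat_appLE ((i ≫ a) ≫ s) hU ((hW.preimage a).preimage i) hZle
  rw [eZ] at hfl
  exact stablePB_of_flat_of_surjective _ _ _ _ _ _ HW hfl
    (i.app_surjective (a ⁻¹ᵁ W) (hW.preimage a))

end cube

/-- the base change square attached to `pullback.map` -/
theorem isPullback_map_fst {A B S S' : Scheme.{u}} (φ : A ⟶ B) (β : B ⟶ S) (g : S' ⟶ S)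
    (e₁ : (φ ≫ β) ≫ 𝟙 S = φ ≫ β) (e₂ : g ≫ 𝟙 S = 𝟙 S' ≫ g) :
    IsPullback (pullback.fst (φ ≫ β) g) (pullback.map (φ ≫ β) g β g φ (𝟙 S') (𝟙 S) e₁ e₂) φ
      (pullback.fst β g) := by
  have p : pullback.map (φ ≫ β) g β g φ (𝟙 S') (𝟙 S) e₁ e₂ ≫ pullback.fst β g =
      pullback.fst (φ ≫ β) g ≫ φ := pullback.lift_fst _ _ _
  have h1 : pullback.map (φ ≫ β) g β g φ (𝟙 S') (𝟙 S) e₁ e₂ ≫ pullback.snd β g =
      pullback.snd (φ ≫ β) g := by
    rw [pullback.map, pullback.lift_snd, Category.comp_id]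
  have s : IsPullback (pullback.map (φ ≫ β) g β g φ (𝟙 S') (𝟙 S) e₁ e₂ ≫ pullback.snd β g)
      (pullback.fst (φ ≫ β) g) g (φ ≫ β) := by
    rw [h1]
    exact (IsPullback.of_hasPullback (φ ≫ β) g).flip
  exact (IsPullback.of_right s p (IsPullback.of_hasPullback β g).flip).flip

end Groth.Agent.Lib.Helper9.Ferrand
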