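import Mathlib
import Groth.Agent.Lib.Helper9.RingPB5

set_option autoImplicit false
set_option linter.style.haveILetI false
set_option linter.unusedSectionVars false
universe u v w
open CategoryTheory CategoryTheory.Limits TensorProduct

namespace Groth.Agent.Lib.Helper9.RingPB

section Mod
variable {Λ : Type*} [CommRing Λ] {K M Q A B : Type*} [AddCommGroup K] [AddCommGroup M]
  [AddCommGroup Q] [AddCommGroup A] [AddCommGroup B] [Module Λ K] [Module Λ M] [Module Λ Q]
  [Module Λ A] [Module Λ B]

theorem flat_prod [Module.Flat Λ A] [Module.Flat Λ B] : Module.Flat Λ (A × B) := by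
  rw [Module.Flat.iff_rTensor_injective']
  intro I
  rw [injective_iff_map_eq_zero]
  intro x hx
  have h1 : (LinearMap.fst Λ A B).lTensor I x = 0 := by
    apply Module.Flat.rTensor_preserves_injective_linearMap (M := A) I.subtype
      I.injective_subtype
    rw [map_zero, ← LinearMap.comp_apply, LinearMap.rTensor_comp_lTensor,
      ← LinearMap.lTensor_comp_rTensor, LinearMap.comp_apply, hx, map_zero]
  have h2 : (LinearMap.snd Λ A B).lTensor I x = 0 := by
    apply Module.Flat.rTensor_preserves_injective_linearMap (M := B) I.subtype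
      I.injective_subtype
    rw [map_zero, ← LinearMap.comp_apply, LinearMap.rTensor_comp_lTensor,
      ← LinearMap.lTensor_comp_rTensor, LinearMap.comp_apply, hx, map_zero]
  have h3 : x = (LinearMap.inl Λ A B).lTensor I ((LinearMap.fst Λ A B).lTensor I x) +
      (LinearMap.inr Λ A B).lTensor I ((LinearMap.snd Λ A B).lTensor I x) := by
    rw [← LinearMap.comp_apply, ← LinearMap.comp_apply, ← LinearMap.lTensor_comp,
      ← LinearMap.lTensor_comp, ← LinearMap.add_apply, ← LinearMap.lTensor_add]
    have : (LinearMap.inl Λ A B) ∘ₗ (LinearMap.fst Λ A B) +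
        (LinearMap.inr Λ A B) ∘ₗ (LinearMap.snd Λ A B) = LinearMap.id := by
      ext <;> simp
    rw [this, LinearMap.lTensor_id]
    rfl
  rw [h3, h1, h2, map_zero, map_zero, add_zero]

/-- the kernel of a surjection of flat modules is flat -/
theorem flat_of_exact (f : K →ₗ[Λ] M) (g : M →ₗ[Λ] Q) (hf : Function.Injective f)
    (hfg : Function.Exact f g) (hg : Function.Surjective g) [Module.Flat Λ M] [Module.Flat Λ Q] :
    Module.Flat Λ K := by
  rw [Module.Flat.iff_rTensor_injective']
  intro I
  have h1 : Function.Injective (f.lTensor I) :=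
    LinearMap.lTensor_injective_of_exact_of_flat g hg f hf hfg I
  have h2 : Function.Injective (I.subtype.rTensor M) :=
    Module.Flat.rTensor_preserves_injective_linearMap _ I.injective_subtype
  have h3 : (f.lTensor Λ) ∘ₗ (I.subtype.rTensor K) = (I.subtype.rTensor M) ∘ₗ (f.lTensor I) := by
    rw [LinearMap.lTensor_comp_rTensor, LinearMap.rTensor_comp_lTensor]
  refine Function.Injective.of_comp (f := f.lTensor Λ) ?_
  rw [← LinearMap.coe_comp, h3]
  exact h2.comp h1

end Mod

section Ring
variable {Λ R A B C : Type u} [CommRing Λ] [CommRing R] [CommRing A] [CommRing B] [CommRing C]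

/-- a fibre product of flat algebras over a flat algebra, along a surjection, is flat -/
theorem IsPB.flat (σ : Λ →+* R) (π₁ : R →+* A) (π₂ : R →+* B) (q₁ : A →+* C) (q₂ : B →+* C)
    (H : IsPB π₁ π₂ q₁ q₂) (hq : Function.Surjective q₁) (h1 : (π₁.comp σ).Flat)
    (h2 : (π₂.comp σ).Flat) (h3 : (q₁.comp (π₁.comp σ)).Flat) : σ.Flat := by
  letI : Algebra Λ R := σ.toAlgebra
  letI : Algebra Λ A := (π₁.comp σ).toAlgebra
  letI : Algebra Λ B := (π₂.comp σ).toAlgebra
  letI : Algebra Λ C := (q₁.comp (π₁.comp σ)).toAlgebra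
  let π₁a : R →ₐ[Λ] A := ⟨π₁, fun _ => rfl⟩
  let π₂a : R →ₐ[Λ] B := ⟨π₂, fun _ => rfl⟩
  let q₁a : A →ₐ[Λ] C := ⟨q₁, fun _ => rfl⟩
  let q₂a : B →ₐ[Λ] C := ⟨q₂, fun l => (H.comm (σ l)).symm⟩
  haveI : Module.Flat Λ A := h1
  haveI : Module.Flat Λ B := h2
  haveI : Module.Flat Λ C := h3
  haveI : Module.Flat Λ (A × B) := flat_prod
  have HH : IsPB π₁a.toRingHom π₂a.toRingHom q₁a.toRingHom q₂a.toRingHom := H
  exact (flat_of_exact (pbF π₁a π₂a) (pbG q₁a q₂a) HH.injective_pbF HH.exact_pbF_pbG
    (pbG_surjective q₁a q₂a hq) : Module.Flat Λ R)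

end Ring

end Groth.Agent.Lib.Helper9.RingPB
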