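import Mathlib
import Groth.Agent.Lib.Helper9.Ferrand20
import Groth.Agent.Lib.Helper9.RingPB6

set_option autoImplicit false
set_option linter.style.haveILetI false
set_option linter.unusedSectionVars false
universe u v w
open CategoryTheory CategoryTheory.Limits AlgebraicGeometry TopologicalSpace Opposite Topology

namespace Groth.Agent.Lib.Helper9.Ferrand

open Groth.Agent.Lib.Helper9.PushLoc Groth.Agent.Lib.Helper9.RingPB Groth.Agent.Lib.Helper9.OILoc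
open Groth.Agent.Lib.Helper9.JointSurj

variable {X Y Z P S : Scheme.{u}}
  (i : Z ⟶ X) (j : Z ⟶ Y) (a : X ⟶ P) (b : Y ⟶ P)
  [IsClosedImmersion i] [IsAffineHom a] [IsAffineHom b]

/-- a pushout of flat `S`-schemes along a flat closed subscheme is flat over `S` -/
theorem flat_of_isPushout (hP : IsPushout i j a b) (s : P ⟶ S) [Flat (a ≫ s)] [Flat (b ≫ s)]
    [Flat ((i ≫ a) ≫ s)] : Flat s := by
  refine ⟨fun {U} hU {W} hW hWle => ?_⟩
  have HW := (sheafPB_iff_isPB hP.w W).mp (sheafPB_of_isPushout i j a b hP.w hP W hW)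
  have hXle : a ⁻¹ᵁ W ≤ (a ≫ s) ⁻¹ᵁ U := by
    rw [Scheme.Hom.comp_preimage]; exact a.preimage_mono hWle
  have hYle : b ⁻¹ᵁ W ≤ (b ≫ s) ⁻¹ᵁ U := by
    rw [Scheme.Hom.comp_preimage]; exact b.preimage_mono hWle
  have hZle : i ⁻¹ᵁ (a ⁻¹ᵁ W) ≤ ((i ≫ a) ≫ s) ⁻¹ᵁ U := by
    rw [Scheme.Hom.comp_preimage, Scheme.Hom.comp_preimage]
    exact i.preimage_mono (a.preimage_mono hWle)
  have eX : (a ≫ s).appLE U (a ⁻¹ᵁ W) hXle = s.appLE U W hWle ≫ a.app W := by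
    rw [Scheme.Hom.app_eq_appLE, Scheme.Hom.appLE_comp_appLE]
  have eY : (b ≫ s).appLE U (b ⁻¹ᵁ W) hYle = s.appLE U W hWle ≫ b.app W := by
    rw [Scheme.Hom.app_eq_appLE, Scheme.Hom.appLE_comp_appLE]
  have eZ : ((i ≫ a) ≫ s).appLE U (i ⁻¹ᵁ (a ⁻¹ᵁ W)) hZle =
      (s.appLE U W hWle ≫ a.app W) ≫ i.app (a ⁻¹ᵁ W) := by
    rw [Scheme.Hom.app_eq_appLE, Scheme.Hom.app_eq_appLE, Scheme.Hom.appLE_comp_appLE,
      Scheme.Hom.appLE_comp_appLE]
    exact appLE_congr_hom (Category.assoc _ _ _) _ _ _ _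
  have h1 := Flat.flat_appLE (a ≫ s) hU (hW.preimage a) hXle
  have h2 := Flat.flat_appLE (b ≫ s) hU (hW.preimage b) hYle
  have h3 := Flat.flat_appLE ((i ≫ a) ≫ s) hU ((hW.preimage a).preimage i) hZle
  rw [eX] at h1
  rw [eY] at h2
  rw [eZ] at h3
  exact IsPB.flat (s.appLE U W hWle).hom _ _ _ _ HW (i.app_surjective (a ⁻¹ᵁ W) (hW.preimage a))
    h1 h2 h3

end Groth.Agent.Lib.Helper9.Ferrand
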