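import Mathlib
import Groth.Agent.Lib.Helper9.RingPB6

set_option autoImplicit false
set_option linter.style.haveILetI false
set_option linter.unusedSectionVars false
universe u v w
open CategoryTheory CategoryTheory.Limits TensorProduct

namespace Groth.Agent.Lib.Helper9.RingPB

variable {Λ Λ' R A B C : Type u} [CommRing Λ] [CommRing Λ'] [CommRing R] [CommRing A]
  [CommRing B] [CommRing C]

/-- if the ring glued along is trivial, the square is a product and stable under base change -/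
theorem stablePB_of_subsingleton (lam : Λ →+* Λ') (σ : Λ →+* R) (π₁ : R →+* A)
    (π₂ : R →+* B) (q₁ : A →+* C) (q₂ : B →+* C) (H : IsPB π₁ π₂ q₁ q₂) [Subsingleton C] :
    StablePB lam σ π₁ π₂ q₁ q₂ := by
  have hq : Function.Surjective q₁ := fun c => ⟨0, Subsingleton.elim _ _⟩
  have hbij : Function.Bijective (fun x : R => (π₁ x, π₂ x)) := by
    refine ⟨?_, fun y => ?_⟩
    · intro x x' h
      exact H.uniq (congrArg Prod.fst h) (congrArg Prod.snd h)
    · obtain ⟨x, h1, h2⟩ := H.ex y.1 y.2 (Subsingleton.elim _ _)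
      exact ⟨x, Prod.ext h1 h2⟩
  let e : R ≃+ A × B :=
    AddEquiv.ofBijective (AddMonoidHom.prod π₁.toAddMonoidHom π₂.toAddMonoidHom) hbij
  refine stablePB_of_retraction lam σ π₁ π₂ q₁ q₂ H hq e.symm.toAddMonoidHom ?_ ?_
  · intro l y
    obtain ⟨x, rfl⟩ := e.surjective y
    have h1 : e (σ l * x) = (π₁ (σ l) * (e x).1, π₂ (σ l) * (e x).2) := by
      change (π₁ (σ l * x), π₂ (σ l * x)) = _
      rw [map_mul, map_mul]; rfl
    change e.symm _ = σ l * e.symm (e x)
    rw [← h1, e.symm_apply_apply, e.symm_apply_apply]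
  · intro x
    exact e.symm_apply_apply x

/-- **Pinching**: if `B → C` is injective with `Λ`-projective cokernel and `A → C` is surjective,
the pullback square `A ×_C B` is stable under arbitrary base change of `Λ`. -/
theorem stablePB_of_projective_coker (lam : Λ →+* Λ') (σ : Λ →+* R) (π₁ : R →+* A)
    (π₂ : R →+* B) (q₁ : A →+* C) (q₂ : B →+* C) (H : IsPB π₁ π₂ q₁ q₂)
    (hq₁ : Function.Surjective q₁) (hq₂ : Function.Injective q₂)
    (τ : Λ →+* C) (hτ : τ = q₁.comp (π₁.comp σ))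
    (hproj : letI := τ.toAlgebra
      Module.Projective Λ (C ⧸ Submodule.span Λ (Set.range q₂))) :
    StablePB lam σ π₁ π₂ q₁ q₂ := by
  subst hτ
  letI : Algebra Λ Λ' := lam.toAlgebra
  letI : Algebra Λ R := σ.toAlgebra
  letI : Algebra Λ A := (π₁.comp σ).toAlgebra
  letI : Algebra Λ B := (π₂.comp σ).toAlgebra
  letI : Algebra Λ C := (q₁.comp (π₁.comp σ)).toAlgebra
  let π₁a : R →ₐ[Λ] A := ⟨π₁, fun _ => rfl⟩
  let π₂a : R →ₐ[Λ] B := ⟨π₂, fun _ => rfl⟩
  let q₁a : A →ₐ[Λ] C := ⟨q₁, fun _ => rfl⟩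
  let q₂a : B →ₐ[Λ] C := ⟨q₂, fun l => (H.comm (σ l)).symm⟩
  have hspan : Submodule.span Λ (Set.range q₂) = LinearMap.range q₂a.toLinearMap := by
    apply le_antisymm
    · rw [Submodule.span_le]
      rintro _ ⟨b, rfl⟩
      exact ⟨b, rfl⟩
    · rintro _ ⟨b, rfl⟩
      exact Submodule.subset_span ⟨b, rfl⟩
  let Q := C ⧸ Submodule.span Λ (Set.range q₂)
  let ψ : A →ₗ[Λ] Q := (Submodule.mkQ _) ∘ₗ q₁a.toLinearMap
  have hψ : Function.Surjective ψ :=
    (Submodule.mkQ_surjective _).comp hq₁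
  have hπ₁ : Function.Injective π₁a.toLinearMap := by
    rw [injective_iff_map_eq_zero]
    intro x hx
    have hx' : π₁ x = 0 := hx
    apply H.inj x hx'
    apply hq₂
    rw [← H.comm, hx', map_zero, map_zero]
  have hex : Function.Exact π₁a.toLinearMap ψ := by
    intro y
    constructor
    · intro hy
      have : q₁ y ∈ Submodule.span Λ (Set.range q₂) := (Submodule.Quotient.mk_eq_zero _).mp hy
      rw [hspan] at this
      obtain ⟨b, hb⟩ := this
      obtain ⟨x, hx, -⟩ := H.ex y b hb.symm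
      exact ⟨x, hx⟩
    · rintro ⟨x, rfl⟩
      apply (Submodule.Quotient.mk_eq_zero _).mpr
      rw [hspan]
      exact ⟨π₂ x, (H.comm x).symm⟩
  obtain ⟨sec, hsec⟩ := Module.projective_lifting_property ψ LinearMap.id hψ
  obtain ⟨-, l, hl⟩ := ((hex.split_tfae').out 0 1 rfl rfl).mp ⟨hπ₁, sec, hsec⟩
  have HH : IsPB π₁a.toRingHom π₂a.toRingHom q₁a.toRingHom q₂a.toRingHom := H
  refine stablePB_of_tensor π₁a π₂a q₁a q₂a
    (IsPB.tensor_of_retraction Λ' π₁a π₂a q₁a q₂a HH hq₁ (l ∘ₗ LinearMap.fst Λ A B) ?_)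
  intro x
  exact LinearMap.congr_fun hl x

end Groth.Agent.Lib.Helper9.RingPB
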