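import Mathlib
import Groth.Agent.Lib.Helper9.Ferrand22
import Groth.Prelude.Def_W4c3jacimperfPinch

set_option autoImplicit false
set_option linter.style.haveILetI false
set_option linter.unusedSectionVars false
universe u v w
open CategoryTheory CategoryTheory.Limits AlgebraicGeometry TopologicalSpace Opposite Topology

namespace Groth.Agent.Lib.Helper9.Ferrand

open Groth.Agent.Lib.Helper9.PushLoc Groth.Agent.Lib.Helper9.RingPB Groth.Agent.Lib.Helper9.OILoc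
open Groth.Agent.Lib.Helper9.JointSurj

/-- sections inject along a faithfully flat morphism -/
theorem app_injective_of_flat_of_surjective {Z T : Scheme.{u}} (ξ : Z ⟶ T) [Flat ξ] [Surjective ξ]
    (V : T.Opens) : Function.Injective (ξ.app V).hom := by
  rw [injective_iff_map_eq_zero]
  intro s hs
  apply TopCat.Presheaf.section_ext T.sheaf V
  intro x hx
  obtain ⟨z, rfl⟩ := ξ.surjective x
  have hinj : Function.Injective (ξ.stalkMap z).hom := by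
    algebraize [(ξ.stalkMap z).hom]
    have : Module.FaithfullyFlat (T.presheaf.stalk (ξ z)) (Z.presheaf.stalk z) :=
      @Module.FaithfullyFlat.of_flat_of_isLocalHom _ _ _ _ _ _ _
        (Flat.stalkMap ξ z) (ξ.toLRSHom.prop z)
    exact ‹RingHom.FaithfullyFlat _›.injective
  apply hinj
  have h1 := Scheme.Hom.germ_stalkMap_apply ξ V z hx s
  change (ξ.stalkMap z).hom ((T.presheaf.germ V (ξ z) hx).hom s) =
    (ξ.stalkMap z).hom ((T.presheaf.germ V (ξ z) hx).hom 0)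
  change (ξ.stalkMap z).hom ((T.presheaf.germ V (ξ z) hx).hom s) = _ at h1
  rw [h1]
  erw [hs]
  simp

theorem appLE_injective_of_flat_of_surjective {Z T : Scheme.{u}} (ξ : Z ⟶ T) [Flat ξ]
    [Surjective ξ] (VT : T.Opens) (VZ : Z.Opens) (e : VZ = ξ ⁻¹ᵁ VT) (h : VZ ≤ ξ ⁻¹ᵁ VT) :
    Function.Injective (ξ.appLE VT VZ h).hom := by
  subst e
  rw [← Scheme.Hom.app_eq_appLE]
  exact app_injective_of_flat_of_surjective ξ VT

/-- transport of the projectivity hypothesis along equalities of open sets -/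
theorem projective_transport {Y T Z : Scheme.{u}} (t : T ⟶ Y) (ξ : Z ⟶ T) (U : Y.Opens)
    (hvU : @Pinch.CokerProjective Γ(Y, U) Γ(Z, (ξ ≫ t) ⁻¹ᵁ U) Γ(T, t ⁻¹ᵁ U) _ _ _
      ((ξ ≫ t).app U).hom.toAlgebra (ξ.app (t ⁻¹ᵁ U)).hom)
    (VT : T.Opens) (VZ : Z.Opens) (eT : VT = t ⁻¹ᵁ U) (eZ : VZ = (ξ ≫ t) ⁻¹ᵁ U)
    (h1 : VZ ≤ (ξ ≫ t) ⁻¹ᵁ U) (h2 : VZ ≤ ξ ⁻¹ᵁ VT) :
    @Pinch.CokerProjective Γ(Y, U) Γ(Z, VZ) Γ(T, VT) _ _ _
      ((ξ ≫ t).appLE U VZ h1).hom.toAlgebra (ξ.appLE VT VZ h2).hom := by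
  subst eT eZ
  have e1 : (ξ ≫ t).appLE U ((ξ ≫ t) ⁻¹ᵁ U) h1 = (ξ ≫ t).app U :=
    (Scheme.Hom.app_eq_appLE _).symm
  have e2 : ξ.appLE (t ⁻¹ᵁ U) ((ξ ≫ t) ⁻¹ᵁ U) h2 = ξ.app (t ⁻¹ᵁ U) :=
    (Scheme.Hom.app_eq_appLE _).symm
  rw [e1, e2]
  exact hvU


section pinch
variable {X Y T Z P Y' X' T' Z' P' : Scheme.{u}} (f : X ⟶ Y) (t : T ⟶ Y) (ξ : Z ⟶ T) (ι : Z ⟶ X)
  [IsAffineHom t] [IsClosedImmersion ι] [IsFinite ξ] [Flat ξ] [Surjective ξ]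
  (a : X ⟶ P) (b : T ⟶ P) (p : P ⟶ Y) (g : Y' ⟶ Y)
  (pP : P' ⟶ P) (s' : P' ⟶ Y')
  (pX : X' ⟶ X) (a' : X' ⟶ P')
  (pY : T' ⟶ T) (b' : T' ⟶ P')
  (pZ : Z' ⟶ Z) (c' : Z' ⟶ P')
  (i' : Z' ⟶ X') (j' : Z' ⟶ T')

include f t in
/-- **Pinching commutes with arbitrary base change** when the cokernel of `𝒪_T → ξ_* 𝒪_Z` is
projective over the base. -/
theorem isPushout_baseChange_pinch (hsq : ι ≫ f = ξ ≫ t)
    (hstd : ∀ y : Y, ∃ U : Y.Opens, IsAffineOpen U ∧ y ∈ U ∧ ∃ V : X.Opens, IsAffineOpen V ∧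
      V ≤ f ⁻¹ᵁ U ∧ ∀ z : Z, (ξ ≫ t).base z ∈ U → ι.base z ∈ V)
    (hP : IsPushout ι ξ a b)
    (hv : ∀ U : Y.affineOpens, @Pinch.CokerProjective Γ(Y, U) Γ(Z, (ξ ≫ t) ⁻¹ᵁ U)
      Γ(T, t ⁻¹ᵁ U) _ _ _ ((ξ ≫ t).app U).hom.toAlgebra (ξ.app (t ⁻¹ᵁ U)).hom)
    (hap : a ≫ p = f) (hbp : b ≫ p = t)
    (hP' : IsPullback pP s' p g)
    (hX' : IsPullback pX a' a pP) (hY' : IsPullback pY b' b pP)
    (hZ' : IsPullback pZ c' (ι ≫ a) pP)
    (hi₁ : i' ≫ pX = pZ ≫ ι) (hi₂ : i' ≫ a' = c') (hj₁ : j' ≫ pY = pZ ≫ ξ)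
    (hj₂ : j' ≫ b' = c') : IsPushout i' j' a' b' := by
  have hcov := hcov_of_hstd f t ξ ι hsq hstd
  haveI : IsIntegralHom a := isIntegralHom_of_isPushout ι ξ hcov hP
  haveI : IsClosedImmersion b := isClosedImmersion_of_isPushout ι ξ hcov hP
  let e := isoOfIsPushout ι ξ hcov hP
  have hae : a ≫ e.inv = mapA ι ξ hcov := by
    rw [← mapA_iso ι ξ hcov hP, Category.assoc, Iso.hom_inv_id, Category.comp_id]
  have hbe : b ≫ e.inv = mapB ι ξ hcov := by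
    rw [← mapB_iso ι ξ hcov hP, Category.assoc, Iso.hom_inv_id, Category.comp_id]
  refine isPushout_baseChange_cover ι ξ a b p g pP s' pX a' pY b' pZ c' i' j' hP hP' hX' hY' hZ'
    hi₁ hi₂ hj₁ hj₂ (fun U W => b ⁻¹ᵁ W = ⊥ ∨ b ⁻¹ᵁ W = t ⁻¹ᵁ U) ?_ ?_
  · intro y
    by_cases hy : y ∈ Set.range b
    · obtain ⟨t₀, rfl⟩ := hy
      obtain ⟨U, hU, hyU, V, hV, hVU, hZ⟩ := hstd (t t₀)
      have hh : ι ⁻¹ᵁ V = ξ ⁻¹ᵁ (t ⁻¹ᵁ U) := by
        ext z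
        constructor
        · intro hz
          have h1 : (ι ≫ f) z ∈ U := hVU hz
          rw [hsq] at h1
          exact h1
        · intro hz
          exact hZ z hz
      let p₀ : AdPair ι ξ := ⟨V, t ⁻¹ᵁ U, hV, hU.preimage t, hh⟩
      let W : P.Opens := e.inv ⁻¹ᵁ (Ferrand.ι ι ξ p₀).opensRange
      have haW : a ⁻¹ᵁ W = V := by
        change a ⁻¹ᵁ (e.inv ⁻¹ᵁ _) = _
        rw [← Scheme.Hom.comp_preimage, hae]
        exact mapA_preimage ι ξ hcov p₀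
      have hbW : b ⁻¹ᵁ W = t ⁻¹ᵁ U := by
        change b ⁻¹ᵁ (e.inv ⁻¹ᵁ _) = _
        rw [← Scheme.Hom.comp_preimage, hbe]
        exact mapB_preimage ι ξ hcov p₀
      have hWaff : IsAffineOpen W :=
        (isAffineOpen_opensRange (Ferrand.ι ι ξ p₀)).preimage_of_isIso e.inv
      refine ⟨U, W, hU, hWaff, Or.inr hbW, ?_, ?_⟩
      · have : t₀ ∈ b ⁻¹ᵁ W := by rw [hbW]; exact hyU
        exact this
      · intro x hx
        rcases js_of_isPushout ι ξ hcov hP x with ⟨x', rfl⟩ | ⟨t', rfl⟩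
        · have h1 : x' ∈ a ⁻¹ᵁ W := hx
          rw [haW] at h1
          change p (a x') ∈ U
          rw [← Scheme.Hom.comp_apply, hap]
          exact hVU h1
        · have h1 : t' ∈ b ⁻¹ᵁ W := hx
          rw [hbW] at h1
          change p (b t') ∈ U
          rw [← Scheme.Hom.comp_apply, hbp]
          exact h1
    · obtain ⟨U, hU, hyU, -⟩ := exists_isAffineOpen_mem_and_subset (x := p y) (U := ⊤) trivial
      let O : P.Opens := ⟨(Set.range b)ᶜ, b.isClosedEmbedding.isClosed_range.isOpen_compl⟩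
      have hyO : y ∈ p ⁻¹ᵁ U ⊓ O := ⟨hyU, hy⟩
      obtain ⟨W, hW, hyW, hWle⟩ := exists_isAffineOpen_mem_and_subset hyO
      refine ⟨U, W, hU, hW, Or.inl ?_, hyW, fun x hx => (hWle hx).1⟩
      ext t'
      simp only [Opens.coe_bot, Set.mem_empty_iff_false, iff_false]
      intro ht'
      exact (hWle ht').2 ⟨t', rfl⟩
  · intro U U' W hU hU' hW hC hU'le hWle
    have HW := (sheafPB_iff_isPB hP.w W).mp (sheafPB_of_isPushout ι ξ a b hP.w hP W hW)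
    rcases hC with hC | hC
    · have e0 : ι ⁻¹ᵁ (a ⁻¹ᵁ W) = ⊥ := by
        rw [preimage_eq_of_comm hP.w W, hC]; rfl
      haveI : Subsingleton Γ(Z, ι ⁻¹ᵁ (a ⁻¹ᵁ W)) := by rw [e0]; infer_instance
      exact stablePB_of_subsingleton _ _ _ _ _ _ HW
    · have eZ : ι ⁻¹ᵁ (a ⁻¹ᵁ W) = (ξ ≫ t) ⁻¹ᵁ U := by
        rw [preimage_eq_of_comm hP.w W, hC, Scheme.Hom.comp_preimage]
      have eZ' : ι ⁻¹ᵁ (a ⁻¹ᵁ W) = ξ ⁻¹ᵁ (b ⁻¹ᵁ W) := preimage_eq_of_comm hP.w W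
      have hτ : ((ξ ≫ t).appLE U (ι ⁻¹ᵁ (a ⁻¹ᵁ W)) eZ.le).hom =
          (ι.app (a ⁻¹ᵁ W)).hom.comp ((a.app W).hom.comp (p.appLE U W hWle).hom) := by
        have e1 : ξ ≫ t = ι ≫ a ≫ p := by rw [hap, hsq]
        have : (ξ ≫ t).appLE U (ι ⁻¹ᵁ (a ⁻¹ᵁ W)) eZ.le =
            (p.appLE U W hWle ≫ a.app W) ≫ ι.app (a ⁻¹ᵁ W) := by
          rw [Scheme.Hom.app_eq_appLE, Scheme.Hom.app_eq_appLE, Scheme.Hom.appLE_comp_appLE,
            Scheme.Hom.appLE_comp_appLE]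
          exact appLE_congr_hom e1 _ _ _ _
        rw [this]
        rfl
      exact stablePB_of_projective_coker _ _ _ _ _ _ HW
        (ι.app_surjective (a ⁻¹ᵁ W) (hW.preimage a))
        (appLE_injective_of_flat_of_surjective ξ _ _ eZ' _)
        ((ξ ≫ t).appLE U (ι ⁻¹ᵁ (a ⁻¹ᵁ W)) eZ.le).hom hτ
        (projective_transport t ξ U (hv ⟨U, hU⟩) (b ⁻¹ᵁ W) (ι ⁻¹ᵁ (a ⁻¹ᵁ W)) hC eZ eZ.le
          (preimage_le hP.w W))

end pinch

end Groth.Agent.Lib.Helper9.Ferrand
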