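import Mathlib
import Groth.Agent.Lib.Helper9.Ferrand23

set_option autoImplicit false
set_option linter.style.haveILetI false
set_option linter.unusedSectionVars false
universe u v w
open CategoryTheory CategoryTheory.Limits AlgebraicGeometry TopologicalSpace Opposite Topology

namespace Groth.Agent.Lib.Helper9.Ferrand

open Groth.Agent.Lib.Helper9.PushLoc Groth.Agent.Lib.Helper9.RingPB Groth.Agent.Lib.Helper9.OILoc
open Groth.Agent.Lib.Helper9.JointSurj

/-- the forgetful functor from schemes to ringed spaces -/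
abbrev FF : Scheme.{u} ⥤ SheafedSpace CommRingCat.{u} :=
  Scheme.forgetToLocallyRingedSpace ⋙ LocallyRingedSpace.forgetToSheafedSpace

theorem FF_base {X P : Scheme.{u}} (a : X ⟶ P) (x : X) : (FF.map a).hom.base x = a x := rfl

theorem FF_c_app {X P : Scheme.{u}} (a : X ⟶ P) (W : P.Opens) :
    (FF.map a).hom.c.app (op W) = a.app W := rfl

/-- jointly dense pairs of morphisms of schemes are jointly epimorphic as morphisms of ringed
spaces -/
theorem jointly_epi {X Y P : Scheme.{u}} {a : X ⟶ P} {b : Y ⟶ P} (JD : JointDense a b)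
    {T : SheafedSpace CommRingCat.{u}} (φ ψ : FF.obj P ⟶ T)
    (ha : FF.map a ≫ φ = FF.map a ≫ ψ) (hb : FF.map b ≫ φ = FF.map b ≫ ψ) : φ = ψ := by
  have hbase : φ.hom.base = ψ.hom.base := by
    ext x
    rcases JD.surj x with ⟨x', rfl⟩ | ⟨y, rfl⟩
    · have := congrArg (fun θ => θ.hom.base x') ha
      exact this
    · have := congrArg (fun θ => θ.hom.base y) hb
      exact this
  obtain ⟨⟨φb, φc⟩⟩ := φ
  obtain ⟨⟨ψb, ψc⟩⟩ := ψ
  change φb = ψb at hbase
  subst hbase
  have hc : φc = ψc := by
    ext V t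
    rw [← sub_eq_zero]
    apply JD.inj ((Opens.map φb).obj V)
    · have h1 : φc.app (op V) ≫ a.app ((Opens.map φb).obj V) =
          ψc.app (op V) ≫ a.app ((Opens.map φb).obj V) := by
        refine (SheafedSpace.congr_hom_app ha (op V)).trans ?_
        change _ ≫ X.presheaf.map (𝟙 _) = _
        rw [X.presheaf.map_id, Category.comp_id]
        rfl
      have h2 := congrArg (fun θ => θ.hom t) h1
      exact (map_sub (a.app ((Opens.map φb).obj V)).hom _ _).trans (sub_eq_zero.mpr h2)
    · have h1 : φc.app (op V) ≫ b.app ((Opens.map φb).obj V) =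
          ψc.app (op V) ≫ b.app ((Opens.map φb).obj V) := by
        refine (SheafedSpace.congr_hom_app hb (op V)).trans ?_
        change _ ≫ Y.presheaf.map (𝟙 _) = _
        rw [Y.presheaf.map_id, Category.comp_id]
        rfl
      have h2 := congrArg (fun θ => θ.hom t) h1
      exact (map_sub (b.app ((Opens.map φb).obj V)).hom _ _).trans (sub_eq_zero.mpr h2)
  rw [hc]


section glued
variable {X Y Z : Scheme.{u}} (i : Z ⟶ X) (j : Z ⟶ Y) [IsClosedImmersion i]
  (hcov : ∀ y : Y, ∃ p : AdPair i j, y ∈ p.V)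

theorem isAffineHom_mapA : IsAffineHom (mapA i j hcov) :=
  IsZariskiLocalAtTarget.of_iSup_eq_top (P := @IsAffineHom)
    (fun p : AdPair i j => (Ferrand.ι i j p).opensRange) (iSup_opensRange_ι i j)
    (fun p => morphismRestrict_of_chart @IsAffineHom (mapA i j hcov) (Ferrand.ι i j p) p.U
      (mapA_preimage i j hcov p) p.a (ι_mapA i j hcov p) (by
        haveI : IsAffine (p.U : Scheme.{u}) := p.hU
        infer_instance))

theorem isAffineHom_mapB : IsAffineHom (mapB i j hcov) :=
  IsZariskiLocalAtTarget.of_iSup_eq_top (P := @IsAffineHom)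
    (fun p : AdPair i j => (Ferrand.ι i j p).opensRange) (iSup_opensRange_ι i j)
    (fun p => morphismRestrict_of_chart @IsAffineHom (mapB i j hcov) (Ferrand.ι i j p) p.V
      (mapB_preimage i j hcov p) p.b (ι_mapB i j hcov p) (by
        haveI : IsAffine (p.V : Scheme.{u}) := p.hV
        infer_instance))

end glued

section affine
variable {X Y Z P : Scheme.{u}} (i : Z ⟶ X) (j : Z ⟶ Y) (a : X ⟶ P) (b : Y ⟶ P)
  [IsClosedImmersion i] [IsAffineHom a] [IsAffineHom b]

/-- the two legs of a pushout (closed immersion, affine legs) are jointly dense -/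
theorem jointDense_of_isPushout (hP : IsPushout i j a b) : JointDense a b := by
  refine ⟨js_of_isPushout i j (hcov_of_affine i j a b hP.w) hP, fun W s h1 h2 => ?_⟩
  apply eq_zero_of_locally
  intro y hy
  obtain ⟨W', hW', hyW', hW'W⟩ := exists_isAffineOpen_mem_and_subset hy
  refine ⟨W', hW'W, hyW', ?_⟩
  apply (sheafPB_of_isPushout i j a b hP.w hP W' hW').inj
  · rw [res_app, h1, map_zero]
  · rw [res_app, h2, map_zero]

/-- a square of schemes (closed immersion, affine legs) which is a pushout of ringed spaces is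
a pushout of schemes -/
theorem isPushout_of_isPushout_FF (w : i ≫ a = j ≫ b)
    (hpo : IsPushout (FF.map i) (FF.map j) (FF.map a) (FF.map b)) : IsPushout i j a b := by
  have hcov := hcov_of_affine i j a b w
  have hP₀ := isPushout i j hcov
  haveI : IsAffineHom (mapA i j hcov) := isAffineHom_mapA i j hcov
  haveI : IsAffineHom (mapB i j hcov) := isAffineHom_mapB i j hcov
  have JD := jointDense_of_isPushout i j (mapA i j hcov) (mapB i j hcov) hP₀
  -- the inverse of the comparison map, as a map of ringed spaces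
  have hw₀ : FF.map i ≫ FF.map (mapA i j hcov) = FF.map j ≫ FF.map (mapB i j hcov) := by
    rw [← FF.map_comp, ← FF.map_comp, hP₀.w]
  let k := hpo.desc (FF.map (mapA i j hcov)) (FF.map (mapB i j hcov)) hw₀
  have hk₁ : FF.map a ≫ k = FF.map (mapA i j hcov) := hpo.inl_desc _ _ _
  have hk₂ : FF.map b ≫ k = FF.map (mapB i j hcov) := hpo.inr_desc _ _ _
  have h1 : k ≫ FF.map (cmp i j a b w) = 𝟙 _ := by
    apply hpo.hom_ext
    · rw [← Category.assoc, hk₁, ← FF.map_comp, mapA_cmp, Category.comp_id]
    · rw [← Category.assoc, hk₂, ← FF.map_comp, mapB_cmp, Category.comp_id]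
  have h2 : FF.map (cmp i j a b w) ≫ k = 𝟙 _ := by
    apply jointly_epi JD
    · rw [← Category.assoc, ← FF.map_comp, mapA_cmp, hk₁, Category.comp_id]
    · rw [← Category.assoc, ← FF.map_comp, mapB_cmp, hk₂, Category.comp_id]
  haveI : IsIso (FF.map (cmp i j a b w)) := ⟨k, h2, h1⟩
  haveI : IsIso (cmp i j a b w) := isIso_of_reflects_iso (cmp i j a b w) FF
  refine IsPushout.of_iso hP₀ (Iso.refl _) (Iso.refl _) (Iso.refl _)
    (asIso (cmp i j a b w)) ?_ ?_ ?_ ?_
  · simp
  · simp
  · simpa using mapA_cmp i j a b w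
  · simpa using mapB_cmp i j a b w

end affine

end Groth.Agent.Lib.Helper9.Ferrand
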