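import Mathlib
import Groth.Agent.Lib.Helper9.Ferrand24

set_option autoImplicit false
set_option linter.style.haveILetI false
set_option linter.unusedSectionVars false
universe u v w
open CategoryTheory CategoryTheory.Limits AlgebraicGeometry TopologicalSpace Opposite Topology

namespace Groth.Agent.Lib.Helper9.Ferrand

open Groth.Agent.Lib.Helper9.PushLoc Groth.Agent.Lib.Helper9.RingPB Groth.Agent.Lib.Helper9.OILoc
open Groth.Agent.Lib.Helper9.JointSurj

theorem appLE_bijective_of_isIso_app {A B : Scheme.{u}} (f : A ⟶ B) (U : B.Opens)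
    (h : IsIso (f.app U)) (V : A.Opens) (e : V = f ⁻¹ᵁ U) (hle : V ≤ f ⁻¹ᵁ U) :
    Function.Bijective (f.appLE U V hle).hom := by
  subst e
  rw [← Scheme.Hom.app_eq_appLE]
  exact (ConcreteCategory.isIso_iff_bijective (f.app U)).mp h

section cube
variable {X Y Z P S S' X' Y' Z' P' : Scheme.{u}}
  (i : Z ⟶ X) (j : Z ⟶ Y) (a : X ⟶ P) (b : Y ⟶ P)
  [IsClosedImmersion i] [IsAffineHom a] [IsAffineHom b]
  (s : P ⟶ S) (g : S' ⟶ S)
  (pP : P' ⟶ P) (s' : P' ⟶ S')
  (pX : X' ⟶ X) (a' : X' ⟶ P')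
  (pY : Y' ⟶ Y) (b' : Y' ⟶ P')
  (pZ : Z' ⟶ Z) (c' : Z' ⟶ P')
  (i' : Z' ⟶ X') (j' : Z' ⟶ Y')

/-- if `𝒪 → (f_T)_* 𝒪_{X_T}` is an isomorphism (over an open `U`), so is `𝒪 → (f'_T)_* 𝒪_{P_T}`
for the pinching `P` of `X` along a faithfully flat `Z → Y` -/
theorem isIso_app_of_pushout_baseChange [Flat ((i ≫ a) ≫ s)] [Flat j] [Surjective j]
    (hP : IsPushout i j a b) (hP' : IsPullback pP s' s g)
    (hX' : IsPullback pX a' a pP) (hY' : IsPullback pY b' b pP)
    (hZ' : IsPullback pZ c' (i ≫ a) pP)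
    (hi₁ : i' ≫ pX = pZ ≫ i) (hi₂ : i' ≫ a' = c') (hj₁ : j' ≫ pY = pZ ≫ j)
    (hj₂ : j' ≫ b' = c') (sX : X' ⟶ S') (hsX : a' ≫ s' = sX) (U : S'.Opens)
    (hXU : IsIso (sX.app U)) : IsIso (s'.app U) := by
  have hPT : IsPushout i' j' a' b' :=
    isPushout_baseChange_of_flat_source i j a b s g pP s' pX a' pY b' pZ c' i' j' hP hP' hX' hY'
      hZ' hi₁ hi₂ hj₁ hj₂
  subst hi₂
  have hZX : IsPullback pZ i' i pX := IsPullback.of_bot hZ' hi₁.symm hX'
  haveI : IsClosedImmersion i' := MorphismProperty.of_isPullback (P := @IsClosedImmersion) hZX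
    inferInstance
  haveI : IsAffineHom a' := MorphismProperty.of_isPullback (P := @IsAffineHom) hX' inferInstance
  haveI : IsAffineHom b' := MorphismProperty.of_isPullback (P := @IsAffineHom) hY' inferInstance
  have hZY : IsPullback pZ j' j pY := by
    have h1 : IsPullback pZ (j' ≫ b') (j ≫ b) pP := by
      rw [hj₂, ← hP.w]; exact hZ'
    exact IsPullback.of_bot h1 hj₁.symm hY'
  haveI : Flat j' := MorphismProperty.of_isPullback (P := @Flat) hZY inferInstance
  haveI : Surjective j' := MorphismProperty.of_isPullback (P := @Surjective) hZY inferInstance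
  have w' : i' ≫ a' = j' ≫ b' := hj₂.symm
  have JD := jointDense_of_isPushout i' j' a' b' hPT
  set W : P'.Opens := s' ⁻¹ᵁ U with hW
  have hle : a' ⁻¹ᵁ W ≤ sX ⁻¹ᵁ U := by
    rw [← hsX, Scheme.Hom.comp_preimage]
  have heq : a' ⁻¹ᵁ W = sX ⁻¹ᵁ U := by
    rw [← hsX, Scheme.Hom.comp_preimage]
  have hbij := appLE_bijective_of_isIso_app sX U hXU (a' ⁻¹ᵁ W) heq hle
  have hcomp : s'.app U ≫ a'.app W = sX.appLE U (a' ⁻¹ᵁ W) hle := by
    rw [Scheme.Hom.app_eq_appLE, Scheme.Hom.app_eq_appLE, Scheme.Hom.appLE_comp_appLE]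
    exact appLE_congr_hom hsX _ _ _ _
  rw [ConcreteCategory.isIso_iff_bijective]
  refine ⟨?_, fun σ => ?_⟩
  · intro t t' htt'
    apply hbij.1
    have := congrArg (fun x => (a'.app W).hom x) htt'
    rw [← hcomp]
    exact this
  · obtain ⟨t, ht⟩ := hbij.2 ((a'.app W).hom σ)
    refine ⟨t, ?_⟩
    have h1 : (a'.app W).hom ((s'.app U).hom t) = (a'.app W).hom σ := by
      rw [← ht, ← hcomp]; rfl
    rw [← sub_eq_zero]
    apply JD.inj W
    · exact (map_sub (a'.app W).hom _ _).trans (sub_eq_zero.mpr h1)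
    · -- the `Y'`-component dies because `j'` is faithfully flat
      have hinj := appLE_injective_of_flat_of_surjective j' (b' ⁻¹ᵁ W) (i' ⁻¹ᵁ (a' ⁻¹ᵁ W))
        (preimage_eq_of_comm w' W) (preimage_le w' W)
      apply hinj
      rw [map_zero]
      have h2 := sections_comm w' W ((s'.app U).hom t - σ)
      rw [← h2]
      have h3 : (a'.app W).hom ((s'.app U).hom t - σ) = 0 :=
        (map_sub (a'.app W).hom _ _).trans (sub_eq_zero.mpr h1)
      rw [h3, map_zero]

end cube


/-- the base change square attached to `Over.pullback` -/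
theorem isPullback_overPullback_map {S S' : Scheme.{u}} (g : S' ⟶ S) {A B : Over S} (φ : A ⟶ B) :
    IsPullback (pullback.fst A.hom g) ((Over.pullback g).map φ).left φ.left
      (pullback.fst B.hom g) := by
  have s : IsPullback (((Over.pullback g).map φ).left ≫ pullback.snd B.hom g)
      (pullback.fst A.hom g) g (φ.left ≫ B.hom) := by
    have h1 : ((Over.pullback g).map φ).left ≫ pullback.snd B.hom g = pullback.snd A.hom g := by
      simp only [Over.pullback_map_left]
      exact pullback.lift_snd _ _ _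
    rw [h1, Over.w φ]
    exact (IsPullback.of_hasPullback A.hom g).flip
  have p : ((Over.pullback g).map φ).left ≫ pullback.fst B.hom g =
      pullback.fst A.hom g ≫ φ.left := by
    simp only [Over.pullback_map_left]
    exact pullback.lift_fst _ _ _
  exact (IsPullback.of_right s p (IsPullback.of_hasPullback B.hom g).flip).flip

theorem overPullback_map_fst {S S' : Scheme.{u}} (g : S' ⟶ S) {A B : Over S} (φ : A ⟶ B) :
    ((Over.pullback g).map φ).left ≫ pullback.fst B.hom g = pullback.fst A.hom g ≫ φ.left := by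
  simp only [Over.pullback_map_left]
  exact pullback.lift_fst _ _ _

theorem overPullback_map_snd {S S' : Scheme.{u}} (g : S' ⟶ S) {A B : Over S} (φ : A ⟶ B) :
    ((Over.pullback g).map φ).left ≫ pullback.snd B.hom g = pullback.snd A.hom g := by
  simp only [Over.pullback_map_left]
  exact pullback.lift_snd _ _ _

end Groth.Agent.Lib.Helper9.Ferrand
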