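import Mathlib
import Groth.Agent.Lib.Helper9.Ferrand25

set_option autoImplicit false
set_option linter.style.haveILetI false
set_option linter.unusedSectionVars false
universe u v w
open CategoryTheory CategoryTheory.Limits AlgebraicGeometry TopologicalSpace Opposite Topology

namespace Groth.Agent.Lib.Helper9.Ferrand

open Groth.Agent.Lib.Helper9.PushLoc Groth.Agent.Lib.Helper9.RingPB Groth.Agent.Lib.Helper9.OILoc
open Groth.Agent.Lib.Helper9.JointSurj

section allOpens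
variable {Z Xs Ys P : Scheme.{u}} {c : Z ⟶ Xs} {d : Z ⟶ Ys} {a : Xs ⟶ P} {b : Ys ⟶ P}

theorem appLE_res' (w : c ≫ a = d ≫ b) {W' W : P.Opens} (hW : W' ≤ W) (s₂ : Γ(Ys, b ⁻¹ᵁ W)) :
    (d.appLE (b ⁻¹ᵁ W') (c ⁻¹ᵁ (a ⁻¹ᵁ W')) (preimage_le w W')).hom
      ((Ys.presheaf.map (homOfLE (b.preimage_mono hW)).op).hom s₂) =
    (Z.presheaf.map (homOfLE (c.preimage_mono (a.preimage_mono hW))).op).hom
      ((d.appLE (b ⁻¹ᵁ W) (c ⁻¹ᵁ (a ⁻¹ᵁ W)) (preimage_le w W)).hom s₂) := by
  have : Ys.presheaf.map (homOfLE (b.preimage_mono hW)).op ≫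
      d.appLE (b ⁻¹ᵁ W') (c ⁻¹ᵁ (a ⁻¹ᵁ W')) (preimage_le w W') =
      d.appLE (b ⁻¹ᵁ W) (c ⁻¹ᵁ (a ⁻¹ᵁ W)) (preimage_le w W) ≫
        Z.presheaf.map (homOfLE (c.preimage_mono (a.preimage_mono hW))).op := by
    rw [Scheme.Hom.map_appLE, Scheme.Hom.appLE_map]
  exact congrArg (fun φ => φ.hom s₂) this

/-- the pullback property of sections on all opens, from affine opens -/
theorem sheafPB_open (w : c ≫ a = d ≫ b) (JD : JointDense a b)
    (HB : ∀ W : P.Opens, IsAffineOpen W → SheafPB w W) (W : P.Opens) : SheafPB w W := by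
  refine ⟨JD.inj W, fun s₁ s₂ h => ?_⟩
  let I := {W' : P.Opens // IsAffineOpen W' ∧ W' ≤ W}
  let U : I → P.Opens := fun k => k.1
  have hcover : W ≤ iSup U := by
    intro x hx
    obtain ⟨W', hW', hxW', hW'W⟩ := exists_isAffineOpen_mem_and_subset hx
    exact Opens.mem_iSup.mpr ⟨⟨W', hW', hW'W⟩, hxW'⟩
  have loc : ∀ k : I, ∃ s : Γ(P, k.1), a.app k.1 s =
      (Xs.presheaf.map (homOfLE (a.preimage_mono k.2.2)).op).hom s₁ ∧
      b.app k.1 s = (Ys.presheaf.map (homOfLE (b.preimage_mono k.2.2)).op).hom s₂ := by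
    intro k
    apply (HB k.1 k.2.1).ex
    have e1 := res_app c (a.preimage_mono k.2.2) s₁
    rw [e1, appLE_res' w k.2.2 s₂]
    exact congrArg _ h
  choose sf hsf using loc
  have hcompat : TopCat.Presheaf.IsCompatible P.sheaf.1 U sf := by
    intro k l
    rw [← sub_eq_zero]
    have e₁ : U k ⊓ U l ≤ U k := inf_le_left
    have e₂ : U k ⊓ U l ≤ U l := inf_le_right
    change (P.presheaf.map (homOfLE e₁).op).hom (sf k) -
      (P.presheaf.map (homOfLE e₂).op).hom (sf l) = 0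
    apply JD.inj (U k ⊓ U l)
    · rw [map_sub, sub_eq_zero, res_app a e₁, res_app a e₂, (hsf k).1, (hsf l).1]
      change (Xs.presheaf.map _ ≫ Xs.presheaf.map _).hom s₁ =
        (Xs.presheaf.map _ ≫ Xs.presheaf.map _).hom s₁
      rw [← Xs.presheaf.map_comp, ← Xs.presheaf.map_comp]
      rfl
    · rw [map_sub, sub_eq_zero, res_app b e₁, res_app b e₂, (hsf k).2, (hsf l).2]
      change (Ys.presheaf.map _ ≫ Ys.presheaf.map _).hom s₂ =
        (Ys.presheaf.map _ ≫ Ys.presheaf.map _).hom s₂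
      rw [← Ys.presheaf.map_comp, ← Ys.presheaf.map_comp]
      rfl
  obtain ⟨s, hs, -⟩ := P.sheaf.existsUnique_gluing' U W (fun k => homOfLE k.2.2) hcover sf hcompat
  refine ⟨s, ?_, ?_⟩
  · -- check locally on the cover `a⁻¹ (U k)` of `a⁻¹ W`
    rw [← sub_eq_zero]
    apply eq_zero_of_locally
    intro x hx
    obtain ⟨k, hk⟩ := Opens.mem_iSup.mp (hcover hx)
    refine ⟨a ⁻¹ᵁ U k, a.preimage_mono k.2.2, hk, ?_⟩
    rw [map_sub, sub_eq_zero, ← res_app a k.2.2 s]
    have := hs k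
    change (P.presheaf.map (homOfLE k.2.2).op).hom s = sf k at this
    rw [this, (hsf k).1]
  · rw [← sub_eq_zero]
    apply eq_zero_of_locally
    intro x hx
    obtain ⟨k, hk⟩ := Opens.mem_iSup.mp (hcover hx)
    refine ⟨b ⁻¹ᵁ U k, b.preimage_mono k.2.2, hk, ?_⟩
    rw [map_sub, sub_eq_zero, ← res_app b k.2.2 s]
    have := hs k
    change (P.presheaf.map (homOfLE k.2.2).op).hom s = sf k at this
    rw [this, (hsf k).2]

end allOpens


section globalTop
variable {X Y Z : Scheme.{u}} (i : Z ⟶ X) (j : Z ⟶ Y) [IsClosedImmersion i]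
  (hcov : ∀ y : Y, ∃ p : AdPair i j, y ∈ p.V)

/-- the glued scheme is the pushout on underlying topological spaces -/
theorem topPushout_map : TopPushout i j (mapA i j hcov) (mapB i j hcov) := by
  have hinj : ∀ p : AdPair i j, Function.Injective (Ferrand.ι i j p) :=
    fun p => (Ferrand.ι i j p).isOpenEmbedding.injective
  refine ⟨js_map i j hcov, ?_, ?_, ?_, ?_⟩
  · intro x' x'' h
    obtain ⟨p, hp⟩ := exists_mem_U i j hcov x'
    have hx'' : x'' ∈ p.U := by
      have h0 : mapA i j hcov x'' ∈ (Ferrand.ι i j p).opensRange := by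
        rw [← h, mapA_apply i j hcov p ⟨x', hp⟩]; exact ⟨_, rfl⟩
      have h1 : x'' ∈ mapA i j hcov ⁻¹ᵁ (Ferrand.ι i j p).opensRange := h0
      rwa [mapA_preimage i j hcov p] at h1
    have e : p.a ⟨x', hp⟩ = p.a ⟨x'', hx''⟩ := by
      apply hinj p
      rw [← mapA_apply i j hcov p ⟨x', hp⟩, ← mapA_apply i j hcov p ⟨x'', hx''⟩]
      exact h
    rcases p.topPushout.left _ _ e with h' | ⟨z', z'', h1, h2, h3⟩
    · exact Or.inl (congrArg Subtype.val h')
    · refine Or.inr ⟨z'.1, z''.1, ?_, ?_, ?_⟩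
      · rw [← p.c_apply, h1]
      · rw [← p.c_apply, h2]
      · rw [← p.d_apply, ← p.d_apply, h3]
  · intro y' y'' h
    obtain ⟨p, hp⟩ := hcov y'
    have hy'' : y'' ∈ p.V := by
      have h0 : mapB i j hcov y'' ∈ (Ferrand.ι i j p).opensRange := by
        rw [← h, mapB_apply i j hcov p ⟨y', hp⟩]; exact ⟨_, rfl⟩
      have h1 : y'' ∈ mapB i j hcov ⁻¹ᵁ (Ferrand.ι i j p).opensRange := h0
      rwa [mapB_preimage i j hcov p] at h1
    have e : p.b ⟨y', hp⟩ = p.b ⟨y'', hy''⟩ := by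
      apply hinj p
      rw [← mapB_apply i j hcov p ⟨y', hp⟩, ← mapB_apply i j hcov p ⟨y'', hy''⟩]
      exact h
    exact Or.inl (congrArg Subtype.val (p.b_injective e))
  · intro x' y h
    obtain ⟨p, hp⟩ := hcov y
    have hx' : x' ∈ p.U := by
      have h0 : mapA i j hcov x' ∈ (Ferrand.ι i j p).opensRange := by
        rw [h, mapB_apply i j hcov p ⟨y, hp⟩]; exact ⟨_, rfl⟩
      have h1 : x' ∈ mapA i j hcov ⁻¹ᵁ (Ferrand.ι i j p).opensRange := h0
      rwa [mapA_preimage i j hcov p] at h1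
    have e : p.a ⟨x', hx'⟩ = p.b ⟨y, hp⟩ := by
      apply hinj p
      rw [← mapA_apply i j hcov p ⟨x', hx'⟩, ← mapB_apply i j hcov p ⟨y, hp⟩]
      exact h
    obtain ⟨z, h1, h2⟩ := p.topPushout.mix _ _ e
    refine ⟨z.1, ?_, ?_⟩
    · rw [← p.c_apply, h1]
    · rw [← p.d_apply, h2]
  · intro W h1 h2
    rw [isOpen_iff_forall_mem_open]
    intro x hx
    obtain ⟨p, xp, rfl⟩ := ι_jointly_surjective i j x
    have hopen : IsOpen ((Ferrand.ι i j p) ⁻¹' W) := by
      apply p.topPushout.top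
      · have : p.a ⁻¹' ((Ferrand.ι i j p) ⁻¹' W) =
            (Subtype.val : p.U → X) ⁻¹' (mapA i j hcov ⁻¹' W) := by
          refine Set.ext fun u => ?_
          change Ferrand.ι i j p (p.a u) ∈ W ↔ mapA i j hcov u.1 ∈ W
          rw [mapA_apply i j hcov p u]
        rw [this]
        exact h1.preimage continuous_subtype_val
      · have : p.b ⁻¹' ((Ferrand.ι i j p) ⁻¹' W) =
            (Subtype.val : p.V → Y) ⁻¹' (mapB i j hcov ⁻¹' W) := by
          refine Set.ext fun v => ?_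
          change Ferrand.ι i j p (p.b v) ∈ W ↔ mapB i j hcov v.1 ∈ W
          rw [mapB_apply i j hcov p v]
        rw [this]
        exact h2.preimage continuous_subtype_val
    refine ⟨(Ferrand.ι i j p) '' ((Ferrand.ι i j p) ⁻¹' W), Set.image_preimage_subset _ _,
      (Ferrand.ι i j p).isOpenEmbedding.isOpenMap _ hopen, ⟨xp, hx, rfl⟩⟩

end globalTop

section anyPushout
variable {X Y Z P : Scheme.{u}} (i : Z ⟶ X) (j : Z ⟶ Y) (a : X ⟶ P) (b : Y ⟶ P)
  [IsClosedImmersion i] (hcov : ∀ y : Y, ∃ p : AdPair i j, y ∈ p.V)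

include hcov in
theorem topPushout_of_isPushout (hP : IsPushout i j a b) : TopPushout i j a b := by
  refine TopPushout.of_iso (topPushout_map i j hcov) (Iso.refl _) (Iso.refl _) (Iso.refl _)
    (isoOfIsPushout i j hcov hP).symm ?_ ?_ ?_ ?_
  · simp
  · simp
  · rw [Iso.refl_hom, Category.id_comp, Iso.symm_hom, Iso.comp_inv_eq]
    exact (mapA_iso i j hcov hP).symm
  · rw [Iso.refl_hom, Category.id_comp, Iso.symm_hom, Iso.comp_inv_eq]
    exact (mapB_iso i j hcov hP).symm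

end anyPushout

end Groth.Agent.Lib.Helper9.Ferrand
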