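import Mathlib
import Groth.Agent.Lib.Helper9.Ferrand26

set_option autoImplicit false
set_option linter.style.haveILetI false
set_option linter.unusedSectionVars false
universe u v w
open CategoryTheory CategoryTheory.Limits AlgebraicGeometry TopologicalSpace Opposite Topology

namespace Groth.Agent.Lib.Helper9.Ferrand

open Groth.Agent.Lib.Helper9.PushLoc Groth.Agent.Lib.Helper9.RingPB Groth.Agent.Lib.Helper9.OILoc
open Groth.Agent.Lib.Helper9.JointSurj

section desc
variable {Z Xs Ys P : Scheme.{u}} {c : Z ⟶ Xs} {d : Z ⟶ Ys} {a : Xs ⟶ P} {b : Ys ⟶ P}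

/-- descent of continuous maps along a topological pushout -/
theorem TopPushout.exists_desc (H : TopPushout c d a b) {T : Type*} [TopologicalSpace T]
    (f : Xs → T) (g : Ys → T) (hf : Continuous f) (hg : Continuous g)
    (hfg : ∀ z, f (c z) = g (d z)) :
    ∃ h : P → T, Continuous h ∧ (∀ x, h (a x) = f x) ∧ (∀ y, h (b y) = g y) := by
  classical
  let h : P → T := fun x =>
    if hx : ∃ x', a x' = x then f hx.choose else
      g ((H.surj x).resolve_left hx).choose
  have ha : ∀ x', h (a x') = f x' := by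
    intro x'
    have hx : ∃ x'', a x'' = a x' := ⟨x', rfl⟩
    simp only [h, dif_pos hx]
    rcases H.left _ _ hx.choose_spec with e | ⟨z', z'', e1, e2, e3⟩
    · rw [e]
    · rw [← e1, ← e2, hfg, hfg, e3]
  have hb : ∀ y, h (b y) = g y := by
    intro y
    by_cases hx : ∃ x', a x' = b y
    · simp only [h, dif_pos hx]
      obtain ⟨z, e1, e2⟩ := H.mix _ _ hx.choose_spec
      rw [← e1, ← e2, hfg]
    · simp only [h, dif_neg hx]
      have hy := ((H.surj (b y)).resolve_left hx).choose_spec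
      rcases H.right _ _ hy with e | ⟨z', z'', e1, e2, e3⟩
      · rw [e]
      · rw [← e1, ← e2, ← hfg, ← hfg, e3]
  refine ⟨h, ?_, ha, hb⟩
  rw [continuous_def]
  intro V hV
  apply H.top
  · have : a ⁻¹' (h ⁻¹' V) = f ⁻¹' V := by
      ext x; simp only [Set.mem_preimage, ha]
    rw [this]; exact hV.preimage hf
  · have : b ⁻¹' (h ⁻¹' V) = g ⁻¹' V := by
      ext y; simp only [Set.mem_preimage, hb]
    rw [this]; exact hV.preimage hg

end desc


/-- a ring homomorphism into a fibre product of rings -/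
theorem IsPB.exists_ringHom {R A B C T₀ : Type u} [CommRing R] [CommRing A] [CommRing B]
    [CommRing C] [CommRing T₀] {π₁ : R →+* A} {π₂ : R →+* B} {q₁ : A →+* C} {q₂ : B →+* C}
    (H : IsPB π₁ π₂ q₁ q₂) (ρ₁ : T₀ →+* A) (ρ₂ : T₀ →+* B) (hρ : ∀ t, q₁ (ρ₁ t) = q₂ (ρ₂ t)) :
    ∃ φ : T₀ →+* R, (∀ t, π₁ (φ t) = ρ₁ t) ∧ (∀ t, π₂ (φ t) = ρ₂ t) := by
  choose f hf1 hf2 using fun t => H.ex (ρ₁ t) (ρ₂ t) (hρ t)
  refine ⟨{ toFun := f
            map_one' := H.uniq (by rw [hf1, map_one, map_one]) (by rw [hf2, map_one, map_one])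
            map_mul' := fun x y => H.uniq (by rw [hf1, map_mul, map_mul, hf1, hf1])
              (by rw [hf2, map_mul, map_mul, hf2, hf2])
            map_zero' := H.uniq (by rw [hf1, map_zero, map_zero]) (by rw [hf2, map_zero, map_zero])
            map_add' := fun x y => H.uniq (by rw [hf1, map_add, map_add, hf1, hf1])
              (by rw [hf2, map_add, map_add, hf2, hf2]) }, hf1, hf2⟩

theorem map_endo_apply {X : Type*} [TopologicalSpace X] (F : (Opens X)ᵒᵖ ⥤ CommRingCat.{u})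
    {U : (Opens X)ᵒᵖ} (f : U ⟶ U) (x : F.obj U) : (F.map f).hom x = x := by
  rw [Subsingleton.elim f (𝟙 U), F.map_id]; rfl

section sheafed
variable {Z Xs Ys P : Scheme.{u}} {c : Z ⟶ Xs} {d : Z ⟶ Ys} {a : Xs ⟶ P} {b : Ys ⟶ P}

theorem exists_desc_FF (w : c ≫ a = d ≫ b) (Htop : TopPushout c d a b)
    (HS : ∀ W : P.Opens, SheafPB w W) (T : SheafedSpace CommRingCat.{u})
    (u : FF.obj Xs ⟶ T) (v : FF.obj Ys ⟶ T) (huv : FF.map c ≫ u = FF.map d ≫ v) :
    ∃ h : FF.obj P ⟶ T, FF.map a ≫ h = u ∧ FF.map b ≫ h = v := by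
  obtain ⟨⟨ub, uc⟩⟩ := u
  obtain ⟨⟨vb, vc⟩⟩ := v
  have hfg : ∀ z, ub (c z) = vb (d z) := fun z => congrArg (fun θ => θ.hom.base z) huv
  obtain ⟨h₀, hcont, h₀a, h₀b⟩ := Ferrand.TopPushout.exists_desc Htop (fun x => ub x)
    (fun y => vb y) ub.hom.continuous vb.hom.continuous hfg
  obtain ⟨hb, e_a, e_b⟩ : ∃ hb : (FF.obj P).carrier ⟶ T.carrier,
      (FF.map a).hom.base ≫ hb = ub ∧ (FF.map b).hom.base ≫ hb = vb :=
    ⟨TopCat.ofHom ⟨h₀, hcont⟩, by ext x; exact h₀a x, by ext y; exact h₀b y⟩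
  subst e_a
  subst e_b
  let Wf : Opens T → P.Opens := fun V => (Opens.map hb).obj V
  have hcomp : ∀ (V : Opens T) (t : T.presheaf.obj (op V)),
      (c.app (a ⁻¹ᵁ Wf V)).hom ((uc.app (op V)).hom t) =
      (d.appLE (b ⁻¹ᵁ Wf V) (c ⁻¹ᵁ (a ⁻¹ᵁ Wf V)) (preimage_le w (Wf V))).hom
        ((vc.app (op V)).hom t) := by
    intro V t
    have h1 := SheafedSpace.congr_hom_app huv (op V)
    have h2 := congrArg (fun θ => θ.hom t) h1
    refine h2.trans ?_
    change (Z.presheaf.map _).hom ((d.app (b ⁻¹ᵁ Wf V)).hom ((vc.app (op V)).hom t)) =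
      (Z.presheaf.map (homOfLE (preimage_le w (Wf V))).op).hom
        ((d.app (b ⁻¹ᵁ Wf V)).hom ((vc.app (op V)).hom t))
    rfl
  have HPB : ∀ V : Opens T, IsPB (a.app (Wf V)).hom (b.app (Wf V)).hom
      (c.app (a ⁻¹ᵁ Wf V)).hom
      (d.appLE (b ⁻¹ᵁ Wf V) (c ⁻¹ᵁ (a ⁻¹ᵁ Wf V)) (preimage_le w (Wf V))).hom :=
    fun V => (sheafPB_iff_isPB w (Wf V)).mp (HS (Wf V))
  have hφ : ∀ V : Opens T, ∃ φ : T.presheaf.obj (op V) →+* Γ(P, Wf V),
      (∀ t, (a.app (Wf V)).hom (φ t) = (uc.app (op V)).hom t) ∧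
      (∀ t, (b.app (Wf V)).hom (φ t) = (vc.app (op V)).hom t) := fun V =>
    IsPB.exists_ringHom (HPB V) (uc.app (op V)).hom (vc.app (op V)).hom (hcomp V)
  choose φ hφ1 hφ2 using hφ
  let ch : T.presheaf ⟶ (TopCat.Presheaf.pushforward CommRingCat hb).obj (FF.obj P).presheaf :=
    { app := fun V => CommRingCat.ofHom (φ V.unop)
      naturality := fun V V' f => by
        ext t
        apply (HPB V'.unop).uniq
        · have n1 := congrArg (fun θ => θ.hom t) (uc.naturality f)
          have n2 := congrArg (fun θ => θ.hom (φ V.unop t))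
            (a.naturality ((Opens.map hb).op.map f))
          refine (hφ1 _ _).trans (n1.trans (Eq.trans ?_ n2.symm))
          exact congrArg _ (hφ1 _ _).symm
        · have n1 := congrArg (fun θ => θ.hom t) (vc.naturality f)
          have n2 := congrArg (fun θ => θ.hom (φ V.unop t))
            (b.naturality ((Opens.map hb).op.map f))
          refine (hφ2 _ _).trans (n1.trans (Eq.trans ?_ n2.symm))
          exact congrArg _ (hφ2 _ _).symm }
  refine ⟨⟨⟨hb, ch⟩⟩, ?_, ?_⟩
  · refine SheafedSpace.ext _ _ rfl ?_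
    ext V t
    refine Eq.trans ?_ (hφ1 V t)
    change (Xs.presheaf.map _).hom ((a.app (Wf V)).hom (φ V t)) = _
    exact map_endo_apply Xs.presheaf _ _
  · refine SheafedSpace.ext _ _ rfl ?_
    ext V t
    refine Eq.trans ?_ (hφ2 V t)
    change (Ys.presheaf.map _).hom ((b.app (Wf V)).hom (φ V t)) = _
    exact map_endo_apply Ys.presheaf _ _

/-- a topological pushout whose structure sheaf is the fibre product on every open is a pushout
of ringed spaces -/
theorem isPushout_FF (w : c ≫ a = d ≫ b) (Htop : TopPushout c d a b)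
    (HS : ∀ W : P.Opens, SheafPB w W) :
    IsPushout (FF.map c) (FF.map d) (FF.map a) (FF.map b) := by
  have wF : FF.map c ≫ FF.map a = FF.map d ≫ FF.map b := by
    rw [← FF.map_comp, ← FF.map_comp, w]
  have JD : JointDense a b := ⟨Htop.surj, fun W => (HS W).inj⟩
  refine ⟨⟨wF⟩, ⟨PushoutCocone.IsColimit.mk wF
    (fun s => (exists_desc_FF w Htop HS s.pt s.inl s.inr s.condition).choose)
    (fun s => (exists_desc_FF w Htop HS s.pt s.inl s.inr s.condition).choose_spec.1)
    (fun s => (exists_desc_FF w Htop HS s.pt s.inl s.inr s.condition).choose_spec.2) ?_⟩⟩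
  intro s m h1 h2
  exact jointly_epi JD m _
    (h1.trans (exists_desc_FF w Htop HS s.pt s.inl s.inr s.condition).choose_spec.1.symm)
    (h2.trans (exists_desc_FF w Htop HS s.pt s.inl s.inr s.condition).choose_spec.2.symm)

end sheafed

section affine
variable {X Y Z P : Scheme.{u}} (i : Z ⟶ X) (j : Z ⟶ Y) (a : X ⟶ P) (b : Y ⟶ P)
  [IsClosedImmersion i] [IsAffineHom a] [IsAffineHom b]

/-- a pushout of schemes (closed immersion, affine legs) is a pushout of ringed spaces -/
theorem isPushout_FF_of_isPushout (hP : IsPushout i j a b) :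
    IsPushout (FF.map i) (FF.map j) (FF.map a) (FF.map b) :=
  isPushout_FF hP.w (topPushout_of_isPushout i j a b (hcov_of_affine i j a b hP.w) hP)
    (sheafPB_open hP.w (jointDense_of_isPushout i j a b hP)
      (fun W hW => sheafPB_of_isPushout i j a b hP.w hP W hW))

end affine

end Groth.Agent.Lib.Helper9.Ferrand
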