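import Mathlib
import Groth.Agent.Lib.Helper9.Ferrand27

set_option autoImplicit false
set_option linter.style.haveILetI false
set_option linter.unusedSectionVars false
universe u v w
open CategoryTheory CategoryTheory.Limits AlgebraicGeometry TopologicalSpace Opposite Topology

namespace Groth.Agent.Lib.Helper9.Ferrand

open Groth.Agent.Lib.Helper9.PushLoc Groth.Agent.Lib.Helper9.RingPB Groth.Agent.Lib.Helper9.OILoc
open Groth.Agent.Lib.Helper9.JointSurj

section cube
variable {X Y Z P S S' X' Y' Z' P' : Scheme.{u}}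
  (i : Z ⟶ X) (j : Z ⟶ Y) (a : X ⟶ P) (b : Y ⟶ P)
  [IsClosedImmersion i] [IsAffineHom a] [IsAffineHom b]
  (s : P ⟶ S) (g : S' ⟶ S)
  (pP : P' ⟶ P) (s' : P' ⟶ S')
  (pX : X' ⟶ X) (a' : X' ⟶ P')
  (pY : Y' ⟶ Y) (b' : Y' ⟶ P')
  (pZ : Z' ⟶ Z) (c' : Z' ⟶ P')
  (i' : Z' ⟶ X') (j' : Z' ⟶ Y')

/-- the base change of a pinching along an arbitrary `S' → S` is again a pushout of ringed
spaces, when the glued-along scheme is flat over the base -/
theorem isPushout_FF_baseChange_of_flat_source [Flat ((i ≫ a) ≫ s)]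
    (hP : IsPushout i j a b) (hP' : IsPullback pP s' s g)
    (hX' : IsPullback pX a' a pP) (hY' : IsPullback pY b' b pP)
    (hZ' : IsPullback pZ c' (i ≫ a) pP)
    (hi₁ : i' ≫ pX = pZ ≫ i) (hi₂ : i' ≫ a' = c') (hj₁ : j' ≫ pY = pZ ≫ j)
    (hj₂ : j' ≫ b' = c') :
    IsPushout (FF.map i') (FF.map j') (FF.map a') (FF.map b') := by
  have hPT : IsPushout i' j' a' b' :=
    isPushout_baseChange_of_flat_source i j a b s g pP s' pX a' pY b' pZ c' i' j' hP hP' hX' hY'
      hZ' hi₁ hi₂ hj₁ hj₂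
  subst hi₂
  have hZX : IsPullback pZ i' i pX := IsPullback.of_bot hZ' hi₁.symm hX'
  haveI : IsClosedImmersion i' := MorphismProperty.of_isPullback (P := @IsClosedImmersion) hZX
    inferInstance
  haveI : IsAffineHom a' := MorphismProperty.of_isPullback (P := @IsAffineHom) hX' inferInstance
  haveI : IsAffineHom b' := MorphismProperty.of_isPullback (P := @IsAffineHom) hY' inferInstance
  exact isPushout_FF_of_isPushout i' j' a' b' hPT

end cube

end Groth.Agent.Lib.Helper9.Ferrand
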