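import Mathlib.RingTheory.AlgebraicIndependent.Adjoin
import Mathlib.RingTheory.AlgebraicIndependent.TranscendenceBasis
import Mathlib.FieldTheory.IsAlgClosed.AlgebraicClosure
import Mathlib.FieldTheory.IsAlgClosed.Basic

set_option autoImplicit false
set_option linter.style.haveILetI false
set_option linter.unusedSectionVars false
universe u v w

namespace Groth.Agent.Lib.Helper9.FieldAmalg

open MvPolynomial

/-- Any family of field extensions of `κ` embeds into a common extension. -/
theorem exists_common_extension (κ : Type u) [Field κ] {I : Type u} (L : I → Type u)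
    [∀ i, Field (L i)] [∀ i, Algebra κ (L i)] :
    ∃ (K : Type u) (_ : Field K) (_ : Algebra κ K), ∀ i, Nonempty (L i →ₐ[κ] K) := by
  let V : Type u := Σ i, L i
  let F : Type u := FractionRing (MvPolynomial V κ)
  let K : Type u := AlgebraicClosure F
  refine ⟨K, inferInstance, inferInstance, fun i => ?_⟩
  obtain ⟨s, hs⟩ := exists_isTranscendenceBasis κ (L i)
  let E := IntermediateField.adjoin κ (Set.range ((↑) : s → L i))
  let e : FractionRing (MvPolynomial s κ) ≃ₐ[κ] E := hs.1.aevalEquivField
  let r : MvPolynomial s κ →ₐ[κ] MvPolynomial V κ := rename (fun b : s => (⟨i, b.1⟩ : V))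
  have hr : Function.Injective r := by
    apply rename_injective
    intro a b hab
    simp only [Sigma.mk.injEq, heq_eq_eq, true_and, V] at hab
    exact Subtype.ext hab
  let g : MvPolynomial s κ →ₐ[κ] F := (IsScalarTower.toAlgHom κ (MvPolynomial V κ) F).comp r
  have hg : Function.Injective g := (IsFractionRing.injective (MvPolynomial V κ) F).comp hr
  let ψ : FractionRing (MvPolynomial s κ) →ₐ[κ] F := IsFractionRing.liftAlgHom hg
  let φ₀ : E →ₐ[κ] K := (IsScalarTower.toAlgHom κ F K).comp (ψ.comp e.symm.toAlgHom)
  letI : Algebra E K := φ₀.toRingHom.toAlgebra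
  haveI : IsScalarTower κ E K := IsScalarTower.of_algebraMap_eq fun x => by
    change algebraMap κ K x = φ₀ (algebraMap κ E x)
    rw [φ₀.commutes]
  haveI : Algebra.IsAlgebraic E (L i) := hs.isAlgebraic_field
  exact ⟨(IsAlgClosed.lift (R := E) (S := L i) (M := K)).restrictScalars κ⟩

/-- Ring hom version. -/
theorem exists_common_extension' (κ : Type u) [Field κ] {I : Type u} (L : I → Type u)
    [∀ i, Field (L i)] (φ : ∀ i, κ →+* L i) :
    ∃ (K : Type u) (_ : Field K) (β : κ →+* K) (α : ∀ i, L i →+* K),
      ∀ i, (α i).comp (φ i) = β := by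
  letI : ∀ i, Algebra κ (L i) := fun i => (φ i).toAlgebra
  obtain ⟨K, _, _, hK⟩ := exists_common_extension κ L
  refine ⟨K, inferInstance, algebraMap κ K, fun i => (hK i).some.toRingHom, fun i => ?_⟩
  ext x
  exact (hK i).some.commutes x

end Groth.Agent.Lib.Helper9.FieldAmalg
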