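import Groth.Agent.Lib.Helper9.JointSurjRing
import Mathlib.Algebra.Category.Ring.FilteredColimits
import Mathlib.CategoryTheory.Limits.Preserves.Over

set_option autoImplicit false
universe u
open CategoryTheory AlgebraicGeometry Limits

namespace Groth.Agent.Lib.Helper9.UnivHomeoRing

section cat
variable {A : CommRingCat.{u}} {J : Type u} [SmallCategory J] [IsFiltered J]
  (F : J ⥤ Under A) (c : Cocone F) (hc : IsColimit c)

include hc in
theorem under_jointly_surjective (b : c.pt.right) :
    ∃ j, ∃ x : (F.obj j).right, (c.ι.app j).right.hom x = b := by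
  have hc' : IsColimit ((Under.forget A ⋙ forget CommRingCat).mapCocone c) :=
    isColimitOfPreserves _ hc
  obtain ⟨j, x, hx⟩ := Types.jointly_surjective_of_isColimit hc' b
  exact ⟨j, x, hx⟩

include hc in
theorem under_eq_zero (j : J) (x : (F.obj j).right) (hx : (c.ι.app j).right.hom x = 0) :
    ∃ k, ∃ f : j ⟶ k, (F.map f).right.hom x = 0 := by
  have hc' : IsColimit ((Under.forget A ⋙ forget CommRingCat).mapCocone c) :=
    isColimitOfPreserves _ hc
  have h1 : ((Under.forget A ⋙ forget CommRingCat).mapCocone c).ι.app j x =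
      ((Under.forget A ⋙ forget CommRingCat).mapCocone c).ι.app j (0 : (F.obj j).right) := by
    change (c.ι.app j).right.hom x = (c.ι.app j).right.hom 0
    rw [hx, map_zero]
  obtain ⟨k, f, g, hfg⟩ := (Types.FilteredColimit.isColimit_eq_iff _ hc').mp h1
  refine ⟨k, f, ?_⟩
  change (F.map f).right.hom x = (F.map g).right.hom 0 at hfg
  rw [hfg, map_zero]

end cat

end Groth.Agent.Lib.Helper9.UnivHomeoRing
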