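import Mathlib.AlgebraicGeometry.Morphisms.SchemeTheoreticallyDominant
import Mathlib.AlgebraicGeometry.Morphisms.ClosedImmersion
import Mathlib.AlgebraicGeometry.PullbackCarrier
import Mathlib.Topology.Spectral.ConstructibleTopology
import Mathlib.Topology.Constructible

set_option autoImplicit false
set_option linter.style.haveILetI false
set_option linter.unusedSectionVars false
universe u v w
open CategoryTheory CategoryTheory.Limits AlgebraicGeometry TopologicalSpace Opposite Topology

namespace Groth.Agent.Lib.Helper9.FlatDom

section top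

variable {X : Type*} [TopologicalSpace X]

lemma isClopen_constructibleTopology [CompactSpace X] {s : Set X} (hs : IsConstructible s) :
    IsOpen[constructibleTopology X] s ∧ IsClosed[constructibleTopology X] s := by
  induction hs using IsConstructible.empty_union_induction with
  | open_retrocompact U hUopen hUcomp =>
    refine ⟨hUcomp.isCompact.isOpen_constructibleTopology_of_isOpen hUopen, ?_⟩
    rw [← @isOpen_compl_iff X U (constructibleTopology X)]
    exact IsCompact.isOpen_constructibleTopology_of_isClosed
      (by rw [compl_compl]; exact hUcomp.isCompact) hUopen.isClosed_compl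
  | union s hs t ht hs' ht' =>
    exact ⟨@IsOpen.union X s t (constructibleTopology X) hs'.1 ht'.1,
      @IsClosed.union X s t (constructibleTopology X) hs'.2 ht'.2⟩
  | compl s hs hs' =>
    exact ⟨(@isOpen_compl_iff X s (constructibleTopology X)).mpr hs'.2,
      (@isClosed_compl_iff X (constructibleTopology X) s).mpr hs'.1⟩

/-- In a spectral space constructible sets are compact. -/
theorem isCompact_of_isConstructible [CompactSpace X] [QuasiSober X] [PrespectralSpace X]
    [QuasiSeparatedSpace X] {s : Set X} (hs : IsConstructible s) : IsCompact s := by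
  have hcl := (isClopen_constructibleTopology hs).2
  let W := WithConstructibleTopology X
  let e : W → X := WithTopology.ofTopology
  have he : Continuous e := by
    rw [continuous_def]
    intro U hU
    rw [WithTopology.isOpen_iff]
    change IsOpen[constructibleTopology X] U
    obtain ⟨S, hS, rfl⟩ := PrespectralSpace.isTopologicalBasis.open_eq_sUnion hU
    exact @isOpen_sUnion X (constructibleTopology X) S fun t ht =>
      (hS ht).2.isOpen_constructibleTopology_of_isOpen (hS ht).1
  have hs' : IsClosed (e ⁻¹' s) := by
    rw [WithTopology.isClosed_iff]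
    exact hcl
  have := hs'.isCompact.image he
  rwa [Set.image_preimage_eq _ (WithTopology.ofTopology_surjective _)] at this

end top

section sch

variable {X Y : Scheme.{u}}

theorem isSchemeTheoreticallyDominant_toImage (f : X ⟶ Y) [QuasiCompact f] :
    IsSchemeTheoreticallyDominant f.toImage := by
  rw [isSchemeTheoreticallyDominant_iff]
  refine Scheme.IdealSheafData.ext_of_iSup_eq_top
    (fun U : Y.affineOpens => ⟨f.imageι ⁻¹ᵁ U.1, U.2.preimage f.imageι⟩) ?_ ?_
  · change ⨆ U : Y.affineOpens, f.imageι ⁻¹ᵁ U.1 = ⊤
    rw [← Scheme.Hom.preimage_iSup, iSup_affineOpens_eq_top, Scheme.Hom.preimage_top]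
  · intro U
    rw [Scheme.Hom.ker_apply]
    simp only [Scheme.IdealSheafData.ideal_bot, Pi.bot_apply]
    exact (RingHom.injective_iff_ker_eq_bot _).mp (f.toImage_app_injective U)

/-- Flat base change of the closure of the image of a quasi-compact morphism. -/
theorem preimage_closure_range_subset {X' Y' : Scheme.{u}} {f : X ⟶ Y} {g' : Y' ⟶ Y}
    {f' : X' ⟶ Y'} {p : X' ⟶ X} (H : IsPullback p f' f g') [QuasiCompact f] [Flat g'] :
    g' ⁻¹' closure (Set.range f) ⊆ closure (Set.range f') := by
  let ι := f.imageι
  let τ := f.toImage
  have hτι : τ ≫ ι = f := f.toImage_imageι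
  let ι' : pullback ι g' ⟶ Y' := pullback.snd ι g'
  let q : pullback ι g' ⟶ f.image := pullback.fst ι g'
  let τ' : X' ⟶ pullback ι g' := pullback.lift (p ≫ τ) f' (by rw [Category.assoc, hτι]; exact H.w)
  have hτ'ι' : τ' ≫ ι' = f' := pullback.lift_snd _ _ _
  have hτ'q : τ' ≫ q = p ≫ τ := pullback.lift_fst _ _ _
  have Hleft : IsPullback p τ' τ q := by
    refine IsPullback.of_bot ?_ hτ'q.symm (IsPullback.of_hasPullback ι g')
    rw [hτ'ι', hτι]
    exact H
  haveI : IsSchemeTheoreticallyDominant τ := isSchemeTheoreticallyDominant_toImage f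
  haveI : Flat q := inferInstance
  haveI : IsSchemeTheoreticallyDominant τ' := IsSchemeTheoreticallyDominant.of_isPullback Hleft
  haveI : QuasiCompact τ' := MorphismProperty.of_isPullback Hleft (inferInstance : QuasiCompact τ)
  haveI : IsDominant τ' := inferInstance
  intro y' hy'
  have h1 : g' y' ∈ Set.range ι := by
    rw [Scheme.IdealSheafData.range_subschemeι, Scheme.Hom.support_ker]
    exact hy'
  obtain ⟨z, hz⟩ := h1
  obtain ⟨z', -, hz'⟩ := Scheme.Pullback.exists_preimage_pullback z y' hz
  have h2 : z' ∈ closure (Set.range τ') := by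
    rw [τ'.denseRange.closure_eq]; trivial
  have h3 := image_closure_subset_closure_image ι'.continuous (Set.mem_image_of_mem ι' h2)
  rw [← Set.range_comp] at h3
  have h4 : (⇑ι' ∘ ⇑τ') = ⇑f' := by
    rw [← hτ'ι']; rfl
  rw [h4, hz'] at h3
  exact h3

end sch

end Groth.Agent.Lib.Helper9.FlatDom
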