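import Groth.Agent.Lib.Helper9.FlatDom
import Mathlib.AlgebraicGeometry.Morphisms.QuasiSeparated
import Mathlib.AlgebraicGeometry.Morphisms.QuasiCompact

set_option autoImplicit false
set_option linter.style.haveILetI false
set_option linter.unusedSectionVars false
universe u v w
open CategoryTheory CategoryTheory.Limits AlgebraicGeometry TopologicalSpace Opposite Topology

namespace Groth.Agent.Lib.Helper9.FlatDom

/-- Constructible subsets of a scheme quasi-compact and quasi-separated over a quasi-compact base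
are quasi-compact. -/
theorem isCompact_of_isConstructible_of_qcqs {Y₀ B : Scheme.{u}} (g₀ : Y₀ ⟶ B) [CompactSpace B]
    [QuasiCompact g₀] [QuasiSeparated g₀] {Z : Set Y₀} (hZ : IsConstructible Z) : IsCompact Z := by
  obtain ⟨t, ht⟩ := (isCompact_univ (X := B)).elim_finite_subcover
    (fun U : B.affineOpens => (U.1 : Set B)) (fun U => U.1.isOpen) (by
      intro x _
      obtain ⟨_, ⟨V, hV, rfl⟩, hxV, -⟩ :=
        B.isBasis_affineOpens.exists_subset_of_mem_open (Set.mem_univ x) isOpen_univ
      exact Set.mem_iUnion.2 ⟨⟨V, hV⟩, hxV⟩)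
  have hZeq : Z = ⋃ U ∈ t, (Z ∩ g₀ ⁻¹' (U.1 : Set B)) := by
    ext y
    simp only [Set.mem_iUnion, Set.mem_inter_iff, Set.mem_preimage, exists_and_left, exists_prop]
    constructor
    · intro hy
      obtain ⟨U, hU, hyU⟩ := Set.mem_iUnion₂.mp (ht (Set.mem_univ (g₀ y)))
      exact ⟨hy, U, hU, hyU⟩
    · exact fun h => h.1
  rw [hZeq]
  refine t.finite_toSet.isCompact_biUnion fun U _ => ?_
  let V : Y₀.Opens := g₀ ⁻¹ᵁ U.1
  haveI : CompactSpace (V : Scheme.{u}) := isCompact_iff_compactSpace.mp
    (QuasiCompact.isCompact_preimage (f := g₀) _ U.1.2 U.2.isCompact)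
  haveI : IsAffine (U.1 : Scheme.{u}) := U.2
  haveI : QuasiSeparatedSpace (V : Scheme.{u}) := quasiSeparatedSpace_of_quasiSeparated (g₀ ∣_ U.1)
  have hc : IsConstructible (V.ι ⁻¹' Z) := hZ.preimage_of_isOpenEmbedding V.ι.isOpenEmbedding
  have := (isCompact_of_isConstructible hc).image V.ι.continuous
  convert this using 1
  rw [Set.image_preimage_eq_inter_range, Scheme.Opens.range_ι]
  rfl

end Groth.Agent.Lib.Helper9.FlatDom
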