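import Groth.Agent.Lib.Helper22.LimBaseChange
set_option autoImplicit false
set_option linter.style.haveILetI false
set_option linter.unusedSectionVars false
universe u v w
open CategoryTheory CategoryTheory.Limits AlgebraicGeometry TopologicalSpace Opposite

namespace Groth.Agent.Lib.Helper9.OpenLim

open Groth.Agent.Lib.Helper22

variable {I : Type u} [SmallCategory I] [IsCofiltered I] (D : I ⥤ Scheme.{u})
  (c : Cone D) (hc : IsLimit c) [∀ (i j : I) (f : i ⟶ j), IsAffineHom (D.map f)]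

section stage

variable (i₀ : I) {X₀ Y₀ : Scheme.{u}} (f₀ : X₀ ⟶ Y₀) (g₀ : Y₀ ⟶ D.obj i₀) (K : Over i₀)

/-- the stage `Y_K` -/
noncomputable abbrev YK : Scheme.{u} := pullback g₀ (D.map K.hom)

/-- the stage `X_K` -/
noncomputable abbrev XK : Scheme.{u} := pullback (D.map K.hom) (f₀ ≫ g₀)

/-- the stage morphism `f_K : X_K ⟶ Y_K` -/
noncomputable def fK : XK D i₀ f₀ g₀ K ⟶ YK D i₀ g₀ K :=
  pullback.lift (pullback.snd _ _ ≫ f₀) (pullback.fst _ _)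
    (by rw [Category.assoc, ← pullback.condition])

lemma fK_fst : fK D i₀ f₀ g₀ K ≫ pullback.fst _ _ = pullback.snd _ _ ≫ f₀ :=
  pullback.lift_fst _ _ _

lemma fK_snd : fK D i₀ f₀ g₀ K ≫ pullback.snd _ _ = pullback.fst _ _ :=
  pullback.lift_snd _ _ _

lemma isPullback_fK :
    IsPullback (pullback.snd (D.map K.hom) (f₀ ≫ g₀)) (fK D i₀ f₀ g₀ K) f₀
      (pullback.fst g₀ (D.map K.hom)) := by
  refine IsPullback.of_bot ?_ (fK_fst D i₀ f₀ g₀ K).symm (IsPullback.of_hasPullback g₀ (D.map K.hom))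
  rw [fK_snd]
  exact (IsPullback.of_hasPullback (D.map K.hom) (f₀ ≫ g₀)).flip

/-- the projection from the limit to a stage, with clean types -/
noncomputable def sK (a : X₀ ⟶ D.obj i₀) :
    pullback (c.π.app i₀) a ⟶ pullback (D.map K.hom) a := (bcCone D c i₀ a).π.app K

lemma sK_fst (a : X₀ ⟶ D.obj i₀) : sK D c i₀ K a ≫ pullback.fst (D.map K.hom) a =
    pullback.fst (c.π.app i₀) a ≫ c.π.app K.left := bcCone_π_fst D c i₀ a K

lemma sK_snd (a : X₀ ⟶ D.obj i₀) : sK D c i₀ K a ≫ pullback.snd (D.map K.hom) a =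
    pullback.snd (c.π.app i₀) a := bcCone_π_snd D c i₀ a K

end stage

include hc in
theorem main (i₀ : I) {X₀ Y₀ : Scheme.{u}} (f₀ : X₀ ⟶ Y₀) (g₀ : Y₀ ⟶ D.obj i₀)
    {X Y : Scheme.{u}} (f : X ⟶ Y) (g : Y ⟶ c.pt) (qY : Y ⟶ Y₀) (qX : X ⟶ X₀)
    (hY : IsPullback qY g g₀ (c.π.app i₀)) (hX : IsPullback qX f f₀ qY)
    (h : ∃ (i : I) (φ : i ⟶ i₀), ∀ (j : I) (ψ : j ⟶ i) (Xj Yj : Scheme.{u}) (fj : Xj ⟶ Yj)
      (gj : Yj ⟶ D.obj j) (pY : Yj ⟶ Y₀) (pX : Xj ⟶ X₀),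
      IsPullback pY gj g₀ (D.map (ψ ≫ φ)) → IsPullback pX fj f₀ pY → IsOpenMap ⇑fj) :
    IsOpenMap ⇑f := by
  obtain ⟨i, φ, h⟩ := h
  let a : X₀ ⟶ D.obj i₀ := f₀ ≫ g₀
  let E : Over i₀ ⥤ Scheme.{u} := bcDiag D i₀ a
  let e : Cone E := bcCone D c i₀ a
  let he : IsLimit e := bcIsLimit D hc i₀ a
  have hE : ∀ {j k : Over i₀} (t : j ⟶ k), IsAffineHom (E.map t) := fun t => inferInstance
  have hP : IsPullback (f ≫ g) qX (c.π.app i₀) a := (hX.paste_vert hY).flip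
  let ι : X ≅ pullback (c.π.app i₀) a := hP.isoPullback
  have hι1 : ι.hom ≫ pullback.fst (c.π.app i₀) a = f ≫ g := hP.isoPullback_hom_fst
  have hι2 : ι.hom ≫ pullback.snd (c.π.app i₀) a = qX := hP.isoPullback_hom_snd
  let eX : Cone E := e.extend ι.hom
  let heX : IsLimit eX := IsLimit.ofIsoLimit he (Cone.extendIso e ι.symm)
  have hB := isBasis_preimage_isAffineOpen E eX heX
  -- the projections
  let πX : ∀ K : Over i₀, X ⟶ XK D i₀ f₀ g₀ K := fun K => ι.hom ≫ sK D c i₀ K a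
  have hπX1 : ∀ K : Over i₀, πX K ≫ pullback.fst _ _ = f ≫ g ≫ c.π.app K.left := by
    intro K
    change (ι.hom ≫ sK D c i₀ K a) ≫ pullback.fst (D.map K.hom) a = _
    rw [Category.assoc, sK_fst, reassoc_of% hι1]
  have hπX2 : ∀ K : Over i₀, πX K ≫ pullback.snd _ _ = qX := by
    intro K
    change (ι.hom ≫ sK D c i₀ K a) ≫ pullback.snd (D.map K.hom) a = _
    rw [Category.assoc, sK_snd, hι2]
  let ρ : ∀ K : Over i₀, Y ⟶ YK D i₀ g₀ K := fun K =>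
    pullback.lift qY (g ≫ c.π.app K.left) (by rw [hY.w, Category.assoc, c.w])
  have hρ1 : ∀ K : Over i₀, ρ K ≫ pullback.fst _ _ = qY := fun K => pullback.lift_fst _ _ _
  have hρ2 : ∀ K : Over i₀, ρ K ≫ pullback.snd _ _ = g ≫ c.π.app K.left :=
    fun K => pullback.lift_snd _ _ _
  have hC : ∀ K : Over i₀, IsPullback (πX K) f (fK D i₀ f₀ g₀ K) (ρ K) := by
    intro K
    refine IsPullback.of_right ?_ ?_ (isPullback_fK D i₀ f₀ g₀ K)
    · rw [hπX2, hρ1]; exact hX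
    · apply pullback.hom_ext
      · rw [Category.assoc, fK_fst, reassoc_of% hπX2, Category.assoc, hρ1, hX.w]
      · rw [Category.assoc, fK_snd, hπX1, Category.assoc, hρ2]
  -- openness
  intro U hU
  rw [isOpen_iff_forall_mem_open]
  rintro _ ⟨x, hxU, rfl⟩
  obtain ⟨_, ⟨J, V, hV, rfl⟩, hxV, hVU⟩ :=
    (Opens.isBasis_iff_nbhd.mp hB) (show x ∈ (⟨U, hU⟩ : X.Opens) from hxU)
  let K' : Over i₀ := IsCofiltered.min J (Over.mk φ)
  let b₁ : K' ⟶ J := IsCofiltered.minToLeft _ _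
  let b₂ : K' ⟶ Over.mk φ := IsCofiltered.minToRight _ _
  let ψ : K'.left ⟶ i := b₂.left
  let K : Over i₀ := Over.mk (ψ ≫ φ)
  let b : K ⟶ J := Over.homMk b₁.left (by
    change b₁.left ≫ J.hom = b₂.left ≫ φ
    rw [Over.w b₁]; exact (Over.w b₂).symm)
  let W : (E.obj K).Opens := E.map b ⁻¹ᵁ V
  have hfK : IsOpenMap (fK D i₀ f₀ g₀ K) :=
    h K'.left ψ _ _ (fK D i₀ f₀ g₀ K) (pullback.snd g₀ (D.map K.hom)) (pullback.fst _ _)
      (pullback.snd _ _) (IsPullback.of_hasPullback g₀ (D.map K.hom)) (isPullback_fK D i₀ f₀ g₀ K)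
  have hpre : (eX.π.app J ⁻¹ᵁ V : X.Opens) = (πX K) ⁻¹ᵁ W := by
    change _ = (eX.π.app K) ⁻¹ᵁ (E.map b ⁻¹ᵁ V)
    rw [← Scheme.Hom.comp_preimage, eX.w]
  have himg : f '' ((πX K) ⁻¹' (W : Set (E.obj K))) =
      (ρ K) ⁻¹' ((fK D i₀ f₀ g₀ K) '' (W : Set (E.obj K))) :=
    Scheme.image_preimage_eq_of_isPullback (hC K) (W : Set (E.obj K))
  refine ⟨f '' ((πX K) ⁻¹' (W : Set (E.obj K))), ?_, ?_, ?_⟩
  · apply Set.image_mono
    intro z hz
    apply hVU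
    rw [hpre]
    exact hz
  · rw [himg]
    exact (hfK _ W.isOpen).preimage (ρ K).continuous
  · refine ⟨x, ?_, rfl⟩
    have : x ∈ ((πX K) ⁻¹ᵁ W : X.Opens) := by rw [← hpre]; exact hxV
    exact this

end Groth.Agent.Lib.Helper9.OpenLim
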