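import Groth.Agent.Lib.Helper9.FlatDom2
import Groth.Agent.Lib.Helper9.FlatLim
import Groth.Agent.Lib.Helper22.LimBaseChange
import Groth.Agent.Lib.Helper9.OpenLim

set_option autoImplicit false
set_option linter.style.haveILetI false
set_option linter.unusedSectionVars false
universe u v w
open CategoryTheory CategoryTheory.Limits AlgebraicGeometry TopologicalSpace Opposite Topology

namespace Groth.Agent.Lib.Helper9.FlatDom

open Groth.Agent.Lib.Helper22

variable {I : Type u} [SmallCategory I] [IsCofiltered I] (D : I ⥤ Scheme.{u})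
  (c : Cone D) (hc : IsLimit c) [∀ (i j : I) (f : i ⟶ j), IsAffineHom (D.map f)]

/-- dominance of a quasi-compact morphism is preserved by flat base change -/
theorem isDominant_of_isPullback {X Y X' Y' : Scheme.{u}} {f : X ⟶ Y} {g' : Y' ⟶ Y}
    {f' : X' ⟶ Y'} {p : X' ⟶ X} (H : IsPullback p f' f g') [QuasiCompact f] [Flat g']
    [IsDominant f] : IsDominant f' := by
  rw [isDominant_iff, DenseRange, dense_iff_closure_eq, ← Set.univ_subset_iff]
  refine subset_trans ?_ (preimage_closure_range_subset H)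
  rw [f.denseRange.closure_eq, Set.preimage_univ]

include hc in
theorem of_stage (i₀ : I) (hfl : ∀ (i j : I) (φ : i ⟶ j), Flat (D.map φ))
    {X₀ Y₀ : Scheme.{u}} (f₀ : X₀ ⟶ Y₀) (g₀ : Y₀ ⟶ D.obj i₀) [QuasiCompact f₀]
    {X Y : Scheme.{u}} (f : X ⟶ Y) (g : Y ⟶ c.pt) (qY : Y ⟶ Y₀) (qX : X ⟶ X₀)
    (hY : IsPullback qY g g₀ (c.π.app i₀)) (hX : IsPullback qX f f₀ qY)
    {j : I} (φ : j ⟶ i₀) {Xj Yj : Scheme.{u}} (fj : Xj ⟶ Yj) (gj : Yj ⟶ D.obj j)
    (pY : Yj ⟶ Y₀) (pX : Xj ⟶ X₀) (hYj : IsPullback pY gj g₀ (D.map φ))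
    (hXj : IsPullback pX fj f₀ pY) [IsDominant fj] : IsDominant f := by
  have h1 : ∀ {i j : I} (f : i ⟶ j), IsAffineHom (D.map f) := fun f => inferInstance
  haveI : Flat (c.π.app j) := FlatLim.flat_π D c hc j (fun k ψ => hfl k j ψ)
  let r : Y ⟶ Yj := hYj.lift qY (g ≫ c.π.app j) (by rw [hY.w, Category.assoc, c.w])
  have hr1 : r ≫ pY = qY := hYj.lift_fst _ _ _
  have hr2 : r ≫ gj = g ≫ c.π.app j := hYj.lift_snd _ _ _
  have Hr : IsPullback r g gj (c.π.app j) := by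
    refine IsPullback.of_right ?_ hr2 hYj
    rw [hr1, c.w]
    exact hY
  haveI : Flat r := MorphismProperty.of_isPullback Hr.flip (inferInstance : Flat (c.π.app j))
  let rX : X ⟶ Xj := hXj.lift qX (f ≫ r) (by rw [hX.w, Category.assoc, hr1])
  have hrX1 : rX ≫ pX = qX := hXj.lift_fst _ _ _
  have hrX2 : rX ≫ fj = f ≫ r := hXj.lift_snd _ _ _
  have HrX : IsPullback rX f fj r := by
    refine IsPullback.of_right ?_ hrX2 hXj
    rw [hrX1, hr1]
    exact hX
  haveI : QuasiCompact fj := MorphismProperty.of_isPullback hXj (inferInstance : QuasiCompact f₀)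
  exact isDominant_of_isPullback HrX

include hc in
theorem exists_stage (i₀ : I) [CompactSpace (D.obj i₀)]
    (hfl : ∀ (i j : I) (φ : i ⟶ j), Flat (D.map φ))
    {X₀ Y₀ : Scheme.{u}} (f₀ : X₀ ⟶ Y₀) (g₀ : Y₀ ⟶ D.obj i₀) [QuasiCompact f₀]
    [QuasiCompact g₀] [QuasiSeparated g₀]
    (hcl : IsConstructible (closure (Set.range ⇑f₀)))
    {X Y : Scheme.{u}} (f : X ⟶ Y) (g : Y ⟶ c.pt) (qY : Y ⟶ Y₀) (qX : X ⟶ X₀)
    (hY : IsPullback qY g g₀ (c.π.app i₀)) (hX : IsPullback qX f f₀ qY) [IsDominant f] :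
    ∃ K : Over i₀, IsDominant (pullback.snd f₀ (pullback.snd (D.map K.hom) g₀)) := by
  let U₀ : Y₀.Opens := ⟨(closure (Set.range ⇑f₀))ᶜ, isClosed_closure.isOpen_compl⟩
  have hU₀c : IsCompact (U₀ : Set Y₀) := isCompact_of_isConstructible_of_qcqs g₀ hcl.compl
  have hqY : ∀ y : Y, qY y ∈ closure (Set.range ⇑f₀) := by
    intro y
    have h1 : y ∈ closure (Set.range ⇑f) := by rw [f.denseRange.closure_eq]; trivial
    have h2 := image_closure_subset_closure_image qY.continuous (Set.mem_image_of_mem qY h1)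
    refine closure_mono ?_ h2
    rintro _ ⟨_, ⟨x, rfl⟩, rfl⟩
    refine ⟨qX x, ?_⟩
    rw [← Scheme.Hom.comp_apply, hX.w, Scheme.Hom.comp_apply]
  let E : Over i₀ ⥤ Scheme.{u} := bcDiag D i₀ g₀
  let e : Cone E := bcCone D c i₀ g₀
  let he : IsLimit e := bcIsLimit D hc i₀ g₀
  have hE : ∀ {j k : Over i₀} (t : j ⟶ k), IsAffineHom (E.map t) := fun t => inferInstance
  have hP : IsPullback g qY (c.π.app i₀) g₀ := hY.flip
  let ι : Y ≅ pullback (c.π.app i₀) g₀ := hP.isoPullback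
  have hι2 : ι.hom ≫ pullback.snd (c.π.app i₀) g₀ = qY := hP.isoPullback_hom_snd
  let eY : Cone E := e.extend ι.hom
  let heY : IsLimit eY := IsLimit.ofIsoLimit he (Cone.extendIso e ι.symm)
  let K₀ : Over i₀ := Over.mk (𝟙 i₀)
  let s : ∀ K : Over i₀, E.obj K ⟶ Y₀ := fun K => pullback.snd (D.map K.hom) g₀
  have hs : ∀ K : Over i₀, IsAffineHom (s K) := fun K =>
    MorphismProperty.pullback_snd (P := @IsAffineHom) _ _ inferInstance
  have heYs : ∀ K : Over i₀, eY.π.app K ≫ s K = qY := by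
    intro K
    change (ι.hom ≫ OpenLim.sK D c i₀ K g₀) ≫ pullback.snd (D.map K.hom) g₀ = qY
    rw [Category.assoc, OpenLim.sK_snd, hι2]
  let U₁ : (E.obj K₀).Opens := s K₀ ⁻¹ᵁ U₀
  have hU₁c : IsCompact (U₁ : Set (E.obj K₀)) :=
    QuasiCompact.isCompact_preimage (f := s K₀) _ U₀.2 hU₀c
  have H : eY.π.app K₀ ⁻¹ᵁ U₁ ≤ eY.π.app K₀ ⁻¹ᵁ ⊥ := by
    intro y hy
    exfalso
    have h1 : (eY.π.app K₀ ≫ s K₀) y ∈ U₀ := hy
    rw [heYs] at h1
    exact h1 (hqY y)
  obtain ⟨K, b, hK⟩ := exists_map_preimage_le_map_preimage E eY heY hU₁c H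
  refine ⟨K, ?_⟩
  have hb : E.map b ≫ s K₀ = s K := bcDiag_map_snd D i₀ g₀ b
  have hsK : ∀ y : E.obj K, s K y ∈ closure (Set.range ⇑f₀) := by
    intro y
    by_contra hy
    have h1 : y ∈ E.map b ⁻¹ᵁ U₁ := by
      change (E.map b ≫ s K₀) y ∈ U₀
      rw [hb]
      exact hy
    exact (hK h1).elim
  haveI : Flat (s K) := MorphismProperty.pullback_snd (P := @Flat) _ _ (hfl _ _ K.hom)
  rw [isDominant_iff, DenseRange, dense_iff_closure_eq, ← Set.univ_subset_iff]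
  intro y _
  exact preimage_closure_range_subset (IsPullback.of_hasPullback f₀ (s K)) (hsK y)

end Groth.Agent.Lib.Helper9.FlatDom
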