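import Groth.Agent.Lib.Helper9.VCov8
import Mathlib.AlgebraicGeometry.Sites.Fpqc

namespace Groth.Agent.Lib.Helper9.FpqcF

open CategoryTheory CategoryTheory.Limits AlgebraicGeometry TopologicalSpace

universe u w w'

theorem surjective_of_quasiCompactCover {T : Scheme.{u}} (E : PreZeroHypercover.{w} T)
    [QuasiCompactCover E] (t : T) : ∃ i, t ∈ Set.range (E.f i) := by
  obtain ⟨_, ⟨U, hU, rfl⟩, htU, -⟩ := T.isBasis_affineOpens.exists_subset_of_mem_open
    (Set.mem_univ t) isOpen_univ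
  obtain ⟨s, hs, V, hc, hcov⟩ := QuasiCompactCover.isCompactOpenCovered_of_isAffineOpen
    (𝒰 := E) hU
  have : t ∈ ⋃ (i : E.I₀) (h : i ∈ s), (E.f i) '' (V i h) := by rw [hcov]; exact htU
  obtain ⟨i, hi⟩ := Set.mem_iUnion.mp this
  obtain ⟨h, x, -, hx⟩ := Set.mem_iUnion.mp hi
  exact ⟨i, x, hx⟩

set_option backward.isDefEq.respectTransparency.types false in
theorem mem_fpqc_iff {T : Scheme.{u}} (E : PreZeroHypercover.{w} T) :
    E.presieve₀ ∈ Scheme.fpqcPrecoverage T ↔ QuasiCompactCover E ∧ ∀ i, Flat (E.f i) := by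
  constructor
  · rintro ⟨h1, h2⟩
    refine ⟨Scheme.presieve₀_mem_qcPrecoverage_iff.mp h1, ?_⟩
    exact ((Scheme.ofArrows_mem_precoverage_iff (P := @Flat)).mp h2).2
  · rintro ⟨h1, h2⟩
    refine ⟨Scheme.presieve₀_mem_qcPrecoverage_iff.mpr h1, ?_⟩
    exact (Scheme.ofArrows_mem_precoverage_iff (P := @Flat)).mpr
      ⟨fun t => surjective_of_quasiCompactCover E t, h2⟩

/-- S7512 -/
theorem fpqc_of_standard_fpqc_refining_affines {T : Scheme.{u}} (E : PreZeroHypercover.{w} T)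
    (hflat : ∀ i, Flat (E.f i))
    (href : ∀ (Z : Scheme.{u}) [IsAffine Z] (h : Z ⟶ T), ∃ F : PreZeroHypercover.{0} Z,
      Finite F.I₀ ∧ (∀ j, IsAffine (F.X j)) ∧ (∀ j, Flat (F.f j)) ∧
        (∀ z : Z, ∃ (j : F.I₀) (x : F.X j), F.f j x = z) ∧ HTop.RefinesOver h F E) :
    E.presieve₀ ∈ Scheme.fpqcPrecoverage T := by
  rw [mem_fpqc_iff]
  refine ⟨⟨fun {U} hU => ?_⟩, hflat⟩
  haveI : IsAffine (U : Scheme.{u}) := hU
  obtain ⟨F, hfin, haff, -, hsurj, href'⟩ := href (U : Scheme.{u}) U.ι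
  choose a k hk using href'
  have hcov : IsCompactOpenCovered (fun j => ⇑(F.f j ≫ U.ι)) (U : Set T) := by
    haveI := hfin
    refine IsCompactOpenCovered.of_finite (κ := F.I₀) (fun j => j) (fun j => ⊤) (fun j => ?_) ?_
    · haveI := haff j
      exact CompactSpace.isCompact_univ
    · ext t
      simp only [Set.mem_iUnion, Set.mem_image, Opens.coe_top, Set.mem_univ, true_and]
      constructor
      · rintro ⟨j, x, rfl⟩
        have : U.ι (F.f j x) ∈ Set.range U.ι := ⟨_, rfl⟩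
        rw [Scheme.Opens.range_ι] at this
        exact this
      · intro ht
        have : t ∈ Set.range U.ι := by rw [Scheme.Opens.range_ι]; exact ht
        obtain ⟨z, rfl⟩ := this
        obtain ⟨j, x, hx⟩ := hsurj z
        exact ⟨j, x, by rw [Scheme.Hom.comp_apply, hx]⟩
  exact IsCompactOpenCovered.of_comp (f := fun i => ⇑(E.f i)) (a := a) _ (fun j => ⇑(k j))
    (fun j => (k j).continuous)
    (fun j => by
      funext x
      change (F.f j ≫ U.ι) x = (k j ≫ E.f (a j)) x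
      rw [hk j])
    (fun i => (E.f i).continuous) U.2 hcov

/-- quasi-compactness of a family can be checked after base change to a quasi-compact cover. -/
theorem quasiCompactCover_of_locally {T : Scheme.{u}} (E : PreZeroHypercover.{w} T)
    (𝒱 : PreZeroHypercover.{w'} T) [QuasiCompactCover 𝒱]
    (hloc : ∀ j, QuasiCompactCover (E.pullback₁ (𝒱.f j))) : QuasiCompactCover E := by
  refine ⟨fun {U} hU => ?_⟩
  obtain ⟨s, hs, V, hc, hcov⟩ := QuasiCompactCover.isCompactOpenCovered_of_isAffineOpen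
    (𝒰 := 𝒱) hU
  -- the big family
  let Y : (Σ _ : 𝒱.I₀, E.I₀) → Scheme.{u} := fun p => pullback (𝒱.f p.1) (E.f p.2)
  let g : ∀ p : (Σ _ : 𝒱.I₀, E.I₀), Y p → T := fun p => ⇑(pullback.fst (𝒱.f p.1) (E.f p.2) ≫ 𝒱.f p.1)
  have hbig : IsCompactOpenCovered g (U : Set T) := by
    haveI : Finite s := hs
    refine IsCompactOpenCovered.of_iUnion_eq_of_finite (κ := s)
      (fun j => (𝒱.f j.1) '' (V j.1 j.2)) ?_ ?_
    · rw [← hcov]
      ext t
      simp only [Set.mem_iUnion]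
      constructor
      · rintro ⟨j, hj⟩; exact ⟨j.1, j.2, hj⟩
      · rintro ⟨j, hj, h⟩; exact ⟨⟨j, hj⟩, h⟩
    · rintro ⟨j, hj⟩
      haveI := hloc j
      obtain ⟨t, ht, W, hWc, hW⟩ := QuasiCompactCover.isCompactOpenCovered_of_isCompact
        (E.pullback₁ (𝒱.f j)) (U := V j hj) (hc j hj)
      haveI : Finite t := ht
      refine IsCompactOpenCovered.of_finite (κ := t) (fun i => (⟨j, i.1⟩ : Σ _ : 𝒱.I₀, E.I₀))
        (fun i => W i.1 i.2) (fun i => hWc i.1 i.2) ?_
      change _ = (𝒱.f j) '' ((V j hj : (𝒱.X j).Opens) : Set (𝒱.X j))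
      rw [← hW]
      ext x
      simp only [Set.mem_iUnion, Set.mem_image]
      constructor
      · rintro ⟨i, y, hy, rfl⟩
        exact ⟨pullback.fst (𝒱.f j) (E.f i.1) y, ⟨i.1, i.2, y, hy, rfl⟩, rfl⟩
      · rintro ⟨_, ⟨i, hi, y, hy, rfl⟩, rfl⟩
        exact ⟨⟨i, hi⟩, y, hy, rfl⟩
  exact IsCompactOpenCovered.of_comp (f := fun i => ⇑(E.f i)) (a := fun p => p.2) g
    (fun p => ⇑(pullback.snd (𝒱.f p.1) (E.f p.2)))
    (fun p => (pullback.snd (𝒱.f p.1) (E.f p.2)).continuous)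
    (fun p => by
      funext x
      change (pullback.fst (𝒱.f p.1) (E.f p.2) ≫ 𝒱.f p.1) x =
        (pullback.snd (𝒱.f p.1) (E.f p.2) ≫ E.f p.2) x
      rw [pullback.condition])
    (fun i => (E.f i).continuous) U.2 hbig

/-- S7497 -/
theorem fpqc_of_fpqc_locally {T : Scheme.{u}} (E : PreZeroHypercover.{w} T)
    (hflat : ∀ i, Flat (E.f i)) (𝒱 : Scheme.Cover.{w'} Scheme.fpqcPrecoverage T)
    (hloc : ∀ j, (E.pullback₁ (𝒱.f j)).presieve₀ ∈ Scheme.fpqcPrecoverage (𝒱.X j)) :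
    E.presieve₀ ∈ Scheme.fpqcPrecoverage T := by
  rw [mem_fpqc_iff]
  haveI : QuasiCompactCover 𝒱.toPreZeroHypercover := ((mem_fpqc_iff _).mp 𝒱.mem₀).1
  exact ⟨quasiCompactCover_of_locally E 𝒱.toPreZeroHypercover
    (fun j => ((mem_fpqc_iff _).mp (hloc j)).1), hflat⟩

set_option backward.isDefEq.respectTransparency.types false in
/-- S7511 -/
theorem fpqc_iff_sigmaDesc_fpqc {T : Scheme.{u}} (E : PreZeroHypercover.{u} T) :
    E.presieve₀ ∈ Scheme.fpqcPrecoverage T ↔
      Presieve.singleton (Sigma.desc E.f) ∈ Scheme.fpqcPrecoverage T := by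
  rw [← PreZeroHypercover.presieve₀_singleton.{_, _, u} (Sigma.desc E.f), mem_fpqc_iff, mem_fpqc_iff]
  constructor
  · rintro ⟨h1, h2⟩
    refine ⟨?_, fun _ => ?_⟩
    · exact QuasiCompactCover.of_hom (𝒱 := E)
        { s₀ := fun _ => ⟨⟩, h₀ := fun i => Sigma.ι E.X i, w₀ := fun i => Sigma.ι_desc _ _ }
    · haveI := h2
      change Flat (Sigma.desc E.f)
      infer_instance
  · rintro ⟨h1, h2⟩
    have hσ : Flat (Sigma.desc E.f) := h2 ⟨⟩
    refine ⟨?_, fun i => ?_⟩
    · have hb : QuasiCompactCover ((PreZeroHypercover.singleton.{u} (Sigma.desc E.f)).bind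
          (fun _ => (sigmaOpenCover E.X).toPreZeroHypercover)) :=
        @QuasiCompactCover.instBindScheme _ (PreZeroHypercover.singleton.{u} (Sigma.desc E.f)) h1
          (fun _ => (sigmaOpenCover E.X).toPreZeroHypercover)
          (fun _ => inferInstanceAs (QuasiCompactCover (sigmaOpenCover E.X).toPreZeroHypercover))
      haveI := hb
      refine QuasiCompactCover.of_hom (𝒱 := (PreZeroHypercover.singleton.{u} (Sigma.desc E.f)).bind
        (fun _ => (sigmaOpenCover E.X).toPreZeroHypercover)) ?_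
      exact { s₀ := fun p => p.2, h₀ := fun p => 𝟙 _, w₀ := fun p =>
                (Category.id_comp _).trans (Sigma.ι_desc E.f p.2).symm }
    · rw [← Sigma.ι_desc E.f i]
      exact MorphismProperty.comp_mem _ _ _ inferInstance hσ

set_option backward.isDefEq.respectTransparency.types false in
theorem isCompact_inter_preimage {X T : Scheme.{u}} [QuasiSeparatedSpace T] (f : X ⟶ T)
    (V : X.Opens) (hV : IsCompact (V : Set X)) (W : T.Opens) (hW : IsCompact (W : Set T)) :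
    IsCompact ((V : Set X) ∩ f ⁻¹' (W : Set T)) := by
  haveI : CompactSpace ↥(V : Scheme.{u}) := isCompact_iff_compactSpace.mp hV
  have h1 : IsCompact ((V.ι ≫ f) ⁻¹' (W : Set T)) :=
    QuasiCompact.isCompact_preimage (f := V.ι ≫ f) _ W.2 hW
  have h2 := h1.image V.ι.continuous
  convert h2 using 1
  ext x
  simp only [Set.mem_inter_iff, SetLike.mem_coe, Set.mem_preimage, Set.mem_image]
  constructor
  · rintro ⟨hxV, hxW⟩
    have : x ∈ Set.range V.ι := by rw [Scheme.Opens.range_ι]; exact hxV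
    obtain ⟨y, rfl⟩ := this
    exact ⟨y, hxW, rfl⟩
  · rintro ⟨y, hy, rfl⟩
    have : V.ι y ∈ Set.range V.ι := ⟨y, rfl⟩
    rw [Scheme.Opens.range_ι] at this
    exact ⟨this, hy⟩

/-- S7496 -/
theorem quasiCompactCover_iff_nhds_of_quasiSeparated {T : Scheme.{u}} [QuasiSeparatedSpace T]
    (E : PreZeroHypercover.{w} T) :
    QuasiCompactCover E ↔ ∀ t : T, ∃ (n : ℕ) (i : Fin n → E.I₀) (V : ∀ j, (E.X (i j)).Opens),
      (∀ j, IsCompact (V j : Set (E.X (i j)))) ∧
        (⋃ j, ⇑(E.f (i j)) '' (V j : Set (E.X (i j)))) ∈ nhds t := by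
  constructor
  · intro h t
    obtain ⟨_, ⟨U, hU, rfl⟩, htU, -⟩ := T.isBasis_affineOpens.exists_subset_of_mem_open
      (Set.mem_univ t) isOpen_univ
    obtain ⟨n, a, V, hV, hcov⟩ := QuasiCompactCover.exists_isAffineOpen_of_isCompact E
      (U := U) hU.isCompact
    refine ⟨n, a, V, fun j => (hV j).isCompact, ?_⟩
    rw [hcov]
    exact U.2.mem_nhds htU
  · intro h
    refine ⟨fun {U} hU => ?_⟩
    refine IsCompactOpenCovered.of_isCompact_of_forall_exists_isCompactOpenCovered hU.isCompact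
      (fun x hx => ?_)
    obtain ⟨n, a, V, hV, hN⟩ := h x
    have hx' : x ∈ interior (⋃ j, ⇑(E.f (a j)) '' (V j : Set (E.X (a j)))) ∩ (U : Set T) :=
      ⟨mem_interior_iff_mem_nhds.mpr hN, hx⟩
    obtain ⟨_, ⟨W, hW, rfl⟩, hxW, hWsub⟩ := T.isBasis_affineOpens.exists_subset_of_mem_open
      hx' (isOpen_interior.inter U.2)
    refine ⟨(W : Set T), fun y hy => (hWsub hy).2, hxW, W.2, ?_⟩
    refine IsCompactOpenCovered.of_finite (κ := Fin n) a
      (fun j => V j ⊓ (E.f (a j)) ⁻¹ᵁ W) (fun j => ?_) ?_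
    · exact isCompact_inter_preimage (E.f (a j)) (V j) (hV j) W hW.isCompact
    · ext y
      simp only [Set.mem_iUnion, Set.mem_image]
      constructor
      · rintro ⟨j, z, hz, rfl⟩
        exact hz.2
      · intro hy
        have := interior_subset (hWsub hy).1
        obtain ⟨j, z, hz, rfl⟩ := Set.mem_iUnion.mp this
        exact ⟨j, z, ⟨hz, hy⟩, rfl⟩

end Groth.Agent.Lib.Helper9.FpqcF
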