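import Mathlib
import Groth.Prelude.Def_Magnet3
import Groth.Prelude.Def_AlgSp
set_option autoImplicit false
set_option linter.style.haveILetI false
set_option linter.unusedSectionVars false
universe u v w v₁ u₁
open CategoryTheory CategoryTheory.Limits AlgebraicGeometry Opposite
open MonoidalCategory CartesianMonoidalCategory

namespace Groth.Agent.Lib.Helper9.Fpr

open Magnet Magnet.MonAct

section General

variable {C : Type u₁} [Category.{v₁} C] [CartesianMonoidalCategory C]
  (J : GrothendieckTopology C) {A X : C} [MonObj A]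

/-- the fixed-point subfunctor of a sheaf-representable object is a sheaf -/
theorem isSheaf_fixedPsh (a : MonAct A X) (hX : Presieve.IsSheaf J (yoneda.obj X)) :
    Presieve.IsSheaf J (fixedPsh a) := by
  intro T R hR x hx
  obtain ⟨s, hs, hs'⟩ := hX R hR (x.map (fixedPshι a)) (hx.map (fixedPshι a))
  have hs_app : ∀ ⦃Y : C⦄ (f : Y ⟶ T) (h : R f), f ≫ s = (x f h).1 := fun Y f h => hs f h
  have hfix : ∀ (T' : C) (t : T' ⟶ T) (g : T' ⟶ A), lift g (t ≫ s) ≫ a.act = t ≫ s := by
    intro T' t g
    apply (hX _ (J.pullback_stable t hR)).isSeparatedFor.ext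
    intro T'' v hv
    change v ≫ (lift g (t ≫ s) ≫ a.act) = v ≫ t ≫ s
    have h1 := hs_app (v ≫ t) hv
    have h2 := (x (v ≫ t) hv).2 T'' (𝟙 _) (v ≫ g)
    rw [Category.id_comp] at h2
    rw [← Category.assoc, comp_lift, ← Category.assoc v t s, h1]
    exact h2
  refine ⟨⟨s, hfix⟩, ?_, ?_⟩
  · intro Y f h
    exact Subtype.ext (hs_app f h)
  · intro y hy
    apply Subtype.ext
    exact hs' y.1 (fun Y f h => congrArg Subtype.val (hy f h))

end General

section Sp
variable {S : Scheme.{u}} {A X Y : Over S} [MonObj A]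

open AlgSp

/-- the fixed point sheaf -/
noncomputable def fixSp (a : MonAct A X) : Sp S :=
  ⟨fixedPsh a ⋙ uliftFunctor.{u+1}, (isSheaf_iff_isSheaf_of_type _ _).2
    (Presieve.isSheaf_comp_uliftFunctor _ (isSheaf_fixedPsh (AlgSp.J S) a
      (GrothendieckTopology.Subcanonical.isSheaf_of_isRepresentable _)))⟩

noncomputable def fixSpι (a : MonAct A X) : fixSp a ⟶ (yon S).obj X :=
  ⟨Functor.whiskerRight (fixedPshι a) uliftFunctor.{u+1}⟩

noncomputable def fixSpMap {a : MonAct A X} {b : MonAct A Y} (f : X ⟶ Y)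
    (hf : IsEquivariant a b f) : fixSp a ⟶ fixSp b :=
  ⟨Functor.whiskerRight (fixedPsh.map f hf) uliftFunctor.{u+1}⟩

theorem isPullback_fixSp {a : MonAct A X} {b : MonAct A Y} (f : X ⟶ Y)
    (hf : IsEquivariant a b f)
    (h : IsPullback (fixedPsh.map f hf) (fixedPshι a) (fixedPshι b) (yoneda.map f)) :
    IsPullback (fixSpMap f hf) (fixSpι a) (fixSpι b) ((yon S).map f) := by
  have h' := h.map ((Functor.whiskeringRight _ _ _).obj uliftFunctor.{u+1})
  refine IsPullback.of_map (sheafToPresheaf (AlgSp.J S) (Type (u+1))) ?_ h'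
  apply (sheafToPresheaf (AlgSp.J S) (Type (u+1))).map_injective
  exact h'.w

end Sp

end Groth.Agent.Lib.Helper9.Fpr
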