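import Mathlib
import Groth.Prelude.Def_Magnet3
import Groth.Prelude.Def_AlgSp
import Groth.Agent.Lib.Helper9.Fpr1
import Groth.Agent.Lib.Helper15.EtCoverDesc
import Groth.Agent.S0083
set_option autoImplicit false
set_option linter.style.haveILetI false
set_option linter.unusedSectionVars false
universe u v w v₁ u₁
open CategoryTheory CategoryTheory.Limits AlgebraicGeometry Opposite
open MonoidalCategory CartesianMonoidalCategory

namespace Groth.Agent.Lib.Helper9.Fpr

open Magnet Magnet.MonAct AlgSp

section Sp
variable {S : Scheme.{u}} {A X Y : Over S} [MonObj A]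

/-- lift a representation of the fixed-point functor one universe up -/
noncomputable def repUp (a : MonAct A X) {W : Over S} (e : (fixedPsh a).RepresentableBy W) :
    (fixSp a).obj.RepresentableBy W where
  homEquiv := e.homEquiv.trans Equiv.ulift.symm
  homEquiv_comp f g := by
    apply ULift.ext
    exact e.homEquiv_comp f g

/-- and down -/
noncomputable def repDown (a : MonAct A X) {W : Over S} (e : (fixSp a).obj.RepresentableBy W) :
    (fixedPsh a).RepresentableBy W where
  homEquiv := e.homEquiv.trans Equiv.ulift
  homEquiv_comp f g := by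
    have := e.homEquiv_comp f g
    exact congrArg ULift.down this

theorem repWith_fixSpι_of_representableBy (P : MorphismProperty Scheme.{u})
    [P.IsStableUnderBaseChange] (a : MonAct A X) {W : Over S} (i : W ⟶ X)
    (e : (fixedPsh a).RepresentableBy W) (hi : P i.left)
    (hc : ∀ (T : Over S) (w : T ⟶ W), (fixedPshι a).app (op T) (e.homEquiv w) = w ≫ i) :
    RepWith P (fixSpι a) := by
  have key : (isoOfRepresentableBy (repUp a e)).hom ≫ fixSpι a = (yon S).map i := by
    apply Sheaf.hom_ext
    ext T ⟨w⟩
    apply ULift.ext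
    exact hc T.unop w
  rw [← MorphismProperty.cancel_left_of_respectsIso (RepWith (S := S) P)
    (isoOfRepresentableBy (repUp a e)).hom, key]
  exact (repWith_yon_map_iff P i).2 hi

theorem exists_of_repWith (P : MorphismProperty Scheme.{u}) (a : MonAct A X)
    (h : RepWith P (fixSpι a)) :
    ∃ (W : Over S) (i : W ⟶ X) (e : (fixedPsh a).RepresentableBy W), P i.left ∧
      ∀ (T : Over S) (w : T ⟶ W), (fixedPshι a).app (op T) (e.homEquiv w) = w ≫ i := by
  obtain ⟨hrep, hP⟩ := (repWith_iff P (fixSpι a)).1 h
  obtain ⟨W, i, fst, sq⟩ := hrep (𝟙 ((yon S).obj X))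
  haveI : IsIso fst := sq.isIso_fst_of_isIso
  refine ⟨W, i, repDown a (representableByOfIso (asIso fst)), hP _ fst i sq, ?_⟩
  intro T w
  have hw := sq.w
  rw [Category.comp_id] at hw
  have := congrArg (fun φ : (yon S).obj W ⟶ (yon S).obj X => (φ.hom.app (op T) ⟨w⟩).down) hw
  exact this

end Sp

end Groth.Agent.Lib.Helper9.Fpr
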