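import Mathlib
import Groth.Prelude.Def_Magnet3
import Groth.Prelude.Def_AlgSp
import Groth.Agent.Lib.Helper9.Fpr2
set_option autoImplicit false
set_option linter.style.haveILetI false
set_option linter.unusedSectionVars false
universe u v w v₁ u₁
open CategoryTheory CategoryTheory.Limits AlgebraicGeometry Opposite
open MonoidalCategory CartesianMonoidalCategory

namespace Groth.Agent.Lib.Helper9.Fpr

open Magnet Magnet.MonAct AlgSp

/-- **Descent of closed fixed-point subschemes along an FPR atlas** (general monoid object). -/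
theorem exists_fixed_closed_of_etale_fpr {S : Scheme.{u}} {A X U : Over S} [MonObj A]
    (aX : MonAct A X) (aU : MonAct A U)
    (f : U ⟶ X) [Etale f.left] [Surjective f.left]
    (hf : IsEquivariant aU aX f)
    (hfpr : IsPullback (fixedPsh.map f hf) (fixedPshι aU) (fixedPshι aX) (yoneda.map f))
    (hU : ∃ (W' : Over S) (i' : W' ⟶ U) (e' : (fixedPsh aU).RepresentableBy W'),
      IsClosedImmersion i'.left ∧ ∀ (T : Over S) (w : T ⟶ W'),
        (fixedPshι aU).app (op T) (e'.homEquiv w) = w ≫ i') :
    ∃ (W : Over S) (i : W ⟶ X) (e : (fixedPsh aX).RepresentableBy W),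
      IsClosedImmersion i.left ∧ ∀ (T : Over S) (w : T ⟶ W),
        (fixedPshι aX).app (op T) (e.homEquiv w) = w ≫ i := by
  obtain ⟨W', i', e', hcl', hc'⟩ := hU
  haveI := Groth.Agent.S0083.result.{u}
  have hsq := isPullback_fixSp f hf hfpr
  have hrepU : RepWith @IsClosedImmersion (fixSpι aU) :=
    repWith_fixSpι_of_representableBy @IsClosedImmersion aU i' e' hcl' hc'
  have hRep : RepWith @IsClosedImmersion (fixSpι aX) :=
    Groth.Agent.Lib.Helper15.EtCoverDesc.repWith_of_etale_cover @IsClosedImmersion
      (fun _ _ g hg => by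
        have : IsClosedImmersion g := hg
        exact (inferInstance : IsAffineHom g))
      (fixSpι aX) U ((yon S).map f)
      ((repWith_yon_map_iff @Etale f).2 ‹Etale f.left›)
      ((repWith_yon_map_iff @Surjective f).2 ‹Surjective f.left›)
      (fixSpMap f hf) (fixSpι aU) hsq hrepU
  exact exists_of_repWith @IsClosedImmersion aX hRep

end Groth.Agent.Lib.Helper9.Fpr
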