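import Mathlib
import Groth.Prelude.Def_Red
set_option autoImplicit false
set_option linter.style.haveILetI false
set_option linter.unusedSectionVars false
set_option linter.unusedVariables false
universe u
open CategoryTheory CategoryTheory.Limits AlgebraicGeometry Opposite MonObj MonoidalCategory CartesianMonoidalCategory

namespace Groth.Agent.Lib.Helper9.GL

section general
variable {C : Type*} [Category C] [HasPullbacks C]

theorem pullbackComp_hom_left_fst_fst {X Y Z : C} (f : X ⟶ Y) (g : Y ⟶ Z) (A : Over Z) :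
    ((Over.pullbackComp f g).hom.app A).left ≫ pullback.fst _ _ ≫ pullback.fst _ _ =
      pullback.fst A.hom (f ≫ g) := by
  have h := conjugateEquiv_counit (Over.mapPullbackAdj (f ≫ g))
    ((Over.mapPullbackAdj f).comp (Over.mapPullbackAdj g)) (Over.mapComp f g).symm.hom A
  have h2 := congrArg (fun k => k.left) h
  simp only [Over.comp_left] at h2
  simpa [Over.pullbackComp, conjugateIsoEquiv] using h2

theorem pullbackComp_inv_left_fst {X Y Z : C} (f : X ⟶ Y) (g : Y ⟶ Z) (A : Over Z) :
    ((Over.pullbackComp f g).inv.app A).left ≫ pullback.fst A.hom (f ≫ g) =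
      pullback.fst _ _ ≫ pullback.fst _ _ := by
  rw [← pullbackComp_hom_left_fst_fst f g A, ← Over.comp_left_assoc]
  simp

theorem bc_hom_ext {S S' : C} (f : S' ⟶ S) {Z : Over S'} {Y : Over S}
    (v₁ v₂ : Z ⟶ (Over.pullback f).obj Y)
    (h : v₁.left ≫ pullback.fst _ _ = v₂.left ≫ pullback.fst _ _) : v₁ = v₂ := by
  apply Over.OverMorphism.ext
  apply pullback.hom_ext h
  have h1 := Over.w v₁
  have h2 := Over.w v₂
  simp only [Over.pullback_obj_hom] at h1 h2
  rw [h1, h2]

theorem eqToHom_bc_left_fst {S S' : C} {f g : S' ⟶ S} (h : f = g) (Y : Over S) :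
    (eqToHom (congrArg (fun k => (Over.pullback k).obj Y) h)).left ≫ pullback.fst Y.hom g =
      pullback.fst Y.hom f := by
  subst h
  simp

end general

section mon
variable {C : Type*} [Category C] [CartesianMonoidalCategory C]

/-- A morphism of group objects compatible with multiplication is a homomorphism. -/
theorem isMonHom_of_mul_hom {G H : C} [GrpObj G] [GrpObj H] (f : G ⟶ H)
    (h : μ[G] ≫ f = (f ⊗ₘ f) ≫ μ[H]) : IsMonHom f := by
  refine ⟨?_, h⟩
  have hmul : ∀ (X : C) (x y : X ⟶ G), (x * y) ≫ f = (x ≫ f) * (y ≫ f) := by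
    intro X x y
    rw [Hom.mul_def, Hom.mul_def, Category.assoc, h, ← Category.assoc]
    congr 1
    ext <;> simp
  have h1 : (η[G] ≫ f) * (η[G] ≫ f) = η[G] ≫ f := by
    rw [← hmul]
    have : (η[G] : 𝟙_ C ⟶ G) = 1 := by
      rw [Hom.one_def]
      simp
    rw [this, _root_.mul_one]
  have h2 : η[G] ≫ f = 1 := by
    have := mul_left_cancel (a := η[G] ≫ f) (b := η[G] ≫ f) (c := 1) (by rw [h1, _root_.mul_one])
    exact this
  rw [h2, Hom.one_def]
  simp

end mon

section monF
variable {C D : Type*} [Category C] [Category D] [CartesianMonoidalCategory C]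
  [CartesianMonoidalCategory D] (F : C ⥤ D) [F.Monoidal]

open Functor.LaxMonoidal Functor.Monoidal
open scoped Obj

theorem map_mul_hom_of_isMonHom {G H : C} [MonObj G] [MonObj H] (u : G ⟶ H)
    [IsMonHom (F.map u)] : F.map (μ[G] ≫ u) = F.map ((u ⊗ₘ u) ≫ μ[H]) := by
  have h := IsMonHom.mul_hom (f := F.map u)
  rw [Functor.obj.μ_def, Functor.obj.μ_def, Category.assoc, ← F.map_comp,
    ← Category.assoc, μ_natural, Category.assoc, ← F.map_comp] at h
  exact (cancel_epi (Functor.LaxMonoidal.μ F G G)).mp h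

theorem isMonHom_map_of_map_mul_hom {G H : C} [GrpObj G] [GrpObj H] (u : G ⟶ H)
    (h : F.map (μ[G] ≫ u) = F.map ((u ⊗ₘ u) ≫ μ[H])) : IsMonHom (F.map u) := by
  apply isMonHom_of_mul_hom
  rw [Functor.obj.μ_def, Functor.obj.μ_def, Category.assoc, ← F.map_comp,
    ← Category.assoc, μ_natural, Category.assoc, ← F.map_comp, h]

end monF

end Groth.Agent.Lib.Helper9.GL
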