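import Mathlib
import Groth.Prelude.Def_Red
import Groth.Agent.Lib.Helper9.GL1
import Groth.Agent.Lib.Helper22.LimBaseChange
set_option autoImplicit false
set_option linter.style.haveILetI false
set_option linter.unusedSectionVars false
set_option linter.unusedVariables false
universe u
open CategoryTheory CategoryTheory.Limits AlgebraicGeometry Opposite MonObj MonoidalCategory CartesianMonoidalCategory

namespace Groth.Agent.Lib.Helper9.GL

open Groth.Agent.Lib.Helper22

variable {I : Type u} [SmallCategory I] [IsCofiltered I] (D : I ⥤ Scheme.{u}) (c : Cone D)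
  (hc : IsLimit c) [∀ (i i' : I) (f : i ⟶ i'), IsAffineHom (D.map f)]
  [∀ i, CompactSpace (D.obj i)]

include hc in
/-- Injectivity: two morphisms of `S_i`-schemes (source quasi-compact, target locally of finite
type) which agree after base change to the limit agree at a later stage. -/
theorem exists_map_eq {i : I} {X Y : Over (D.obj i)} [QuasiCompact X.hom]
    [LocallyOfFiniteType Y.hom] (u₁ u₂ : X ⟶ Y)
    (h : (Over.pullback (c.π.app i)).map u₁ = (Over.pullback (c.π.app i)).map u₂) :
    ∃ (i' : I) (g : i' ⟶ i),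
      (Over.pullback (D.map g)).map u₁ = (Over.pullback (D.map g)).map u₂ := by
  haveI : ∀ {i j : I} (f : i ⟶ j), IsAffineHom (D.map f) := fun f => inferInstance
  haveI : CompactSpace X.left := QuasiCompact.compactSpace_of_compactSpace X.hom
  haveI : ∀ (k k' : Over i) (φ : k ⟶ k'), IsAffineHom ((bcDiag D i X.hom).map φ) :=
    fun _ _ φ => inferInstance
  haveI : ∀ {k k' : Over i} (φ : k ⟶ k'), IsAffineHom ((bcDiag D i X.hom).map φ) :=
    fun φ => inferInstance
  let t : bcDiag D i X.hom ⟶ (Functor.const (Over i)).obj (D.obj i) :=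
    { app := fun k => pullback.snd (D.map k.hom) X.hom ≫ X.hom
      naturality := fun k k' φ => by
        simp only [Functor.const_obj_obj, Functor.const_obj_map, Category.comp_id]
        rw [← Category.assoc, bcDiag_map_snd] }
  let k₀ : Over i := Over.mk (𝟙 i)
  have hfst : pullback.fst X.hom (c.π.app i) ≫ u₁.left = pullback.fst X.hom (c.π.app i) ≫ u₂.left := by
    have h1 : ∀ u : X ⟶ Y, ((Over.pullback (c.π.app i)).map u).left ≫
        pullback.fst Y.hom (c.π.app i) = pullback.fst X.hom (c.π.app i) ≫ u.left :=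
      fun u => pullback.lift_fst _ _ _
    rw [← h1, ← h1, h]
  have hsnd : pullback.snd (c.π.app i) X.hom ≫ u₁.left = pullback.snd (c.π.app i) X.hom ≫ u₂.left := by
    rw [← pullbackSymmetry_hom_comp_fst, Category.assoc, hfst, ← Category.assoc]
  have hab : (bcCone D c i X.hom).π.app k₀ ≫ (pullback.snd (D.map k₀.hom) X.hom ≫ u₁.left) =
      (bcCone D c i X.hom).π.app k₀ ≫ (pullback.snd (D.map k₀.hom) X.hom ≫ u₂.left) := by
    rw [← Category.assoc, ← Category.assoc, bcCone_π_snd]
    exact hsnd
  obtain ⟨k, hik, heq⟩ := Scheme.exists_hom_comp_eq_comp_of_locallyOfFiniteType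
    (bcDiag D i X.hom) t Y.hom (bcCone D c i X.hom) (bcIsLimit D hc i X.hom) (i := k₀)
    (pullback.snd (D.map k₀.hom) X.hom ≫ u₁.left) (pullback.snd (D.map k₀.hom) X.hom ≫ u₂.left)
    (by simp [t]) (by simp [t])
    hab
  refine ⟨k.left, k.hom, ?_⟩
  rw [← Category.assoc, ← Category.assoc, bcDiag_map_snd] at heq
  apply bc_hom_ext
  simp only [Over.pullback_map_left, pullback.lift_fst]
  rw [← pullbackSymmetry_hom_comp_snd, Category.assoc, Category.assoc]
  exact congrArg ((pullbackSymmetry X.hom (D.map k.hom)).hom ≫ ·) heq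

/-- the comparison `(X_{S_{i'}})_S ≅ X_S`, in the syntactic form of the statements -/
noncomputable def cmp {i i' : I} (g : i' ⟶ i) (X : Over (D.obj i)) :
    (Over.pullback (c.π.app i')).obj ((Over.pullback (D.map g)).obj X) ≅
      (Over.pullback (c.π.app i)).obj X :=
  ((Over.pullbackComp (c.π.app i') (D.map g)).app X).symm ≪≫
    eqToIso (congrArg (fun k => Red.bc k X) (c.w g))

theorem cmp_hom_left_fst {i i' : I} (g : i' ⟶ i) (X : Over (D.obj i)) :
    (cmp D c g X).hom.left ≫ pullback.fst X.hom (c.π.app i) =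
      pullback.fst _ _ ≫ pullback.fst _ _ := by
  simp only [cmp, Iso.trans_hom, Iso.symm_hom, Iso.app_inv, eqToIso.hom, Over.comp_left,
    Category.assoc]
  rw [eqToHom_bc_left_fst (c.w g) X, pullbackComp_inv_left_fst]

theorem cmp_inv_left_fst_fst {i i' : I} (g : i' ⟶ i) (X : Over (D.obj i)) :
    (cmp D c g X).inv.left ≫ pullback.fst _ _ ≫ pullback.fst _ _ =
      pullback.fst X.hom (c.π.app i) := by
  rw [← cmp_hom_left_fst, ← Over.comp_left_assoc]
  simp

include hc in
/-- Surjectivity: a morphism between the base changes to the limit of an `S_i`-scheme `X`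
(quasi-compact quasi-separated) and an `S_i`-scheme `Y` locally of finite presentation comes from
a later stage. -/
theorem exists_map_eq_cmp [∀ i, QuasiSeparatedSpace (D.obj i)] {i : I} {X Y : Over (D.obj i)}
    [QuasiCompact X.hom] [QuasiSeparated X.hom] [LocallyOfFinitePresentation Y.hom]
    (u : (Over.pullback (c.π.app i)).obj X ⟶ (Over.pullback (c.π.app i)).obj Y) :
    ∃ (i' : I) (g : i' ⟶ i)
      (u' : (Over.pullback (D.map g)).obj X ⟶ (Over.pullback (D.map g)).obj Y),
      (Over.pullback (c.π.app i')).map u' = (cmp D c g X).hom ≫ u ≫ (cmp D c g Y).inv := by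
  haveI : ∀ {i j : I} (f : i ⟶ j), IsAffineHom (D.map f) := fun f => inferInstance
  haveI : CompactSpace X.left := QuasiCompact.compactSpace_of_compactSpace X.hom
  haveI : QuasiSeparatedSpace X.left := quasiSeparatedSpace_of_quasiSeparated X.hom
  haveI : ∀ (k k' : Over i) (φ : k ⟶ k'), IsAffineHom ((bcDiag D i X.hom).map φ) :=
    fun _ _ φ => inferInstance
  haveI : ∀ {k k' : Over i} (φ : k ⟶ k'), IsAffineHom ((bcDiag D i X.hom).map φ) :=
    fun φ => inferInstance
  haveI : ∀ k : Over i, QuasiSeparatedSpace ((bcDiag D i X.hom).obj k) := fun k => by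
    rw [bcDiag_obj]
    have : IsAffineHom (pullback.snd (D.map k.hom) X.hom) :=
      MorphismProperty.pullback_snd (P := @IsAffineHom) _ _ inferInstance
    exact quasiSeparatedSpace_of_quasiSeparated (pullback.snd (D.map k.hom) X.hom)
  let t : bcDiag D i X.hom ⟶ (Functor.const (Over i)).obj (D.obj i) :=
    { app := fun k => pullback.snd (D.map k.hom) X.hom ≫ X.hom
      naturality := fun k k' φ => by
        simp only [Functor.const_obj_obj, Functor.const_obj_map, Category.comp_id]
        rw [← Category.assoc, bcDiag_map_snd] }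
  let a : pullback (c.π.app i) X.hom ⟶ Y.left :=
    (pullbackSymmetry (c.π.app i) X.hom).hom ≫ u.left ≫ pullback.fst Y.hom (c.π.app i)
  have hu : u.left ≫ pullback.snd Y.hom (c.π.app i) = pullback.snd X.hom (c.π.app i) := Over.w u
  have haux : pullback.snd (c.π.app i) X.hom ≫ X.hom = a ≫ Y.hom := by
    simp only [a, Category.assoc]
    rw [pullback.condition, reassoc_of% hu, pullbackSymmetry_hom_comp_snd_assoc,
      pullback.condition]
  have ha : (bcCone D c i X.hom).π ≫ t = (Functor.const _).map (a ≫ Y.hom) := by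
    ext k
    simp only [NatTrans.comp_app, Functor.const_obj_obj, Functor.const_map_app, t]
    rw [← Category.assoc]
    erw [bcCone_π_snd]
    exact haux
  obtain ⟨k, g'₀, hg1₀, hg2₀⟩ := Scheme.exists_π_app_comp_eq_of_locallyOfFinitePresentation
    (bcDiag D i X.hom) t Y.hom (bcCone D c i X.hom) (bcIsLimit D hc i X.hom) a ha
  let g' : pullback (D.map k.hom) X.hom ⟶ Y.left := g'₀
  have hg2 : g' ≫ Y.hom = pullback.snd (D.map k.hom) X.hom ≫ X.hom := hg2₀
  let πk : pullback (c.π.app i) X.hom ⟶ pullback (D.map k.hom) X.hom :=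
    (bcCone D c i X.hom).π.app k
  have hπfst : πk ≫ pullback.fst (D.map k.hom) X.hom =
      pullback.fst (c.π.app i) X.hom ≫ c.π.app k.left := bcCone_π_fst D c i X.hom k
  have hπsnd : πk ≫ pullback.snd (D.map k.hom) X.hom = pullback.snd (c.π.app i) X.hom :=
    bcCone_π_snd D c i X.hom k
  have hg1 : πk ≫ g' = a := hg1₀
  have hcond : ((pullbackSymmetry X.hom (D.map k.hom)).hom ≫ g') ≫ Y.hom =
      pullback.snd X.hom (D.map k.hom) ≫ D.map k.hom := by
    rw [Category.assoc, hg2, pullbackSymmetry_hom_comp_snd_assoc, pullback.condition]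
  let u' : (Over.pullback (D.map k.hom)).obj X ⟶ (Over.pullback (D.map k.hom)).obj Y :=
    Over.homMk (pullback.lift ((pullbackSymmetry X.hom (D.map k.hom)).hom ≫ g')
      (pullback.snd X.hom (D.map k.hom)) hcond) (pullback.lift_snd _ _ _)
  have hu'fst : u'.left ≫ pullback.fst Y.hom (D.map k.hom) =
      (pullbackSymmetry X.hom (D.map k.hom)).hom ≫ g' := pullback.lift_fst _ _ _
  refine ⟨k.left, k.hom, u', ?_⟩
  rw [← Category.assoc, Iso.eq_comp_inv]
  apply bc_hom_ext
  simp only [Over.comp_left, Category.assoc]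
  rw [cmp_hom_left_fst]
  have e1 : ((Over.pullback (c.π.app k.left)).map u').left ≫ pullback.fst _ _ =
      pullback.fst _ _ ≫ u'.left := pullback.lift_fst _ _ _
  rw [reassoc_of% e1, hu'fst]
  -- key comparison of the two maps to the stage
  have key : pullback.fst ((Over.pullback (D.map k.hom)).obj X).hom (c.π.app k.left) ≫
      (pullbackSymmetry X.hom (D.map k.hom)).hom =
      (cmp D c k.hom X).hom.left ≫ (pullbackSymmetry (c.π.app i) X.hom).inv ≫ πk := by
    apply pullback.hom_ext
    · simp only [Category.assoc]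
      rw [pullbackSymmetry_hom_comp_fst, hπfst, pullbackSymmetry_inv_comp_fst_assoc]
      have hw := Over.w (cmp D c k.hom X).hom
      simp only [Over.pullback_obj_hom] at hw
      rw [reassoc_of% hw]
      exact pullback.condition
    · simp only [Category.assoc]
      rw [pullbackSymmetry_hom_comp_snd, hπsnd, pullbackSymmetry_inv_comp_snd, cmp_hom_left_fst]
  rw [reassoc_of% key, hg1]
  simp only [a, Iso.inv_hom_id_assoc]

end Groth.Agent.Lib.Helper9.GL
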