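import Mathlib
import Groth.Prelude.Def_Red
import Groth.Agent.Lib.Helper9.GL2
set_option autoImplicit false
set_option linter.style.haveILetI false
set_option linter.unusedSectionVars false
set_option linter.unusedVariables false
universe u
open CategoryTheory CategoryTheory.Limits AlgebraicGeometry Opposite MonObj MonoidalCategory CartesianMonoidalCategory

namespace Groth.Agent.Lib.Helper9.GL

open Groth.Agent.Lib.Helper22
open scoped Obj
open Functor.LaxMonoidal Functor.Monoidal

section generic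
variable {C D E : Type*} [Category C] [Category D] [Category E]
  [MonoidalCategory C] [MonoidalCategory D] [MonoidalCategory E]

theorem isMonHom_app (F G : C ⥤ D) [F.LaxMonoidal] [G.LaxMonoidal] (α : F ⟶ G)
    [NatTrans.IsMonoidal α] (X : C) [MonObj X] : IsMonHom (α.app X) where
  one_hom := by
    rw [Functor.obj.η_def, Functor.obj.η_def, Category.assoc, α.naturality,
      ← Category.assoc, NatTrans.IsMonoidal.unit]
  mul_hom := by
    rw [Functor.obj.μ_def, Functor.obj.μ_def, Category.assoc, α.naturality,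
      ← Category.assoc, ← Category.assoc, NatTrans.IsMonoidal.tensor]

theorem comp_one' (F : C ⥤ D) (G : D ⥤ E) [F.LaxMonoidal] [G.LaxMonoidal] (X : C) [MonObj X] :
    (η : 𝟙_ E ⟶ (F ⋙ G).obj X) = (η : 𝟙_ E ⟶ G.obj (F.obj X)) := by
  rw [Functor.obj.η_def, Functor.obj.η_def, Functor.obj.η_def]
  simp

theorem comp_mul' (F : C ⥤ D) (G : D ⥤ E) [F.LaxMonoidal] [G.LaxMonoidal] (X : C) [MonObj X] :
    (μ : (F ⋙ G).obj X ⊗ (F ⋙ G).obj X ⟶ (F ⋙ G).obj X) =
      (μ : G.obj (F.obj X) ⊗ G.obj (F.obj X) ⟶ G.obj (F.obj X)) := by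
  rw [Functor.obj.μ_def, Functor.obj.μ_def, Functor.obj.μ_def]
  simp

end generic

section sch
variable {S₀ S₁ S₂ : Scheme.{u}}

theorem isMonHom_pullbackComp_inv (f : S₂ ⟶ S₁) (g : S₁ ⟶ S₀) (X : Over S₀) [GrpObj X] :
    IsMonHom (M := Red.bc f (Red.bc g X)) (N := Red.bc (f ≫ g) X)
      ((Over.pullbackComp f g).inv.app X) := by
  have h := isMonHom_app (Over.pullback g ⋙ Over.pullback f) (Over.pullback (f ≫ g))
    (Over.pullbackComp f g).inv X
  refine ⟨?_, ?_⟩
  · have := h.one_hom; rw [comp_one'] at this; exact this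
  · have := h.mul_hom; rw [comp_mul'] at this; exact this

theorem isMonHom_pullbackComp_hom (f : S₂ ⟶ S₁) (g : S₁ ⟶ S₀) (X : Over S₀) [GrpObj X] :
    IsMonHom (M := Red.bc (f ≫ g) X) (N := Red.bc f (Red.bc g X))
      ((Over.pullbackComp f g).hom.app X) := by
  have h := isMonHom_app (Over.pullback (f ≫ g)) (Over.pullback g ⋙ Over.pullback f)
    (Over.pullbackComp f g).hom X
  refine ⟨?_, ?_⟩
  · have := h.one_hom; rw [comp_one'] at this; exact this
  · have := h.mul_hom; rw [comp_mul'] at this; exact this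

theorem isMonHom_eqToHom {φ ψ : S₁ ⟶ S₀} (h : φ = ψ) (X : Over S₀) [GrpObj X] :
    IsMonHom (eqToHom (congrArg (fun φ => Red.bc φ X) h)) := by
  subst h
  simp only [eqToHom_refl]
  infer_instance

end sch

variable {I : Type u} [SmallCategory I] [IsCofiltered I] (D : I ⥤ Scheme.{u}) (c : Cone D)
  (hc : IsLimit c) [∀ (i i' : I) (f : i ⟶ i'), IsAffineHom (D.map f)]
  [∀ i, CompactSpace (D.obj i)]

instance isMonHom_cmp_hom {i i' : I} (g : i' ⟶ i) (X : Over (D.obj i)) [GrpObj X] :
    IsMonHom (cmp D c g X).hom := by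
  haveI := isMonHom_pullbackComp_inv (c.π.app i') (D.map g) X
  haveI := isMonHom_eqToHom (c.w g) X
  simp only [cmp, Iso.trans_hom, Iso.symm_hom, Iso.app_inv, eqToIso.hom]
  exact instIsMonHomComp (M := Red.bc (c.π.app i') (Red.bc (D.map g) X))
    (N := Red.bc (c.π.app i' ≫ D.map g) X) (O := Red.bc (c.π.app i) X) _ _

instance isMonHom_cmp_inv {i i' : I} (g : i' ⟶ i) (X : Over (D.obj i)) [GrpObj X] :
    IsMonHom (cmp D c g X).inv := inferInstance

/-- transitivity comparison between stages -/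
noncomputable def tau {i i' i'' : I} (g : i'' ⟶ i') (f : i' ⟶ i) (X : Over (D.obj i)) :
    (Over.pullback (D.map (g ≫ f))).obj X ≅
      (Over.pullback (D.map g)).obj ((Over.pullback (D.map f)).obj X) :=
  eqToIso (congrArg (fun k => Red.bc k X) (D.map_comp g f)) ≪≫
    (Over.pullbackComp (D.map g) (D.map f)).app X

theorem tau_hom_left_fst_fst {i i' i'' : I} (g : i'' ⟶ i') (f : i' ⟶ i) (X : Over (D.obj i)) :
    (tau D g f X).hom.left ≫ pullback.fst _ _ ≫ pullback.fst _ _ =
      pullback.fst X.hom (D.map (g ≫ f)) := by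
  simp only [tau, Iso.trans_hom, eqToIso.hom, Iso.app_hom, Over.comp_left, Category.assoc]
  rw [pullbackComp_hom_left_fst_fst, eqToHom_bc_left_fst (D.map_comp g f) X]

theorem tau_inv_left_fst {i i' i'' : I} (g : i'' ⟶ i') (f : i' ⟶ i) (X : Over (D.obj i)) :
    (tau D g f X).inv.left ≫ pullback.fst X.hom (D.map (g ≫ f)) =
      pullback.fst _ _ ≫ pullback.fst _ _ := by
  rw [← tau_hom_left_fst_fst, ← Over.comp_left_assoc]
  simp

instance isMonHom_tau_hom {i i' i'' : I} (g : i'' ⟶ i') (f : i' ⟶ i) (X : Over (D.obj i))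
    [GrpObj X] : IsMonHom (tau D g f X).hom := by
  haveI := isMonHom_pullbackComp_hom (D.map g) (D.map f) X
  haveI := isMonHom_eqToHom (D.map_comp g f) X
  simp only [tau, Iso.trans_hom, eqToIso.hom, Iso.app_hom]
  exact instIsMonHomComp (M := Red.bc (D.map (g ≫ f)) X)
    (N := Red.bc (D.map g ≫ D.map f) X) (O := Red.bc (D.map g) (Red.bc (D.map f) X)) _ _

instance isMonHom_tau_inv {i i' i'' : I} (g : i'' ⟶ i') (f : i' ⟶ i) (X : Over (D.obj i))
    [GrpObj X] : IsMonHom (tau D g f X).inv := inferInstance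

theorem cmp_naturality {i i' : I} (g : i' ⟶ i) {X Y : Over (D.obj i)} (v : X ⟶ Y) :
    (Over.pullback (c.π.app i')).map ((Over.pullback (D.map g)).map v) ≫ (cmp D c g Y).hom =
      (cmp D c g X).hom ≫ (Over.pullback (c.π.app i)).map v := by
  apply bc_hom_ext
  simp only [Over.comp_left, Category.assoc]
  rw [cmp_hom_left_fst]
  have e1 : ∀ {S S' : Scheme.{u}} (f : S' ⟶ S) {A B : Over S} (w : A ⟶ B),
      ((Over.pullback f).map w).left ≫ pullback.fst B.hom f = pullback.fst A.hom f ≫ w.left :=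
    fun f _ _ w => pullback.lift_fst _ _ _
  rw [reassoc_of% (e1 (c.π.app i') ((Over.pullback (D.map g)).map v)), e1 (D.map g) v,
    e1 (c.π.app i) v, reassoc_of% (cmp_hom_left_fst D c g X)]

theorem cmp_coherence {i i' i'' : I} (g : i'' ⟶ i') (f : i' ⟶ i) (X : Over (D.obj i)) :
    (Over.pullback (c.π.app i'')).map (tau D g f X).hom ≫
      (cmp D c g ((Over.pullback (D.map f)).obj X)).hom ≫ (cmp D c f X).hom =
      (cmp D c (g ≫ f) X).hom := by
  apply bc_hom_ext
  simp only [Over.comp_left, Category.assoc]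
  rw [cmp_hom_left_fst, cmp_hom_left_fst, reassoc_of% (cmp_hom_left_fst D c g _)]
  have e1 : ∀ {S S' : Scheme.{u}} (f : S' ⟶ S) {A B : Over S} (w : A ⟶ B),
      ((Over.pullback f).map w).left ≫ pullback.fst B.hom f = pullback.fst A.hom f ≫ w.left :=
    fun f _ _ w => pullback.lift_fst _ _ _
  rw [reassoc_of% (e1 (c.π.app i'') (tau D g f X).hom), tau_hom_left_fst_fst]

end Groth.Agent.Lib.Helper9.GL
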