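import Mathlib
import Groth.Prelude.Def_Red
import Groth.Agent.Lib.Helper9.GL3
set_option autoImplicit false
set_option linter.style.haveILetI false
set_option linter.unusedSectionVars false
set_option linter.unusedVariables false
universe u
open CategoryTheory CategoryTheory.Limits AlgebraicGeometry Opposite MonObj MonoidalCategory CartesianMonoidalCategory

namespace Groth.Agent.Lib.Helper9.GL

open Groth.Agent.Lib.Helper22
open scoped Obj
open Functor.LaxMonoidal Functor.Monoidal

variable {I : Type u} [SmallCategory I] [IsCofiltered I] (D : I ⥤ Scheme.{u}) (c : Cone D)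
  (hc : IsLimit c) [∀ (i i' : I) (f : i ⟶ i'), IsAffineHom (D.map f)]
  [∀ i, CompactSpace (D.obj i)]

instance quasiCompact_tensor_hom {S : Scheme.{u}} (X Y : Over S) [QuasiCompact X.hom]
    [QuasiCompact Y.hom] : QuasiCompact (X ⊗ Y).hom := by
  rw [Over.tensorObj_hom]
  infer_instance

instance quasiCompact_bc_hom {S S' : Scheme.{u}} (f : S' ⟶ S) (X : Over S) [QuasiCompact X.hom] :
    QuasiCompact ((Over.pullback f).obj X).hom := by
  change QuasiCompact (pullback.snd _ _)
  infer_instance

instance quasiSeparated_bc_hom {S S' : Scheme.{u}} (f : S' ⟶ S) (X : Over S)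
    [QuasiSeparated X.hom] : QuasiSeparated ((Over.pullback f).obj X).hom := by
  change QuasiSeparated (pullback.snd _ _)
  infer_instance

instance lfp_bc_hom {S S' : Scheme.{u}} (f : S' ⟶ S) (X : Over S)
    [LocallyOfFinitePresentation X.hom] :
    LocallyOfFinitePresentation ((Over.pullback f).obj X).hom := by
  change LocallyOfFinitePresentation (pullback.snd _ _)
  infer_instance

instance lft_bc_hom {S S' : Scheme.{u}} (f : S' ⟶ S) (X : Over S)
    [LocallyOfFiniteType X.hom] :
    LocallyOfFiniteType ((Over.pullback f).obj X).hom := by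
  change LocallyOfFiniteType (pullback.snd _ _)
  infer_instance

include hc in
/-- A morphism of `S_i`-groups whose base change to the limit is a homomorphism becomes a
homomorphism at a later stage. -/
theorem exists_isMonHom_map {i : I} {X Y : Over (D.obj i)} [GrpObj X] [GrpObj Y]
    [QuasiCompact X.hom] [LocallyOfFiniteType Y.hom] (u' : X ⟶ Y)
    (h : IsMonHom ((Over.pullback (c.π.app i)).map u')) :
    ∃ (i' : I) (g : i' ⟶ i), IsMonHom ((Over.pullback (D.map g)).map u') := by
  have h1 := map_mul_hom_of_isMonHom (Over.pullback (c.π.app i)) u'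
  obtain ⟨i', g, hg⟩ := exists_map_eq D c hc (μ[X] ≫ u') ((u' ⊗ₘ u') ≫ μ[Y]) h1
  exact ⟨i', g, isMonHom_map_of_map_mul_hom (Over.pullback (D.map g)) u' hg⟩

include hc in
/-- Surjectivity for homomorphisms. -/
theorem exists_isMonHom_map_eq_cmp [∀ i, QuasiSeparatedSpace (D.obj i)] {i : I}
    {X Y : Over (D.obj i)} [GrpObj X] [GrpObj Y]
    [QuasiCompact X.hom] [QuasiSeparated X.hom] [LocallyOfFinitePresentation Y.hom]
    (u : (Over.pullback (c.π.app i)).obj X ⟶ (Over.pullback (c.π.app i)).obj Y) (hu : IsMonHom u) :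
    ∃ (i' : I) (g : i' ⟶ i)
      (u' : (Over.pullback (D.map g)).obj X ⟶ (Over.pullback (D.map g)).obj Y),
      IsMonHom u' ∧
      (Over.pullback (c.π.app i')).map u' = (cmp D c g X).hom ≫ u ≫ (cmp D c g Y).inv := by
  obtain ⟨i₁, g₁, u₁, h₁⟩ := exists_map_eq_cmp D c hc u
  have hm₁ : IsMonHom ((Over.pullback (c.π.app i₁)).map u₁) := by
    rw [h₁]
    infer_instance
  obtain ⟨i₂, g₂, hm₂⟩ := exists_isMonHom_map D c hc u₁ hm₁
  refine ⟨i₂, g₂ ≫ g₁, (tau D g₂ g₁ X).hom ≫ (Over.pullback (D.map g₂)).map u₁ ≫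
    (tau D g₂ g₁ Y).inv, inferInstance, ?_⟩
  rw [← Category.assoc (cmp D c (g₂ ≫ g₁) X).hom, Iso.eq_comp_inv, ← cmp_coherence D c g₂ g₁ X,
    ← cmp_coherence D c g₂ g₁ Y]
  simp only [Functor.map_comp, Category.assoc]
  rw [← Functor.map_comp_assoc (Over.pullback (c.π.app i₂)) (tau D g₂ g₁ Y).inv,
    Iso.inv_hom_id, CategoryTheory.Functor.map_id, Category.id_comp,
    reassoc_of% (cmp_naturality D c g₂ u₁), h₁]
  simp

end Groth.Agent.Lib.Helper9.GL
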