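import Mathlib
import Groth.Prelude.Def_Red
import Groth.Agent.Lib.Helper9.GL4
set_option autoImplicit false
set_option linter.style.haveILetI false
set_option linter.unusedSectionVars false
set_option linter.unusedVariables false
universe u
open CategoryTheory CategoryTheory.Limits AlgebraicGeometry Opposite MonObj MonoidalCategory CartesianMonoidalCategory

namespace Groth.Agent.Lib.Helper9.GL

open Groth.Agent.Lib.Helper22
open scoped Obj
open Functor.LaxMonoidal Functor.Monoidal

section grp
variable {S : Scheme.{u}} {N G : Over S} [GrpObj N] [GrpObj G]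

/-- the universal conjugate `(g, n) ↦ g u(n) g⁻¹` -/
noncomputable def conjU (u : N ⟶ G) : G ⊗ N ⟶ G := fst G N * (snd G N ≫ u) * (fst G N)⁻¹

theorem lift_comp_conjU (u : N ⟶ G) {T : Over S} (g : T ⟶ G) (n : T ⟶ N) :
    lift g n ≫ conjU u = g * (n ≫ u) * g⁻¹ := by
  simp only [conjU, MonObj.comp_mul, GrpObj.comp_inv, lift_fst, lift_snd_assoc]

theorem isNormalHom_iff (u : N ⟶ G) :
    AlgGrp.IsNormalHom u ↔ ∃ ψ : G ⊗ N ⟶ N, ψ ≫ u = conjU u := by
  constructor
  · intro h
    obtain ⟨n', hn'⟩ := h (G ⊗ N) (fst G N) (snd G N)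
    exact ⟨n', hn'.symm⟩
  · rintro ⟨ψ, hψ⟩ T g n
    exact ⟨lift g n ≫ ψ, by rw [Category.assoc, hψ, lift_comp_conjU]⟩

/-- centrality of a homomorphism, on points -/
def IsCentralHom (u : N ⟶ G) : Prop :=
  ∀ (T : Over S) (g : T ⟶ G) (n : T ⟶ N), g * (n ≫ u) = (n ≫ u) * g

theorem isCentralHom_iff (u : N ⟶ G) :
    IsCentralHom u ↔ fst G N * (snd G N ≫ u) = (snd G N ≫ u) * fst G N := by
  constructor
  · intro h
    exact h (G ⊗ N) (fst G N) (snd G N)
  · intro h T g n
    have := congrArg (fun k => lift g n ≫ k) h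
    simpa only [MonObj.comp_mul, lift_fst, lift_snd_assoc] using this

end grp

section bc
variable {S S' : Scheme.{u}} (f : S' ⟶ S) {N G : Over S} [GrpObj N] [GrpObj G]

theorem map_conjU_eq (u : N ⟶ G) {T : Over S'} (g : T ⟶ (Over.pullback f).obj G)
    (n : T ⟶ (Over.pullback f).obj N) :
    lift g n ≫ Functor.LaxMonoidal.μ (Over.pullback f) G N ≫ (Over.pullback f).map (conjU u) =
      g * (n ≫ (Over.pullback f).map u) * g⁻¹ := by
  simp only [conjU, Functor.map_mul, Functor.map_inv', MonObj.comp_mul, GrpObj.comp_inv,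
    Functor.map_comp]
  rw [μ_fst, ← Category.assoc (Functor.LaxMonoidal.μ (Over.pullback f) G N), μ_snd]
  simp only [lift_fst, lift_snd_assoc]

theorem isNormalHom_map_of_exists (u : N ⟶ G)
    (h : ∃ ψ : (Over.pullback f).obj (G ⊗ N) ⟶ (Over.pullback f).obj N,
      ψ ≫ (Over.pullback f).map u = (Over.pullback f).map (conjU u)) :
    AlgGrp.IsNormalHom ((Over.pullback f).map u) := by
  obtain ⟨ψ, hψ⟩ := h
  intro T g n
  refine ⟨lift g n ≫ Functor.LaxMonoidal.μ (Over.pullback f) G N ≫ ψ, ?_⟩
  rw [Category.assoc, Category.assoc, hψ, map_conjU_eq]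

theorem exists_of_isNormalHom_map (u : N ⟶ G)
    (h : AlgGrp.IsNormalHom ((Over.pullback f).map u)) :
    ∃ ψ : (Over.pullback f).obj (G ⊗ N) ⟶ (Over.pullback f).obj N,
      ψ ≫ (Over.pullback f).map u = (Over.pullback f).map (conjU u) := by
  obtain ⟨n', hn'⟩ := h ((Over.pullback f).obj (G ⊗ N)) ((Over.pullback f).map (fst G N))
    ((Over.pullback f).map (snd G N))
  refine ⟨n', ?_⟩
  rw [← hn']
  simp only [conjU, Functor.map_mul, Functor.map_inv', Functor.map_comp]

theorem isNormalHom_map (u : N ⟶ G) (h : AlgGrp.IsNormalHom u) :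
    AlgGrp.IsNormalHom ((Over.pullback f).map u) := by
  obtain ⟨ψ, hψ⟩ := (isNormalHom_iff u).mp h
  exact isNormalHom_map_of_exists f u ⟨(Over.pullback f).map ψ, by rw [← Functor.map_comp, hψ]⟩

theorem isCentralHom_map_iff (u : N ⟶ G) :
    IsCentralHom ((Over.pullback f).map u) ↔
      (Over.pullback f).map (fst G N * (snd G N ≫ u)) =
        (Over.pullback f).map ((snd G N ≫ u) * fst G N) := by
  constructor
  · intro h
    have := h ((Over.pullback f).obj (G ⊗ N)) ((Over.pullback f).map (fst G N))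
      ((Over.pullback f).map (snd G N))
    simpa only [Functor.map_mul, Functor.map_comp] using this
  · intro h T g n
    have := congrArg (fun k => lift g n ≫ Functor.LaxMonoidal.μ (Over.pullback f) G N ≫ k) h
    simp only [Functor.map_mul, Functor.map_comp, MonObj.comp_mul] at this
    rw [μ_fst, ← Category.assoc (Functor.LaxMonoidal.μ (Over.pullback f) G N), μ_snd] at this
    simpa only [lift_fst, lift_snd_assoc] using this

theorem isCentralHom_map (u : N ⟶ G) (h : IsCentralHom u) :
    IsCentralHom ((Over.pullback f).map u) := by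
  rw [isCentralHom_map_iff]
  rw [isCentralHom_iff] at h
  rw [h]

end bc

end Groth.Agent.Lib.Helper9.GL
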