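import Mathlib
import Groth.Prelude.Def_Red
import Groth.Agent.Lib.Helper9.GL5
set_option autoImplicit false
set_option linter.style.haveILetI false
set_option linter.unusedSectionVars false
set_option linter.unusedVariables false
universe u
open CategoryTheory CategoryTheory.Limits AlgebraicGeometry Opposite MonObj MonoidalCategory CartesianMonoidalCategory

namespace Groth.Agent.Lib.Helper9.GL

open Groth.Agent.Lib.Helper22
open scoped Obj
open Functor.LaxMonoidal Functor.Monoidal

variable {I : Type u} [SmallCategory I] [IsCofiltered I] (D : I ⥤ Scheme.{u}) (c : Cone D)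
  (hc : IsLimit c) [∀ (i i' : I) (f : i ⟶ i'), IsAffineHom (D.map f)]
  [∀ i, CompactSpace (D.obj i)]

theorem map_left_fst {S S' : Scheme.{u}} (f : S' ⟶ S) {A B : Over S} (w : A ⟶ B) :
    ((Over.pullback f).map w).left ≫ pullback.fst B.hom f = pullback.fst A.hom f ≫ w.left :=
  pullback.lift_fst _ _ _

theorem bc_hom_ext₂ {S S' S'' : Scheme.{u}} (g : S'' ⟶ S') (f : S' ⟶ S) {Z : Over S''}
    {Y : Over S} (v₁ v₂ : Z ⟶ (Over.pullback g).obj ((Over.pullback f).obj Y))
    (h : v₁.left ≫ pullback.fst _ _ ≫ pullback.fst _ _ =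
      v₂.left ≫ pullback.fst _ _ ≫ pullback.fst _ _) : v₁ = v₂ := by
  apply bc_hom_ext
  apply pullback.hom_ext
  · simpa only [Category.assoc] using h
  · have e : pullback.fst ((Over.pullback f).obj Y).hom g ≫ pullback.snd Y.hom f =
        pullback.snd ((Over.pullback f).obj Y).hom g ≫ g := pullback.condition
    have h1 : v₁.left ≫ pullback.snd ((Over.pullback f).obj Y).hom g = Z.hom := Over.w v₁
    have h2 : v₂.left ≫ pullback.snd ((Over.pullback f).obj Y).hom g = Z.hom := Over.w v₂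
    simp only [Category.assoc]
    rw [e, reassoc_of% h1, reassoc_of% h2]

theorem cmp_inv_naturality {i i' : I} (g : i' ⟶ i) {X Y : Over (D.obj i)} (v : X ⟶ Y) :
    (cmp D c g X).inv ≫ (Over.pullback (c.π.app i')).map ((Over.pullback (D.map g)).map v) =
      (Over.pullback (c.π.app i)).map v ≫ (cmp D c g Y).inv := by
  rw [Iso.inv_comp_eq, ← Category.assoc, Iso.eq_comp_inv, cmp_naturality]

theorem tau_naturality {i i' i'' : I} (g : i'' ⟶ i') (f : i' ⟶ i) {X Y : Over (D.obj i)}
    (v : X ⟶ Y) :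
    (Over.pullback (D.map (g ≫ f))).map v ≫ (tau D g f Y).hom =
      (tau D g f X).hom ≫ (Over.pullback (D.map g)).map ((Over.pullback (D.map f)).map v) := by
  apply bc_hom_ext₂
  simp only [Over.comp_left, Category.assoc]
  rw [tau_hom_left_fst_fst, map_left_fst,
    reassoc_of% (map_left_fst (D.map g) ((Over.pullback (D.map f)).map v)), map_left_fst,
    reassoc_of% (tau_hom_left_fst_fst D g f X)]

theorem tau_inv_naturality {i i' i'' : I} (g : i'' ⟶ i') (f : i' ⟶ i) {X Y : Over (D.obj i)}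
    (v : X ⟶ Y) :
    (tau D g f X).inv ≫ (Over.pullback (D.map (g ≫ f))).map v =
      (Over.pullback (D.map g)).map ((Over.pullback (D.map f)).map v) ≫ (tau D g f Y).inv := by
  rw [Iso.inv_comp_eq, ← Category.assoc, Iso.eq_comp_inv, tau_naturality]

theorem map_eq_later {i i' i'' : I} (g : i'' ⟶ i') (f : i' ⟶ i) {X Y : Over (D.obj i)}
    (a b : X ⟶ Y) (h : (Over.pullback (D.map f)).map a = (Over.pullback (D.map f)).map b) :
    (Over.pullback (D.map (g ≫ f))).map a = (Over.pullback (D.map (g ≫ f))).map b := by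
  rw [← cancel_mono (tau D g f Y).hom, tau_naturality, tau_naturality, h]

theorem map_eq_limit {i i' : I} (f : i' ⟶ i) {X Y : Over (D.obj i)}
    (a b : X ⟶ Y) (h : (Over.pullback (D.map f)).map a = (Over.pullback (D.map f)).map b) :
    (Over.pullback (c.π.app i)).map a = (Over.pullback (c.π.app i)).map b := by
  rw [← cancel_epi (cmp D c f X).hom, ← cmp_naturality, ← cmp_naturality, h]

theorem mono_later {i i' i'' : I} (g : i'' ⟶ i') (f : i' ⟶ i) {X Y : Over (D.obj i)}
    (v : X ⟶ Y) (h : Mono ((Over.pullback (D.map f)).map v)) :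
    Mono ((Over.pullback (D.map (g ≫ f))).map v) := by
  have e : (Over.pullback (D.map (g ≫ f))).map v =
      (tau D g f X).hom ≫ (Over.pullback (D.map g)).map ((Over.pullback (D.map f)).map v) ≫
        (tau D g f Y).inv := by
    rw [← Category.assoc, Iso.eq_comp_inv, tau_naturality]
  rw [e]
  infer_instance

theorem mono_limit {i i' : I} (f : i' ⟶ i) {X Y : Over (D.obj i)}
    (v : X ⟶ Y) (h : Mono ((Over.pullback (D.map f)).map v)) :
    Mono ((Over.pullback (c.π.app i)).map v) := by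
  have e : (Over.pullback (c.π.app i)).map v =
      (cmp D c f X).inv ≫ (Over.pullback (c.π.app i')).map ((Over.pullback (D.map f)).map v) ≫
        (cmp D c f Y).hom := by
    rw [Iso.eq_inv_comp, cmp_naturality]
  rw [e]
  infer_instance

section normal
variable {i : I} {N G : Over (D.obj i)} [GrpObj N] [GrpObj G] (u : N ⟶ G)

/-- normality at the stage `f`, in lifted form -/
def NormalAt {i' : I} (f : i' ⟶ i) : Prop :=
  ∃ ψ : (Over.pullback (D.map f)).obj (G ⊗ N) ⟶ (Over.pullback (D.map f)).obj N,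
    ψ ≫ (Over.pullback (D.map f)).map u = (Over.pullback (D.map f)).map (conjU u)

theorem normalAt_iff {i' : I} (f : i' ⟶ i) :
    NormalAt D u f ↔ AlgGrp.IsNormalHom ((Over.pullback (D.map f)).map u) :=
  ⟨isNormalHom_map_of_exists _ u, exists_of_isNormalHom_map _ u⟩

theorem normalAt_later {i' i'' : I} (g : i'' ⟶ i') (f : i' ⟶ i) (h : NormalAt D u f) :
    NormalAt D u (g ≫ f) := by
  obtain ⟨ψ, hψ⟩ := h
  refine ⟨(tau D g f (G ⊗ N)).hom ≫ (Over.pullback (D.map g)).map ψ ≫ (tau D g f N).inv, ?_⟩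
  simp only [Category.assoc]
  rw [tau_inv_naturality, ← Functor.map_comp_assoc, hψ, ← tau_inv_naturality,
    Iso.hom_inv_id_assoc]

theorem normal_limit {i' : I} (f : i' ⟶ i) (h : NormalAt D u f) :
    AlgGrp.IsNormalHom ((Over.pullback (c.π.app i)).map u) := by
  obtain ⟨ψ, hψ⟩ := h
  apply isNormalHom_map_of_exists
  refine ⟨(cmp D c f (G ⊗ N)).inv ≫ (Over.pullback (c.π.app i')).map ψ ≫ (cmp D c f N).hom, ?_⟩
  simp only [Category.assoc]
  rw [← cmp_naturality, ← Functor.map_comp_assoc, hψ, cmp_naturality, Iso.inv_hom_id_assoc]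

include hc in
theorem exists_normalAt [∀ i, QuasiSeparatedSpace (D.obj i)]
    [QuasiCompact G.hom] [QuasiSeparated G.hom] [LocallyOfFiniteType G.hom]
    [QuasiCompact N.hom] [QuasiSeparated N.hom] [LocallyOfFinitePresentation N.hom]
    (h : AlgGrp.IsNormalHom ((Over.pullback (c.π.app i)).map u)) :
    ∃ (i' : I) (f : i' ⟶ i), NormalAt D u f := by
  obtain ⟨n', hn'⟩ := exists_of_isNormalHom_map _ u h
  haveI : QuasiSeparated (G ⊗ N).hom := by
    rw [Over.tensorObj_hom]
    infer_instance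
  obtain ⟨i₁, f₁, ψ₁, hψ₁⟩ := exists_map_eq_cmp D c hc (X := G ⊗ N) (Y := N) n'
  have hPi : (Over.pullback (c.π.app i₁)).map (ψ₁ ≫ (Over.pullback (D.map f₁)).map u) =
      (Over.pullback (c.π.app i₁)).map ((Over.pullback (D.map f₁)).map (conjU u)) := by
    rw [Functor.map_comp, hψ₁]
    simp only [Category.assoc]
    rw [cmp_inv_naturality, reassoc_of% hn', ← cmp_inv_naturality, Iso.hom_inv_id_assoc]
  obtain ⟨i₂, g₂, h₂⟩ := exists_map_eq D c hc _ _ hPi
  refine ⟨i₂, g₂ ≫ f₁, (tau D g₂ f₁ (G ⊗ N)).hom ≫ (Over.pullback (D.map g₂)).map ψ₁ ≫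
    (tau D g₂ f₁ N).inv, ?_⟩
  simp only [Category.assoc]
  rw [tau_inv_naturality, ← Functor.map_comp_assoc, h₂, ← tau_inv_naturality,
    Iso.hom_inv_id_assoc]

end normal

end Groth.Agent.Lib.Helper9.GL
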