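import Mathlib
import Groth.Prelude.Def_Red
import Groth.Agent.Lib.Helper9.GL6
import Groth.Agent.Lib.Helper13.LimDescendIso
set_option autoImplicit false
set_option linter.style.haveILetI false
set_option linter.unusedSectionVars false
set_option linter.unusedVariables false
universe u
open CategoryTheory CategoryTheory.Limits AlgebraicGeometry Opposite MonObj MonoidalCategory CartesianMonoidalCategory

namespace Groth.Agent.Lib.Helper9.GL

open Groth.Agent.Lib.Helper22

theorem isPullback_map_left {S S' : Scheme.{u}} (g : S' ⟶ S) {A B : Over S} (φ : A ⟶ B) :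
    IsPullback (pullback.fst A.hom g) ((Over.pullback g).map φ).left φ.left
      (pullback.fst B.hom g) := by
  have s : IsPullback (((Over.pullback g).map φ).left ≫ pullback.snd B.hom g)
      (pullback.fst A.hom g) g (φ.left ≫ B.hom) := by
    have h1 : ((Over.pullback g).map φ).left ≫ pullback.snd B.hom g = pullback.snd A.hom g := by
      simp only [Over.pullback_map_left]
      exact pullback.lift_snd _ _ _
    rw [h1, Over.w φ]
    exact (IsPullback.of_hasPullback A.hom g).flip
  exact (IsPullback.of_right s (map_left_fst g φ) (IsPullback.of_hasPullback B.hom g).flip).flip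

section
variable {S S' : Scheme.{u}} {X Y : Over S} (v : X ⟶ Y) (e : S ⟶ S) [IsIso e]

/-- the map `X ⟶ S ×_S Y` used to feed `core_mono` -/
noncomputable def toTriv (he : e = 𝟙 S) : X.left ⟶ pullback e Y.hom :=
  pullback.lift X.hom v.left (by subst he; simp)

theorem toTriv_snd (he : e = 𝟙 S) : toTriv v e he ≫ pullback.snd e Y.hom = v.left :=
  pullback.lift_snd _ _ _

theorem isPullback_toTriv (he : e = 𝟙 S) (g : S' ⟶ S)
    (w : pullback g Y.hom ⟶ pullback e Y.hom)
    (hw : w ≫ pullback.snd e Y.hom = pullback.snd g Y.hom) :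
    IsPullback (((Over.pullback g).map v).left ≫ (pullbackSymmetry Y.hom g).hom)
      (pullback.fst X.hom g) w (toTriv v e he) := by
  have h1 := (isPullback_map_left g v).flip
  have h2 : IsPullback (((Over.pullback g).map v).left ≫ (pullbackSymmetry Y.hom g).hom)
      (pullback.fst X.hom g) (pullback.snd g Y.hom) v.left :=
    IsPullback.of_iso h1 (Iso.refl _) (pullbackSymmetry Y.hom g) (Iso.refl _) (Iso.refl _)
      (by simp) (by simp) (by simp) (by simp)
  haveI : IsIso (pullback.snd e Y.hom) := inferInstance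
  refine IsPullback.of_iso h2 (Iso.refl _) (Iso.refl _) (Iso.refl _)
    (asIso (pullback.snd e Y.hom)).symm (by simp) (by simp) ?_ ?_
  · simp only [Iso.symm_hom, asIso_inv, Iso.refl_hom, Category.id_comp, IsIso.comp_inv_eq]
    exact hw.symm
  · simp only [Iso.symm_hom, asIso_inv, Iso.refl_hom, Category.id_comp, IsIso.comp_inv_eq]
    exact (toTriv_snd v e he).symm

theorem mono_map_iff (he : e = 𝟙 S) (g : S' ⟶ S)
    (w : pullback g Y.hom ⟶ pullback e Y.hom)
    (hw : w ≫ pullback.snd e Y.hom = pullback.snd g Y.hom) :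
    Mono ((Over.pullback g).map v) ↔ Mono (pullback.fst w (toTriv v e he)) := by
  have hP := isPullback_toTriv v e he g w hw
  have e1 : ((Over.pullback g).map v).left ≫ (pullbackSymmetry Y.hom g).hom =
      hP.isoPullback.hom ≫ pullback.fst w (toTriv v e he) := (hP.isoPullback_hom_fst).symm
  constructor
  · intro h
    haveI : Mono ((Over.pullback g).map v).left := Over.mono_left_of_mono _
    have : pullback.fst w (toTriv v e he) = hP.isoPullback.inv ≫
        ((Over.pullback g).map v).left ≫ (pullbackSymmetry Y.hom g).hom := by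
      rw [Iso.eq_inv_comp]
      exact e1.symm
    rw [this]
    infer_instance
  · intro h
    have : ((Over.pullback g).map v).left = (hP.isoPullback.hom ≫
        pullback.fst w (toTriv v e he)) ≫ (pullbackSymmetry Y.hom g).inv := by
      rw [← e1, Category.assoc, Iso.hom_inv_id, Category.comp_id]
    haveI : Mono ((Over.pullback g).map v).left := by
      rw [this]
      infer_instance
    exact Over.mono_of_mono_left _

end

variable {I : Type u} [SmallCategory I] [IsCofiltered I] (D : I ⥤ Scheme.{u}) (c : Cone D)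
  (hc : IsLimit c) [∀ (i i' : I) (f : i ⟶ i'), IsAffineHom (D.map f)]
  [∀ i, CompactSpace (D.obj i)]

include hc in
theorem exists_mono_map [∀ i, QuasiSeparatedSpace (D.obj i)] {i : I} {X Y : Over (D.obj i)}
    [QuasiCompact X.hom] [QuasiSeparated X.hom] [LocallyOfFiniteType X.hom]
    [QuasiCompact Y.hom] [QuasiSeparated Y.hom] (v : X ⟶ Y)
    (h : Mono ((Over.pullback (c.π.app i)).map v)) :
    ∃ (i' : I) (f : i' ⟶ i), Mono ((Over.pullback (D.map f)).map v) := by
  haveI : CompactSpace X.left := QuasiCompact.compactSpace_of_compactSpace X.hom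
  haveI : QuasiSeparatedSpace X.left := quasiSeparatedSpace_of_quasiSeparated X.hom
  haveI : CompactSpace Y.left := QuasiCompact.compactSpace_of_compactSpace Y.hom
  let k₀ : Over i := Over.mk (𝟙 i)
  have he : D.map k₀.hom = 𝟙 (D.obj i) := D.map_id i
  haveI : IsIso (D.map k₀.hom) := he ▸ IsIso.id _
  let a : X.left ⟶ pullback (D.map k₀.hom) Y.hom := toTriv v (D.map k₀.hom) he
  have hsnd : a ≫ pullback.snd (D.map k₀.hom) Y.hom = v.left := toTriv_snd v _ he
  haveI : IsIso (pullback.snd (D.map k₀.hom) Y.hom) := inferInstance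
  haveI : LocallyOfFiniteType (v.left ≫ Y.hom) := by rw [Over.w v]; infer_instance
  haveI : QuasiCompact (v.left ≫ Y.hom) := by rw [Over.w v]; infer_instance
  haveI : QuasiSeparated (v.left ≫ Y.hom) := by rw [Over.w v]; infer_instance
  have hv1 : LocallyOfFiniteType v.left := locallyOfFiniteType_of_comp v.left Y.hom
  have hv2 : QuasiCompact v.left := QuasiCompact.of_comp v.left Y.hom
  have hv3 : QuasiSeparated v.left := QuasiSeparated.of_comp v.left Y.hom
  haveI : LocallyOfFiniteType a :=
    (MorphismProperty.cancel_right_of_respectsIso (P := @LocallyOfFiniteType) a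
      (pullback.snd (D.map k₀.hom) Y.hom)).mp (by rw [hsnd]; exact hv1)
  haveI : QuasiCompact a :=
    (MorphismProperty.cancel_right_of_respectsIso (P := @QuasiCompact) a
      (pullback.snd (D.map k₀.hom) Y.hom)).mp (by rw [hsnd]; exact hv2)
  haveI : QuasiSeparated a :=
    (MorphismProperty.cancel_right_of_respectsIso (P := @QuasiSeparated) a
      (pullback.snd (D.map k₀.hom) Y.hom)).mp (by rw [hsnd]; exact hv3)
  haveI : ∀ (k k' : Over i) (φ : k ⟶ k'), IsAffineHom ((bcDiag D i Y.hom).map φ) :=
    fun _ _ φ => inferInstance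
  let a' : X.left ⟶ (bcDiag D i Y.hom).obj k₀ := a
  haveI : LocallyOfFiniteType a' := ‹LocallyOfFiniteType a›
  haveI : QuasiCompact a' := ‹QuasiCompact a›
  haveI : QuasiSeparated a' := ‹QuasiSeparated a›
  have hlim : Mono (pullback.fst ((bcCone D c i Y.hom).π.app k₀) a) :=
    (mono_map_iff v (D.map k₀.hom) he (c.π.app i) ((bcCone D c i Y.hom).π.app k₀)
      (bcCone_π_snd D c i Y.hom k₀)).mp h
  obtain ⟨k, ψ, hk⟩ := Groth.Agent.Lib.Helper13.LimDescend.core_mono (bcDiag D i Y.hom)
    (bcCone D c i Y.hom) (bcIsLimit D hc i Y.hom) k₀ a' hlim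
  exact ⟨k.left, k.hom, (mono_map_iff v (D.map k₀.hom) he (D.map k.hom)
    ((bcDiag D i Y.hom).map ψ) (bcDiag_map_snd D i Y.hom ψ)).mpr hk⟩

end Groth.Agent.Lib.Helper9.GL
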