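import Mathlib
set_option autoImplicit false
set_option linter.style.haveILetI false
set_option linter.unusedSectionVars false
set_option linter.unusedVariables false
universe u
open CategoryTheory CategoryTheory.Limits Opposite MonoidalCategory CartesianMonoidalCategory

namespace Groth.Agent.Lib.Helper9.GL

open Functor.LaxMonoidal Functor.Monoidal

/-- multiplication, unit and inverse on an object, without axioms -/
structure PreGrp {C : Type*} [Category C] [CartesianMonoidalCategory C] (X : C) where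
  m : X ⊗ X ⟶ X
  e : 𝟙_ C ⟶ X
  v : X ⟶ X

namespace PreGrp

variable {C : Type*} [Category C] [CartesianMonoidalCategory C] {X : C} (P : PreGrp X)

def lhs1 : 𝟙_ C ⊗ X ⟶ X := (P.e ▷ X) ≫ P.m
def rhs1 (_ : PreGrp X) : 𝟙_ C ⊗ X ⟶ X := (λ_ X).hom
def lhs2 : X ⊗ 𝟙_ C ⟶ X := (X ◁ P.e) ≫ P.m
def rhs2 (_ : PreGrp X) : X ⊗ 𝟙_ C ⟶ X := (ρ_ X).hom
def lhs3 : (X ⊗ X) ⊗ X ⟶ X := (P.m ▷ X) ≫ P.m
def rhs3 : (X ⊗ X) ⊗ X ⟶ X := (α_ X X X).hom ≫ (X ◁ P.m) ≫ P.m
def lhs4 : X ⟶ X := lift P.v (𝟙 X) ≫ P.m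
def rhs4 : X ⟶ X := toUnit X ≫ P.e
def lhs5 : X ⟶ X := lift (𝟙 X) P.v ≫ P.m

/-- the group axioms -/
structure IsGrp : Prop where
  h1 : P.lhs1 = P.rhs1
  h2 : P.lhs2 = P.rhs2
  h3 : P.lhs3 = P.rhs3
  h4 : P.lhs4 = P.rhs4
  h5 : P.lhs5 = P.rhs4

/-- the group object defined by data satisfying the axioms -/
@[reducible] def toGrpObj (h : P.IsGrp) : GrpObj X :=
  { one := P.e
    mul := P.m
    one_mul := h.h1
    mul_one := h.h2
    mul_assoc := h.h3
    inv := P.v
    left_inv := h.h4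
    right_inv := h.h5 }

/-- the data of a group object -/
def ofGrpObj (X : C) [GrpObj X] : PreGrp X := ⟨MonObj.mul, MonObj.one, GrpObj.inv⟩

theorem ofGrpObj_isGrp (X : C) [GrpObj X] : (ofGrpObj X).IsGrp :=
  ⟨MonObj.one_mul X, MonObj.mul_one X, MonObj.mul_assoc X, GrpObj.left_inv X, GrpObj.right_inv X⟩

variable {D : Type*} [Category D] [CartesianMonoidalCategory D] (F : C ⥤ D) [F.Monoidal]

/-- image of pre-group data under a monoidal functor -/
def map : PreGrp (F.obj X) := ⟨μ F X X ≫ F.map P.m, ε F ≫ F.map P.e, F.map P.v⟩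

theorem map_lhs1 : (P.map F).lhs1 = ((ε F ▷ F.obj X) ≫ μ F (𝟙_ C) X) ≫ F.map P.lhs1 := by
  simp only [lhs1, map, comp_whiskerRight, Category.assoc, Functor.map_comp,
    μ_natural_left_assoc]

theorem map_rhs1 : (P.map F).rhs1 = ((ε F ▷ F.obj X) ≫ μ F (𝟙_ C) X) ≫ F.map P.rhs1 := by
  simp only [rhs1, Category.assoc]
  exact Functor.LaxMonoidal.left_unitality F X

theorem map_lhs2 : (P.map F).lhs2 = ((F.obj X ◁ ε F) ≫ μ F X (𝟙_ C)) ≫ F.map P.lhs2 := by
  simp only [lhs2, map, MonoidalCategory.whiskerLeft_comp, Category.assoc, Functor.map_comp,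
    μ_natural_right_assoc]

theorem map_rhs2 : (P.map F).rhs2 = ((F.obj X ◁ ε F) ≫ μ F X (𝟙_ C)) ≫ F.map P.rhs2 := by
  simp only [rhs2, Category.assoc]
  exact Functor.LaxMonoidal.right_unitality F X

theorem map_lhs3 :
    (P.map F).lhs3 = ((μ F X X ▷ F.obj X) ≫ μ F (X ⊗ X) X) ≫ F.map P.lhs3 := by
  simp only [lhs3, map, comp_whiskerRight, Category.assoc, Functor.map_comp,
    μ_natural_left_assoc]

theorem map_rhs3 :
    (P.map F).rhs3 = ((μ F X X ▷ F.obj X) ≫ μ F (X ⊗ X) X) ≫ F.map P.rhs3 := by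
  simp only [rhs3, map, MonoidalCategory.whiskerLeft_comp, Category.assoc, Functor.map_comp,
    μ_natural_right_assoc]
  rw [← Functor.LaxMonoidal.associativity_assoc]

theorem map_lhs4 : (P.map F).lhs4 = F.map P.lhs4 := by
  simp only [lhs4, map, Functor.map_comp]
  rw [← F.map_id, lift_μ_assoc]

theorem map_rhs4 : (P.map F).rhs4 = F.map P.rhs4 := by
  simp only [rhs4, map, Functor.map_comp, toUnit_ε_assoc]

theorem map_lhs5 : (P.map F).lhs5 = F.map P.lhs5 := by
  simp only [lhs5, map, Functor.map_comp]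
  rw [← F.map_id, lift_μ_assoc]

/-- the images of the axioms -/
structure MapAxioms : Prop where
  h1 : F.map P.lhs1 = F.map P.rhs1
  h2 : F.map P.lhs2 = F.map P.rhs2
  h3 : F.map P.lhs3 = F.map P.rhs3
  h4 : F.map P.lhs4 = F.map P.rhs4
  h5 : F.map P.lhs5 = F.map P.rhs4

theorem map_isGrp_iff : (P.map F).IsGrp ↔ P.MapAxioms F := by
  constructor
  · intro h
    refine ⟨?_, ?_, ?_, ?_, ?_⟩
    · have := h.h1
      rw [map_lhs1, map_rhs1] at this
      exact (cancel_epi _).mp this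
    · have := h.h2
      rw [map_lhs2, map_rhs2] at this
      exact (cancel_epi _).mp this
    · have := h.h3
      rw [map_lhs3, map_rhs3] at this
      exact (cancel_epi _).mp this
    · have := h.h4
      rwa [map_lhs4, map_rhs4] at this
    · have := h.h5
      rwa [map_lhs5, map_rhs4] at this
  · intro h
    refine ⟨?_, ?_, ?_, ?_, ?_⟩
    · rw [map_lhs1, map_rhs1, h.h1]
    · rw [map_lhs2, map_rhs2, h.h2]
    · rw [map_lhs3, map_rhs3, h.h3]
    · rw [map_lhs4, map_rhs4, h.h4]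
    · rw [map_lhs5, map_rhs4, h.h5]

end PreGrp

end Groth.Agent.Lib.Helper9.GL
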