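import Mathlib
import Groth.Prelude.Def_Red
import Groth.Agent.Lib.Helper9.GL7
import Groth.Agent.Lib.Helper9.GL8
set_option autoImplicit false
set_option linter.style.haveILetI false
set_option linter.unusedSectionVars false
set_option linter.unusedVariables false
universe u
open CategoryTheory CategoryTheory.Limits AlgebraicGeometry Opposite MonoidalCategory CartesianMonoidalCategory

namespace Groth.Agent.Lib.Helper9.GL

open Groth.Agent.Lib.Helper22
open Functor.LaxMonoidal Functor.Monoidal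

section sch
variable {S₀ S₁ S₂ : Scheme.{u}}

theorem eqToHom_tensor {φ ψ : S₁ ⟶ S₀} (h : φ = ψ) (X Y : Over S₀) :
    μ (Over.pullback φ) X Y ≫ eqToHom (congrArg (fun k => Red.bc k (X ⊗ Y)) h) =
      (eqToHom (congrArg (fun k => Red.bc k X) h) ⊗ₘ eqToHom (congrArg (fun k => Red.bc k Y) h)) ≫
        μ (Over.pullback ψ) X Y := by
  subst h
  simp

theorem eqToHom_unit {φ ψ : S₁ ⟶ S₀} (h : φ = ψ) :
    ε (Over.pullback φ) ≫ eqToHom (congrArg (fun k => Red.bc k (𝟙_ (Over S₀))) h) =
      ε (Over.pullback ψ) := by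
  subst h
  simp

theorem pullbackComp_inv_tensor (f : S₂ ⟶ S₁) (g : S₁ ⟶ S₀) (X Y : Over S₀) :
    μ (Over.pullback f) _ _ ≫ (Over.pullback f).map (μ (Over.pullback g) X Y) ≫
      (Over.pullbackComp f g).inv.app (X ⊗ Y) =
    ((Over.pullbackComp f g).inv.app X ⊗ₘ (Over.pullbackComp f g).inv.app Y) ≫
      μ (Over.pullback (f ≫ g)) X Y := by
  have := NatTrans.IsMonoidal.tensor (τ := (Over.pullbackComp f g).inv) X Y
  simpa only [Functor.LaxMonoidal.comp_μ, Category.assoc] using this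

theorem pullbackComp_inv_unit (f : S₂ ⟶ S₁) (g : S₁ ⟶ S₀) :
    ε (Over.pullback f) ≫ (Over.pullback f).map (ε (Over.pullback g)) ≫
      (Over.pullbackComp f g).inv.app (𝟙_ (Over S₀)) = ε (Over.pullback (f ≫ g)) := by
  have := NatTrans.IsMonoidal.unit (τ := (Over.pullbackComp f g).inv)
  simpa only [Functor.LaxMonoidal.comp_ε, Category.assoc] using this

end sch

variable {I : Type u} [SmallCategory I] [IsCofiltered I] (D : I ⥤ Scheme.{u}) (c : Cone D)
  (hc : IsLimit c) [∀ (i i' : I) (f : i ⟶ i'), IsAffineHom (D.map f)]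
  [∀ i, CompactSpace (D.obj i)]

theorem cmp_tensor {i i' : I} (g : i' ⟶ i) (X Y : Over (D.obj i)) :
    μ (Over.pullback (c.π.app i')) _ _ ≫
      (Over.pullback (c.π.app i')).map (μ (Over.pullback (D.map g)) X Y) ≫
        (cmp D c g (X ⊗ Y)).hom =
      ((cmp D c g X).hom ⊗ₘ (cmp D c g Y).hom) ≫ μ (Over.pullback (c.π.app i)) X Y := by
  have h1 := pullbackComp_inv_tensor (c.π.app i') (D.map g) X Y
  have h2 := eqToHom_tensor (c.w g) X Y
  simp only [cmp, Iso.trans_hom, Iso.symm_hom, Iso.app_inv, eqToIso.hom]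
  rw [← tensorHom_comp_tensorHom, Category.assoc, ← h2, ← reassoc_of% h1]

theorem cmp_unit {i i' : I} (g : i' ⟶ i) :
    ε (Over.pullback (c.π.app i')) ≫ (Over.pullback (c.π.app i')).map (ε (Over.pullback (D.map g))) ≫
      (cmp D c g (𝟙_ _)).hom = ε (Over.pullback (c.π.app i)) := by
  have h1 := pullbackComp_inv_unit (c.π.app i') (D.map g)
  have h2 := eqToHom_unit (S₁ := c.pt) (c.w g)
  simp only [cmp, Iso.trans_hom, Iso.symm_hom, Iso.app_inv, eqToIso.hom]
  rw [← h2, ← h1]
  simp only [Category.assoc]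

end Groth.Agent.Lib.Helper9.GL
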