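import Mathlib
import Groth.Prelude.Def_Red
import Groth.Agent.Lib.Helper9.GL9
set_option autoImplicit false
set_option linter.style.haveILetI false
set_option linter.unusedSectionVars false
set_option linter.unusedVariables false
universe u
open CategoryTheory CategoryTheory.Limits AlgebraicGeometry Opposite MonoidalCategory CartesianMonoidalCategory

namespace Groth.Agent.Lib.Helper9.GL

open Groth.Agent.Lib.Helper22
open Functor.LaxMonoidal Functor.Monoidal

variable {I : Type u} [SmallCategory I] [IsCofiltered I] (D : I ⥤ Scheme.{u}) (c : Cone D)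
  (hc : IsLimit c) [∀ (i i' : I) (f : i ⟶ i'), IsAffineHom (D.map f)]
  [∀ i, CompactSpace (D.obj i)]

/-- `u'` at the stage `f` represents the morphism `u` over the limit -/
def Rep {i i' : I} (f : i' ⟶ i) {X Y : Over (D.obj i)}
    (u : (Over.pullback (c.π.app i)).obj X ⟶ (Over.pullback (c.π.app i)).obj Y)
    (u' : (Over.pullback (D.map f)).obj X ⟶ (Over.pullback (D.map f)).obj Y) : Prop :=
  (Over.pullback (c.π.app i')).map u' = (cmp D c f X).hom ≫ u ≫ (cmp D c f Y).inv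

theorem rep_later {i i' i'' : I} (g : i'' ⟶ i') (f : i' ⟶ i) {X Y : Over (D.obj i)}
    {u : (Over.pullback (c.π.app i)).obj X ⟶ (Over.pullback (c.π.app i)).obj Y}
    {u' : (Over.pullback (D.map f)).obj X ⟶ (Over.pullback (D.map f)).obj Y}
    (h : Rep D c f u u') :
    Rep D c (g ≫ f) u ((tau D g f X).hom ≫ (Over.pullback (D.map g)).map u' ≫
      (tau D g f Y).inv) := by
  unfold Rep at h ⊢
  rw [← Category.assoc (cmp D c (g ≫ f) X).hom, Iso.eq_comp_inv, ← cmp_coherence D c g f X,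
    ← cmp_coherence D c g f Y]
  simp only [Functor.map_comp, Category.assoc]
  rw [← Functor.map_comp_assoc (Over.pullback (c.π.app i'')) (tau D g f Y).inv,
    Iso.inv_hom_id, CategoryTheory.Functor.map_id, Category.id_comp,
    reassoc_of% (cmp_naturality D c g u'), h]
  simp

include hc in
theorem exists_rep_of_le [∀ i, QuasiSeparatedSpace (D.obj i)] {i i₀ : I} (f₀ : i₀ ⟶ i)
    {X Y : Over (D.obj i)} [QuasiCompact X.hom] [QuasiSeparated X.hom]
    [LocallyOfFinitePresentation Y.hom]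
    (u : (Over.pullback (c.π.app i)).obj X ⟶ (Over.pullback (c.π.app i)).obj Y) :
    ∃ (i' : I) (g : i' ⟶ i₀)
      (u' : (Over.pullback (D.map (g ≫ f₀))).obj X ⟶ (Over.pullback (D.map (g ≫ f₀))).obj Y),
      Rep D c (g ≫ f₀) u u' := by
  obtain ⟨i₁, f₁, u₁, h₁⟩ := exists_map_eq_cmp D c hc u
  obtain ⟨k, x, y, hxy⟩ := IsCofiltered.cospan f₁ f₀
  have h₂ := rep_later D c x f₁ h₁
  refine ⟨k, y, ?_⟩
  rw [← hxy]
  exact ⟨_, h₂⟩

include hc in
theorem exists_map_eq_of_le {i i₀ : I} (f₀ : i₀ ⟶ i) {X Y : Over (D.obj i)} [QuasiCompact X.hom]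
    [LocallyOfFiniteType Y.hom] (a b : X ⟶ Y)
    (h : (Over.pullback (c.π.app i)).map a = (Over.pullback (c.π.app i)).map b) :
    ∃ (i' : I) (g : i' ⟶ i₀),
      (Over.pullback (D.map (g ≫ f₀))).map a = (Over.pullback (D.map (g ≫ f₀))).map b := by
  obtain ⟨i₁, f₁, h₁⟩ := exists_map_eq D c hc a b h
  obtain ⟨k, x, y, hxy⟩ := IsCofiltered.cospan f₁ f₀
  refine ⟨k, y, ?_⟩
  rw [← hxy]
  exact map_eq_later D x f₁ a b h₁

instance quasiCompact_unit_hom {S : Scheme.{u}} : QuasiCompact (𝟙_ (Over S)).hom := by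
  rw [Over.tensorUnit_hom]
  exact MorphismProperty.id_mem (W := @QuasiCompact) S

instance quasiSeparated_unit_hom {S : Scheme.{u}} : QuasiSeparated (𝟙_ (Over S)).hom := by
  rw [Over.tensorUnit_hom]
  exact MorphismProperty.id_mem (W := @QuasiSeparated) S

instance quasiSeparated_tensor_hom {S : Scheme.{u}} (X Y : Over S) [QuasiSeparated X.hom]
    [QuasiSeparated Y.hom] : QuasiSeparated (X ⊗ Y).hom := by
  rw [Over.tensorObj_hom]
  infer_instance

include hc in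
theorem exists_mapAxioms {i : I} {Y : Over (D.obj i)} [QuasiCompact Y.hom]
    [LocallyOfFiniteType Y.hom] (P : PreGrp Y)
    (h : P.MapAxioms (Over.pullback (c.π.app i))) :
    ∃ (i' : I) (g : i' ⟶ i), P.MapAxioms (Over.pullback (D.map g)) := by
  obtain ⟨i₁, g₁, h₁⟩ := exists_map_eq D c hc _ _ h.h1
  obtain ⟨i₂, g₂, h₂⟩ := exists_map_eq_of_le D c hc g₁ _ _ h.h2
  obtain ⟨i₃, g₃, h₃⟩ := exists_map_eq_of_le D c hc (g₂ ≫ g₁) _ _ h.h3
  obtain ⟨i₄, g₄, h₄⟩ := exists_map_eq_of_le D c hc (g₃ ≫ g₂ ≫ g₁) _ _ h.h4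
  obtain ⟨i₅, g₅, h₅⟩ := exists_map_eq_of_le D c hc (g₄ ≫ g₃ ≫ g₂ ≫ g₁) _ _ h.h5
  refine ⟨i₅, g₅ ≫ g₄ ≫ g₃ ≫ g₂ ≫ g₁, ?_, ?_, ?_, ?_, h₅⟩
  · exact map_eq_later D g₅ _ _ _ (map_eq_later D g₄ _ _ _ (map_eq_later D g₃ _ _ _
      (map_eq_later D g₂ _ _ _ h₁)))
  · exact map_eq_later D g₅ _ _ _ (map_eq_later D g₄ _ _ _ (map_eq_later D g₃ _ _ _ h₂))
  · exact map_eq_later D g₅ _ _ _ (map_eq_later D g₄ _ _ _ h₃)
  · exact map_eq_later D g₅ _ _ _ h₄

end Groth.Agent.Lib.Helper9.GL
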