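import Mathlib
import Groth.Prelude.Def_Red
import Groth.Agent.Lib.Helper9.GL10
set_option autoImplicit false
set_option linter.style.haveILetI false
set_option linter.unusedSectionVars false
set_option linter.unusedVariables false
universe u
open CategoryTheory CategoryTheory.Limits AlgebraicGeometry Opposite MonoidalCategory CartesianMonoidalCategory

namespace Groth.Agent.Lib.Helper9.GL

open Groth.Agent.Lib.Helper22
open Functor.LaxMonoidal Functor.Monoidal

section transport
variable {C : Type*} [Category C] [CartesianMonoidalCategory C]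

/-- group data transported along an isomorphism -/
def PreGrp.ofIso {G Z : C} [GrpObj G] (e : G ≅ Z) : PreGrp Z :=
  ⟨(e.inv ⊗ₘ e.inv) ≫ MonObj.mul ≫ e.hom, MonObj.one ≫ e.hom, e.inv ≫ GrpObj.inv ≫ e.hom⟩

theorem PreGrp.ofIso_isGrp {G Z : C} [GrpObj G] (e : G ≅ Z) : (PreGrp.ofIso e).IsGrp := by
  letI : GrpObj Z := GrpObj.ofIso e
  exact PreGrp.ofGrpObj_isGrp Z

theorem PreGrp.ext' {Z : C} {P Q : PreGrp Z} (h1 : P.m = Q.m) (h2 : P.e = Q.e)
    (h3 : P.v = Q.v) : P = Q := by
  cases P; cases Q; simp_all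

end transport

variable {I : Type u} [SmallCategory I] [IsCofiltered I] (D : I ⥤ Scheme.{u}) (c : Cone D)
  (hc : IsLimit c) [∀ (i i' : I) (f : i ⟶ i'), IsAffineHom (D.map f)]
  [∀ i, CompactSpace (D.obj i)]

section K
variable {i i' : I} (f : i' ⟶ i) (X : Over (D.obj i)) (G : Over c.pt) [GrpObj G]
  (e₀ : G ≅ (Over.pullback (c.π.app i)).obj X)

/-- the three structure maps of the transported group structure, read on `Π(X ⊗ X)` etc. -/
noncomputable def uM : (Over.pullback (c.π.app i)).obj (X ⊗ X) ⟶ (Over.pullback (c.π.app i)).obj X :=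
  inv (μ (Over.pullback (c.π.app i)) X X) ≫ (PreGrp.ofIso e₀).m

noncomputable def uE : (Over.pullback (c.π.app i)).obj (𝟙_ _) ⟶ (Over.pullback (c.π.app i)).obj X :=
  inv (ε (Over.pullback (c.π.app i))) ≫ (PreGrp.ofIso e₀).e

noncomputable def uV : (Over.pullback (c.π.app i)).obj X ⟶ (Over.pullback (c.π.app i)).obj X :=
  (PreGrp.ofIso e₀).v

variable {X G}

theorem map_eq_ofIso_of_rep
    (m' : (Over.pullback (D.map f)).obj (X ⊗ X) ⟶ (Over.pullback (D.map f)).obj X)
    (e' : (Over.pullback (D.map f)).obj (𝟙_ _) ⟶ (Over.pullback (D.map f)).obj X)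
    (v' : (Over.pullback (D.map f)).obj X ⟶ (Over.pullback (D.map f)).obj X)
    (hm : Rep D c f (uM D c X G e₀) m') (he : Rep D c f (uE D c X G e₀) e')
    (hv : Rep D c f (uV D c X G e₀) v') :
    (PreGrp.mk (μ (Over.pullback (D.map f)) X X ≫ m') (ε (Over.pullback (D.map f)) ≫ e') v').map
        (Over.pullback (c.π.app i')) =
      PreGrp.ofIso (e₀ ≪≫ (cmp D c f X).symm) := by
  unfold Rep at hm he hv
  apply PreGrp.ext'
  · simp only [PreGrp.map, PreGrp.ofIso, Functor.map_comp, hm, uM, Iso.trans_inv, Iso.symm_inv,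
      Iso.trans_hom, Iso.symm_hom, Category.assoc]
    rw [reassoc_of% (cmp_tensor D c f X X), IsIso.hom_inv_id_assoc, ← tensorHom_comp_tensorHom]
    simp only [Category.assoc]
  · simp only [PreGrp.map, PreGrp.ofIso, Functor.map_comp, he, uE, Iso.trans_hom, Iso.symm_hom,
      Category.assoc]
    rw [reassoc_of% (cmp_unit D c f), IsIso.hom_inv_id_assoc]
  · simp only [PreGrp.map, PreGrp.ofIso, hv, uV, Iso.trans_inv, Iso.symm_inv,
      Iso.trans_hom, Iso.symm_hom, Category.assoc]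

end K

open scoped Obj in
include hc in
theorem exists_grp_model_aux {i i' : I} (f : i' ⟶ i) (X : Over (D.obj i))
    [QuasiCompact X.hom] [QuasiSeparated X.hom] [LocallyOfFinitePresentation X.hom]
    (G : Over c.pt) [GrpObj G] (e₀ : G ≅ (Over.pullback (c.π.app i)).obj X)
    (m' : (Over.pullback (D.map f)).obj (X ⊗ X) ⟶ (Over.pullback (D.map f)).obj X)
    (e' : (Over.pullback (D.map f)).obj (𝟙_ _) ⟶ (Over.pullback (D.map f)).obj X)
    (v' : (Over.pullback (D.map f)).obj X ⟶ (Over.pullback (D.map f)).obj X)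
    (hm : Rep D c f (uM D c X G e₀) m') (he : Rep D c f (uE D c X G e₀) e')
    (hv : Rep D c f (uV D c X G e₀) v') :
    ∃ (i'' : I) (X'' : Over (D.obj i'')) (_ : GrpObj X'')
      (e : G ≅ (Over.pullback (c.π.app i'')).obj X''),
      IsMonHom e.hom ∧ LocallyOfFinitePresentation X''.hom ∧ QuasiCompact X''.hom ∧
        QuasiSeparated X''.hom := by
  let Y := (Over.pullback (D.map f)).obj X
  let P' : PreGrp Y :=
    ⟨μ (Over.pullback (D.map f)) X X ≫ m', ε (Over.pullback (D.map f)) ≫ e', v'⟩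
  let ε' : G ≅ (Over.pullback (c.π.app i')).obj Y := e₀ ≪≫ (cmp D c f X).symm
  have hK : P'.map (Over.pullback (c.π.app i')) = PreGrp.ofIso ε' :=
    map_eq_ofIso_of_rep D c f e₀ m' e' v' hm he hv
  have hG : (P'.map (Over.pullback (c.π.app i'))).IsGrp := hK ▸ PreGrp.ofIso_isGrp ε'
  obtain ⟨i'', g, hax⟩ := exists_mapAxioms D c hc P' ((P'.map_isGrp_iff _).mp hG)
  have hG'' : (P'.map (Over.pullback (D.map g))).IsGrp := (P'.map_isGrp_iff _).mpr hax
  letI inst : GrpObj ((Over.pullback (D.map g)).obj Y) := (P'.map (Over.pullback (D.map g))).toGrpObj hG''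
  refine ⟨i'', (Over.pullback (D.map g)).obj Y, inst, ε' ≪≫ (cmp D c g Y).symm, ?_,
    inferInstance, inferInstance, inferInstance⟩
  apply isMonHom_of_mul_hom
  have hμ : (MonObj.mul : (Over.pullback (D.map g)).obj Y ⊗ (Over.pullback (D.map g)).obj Y ⟶ _) =
      μ (Over.pullback (D.map g)) Y Y ≫ (Over.pullback (D.map g)).map P'.m := rfl
  have key : μ (Over.pullback (c.π.app i'')) _ _ ≫ (Over.pullback (c.π.app i'')).map
      (μ (Over.pullback (D.map g)) Y Y ≫ (Over.pullback (D.map g)).map P'.m) =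
      ((cmp D c g Y).hom ⊗ₘ (cmp D c g Y).hom) ≫ (P'.map (Over.pullback (c.π.app i'))).m ≫
        (cmp D c g Y).inv := by
    have hn : (Over.pullback (c.π.app i'')).map ((Over.pullback (D.map g)).map P'.m) =
        (cmp D c g (Y ⊗ Y)).hom ≫ (Over.pullback (c.π.app i')).map P'.m ≫ (cmp D c g Y).inv := by
      rw [← Category.assoc, Iso.eq_comp_inv, cmp_naturality]
    rw [Functor.map_comp, hn, reassoc_of% (cmp_tensor D c g Y Y)]
    rfl
  rw [Functor.obj.μ_def, hμ, key, hK]
  simp only [PreGrp.ofIso, Iso.trans_hom, Iso.symm_hom, Category.assoc,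
    tensorHom_comp_tensorHom_assoc, Iso.inv_hom_id_assoc, Iso.hom_inv_id,
    tensorHom_id, id_whiskerRight, Category.id_comp]

open scoped Obj in
include hc in
/-- A group structure over the limit on the base change of a finitely presented `S_i`-scheme
comes from a group structure at a later stage. -/
theorem exists_grp_model [∀ i, QuasiSeparatedSpace (D.obj i)] {i : I} (X : Over (D.obj i))
    [QuasiCompact X.hom] [QuasiSeparated X.hom] [LocallyOfFinitePresentation X.hom]
    (G : Over c.pt) [GrpObj G] (e₀ : G ≅ (Over.pullback (c.π.app i)).obj X) :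
    ∃ (i'' : I) (X'' : Over (D.obj i'')) (_ : GrpObj X'')
      (e : G ≅ (Over.pullback (c.π.app i'')).obj X''),
      IsMonHom e.hom ∧ LocallyOfFinitePresentation X''.hom ∧ QuasiCompact X''.hom ∧
        QuasiSeparated X''.hom := by
  obtain ⟨i₁, f₁, m₁, hm₁⟩ := exists_map_eq_cmp D c hc (X := X ⊗ X) (Y := X) (uM D c X G e₀)
  obtain ⟨i₂, g₂, e₂, he₂⟩ := exists_rep_of_le D c hc f₁ (X := 𝟙_ _) (Y := X) (uE D c X G e₀)
  have hm₂ := rep_later D c g₂ f₁ hm₁
  obtain ⟨i₃, g₃, v₃, hv₃⟩ := exists_rep_of_le D c hc (g₂ ≫ f₁) (X := X) (Y := X) (uV D c X G e₀)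
  have hm₃ := rep_later D c g₃ (g₂ ≫ f₁) hm₂
  have he₃ := rep_later D c g₃ (g₂ ≫ f₁) he₂
  exact exists_grp_model_aux D c hc (g₃ ≫ g₂ ≫ f₁) X G e₀ _ _ _ hm₃ he₃ hv₃

end Groth.Agent.Lib.Helper9.GL
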