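import Mathlib
import Groth.Prelude.Def_Red
import Groth.Agent.Lib.Helper9.GL7
import Groth.Agent.Lib.Helper13.LimDescendFlat
import Groth.Agent.Lib.Helper13.LimDescendSurj
set_option autoImplicit false
set_option linter.style.haveILetI false
set_option linter.unusedSectionVars false
set_option linter.unusedVariables false
universe u
open CategoryTheory CategoryTheory.Limits AlgebraicGeometry Opposite MonObj MonoidalCategory CartesianMonoidalCategory

namespace Groth.Agent.Lib.Helper9.GL

open Groth.Agent.Lib.Helper22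

section
variable {S S' : Scheme.{u}} {X Y : Over S} (v : X ⟶ Y) (e : S ⟶ S) [IsIso e]

theorem prop_map_iff (P : MorphismProperty Scheme.{u}) [P.RespectsIso] (he : e = 𝟙 S) (g : S' ⟶ S)
    (w : pullback g Y.hom ⟶ pullback e Y.hom)
    (hw : w ≫ pullback.snd e Y.hom = pullback.snd g Y.hom) :
    P ((Over.pullback g).map v).left ↔ P (pullback.fst w (toTriv v e he)) := by
  have hP := isPullback_toTriv v e he g w hw
  have e1 : ((Over.pullback g).map v).left ≫ (pullbackSymmetry Y.hom g).hom =
      hP.isoPullback.hom ≫ pullback.fst w (toTriv v e he) := (hP.isoPullback_hom_fst).symm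
  rw [← P.cancel_right_of_respectsIso ((Over.pullback g).map v).left (pullbackSymmetry Y.hom g).hom,
    e1, P.cancel_left_of_respectsIso]

end

variable {I : Type u} [SmallCategory I] [IsCofiltered I] (D : I ⥤ Scheme.{u}) (c : Cone D)
  (hc : IsLimit c) [∀ (i i' : I) (f : i ⟶ i'), IsAffineHom (D.map f)]
  [∀ i, CompactSpace (D.obj i)]

include hc in
/-- abstract descent of a property of `(Π v).left` given a core statement -/
theorem exists_prop_map (P : MorphismProperty Scheme.{u}) [P.RespectsIso]
    [∀ i, QuasiSeparatedSpace (D.obj i)] {i : I} {X Y : Over (D.obj i)}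
    [QuasiCompact X.hom] [QuasiSeparated X.hom] [LocallyOfFinitePresentation X.hom]
    [QuasiCompact Y.hom] [QuasiSeparated Y.hom] [LocallyOfFiniteType Y.hom] (v : X ⟶ Y)
    (core : ∀ (k₀ : Over i) (a : X.left ⟶ (bcDiag D i Y.hom).obj k₀)
      [LocallyOfFinitePresentation a] [QuasiCompact a] [QuasiSeparated a]
      [CompactSpace X.left] [QuasiSeparatedSpace X.left]
      [CompactSpace ((bcDiag D i Y.hom).obj k₀)] [QuasiSeparatedSpace ((bcDiag D i Y.hom).obj k₀)],
      P (pullback.fst ((bcCone D c i Y.hom).π.app k₀) a) →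
        ∃ (k : Over i) (ψ : k ⟶ k₀), P (pullback.fst ((bcDiag D i Y.hom).map ψ) a))
    (h : P ((Over.pullback (c.π.app i)).map v).left) :
    ∃ (i' : I) (f : i' ⟶ i), P ((Over.pullback (D.map f)).map v).left := by
  haveI : CompactSpace X.left := QuasiCompact.compactSpace_of_compactSpace X.hom
  haveI : QuasiSeparatedSpace X.left := quasiSeparatedSpace_of_quasiSeparated X.hom
  haveI : CompactSpace Y.left := QuasiCompact.compactSpace_of_compactSpace Y.hom
  haveI : QuasiSeparatedSpace Y.left := quasiSeparatedSpace_of_quasiSeparated Y.hom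
  let k₀ : Over i := Over.mk (𝟙 i)
  have he : D.map k₀.hom = 𝟙 (D.obj i) := D.map_id i
  haveI : IsIso (D.map k₀.hom) := he ▸ IsIso.id _
  let a : X.left ⟶ pullback (D.map k₀.hom) Y.hom := toTriv v (D.map k₀.hom) he
  have hsnd : a ≫ pullback.snd (D.map k₀.hom) Y.hom = v.left := toTriv_snd v _ he
  haveI : IsIso (pullback.snd (D.map k₀.hom) Y.hom) := inferInstance
  haveI : LocallyOfFinitePresentation (v.left ≫ Y.hom) := by rw [Over.w v]; infer_instance
  haveI : QuasiCompact (v.left ≫ Y.hom) := by rw [Over.w v]; infer_instance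
  haveI : QuasiSeparated (v.left ≫ Y.hom) := by rw [Over.w v]; infer_instance
  have hv1 : LocallyOfFinitePresentation v.left :=
    Groth.Agent.Lib.Helper13.LimDescend.locallyOfFinitePresentation_of_comp v.left Y.hom
  have hv2 : QuasiCompact v.left := QuasiCompact.of_comp v.left Y.hom
  have hv3 : QuasiSeparated v.left := QuasiSeparated.of_comp v.left Y.hom
  haveI : LocallyOfFinitePresentation a :=
    (MorphismProperty.cancel_right_of_respectsIso (P := @LocallyOfFinitePresentation) a
      (pullback.snd (D.map k₀.hom) Y.hom)).mp (by rw [hsnd]; exact hv1)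
  haveI : QuasiCompact a :=
    (MorphismProperty.cancel_right_of_respectsIso (P := @QuasiCompact) a
      (pullback.snd (D.map k₀.hom) Y.hom)).mp (by rw [hsnd]; exact hv2)
  haveI : QuasiSeparated a :=
    (MorphismProperty.cancel_right_of_respectsIso (P := @QuasiSeparated) a
      (pullback.snd (D.map k₀.hom) Y.hom)).mp (by rw [hsnd]; exact hv3)
  let a' : X.left ⟶ (bcDiag D i Y.hom).obj k₀ := a
  haveI : LocallyOfFinitePresentation a' := ‹LocallyOfFinitePresentation a›
  haveI : QuasiCompact a' := ‹QuasiCompact a›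
  haveI : QuasiSeparated a' := ‹QuasiSeparated a›
  haveI : CompactSpace ((bcDiag D i Y.hom).obj k₀) := by
    change CompactSpace ↥(pullback (D.map k₀.hom) Y.hom)
    exact QuasiCompact.compactSpace_of_compactSpace (pullback.fst (D.map k₀.hom) Y.hom)
  haveI : QuasiSeparatedSpace ((bcDiag D i Y.hom).obj k₀) := by
    change QuasiSeparatedSpace ↥(pullback (D.map k₀.hom) Y.hom)
    exact quasiSeparatedSpace_of_quasiSeparated (pullback.fst (D.map k₀.hom) Y.hom)
  have hlim : P (pullback.fst ((bcCone D c i Y.hom).π.app k₀) a) :=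
    (prop_map_iff v (D.map k₀.hom) P he (c.π.app i) ((bcCone D c i Y.hom).π.app k₀)
      (bcCone_π_snd D c i Y.hom k₀)).mp h
  obtain ⟨k, ψ, hk⟩ := core k₀ a' hlim
  exact ⟨k.left, k.hom, (prop_map_iff v (D.map k₀.hom) P he (D.map k.hom)
    ((bcDiag D i Y.hom).map ψ) (bcDiag_map_snd D i Y.hom ψ)).mpr hk⟩

include hc in
theorem exists_flat_map [∀ i, QuasiSeparatedSpace (D.obj i)] {i : I} {X Y : Over (D.obj i)}
    [QuasiCompact X.hom] [QuasiSeparated X.hom] [LocallyOfFinitePresentation X.hom]
    [QuasiCompact Y.hom] [QuasiSeparated Y.hom] [LocallyOfFiniteType Y.hom] (v : X ⟶ Y)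
    (h : Flat ((Over.pullback (c.π.app i)).map v).left) :
    ∃ (i' : I) (f : i' ⟶ i), Flat ((Over.pullback (D.map f)).map v).left := by
  haveI : ∀ (k k' : Over i) (φ : k ⟶ k'), IsAffineHom ((bcDiag D i Y.hom).map φ) :=
    fun _ _ φ => inferInstance
  refine exists_prop_map D c hc @Flat v ?_ h
  intro k₀ a _ _ _ _ _ _ _ hl
  exact Groth.Agent.Lib.Helper13.LimDescend.core_flat (bcDiag D i Y.hom)
    (bcCone D c i Y.hom) (bcIsLimit D hc i Y.hom) k₀ a hl

include hc in
theorem exists_surjective_map [∀ i, QuasiSeparatedSpace (D.obj i)] {i : I} {X Y : Over (D.obj i)}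
    [QuasiCompact X.hom] [QuasiSeparated X.hom] [LocallyOfFinitePresentation X.hom]
    [QuasiCompact Y.hom] [QuasiSeparated Y.hom] [LocallyOfFiniteType Y.hom] (v : X ⟶ Y)
    (h : Surjective ((Over.pullback (c.π.app i)).map v).left) :
    ∃ (i' : I) (f : i' ⟶ i), Surjective ((Over.pullback (D.map f)).map v).left := by
  haveI : ∀ (k k' : Over i) (φ : k ⟶ k'), IsAffineHom ((bcDiag D i Y.hom).map φ) :=
    fun _ _ φ => inferInstance
  refine exists_prop_map D c hc @Surjective v ?_ h
  intro k₀ a _ _ _ _ _ _ _ hl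
  exact Groth.Agent.Lib.Helper13.LimDescend.core_surjective (bcDiag D i Y.hom)
    (bcCone D c i Y.hom) (bcIsLimit D hc i Y.hom) k₀ a hl

include hc in
theorem exists_isIso_map [∀ i, QuasiSeparatedSpace (D.obj i)] {i : I} {X Y : Over (D.obj i)}
    [QuasiCompact X.hom] [QuasiSeparated X.hom] [LocallyOfFinitePresentation X.hom]
    [QuasiCompact Y.hom] [QuasiSeparated Y.hom] [LocallyOfFiniteType Y.hom] (v : X ⟶ Y)
    (h : IsIso ((Over.pullback (c.π.app i)).map v)) :
    ∃ (i' : I) (f : i' ⟶ i), IsIso ((Over.pullback (D.map f)).map v) := by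
  haveI : ∀ (k k' : Over i) (φ : k ⟶ k'), IsAffineHom ((bcDiag D i Y.hom).map φ) :=
    fun _ _ φ => inferInstance
  have h' : MorphismProperty.isomorphisms Scheme.{u} ((Over.pullback (c.π.app i)).map v).left := by
    rw [MorphismProperty.isomorphisms.iff]
    exact inferInstanceAs (IsIso ((Over.forget _).map ((Over.pullback (c.π.app i)).map v)))
  suffices H : ∃ (i' : I) (f : i' ⟶ i),
      MorphismProperty.isomorphisms Scheme.{u} ((Over.pullback (D.map f)).map v).left by
    obtain ⟨i', f, hf⟩ := H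
    rw [MorphismProperty.isomorphisms.iff] at hf
    haveI : IsIso ((Over.forget _).map ((Over.pullback (D.map f)).map v)) := hf
    exact ⟨i', f, isIso_of_reflects_iso _ (Over.forget _)⟩
  refine exists_prop_map D c hc (MorphismProperty.isomorphisms Scheme.{u}) v ?_ h'
  intro k₀ a _ _ _ _ _ _ _ hl
  rw [MorphismProperty.isomorphisms.iff] at hl
  obtain ⟨k, ψ, hk⟩ := Groth.Agent.Lib.Helper13.LimDescend.core_isIso (bcDiag D i Y.hom)
    (bcCone D c i Y.hom) (bcIsLimit D hc i Y.hom) k₀ a hl
  exact ⟨k, ψ, (MorphismProperty.isomorphisms.iff _).mpr hk⟩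

end Groth.Agent.Lib.Helper9.GL
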