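import Mathlib
import Groth.Prelude.Def_Red
import Groth.Agent.Lib.Helper9.GL12
set_option autoImplicit false
set_option linter.style.haveILetI false
set_option linter.unusedSectionVars false
set_option linter.unusedVariables false
universe u
open CategoryTheory CategoryTheory.Limits AlgebraicGeometry Opposite MonoidalCategory CartesianMonoidalCategory

namespace Groth.Agent.Lib.Helper9.GL

open Groth.Agent.Lib.Helper22

section monoidal
universe v₁ v₂ u₁ u₂
variable {C : Type u₁} [Category.{v₁} C] [CartesianMonoidalCategory C]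
  {E : Type u₂} [Category.{v₂} E] [CartesianMonoidalCategory E] (F : C ⥤ E) [F.Monoidal]

open Functor.LaxMonoidal Functor.OplaxMonoidal Functor.Monoidal

theorem lift_μ_map_snd {G X Y : C} (a : G ⊗ X ⟶ Y) :
    lift (μ F G X ≫ F.map a) (snd (F.obj G) (F.obj X)) =
      μ F G X ≫ F.map (lift a (snd G X)) ≫ δ F Y X := by
  ext
  · simp
  · simp

theorem isIso_lift_μ_map_snd_iff {G X Y : C} (a : G ⊗ X ⟶ Y) :
    IsIso (lift (μ F G X ≫ F.map a) (snd (F.obj G) (F.obj X))) ↔
      IsIso (F.map (lift a (snd G X))) := by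
  rw [lift_μ_map_snd]
  constructor
  · intro h
    have h2 : IsIso (F.map (lift a (snd G X)) ≫ δ F Y X) :=
      IsIso.of_isIso_comp_left (μ F G X) _
    exact IsIso.of_isIso_comp_right _ (δ F Y X)
  · intro h
    infer_instance

end monoidal

instance lfp_tensor_hom {S : Scheme.{u}} (X Y : Over S) [LocallyOfFinitePresentation X.hom]
    [LocallyOfFinitePresentation Y.hom] : LocallyOfFinitePresentation (X ⊗ Y).hom := by
  rw [Over.tensorObj_hom]
  infer_instance

instance lft_tensor_hom {S : Scheme.{u}} (X Y : Over S) [LocallyOfFiniteType X.hom]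
    [LocallyOfFiniteType Y.hom] : LocallyOfFiniteType (X ⊗ Y).hom := by
  rw [Over.tensorObj_hom]
  infer_instance

section stable
variable (P : MorphismProperty Scheme.{u}) [P.RespectsIso] [P.IsStableUnderBaseChange]

theorem prop_map {S S' : Scheme.{u}} (g : S' ⟶ S) {A B : Over S} (φ : A ⟶ B) (h : P φ.left) :
    P ((Over.pullback g).map φ).left :=
  P.of_isPullback (isPullback_map_left g φ) h

theorem prop_bc_hom {S S' : Scheme.{u}} (g : S' ⟶ S) (A : Over S) (h : P A.hom) :
    P ((Over.pullback g).obj A).hom := by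
  change P (pullback.snd A.hom g)
  exact P.pullback_snd _ _ h

end stable

theorem prop_of_iso_hom (P : MorphismProperty Scheme.{u}) [P.RespectsIso] {S : Scheme.{u}}
    {A B : Over S} (e : A ≅ B) (h : P B.hom) : P A.hom := by
  rw [← Over.w e.hom]
  haveI : IsIso e.hom.left := inferInstanceAs (IsIso ((Over.forget _).map e.hom))
  exact (P.cancel_left_of_respectsIso e.hom.left B.hom).mpr h

theorem prop_hom_iff_of_iso (P : MorphismProperty Scheme.{u}) [P.RespectsIso] {S : Scheme.{u}}
    {A B : Over S} (e : A ≅ B) : P A.hom ↔ P B.hom :=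
  ⟨prop_of_iso_hom P e.symm, prop_of_iso_hom P e⟩

/-- conjugating by isomorphisms in `Over S` does not change a property of `.left` -/
theorem prop_left_conj_iff (P : MorphismProperty Scheme.{u}) [P.RespectsIso] {S : Scheme.{u}}
    {A B A' B' : Over S} (eA : A' ≅ A) (eB : B ≅ B') (φ : A ⟶ B) :
    P (eA.hom ≫ φ ≫ eB.hom).left ↔ P φ.left := by
  haveI : IsIso eA.hom.left := inferInstanceAs (IsIso ((Over.forget _).map eA.hom))
  haveI : IsIso eB.hom.left := inferInstanceAs (IsIso ((Over.forget _).map eB.hom))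
  rw [Over.comp_left, Over.comp_left, P.cancel_left_of_respectsIso, P.cancel_right_of_respectsIso]

variable {I : Type u} [SmallCategory I] [IsCofiltered I] (D : I ⥤ Scheme.{u}) (c : Cone D)
  [∀ (i i' : I) (f : i ⟶ i'), IsAffineHom (D.map f)] [∀ i, CompactSpace (D.obj i)]

section stable
variable (P : MorphismProperty Scheme.{u}) [P.RespectsIso] [P.IsStableUnderBaseChange]

theorem prop_later {i i' i'' : I} (g : i'' ⟶ i') (f : i' ⟶ i) {X Y : Over (D.obj i)}
    (v : X ⟶ Y) (h : P ((Over.pullback (D.map f)).map v).left) :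
    P ((Over.pullback (D.map (g ≫ f))).map v).left := by
  have h1 := prop_map P (D.map g) _ h
  have e : (Over.pullback (D.map (g ≫ f))).map v =
      (tau D g f X).hom ≫ (Over.pullback (D.map g)).map ((Over.pullback (D.map f)).map v) ≫
        (tau D g f Y).inv := by
    rw [← Category.assoc, ← tau_naturality, Category.assoc, Iso.hom_inv_id, Category.comp_id]
  rw [e]
  exact (prop_left_conj_iff P (tau D g f X) (tau D g f Y).symm _).mpr h1

theorem prop_limit {i i' : I} (f : i' ⟶ i) {X Y : Over (D.obj i)}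
    (v : X ⟶ Y) (h : P ((Over.pullback (D.map f)).map v).left) :
    P ((Over.pullback (c.π.app i)).map v).left := by
  have h1 := prop_map P (c.π.app i') _ h
  have e : (Over.pullback (c.π.app i)).map v =
      (cmp D c f X).inv ≫ (Over.pullback (c.π.app i')).map ((Over.pullback (D.map f)).map v) ≫
        (cmp D c f Y).hom := by
    rw [cmp_naturality, Iso.inv_hom_id_assoc]
  rw [e]
  exact (prop_left_conj_iff P (cmp D c f X).symm (cmp D c f Y) _).mpr h1

theorem prop_hom_later {i i' i'' : I} (g : i'' ⟶ i') (f : i' ⟶ i) (A : Over (D.obj i))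
    (h : P ((Over.pullback (D.map f)).obj A).hom) :
    P ((Over.pullback (D.map (g ≫ f))).obj A).hom :=
  prop_of_iso_hom P (tau D g f A) (prop_bc_hom P (D.map g) _ h)

theorem prop_hom_limit {i i' : I} (f : i' ⟶ i) (A : Over (D.obj i))
    (h : P ((Over.pullback (D.map f)).obj A).hom) :
    P ((Over.pullback (c.π.app i)).obj A).hom :=
  prop_of_iso_hom P (cmp D c f A).symm (prop_bc_hom P (c.π.app i') _ h)

end stable

theorem prop_bc_hom_iff (P : MorphismProperty Scheme.{u}) [P.RespectsIso] {S S' : Scheme.{u}}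
    (g : S' ⟶ S) (A : Over S) :
    P ((Over.pullback g).obj A).hom ↔ P (pullback.fst g A.hom) := by
  change P (pullback.snd A.hom g) ↔ _
  rw [← pullbackSymmetry_hom_comp_snd g A.hom, P.cancel_left_of_respectsIso]

variable (hc : IsLimit c)

include hc in
theorem exists_flat_hom [∀ i, QuasiSeparatedSpace (D.obj i)] {i : I} (A : Over (D.obj i))
    [LocallyOfFinitePresentation A.hom] [QuasiCompact A.hom]
    (h : Flat ((Over.pullback (c.π.app i)).obj A).hom) :
    ∃ (i' : I) (f : i' ⟶ i), Flat ((Over.pullback (D.map f)).obj A).hom := by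
  haveI : CompactSpace A.left := QuasiCompact.compactSpace_of_compactSpace A.hom
  obtain ⟨i', f, hf⟩ := Groth.Agent.Lib.Helper13.LimDescend.core_flat D c hc i A.hom
    ((prop_bc_hom_iff @Flat (c.π.app i) A).mp h)
  exact ⟨i', f, (prop_bc_hom_iff @Flat (D.map f) A).mpr hf⟩

include hc in
theorem exists_surjective_hom {i : I} (A : Over (D.obj i))
    [LocallyOfFinitePresentation A.hom] [QuasiCompact A.hom]
    (h : Surjective ((Over.pullback (c.π.app i)).obj A).hom) :
    ∃ (i' : I) (f : i' ⟶ i), Surjective ((Over.pullback (D.map f)).obj A).hom := by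
  obtain ⟨i', f, hf⟩ := Groth.Agent.Lib.Helper13.LimDescend.core_surjective D c hc i A.hom
    ((prop_bc_hom_iff @Surjective (c.π.app i) A).mp h)
  exact ⟨i', f, (prop_bc_hom_iff @Surjective (D.map f) A).mpr hf⟩

end Groth.Agent.Lib.Helper9.GL
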