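import Mathlib
import Groth.Prelude.Def_Red
import Groth.Agent.Lib.Helper9.GL13
import Groth.Agent.Lib.Helper13.LimModelMain
set_option autoImplicit false
set_option linter.style.haveILetI false
set_option linter.unusedSectionVars false
set_option linter.unusedVariables false
universe u
open CategoryTheory CategoryTheory.Limits AlgebraicGeometry Opposite MonoidalCategory CartesianMonoidalCategory

namespace Groth.Agent.Lib.Helper9.GL

open Groth.Agent.Lib.Helper22

/-- `X ⟶ S` is covering for the fppf topology (refined by an fppf qcqs morphism). -/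
def CoverAt {S : Scheme.{u}} (X : Over S) : Prop :=
  ∃ (Z : Scheme.{u}) (v : Z ⟶ S) (w : Z ⟶ X.left), w ≫ X.hom = v ∧
    Flat v ∧ Surjective v ∧ LocallyOfFinitePresentation v ∧ QuasiCompact v ∧ QuasiSeparated v

theorem coverAt_iff {S : Scheme.{u}} (X : Over S) :
    CoverAt X ↔ ∃ (Z : Over S) (w : Z ⟶ X), Flat Z.hom ∧ Surjective Z.hom ∧
      LocallyOfFinitePresentation Z.hom ∧ QuasiCompact Z.hom ∧ QuasiSeparated Z.hom := by
  constructor
  · rintro ⟨Z, v, w, hw, h⟩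
    exact ⟨Over.mk v, Over.homMk w hw, h⟩
  · rintro ⟨Z, w, h⟩
    exact ⟨Z.left, Z.hom, w.left, Over.w w, h⟩

theorem coverAt_of_iso {S : Scheme.{u}} {X X' : Over S} (e : X ≅ X') (h : CoverAt X) :
    CoverAt X' := by
  rw [coverAt_iff] at h ⊢
  obtain ⟨Z, w, h⟩ := h
  exact ⟨Z, w ≫ e.hom, h⟩

theorem coverAt_bc {S S' : Scheme.{u}} (g : S' ⟶ S) {X : Over S} (h : CoverAt X) :
    CoverAt ((Over.pullback g).obj X) := by
  rw [coverAt_iff] at h ⊢
  obtain ⟨Z, w, h1, h2, h3, h4, h5⟩ := h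
  refine ⟨(Over.pullback g).obj Z, (Over.pullback g).map w, ?_, ?_, inferInstance, inferInstance,
    inferInstance⟩
  · exact prop_bc_hom @Flat g Z h1
  · exact prop_bc_hom @Surjective g Z h2

variable {I : Type u} [SmallCategory I] [IsCofiltered I] (D : I ⥤ Scheme.{u}) (c : Cone D)
  (hc : IsLimit c) [∀ (i i' : I) (f : i ⟶ i'), IsAffineHom (D.map f)]
  [∀ i, CompactSpace (D.obj i)] [∀ i, QuasiSeparatedSpace (D.obj i)]

theorem coverAt_later {i i' i'' : I} (g : i'' ⟶ i') (f : i' ⟶ i) {X : Over (D.obj i)}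
    (h : CoverAt ((Over.pullback (D.map f)).obj X)) :
    CoverAt ((Over.pullback (D.map (g ≫ f))).obj X) :=
  coverAt_of_iso (tau D g f X).symm (coverAt_bc (D.map g) h)

theorem coverAt_limit {i i' : I} (f : i' ⟶ i) {X : Over (D.obj i)}
    (h : CoverAt ((Over.pullback (D.map f)).obj X)) :
    CoverAt ((Over.pullback (c.π.app i)).obj X) :=
  coverAt_of_iso (cmp D c f X) (coverAt_bc (c.π.app i') h)

include hc in
theorem exists_coverAt {j : I} (X : Over (D.obj j)) [LocallyOfFinitePresentation X.hom]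
    (h : CoverAt ((Over.pullback (c.π.app j)).obj X)) :
    ∃ (i : I) (f : i ⟶ j), CoverAt ((Over.pullback (D.map f)).obj X) := by
  obtain ⟨Z, v, w, hw, hfl, hsurj, hlfp, hqc, hqs⟩ := h
  obtain ⟨i₁, ⟨M⟩⟩ := Groth.Agent.Lib.Helper13.LimModel.hasModel_of_finitePresentation hc v
  haveI : LocallyOfFinitePresentation (Over.mk M.h₀).hom := M.lfp
  haveI : QuasiCompact (Over.mk M.h₀).hom := M.qc
  haveI : QuasiSeparated (Over.mk M.h₀).hom := M.qs
  let Z₁ : Over (D.obj i₁) := Over.mk M.h₀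
  let e₀ : Over.mk v ≅ (Over.pullback (c.π.app i₁)).obj Z₁ :=
    Over.isoMk M.pb.isoPullback (M.pb.isoPullback_hom_snd)
  let i₂ := IsCofiltered.min j i₁
  let g₂ : i₂ ⟶ j := IsCofiltered.minToLeft j i₁
  let g₁ : i₂ ⟶ i₁ := IsCofiltered.minToRight j i₁
  let A : Over (D.obj i₂) := (Over.pullback (D.map g₁)).obj Z₁
  let B : Over (D.obj i₂) := (Over.pullback (D.map g₂)).obj X
  let u : (Over.pullback (c.π.app i₂)).obj A ⟶ (Over.pullback (c.π.app i₂)).obj B :=
    (cmp D c g₁ Z₁).hom ≫ e₀.inv ≫ Over.homMk w hw ≫ (cmp D c g₂ X).inv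
  obtain ⟨i₃, h, u', -⟩ := exists_map_eq_cmp D c hc u
  let A₃ : Over (D.obj i₃) := (Over.pullback (D.map h)).obj A
  let e₃ : (Over.pullback (c.π.app i₃)).obj A₃ ≅ Over.mk v :=
    cmp D c h A ≪≫ cmp D c g₁ Z₁ ≪≫ e₀.symm
  have hfl₃ : Flat ((Over.pullback (c.π.app i₃)).obj A₃).hom := prop_of_iso_hom @Flat e₃ hfl
  have hsurj₃ : Surjective ((Over.pullback (c.π.app i₃)).obj A₃).hom :=
    prop_of_iso_hom @Surjective e₃ hsurj
  obtain ⟨ia, ka, ha⟩ := exists_flat_hom D c hc A₃ hfl₃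
  obtain ⟨ib, kb, hb⟩ := exists_surjective_hom D c hc A₃ hsurj₃
  obtain ⟨W, la, lb, hl⟩ := IsCofiltered.cospan ka kb
  have ha' : Flat ((Over.pullback (D.map (la ≫ ka))).obj A₃).hom :=
    prop_hom_later D @Flat la ka A₃ ha
  have hb' : Surjective ((Over.pullback (D.map (la ≫ ka))).obj A₃).hom := by
    rw [hl]
    exact prop_hom_later D @Surjective lb kb A₃ hb
  have h1 : CoverAt ((Over.pullback (D.map (la ≫ ka))).obj ((Over.pullback (D.map h)).obj B)) := by
    rw [coverAt_iff]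
    exact ⟨_, (Over.pullback (D.map (la ≫ ka))).map u', ha', hb', inferInstance, inferInstance,
      inferInstance⟩
  have h2 : CoverAt ((Over.pullback (D.map ((la ≫ ka) ≫ h))).obj B) :=
    coverAt_of_iso (tau D (la ≫ ka) h B).symm h1
  exact ⟨W, ((la ≫ ka) ≫ h) ≫ g₂, coverAt_of_iso (tau D ((la ≫ ka) ≫ h) g₂ X).symm h2⟩

end Groth.Agent.Lib.Helper9.GL
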