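import Mathlib
import Groth.Prelude.Def_Red
import Groth.Prelude.Def_AlgGrp
import Groth.Agent.Lib.Helper9.GL14
import Groth.Agent.Lib.Helper9.GL10
set_option autoImplicit false
set_option linter.style.haveILetI false
set_option linter.unusedSectionVars false
set_option linter.unusedVariables false
universe u
open CategoryTheory CategoryTheory.Limits AlgebraicGeometry Opposite MonoidalCategory CartesianMonoidalCategory

namespace Groth.Agent.Lib.Helper9.GL

open Groth.Agent.Lib.Helper22

variable {I : Type u} [SmallCategory I] [IsCofiltered I] (D : I ⥤ Scheme.{u}) (c : Cone D)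
  (hc : IsLimit c) [∀ (i i' : I) (f : i ⟶ i'), IsAffineHom (D.map f)]
  [∀ i, CompactSpace (D.obj i)] [∀ i, QuasiSeparatedSpace (D.obj i)]

theorem isIso_later {i i' i'' : I} (g : i'' ⟶ i') (f : i' ⟶ i) {X Y : Over (D.obj i)}
    (v : X ⟶ Y) (h : IsIso ((Over.pullback (D.map f)).map v)) :
    IsIso ((Over.pullback (D.map (g ≫ f))).map v) := by
  have e : (Over.pullback (D.map (g ≫ f))).map v =
      (tau D g f X).hom ≫ (Over.pullback (D.map g)).map ((Over.pullback (D.map f)).map v) ≫
        (tau D g f Y).inv := by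
    rw [← Category.assoc, ← tau_naturality, Category.assoc, Iso.hom_inv_id, Category.comp_id]
  rw [e]
  infer_instance

theorem isIso_limit {i i' : I} (f : i' ⟶ i) {X Y : Over (D.obj i)}
    (v : X ⟶ Y) (h : IsIso ((Over.pullback (D.map f)).map v)) :
    IsIso ((Over.pullback (c.π.app i)).map v) := by
  have e : (Over.pullback (c.π.app i)).map v =
      (cmp D c f X).inv ≫ (Over.pullback (c.π.app i')).map ((Over.pullback (D.map f)).map v) ≫
        (cmp D c f Y).hom := by
    rw [cmp_naturality, Iso.inv_hom_id_assoc]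
  rw [e]
  infer_instance

/-- the torsor condition at a stage -/
def TorsorAt {S S' : Scheme.{u}} (g : S' ⟶ S) {G X : Over S} (a : G ⊗ X ⟶ X) : Prop :=
  IsIso (lift (Functor.LaxMonoidal.μ (Over.pullback g) G X ≫ (Over.pullback g).map a)
    (snd ((Over.pullback g).obj G) ((Over.pullback g).obj X))) ∧
  ∃ (Z : Scheme.{u}) (v : Z ⟶ S') (w : Z ⟶ ((Over.pullback g).obj X).left),
    w ≫ ((Over.pullback g).obj X).hom = v ∧
      Flat v ∧ Surjective v ∧ LocallyOfFinitePresentation v ∧ QuasiCompact v ∧ QuasiSeparated v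

theorem torsorAt_iff {S S' : Scheme.{u}} (g : S' ⟶ S) {G X : Over S} (a : G ⊗ X ⟶ X) :
    TorsorAt g a ↔ IsIso ((Over.pullback g).map (lift a (snd G X))) ∧
      CoverAt ((Over.pullback g).obj X) := by
  unfold TorsorAt
  rw [isIso_lift_μ_map_snd_iff]
  rfl

include hc in
theorem torsor_limit_iff {j : I} {G X : Over (D.obj j)}
    [LocallyOfFinitePresentation G.hom] [QuasiCompact G.hom] [QuasiSeparated G.hom]
    [LocallyOfFinitePresentation X.hom] [QuasiCompact X.hom] [QuasiSeparated X.hom]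
    (a : G ⊗ X ⟶ X) :
    TorsorAt (c.π.app j) a ↔ ∃ (i : I) (f : i ⟶ j), TorsorAt (D.map f) a := by
  simp only [torsorAt_iff]
  constructor
  · rintro ⟨h1, h2⟩
    obtain ⟨i₁, f₁, hf₁⟩ := exists_isIso_map D c hc (lift a (snd G X)) h1
    obtain ⟨i₂, f₂, hf₂⟩ := exists_coverAt D c hc X h2
    obtain ⟨W, k₁, k₂, hk⟩ := IsCofiltered.cospan f₁ f₂
    refine ⟨W, k₁ ≫ f₁, isIso_later D k₁ f₁ _ hf₁, ?_⟩
    rw [hk]
    exact coverAt_later D k₂ f₂ hf₂
  · rintro ⟨i, f, h1, h2⟩
    exact ⟨isIso_limit D c f _ h1, coverAt_limit D c f h2⟩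

end Groth.Agent.Lib.Helper9.GL
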