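import Mathlib
import Groth.Prelude.Def_Red
import Groth.Agent.Lib.Helper9.GL15
import Groth.Agent.Lib.Helper24.Quot.Transfer
import Groth.Agent.Lib.Helper21.FlatDescS
set_option autoImplicit false
set_option linter.style.haveILetI false
set_option linter.unusedSectionVars false
set_option linter.unusedVariables false
universe u
open CategoryTheory CategoryTheory.Limits AlgebraicGeometry Opposite MonoidalCategory CartesianMonoidalCategory

namespace Groth.Agent.Lib.Helper9.GL

open Groth.Agent.Lib.Helper4 Groth.Agent.Lib.Helper4.FpqcCov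

theorem isCov_of_fppf {Z Y : Scheme.{u}} (q : Z ⟶ Y) [Flat q] [Surjective q]
    [LocallyOfFinitePresentation q] : IsCov q := by
  refine ⟨‹_›, ‹_›, fun V hV => ?_⟩
  obtain ⟨W, hW, e⟩ := q.isOpenMap.exists_opens_image_eq_of_prespectralSpace q.continuous
    (U := (V : Set Y)) (fun y _ => q.surjective y) V.2 hV.isCompact
  exact ⟨W, hW, e⟩

theorem quotient_fp {S : Scheme.{u}} {X R Y : Over S} (s t : R ⟶ X) (p : X ⟶ Y)
    (sq : IsPullback s t p p) [Flat p.left] [Surjective p.left]
    [LocallyOfFinitePresentation p.left] [LocallyOfFinitePresentation X.hom] [QuasiCompact X.hom]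
    [QuasiSeparated X.hom] [QuasiCompact R.hom] :
    LocallyOfFinitePresentation Y.hom ∧ QuasiCompact Y.hom ∧ QuasiSeparated Y.hom := by
  have hw : p.left ≫ Y.hom = X.hom := Over.w p
  haveI : LocallyOfFinitePresentation (p.left ≫ Y.hom) := by rw [hw]; infer_instance
  haveI : QuasiCompact (p.left ≫ Y.hom) := by rw [hw]; infer_instance
  refine ⟨Groth.Agent.Lib.Helper21.FlatDesc.locallyOfFinitePresentation_of_fppf_comp p.left Y.hom,
    Groth.Agent.Lib.Helper24.Quot.quasiCompact_of_comp_surjective p.left Y.hom, ?_⟩
  have hq : IsCov (𝟙 X.left ≫ p.left) := by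
    rw [Category.id_comp]
    exact isCov_of_fppf p.left
  have hv : QuasiCompact (lift (pullback.fst p p) (pullback.snd p p)).left := by
    have e : lift (pullback.fst p p) (pullback.snd p p) = sq.isoPullback.inv ≫ lift s t := by
      rw [Iso.eq_inv_comp]
      ext
      · simp
      · simp
    have h1 : IsIso sq.isoPullback.inv.left :=
      inferInstanceAs (IsIso ((Over.forget S).map sq.isoPullback.inv))
    haveI : QuasiCompact ((lift s t).left ≫ (X ⊗ X).hom) := by
      rw [Over.w (lift s t)]; infer_instance
    have h2 : QuasiCompact (lift s t).left := QuasiCompact.of_comp (lift s t).left (X ⊗ X).hom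
    rw [e, Over.comp_left]
    infer_instance
  have hd : QuasiCompact (pullback.diagonal Y.hom) :=
    Groth.Agent.Lib.Helper24.Quot.diag_descends @QuasiCompact p (𝟙 X.left) hq hv
  exact ⟨hd⟩

end Groth.Agent.Lib.Helper9.GL
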