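import Mathlib
import Groth.Prelude.Def_Red
import Groth.Agent.Lib.Helper9.GL15
set_option autoImplicit false
set_option linter.style.haveILetI false
set_option linter.unusedSectionVars false
set_option linter.unusedVariables false
universe u
open CategoryTheory CategoryTheory.Limits AlgebraicGeometry Opposite MonoidalCategory CartesianMonoidalCategory

namespace Groth.Agent.Lib.Helper9.GL

section general
universe v₁ u₁
variable {C : Type u₁} [Category.{v₁} C]

theorem isIso_of_isPullback_of_isPullback {P P' X Y Z : C} {a : P ⟶ X} {b : P ⟶ Y}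
    {a' : P' ⟶ X} {b' : P' ⟶ Y} {f : X ⟶ Z} {g : Y ⟶ Z} (h : IsPullback a b f g)
    (h' : IsPullback a' b' f g) (κ : P ⟶ P') (ha : κ ≫ a' = a) (hb : κ ≫ b' = b) : IsIso κ := by
  have : κ = (h.isoIsPullback _ _ h').hom := by
    apply h'.hom_ext
    · rw [ha, IsPullback.isoIsPullback_hom_fst]
    · rw [hb, IsPullback.isoIsPullback_hom_snd]
  rw [this]
  infer_instance

theorem isPullback_of_isIso_comparison {P P' X Y Z : C} {a : P ⟶ X} {b : P ⟶ Y}
    {a' : P' ⟶ X} {b' : P' ⟶ Y} {f : X ⟶ Z} {g : Y ⟶ Z}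
    (h' : IsPullback a' b' f g) (κ : P ⟶ P') [IsIso κ] (ha : κ ≫ a' = a) (hb : κ ≫ b' = b) :
    IsPullback a b f g :=
  IsPullback.of_iso h' (asIso κ).symm (Iso.refl _) (Iso.refl _) (Iso.refl _)
    (by simp [← ha]) (by simp [← hb]) (by simp) (by simp)

/-- transport of a pullback square along a natural family of isomorphisms -/
theorem isPullback_iff_of_natIso {E : Type*} [Category E] (F G : C ⥤ E)
    (e : ∀ X : C, F.obj X ≅ G.obj X)
    (nat : ∀ {X Y : C} (f : X ⟶ Y), F.map f ≫ (e Y).hom = (e X).hom ≫ G.map f)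
    {P X Y Z : C} (a : P ⟶ X) (b : P ⟶ Y) (f : X ⟶ Z) (g : Y ⟶ Z) :
    IsPullback (F.map a) (F.map b) (F.map f) (F.map g) ↔
      IsPullback (G.map a) (G.map b) (G.map f) (G.map g) := by
  constructor
  · intro h
    exact IsPullback.of_iso h (e P) (e X) (e Y) (e Z) (nat a) (nat b) (nat f) (nat g)
  · intro h
    refine IsPullback.of_iso h (e P).symm (e X).symm (e Y).symm (e Z).symm ?_ ?_ ?_ ?_
    · rw [Iso.symm_hom, Iso.symm_hom, Iso.comp_inv_eq, Category.assoc, nat, Iso.inv_hom_id_assoc]
    · rw [Iso.symm_hom, Iso.symm_hom, Iso.comp_inv_eq, Category.assoc, nat, Iso.inv_hom_id_assoc]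
    · rw [Iso.symm_hom, Iso.symm_hom, Iso.comp_inv_eq, Category.assoc, nat, Iso.inv_hom_id_assoc]
    · rw [Iso.symm_hom, Iso.symm_hom, Iso.comp_inv_eq, Category.assoc, nat, Iso.inv_hom_id_assoc]

end general

theorem isPullback_map {S S' : Scheme.{u}} (g : S' ⟶ S) {R X X' Y : Over S} {a : R ⟶ X}
    {b : R ⟶ X'} {p : X ⟶ Y} {q : X' ⟶ Y} (sq : IsPullback a b p q) :
    IsPullback ((Over.pullback g).map a) ((Over.pullback g).map b) ((Over.pullback g).map p)
      ((Over.pullback g).map q) :=
  sq.map _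

/-- finiteness properties of a fibre product in `Over S` -/
theorem over_pullback_fp {S : Scheme.{u}} {X X' Y : Over S} (p : X ⟶ Y) (q : X' ⟶ Y)
    [QuasiCompact X.hom] [QuasiSeparated X.hom] [LocallyOfFiniteType X.hom]
    [QuasiCompact X'.hom] [QuasiSeparated X'.hom] [LocallyOfFiniteType X'.hom]
    [QuasiSeparated Y.hom] :
    QuasiCompact (pullback p q).hom ∧ QuasiSeparated (pullback p q).hom ∧
      LocallyOfFiniteType (pullback p q).hom := by
  have sq := (IsPullback.of_hasPullback p q).map (Over.forget S)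
  simp only [Over.forget_map] at sq
  haveI : QuasiCompact (q.left ≫ Y.hom) := by rw [Over.w q]; infer_instance
  haveI : QuasiSeparated (q.left ≫ Y.hom) := by rw [Over.w q]; infer_instance
  haveI : LocallyOfFiniteType (q.left ≫ Y.hom) := by rw [Over.w q]; infer_instance
  have h1 : QuasiCompact q.left := QuasiCompact.of_comp q.left Y.hom
  have h2 : QuasiSeparated q.left := QuasiSeparated.of_comp q.left Y.hom
  have h3 : LocallyOfFiniteType q.left := locallyOfFiniteType_of_comp q.left Y.hom
  have h1' : QuasiCompact (pullback.fst p q).left :=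
    MorphismProperty.of_isPullback (P := @QuasiCompact) sq.flip h1
  have h2' : QuasiSeparated (pullback.fst p q).left :=
    MorphismProperty.of_isPullback (P := @QuasiSeparated) sq.flip h2
  have h3' : LocallyOfFiniteType (pullback.fst p q).left :=
    MorphismProperty.of_isPullback (P := @LocallyOfFiniteType) sq.flip h3
  rw [← Over.w (pullback.fst p q)]
  exact ⟨inferInstance, inferInstance, inferInstance⟩

variable {I : Type u} [SmallCategory I] [IsCofiltered I] (D : I ⥤ Scheme.{u}) (c : Cone D)
  (hc : IsLimit c) [∀ (i i' : I) (f : i ⟶ i'), IsAffineHom (D.map f)]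
  [∀ i, CompactSpace (D.obj i)]

theorem isPullback_tau_iff {i i' i'' : I} (g : i'' ⟶ i') (f : i' ⟶ i)
    {P X Y Z : Over (D.obj i)} (a : P ⟶ X) (b : P ⟶ Y) (p : X ⟶ Z) (q : Y ⟶ Z) :
    IsPullback ((Over.pullback (D.map (g ≫ f))).map a) ((Over.pullback (D.map (g ≫ f))).map b)
      ((Over.pullback (D.map (g ≫ f))).map p) ((Over.pullback (D.map (g ≫ f))).map q) ↔
    IsPullback ((Over.pullback (D.map g)).map ((Over.pullback (D.map f)).map a))
      ((Over.pullback (D.map g)).map ((Over.pullback (D.map f)).map b))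
      ((Over.pullback (D.map g)).map ((Over.pullback (D.map f)).map p))
      ((Over.pullback (D.map g)).map ((Over.pullback (D.map f)).map q)) :=
  isPullback_iff_of_natIso (Over.pullback (D.map (g ≫ f)))
    (Over.pullback (D.map f) ⋙ Over.pullback (D.map g)) (fun X => tau D g f X)
    (fun v => tau_naturality D g f v) a b p q

theorem isPullback_cmp_iff {i i' : I} (f : i' ⟶ i)
    {P X Y Z : Over (D.obj i)} (a : P ⟶ X) (b : P ⟶ Y) (p : X ⟶ Z) (q : Y ⟶ Z) :
    IsPullback ((Over.pullback (c.π.app i')).map ((Over.pullback (D.map f)).map a))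
      ((Over.pullback (c.π.app i')).map ((Over.pullback (D.map f)).map b))
      ((Over.pullback (c.π.app i')).map ((Over.pullback (D.map f)).map p))
      ((Over.pullback (c.π.app i')).map ((Over.pullback (D.map f)).map q)) ↔
    IsPullback ((Over.pullback (c.π.app i)).map a) ((Over.pullback (c.π.app i)).map b)
      ((Over.pullback (c.π.app i)).map p) ((Over.pullback (c.π.app i)).map q) :=
  isPullback_iff_of_natIso (Over.pullback (D.map f) ⋙ Over.pullback (c.π.app i'))
    (Over.pullback (c.π.app i)) (fun X => cmp D c f X)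
    (fun v => cmp_naturality D c f v) a b p q

theorem isPullback_later {i i' i'' : I} (g : i'' ⟶ i') (f : i' ⟶ i)
    {P X Y Z : Over (D.obj i)} {a : P ⟶ X} {b : P ⟶ Y} {p : X ⟶ Z} {q : Y ⟶ Z}
    (h : IsPullback ((Over.pullback (D.map f)).map a) ((Over.pullback (D.map f)).map b)
      ((Over.pullback (D.map f)).map p) ((Over.pullback (D.map f)).map q)) :
    IsPullback ((Over.pullback (D.map (g ≫ f))).map a) ((Over.pullback (D.map (g ≫ f))).map b)
      ((Over.pullback (D.map (g ≫ f))).map p) ((Over.pullback (D.map (g ≫ f))).map q) :=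
  (isPullback_tau_iff D g f a b p q).mpr (isPullback_map (D.map g) h)

theorem isPullback_limit {i i' : I} (f : i' ⟶ i)
    {P X Y Z : Over (D.obj i)} {a : P ⟶ X} {b : P ⟶ Y} {p : X ⟶ Z} {q : Y ⟶ Z}
    (h : IsPullback ((Over.pullback (D.map f)).map a) ((Over.pullback (D.map f)).map b)
      ((Over.pullback (D.map f)).map p) ((Over.pullback (D.map f)).map q)) :
    IsPullback ((Over.pullback (c.π.app i)).map a) ((Over.pullback (c.π.app i)).map b)
      ((Over.pullback (c.π.app i)).map p) ((Over.pullback (c.π.app i)).map q) :=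
  (isPullback_cmp_iff D c f a b p q).mp (isPullback_map (c.π.app i') h)

end Groth.Agent.Lib.Helper9.GL
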