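import Mathlib
import Groth.Prelude.Def_Red
import Groth.Agent.Lib.Helper9.GL17
set_option autoImplicit false
set_option linter.style.haveILetI false
set_option linter.unusedSectionVars false
set_option linter.unusedVariables false
universe u
open CategoryTheory CategoryTheory.Limits AlgebraicGeometry Opposite MonoidalCategory CartesianMonoidalCategory

namespace Groth.Agent.Lib.Helper9.GL

variable {I : Type u} [SmallCategory I] [IsCofiltered I] (D : I ⥤ Scheme.{u}) (c : Cone D)
  (hc : IsLimit c) [∀ (i i' : I) (f : i ⟶ i'), IsAffineHom (D.map f)]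
  [∀ i, CompactSpace (D.obj i)] [∀ i, QuasiSeparatedSpace (D.obj i)]

include hc in
/-- a kernel-pair square which is cartesian over the limit is cartesian at some stage -/
theorem exists_isPullback_map {i : I} {R X Y : Over (D.obj i)}
    [LocallyOfFinitePresentation R.hom] [QuasiCompact R.hom] [QuasiSeparated R.hom]
    [LocallyOfFiniteType X.hom] [QuasiCompact X.hom] [QuasiSeparated X.hom]
    [LocallyOfFiniteType Y.hom] [QuasiSeparated Y.hom]
    (s t : R ⟶ X) (p : X ⟶ Y)
    (h : IsPullback ((Over.pullback (c.π.app i)).map s) ((Over.pullback (c.π.app i)).map t)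
      ((Over.pullback (c.π.app i)).map p) ((Over.pullback (c.π.app i)).map p)) :
    ∃ (i' : I) (k : i' ⟶ i),
      IsPullback ((Over.pullback (D.map k)).map s) ((Over.pullback (D.map k)).map t)
        ((Over.pullback (D.map k)).map p) ((Over.pullback (D.map k)).map p) := by
  have e0 : (Over.pullback (c.π.app i)).map (s ≫ p) = (Over.pullback (c.π.app i)).map (t ≫ p) := by
    rw [Functor.map_comp, Functor.map_comp, h.w]
  obtain ⟨i₁, k₁, e1⟩ := exists_map_eq D c hc (s ≫ p) (t ≫ p) e0
  have w1 : (Over.pullback (D.map k₁)).map s ≫ (Over.pullback (D.map k₁)).map p =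
      (Over.pullback (D.map k₁)).map t ≫ (Over.pullback (D.map k₁)).map p := by
    rw [← Functor.map_comp, ← Functor.map_comp, e1]
  let κ := pullback.lift _ _ w1
  have h1 : IsPullback
      ((Over.pullback (c.π.app i₁)).map ((Over.pullback (D.map k₁)).map s))
      ((Over.pullback (c.π.app i₁)).map ((Over.pullback (D.map k₁)).map t))
      ((Over.pullback (c.π.app i₁)).map ((Over.pullback (D.map k₁)).map p))
      ((Over.pullback (c.π.app i₁)).map ((Over.pullback (D.map k₁)).map p)) :=
    (isPullback_cmp_iff D c k₁ s t p p).mpr h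
  have h2 := isPullback_map (c.π.app i₁) (IsPullback.of_hasPullback
    ((Over.pullback (D.map k₁)).map p) ((Over.pullback (D.map k₁)).map p))
  have hiso : IsIso ((Over.pullback (c.π.app i₁)).map κ) :=
    isIso_of_isPullback_of_isPullback h1 h2 _
      (by rw [← Functor.map_comp, pullback.lift_fst])
      (by rw [← Functor.map_comp, pullback.lift_snd])
  obtain ⟨hqc, hqs, hlft⟩ := over_pullback_fp ((Over.pullback (D.map k₁)).map p)
    ((Over.pullback (D.map k₁)).map p)
  obtain ⟨i₂, k₂, hk₂⟩ := exists_isIso_map D c hc κ hiso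
  have h3 := isPullback_map (D.map k₂) (IsPullback.of_hasPullback
    ((Over.pullback (D.map k₁)).map p) ((Over.pullback (D.map k₁)).map p))
  have h4 := isPullback_of_isIso_comparison h3 ((Over.pullback (D.map k₂)).map κ)
    (a := (Over.pullback (D.map k₂)).map ((Over.pullback (D.map k₁)).map s))
    (b := (Over.pullback (D.map k₂)).map ((Over.pullback (D.map k₁)).map t))
    (by rw [← Functor.map_comp, pullback.lift_fst])
    (by rw [← Functor.map_comp, pullback.lift_snd])
  exact ⟨i₂, k₂ ≫ k₁, (isPullback_tau_iff D k₂ k₁ s t p p).mpr h4⟩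

end Groth.Agent.Lib.Helper9.GL
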