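import Mathlib
import Groth.Prelude.Def_Red
import Groth.Agent.Lib.Helper9.GL18
import Groth.Agent.Lib.Helper9.GL16
import Groth.Agent.Lib.Helper13.LimModelMain
set_option autoImplicit false
set_option linter.style.haveILetI false
set_option linter.unusedSectionVars false
set_option linter.unusedVariables false
universe u
open CategoryTheory CategoryTheory.Limits AlgebraicGeometry Opposite MonoidalCategory CartesianMonoidalCategory

namespace Groth.Agent.Lib.Helper9.GL

/-- effective quotient datum for the images of `s, t` under a functor -/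
def QuotData {S S' : Scheme.{u}} (F : Over S ⥤ Over S') {R X : Over S} (s t : R ⟶ X) : Prop :=
  ∃ (Y : Over S') (p : F.obj X ⟶ Y), Flat p.left ∧ Surjective p.left ∧
    LocallyOfFinitePresentation p.left ∧ IsPullback (F.map s) (F.map t) p p

theorem quotData_transport {S S' : Scheme.{u}} (F G : Over S ⥤ Over S')
    (e : ∀ X : Over S, F.obj X ≅ G.obj X)
    (nat : ∀ {X Y : Over S} (f : X ⟶ Y), F.map f ≫ (e Y).hom = (e X).hom ≫ G.map f)
    {R X : Over S} (s t : R ⟶ X) (h : QuotData F s t) : QuotData G s t := by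
  obtain ⟨Y, p, h1, h2, h3, h4⟩ := h
  haveI : IsIso (e X).inv.left := inferInstanceAs (IsIso ((Over.forget _).map (e X).inv))
  refine ⟨Y, (e X).inv ≫ p, ?_, ?_, ?_, ?_⟩
  · rw [Over.comp_left]
    exact (MorphismProperty.cancel_left_of_respectsIso (P := @Flat) _ _).mpr h1
  · rw [Over.comp_left]
    exact (MorphismProperty.cancel_left_of_respectsIso (P := @Surjective) _ _).mpr h2
  · rw [Over.comp_left]
    exact (MorphismProperty.cancel_left_of_respectsIso (P := @LocallyOfFinitePresentation) _ _).mpr h3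
  · exact IsPullback.of_iso h4 (e R) (e X) (e X) (Iso.refl Y) (nat s) (nat t) (by simp) (by simp)

theorem quotData_comp {S S' S'' : Scheme.{u}} (F : Over S ⥤ Over S') (g : S'' ⟶ S')
    {R X : Over S} (s t : R ⟶ X) (h : QuotData F s t) :
    QuotData (F ⋙ Over.pullback g) s t := by
  obtain ⟨Y, p, h1, h2, h3, h4⟩ := h
  exact ⟨(Over.pullback g).obj Y, (Over.pullback g).map p, prop_map @Flat g p h1,
    prop_map @Surjective g p h2, prop_map @LocallyOfFinitePresentation g p h3,
    isPullback_map g h4⟩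

variable {I : Type u} [SmallCategory I] [IsCofiltered I] (D : I ⥤ Scheme.{u}) (c : Cone D)
  (hc : IsLimit c) [∀ (i i' : I) (f : i ⟶ i'), IsAffineHom (D.map f)]
  [∀ i, CompactSpace (D.obj i)] [∀ i, QuasiSeparatedSpace (D.obj i)]

theorem quotData_limit {i j : I} (f : i ⟶ j) {R X : Over (D.obj j)} (s t : R ⟶ X)
    (h : QuotData (Over.pullback (D.map f)) s t) : QuotData (Over.pullback (c.π.app j)) s t :=
  quotData_transport (Over.pullback (D.map f) ⋙ Over.pullback (c.π.app i))
    (Over.pullback (c.π.app j)) (fun X => cmp D c f X) (fun v => cmp_naturality D c f v) s t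
    (quotData_comp _ (c.π.app i) s t h)

theorem tau2_naturality {i i' i'' i3 : I} (K : i3 ⟶ i'') (h : i'' ⟶ i') (g : i' ⟶ i)
    {Z Z' : Over (D.obj i)} (v : Z ⟶ Z') :
    (Over.pullback (D.map K)).map ((Over.pullback (D.map h)).map ((Over.pullback (D.map g)).map v)) ≫
      (tau D K h ((Over.pullback (D.map g)).obj Z')).inv ≫ (tau D (K ≫ h) g Z').inv =
    ((tau D K h ((Over.pullback (D.map g)).obj Z)).inv ≫ (tau D (K ≫ h) g Z).inv) ≫
      (Over.pullback (D.map ((K ≫ h) ≫ g))).map v := by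
  have e1 := tau_inv_naturality D K h ((Over.pullback (D.map g)).map v)
  have e2 := tau_inv_naturality D (K ≫ h) g v
  exact (Category.assoc _ _ _).symm.trans ((congrArg (· ≫ (tau D (K ≫ h) g Z').inv) e1.symm).trans
    ((Category.assoc _ _ _).trans ((congrArg
      ((tau D K h ((Over.pullback (D.map g)).obj Z)).inv ≫ ·) e2.symm).trans
      (Category.assoc _ _ _).symm)))

include hc in
theorem exists_quotData {j : I} {R X : Over (D.obj j)}
    [LocallyOfFinitePresentation X.hom] [QuasiCompact X.hom] [QuasiSeparated X.hom]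
    [LocallyOfFinitePresentation R.hom] [QuasiCompact R.hom] [QuasiSeparated R.hom]
    (s t : R ⟶ X) (h : QuotData (Over.pullback (c.π.app j)) s t) :
    ∃ (i : I) (f : i ⟶ j), QuotData (Over.pullback (D.map f)) s t := by
  obtain ⟨Y, p, hfl, hsurj, hlfp, sq⟩ := h
  obtain ⟨hY1, hY2, hY3⟩ := quotient_fp _ _ p sq
  obtain ⟨i₁, ⟨M⟩⟩ := Groth.Agent.Lib.Helper13.LimModel.hasModel_of_finitePresentation hc Y.hom
  haveI : LocallyOfFinitePresentation (Over.mk M.h₀).hom := M.lfp
  haveI : QuasiCompact (Over.mk M.h₀).hom := M.qc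
  haveI : QuasiSeparated (Over.mk M.h₀).hom := M.qs
  let Y₁ : Over (D.obj i₁) := Over.mk M.h₀
  let e₀ : Y ≅ (Over.pullback (c.π.app i₁)).obj Y₁ :=
    Over.isoMk M.pb.isoPullback (M.pb.isoPullback_hom_snd)
  let i₂ := IsCofiltered.min j i₁
  let g₂ : i₂ ⟶ j := IsCofiltered.minToLeft j i₁
  let g₁ : i₂ ⟶ i₁ := IsCofiltered.minToRight j i₁
  let A : Over (D.obj i₂) := (Over.pullback (D.map g₂)).obj X
  let B : Over (D.obj i₂) := (Over.pullback (D.map g₁)).obj Y₁
  let u : (Over.pullback (c.π.app i₂)).obj A ⟶ (Over.pullback (c.π.app i₂)).obj B :=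
    (cmp D c g₂ X).hom ≫ p ≫ e₀.hom ≫ (cmp D c g₁ Y₁).inv
  obtain ⟨i₃, h, p₃, hp₃⟩ := exists_map_eq_cmp D c hc u
  -- the data at stage `i₃`
  let s₃ := (Over.pullback (D.map h)).map ((Over.pullback (D.map g₂)).map s)
  let t₃ := (Over.pullback (D.map h)).map ((Over.pullback (D.map g₂)).map t)
  let αX : (Over.pullback (c.π.app i₃)).obj ((Over.pullback (D.map h)).obj A) ≅
      (Over.pullback (c.π.app j)).obj X := cmp D c h A ≪≫ cmp D c g₂ X
  let αR : (Over.pullback (c.π.app i₃)).obj ((Over.pullback (D.map h)).obj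
      ((Over.pullback (D.map g₂)).obj R)) ≅ (Over.pullback (c.π.app j)).obj R :=
    cmp D c h _ ≪≫ cmp D c g₂ R
  let β : Y ≅ (Over.pullback (c.π.app i₃)).obj ((Over.pullback (D.map h)).obj B) :=
    e₀ ≪≫ (cmp D c g₁ Y₁).symm ≪≫ (cmp D c h B).symm
  have hp₃' : (Over.pullback (c.π.app i₃)).map p₃ = αX.hom ≫ p ≫ β.hom := by
    rw [hp₃]
    simp only [u, αX, β, Iso.trans_hom, Iso.symm_hom, Category.assoc]
  have hs₃ : (Over.pullback (c.π.app i₃)).map s₃ ≫ αX.hom =
      αR.hom ≫ (Over.pullback (c.π.app j)).map s := by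
    simp only [s₃, αX, αR, Iso.trans_hom]
    rw [← Category.assoc, cmp_naturality, Category.assoc, cmp_naturality, Category.assoc]
  have ht₃ : (Over.pullback (c.π.app i₃)).map t₃ ≫ αX.hom =
      αR.hom ≫ (Over.pullback (c.π.app j)).map t := by
    simp only [t₃, αX, αR, Iso.trans_hom]
    rw [← Category.assoc, cmp_naturality, Category.assoc, cmp_naturality, Category.assoc]
  have sq₃ : IsPullback ((Over.pullback (c.π.app i₃)).map s₃) ((Over.pullback (c.π.app i₃)).map t₃)
      ((Over.pullback (c.π.app i₃)).map p₃) ((Over.pullback (c.π.app i₃)).map p₃) := by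
    refine IsPullback.of_iso sq αR.symm αX.symm αX.symm β ?_ ?_ ?_ ?_
    · rw [Iso.symm_hom, Iso.symm_hom, Iso.comp_inv_eq, Category.assoc, hs₃, Iso.inv_hom_id_assoc]
    · rw [Iso.symm_hom, Iso.symm_hom, Iso.comp_inv_eq, Category.assoc, ht₃, Iso.inv_hom_id_assoc]
    · rw [hp₃', Iso.symm_hom, Iso.inv_hom_id_assoc]
    · rw [hp₃', Iso.symm_hom, Iso.inv_hom_id_assoc]
  have hfl₃ : Flat ((Over.pullback (c.π.app i₃)).map p₃).left := by
    rw [hp₃']
    exact (prop_left_conj_iff @Flat αX β p).mpr hfl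
  have hsurj₃ : Surjective ((Over.pullback (c.π.app i₃)).map p₃).left := by
    rw [hp₃']
    exact (prop_left_conj_iff @Surjective αX β p).mpr hsurj
  obtain ⟨ia, ka, ha⟩ := exists_flat_map D c hc p₃ hfl₃
  obtain ⟨ib, kb, hb⟩ := exists_surjective_map D c hc p₃ hsurj₃
  obtain ⟨ic, kc, hkc⟩ := exists_isPullback_map D c hc s₃ t₃ p₃ sq₃
  obtain ⟨W₁, la, lb, hl⟩ := IsCofiltered.cospan ka kb
  obtain ⟨W, m, lc, hm⟩ := IsCofiltered.cospan (la ≫ ka) kc
  have ha₁ : Flat ((Over.pullback (D.map (m ≫ la ≫ ka))).map p₃).left :=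
    prop_later D @Flat m (la ≫ ka) p₃ (prop_later D @Flat la ka p₃ ha)
  have hb₁ : Surjective ((Over.pullback (D.map (m ≫ la ≫ ka))).map p₃).left := by
    have := prop_later D @Surjective lb kb p₃ hb
    rw [← hl] at this
    exact prop_later D @Surjective m (la ≫ ka) p₃ this
  have hc₁ : IsPullback ((Over.pullback (D.map (m ≫ la ≫ ka))).map s₃)
      ((Over.pullback (D.map (m ≫ la ≫ ka))).map t₃)
      ((Over.pullback (D.map (m ≫ la ≫ ka))).map p₃)
      ((Over.pullback (D.map (m ≫ la ≫ ka))).map p₃) := by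
    rw [hm]
    exact isPullback_later D lc kc hkc
  have hlfp₁ : LocallyOfFinitePresentation ((Over.pullback (D.map (m ≫ la ≫ ka))).map p₃).left := by
    haveI : LocallyOfFinitePresentation
        (((Over.pullback (D.map (m ≫ la ≫ ka))).map p₃).left ≫
          ((Over.pullback (D.map (m ≫ la ≫ ka))).obj ((Over.pullback (D.map h)).obj B)).hom) := by
      rw [Over.w]; infer_instance
    exact Groth.Agent.Lib.Helper13.LimDescend.locallyOfFinitePresentation_of_comp _
      ((Over.pullback (D.map (m ≫ la ≫ ka))).obj ((Over.pullback (D.map h)).obj B)).hom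
  let K := m ≫ la ≫ ka
  have hQ : QuotData (Over.pullback (D.map g₂) ⋙ Over.pullback (D.map h) ⋙
      Over.pullback (D.map K)) s t :=
    ⟨_, (Over.pullback (D.map K)).map p₃, ha₁, hb₁, hlfp₁, hc₁⟩
  refine ⟨W, (K ≫ h) ≫ g₂, ?_⟩
  refine quotData_transport _ _
    (fun Z => (tau D (K ≫ h) g₂ Z ≪≫ tau D K h ((Over.pullback (D.map g₂)).obj Z)).symm) ?_ s t hQ
  intro Z Z' v
  simp only [Iso.symm_hom, Iso.trans_inv, Functor.comp_map]
  exact tau2_naturality D K h g₂ v

end Groth.Agent.Lib.Helper9.GL
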