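import Mathlib
import Groth.Prelude.Def_Red
import Groth.Agent.Lib.Helper9.GL19
set_option autoImplicit false
set_option linter.style.haveILetI false
set_option linter.unusedSectionVars false
set_option linter.unusedVariables false
universe u
open CategoryTheory CategoryTheory.Limits AlgebraicGeometry Opposite MonoidalCategory CartesianMonoidalCategory MonObj

namespace Groth.Agent.Lib.Helper9.GL

section monoidal
universe v₁ v₂ u₁ u₂
variable {C : Type u₁} [Category.{v₁} C] [CartesianMonoidalCategory C]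
  {E : Type u₂} [Category.{v₂} E] [CartesianMonoidalCategory E] (F : C ⥤ E) [F.Monoidal]

open Functor.LaxMonoidal Functor.OplaxMonoidal Functor.Monoidal
open scoped Obj

theorem whiskerLeft_map_mul {G G' : C} [MonObj G] (u : G' ⟶ G) :
    (F.obj G ◁ F.map u) ≫ μ[F.obj G] =
      Functor.LaxMonoidal.μ F G G' ≫ F.map ((G ◁ u) ≫ μ[G]) := by
  rw [Functor.obj.μ_def, ← Category.assoc, μ_natural_right, Category.assoc, ← F.map_comp]

theorem isPullback_quot_iff {G G' : C} [MonObj G] (u : G' ⟶ G) {Q : E} (p : F.obj G ⟶ Q) :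
    IsPullback ((F.obj G ◁ F.map u) ≫ μ[F.obj G]) (fst (F.obj G) (F.obj G')) p p ↔
      IsPullback (F.map ((G ◁ u) ≫ μ[G])) (F.map (fst G G')) p p := by
  rw [whiskerLeft_map_mul, ← μ_fst F G G']
  constructor
  · intro h
    exact IsPullback.of_iso h (μIso F G G') (Iso.refl _) (Iso.refl _) (Iso.refl _)
      (by simp) (by simp) (by simp) (by simp)
  · intro h
    exact IsPullback.of_iso h (μIso F G G').symm (Iso.refl _) (Iso.refl _) (Iso.refl _)
      (by simp) (by simp) (by simp) (by simp)

end monoidal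

theorem quot_grp_iff {S S' : Scheme.{u}} (g : S' ⟶ S) {G G' : Over S} [GrpObj G] (u : G' ⟶ G) :
    (∃ (Q : Over S') (p : (Red.bc g G) ⟶ Q), Flat p.left ∧ Surjective p.left ∧
      LocallyOfFinitePresentation p.left ∧
      IsPullback (((Red.bc g G) ◁ ((Over.pullback g).map u)) ≫ μ[(Red.bc g G)])
        (fst (Red.bc g G) (Red.bc g G')) p p) ↔
    QuotData (Over.pullback g) ((G ◁ u) ≫ μ[G]) (fst G G') := by
  unfold QuotData
  constructor
  · rintro ⟨Q, p, h1, h2, h3, h4⟩
    exact ⟨Q, p, h1, h2, h3, (isPullback_quot_iff (Over.pullback g) u p).mp h4⟩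
  · rintro ⟨Q, p, h1, h2, h3, h4⟩
    exact ⟨Q, p, h1, h2, h3, (isPullback_quot_iff (Over.pullback g) u p).mpr h4⟩

end Groth.Agent.Lib.Helper9.GL
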