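import Mathlib

set_option backward.isDefEq.respectTransparency false
set_option maxHeartbeats 800000
set_option autoImplicit false
set_option linter.unusedSectionVars false
set_option linter.unusedVariables false
universe u
open CategoryTheory CategoryTheory.Limits AlgebraicGeometry Opposite

namespace Groth.Agent.Lib.Helper9.GQ

section alg

variable {A B A' B' : Type*} [CommRing A] [CommRing B] [CommRing A'] [CommRing B']
  (σ τ : A →+* B) (σ' τ' : A' →+* B')

/-- the induced map on equalizer subrings -/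
def eqLocusMap (α : A →+* A') (β : B →+* B') (hσ : ∀ a, σ' (α a) = β (σ a))
    (hτ : ∀ a, τ' (α a) = β (τ a)) : RingHom.eqLocus σ τ →+* RingHom.eqLocus σ' τ' :=
  (α.comp (RingHom.eqLocus σ τ).subtype).codRestrict _ (fun a => by
    change σ' (α a.1) = τ' (α a.1)
    rw [hσ, hτ]
    exact congrArg _ a.2)

@[simp] theorem eqLocusMap_coe (α : A →+* A') (β : B →+* B') (hσ : ∀ a, σ' (α a) = β (σ a))
    (hτ : ∀ a, τ' (α a) = β (τ a)) (a : RingHom.eqLocus σ τ) :
    ((eqLocusMap σ τ σ' τ' α β hσ hτ a : RingHom.eqLocus σ' τ') : A') = α a.1 := rfl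

variable [Algebra A A'] [Algebra B B']
  (hσ : ∀ a, σ' (algebraMap A A' a) = algebraMap B B' (σ a))
  (hτ : ∀ a, τ' (algebraMap A A' a) = algebraMap B B' (τ a))

variable (c : A) (hc : σ c = τ c) [IsLocalization.Away c A'] [IsLocalization.Away (σ c) B']

include hc in
theorem isLocalization_eqLocus :
    @IsLocalization.Away _ _ (⟨c, hc⟩ : RingHom.eqLocus σ τ) (RingHom.eqLocus σ' τ') _
      (eqLocusMap σ τ σ' τ' (algebraMap A A') (algebraMap B B') hσ hτ).toAlgebra := by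
  letI : Algebra (RingHom.eqLocus σ τ) (RingHom.eqLocus σ' τ') :=
    (eqLocusMap σ τ σ' τ' (algebraMap A A') (algebraMap B B') hσ hτ).toAlgebra
  have halg : ∀ a : RingHom.eqLocus σ τ,
      ((algebraMap (RingHom.eqLocus σ τ) (RingHom.eqLocus σ' τ') a : RingHom.eqLocus σ' τ') : A') =
        algebraMap A A' a.1 := fun a => rfl
  change IsLocalization (Submonoid.powers (⟨c, hc⟩ : RingHom.eqLocus σ τ)) _
  rw [isLocalization_iff]
  refine ⟨?_, ?_, ?_⟩
  · rintro ⟨_, n, rfl⟩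
    rw [map_pow]
    apply IsUnit.pow
    -- the inverse of c in A' is invariant
    have hu : IsUnit (algebraMap A A' c) := IsLocalization.Away.algebraMap_isUnit c
    obtain ⟨v, hv⟩ := hu
    have hinv : σ' (↑v⁻¹ : A') = τ' (↑v⁻¹ : A') := by
      have h1 : σ' (↑v : A') = τ' (↑v : A') := by rw [hv, hσ, hτ, hc]
      have hu1 : IsUnit (σ' (↑v : A')) := (v.isUnit.map σ')
      have e1 : σ' (↑v⁻¹ : A') * σ' (↑v : A') = 1 := by rw [← map_mul]; simp
      have e2 : τ' (↑v⁻¹ : A') * σ' (↑v : A') = 1 := by rw [h1, ← map_mul]; simp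
      exact hu1.mul_right_cancel (e1.trans e2.symm)
    refine ⟨⟨⟨algebraMap A A' c, by change σ' _ = τ' _; rw [hσ, hτ, hc]⟩, ⟨(↑v⁻¹ : A'), hinv⟩, ?_, ?_⟩, ?_⟩
    · apply Subtype.ext
      change algebraMap A A' c * (↑v⁻¹ : A') = 1
      rw [← hv]; simp
    · apply Subtype.ext
      change (↑v⁻¹ : A') * algebraMap A A' c = 1
      rw [← hv]; simp
    · apply Subtype.ext
      rfl
  · intro z
    obtain ⟨n, a, ha⟩ := IsLocalization.Away.surj c (z : A')
    -- ha : z * algebraMap c ^ n = algebraMap a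
    have h1 : algebraMap B B' (σ a) = algebraMap B B' (τ a) := by
      rw [← hσ, ← hτ, ← ha, map_mul, map_mul, z.2, map_pow, map_pow, hσ, hτ, hc]
    obtain ⟨m, hm⟩ := IsLocalization.Away.exists_of_eq (σ c) h1
    -- hm : σ c ^ m * σ a = σ c ^ m * τ a
    have hmem : σ (c ^ m * a) = τ (c ^ m * a) := by
      rw [map_mul, map_mul, map_pow, map_pow, ← hc, hm]
    refine ⟨(⟨⟨c ^ m * a, hmem⟩, ⟨⟨c, hc⟩ ^ (n + m), ⟨n + m, rfl⟩⟩⟩ :
      RingHom.eqLocus σ τ × Submonoid.powers (⟨c, hc⟩ : RingHom.eqLocus σ τ)), ?_⟩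
    apply Subtype.ext
    change (z : A') * algebraMap A A' ((⟨c, hc⟩ : RingHom.eqLocus σ τ) ^ (n + m)).1 =
      algebraMap A A' (c ^ m * a)
    rw [SubmonoidClass.coe_pow, map_mul, ← ha, map_pow, map_pow, pow_add]
    ring
  · intro x y hxy
    have h1 : algebraMap A A' x.1 = algebraMap A A' y.1 := congrArg Subtype.val hxy
    obtain ⟨m, hm⟩ := IsLocalization.Away.exists_of_eq c h1
    refine ⟨⟨⟨c, hc⟩ ^ m, ⟨m, rfl⟩⟩, ?_⟩
    apply Subtype.ext
    change ((⟨c, hc⟩ : RingHom.eqLocus σ τ) ^ m).1 * x.1 = ((⟨c, hc⟩ : RingHom.eqLocus σ τ) ^ m).1 * y.1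
    rw [SubmonoidClass.coe_pow]
    exact hm

end alg

end Groth.Agent.Lib.Helper9.GQ
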