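import Mathlib
import Groth.Prelude.Def_Grpd
import Groth.Agent.Lib.Helper3.GrpdSub

set_option backward.isDefEq.respectTransparency false
set_option maxHeartbeats 800000
set_option autoImplicit false
set_option linter.unusedSectionVars false
set_option linter.unusedVariables false
universe u
open CategoryTheory CategoryTheory.Limits AlgebraicGeometry Opposite

namespace Groth.Agent.Lib.Helper9.GQ

open Grpd Groth.Agent.Lib.Helper3.GrpdSub

section res

variable {S : Scheme.{u}} (G : GroupoidScheme S) {U' R' : Scheme.{u}} (ιU : U' ⟶ G.U)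
  (ιR : R' ⟶ G.R) [Mono ιU] (s' t' : R' ⟶ U')
  (hs : IsPullback ιR s' G.s ιU) (ht : IsPullback ιR t' G.t ιU)

include hs in
theorem mono_ιR : Mono ιR := hs.mono_fst_of_mono

theorem c_s' : G.c ≫ G.s = pullback.snd G.s G.t ≫ G.s := by
  have h := G.comp_s (pullback.fst G.s G.t) (pullback.snd G.s G.t) pullback.condition
  have h1 : pullback.lift (pullback.fst G.s G.t) (pullback.snd G.s G.t) pullback.condition
      = 𝟙 _ := by
    apply pullback.hom_ext <;> simp
  rw [h1, Category.id_comp] at h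
  exact h

/-- identity of the restricted groupoid -/
noncomputable def resE : U' ⟶ R' :=
  hs.lift (ιU ≫ G.e) (𝟙 U') (by rw [Category.assoc, G.e_s, Category.comp_id, Category.id_comp])

theorem resE_ι : resE G ιU ιR s' hs ≫ ιR = ιU ≫ G.e := hs.lift_fst _ _ _

theorem resE_s : resE G ιU ιR s' hs ≫ s' = 𝟙 U' := hs.lift_snd _ _ _

/-- inverse of the restricted groupoid -/
noncomputable def resI : R' ⟶ R' :=
  hs.lift (ιR ≫ G.i) t' (by rw [Category.assoc, G.i_s, ht.w])

theorem resI_ι : resI G ιU ιR s' t' hs ht ≫ ιR = ιR ≫ G.i := hs.lift_fst _ _ _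

/-- the comparison map on composable pairs -/
noncomputable def resMap : pullback s' t' ⟶ pullback G.s G.t :=
  pullback.map s' t' G.s G.t ιR ιR ιU hs.w.symm ht.w.symm

/-- composition of the restricted groupoid -/
noncomputable def resC : pullback s' t' ⟶ R' :=
  hs.lift (resMap G ιU ιR s' t' hs ht ≫ G.c) (pullback.snd s' t' ≫ s') (by
    rw [Category.assoc, c_s', resMap, pullback.lift_snd_assoc, Category.assoc, Category.assoc, hs.w])

theorem resC_ι : resC G ιU ιR s' t' hs ht ≫ ιR = resMap G ιU ιR s' t' hs ht ≫ G.c :=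
  hs.lift_fst _ _ _

theorem res_hc {T : Scheme.{u}} (α β : T ⟶ R') (h : α ≫ s' = β ≫ t') :
    (pullback.lift α β h ≫ resC G ιU ιR s' t' hs ht) ≫ ιR =
      pullback.lift (α ≫ ιR) (β ≫ ιR) (by
        rw [Category.assoc, Category.assoc, hs.w, ht.w, ← Category.assoc, ← Category.assoc, h]) ≫ G.c := by
  rw [Category.assoc, resC_ι, ← Category.assoc]
  congr 1
  apply pullback.hom_ext
  · rw [Category.assoc, resMap, pullback.lift_fst, pullback.lift_fst_assoc, pullback.lift_fst]
  · rw [Category.assoc, resMap, pullback.lift_snd, pullback.lift_snd_assoc, pullback.lift_snd]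

include ht in
theorem resE_t : resE G ιU ιR s' hs ≫ t' = 𝟙 U' := by
  rw [← cancel_mono ιU, Category.assoc, ← ht.w, ← Category.assoc, resE_ι, Category.assoc, G.e_t,
    Category.comp_id, Category.id_comp]

theorem resI_s : resI G ιU ιR s' t' hs ht ≫ s' = t' := hs.lift_snd _ _ _

theorem resI_t : resI G ιU ιR s' t' hs ht ≫ t' = s' := by
  rw [← cancel_mono ιU, Category.assoc, ← ht.w, ← Category.assoc, resI_ι, Category.assoc, G.i_t,
    hs.w]

/-- the restriction of a groupoid scheme along a cartesian pair of monomorphisms -/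
noncomputable def res : GroupoidScheme S where
  U := U'
  R := R'
  pU := ιU ≫ G.pU
  pR := ιR ≫ G.pR
  s := s'
  t := t'
  e := resE G ιU ιR s' hs
  i := resI G ιU ιR s' t' hs ht
  c := resC G ιU ιR s' t' hs ht
  s_over := by rw [← Category.assoc, ← hs.w, Category.assoc, G.s_over]
  t_over := by rw [← Category.assoc, ← ht.w, Category.assoc, G.t_over]
  comp_s := by
    intro T α β h
    rw [← cancel_mono ιU, Category.assoc, ← hs.w, ← Category.assoc, res_hc G ιU ιR s' t' hs ht α β h,
      G.comp_s, Category.assoc, Category.assoc, hs.w]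
  comp_t := by
    intro T α β h
    rw [← cancel_mono ιU, Category.assoc, ← ht.w, ← Category.assoc, res_hc G ιU ιR s' t' hs ht α β h,
      G.comp_t, Category.assoc, Category.assoc, ht.w]
  assoc := by
    intro T α β γ h₁ h₂
    haveI := mono_ιR G ιU ιR s' hs
    rw [← cancel_mono ιR]
    refine (res_hc G ιU ιR s' t' hs ht _ _ _).trans
      (Eq.trans ?_ (res_hc G ιU ιR s' t' hs ht _ _ _).symm)
    have h₁' : (α ≫ ιR) ≫ G.s = (β ≫ ιR) ≫ G.t := by
      rw [Category.assoc, Category.assoc, hs.w, ht.w, ← Category.assoc, ← Category.assoc, h₁]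
    have h₂' : (β ≫ ιR) ≫ G.s = (γ ≫ ιR) ≫ G.t := by
      rw [Category.assoc, Category.assoc, hs.w, ht.w, ← Category.assoc, ← Category.assoc, h₂]
    have := G.assoc (α ≫ ιR) (β ≫ ιR) (γ ≫ ιR) h₁' h₂'
    refine Eq.trans ?_ (this.trans ?_)
    · exact congrArg (· ≫ G.c) (lift_congr _ (res_hc G ιU ιR s' t' hs ht α β h₁) rfl _)
    · exact congrArg (· ≫ G.c) (lift_congr _ rfl (res_hc G ιU ιR s' t' hs ht β γ h₂).symm _)
  e_s := resE_s G ιU ιR s' hs
  e_t := resE_t G ιU ιR s' t' hs ht
  comp_e := by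
    intro T α
    haveI := mono_ιR G ιU ιR s' hs
    rw [← cancel_mono ιR, res_hc G ιU ιR s' t' hs ht]
    refine Eq.trans ?_ (G.comp_e (α ≫ ιR))
    refine congrArg (· ≫ G.c) (lift_congr _ rfl ?_ _)
    simp only [Category.assoc, resE_ι]
    rw [← Category.assoc s', ← hs.w, Category.assoc]
  e_comp := by
    intro T α
    haveI := mono_ιR G ιU ιR s' hs
    rw [← cancel_mono ιR, res_hc G ιU ιR s' t' hs ht]
    refine Eq.trans ?_ (G.e_comp (α ≫ ιR))
    refine congrArg (· ≫ G.c) (lift_congr _ ?_ rfl _)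
    simp only [Category.assoc, resE_ι]
    rw [← Category.assoc t', ← ht.w, Category.assoc]
  i_s := resI_s G ιU ιR s' t' hs ht
  i_t := resI_t G ιU ιR s' t' hs ht
  comp_i := by
    intro T α
    haveI := mono_ιR G ιU ιR s' hs
    rw [← cancel_mono ιR, res_hc G ιU ιR s' t' hs ht]
    refine Eq.trans ?_ ((G.comp_i (α ≫ ιR)).trans ?_)
    · refine congrArg (· ≫ G.c) (lift_congr _ rfl ?_ _)
      simp only [Category.assoc, resI_ι]
    · simp only [Category.assoc, resE_ι]
      rw [← Category.assoc t', ← ht.w, Category.assoc]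
  i_comp := by
    intro T α
    haveI := mono_ιR G ιU ιR s' hs
    rw [← cancel_mono ιR, res_hc G ιU ιR s' t' hs ht]
    refine Eq.trans ?_ ((G.i_comp (α ≫ ιR)).trans ?_)
    · refine congrArg (· ≫ G.c) (lift_congr _ ?_ rfl _)
      simp only [Category.assoc, resI_ι]
    · simp only [Category.assoc, resE_ι]
      rw [← Category.assoc s', ← hs.w, Category.assoc]

end res

section inv

variable {S : Scheme.{u}} (G : GroupoidScheme S)

theorem i_i : G.i ≫ G.i = 𝟙 G.R := by
  have h := eq_i_of_comp_eq G G.i (𝟙 G.R) (by rw [Category.id_comp, G.i_t]) (by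
    have := G.comp_i (𝟙 G.R)
    rw [← Category.assoc G.i, G.i_s]
    refine Eq.trans ?_ (this.trans (Category.id_comp _))
    exact congrArg (· ≫ G.c) (lift_congr _ rfl (Category.id_comp _).symm _))
  exact h.symm

instance isIso_i : IsIso G.i := ⟨G.i, i_i G, i_i G⟩

theorem t_eq : G.t = G.i ≫ G.s := G.i_s.symm

theorem isFinite_t [IsFinite G.s] : IsFinite G.t := by rw [t_eq]; infer_instance

theorem flat_t [Flat G.s] : Flat G.t := by rw [t_eq]; infer_instance

theorem lfp_t [LocallyOfFinitePresentation G.s] : LocallyOfFinitePresentation G.t := by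
  rw [t_eq]; infer_instance

end inv

section opens

variable {S : Scheme.{u}} (G : GroupoidScheme S) (W : G.U.Opens) (hW : G.s ⁻¹ᵁ W = G.t ⁻¹ᵁ W)

/-- the target map of the restriction to an invariant open -/
noncomputable def tW : (G.s ⁻¹ᵁ W).toScheme ⟶ W.toScheme := (G.R.isoOfEq hW).hom ≫ (G.t ∣_ W)

theorem isPullback_sW : IsPullback (G.s ⁻¹ᵁ W).ι (G.s ∣_ W) G.s W.ι :=
  (isPullback_morphismRestrict G.s W).flip

theorem isPullback_tW : IsPullback (G.s ⁻¹ᵁ W).ι (tW G W hW) G.t W.ι := by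
  refine (isPullback_morphismRestrict G.t W).flip.of_iso (G.R.isoOfEq hW).symm (Iso.refl _)
    (Iso.refl _) (Iso.refl _) ?_ ?_ ?_ ?_
  · simp
  · simp [tW]
  · simp
  · simp

/-- the restriction of a groupoid scheme to an invariant open of `U` -/
noncomputable def resW : GroupoidScheme S :=
  res G W.ι (G.s ⁻¹ᵁ W).ι (G.s ∣_ W) (tW G W hW) (isPullback_sW G W) (isPullback_tW G W hW)

@[simp] theorem resW_U : (resW G W hW).U = W.toScheme := rfl
@[simp] theorem resW_R : (resW G W hW).R = (G.s ⁻¹ᵁ W).toScheme := rfl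
@[simp] theorem resW_s : (resW G W hW).s = G.s ∣_ W := rfl
@[simp] theorem resW_t : (resW G W hW).t = tW G W hW := rfl

theorem tW_ι : tW G W hW ≫ W.ι = (G.s ⁻¹ᵁ W).ι ≫ G.t := (isPullback_tW G W hW).w.symm

theorem sW_ι : (G.s ∣_ W) ≫ W.ι = (G.s ⁻¹ᵁ W).ι ≫ G.s := (isPullback_sW G W).w.symm

end opens

end Groth.Agent.Lib.Helper9.GQ
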