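import Mathlib
import Groth.Prelude.Def_Grpd
import Groth.Agent.Lib.Helper9.GQRes
import Groth.Agent.Lib.Helper9.GQAlg

set_option backward.isDefEq.respectTransparency false
set_option maxHeartbeats 800000
set_option autoImplicit false
set_option linter.unusedSectionVars false
set_option linter.unusedVariables false
universe u
open CategoryTheory CategoryTheory.Limits AlgebraicGeometry Opposite

namespace Groth.Agent.Lib.Helper9.GQ

open Grpd

section pairs

variable {U R U' R' : Scheme.{u}} (s t : R ⟶ U) (s' t' : R' ⟶ U') (fU : U' ⟶ U) (fR : R' ⟶ R)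
  (hs : fR ≫ s = s' ≫ fU) (ht : fR ≫ t = t' ≫ fU)

/-- transition map on invariants of parallel pairs -/
noncomputable def invMap : RingHom.eqLocus s.appTop.hom t.appTop.hom →+*
    RingHom.eqLocus s'.appTop.hom t'.appTop.hom :=
  eqLocusMap _ _ _ _ fU.appTop.hom fR.appTop.hom
    (fun a => by
      change (fU.appTop ≫ s'.appTop) a = (s.appTop ≫ fR.appTop) a
      rw [← Scheme.Hom.comp_appTop, ← Scheme.Hom.comp_appTop, hs])
    (fun a => by
      change (fU.appTop ≫ t'.appTop) a = (t.appTop ≫ fR.appTop) a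
      rw [← Scheme.Hom.comp_appTop, ← Scheme.Hom.comp_appTop, ht])

@[simp] theorem invMap_coe (a : RingHom.eqLocus s.appTop.hom t.appTop.hom) :
    ((invMap s t s' t' fU fR hs ht a : RingHom.eqLocus s'.appTop.hom t'.appTop.hom) : Γ(U', ⊤)) =
      fU.appTop a.1 := rfl

/-- the map to the spectrum of the invariants -/
noncomputable def quot : U ⟶ Spec (CommRingCat.of (RingHom.eqLocus s.appTop.hom t.appTop.hom)) :=
  U.toSpecΓ ≫ Spec.map (CommRingCat.ofHom (RingHom.eqLocus s.appTop.hom t.appTop.hom).subtype)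

theorem quot_naturality :
    fU ≫ quot s t = quot s' t' ≫ Spec.map (CommRingCat.ofHom (invMap s t s' t' fU fR hs ht)) := by
  rw [quot, quot, Scheme.toSpecΓ_naturality_assoc, Category.assoc, ← Spec.map_comp, ← Spec.map_comp]
  rfl

theorem quot_coeq : t ≫ quot s t = s ≫ quot s t := by
  rw [quot, Scheme.toSpecΓ_naturality_assoc, Scheme.toSpecΓ_naturality_assoc, ← Spec.map_comp,
    ← Spec.map_comp]
  congr 2
  ext a
  exact a.2.symm

end pairs

section invopen

variable {S : Scheme.{u}} (G : GroupoidScheme S)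

/-- invariant affine opens of `U` -/
structure InvOpen where
  W : G.U.Opens
  aff : IsAffineOpen W
  inv : G.s ⁻¹ᵁ W = G.t ⁻¹ᵁ W

instance : Preorder (InvOpen G) := Preorder.lift InvOpen.W

theorem InvOpen.le_def {w' w : InvOpen G} : w' ≤ w ↔ w'.W ≤ w.W := Iff.rfl

variable {G}

/-- the restricted groupoid -/
noncomputable abbrev GW (w : InvOpen G) : GroupoidScheme S := resW G w.W w.inv

/-- restricted source -/
noncomputable abbrev sw (w : InvOpen G) : (G.s ⁻¹ᵁ w.W).toScheme ⟶ w.W.toScheme := G.s ∣_ w.W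

/-- restricted target -/
noncomputable abbrev tw (w : InvOpen G) : (G.s ⁻¹ᵁ w.W).toScheme ⟶ w.W.toScheme := tW G w.W w.inv

/-- invariant functions on an invariant open -/
noncomputable def Cw (w : InvOpen G) : Subring Γ(w.W.toScheme, ⊤) :=
  RingHom.eqLocus (sw w).appTop.hom (tw w).appTop.hom

/-- the quotient map on an invariant affine open -/
noncomputable def pw (w : InvOpen G) : w.W.toScheme ⟶ Spec (CommRingCat.of (Cw w)) :=
  quot (sw w) (tw w)

theorem GW_invariants (w : InvOpen G) : (GW w).invariants = Cw w := rfl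

theorem GW_toQuot (w : InvOpen G) : (GW w).toQuot = pw w := rfl

theorem pw_coeq (w : InvOpen G) : tw w ≫ pw w = sw w ≫ pw w := quot_coeq _ _

variable {w' w : InvOpen G} (h : w' ≤ w)

/-- transition on objects -/
noncomputable def fU : w'.W.toScheme ⟶ w.W.toScheme := G.U.homOfLE h

/-- transition on arrows -/
noncomputable def fR : (G.s ⁻¹ᵁ w'.W).toScheme ⟶ (G.s ⁻¹ᵁ w.W).toScheme :=
  G.R.homOfLE (by
    intro x hx
    exact h hx)

theorem fU_ι : fU h ≫ w.W.ι = w'.W.ι := G.U.homOfLE_ι _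

theorem fR_ι : fR h ≫ (G.s ⁻¹ᵁ w.W).ι = (G.s ⁻¹ᵁ w'.W).ι := G.R.homOfLE_ι _

theorem fR_s : fR h ≫ sw w = sw w' ≫ fU h := by
  rw [← cancel_mono w.W.ι]
  rw [Category.assoc, Category.assoc, sW_ι, fU_ι, sW_ι, ← Category.assoc, fR_ι]

theorem fR_t : fR h ≫ tw w = tw w' ≫ fU h := by
  rw [← cancel_mono w.W.ι]
  rw [Category.assoc, Category.assoc, tW_ι, fU_ι, tW_ι, ← Category.assoc, fR_ι]

/-- restriction of invariants -/
noncomputable def ρ : Cw w →+* Cw w' :=
  invMap (sw w) (tw w) (sw w') (tw w') (fU h) (fR h) (fR_s h) (fR_t h)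

@[simp] theorem ρ_coe (a : Cw w) :
    ((ρ h a : Cw w').1 : Γ(w'.W.toScheme, ⊤)) = (fU h).appTop a.1 := rfl

theorem pw_naturality :
    fU h ≫ pw w = pw w' ≫ Spec.map (CommRingCat.ofHom (ρ h)) :=
  quot_naturality _ _ _ _ _ _ (fR_s h) (fR_t h)

theorem ρ_refl (w : InvOpen G) : ρ (le_refl w) = RingHom.id _ := by
  ext a
  change (fU (le_refl w)).appTop a.1 = a.1
  rw [fU, Scheme.homOfLE_rfl]
  simp

theorem ρ_trans {w'' w' w : InvOpen G} (h₁ : w'' ≤ w') (h₂ : w' ≤ w) :
    ρ (h₁.trans h₂) = (ρ h₁).comp (ρ h₂) := by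
  ext a
  change (fU (h₁.trans h₂)).appTop a.1 = (fU h₁).appTop ((fU h₂).appTop a.1)
  have : fU (h₁.trans h₂) = fU h₁ ≫ fU h₂ := (G.U.homOfLE_homOfLE _ _).symm
  rw [this, Scheme.Hom.comp_appTop]
  rfl

variable (G) in
/-- the diagram of spectra of invariants -/
noncomputable def F : InvOpen G ⥤ Scheme.{u} where
  obj w := Spec (CommRingCat.of (Cw w))
  map {w' w} h := Spec.map (CommRingCat.ofHom (ρ (leOfHom h)))
  map_id w := by
    rw [show leOfHom (𝟙 w) = le_refl w from rfl, ρ_refl]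
    exact Spec.map_id _
  map_comp {a b c} f g := by
    rw [show leOfHom (f ≫ g) = (leOfHom f).trans (leOfHom g) from rfl, ρ_trans, CommRingCat.ofHom_comp,
      Spec.map_comp]

end invopen

end Groth.Agent.Lib.Helper9.GQ
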