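import Mathlib
import Groth.Prelude.Def_Grpd
import Groth.Agent.Lib.Helper9.GQInv

set_option backward.isDefEq.respectTransparency false
set_option maxHeartbeats 800000
set_option autoImplicit false
set_option linter.unusedSectionVars false
set_option linter.unusedVariables false
universe u
open CategoryTheory CategoryTheory.Limits AlgebraicGeometry Opposite

namespace Groth.Agent.Lib.Helper9.GQ

open Grpd

theorem isLocalization_homOfLE {Z : Scheme.{u}} (V : Z.Opens) [IsAffine V.toScheme]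
    (c : Γ(V.toScheme, ⊤)) (V' : Z.Opens) (hV' : V' = V.ι ''ᵁ (V.toScheme.basicOpen c))
    (h : V' ≤ V) :
    @IsLocalization.Away _ _ c Γ(V'.toScheme, ⊤) _ (Z.homOfLE h).appTop.hom.toAlgebra := by
  subst hV'
  letI alg : Algebra Γ(V.toScheme, ⊤) Γ((V.ι ''ᵁ (V.toScheme.basicOpen c)).toScheme, ⊤) :=
    (Z.homOfLE h).appTop.hom.toAlgebra
  have hloc : IsLocalization.Away c Γ((V.toScheme.basicOpen c).toScheme, ⊤) :=
    Γ_restrict_isLocalization V.toScheme c
  let φ := (V.ι.isoImage (V.toScheme.basicOpen c)).inv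
  have hφ : φ ≫ (V.toScheme.basicOpen c).ι = Z.homOfLE h := Scheme.Opens.isoImage_ι_inv_ι V _
  haveI : IsIso φ.appTop := inferInstance
  let e : Γ((V.toScheme.basicOpen c).toScheme, ⊤) ≃ₐ[Γ(V.toScheme, ⊤)]
      Γ((V.ι ''ᵁ (V.toScheme.basicOpen c)).toScheme, ⊤) :=
    { (asIso φ.appTop).commRingCatIsoToRingEquiv with
      commutes' := fun r => by
        change φ.appTop ((V.toScheme.basicOpen c).ι.appTop r) = (Z.homOfLE h).appTop r
        rw [← hφ, Scheme.Hom.comp_appTop]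
        rfl }
  exact IsLocalization.isLocalization_of_algEquiv (Submonoid.powers c) e

section basic

variable {S : Scheme.{u}} {G : GroupoidScheme S} [IsAffineHom G.s]

theorem isAffine_U (w : InvOpen G) : IsAffine w.W.toScheme := w.aff

theorem isAffine_R (w : InvOpen G) : IsAffine (G.s ⁻¹ᵁ w.W).toScheme := w.aff.preimage G.s

theorem preimage_s_image (w : InvOpen G) (V : w.W.toScheme.Opens) :
    G.s ⁻¹ᵁ (w.W.ι ''ᵁ V) = (G.s ⁻¹ᵁ w.W).ι ''ᵁ ((sw w) ⁻¹ᵁ V) :=
  (image_morphismRestrict_preimage G.s w.W V).symm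

theorem preimage_t_image (w : InvOpen G) (V : w.W.toScheme.Opens) :
    G.t ⁻¹ᵁ (w.W.ι ''ᵁ V) = (G.s ⁻¹ᵁ w.W).ι ''ᵁ ((tw w) ⁻¹ᵁ V) :=
  (IsOpenImmersion.image_preimage_eq_preimage_image_of_isPullback
    (isPullback_tW G w.W w.inv).flip V).symm

/-- the invariant affine open cut out by an invariant function -/
noncomputable def basicInv (w : InvOpen G) (c : Cw w) : InvOpen G where
  W := w.W.ι ''ᵁ (w.W.toScheme.basicOpen c.1)
  aff := by
    haveI : IsAffine w.W.toScheme := w.aff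
    exact ((isAffineOpen_top w.W.toScheme).basicOpen c.1).image_of_isOpenImmersion w.W.ι
  inv := by
    rw [preimage_s_image, preimage_t_image, Scheme.preimage_basicOpen_top,
      Scheme.preimage_basicOpen_top]
    congr 2
    exact c.2

theorem basicInv_le (w : InvOpen G) (c : Cw w) : basicInv w c ≤ w :=
  w.W.ι_image_le _

theorem preimage_s_basicInv (w : InvOpen G) (c : Cw w) :
    G.s ⁻¹ᵁ (basicInv w c).W =
      (G.s ⁻¹ᵁ w.W).ι ''ᵁ ((G.s ⁻¹ᵁ w.W).toScheme.basicOpen ((sw w).appTop.hom c.1)) := by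
  change G.s ⁻¹ᵁ (w.W.ι ''ᵁ (w.W.toScheme.basicOpen c.1)) = _
  rw [preimage_s_image, Scheme.preimage_basicOpen_top]

/-- invariants commute with localization at an invariant function -/
theorem isLocalization_ρ_basicInv (w : InvOpen G) (c : Cw w) :
    @IsLocalization.Away _ _ c (Cw (basicInv w c)) _ (ρ (basicInv_le w c)).toAlgebra := by
  haveI : IsAffine w.W.toScheme := w.aff
  haveI : IsAffine (G.s ⁻¹ᵁ w.W).toScheme := isAffine_R w
  letI a1 : Algebra Γ(w.W.toScheme, ⊤) Γ((basicInv w c).W.toScheme, ⊤) :=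
    (fU (basicInv_le w c)).appTop.hom.toAlgebra
  letI a2 : Algebra Γ((G.s ⁻¹ᵁ w.W).toScheme, ⊤) Γ((G.s ⁻¹ᵁ (basicInv w c).W).toScheme, ⊤) :=
    (fR (basicInv_le w c)).appTop.hom.toAlgebra
  haveI l1 : IsLocalization.Away c.1 Γ((basicInv w c).W.toScheme, ⊤) :=
    isLocalization_homOfLE w.W c.1 (basicInv w c).W rfl (basicInv_le w c)
  haveI l2 : IsLocalization.Away ((sw w).appTop.hom c.1)
      Γ((G.s ⁻¹ᵁ (basicInv w c).W).toScheme, ⊤) :=
    isLocalization_homOfLE (G.s ⁻¹ᵁ w.W) ((sw w).appTop.hom c.1) (G.s ⁻¹ᵁ (basicInv w c).W)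
      (preimage_s_basicInv w c) _
  have hσ : ∀ a, (sw (basicInv w c)).appTop.hom (algebraMap Γ(w.W.toScheme, ⊤) _ a) =
      algebraMap Γ((G.s ⁻¹ᵁ w.W).toScheme, ⊤) _ ((sw w).appTop.hom a) := fun a => by
    change ((fU (basicInv_le w c)).appTop ≫ (sw (basicInv w c)).appTop) a =
      ((sw w).appTop ≫ (fR (basicInv_le w c)).appTop) a
    rw [← Scheme.Hom.comp_appTop, ← Scheme.Hom.comp_appTop, fR_s]
  have hτ : ∀ a, (tw (basicInv w c)).appTop.hom (algebraMap Γ(w.W.toScheme, ⊤) _ a) =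
      algebraMap Γ((G.s ⁻¹ᵁ w.W).toScheme, ⊤) _ ((tw w).appTop.hom a) := fun a => by
    change ((fU (basicInv_le w c)).appTop ≫ (tw (basicInv w c)).appTop) a =
      ((tw w).appTop ≫ (fR (basicInv_le w c)).appTop) a
    rw [← Scheme.Hom.comp_appTop, ← Scheme.Hom.comp_appTop, fR_t]
  exact isLocalization_eqLocus (sw w).appTop.hom (tw w).appTop.hom
    (sw (basicInv w c)).appTop.hom (tw (basicInv w c)).appTop.hom hσ hτ c.1 c.2

end basic

end Groth.Agent.Lib.Helper9.GQ
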