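import Mathlib
import Groth.Prelude.Def_Grpd
import Groth.Agent.Lib.Helper9.GQLoc
import Groth.Agent.S1878
import Groth.Agent.S1879

set_option backward.isDefEq.respectTransparency false
set_option maxHeartbeats 800000
set_option autoImplicit false
set_option linter.unusedSectionVars false
set_option linter.unusedVariables false
universe u
open CategoryTheory CategoryTheory.Limits AlgebraicGeometry Opposite

namespace Groth.Agent.Lib.Helper9.GQ

open Grpd

section loc

variable {S : Scheme.{u}} {G : GroupoidScheme S} [IsFinite G.s] [Flat G.s]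
  [LocallyOfFinitePresentation G.s]

theorem isOpenImmersion_ρ_basicInv (w : InvOpen G) (c : Cw w) :
    IsOpenImmersion (Spec.map (CommRingCat.ofHom (ρ (basicInv_le w c)))) := by
  letI : Algebra (Cw w) (Cw (basicInv w c)) := (ρ (basicInv_le w c)).toAlgebra
  haveI := isLocalization_ρ_basicInv w c
  exact IsOpenImmersion.of_isLocalization c

theorem range_ρ_basicInv (w : InvOpen G) (c : Cw w) :
    Set.range (Spec.map (CommRingCat.ofHom (ρ (basicInv_le w c)))) =
      (PrimeSpectrum.basicOpen c : Set (PrimeSpectrum (Cw w))) := by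
  letI : Algebra (Cw w) (Cw (basicInv w c)) := (ρ (basicInv_le w c)).toAlgebra
  haveI := isLocalization_ρ_basicInv w c
  exact PrimeSpectrum.localization_away_comap_range (Cw (basicInv w c)) c

/-- the package of facts about the affine quotient from S1878/S1879 -/
theorem local_facts (w : InvOpen G) :
    (Function.Surjective (pw w) ∧
      ∀ u₀ u₁ : w.W.toScheme, pw w u₀ = pw w u₁ ↔
        ∃ r : (G.s ⁻¹ᵁ w.W).toScheme, tw w r = u₀ ∧ sw w r = u₁) ∧
    (∀ (k : Type u) [Field k] [IsAlgClosed k],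
      ∀ x₀ x₁ : Spec (CommRingCat.of k) ⟶ w.W.toScheme, x₀ ≫ pw w = x₁ ≫ pw w ↔
        ∃ r : Spec (CommRingCat.of k) ⟶ (G.s ⁻¹ᵁ w.W).toScheme, r ≫ tw w = x₀ ∧ r ≫ sw w = x₁) ∧
    Algebra.IsIntegral (Cw w) Γ(w.W.toScheme, ⊤) := by
  haveI : IsFinite G.t := isFinite_t G
  haveI : Flat G.t := flat_t G
  haveI : LocallyOfFinitePresentation G.t := lfp_t G
  haveI : IsAffine (GW w).U := isAffine_U w
  haveI : IsAffine (GW w).R := isAffine_R w
  haveI : IsFinite (GW w).s := inferInstanceAs (IsFinite (G.s ∣_ w.W))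
  haveI : Flat (GW w).s := inferInstanceAs (Flat (G.s ∣_ w.W))
  haveI : LocallyOfFinitePresentation (GW w).s :=
    inferInstanceAs (LocallyOfFinitePresentation (G.s ∣_ w.W))
  haveI : IsFinite (GW w).t := inferInstanceAs (IsFinite ((G.R.isoOfEq w.inv).hom ≫ (G.t ∣_ w.W)))
  haveI : Flat (GW w).t := inferInstanceAs (Flat ((G.R.isoOfEq w.inv).hom ≫ (G.t ∣_ w.W)))
  haveI : LocallyOfFinitePresentation (GW w).t :=
    inferInstanceAs (LocallyOfFinitePresentation ((G.R.isoOfEq w.inv).hom ≫ (G.t ∣_ w.W)))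
  obtain ⟨h1, h2⟩ := Groth.Agent.S1878.result S (GW w)
  have h3 := Groth.Agent.S1879.result S (GW w)
  refine ⟨h1, ?_, h3⟩
  intro k _ _
  exact (h2 k).2

theorem pw_surjective (w : InvOpen G) : Function.Surjective (pw w) := (local_facts w).1.1

theorem mem_preimage_s_iff (w : InvOpen G) (r : G.R) : r ∈ G.s ⁻¹ᵁ w.W ↔ G.s r ∈ w.W := Iff.rfl

theorem ι_tw (w : InvOpen G) (r : (G.s ⁻¹ᵁ w.W).toScheme) :
    w.W.ι (tw w r) = G.t ((G.s ⁻¹ᵁ w.W).ι r) := by
  rw [← Scheme.Hom.comp_apply, ← Scheme.Hom.comp_apply, tW_ι]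

theorem ι_sw (w : InvOpen G) (r : (G.s ⁻¹ᵁ w.W).toScheme) :
    w.W.ι (sw w r) = G.s ((G.s ⁻¹ᵁ w.W).ι r) := by
  rw [← Scheme.Hom.comp_apply, ← Scheme.Hom.comp_apply, sW_ι]

/-- fibres of the local quotient are orbits (in terms of points of `U` and `R`) -/
theorem pw_eq_iff (w : InvOpen G) (u₀ u₁ : w.W.toScheme) :
    pw w u₀ = pw w u₁ ↔ ∃ r : G.R, G.t r = w.W.ι u₀ ∧ G.s r = w.W.ι u₁ := by
  rw [(local_facts w).1.2]
  constructor
  · rintro ⟨r, h0, h1⟩
    exact ⟨(G.s ⁻¹ᵁ w.W).ι r, by rw [← ι_tw, h0], by rw [← ι_sw, h1]⟩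
  · rintro ⟨r, h0, h1⟩
    have hr : r ∈ G.s ⁻¹ᵁ w.W := by
      change G.s r ∈ w.W
      rw [h1]; exact u₁.2
    refine ⟨⟨r, hr⟩, ?_, ?_⟩
    · apply w.W.ι.isOpenEmbedding.injective
      rw [ι_tw]; exact h0
    · apply w.W.ι.isOpenEmbedding.injective
      rw [ι_sw]; exact h1

theorem isIntegralHom_pw (w : InvOpen G) : IsIntegralHom (pw w) := by
  haveI : IsAffine w.W.toScheme := w.aff
  have h3 := (local_facts w).2.2
  have : IsIntegralHom (Spec.map (CommRingCat.ofHom (Cw w).subtype)) := by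
    rw [IsIntegralHom.SpecMap_iff]
    exact algebraMap_isIntegral_iff.mpr h3
  change IsIntegralHom (w.W.toScheme.toSpecΓ ≫ Spec.map (CommRingCat.ofHom (Cw w).subtype))
  infer_instance

theorem isOpenMap_tw (w : InvOpen G) : IsOpenMap (tw w) := by
  haveI : Flat G.t := flat_t G
  haveI : LocallyOfFinitePresentation G.t := lfp_t G
  haveI : Flat (tw w) := inferInstanceAs (Flat ((G.R.isoOfEq w.inv).hom ≫ (G.t ∣_ w.W)))
  haveI : LocallyOfFinitePresentation (tw w) :=
    inferInstanceAs (LocallyOfFinitePresentation ((G.R.isoOfEq w.inv).hom ≫ (G.t ∣_ w.W)))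
  exact (tw w).isOpenMap

theorem isQuotientMap_pw (w : InvOpen G) : Topology.IsQuotientMap (pw w) := by
  haveI := isIntegralHom_pw w
  exact (pw w).isClosedMap.isQuotientMap (pw w).continuous (pw_surjective w)

theorem preimage_image_pw (w : InvOpen G) (O : Set w.W.toScheme) :
    (pw w) ⁻¹' ((pw w) '' O) = (tw w) '' ((sw w) ⁻¹' O) := by
  ext u
  constructor
  · rintro ⟨u', hu', he⟩
    obtain ⟨r, h0, h1⟩ := ((local_facts w).1.2 u u').1 he.symm
    exact ⟨r, by rw [Set.mem_preimage, h1]; exact hu', h0⟩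
  · rintro ⟨r, hr, rfl⟩
    refine ⟨sw w r, hr, ?_⟩
    rw [← Scheme.Hom.comp_apply, ← Scheme.Hom.comp_apply, pw_coeq]

theorem isOpenMap_pw (w : InvOpen G) : IsOpenMap (pw w) := by
  intro O hO
  rw [← (isQuotientMap_pw w).isOpen_preimage, preimage_image_pw]
  exact isOpenMap_tw w _ (hO.preimage (sw w).continuous)

theorem pw_preimage_basicOpen (w : InvOpen G) (c : Cw w) :
    (pw w) ⁻¹ᵁ (PrimeSpectrum.basicOpen c) = w.W.toScheme.basicOpen c.1 := by
  change w.W.toScheme.toSpecΓ ⁻¹ᵁ (Spec.map (CommRingCat.ofHom (Cw w).subtype) ⁻¹ᵁ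
    PrimeSpectrum.basicOpen c) = _
  rw [SpecMap_preimage_basicOpen]
  exact Scheme.toSpecΓ_preimage_basicOpen _ _

end loc

end Groth.Agent.Lib.Helper9.GQ
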