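import Mathlib
import Groth.Prelude.Def_Grpd
import Groth.Agent.Lib.Helper9.GQLocal

set_option backward.isDefEq.respectTransparency false
set_option maxHeartbeats 800000
set_option autoImplicit false
set_option linter.unusedSectionVars false
set_option linter.unusedVariables false
universe u
open CategoryTheory CategoryTheory.Limits AlgebraicGeometry Opposite

namespace Groth.Agent.Lib.Helper9.GQ

open Grpd

theorem isOpenImmersion_of_local {X Y : Scheme.{u}} (f : X ⟶ Y) (hinj : Function.Injective f)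
    (H : ∀ x : X, ∃ (Z : Scheme.{u}) (j : Z ⟶ X), IsOpenImmersion j ∧ IsOpenImmersion (j ≫ f) ∧
      x ∈ Set.range j) : IsOpenImmersion f := by
  have hopen : IsOpenMap f := by
    intro O hO
    rw [isOpen_iff_forall_mem_open]
    rintro _ ⟨x, hx, rfl⟩
    obtain ⟨Z, j, hj, hjf, z, rfl⟩ := H x
    refine ⟨(j ≫ f) '' (j ⁻¹' O), ?_, ?_, ?_⟩
    · rintro _ ⟨z', hz', rfl⟩
      exact ⟨j z', hz', by rw [Scheme.Hom.comp_apply]⟩
    · exact (j ≫ f).isOpenEmbedding.isOpenMap _ (hO.preimage j.continuous)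
    · exact ⟨z, hx, by rw [Scheme.Hom.comp_apply]⟩
  have hemb : Topology.IsOpenEmbedding f :=
    Topology.IsOpenEmbedding.of_continuous_injective_isOpenMap f.continuous hinj hopen
  haveI : ∀ x, IsIso (f.stalkMap x) := by
    intro x
    obtain ⟨Z, j, hj, hjf, z, rfl⟩ := H x
    have h1 : (j ≫ f).stalkMap z = f.stalkMap (j z) ≫ j.stalkMap z := Scheme.Hom.stalkMap_comp j f z
    haveI : IsIso (f.stalkMap (j z) ≫ j.stalkMap z) := by rw [← h1]; infer_instance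
    exact IsIso.of_isIso_comp_right (f.stalkMap (j z)) (j.stalkMap z)
  exact IsOpenImmersion.of_isIso_stalkMap f hemb

section dir

variable {S : Scheme.{u}} {G : GroupoidScheme S} [IsFinite G.s] [Flat G.s]
  [LocallyOfFinitePresentation G.s]

theorem InvOpen.ext' {w w' : InvOpen G} (h : w.W = w'.W) : w = w' := by
  cases w; cases w'; cases h; rfl

/-- invariant opens are saturated for the local quotient maps -/
theorem mem_of_pw_eq (w : InvOpen G) (O : G.U.Opens) (hO : G.s ⁻¹ᵁ O = G.t ⁻¹ᵁ O)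
    (u₀ u₁ : w.W.toScheme) (h : pw w u₀ = pw w u₁) (h1 : w.W.ι u₁ ∈ O) : w.W.ι u₀ ∈ O := by
  obtain ⟨r, hr0, hr1⟩ := (pw_eq_iff w u₀ u₁).1 h
  have : r ∈ G.s ⁻¹ᵁ O := by change G.s r ∈ O; rw [hr1]; exact h1
  rw [hO] at this
  rw [← hr0]; exact this

theorem mem_basicInv_iff (w : InvOpen G) (c : Cw w) (u : w.W.toScheme) :
    w.W.ι u ∈ (basicInv w c).W ↔ pw w u ∈ PrimeSpectrum.basicOpen c := by
  change w.W.ι u ∈ w.W.ι ''ᵁ (w.W.toScheme.basicOpen c.1) ↔ u ∈ (pw w) ⁻¹ᵁ PrimeSpectrum.basicOpen c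
  rw [pw_preimage_basicOpen]
  constructor
  · rintro ⟨u', hu', he⟩
    rwa [← w.W.ι.isOpenEmbedding.injective he]
  · intro hu
    exact ⟨u, hu, rfl⟩

/-- invariant affine opens of the form `basicInv` form a basis of the invariant opens -/
theorem exists_basicInv (w : InvOpen G) (O : G.U.Opens) (hO : G.s ⁻¹ᵁ O = G.t ⁻¹ᵁ O)
    (u : G.U) (hu : u ∈ w.W) (huO : u ∈ O) :
    ∃ c : Cw w, u ∈ (basicInv w c).W ∧ (basicInv w c).W ≤ O := by
  set O' : w.W.toScheme.Opens := w.W.ι ⁻¹ᵁ O with hO'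
  have hV : IsOpen ((pw w) '' (O' : Set w.W.toScheme)) := isOpenMap_pw w _ O'.isOpen
  let u' : w.W.toScheme := ⟨u, hu⟩
  have hy : pw w u' ∈ (⟨_, hV⟩ : TopologicalSpace.Opens (PrimeSpectrum (Cw w))) :=
    ⟨u', huO, rfl⟩
  obtain ⟨_, ⟨c, rfl⟩, hyc, hcV⟩ :=
    PrimeSpectrum.isTopologicalBasis_basic_opens.exists_subset_of_mem_open hy hV
  refine ⟨c, ?_, ?_⟩
  · exact (mem_basicInv_iff w c u').2 hyc
  · rintro x ⟨x', hx', rfl⟩
    have h1 : pw w x' ∈ PrimeSpectrum.basicOpen c := by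
      have : x' ∈ (pw w) ⁻¹ᵁ PrimeSpectrum.basicOpen c := by
        rw [pw_preimage_basicOpen]; exact hx'
      exact this
    obtain ⟨x'', hx'', he⟩ := hcV h1
    exact mem_of_pw_eq w O hO x' x'' he.symm hx''

theorem basicInv_eq_of_le {w' w : InvOpen G} (h : w' ≤ w) (c : Cw w)
    (hb : (basicInv w c).W ≤ w'.W) : basicInv w' (ρ h c) = basicInv w c := by
  apply InvOpen.ext'
  change w'.W.ι ''ᵁ (w'.W.toScheme.basicOpen ((fU h).appTop c.1)) =
    w.W.ι ''ᵁ (w.W.toScheme.basicOpen c.1)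
  rw [← Scheme.preimage_basicOpen_top]
  ext x
  constructor
  · rintro ⟨x', hx', rfl⟩
    refine ⟨fU h x', hx', ?_⟩
    change (fU h ≫ w.W.ι) x' = w'.W.ι x'
    rw [fU_ι]
  · intro hx
    have hxW' : x ∈ w'.W := hb hx
    obtain ⟨x₀, hx₀, rfl⟩ := hx
    refine ⟨⟨w.W.ι x₀, hxW'⟩, ?_, rfl⟩
    change fU h ⟨w.W.ι x₀, hxW'⟩ ∈ w.W.toScheme.basicOpen c.1
    have : fU h ⟨w.W.ι x₀, hxW'⟩ = x₀ := by
      apply w.W.ι.isOpenEmbedding.injective
      rw [← Scheme.Hom.comp_apply, fU_ι]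
      rfl
    rw [this]; exact hx₀

theorem ρ_map_injective {w' w : InvOpen G} (h : w' ≤ w) :
    Function.Injective (Spec.map (CommRingCat.ofHom (ρ h))) := by
  intro y₁ y₂ he
  obtain ⟨u₁, rfl⟩ := pw_surjective w' y₁
  obtain ⟨u₂, rfl⟩ := pw_surjective w' y₂
  rw [← Scheme.Hom.comp_apply, ← Scheme.Hom.comp_apply, ← pw_naturality, Scheme.Hom.comp_apply,
    Scheme.Hom.comp_apply, pw_eq_iff] at he
  obtain ⟨r, hr0, hr1⟩ := he
  rw [pw_eq_iff]
  refine ⟨r, ?_, ?_⟩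
  · rw [hr0, ← Scheme.Hom.comp_apply, fU_ι]
  · rw [hr1, ← Scheme.Hom.comp_apply, fU_ι]

theorem isOpenImmersion_ρ {w' w : InvOpen G} (h : w' ≤ w) :
    IsOpenImmersion (Spec.map (CommRingCat.ofHom (ρ h))) := by
  apply isOpenImmersion_of_local _ (ρ_map_injective h)
  intro y'
  obtain ⟨u', rfl⟩ := pw_surjective w' y'
  obtain ⟨c, huc, hcO⟩ := exists_basicInv w w'.W w'.inv (w'.W.ι u') (h u'.2) u'.2
  have hb : basicInv w c ≤ w' := hcO
  have heq := basicInv_eq_of_le h c hcO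
  refine ⟨_, Spec.map (CommRingCat.ofHom (ρ hb)), ?_, ?_, ?_⟩
  · -- open immersion: localization of `Cw w'` at `ρ h c`
    have key : ∀ (b : InvOpen G) (e : basicInv w' (ρ h c) = b) (hb : b ≤ w'),
        IsOpenImmersion (Spec.map (CommRingCat.ofHom (ρ hb))) := by
      rintro _ rfl hb
      exact isOpenImmersion_ρ_basicInv w' (ρ h c)
    exact key _ heq hb
  · rw [← Spec.map_comp, ← CommRingCat.ofHom_comp, ← ρ_trans]
    exact isOpenImmersion_ρ_basicInv w c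
  · have key : ∀ (b : InvOpen G) (e : basicInv w' (ρ h c) = b) (hb : b ≤ w'),
        Set.range (Spec.map (CommRingCat.ofHom (ρ hb))) =
          (PrimeSpectrum.basicOpen (ρ h c) : Set (PrimeSpectrum (Cw w'))) := by
      rintro _ rfl hb
      exact range_ρ_basicInv w' (ρ h c)
    rw [key _ heq hb]
    have := (mem_basicInv_iff w' (ρ h c) u').1 (by rw [heq]; exact huc)
    exact this

instance isOpenImmersion_F_map {w' w : InvOpen G} (f : w' ⟶ w) : IsOpenImmersion ((F G).map f) :=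
  isOpenImmersion_ρ (leOfHom f)

theorem F_map_pw {w' w : InvOpen G} (f : w' ⟶ w) (u : w'.W.toScheme) :
    (F G).map f (pw w' u) = pw w (fU (leOfHom f) u) := by
  change (pw w' ≫ Spec.map (CommRingCat.ofHom (ρ (leOfHom f)))) u = (fU (leOfHom f) ≫ pw w) u
  rw [pw_naturality]

theorem fU_apply {w' w : InvOpen G} (h : w' ≤ w) (u : w'.W.toScheme) :
    w.W.ι (fU h u) = w'.W.ι u := by
  change (fU h ≫ w.W.ι) u = _
  rw [fU_ι]

theorem inf_inv (w₁ w₂ : InvOpen G) : G.s ⁻¹ᵁ (w₁.W ⊓ w₂.W) = G.t ⁻¹ᵁ (w₁.W ⊓ w₂.W) := by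
  ext r
  change (G.s r ∈ w₁.W ∧ G.s r ∈ w₂.W) ↔ (G.t r ∈ w₁.W ∧ G.t r ∈ w₂.W)
  have h1 : G.s r ∈ w₁.W ↔ G.t r ∈ w₁.W := by
    change r ∈ G.s ⁻¹ᵁ w₁.W ↔ r ∈ G.t ⁻¹ᵁ w₁.W
    rw [w₁.inv]
  have h2 : G.s r ∈ w₂.W ↔ G.t r ∈ w₂.W := by
    change r ∈ G.s ⁻¹ᵁ w₂.W ↔ r ∈ G.t ⁻¹ᵁ w₂.W
    rw [w₂.inv]
  rw [h1, h2]

/-- the basic directedness statement -/
theorem exists_common (wi wj : InvOpen G) (u : G.U) (hi : u ∈ wi.W) (hj : u ∈ wj.W) :
    ∃ b : InvOpen G, b ≤ wi ∧ b ≤ wj ∧ u ∈ b.W := by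
  obtain ⟨c, huc, hcO⟩ := exists_basicInv wi (wi.W ⊓ wj.W) (inf_inv wi wj) u hi ⟨hi, hj⟩
  exact ⟨basicInv wi c, fun x hx => (hcO hx).1, fun x hx => (hcO hx).2, huc⟩

instance isLocallyDirected_F : ((F G) ⋙ Scheme.forget).IsLocallyDirected where
  cond {i j k} fi fj xi xj hxij := by
    simp only [Functor.comp_obj, Scheme.forget_obj, Functor.comp_map,
      Scheme.forget_map, ConcreteCategory.hom_ofHom, TypeCat.Fun.coe_mk] at hxij
    obtain ⟨ui, rfl⟩ := pw_surjective i xi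
    obtain ⟨uj, rfl⟩ := pw_surjective j xj
    have hxij' : (F G).map fi (pw i ui) = (F G).map fj (pw j uj) := hxij
    rw [F_map_pw, F_map_pw, pw_eq_iff, fU_apply, fU_apply] at hxij'
    obtain ⟨r, hr0, hr1⟩ := hxij'
    have huij : i.W.ι ui ∈ j.W := by
      have : r ∈ G.s ⁻¹ᵁ j.W := by change G.s r ∈ j.W; rw [hr1]; exact uj.2
      rw [j.inv] at this
      rw [← hr0]; exact this
    obtain ⟨b, hbi, hbj, hub⟩ := exists_common i j (i.W.ι ui) ui.2 huij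
    refine ⟨b, homOfLE hbi, homOfLE hbj, pw b ⟨i.W.ι ui, hub⟩, ?_, ?_⟩
    · simp only [Functor.comp_obj, Scheme.forget_obj, Functor.comp_map,
        Scheme.forget_map, ConcreteCategory.hom_ofHom, TypeCat.Fun.coe_mk]
      change (F G).map (homOfLE hbi) (pw b ⟨i.W.ι ui, hub⟩) = pw i ui
      rw [F_map_pw]
      congr 1
      apply i.W.ι.isOpenEmbedding.injective
      rw [fU_apply]
      rfl
    · simp only [Functor.comp_obj, Scheme.forget_obj, Functor.comp_map,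
        Scheme.forget_map, ConcreteCategory.hom_ofHom, TypeCat.Fun.coe_mk]
      change (F G).map (homOfLE hbj) (pw b ⟨i.W.ι ui, hub⟩) = pw j uj
      rw [F_map_pw, pw_eq_iff, fU_apply]
      exact ⟨r, hr0, hr1⟩

end dir

end Groth.Agent.Lib.Helper9.GQ
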