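import Mathlib
import Groth.Prelude.Def_Grpd
import Groth.Agent.Lib.Helper9.GQDir

set_option backward.isDefEq.respectTransparency false
set_option maxHeartbeats 800000
set_option autoImplicit false
set_option linter.unusedSectionVars false
set_option linter.unusedVariables false
universe u
open CategoryTheory CategoryTheory.Limits AlgebraicGeometry Opposite

namespace Groth.Agent.Lib.Helper9.GQ

open Grpd

section glue

variable {S : Scheme.{u}} (G : GroupoidScheme S) [IsFinite G.s] [Flat G.s]
  [LocallyOfFinitePresentation G.s] (hcov : ∀ x : G.U, ∃ w : InvOpen G, x ∈ w.W)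

include hcov in
theorem isOpenCover_invOpen : TopologicalSpace.IsOpenCover (fun w : InvOpen G => w.W) := by
  apply TopologicalSpace.IsOpenCover.mk
  rw [eq_top_iff]
  intro x _
  rw [TopologicalSpace.Opens.mem_iSup]
  exact hcov x

/-- the cover of `U` by invariant affine opens -/
noncomputable def cover : G.U.OpenCover :=
  G.U.openCoverOfIsOpenCover (fun w : InvOpen G => w.W) (isOpenCover_invOpen G hcov)

instance : Category (cover G hcov).I₀ := inferInstanceAs (Category (InvOpen G))

noncomputable instance coverLocallyDirected : (cover G hcov).LocallyDirected where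
  trans {i j} hij := fU (leOfHom hij)
  trans_id i := G.U.homOfLE_rfl _
  trans_comp hij hjk := (G.U.homOfLE_homOfLE _ _).symm
  w hij := fU_ι _
  property_trans hij := inferInstanceAs (IsOpenImmersion (G.U.homOfLE _))
  directed {i j} x := by
    let wi : InvOpen G := i
    let wj : InvOpen G := j
    let u : G.U := (pullback.fst wi.W.ι wj.W.ι ≫ wi.W.ι) x
    have hi : u ∈ wi.W := by
      change wi.W.ι ((pullback.fst wi.W.ι wj.W.ι) x) ∈ wi.W
      exact ((pullback.fst wi.W.ι wj.W.ι) x).2
    have hj : u ∈ wj.W := by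
      change (pullback.fst wi.W.ι wj.W.ι ≫ wi.W.ι) x ∈ wj.W
      rw [pullback.condition]
      exact ((pullback.snd wi.W.ι wj.W.ι) x).2
    obtain ⟨b, hbi, hbj, hub⟩ := exists_common wi wj u hi hj
    refine ⟨b, (homOfLE hbi : (b : InvOpen G) ⟶ wi), (homOfLE hbj : (b : InvOpen G) ⟶ wj),
      ⟨u, hub⟩, ?_⟩
    apply (pullback.fst wi.W.ι wj.W.ι ≫ wi.W.ι).isOpenEmbedding.injective
    have key : (pullback.lift (fU hbi) (fU hbj) (by rw [fU_ι, fU_ι]) ≫
        pullback.fst wi.W.ι wj.W.ι ≫ wi.W.ι) = b.W.ι := by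
      rw [pullback.lift_fst_assoc, fU_ι]
    exact congrArg (fun f : b.W.toScheme ⟶ G.U => f ⟨u, hub⟩) key

/-- the glued quotient -/
noncomputable def Y : Scheme.{u} := colimit (F G)

/-- the charts of the quotient -/
noncomputable def ιY (w : InvOpen G) : Spec (CommRingCat.of (Cw w)) ⟶ Y G := colimit.ι (F G) w

instance (w : InvOpen G) : IsOpenImmersion (ιY G w) :=
  inferInstanceAs (IsOpenImmersion (colimit.ι (F G) w))

theorem ιY_w {w' w : InvOpen G} (h : w' ≤ w) :
    Spec.map (CommRingCat.ofHom (ρ h)) ≫ ιY G w = ιY G w' :=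
  colimit.w (F G) (homOfLE h)

/-- the quotient map -/
noncomputable def p : G.U ⟶ Y G :=
  (cover G hcov).glueMorphismsOfLocallyDirected (fun w => pw w ≫ ιY G w) (by
    intro i j hij
    change fU (leOfHom hij) ≫ pw j ≫ ιY G j = pw i ≫ ιY G i
    rw [← Category.assoc, pw_naturality, Category.assoc, ιY_w])

theorem ι_p (w : InvOpen G) : w.W.ι ≫ p G hcov = pw w ≫ ιY G w :=
  (cover G hcov).map_glueMorphismsOfLocallyDirected (fun w => pw w ≫ ιY G w) (by
    intro i j hij
    change fU (leOfHom hij) ≫ pw j ≫ ιY G j = pw i ≫ ιY G i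
    rw [← Category.assoc, pw_naturality, Category.assoc, ιY_w]) w

theorem p_apply (w : InvOpen G) (u : w.W.toScheme) :
    p G hcov (w.W.ι u) = ιY G w (pw w u) := by
  rw [← Scheme.Hom.comp_apply, ← Scheme.Hom.comp_apply, ι_p]

end glue

end Groth.Agent.Lib.Helper9.GQ
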