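import Mathlib
import Groth.Prelude.Def_Grpd
import Groth.Agent.Lib.Helper9.GQGlue

set_option backward.isDefEq.respectTransparency false
set_option maxHeartbeats 800000
set_option autoImplicit false
set_option linter.unusedSectionVars false
set_option linter.unusedVariables false
universe u
open CategoryTheory CategoryTheory.Limits AlgebraicGeometry Opposite

namespace Groth.Agent.Lib.Helper9.GQ

open Grpd

section prop

variable {S : Scheme.{u}} (G : GroupoidScheme S) [IsFinite G.s] [Flat G.s]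
  [LocallyOfFinitePresentation G.s] (hcov : ∀ x : G.U, ∃ w : InvOpen G, x ∈ w.W)

theorem ιY_eq_iff {w w' : InvOpen G} (y : Spec (CommRingCat.of (Cw w)))
    (y' : Spec (CommRingCat.of (Cw w'))) :
    ιY G w y = ιY G w' y' ↔ ∃ (k : InvOpen G) (hk : k ≤ w) (hk' : k ≤ w')
      (z : Spec (CommRingCat.of (Cw k))),
      Spec.map (CommRingCat.ofHom (ρ hk)) z = y ∧ Spec.map (CommRingCat.ofHom (ρ hk')) z = y' := by
  refine Iff.trans (Scheme.IsLocallyDirected.ι_eq_ι_iff (F := F G) (i := w) (j := w')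
    (xi := y) (xj := y')) ?_
  constructor
  · rintro ⟨k, fi, fj, z, h1, h2⟩
    exact ⟨k, leOfHom fi, leOfHom fj, z, h1, h2⟩
  · rintro ⟨k, hk, hk', z, h1, h2⟩
    exact ⟨k, homOfLE hk, homOfLE hk', z, h1, h2⟩

theorem ιY_jointly_surjective (y : Y G) :
    ∃ (w : InvOpen G) (z : Spec (CommRingCat.of (Cw w))), ιY G w z = y :=
  Scheme.IsLocallyDirected.ι_jointly_surjective (F G) y

theorem t_p : G.t ≫ p G hcov = G.s ≫ p G hcov := by
  have hc : TopologicalSpace.IsOpenCover (fun w : InvOpen G => G.s ⁻¹ᵁ w.W) := by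
    apply TopologicalSpace.IsOpenCover.mk
    rw [eq_top_iff]
    intro r _
    rw [TopologicalSpace.Opens.mem_iSup]
    obtain ⟨w, hw⟩ := hcov (G.s r)
    exact ⟨w, hw⟩
  apply (G.R.openCoverOfIsOpenCover _ hc).hom_ext
  intro w
  change (G.s ⁻¹ᵁ w.W).ι ≫ G.t ≫ p G hcov = (G.s ⁻¹ᵁ w.W).ι ≫ G.s ≫ p G hcov
  rw [← Category.assoc, ← tW_ι G w.W w.inv, ← Category.assoc (G.s ⁻¹ᵁ w.W).ι, ← sW_ι,
    Category.assoc, Category.assoc, ι_p, ← Category.assoc, ← Category.assoc]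
  congr 1
  exact pw_coeq w

/-- a point of `U` mapping into the chart `Y_w` lies in `w.W` -/
theorem mem_of_p_eq (w w' : InvOpen G) (u' : w'.W.toScheme) (y : Spec (CommRingCat.of (Cw w)))
    (h : p G hcov (w'.W.ι u') = ιY G w y) :
    ∃ hu : w'.W.ι u' ∈ w.W, y = pw w ⟨w'.W.ι u', hu⟩ := by
  rw [p_apply, ιY_eq_iff] at h
  obtain ⟨k, hk', hk, z, h1, h2⟩ := h
  obtain ⟨uk, rfl⟩ := pw_surjective k z
  have e1 : Spec.map (CommRingCat.ofHom (ρ hk')) (pw k uk) = pw w' (fU hk' uk) :=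
    F_map_pw (homOfLE hk') uk
  have e2 : Spec.map (CommRingCat.ofHom (ρ hk)) (pw k uk) = pw w (fU hk uk) :=
    F_map_pw (homOfLE hk) uk
  rw [e1, pw_eq_iff, fU_apply] at h1
  obtain ⟨r, hr0, hr1⟩ := h1
  have hrk : r ∈ G.t ⁻¹ᵁ k.W := by change G.t r ∈ k.W; rw [hr0]; exact uk.2
  rw [← k.inv] at hrk
  have huk : w'.W.ι u' ∈ k.W := by rw [← hr1]; exact hrk
  refine ⟨hk huk, ?_⟩
  rw [← h2, e2, pw_eq_iff, fU_apply]
  exact ⟨r, hr0, hr1⟩

theorem p_preimage_range (w : InvOpen G) :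
    (p G hcov) ⁻¹' (Set.range (ιY G w)) = (w.W : Set G.U) := by
  ext u
  constructor
  · rintro ⟨y, hy⟩
    obtain ⟨w', hw'⟩ := hcov u
    obtain ⟨hu, -⟩ := mem_of_p_eq G hcov w w' ⟨u, hw'⟩ y hy.symm
    exact hu
  · intro hu
    exact ⟨pw w ⟨u, hu⟩, (p_apply G hcov w ⟨u, hu⟩).symm⟩

theorem isPullback_chart (w : InvOpen G) : IsPullback (pw w) w.W.ι (ιY G w) (p G hcov) := by
  apply IsOpenImmersion.isPullback
  · exact ι_p G hcov w
  · ext1
    rw [Scheme.Opens.opensRange_ι]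
    exact p_preimage_range G hcov w

theorem p_surjective : Function.Surjective (p G hcov) := by
  intro y
  obtain ⟨w, z, rfl⟩ := ιY_jointly_surjective G y
  obtain ⟨u, rfl⟩ := pw_surjective w z
  exact ⟨w.W.ι u, p_apply G hcov w u⟩

theorem p_eq_iff (x y : G.U) :
    p G hcov x = p G hcov y ↔ ∃ r : G.R, G.t r = x ∧ G.s r = y := by
  constructor
  · intro h
    obtain ⟨w, hw⟩ := hcov y
    have h1 : p G hcov x = ιY G w (pw w ⟨y, hw⟩) := h.trans (p_apply G hcov w ⟨y, hw⟩)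
    obtain ⟨w', hw'⟩ := hcov x
    obtain ⟨hx, he⟩ := mem_of_p_eq G hcov w w' ⟨x, hw'⟩ _ h1
    exact (pw_eq_iff w ⟨x, hx⟩ ⟨y, hw⟩).1 he.symm
  · rintro ⟨r, rfl, rfl⟩
    rw [← Scheme.Hom.comp_apply, ← Scheme.Hom.comp_apply, t_p]

theorem p_isOpenMap : IsOpenMap (p G hcov) := by
  intro O hO
  rw [isOpen_iff_forall_mem_open]
  rintro _ ⟨u, hu, rfl⟩
  obtain ⟨w, hw⟩ := hcov u
  refine ⟨(ιY G w) '' ((pw w) '' (w.W.ι ⁻¹' O)), ?_, ?_, ?_⟩
  · rintro _ ⟨_, ⟨u', hu', rfl⟩, rfl⟩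
    exact ⟨w.W.ι u', hu', p_apply G hcov w u'⟩
  · exact (ιY G w).isOpenEmbedding.isOpenMap _ (isOpenMap_pw w _ (hO.preimage w.W.ι.continuous))
  · exact ⟨pw w ⟨u, hw⟩, ⟨⟨u, hw⟩, hu, rfl⟩, (p_apply G hcov w ⟨u, hw⟩).symm⟩

/-- the open cover of `Y` by the charts -/
noncomputable def coverY : (Y G).OpenCover := Scheme.IsLocallyDirected.openCover (F G)

theorem isIntegralHom_p : IsIntegralHom (p G hcov) := by
  apply IsZariskiLocalAtTarget.of_openCover (P := @IsIntegralHom) (coverY G)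
  intro w
  have hpb := (isPullback_chart G hcov w).flip
  have : pullback.snd (p G hcov) (ιY G w) = hpb.isoPullback.inv ≫ pw w := by
    rw [Iso.eq_inv_comp, hpb.isoPullback_hom_snd]
  change IsIntegralHom (pullback.snd (p G hcov) (ιY G w))
  rw [this]
  haveI := isIntegralHom_pw w
  infer_instance

end prop

end Groth.Agent.Lib.Helper9.GQ
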