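import Mathlib
import Groth.Prelude.Def_Grpd
import Groth.Agent.Lib.Helper9.GQProp

set_option backward.isDefEq.respectTransparency false
set_option maxHeartbeats 800000
set_option autoImplicit false
set_option linter.unusedSectionVars false
set_option linter.unusedVariables false
universe u
open CategoryTheory CategoryTheory.Limits AlgebraicGeometry Opposite

namespace Groth.Agent.Lib.Helper9.GQ

open Grpd

theorem appLE_congr {X T : Scheme.{u}} (a b : X ⟶ T) (hab : a = b) (U : T.Opens) (V : X.Opens)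
    (e₁ : V ≤ a ⁻¹ᵁ U) (e₂ : V ≤ b ⁻¹ᵁ U) : a.appLE U V e₁ = b.appLE U V e₂ := by
  subst hab; rfl

/-- a surjective morphism which is injective on sections is an epimorphism of schemes -/
theorem epi_of_surjective_of_app_injective {X Y : Scheme.{u}} (f : X ⟶ Y)
    (hs : Function.Surjective f) (hinj : ∀ V : Y.Opens, Function.Injective (f.app V)) : Epi f := by
  constructor
  intro T g g' h
  have hpt : ∀ y, g y = g' y := by
    intro y
    obtain ⟨x, rfl⟩ := hs y
    rw [← Scheme.Hom.comp_apply, ← Scheme.Hom.comp_apply, h]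
  have hbase : g.base = g'.base := by
    ext y
    exact hpt y
  refine Scheme.Hom.ext hbase (fun U => ?_)
  have hle : g' ⁻¹ᵁ U ≤ g ⁻¹ᵁ U := by
    intro y hy
    change g y ∈ U
    rw [hpt]; exact hy
  have e1 : g.app U ≫ Y.presheaf.map (eqToHom congr((TopologicalSpace.Opens.map $hbase.symm).obj U)).op
      = g.appLE U (g' ⁻¹ᵁ U) hle := by
    rw [Scheme.Hom.appLE]
    rfl
  rw [e1]
  apply CommRingCat.hom_ext
  apply RingHom.ext
  intro a
  apply hinj (g' ⁻¹ᵁ U)
  have h1 : (g.appLE U (g' ⁻¹ᵁ U) hle ≫ f.app (g' ⁻¹ᵁ U)) =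
      (f ≫ g).appLE U (f ⁻¹ᵁ (g' ⁻¹ᵁ U)) (by
        intro x hx
        exact hle hx) := by
    rw [Scheme.Hom.app_eq_appLE, Scheme.Hom.appLE_comp_appLE]
  have h2 : (g'.app U ≫ f.app (g' ⁻¹ᵁ U)) =
      (f ≫ g').appLE U (f ⁻¹ᵁ (g' ⁻¹ᵁ U)) (fun x hx => hx) := by
    rw [Scheme.Hom.app_eq_appLE, Scheme.Hom.app_eq_appLE, Scheme.Hom.appLE_comp_appLE]
  have h3 := appLE_congr (f ≫ g) (f ≫ g') h U (f ⁻¹ᵁ (g' ⁻¹ᵁ U)) (by
        intro x hx
        exact hle hx) (fun x hx => hx)
  have := congrArg (fun φ => φ.hom a) (h1.trans (h3.trans h2.symm))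
  exact this

/-- a morphism with image in an affine open factors through the spectrum of sections -/
theorem fac_of_le_affine {P T : Scheme.{u}} (h : P ⟶ T) (T' : T.Opens) (hT' : IsAffineOpen T')
    (e : (⊤ : P.Opens) ≤ h ⁻¹ᵁ T') :
    P.toSpecΓ ≫ Spec.map (h.appLE T' ⊤ e) ≫ hT'.fromSpec = h := by
  have h1 : (⊤ : P.Opens).toSpecΓ ≫ Spec.map (h.appLE T' ⊤ e) ≫ hT'.fromSpec = (⊤ : P.Opens).ι ≫ h := by
    rw [Scheme.Opens.toSpecΓ_SpecMap_appLE_assoc, hT'.toSpecΓ_fromSpec, Scheme.Hom.resLE_comp_ι]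
  rw [Scheme.Opens.toSpecΓ_top, Category.assoc] at h1
  haveI : IsIso (⊤ : P.Opens).ι := by rw [← Scheme.topIso_hom]; infer_instance
  exact (cancel_epi _).1 h1

theorem isSchemeTheoreticallyDominant_of_appTop_injective {X Y : Scheme.{u}} (f : X ⟶ Y)
    [IsAffine Y] [QuasiCompact f] (h : Function.Injective f.appTop) :
    IsSchemeTheoreticallyDominant f := by
  constructor
  apply Scheme.IdealSheafData.ext_of_isAffine
  rw [Scheme.Hom.ker_apply]
  have : RingHom.ker (f.app ⊤).hom = ⊥ := (RingHom.injective_iff_ker_eq_bot _).1 h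
  simpa using this

section epi

variable {S : Scheme.{u}} {G : GroupoidScheme S} [IsFinite G.s] [Flat G.s]
  [LocallyOfFinitePresentation G.s]

theorem pw_appTop (w : InvOpen G) :
    (pw w).appTop = (Scheme.ΓSpecIso (CommRingCat.of (Cw w))).hom ≫
      CommRingCat.ofHom (Cw w).subtype := by
  rw [pw, quot, Scheme.Hom.comp_appTop, Scheme.toSpecΓ_appTop]
  exact Scheme.ΓSpecIso_naturality _

theorem pw_appTop_injective (w : InvOpen G) : Function.Injective (pw w).appTop := by
  rw [pw_appTop]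
  intro a b hab
  have h1 : (Cw w).subtype ((Scheme.ΓSpecIso (CommRingCat.of (Cw w))).hom a) =
      (Cw w).subtype ((Scheme.ΓSpecIso (CommRingCat.of (Cw w))).hom b) := hab
  have h2 := Subtype.val_injective h1
  exact (ConcreteCategory.bijective_of_isIso (Scheme.ΓSpecIso (CommRingCat.of (Cw w))).hom).1 h2

instance epi_pw (w : InvOpen G) : Epi (pw w) := by
  haveI := isIntegralHom_pw w
  haveI : QuasiCompact (pw w) := inferInstance
  haveI := isSchemeTheoreticallyDominant_of_appTop_injective (pw w) (pw_appTop_injective w)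
  exact epi_of_surjective_of_app_injective (pw w) (pw_surjective w)
    (fun V => (pw w).app_injective V)

variable (G) (hcov : ∀ x : G.U, ∃ w : InvOpen G, x ∈ w.W)

theorem epi_p : Epi (p G hcov) := by
  constructor
  intro T g g' h
  apply (coverY G).hom_ext
  intro w
  change ιY G w ≫ g = ιY G w ≫ g'
  rw [← cancel_epi (pw w), ← Category.assoc, ← Category.assoc, ← ι_p G hcov, Category.assoc,
    Category.assoc, h]

end epi

end Groth.Agent.Lib.Helper9.GQ
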