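import Mathlib
import Groth.Prelude.Def_Grpd
import Groth.Agent.Lib.Helper9.GQEpi

set_option backward.isDefEq.respectTransparency false
set_option maxHeartbeats 800000
set_option autoImplicit false
set_option linter.unusedSectionVars false
set_option linter.unusedVariables false
universe u
open CategoryTheory CategoryTheory.Limits AlgebraicGeometry Opposite

namespace Groth.Agent.Lib.Helper9.GQ

open Grpd

section coeq

variable {S : Scheme.{u}} (G : GroupoidScheme S) [IsFinite G.s] [Flat G.s]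
  [LocallyOfFinitePresentation G.s] (hcov : ∀ x : G.U, ∃ w : InvOpen G, x ∈ w.W)
  {T : Scheme.{u}} (f : G.U ⟶ T) (hf : G.t ≫ f = G.s ≫ f)

include hf in
theorem sw_f (w : InvOpen G) : sw w ≫ w.W.ι ≫ f = tw w ≫ w.W.ι ≫ f := by
  rw [← Category.assoc, sW_ι, ← Category.assoc (tw w), tW_ι, Category.assoc, Category.assoc, hf]

include hf in
/-- descent of an invariant morphism on a chart whose image lies in an affine open -/
theorem exists_desc_chart (w : InvOpen G) (T' : T.Opens) (hT' : IsAffineOpen T')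
    (hw : w.W ≤ f ⁻¹ᵁ T') :
    ∃ g : Spec (CommRingCat.of (Cw w)) ⟶ T, pw w ≫ g = w.W.ι ≫ f := by
  set h : w.W.toScheme ⟶ T := w.W.ι ≫ f with hh
  have e : (⊤ : w.W.toScheme.Opens) ≤ h ⁻¹ᵁ T' := by
    intro x _
    exact hw x.2
  have hinv : ∀ a : Γ(T, T'), (h.appLE T' ⊤ e).hom a ∈ Cw w := by
    intro a
    change (sw w).appTop ((h.appLE T' ⊤ e) a) = (tw w).appTop ((h.appLE T' ⊤ e) a)
    have e1 : h.appLE T' ⊤ e ≫ (sw w).appTop = (sw w ≫ h).appLE T' ⊤ (fun x _ => e trivial) := by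
      rw [Scheme.Hom.appTop, Scheme.Hom.app_eq_appLE, Scheme.Hom.appLE_comp_appLE]
      rfl
    have e2 : h.appLE T' ⊤ e ≫ (tw w).appTop = (tw w ≫ h).appLE T' ⊤ (fun x _ => e trivial) := by
      rw [Scheme.Hom.appTop, Scheme.Hom.app_eq_appLE, Scheme.Hom.appLE_comp_appLE]
      rfl
    have e3 := appLE_congr (sw w ≫ h) (tw w ≫ h) (sw_f G f hf w) T' ⊤
      (fun x _ => e trivial) (fun x _ => e trivial)
    exact congrArg (fun φ => φ.hom a) (e1.trans (e3.trans e2.symm))
  let φ : Γ(T, T') →+* Cw w := (h.appLE T' ⊤ e).hom.codRestrict (Cw w) hinv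
  refine ⟨Spec.map (CommRingCat.ofHom φ) ≫ hT'.fromSpec, ?_⟩
  have hφ : CommRingCat.ofHom φ ≫ CommRingCat.ofHom (Cw w).subtype = h.appLE T' ⊤ e := rfl
  have key := fac_of_le_affine h T' hT' e
  rw [← hφ, Spec.map_comp, Category.assoc] at key
  rw [pw, quot, Category.assoc]
  exact key

/-- charts on which `f` lands in an affine open -/
def Jf : Type u := {w : InvOpen G // ∃ T' : T.Opens, IsAffineOpen T' ∧ w.W ≤ f ⁻¹ᵁ T'}

instance : Preorder (Jf G f) := Preorder.lift (fun w => w.1)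

include hf hcov in
theorem exists_Jf (u : G.U) : ∃ w : Jf G f, u ∈ w.1.W := by
  obtain ⟨w₀, hw₀⟩ := hcov u
  obtain ⟨_, ⟨T', hT', rfl⟩, huT', -⟩ :=
    T.isBasis_affineOpens.exists_subset_of_mem_open (Set.mem_univ (f u)) isOpen_univ
  have hO : G.s ⁻¹ᵁ (f ⁻¹ᵁ T') = G.t ⁻¹ᵁ (f ⁻¹ᵁ T') := by
    rw [← Scheme.Hom.comp_preimage, ← Scheme.Hom.comp_preimage, hf]
  obtain ⟨c, huc, hcO⟩ := exists_basicInv w₀ (f ⁻¹ᵁ T') hO u hw₀ huT'
  exact ⟨⟨basicInv w₀ c, T', hT', hcO⟩, huc⟩

end coeq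

section coeq2

variable {S : Scheme.{u}} (G : GroupoidScheme S) [IsFinite G.s] [Flat G.s]
  [LocallyOfFinitePresentation G.s] (hcov : ∀ x : G.U, ∃ w : InvOpen G, x ∈ w.W)
  {T : Scheme.{u}} (f : G.U ⟶ T) (hf : G.t ≫ f = G.s ≫ f)

/-- the chart-wise descent of `f` -/
noncomputable def gChart (w : Jf G f) : Spec (CommRingCat.of (Cw w.1)) ⟶ T :=
  (exists_desc_chart G f hf w.1 _ w.2.choose_spec.1 w.2.choose_spec.2).choose

theorem pw_gChart (w : Jf G f) : pw w.1 ≫ gChart G f hf w = w.1.W.ι ≫ f :=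
  (exists_desc_chart G f hf w.1 _ w.2.choose_spec.1 w.2.choose_spec.2).choose_spec

theorem gChart_compat {w' w : Jf G f} (h : w'.1 ≤ w.1) :
    Spec.map (CommRingCat.ofHom (ρ h)) ≫ gChart G f hf w = gChart G f hf w' := by
  rw [← cancel_epi (pw w'.1), ← Category.assoc, ← pw_naturality, Category.assoc, pw_gChart,
    pw_gChart, ← Category.assoc, fU_ι]

/-- the cover of `Y` by the charts on which `f` lands in an affine open -/
noncomputable def coverYf : (Y G).OpenCover where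
  I₀ := Jf G f
  X w := Spec (CommRingCat.of (Cw w.1))
  f w := ιY G w.1
  mem₀ := by
    rw [Scheme.presieve₀_mem_precoverage_iff]
    refine ⟨fun y => ?_, fun w => inferInstance⟩
    obtain ⟨u, rfl⟩ := p_surjective G hcov y
    obtain ⟨w, hw⟩ := exists_Jf G hcov f hf u
    exact ⟨w, pw w.1 ⟨u, hw⟩, (p_apply G hcov w.1 ⟨u, hw⟩).symm⟩

instance : Category (coverYf G hcov f hf).I₀ := inferInstanceAs (Category (Jf G f))

noncomputable instance coverYfLocallyDirected : (coverYf G hcov f hf).LocallyDirected where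
  trans {i j} hij := Spec.map (CommRingCat.ofHom (ρ (leOfHom hij : (i : Jf G f).1 ≤ (j : Jf G f).1)))
  trans_id i := by
    have : ρ (le_refl (i : Jf G f).1) = RingHom.id _ := ρ_refl _
    change Spec.map (CommRingCat.ofHom (ρ (le_refl (i : Jf G f).1))) = 𝟙 _
    rw [this]
    exact Spec.map_id _
  trans_comp {i j k} hij hjk := by
    change Spec.map (CommRingCat.ofHom (ρ ((leOfHom hij : (i : Jf G f).1 ≤ (j : Jf G f).1).trans
      (leOfHom hjk : (j : Jf G f).1 ≤ (k : Jf G f).1)))) = _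
    rw [ρ_trans, CommRingCat.ofHom_comp, Spec.map_comp]
  w hij := ιY_w G _
  property_trans hij := isOpenImmersion_ρ _
  directed {i j} x := by
    let wi : Jf G f := i
    let wj : Jf G f := j
    let y := (pullback.fst (ιY G wi.1) (ιY G wj.1)) x
    let y' := (pullback.snd (ιY G wi.1) (ιY G wj.1)) x
    have hyy' : ιY G wi.1 y = ιY G wj.1 y' := by
      change (pullback.fst (ιY G wi.1) (ιY G wj.1) ≫ ιY G wi.1) x =
        (pullback.snd (ιY G wi.1) (ιY G wj.1) ≫ ιY G wj.1) x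
      rw [pullback.condition]
    obtain ⟨k, hki, hkj, z, hz1, hz2⟩ := (ιY_eq_iff G y y').1 hyy'
    let wk : Jf G f := ⟨k, wi.2.choose, wi.2.choose_spec.1,
      le_trans (show k.W ≤ wi.1.W from hki) wi.2.choose_spec.2⟩
    refine ⟨wk, (homOfLE hki : wk ⟶ wi), (homOfLE hkj : wk ⟶ wj), z, ?_⟩
    apply (pullback.fst (ιY G wi.1) (ιY G wj.1) ≫ ιY G wi.1).isOpenEmbedding.injective
    have key : (pullback.lift (Spec.map (CommRingCat.ofHom (ρ hki)))
        (Spec.map (CommRingCat.ofHom (ρ hkj))) (by rw [ιY_w, ιY_w]) ≫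
        pullback.fst (ιY G wi.1) (ιY G wj.1) ≫ ιY G wi.1) = ιY G k := by
      rw [pullback.lift_fst_assoc, ιY_w]
    have h1 := congrArg (fun φ : Spec (CommRingCat.of (Cw k)) ⟶ Y G => φ z) key
    refine Eq.trans h1 ?_
    change ιY G k z = ιY G wi.1 y
    rw [← hz1, ← Scheme.Hom.comp_apply, ιY_w]

/-- the descended morphism -/
noncomputable def desc : Y G ⟶ T :=
  (coverYf G hcov f hf).glueMorphismsOfLocallyDirected (fun w => gChart G f hf w) (by
    intro i j hij
    exact gChart_compat G f hf (leOfHom hij : (i : Jf G f).1 ≤ (j : Jf G f).1))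

theorem ιY_desc (w : Jf G f) : ιY G w.1 ≫ desc G hcov f hf = gChart G f hf w :=
  (coverYf G hcov f hf).map_glueMorphismsOfLocallyDirected (fun w => gChart G f hf w) (by
    intro i j hij
    exact gChart_compat G f hf (leOfHom hij : (i : Jf G f).1 ≤ (j : Jf G f).1)) w

theorem p_desc : p G hcov ≫ desc G hcov f hf = f := by
  have hc : TopologicalSpace.IsOpenCover (fun w : Jf G f => w.1.W) := by
    apply TopologicalSpace.IsOpenCover.mk
    rw [eq_top_iff]
    intro u _
    rw [TopologicalSpace.Opens.mem_iSup]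
    exact exists_Jf G hcov f hf u
  apply (G.U.openCoverOfIsOpenCover _ hc).hom_ext
  intro w
  change w.1.W.ι ≫ p G hcov ≫ desc G hcov f hf = w.1.W.ι ≫ f
  rw [← Category.assoc, ι_p, Category.assoc, ιY_desc, pw_gChart]

end coeq2

end Groth.Agent.Lib.Helper9.GQ
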