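import Mathlib
import Groth.Prelude.Def_Grpd
import Groth.Agent.Lib.Helper9.GQCoeq

set_option backward.isDefEq.respectTransparency false
set_option maxHeartbeats 800000
set_option autoImplicit false
set_option linter.unusedSectionVars false
set_option linter.unusedVariables false
universe u
open CategoryTheory CategoryTheory.Limits AlgebraicGeometry Opposite

namespace Groth.Agent.Lib.Helper9.GQ

open Grpd

section main

variable {S : Scheme.{u}} (G : GroupoidScheme S) [IsFinite G.s] [Flat G.s]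
  [LocallyOfFinitePresentation G.s] (hcov : ∀ x : G.U, ∃ w : InvOpen G, x ∈ w.W)

/-- the quotient is a coequalizer in schemes -/
noncomputable def isColimit_p : IsColimit (Cofork.ofπ (p G hcov) (t_p G hcov)) :=
  haveI := epi_p G hcov
  Cofork.IsColimit.mk _
    (fun c => desc G hcov c.π c.condition)
    (fun c => p_desc G hcov c.π c.condition)
    (fun c m hm => by
      rw [← cancel_epi (p G hcov)]
      exact hm.trans (p_desc G hcov c.π c.condition).symm)

include hcov in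
theorem isAffine_Y [IsAffine G.U] : IsAffine (Y G) := by
  let wt : InvOpen G := ⟨⊤, isAffineOpen_top G.U, rfl⟩
  have hr : (ιY G wt).opensRange = ⊤ := by
    rw [eq_top_iff]
    intro y _
    obtain ⟨u, rfl⟩ := p_surjective G hcov y
    exact ⟨pw wt ⟨u, trivial⟩, (p_apply G hcov wt ⟨u, trivial⟩).symm⟩
  haveI := isIso_of_isOpenImmersion_of_opensRange_eq_top (ιY G wt) hr
  exact IsAffine.of_isIso (inv (ιY G wt))

theorem exists_geom_point (P : Scheme.{u}) (z : P) :
    ∃ (k : Type u) (_ : Field k) (_ : IsAlgClosed k) (ζ : Spec (CommRingCat.of k) ⟶ P),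
      ∀ pt, ζ pt = z := by
  refine ⟨AlgebraicClosure (P.residueField z), inferInstance, inferInstance,
    Spec.map (CommRingCat.ofHom (algebraMap (P.residueField z) (AlgebraicClosure (P.residueField z))))
      ≫ P.fromSpecResidueField z, ?_⟩
  intro pt
  rw [Scheme.Hom.comp_apply]
  exact Scheme.fromSpecResidueField_apply _ _

theorem lift_surjective :
    Function.Surjective (pullback.lift G.t G.s (t_p G hcov) : G.R ⟶ pullback (p G hcov) (p G hcov)) := by
  intro z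
  obtain ⟨k, _, _, ζ, hζ⟩ := exists_geom_point (pullback (p G hcov) (p G hcov)) z
  obtain ⟨xk, hxk0⟩ : ∃ xk : Spec (CommRingCat.of k) ⟶ G.U, xk = ζ ≫ pullback.fst _ _ := ⟨_, rfl⟩
  obtain ⟨yk, hyk0⟩ : ∃ yk : Spec (CommRingCat.of k) ⟶ G.U, yk = ζ ≫ pullback.snd _ _ := ⟨_, rfl⟩
  have hxy : xk ≫ p G hcov = yk ≫ p G hcov := by
    rw [hxk0, hyk0, Category.assoc, Category.assoc, pullback.condition]
  obtain ⟨x, hx0⟩ : ∃ x : G.U, x = (pullback.fst (p G hcov) (p G hcov)) z := ⟨_, rfl⟩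
  obtain ⟨y, hy0⟩ : ∃ y : G.U, y = (pullback.snd (p G hcov) (p G hcov)) z := ⟨_, rfl⟩
  obtain ⟨w, hxw⟩ := hcov x
  have hpxy : p G hcov x = p G hcov y := by
    rw [hx0, hy0]
    change (pullback.fst (p G hcov) (p G hcov) ≫ p G hcov) z =
      (pullback.snd (p G hcov) (p G hcov) ≫ p G hcov) z
    rw [pullback.condition]
  have hyw : y ∈ w.W := by
    have : y ∈ (p G hcov) ⁻¹' (Set.range (ιY G w)) := by
      rw [Set.mem_preimage, ← hpxy, ← Set.mem_preimage, p_preimage_range]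
      exact hxw
    rwa [p_preimage_range] at this
  have hxk : Set.range xk ⊆ Set.range w.W.ι := by
    rintro _ ⟨pt, rfl⟩
    rw [Scheme.Opens.range_ι, hxk0]
    change (pullback.fst (p G hcov) (p G hcov)) (ζ pt) ∈ w.W
    rw [hζ, ← hx0]; exact hxw
  have hyk : Set.range yk ⊆ Set.range w.W.ι := by
    rintro _ ⟨pt, rfl⟩
    rw [Scheme.Opens.range_ι, hyk0]
    change (pullback.snd (p G hcov) (p G hcov)) (ζ pt) ∈ w.W
    rw [hζ, ← hy0]; exact hyw
  obtain ⟨xk', hxk'⟩ : ∃ xk' : Spec (CommRingCat.of k) ⟶ w.W.toScheme, xk' ≫ w.W.ι = xk :=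
    ⟨IsOpenImmersion.lift w.W.ι xk hxk, IsOpenImmersion.lift_fac _ _ _⟩
  obtain ⟨yk', hyk'⟩ : ∃ yk' : Spec (CommRingCat.of k) ⟶ w.W.toScheme, yk' ≫ w.W.ι = yk :=
    ⟨IsOpenImmersion.lift w.W.ι yk hyk, IsOpenImmersion.lift_fac _ _ _⟩
  have hpw : xk' ≫ pw w = yk' ≫ pw w := by
    rw [← cancel_mono (ιY G w), Category.assoc, Category.assoc, ← ι_p G hcov, ← Category.assoc,
      ← Category.assoc, hxk', hyk', hxy]
  obtain ⟨rk, hrk1, hrk2⟩ := ((local_facts w).2.1 k xk' yk').1 hpw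
  have h1 : (rk ≫ (G.s ⁻¹ᵁ w.W).ι) ≫ G.t = xk := by
    rw [Category.assoc, ← tW_ι G w.W w.inv, ← Category.assoc, hrk1, hxk']
  have h2 : (rk ≫ (G.s ⁻¹ᵁ w.W).ι) ≫ G.s = yk := by
    rw [Category.assoc, ← sW_ι, ← Category.assoc, hrk2, hyk']
  have h3 : (rk ≫ (G.s ⁻¹ᵁ w.W).ι) ≫ pullback.lift G.t G.s (t_p G hcov) = ζ := by
    apply pullback.hom_ext
    · rw [Category.assoc, pullback.lift_fst, h1, hxk0]
    · rw [Category.assoc, pullback.lift_snd, h2, hyk0]
  refine ⟨(rk ≫ (G.s ⁻¹ᵁ w.W).ι) (IsLocalRing.closedPoint k), ?_⟩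
  rw [← Scheme.Hom.comp_apply, h3, hζ]

end main

end Groth.Agent.Lib.Helper9.GQ
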