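import Mathlib
import Groth.Prelude.Def_Grpd
import Groth.Prelude.Def_Mor2
import Groth.Agent.Lib.Helper9.GQMain
import Groth.Agent.S1877

set_option backward.isDefEq.respectTransparency false
set_option maxHeartbeats 800000
set_option autoImplicit false
set_option linter.unusedSectionVars false
set_option linter.unusedVariables false
universe u
open CategoryTheory CategoryTheory.Limits AlgebraicGeometry Opposite

namespace Groth.Agent.Lib.Helper9.GQ

open Grpd

section eqv

variable {S : Scheme.{u}} (G : GroupoidScheme S) [IsFinite G.s] [Flat G.s]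
  [LocallyOfFinitePresentation G.s] (hcov : ∀ x : G.U, ∃ w : InvOpen G, x ∈ w.W) [Mono G.j]

theorem hom_ext_R {Z : Scheme.{u}} (c c' : Z ⟶ G.R) (ht : c ≫ G.t = c' ≫ G.t)
    (hs : c ≫ G.s = c' ≫ G.s) : c = c' := by
  rw [← cancel_mono G.j]
  apply pullback.hom_ext
  · rw [Category.assoc, Category.assoc, GroupoidScheme.j, pullback.lift_fst, ht]
  · rw [Category.assoc, Category.assoc, GroupoidScheme.j, pullback.lift_snd, hs]

theorem mono_jW (w : InvOpen G) : Mono (GW w).j := by
  constructor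
  intro Z c c' h
  have h1 : c ≫ tw w = c' ≫ tw w := by
    have := congrArg (· ≫ pullback.fst _ _) h
    simpa [GroupoidScheme.j] using this
  have h2 : c ≫ sw w = c' ≫ sw w := by
    have := congrArg (· ≫ pullback.snd _ _) h
    simpa [GroupoidScheme.j] using this
  have : c ≫ (G.s ⁻¹ᵁ w.W).ι = c' ≫ (G.s ⁻¹ᵁ w.W).ι := by
    apply hom_ext_R G
    · rw [Category.assoc, Category.assoc, ← tW_ι G w.W w.inv, ← Category.assoc, ← Category.assoc, h1]
    · rw [Category.assoc, Category.assoc, ← sW_ι, ← Category.assoc, ← Category.assoc, h2]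
  exact (cancel_mono _).1 this

/-- the local structure theorem (S1877) on each chart -/
theorem chart_facts (w : InvOpen G) :
    (IsFinite (pw w) ∧ Flat (pw w) ∧ LocallyOfFinitePresentation (pw w)) ∧
      ∃ φ : (G.s ⁻¹ᵁ w.W).toScheme ≅ pullback (pw w) (pw w),
        φ.hom ≫ pullback.fst (pw w) (pw w) = tw w ∧ φ.hom ≫ pullback.snd (pw w) (pw w) = sw w := by
  haveI : IsFinite G.t := isFinite_t G
  haveI : Flat G.t := flat_t G
  haveI : LocallyOfFinitePresentation G.t := lfp_t G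
  haveI : IsAffine (GW w).U := isAffine_U w
  haveI : IsAffine (GW w).R := isAffine_R w
  haveI : IsFinite (GW w).s := inferInstanceAs (IsFinite (G.s ∣_ w.W))
  haveI : Flat (GW w).s := inferInstanceAs (Flat (G.s ∣_ w.W))
  haveI : LocallyOfFinitePresentation (GW w).s :=
    inferInstanceAs (LocallyOfFinitePresentation (G.s ∣_ w.W))
  haveI : IsFinite (GW w).t := inferInstanceAs (IsFinite ((G.R.isoOfEq w.inv).hom ≫ (G.t ∣_ w.W)))
  haveI : Flat (GW w).t := inferInstanceAs (Flat ((G.R.isoOfEq w.inv).hom ≫ (G.t ∣_ w.W)))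
  haveI : LocallyOfFinitePresentation (GW w).t :=
    inferInstanceAs (LocallyOfFinitePresentation ((G.R.isoOfEq w.inv).hom ≫ (G.t ∣_ w.W)))
  haveI : Mono (GW w).j := mono_jW G w
  exact Groth.Agent.S1877.result S (GW w)

theorem of_charts (P : MorphismProperty Scheme.{u}) [IsZariskiLocalAtTarget P]
    (h : ∀ w : InvOpen G, P (pw w)) : P (p G hcov) := by
  apply IsZariskiLocalAtTarget.of_openCover (P := P) (coverY G)
  intro w
  have hpb := (isPullback_chart G hcov w).flip
  have : pullback.snd (p G hcov) (ιY G w) = hpb.isoPullback.inv ≫ pw w := by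
    rw [Iso.eq_inv_comp, hpb.isoPullback_hom_snd]
  change P (pullback.snd (p G hcov) (ιY G w))
  rw [this]
  exact (P.cancel_left_of_respectsIso _ _).2 (h w)

theorem isFinLocFree_p : Mor2.IsFinLocFree (p G hcov) :=
  ⟨of_charts G hcov @IsFinite (fun w => (chart_facts G w).1.1),
    of_charts G hcov @Flat (fun w => (chart_facts G w).1.2.1),
    of_charts G hcov @LocallyOfFinitePresentation (fun w => (chart_facts G w).1.2.2)⟩

/-- local existence of the lift -/
theorem exists_lift_chart {Z : Scheme.{u}} (a b : Z ⟶ G.U) (hab : a ≫ p G hcov = b ≫ p G hcov)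
    (w : InvOpen G) :
    ∃ c : (a ⁻¹ᵁ w.W).toScheme ⟶ G.R, c ≫ G.t = (a ⁻¹ᵁ w.W).ι ≫ a ∧
      c ≫ G.s = (a ⁻¹ᵁ w.W).ι ≫ b := by
  have hle : a ⁻¹ᵁ w.W ≤ b ⁻¹ᵁ w.W := by
    intro z hz
    have h1 : p G hcov (b z) = p G hcov (a z) := by
      rw [← Scheme.Hom.comp_apply, ← Scheme.Hom.comp_apply, hab]
    have : b z ∈ (p G hcov) ⁻¹' (Set.range (ιY G w)) := by
      rw [Set.mem_preimage, h1, ← Set.mem_preimage, p_preimage_range]
      exact hz
    rwa [p_preimage_range] at this
  let a' : (a ⁻¹ᵁ w.W).toScheme ⟶ w.W.toScheme := a.resLE w.W (a ⁻¹ᵁ w.W) le_rfl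
  let b' : (a ⁻¹ᵁ w.W).toScheme ⟶ w.W.toScheme := b.resLE w.W (a ⁻¹ᵁ w.W) hle
  have ha' : a' ≫ w.W.ι = (a ⁻¹ᵁ w.W).ι ≫ a := Scheme.Hom.resLE_comp_ι _ _
  have hb' : b' ≫ w.W.ι = (a ⁻¹ᵁ w.W).ι ≫ b := Scheme.Hom.resLE_comp_ι _ _
  have hpw : a' ≫ pw w = b' ≫ pw w := by
    rw [← cancel_mono (ιY G w), Category.assoc, Category.assoc, ← ι_p G hcov, ← Category.assoc,
      ← Category.assoc, ha', hb', Category.assoc, Category.assoc, hab]
  obtain ⟨-, φ, hφ1, hφ2⟩ := chart_facts G w
  refine ⟨pullback.lift a' b' hpw ≫ φ.inv ≫ (G.s ⁻¹ᵁ w.W).ι, ?_, ?_⟩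
  · have e1 : φ.inv ≫ tW G w.W w.inv = pullback.fst (pw w) (pw w) := by
      rw [Iso.inv_comp_eq]; exact hφ1.symm
    rw [Category.assoc, Category.assoc, ← tW_ι G w.W w.inv, ← Category.assoc φ.inv, e1,
      pullback.lift_fst_assoc, ha']
  · have e2 : φ.inv ≫ (G.s ∣_ w.W) = pullback.snd (pw w) (pw w) := by
      rw [Iso.inv_comp_eq]; exact hφ2.symm
    rw [Category.assoc, Category.assoc, ← sW_ι, ← Category.assoc φ.inv, e2,
      pullback.lift_snd_assoc, hb']

theorem exists_lift {Z : Scheme.{u}} (a b : Z ⟶ G.U) (hab : a ≫ p G hcov = b ≫ p G hcov) :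
    ∃ c : Z ⟶ G.R, c ≫ G.t = a ∧ c ≫ G.s = b := by
  have hc : TopologicalSpace.IsOpenCover (fun w : InvOpen G => a ⁻¹ᵁ w.W) := by
    apply TopologicalSpace.IsOpenCover.mk
    rw [eq_top_iff]
    intro z _
    rw [TopologicalSpace.Opens.mem_iSup]
    exact hcov (a z)
  let 𝒰 := Z.openCoverOfIsOpenCover _ hc
  choose cw hcw1 hcw2 using exists_lift_chart G hcov a b hab
  have hcompat : ∀ x y : 𝒰.I₀, pullback.fst (𝒰.f x) (𝒰.f y) ≫ cw x =
      pullback.snd (𝒰.f x) (𝒰.f y) ≫ cw y := by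
    intro x y
    apply hom_ext_R G
    · rw [Category.assoc, Category.assoc, hcw1, hcw1, ← Category.assoc, ← Category.assoc]
      congr 1
      exact pullback.condition
    · rw [Category.assoc, Category.assoc, hcw2, hcw2, ← Category.assoc, ← Category.assoc]
      congr 1
      exact pullback.condition
  refine ⟨𝒰.glueMorphisms cw hcompat, ?_, ?_⟩
  · apply 𝒰.hom_ext
    intro w
    rw [← Category.assoc, 𝒰.ι_glueMorphisms]
    exact hcw1 w
  · apply 𝒰.hom_ext
    intro w
    rw [← Category.assoc, 𝒰.ι_glueMorphisms]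
    exact hcw2 w

theorem isPullback_p : IsPullback G.t G.s (p G hcov) (p G hcov) := by
  refine ⟨⟨t_p G hcov⟩, ⟨PullbackCone.IsLimit.mk _
    (fun c => (exists_lift G hcov c.fst c.snd c.condition).choose)
    (fun c => (exists_lift G hcov c.fst c.snd c.condition).choose_spec.1)
    (fun c => (exists_lift G hcov c.fst c.snd c.condition).choose_spec.2)
    (fun c m h1 h2 => ?_)⟩⟩
  apply hom_ext_R G
  · rw [h1, (exists_lift G hcov c.fst c.snd c.condition).choose_spec.1]
  · rw [h2, (exists_lift G hcov c.fst c.snd c.condition).choose_spec.2]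

include hcov in
/-- transfer to an arbitrary coequalizer -/
theorem main_eqv (Y' : Scheme.{u}) (p' : G.U ⟶ Y') (w : G.t ≫ p' = G.s ≫ p')
    (hc : IsColimit (Cofork.ofπ p' w)) :
    IsPullback G.t G.s p' p' ∧ Mor2.IsFinLocFree p' := by
  let e : Y G ≅ Y' := (isColimit_p G hcov).coconePointUniqueUpToIso hc
  have he : p G hcov ≫ e.hom = p' :=
    (isColimit_p G hcov).comp_coconePointUniqueUpToIso_hom hc WalkingParallelPair.one
  constructor
  · have := (isPullback_p G hcov).of_iso (Iso.refl _) (Iso.refl _) (Iso.refl _) e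
      (fst' := G.t) (snd' := G.s) (f' := p') (g' := p') (by simp) (by simp) (by simp [he])
      (by simp [he])
    exact this
  · obtain ⟨h1, h2, h3⟩ := isFinLocFree_p G hcov
    rw [← he]
    exact ⟨inferInstance, inferInstance, inferInstance⟩

end eqv

end Groth.Agent.Lib.Helper9.GQ
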