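import Mathlib
import Groth.Agent.Lib.Helper9.GL8
set_option autoImplicit false
set_option linter.style.haveILetI false
set_option linter.unusedSectionVars false
set_option linter.unusedVariables false
universe v u
open CategoryTheory CategoryTheory.Limits MonoidalCategory CartesianMonoidalCategory MonObj

namespace Groth.Agent.Lib.Helper9.GL

variable {C : Type u} [Category.{v} C] [CartesianMonoidalCategory C]

/-- a subobject of a group object closed under the operations is a group object -/
theorem exists_grpObj_of_mono {G H : C} [GrpObj G] (i : H ⟶ G) [Mono i]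
    (m' : H ⊗ H ⟶ H) (e' : 𝟙_ C ⟶ H) (v' : H ⟶ H)
    (hm : m' ≫ i = (i ⊗ₘ i) ≫ μ[G]) (he : e' ≫ i = η[G]) (hv : v' ≫ i = i ≫ ι[G]) :
    ∃ inst : GrpObj H, IsMonHom i := by
  let P : PreGrp H := ⟨m', e', v'⟩
  have hP : P.IsGrp := by
    refine ⟨?_, ?_, ?_, ?_, ?_⟩
    · rw [← cancel_mono i]
      simp only [PreGrp.lhs1, PreGrp.rhs1, P, Category.assoc, hm]
      rw [← tensorHom_id, ← Category.assoc, tensorHom_comp_tensorHom, he, Category.id_comp]
      rw [show (η[G] ⊗ₘ i) = (𝟙_ C ◁ i) ≫ (η[G] ▷ G) by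
        rw [← tensorHom_id, ← id_tensorHom, tensorHom_comp_tensorHom, Category.id_comp, Category.comp_id]]
      rw [Category.assoc, MonObj.one_mul, leftUnitor_naturality]
    · rw [← cancel_mono i]
      simp only [PreGrp.lhs2, PreGrp.rhs2, P, Category.assoc, hm]
      rw [← id_tensorHom, ← Category.assoc, tensorHom_comp_tensorHom, he, Category.id_comp]
      rw [show (i ⊗ₘ η[G]) = (i ▷ 𝟙_ C) ≫ (G ◁ η[G]) by
        rw [← tensorHom_id, ← id_tensorHom, tensorHom_comp_tensorHom, Category.id_comp, Category.comp_id]]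
      rw [Category.assoc, MonObj.mul_one, rightUnitor_naturality]
    · rw [← cancel_mono i]
      simp only [PreGrp.lhs3, PreGrp.rhs3, P, Category.assoc, hm]
      rw [← tensorHom_id, ← Category.assoc (m' ⊗ₘ 𝟙 H), tensorHom_comp_tensorHom, hm, Category.id_comp]
      rw [← id_tensorHom, ← Category.assoc (𝟙 H ⊗ₘ m'), tensorHom_comp_tensorHom, hm, Category.id_comp]
      rw [show (((i ⊗ₘ i) ≫ μ[G]) ⊗ₘ i) = ((i ⊗ₘ i) ⊗ₘ i) ≫ (μ[G] ▷ G) by
        rw [← tensorHom_id, tensorHom_comp_tensorHom, Category.comp_id]]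
      rw [show (i ⊗ₘ ((i ⊗ₘ i) ≫ μ[G])) = (i ⊗ₘ (i ⊗ₘ i)) ≫ (G ◁ μ[G]) by
        rw [← id_tensorHom, tensorHom_comp_tensorHom, Category.comp_id]]
      rw [Category.assoc, MonObj.mul_assoc, ← Category.assoc, ← Category.assoc,
        associator_naturality]
      simp only [Category.assoc]
    · rw [← cancel_mono i]
      simp only [PreGrp.lhs4, PreGrp.rhs4, P, Category.assoc, hm, he]
      rw [← Category.assoc, lift_map, hv, Category.id_comp]
      have : lift (i ≫ ι[G]) i = i ≫ lift ι[G] (𝟙 G) := by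
        rw [comp_lift, Category.comp_id]
      rw [this, Category.assoc, GrpObj.left_inv, ← Category.assoc]
      congr 1
      exact toUnit_unique _ _
    · rw [← cancel_mono i]
      simp only [PreGrp.lhs5, PreGrp.rhs4, P, Category.assoc, hm, he]
      rw [← Category.assoc, lift_map, hv, Category.id_comp]
      have : lift i (i ≫ ι[G]) = i ≫ lift (𝟙 G) ι[G] := by
        rw [comp_lift, Category.comp_id]
      rw [this, Category.assoc, GrpObj.right_inv, ← Category.assoc]
      congr 1
      exact toUnit_unique _ _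
  letI inst : GrpObj H := P.toGrpObj hP
  exact ⟨inst, ⟨he, hm⟩⟩

end Groth.Agent.Lib.Helper9.GL
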