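import Mathlib
import Groth.Prelude.Def_Red
import Groth.Prelude.Def_AlgGrp
import Groth.Agent.Lib.Helper9.GL13
import Groth.Agent.Lib.Helper9.GL10
import Groth.Agent.Lib.Helper9.GS1
set_option autoImplicit false
set_option linter.style.haveILetI false
set_option linter.unusedSectionVars false
set_option linter.unusedVariables false
universe u
open CategoryTheory CategoryTheory.Limits AlgebraicGeometry Opposite MonObj MonoidalCategory CartesianMonoidalCategory

namespace Groth.Agent.Lib.Helper9.GL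

open Groth.Agent.Lib.Helper22
open scoped Obj
open Functor.LaxMonoidal Functor.Monoidal

variable {I : Type u} [SmallCategory I] [IsCofiltered I] (D : I ⥤ Scheme.{u}) (c : Cone D)
  (hc : IsLimit c) [∀ (i i' : I) (f : i ⟶ i'), IsAffineHom (D.map f)]
  [∀ i, CompactSpace (D.obj i)] [∀ i, QuasiSeparatedSpace (D.obj i)]

section factor
variable {j : I} {A H G : Over (D.obj j)} (u : H ⟶ G) (a : A ⟶ G)

/-- `a` factors through `u` after base change to the stage `f` -/
def FactorsAt {i : I} (f : i ⟶ j) : Prop :=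
  ∃ w : (Over.pullback (D.map f)).obj A ⟶ (Over.pullback (D.map f)).obj H,
    w ≫ (Over.pullback (D.map f)).map u = (Over.pullback (D.map f)).map a

theorem factorsAt_later {i i' : I} (g : i' ⟶ i) (f : i ⟶ j) (h : FactorsAt D u a f) :
    FactorsAt D u a (g ≫ f) := by
  obtain ⟨ψ, hψ⟩ := h
  refine ⟨(tau D g f A).hom ≫ (Over.pullback (D.map g)).map ψ ≫ (tau D g f H).inv, ?_⟩
  simp only [Category.assoc]
  rw [tau_inv_naturality, ← Functor.map_comp_assoc, hψ, ← tau_inv_naturality,
    Iso.hom_inv_id_assoc]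

include hc in
theorem exists_factorsAt [QuasiCompact A.hom] [QuasiSeparated A.hom]
    [LocallyOfFinitePresentation H.hom] [LocallyOfFiniteType G.hom]
    (h : ∃ w : (Over.pullback (c.π.app j)).obj A ⟶ (Over.pullback (c.π.app j)).obj H,
      w ≫ (Over.pullback (c.π.app j)).map u = (Over.pullback (c.π.app j)).map a) :
    ∃ (i : I) (f : i ⟶ j), FactorsAt D u a f := by
  obtain ⟨n', hn'⟩ := h
  obtain ⟨i₁, f₁, ψ₁, hψ₁⟩ := exists_map_eq_cmp D c hc (X := A) (Y := H) n'
  have hPi : (Over.pullback (c.π.app i₁)).map (ψ₁ ≫ (Over.pullback (D.map f₁)).map u) =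
      (Over.pullback (c.π.app i₁)).map ((Over.pullback (D.map f₁)).map a) := by
    rw [Functor.map_comp, hψ₁]
    simp only [Category.assoc]
    rw [cmp_inv_naturality, reassoc_of% hn', ← cmp_inv_naturality, Iso.hom_inv_id_assoc]
  obtain ⟨i₂, g₂, h₂⟩ := exists_map_eq D c hc _ _ hPi
  refine ⟨i₂, g₂ ≫ f₁, (tau D g₂ f₁ A).hom ≫ (Over.pullback (D.map g₂)).map ψ₁ ≫
    (tau D g₂ f₁ H).inv, ?_⟩
  simp only [Category.assoc]
  rw [tau_inv_naturality, ← Functor.map_comp_assoc, h₂, ← tau_inv_naturality,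
    Iso.hom_inv_id_assoc]

end factor

section conj
variable {S S' : Scheme.{u}} (f : S' ⟶ S) {N G : Over S} [GrpObj G]

theorem map_conjU_eq' (u : N ⟶ G) {T : Over S'} (g : T ⟶ (Over.pullback f).obj G)
    (n : T ⟶ (Over.pullback f).obj N) :
    lift g n ≫ Functor.LaxMonoidal.μ (Over.pullback f) G N ≫ (Over.pullback f).map (conjU u) =
      g * (n ≫ (Over.pullback f).map u) * g⁻¹ := by
  simp only [conjU, Functor.map_mul, Functor.map_inv', MonObj.comp_mul, GrpObj.comp_inv,
    Functor.map_comp]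
  rw [μ_fst, ← Category.assoc (Functor.LaxMonoidal.μ (Over.pullback f) G N), μ_snd]
  simp only [lift_fst, lift_snd_assoc]

/-- normality of `Φ u` (for any group structure on the source) from a factorization -/
theorem isNormalHom_map_of_exists' (u : N ⟶ G) [GrpObj ((Over.pullback f).obj N)]
    (h : ∃ ψ : (Over.pullback f).obj (G ⊗ N) ⟶ (Over.pullback f).obj N,
      ψ ≫ (Over.pullback f).map u = (Over.pullback f).map (conjU u)) :
    AlgGrp.IsNormalHom ((Over.pullback f).map u) := by
  obtain ⟨ψ, hψ⟩ := h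
  intro T g n
  refine ⟨lift g n ≫ Functor.LaxMonoidal.μ (Over.pullback f) G N ≫ ψ, ?_⟩
  rw [Category.assoc, Category.assoc, hψ, map_conjU_eq']

theorem exists_of_isNormalHom_map' (u : N ⟶ G) [GrpObj ((Over.pullback f).obj N)]
    (h : AlgGrp.IsNormalHom ((Over.pullback f).map u)) :
    ∃ ψ : (Over.pullback f).obj (G ⊗ N) ⟶ (Over.pullback f).obj N,
      ψ ≫ (Over.pullback f).map u = (Over.pullback f).map (conjU u) := by
  obtain ⟨n', hn'⟩ := h ((Over.pullback f).obj (G ⊗ N)) ((Over.pullback f).map (fst G N))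
    ((Over.pullback f).map (snd G N))
  refine ⟨n', ?_⟩
  rw [← hn']
  simp only [conjU, Functor.map_mul, Functor.map_inv', Functor.map_comp]

end conj

end Groth.Agent.Lib.Helper9.GL
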