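import Mathlib
import Groth.Prelude.Def_Red
import Groth.Prelude.Def_AlgGrp
import Groth.Agent.Lib.Helper9.GS2
set_option autoImplicit false
set_option linter.style.haveILetI false
set_option linter.unusedSectionVars false
set_option linter.unusedVariables false
universe u
open CategoryTheory CategoryTheory.Limits AlgebraicGeometry Opposite MonObj MonoidalCategory CartesianMonoidalCategory

namespace Groth.Agent.Lib.Helper9.GL

open Groth.Agent.Lib.Helper22
open scoped Obj
open Functor.LaxMonoidal Functor.Monoidal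

section monF
universe v₁ v₂ u₁ u₂
variable {C : Type u₁} [Category.{v₁} C] [CartesianMonoidalCategory C]
  {E : Type u₂} [Category.{v₂} E] [CartesianMonoidalCategory E] (F : C ⥤ E) [F.Monoidal]

/-- limit-side factorizations from a subgroup structure on `F H` -/
theorem factor_mul_of_isMonHom {G H : C} [GrpObj G] (i : H ⟶ G) [GrpObj (F.obj H)]
    [IsMonHom (F.map i)] :
    ((μIso F H H).inv ≫ μ[F.obj H]) ≫ F.map i = F.map ((i ⊗ₘ i) ≫ μ[G]) := by
  rw [Category.assoc, IsMonHom.mul_hom, Functor.obj.μ_def, ← Category.assoc (F.map i ⊗ₘ F.map i),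
    μ_natural, Category.assoc, ← F.map_comp]
  simp

theorem factor_one_of_isMonHom {G H : C} [GrpObj G] (i : H ⟶ G) [GrpObj (F.obj H)]
    [IsMonHom (F.map i)] :
    ((εIso F).inv ≫ η[F.obj H]) ≫ F.map i = F.map η[G] := by
  rw [Category.assoc, IsMonHom.one_hom, Functor.obj.η_def]
  simp

theorem factor_inv_of_isMonHom {G H : C} [GrpObj G] (i : H ⟶ G) [GrpObj (F.obj H)]
    [IsMonHom (F.map i)] :
    ι[F.obj H] ≫ F.map i = F.map (i ≫ ι[G]) := by
  rw [GrpObj.inv_hom, Functor.obj.ι_def, F.map_comp]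

/-- stage-side: group structure on `F H` from factorizations -/
theorem exists_grpObj_map_of_factor {G H : C} [GrpObj G] (i : H ⟶ G) [Mono (F.map i)]
    (w₁ : F.obj (H ⊗ H) ⟶ F.obj H) (h₁ : w₁ ≫ F.map i = F.map ((i ⊗ₘ i) ≫ μ[G]))
    (w₂ : F.obj (𝟙_ C) ⟶ F.obj H) (h₂ : w₂ ≫ F.map i = F.map η[G])
    (w₃ : F.obj H ⟶ F.obj H) (h₃ : w₃ ≫ F.map i = F.map (i ≫ ι[G])) :
    ∃ inst : GrpObj (F.obj H), IsMonHom (F.map i) := by
  refine exists_grpObj_of_mono (F.map i) (Functor.LaxMonoidal.μ F H H ≫ w₁) (Functor.LaxMonoidal.ε F ≫ w₂) w₃ ?_ ?_ ?_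
  · rw [Category.assoc, h₁, Functor.obj.μ_def, ← Category.assoc (F.map i ⊗ₘ F.map i), μ_natural,
      Category.assoc, ← F.map_comp]
  · rw [Category.assoc, h₂, Functor.obj.η_def]
  · rw [h₃, Functor.obj.ι_def, F.map_comp]

end monF

end Groth.Agent.Lib.Helper9.GL
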