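import Mathlib
import Groth.Prelude.Def_Red
import Groth.Prelude.Def_AlgGrp
import Groth.Agent.Lib.Helper9.GS3
set_option autoImplicit false
set_option linter.style.haveILetI false
set_option linter.unusedSectionVars false
set_option linter.unusedVariables false
universe u
open CategoryTheory CategoryTheory.Limits AlgebraicGeometry Opposite MonObj MonoidalCategory CartesianMonoidalCategory

namespace Groth.Agent.Lib.Helper9.GL

open Groth.Agent.Lib.Helper22

variable {I : Type u} [SmallCategory I] [IsCofiltered I] (D : I ⥤ Scheme.{u}) (c : Cone D)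
  (hc : IsLimit c) [∀ (i i' : I) (f : i ⟶ i'), IsAffineHom (D.map f)]
  [∀ i, CompactSpace (D.obj i)] [∀ i, QuasiSeparatedSpace (D.obj i)]

section
variable {j : I} {G H : Over (D.obj j)} [GrpObj G] (u : H ⟶ G)

/-- the three factorizations making `Φ_f H` a subgroup of `Φ_f G` -/
def SubgrpAt {i : I} (f : i ⟶ j) : Prop :=
  FactorsAt D u ((u ⊗ₘ u) ≫ μ[G]) f ∧ FactorsAt D u η[G] f ∧ FactorsAt D u (u ≫ ι[G]) f

theorem subgrpAt_later {i i' : I} (g : i' ⟶ i) (f : i ⟶ j) (h : SubgrpAt D u f) :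
    SubgrpAt D u (g ≫ f) :=
  ⟨factorsAt_later D u _ g f h.1, factorsAt_later D u _ g f h.2.1, factorsAt_later D u _ g f h.2.2⟩

theorem grp_of_subgrpAt [Mono u] {i : I} (f : i ⟶ j) (h : SubgrpAt D u f) :
    ∃ inst : GrpObj ((Over.pullback (D.map f)).obj H), IsMonHom ((Over.pullback (D.map f)).map u) := by
  obtain ⟨⟨w₁, h₁⟩, ⟨w₂, h₂⟩, ⟨w₃, h₃⟩⟩ := h
  haveI : Mono ((Over.pullback (D.map f)).map u) := inferInstance
  exact exists_grpObj_map_of_factor (Over.pullback (D.map f)) u w₁ h₁ w₂ h₂ w₃ h₃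

include hc in
theorem exists_subgrpAt
    [QuasiCompact G.hom] [QuasiSeparated G.hom] [LocallyOfFiniteType G.hom]
    [QuasiCompact H.hom] [QuasiSeparated H.hom] [LocallyOfFinitePresentation H.hom]
    (hH : ∃ _ : GrpObj ((Over.pullback (c.π.app j)).obj H),
      IsMonHom ((Over.pullback (c.π.app j)).map u)) :
    ∃ (i : I) (f : i ⟶ j), SubgrpAt D u f := by
  obtain ⟨inst, hmon⟩ := hH
  obtain ⟨i₁, f₁, h₁⟩ := exists_factorsAt D c hc u ((u ⊗ₘ u) ≫ μ[G])
    ⟨_, factor_mul_of_isMonHom (Over.pullback (c.π.app j)) u⟩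
  obtain ⟨i₂, f₂, h₂⟩ := exists_factorsAt D c hc u η[G]
    ⟨_, factor_one_of_isMonHom (Over.pullback (c.π.app j)) u⟩
  obtain ⟨i₃, f₃, h₃⟩ := exists_factorsAt D c hc u (u ≫ ι[G])
    ⟨_, factor_inv_of_isMonHom (Over.pullback (c.π.app j)) u⟩
  obtain ⟨W₁, l₁, l₂, hl⟩ := IsCofiltered.cospan f₁ f₂
  obtain ⟨W, m, l₃, hm⟩ := IsCofiltered.cospan (l₁ ≫ f₁) f₃
  refine ⟨W, m ≫ l₁ ≫ f₁, ?_, ?_, ?_⟩
  · exact factorsAt_later D u _ m (l₁ ≫ f₁) (factorsAt_later D u _ l₁ f₁ h₁)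
  · have := factorsAt_later D u _ l₂ f₂ h₂
    rw [← hl] at this
    exact factorsAt_later D u _ m (l₁ ≫ f₁) this
  · rw [hm]
    exact factorsAt_later D u _ l₃ f₃ h₃

include hc in
theorem exists_subgroup_stage [Mono u]
    [QuasiCompact G.hom] [QuasiSeparated G.hom] [LocallyOfFiniteType G.hom]
    [QuasiCompact H.hom] [QuasiSeparated H.hom] [LocallyOfFinitePresentation H.hom]
    (hH : ∃ _ : GrpObj ((Over.pullback (c.π.app j)).obj H),
      IsMonHom ((Over.pullback (c.π.app j)).map u)) :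
    ∃ (i : I) (f : i ⟶ j) (_ : GrpObj ((Over.pullback (D.map f)).obj H)),
      IsMonHom ((Over.pullback (D.map f)).map u) := by
  obtain ⟨i, f, h⟩ := exists_subgrpAt D c hc u hH
  obtain ⟨inst, hi⟩ := grp_of_subgrpAt D u f h
  exact ⟨i, f, inst, hi⟩

include hc in
theorem exists_normal_subgroup_stage [Mono u]
    [QuasiCompact G.hom] [QuasiSeparated G.hom] [LocallyOfFiniteType G.hom]
    [QuasiCompact H.hom] [QuasiSeparated H.hom] [LocallyOfFinitePresentation H.hom]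
    (hH : ∃ (_ : GrpObj ((Over.pullback (c.π.app j)).obj H))
      (_ : IsMonHom ((Over.pullback (c.π.app j)).map u)),
      AlgGrp.IsNormalHom ((Over.pullback (c.π.app j)).map u)) :
    ∃ (i : I) (f : i ⟶ j) (_ : GrpObj ((Over.pullback (D.map f)).obj H))
      (_ : IsMonHom ((Over.pullback (D.map f)).map u)),
      AlgGrp.IsNormalHom ((Over.pullback (D.map f)).map u) := by
  obtain ⟨inst, hmon, hnorm⟩ := hH
  obtain ⟨i₁, f₁, h₁⟩ := exists_subgrpAt D c hc u ⟨inst, hmon⟩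
  obtain ⟨i₂, f₂, h₂⟩ := exists_factorsAt D c hc u (conjU u)
    (exists_of_isNormalHom_map' (c.π.app j) u hnorm)
  obtain ⟨W, l₁, l₂, hl⟩ := IsCofiltered.cospan f₁ f₂
  have h₁' := subgrpAt_later D u l₁ f₁ h₁
  have h₂' := factorsAt_later D u _ l₂ f₂ h₂
  rw [← hl] at h₂'
  obtain ⟨inst', hi'⟩ := grp_of_subgrpAt D u (l₁ ≫ f₁) h₁'
  exact ⟨W, l₁ ≫ f₁, inst', hi', isNormalHom_map_of_exists' (D.map (l₁ ≫ f₁)) u h₂'⟩

end

end Groth.Agent.Lib.Helper9.GL
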