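import Mathlib
import Groth.Prelude.Def_Red
import Groth.Prelude.Def_AlgGrp
import Groth.Agent.Lib.Helper9.GS4
set_option autoImplicit false
set_option linter.style.haveILetI false
set_option linter.unusedSectionVars false
set_option linter.unusedVariables false
universe u
open CategoryTheory CategoryTheory.Limits AlgebraicGeometry Opposite MonObj MonoidalCategory CartesianMonoidalCategory

namespace Groth.Agent.Lib.Helper9.GL

variable {I : Type u} [SmallCategory I] [IsCofiltered I] (D : I ⥤ Scheme.{u}) (c : Cone D)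
  (hc : IsLimit c) [∀ (i i' : I) (f : i ⟶ i'), IsAffineHom (D.map f)]

include hc in
theorem subgroup_stage_of_qcqs_stage (i₀ : I)
    [CompactSpace (D.obj i₀)] [QuasiSeparatedSpace (D.obj i₀)]
    (G₀ : Over (D.obj i₀)) [GrpObj G₀] [IsSeparated G₀.hom] [QuasiCompact G₀.hom]
    [LocallyOfFinitePresentation G₀.hom]
    (H₀ : Over (D.obj i₀)) (ι₀ : H₀ ⟶ G₀) [IsClosedImmersion ι₀.left]
    [LocallyOfFinitePresentation ι₀.left]
    (hH : ∃ _ : GrpObj (Red.bc (c.π.app i₀) H₀), IsMonHom ((Over.pullback (c.π.app i₀)).map ι₀)) :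
    (∃ (i : I) (a : i ⟶ i₀) (_ : GrpObj (Red.bc (D.map a) H₀)),
        IsMonHom ((Over.pullback (D.map a)).map ι₀)) ∧
    ((∃ (_ : GrpObj (Red.bc (c.π.app i₀) H₀)) (_ : IsMonHom ((Over.pullback (c.π.app i₀)).map ι₀)),
        AlgGrp.IsNormalHom ((Over.pullback (c.π.app i₀)).map ι₀)) →
      ∃ (i : I) (a : i ⟶ i₀) (_ : GrpObj (Red.bc (D.map a) H₀))
        (_ : IsMonHom ((Over.pullback (D.map a)).map ι₀)),
        AlgGrp.IsNormalHom ((Over.pullback (D.map a)).map ι₀)) := by
  let D' : Over i₀ ⥤ Scheme.{u} := Over.forget i₀ ⋙ D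
  let c' : Cone D' := c.whisker (Over.forget i₀)
  have hc' : IsLimit c' := (Functor.Initial.isLimitWhiskerEquiv (Over.forget i₀) c).symm hc
  haveI : ∀ (k k' : Over i₀) (f : k ⟶ k'), IsAffineHom (D'.map f) := fun k k' f => by
    change IsAffineHom (D.map f.left); infer_instance
  haveI : ∀ k : Over i₀, CompactSpace (D'.obj k) := fun k => by
    change CompactSpace (D.obj k.left)
    exact QuasiCompact.compactSpace_of_compactSpace (D.map k.hom)
  haveI : ∀ k : Over i₀, QuasiSeparatedSpace (D'.obj k) := fun k => by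
    change QuasiSeparatedSpace (D.obj k.left)
    exact quasiSeparatedSpace_of_quasiSeparated (D.map k.hom)
  let k₀ : Over i₀ := Over.mk (𝟙 i₀)
  haveI : Mono ι₀.left := inferInstance
  haveI : Mono ι₀ := Over.mono_of_mono_left ι₀
  have hw : ι₀.left ≫ G₀.hom = H₀.hom := Over.w ι₀
  haveI : QuasiCompact H₀.hom := by rw [← hw]; infer_instance
  haveI : QuasiSeparated H₀.hom := by rw [← hw]; infer_instance
  haveI : LocallyOfFinitePresentation H₀.hom := by rw [← hw]; infer_instance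
  have e1 : c'.π.app k₀ = c.π.app i₀ := rfl
  letI instG : @GrpObj (Over (D'.obj k₀)) _ _ G₀ := ‹GrpObj G₀›
  have hH' : ∃ _ : GrpObj ((Over.pullback (c'.π.app k₀)).obj H₀),
      IsMonHom ((Over.pullback (c'.π.app k₀)).map ι₀) := by
    obtain ⟨inst, h⟩ := hH
    exact ⟨inst, h⟩
  have hqs : QuasiSeparated G₀.hom := inferInstance
  have hlft : LocallyOfFiniteType G₀.hom := inferInstance
  have key₁ : ∀ (G H : Over (D'.obj k₀)) [GrpObj G] (u : H ⟶ G) [Mono u]
      [QuasiCompact G.hom] [QuasiSeparated G.hom] [LocallyOfFiniteType G.hom]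
      [QuasiCompact H.hom] [QuasiSeparated H.hom] [LocallyOfFinitePresentation H.hom],
      (∃ _ : GrpObj ((Over.pullback (c'.π.app k₀)).obj H),
        IsMonHom ((Over.pullback (c'.π.app k₀)).map u)) →
      ∃ (k : Over i₀) (f : k ⟶ k₀) (_ : GrpObj ((Over.pullback (D'.map f)).obj H)),
        IsMonHom ((Over.pullback (D'.map f)).map u) :=
    fun G H _ u _ _ _ _ _ _ _ h => exists_subgroup_stage D' c' hc' u h
  have r1 := @key₁ G₀ H₀ instG ι₀ ‹Mono ι₀› ‹QuasiCompact G₀.hom› hqs hlft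
      ‹QuasiCompact H₀.hom› ‹QuasiSeparated H₀.hom› ‹LocallyOfFinitePresentation H₀.hom› hH'
  constructor
  · obtain ⟨k, f, inst, h⟩ := r1
    exact ⟨k.left, f.left, inst, h⟩
  · intro hN
    have hN' : ∃ (_ : GrpObj ((Over.pullback (c'.π.app k₀)).obj H₀))
        (_ : IsMonHom ((Over.pullback (c'.π.app k₀)).map ι₀)),
        AlgGrp.IsNormalHom ((Over.pullback (c'.π.app k₀)).map ι₀) := by
      obtain ⟨inst, h, hn⟩ := hN
      exact ⟨inst, h, hn⟩
    have key₂ : ∀ (G H : Over (D'.obj k₀)) [GrpObj G] (u : H ⟶ G) [Mono u]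
        [QuasiCompact G.hom] [QuasiSeparated G.hom] [LocallyOfFiniteType G.hom]
        [QuasiCompact H.hom] [QuasiSeparated H.hom] [LocallyOfFinitePresentation H.hom],
        (∃ (_ : GrpObj ((Over.pullback (c'.π.app k₀)).obj H))
          (_ : IsMonHom ((Over.pullback (c'.π.app k₀)).map u)),
          AlgGrp.IsNormalHom ((Over.pullback (c'.π.app k₀)).map u)) →
        ∃ (k : Over i₀) (f : k ⟶ k₀) (_ : GrpObj ((Over.pullback (D'.map f)).obj H))
          (_ : IsMonHom ((Over.pullback (D'.map f)).map u)),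
          AlgGrp.IsNormalHom ((Over.pullback (D'.map f)).map u) :=
      fun G H _ u _ _ _ _ _ _ _ h => exists_normal_subgroup_stage D' c' hc' u h
    have r2 := @key₂ G₀ H₀ instG ι₀ ‹Mono ι₀› ‹QuasiCompact G₀.hom› hqs hlft
      ‹QuasiCompact H₀.hom› ‹QuasiSeparated H₀.hom› ‹LocallyOfFinitePresentation H₀.hom› hN'
    obtain ⟨k, f, inst, h, hn⟩ := r2
    exact ⟨k.left, f.left, inst, h, hn⟩

end Groth.Agent.Lib.Helper9.GL
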