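import Mathlib
import Groth.Prelude.Def_Red
import Groth.Prelude.Def_AlgGrp
import Groth.Agent.Lib.Helper9.GS5
import Groth.Agent.Lib.Helper13.LimDescendClosedImm
import Groth.Agent.Lib.Helper9.GL19
set_option autoImplicit false
set_option linter.style.haveILetI false
set_option linter.unusedSectionVars false
set_option linter.unusedVariables false
universe u
open CategoryTheory CategoryTheory.Limits AlgebraicGeometry Opposite MonObj MonoidalCategory CartesianMonoidalCategory

namespace Groth.Agent.Lib.Helper9.GL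

open Groth.Agent.Lib.Helper22

section cart
universe v₁ u₁
variable {C : Type u₁} [Category.{v₁} C] [CartesianMonoidalCategory C]

/-- transport of a subgroup structure along an isomorphism of the source -/
theorem exists_grpObj_of_iso {G K H : C} [GrpObj G] [GrpObj K] (w : K ⟶ G) [IsMonHom w] [Mono w]
    (β : K ≅ H) : ∃ inst : GrpObj H, IsMonHom (β.inv ≫ w) := by
  refine exists_grpObj_of_mono (β.inv ≫ w) ((β.inv ⊗ₘ β.inv) ≫ μ[K] ≫ β.hom) (η[K] ≫ β.hom)
    (β.inv ≫ ι[K] ≫ β.hom) ?_ ?_ ?_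
  · simp only [Category.assoc, Iso.hom_inv_id_assoc]
    rw [IsMonHom.mul_hom, ← Category.assoc, tensorHom_comp_tensorHom]
  · simp only [Category.assoc, Iso.hom_inv_id_assoc]
    rw [IsMonHom.one_hom]
  · simp only [Category.assoc, Iso.hom_inv_id_assoc]
    rw [GrpObj.inv_hom]

end cart

variable {I : Type u} [SmallCategory I] [IsCofiltered I] (D : I ⥤ Scheme.{u}) (c : Cone D)
  (hc : IsLimit c) [∀ (i i' : I) (f : i ⟶ i'), IsAffineHom (D.map f)]
  [∀ i, CompactSpace (D.obj i)] [∀ i, QuasiSeparatedSpace (D.obj i)]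

include hc in
theorem exists_closedImmersion_map {i : I} {X Y : Over (D.obj i)}
    [QuasiCompact X.hom] [QuasiSeparated X.hom] [LocallyOfFinitePresentation X.hom]
    [QuasiCompact Y.hom] [QuasiSeparated Y.hom] [LocallyOfFiniteType Y.hom] (v : X ⟶ Y)
    (h : IsClosedImmersion ((Over.pullback (c.π.app i)).map v).left) :
    ∃ (i' : I) (f : i' ⟶ i), IsClosedImmersion ((Over.pullback (D.map f)).map v).left := by
  haveI : ∀ (k k' : Over i) (φ : k ⟶ k'), IsAffineHom ((bcDiag D i Y.hom).map φ) :=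
    fun _ _ φ => inferInstance
  refine exists_prop_map D c hc @IsClosedImmersion v ?_ h
  intro k₀ a _ _ _ _ _ _ _ hl
  exact Groth.Agent.Lib.Helper13.LimDescend.core_isClosedImmersion (bcDiag D i Y.hom)
    (bcCone D c i Y.hom) (bcIsLimit D hc i Y.hom) k₀ a hl

include hc in
theorem exists_closed_subgroup_model {j : I} (G : Over (D.obj j)) [GrpObj G]
    [QuasiCompact G.hom] [QuasiSeparated G.hom] [LocallyOfFinitePresentation G.hom]
    (Hη : Over c.pt) [GrpObj Hη]
    [QuasiCompact Hη.hom] [QuasiSeparated Hη.hom] [LocallyOfFinitePresentation Hη.hom]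
    (iη : Hη ⟶ (Over.pullback (c.π.app j)).obj G) [IsMonHom iη] [IsClosedImmersion iη.left] :
    ∃ (i : I) (f : i ⟶ j) (H : Over (D.obj i)) (_ : GrpObj H)
      (em : H ⟶ (Over.pullback (D.map f)).obj G) (φ : Hη.left ⟶ H.left),
      IsMonHom em ∧ IsClosedImmersion em.left ∧ IsPullback φ Hη.hom H.hom (c.π.app i) ∧
      φ ≫ em.left ≫ pullback.fst G.hom (D.map f) = iη.left ≫ pullback.fst G.hom (c.π.app j) := by
  haveI : Mono iη := by
    haveI : Mono ((Over.forget _).map iη) := inferInstanceAs (Mono iη.left)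
    exact (Over.forget _).mono_of_mono_map inferInstance
  obtain ⟨i₁, ⟨M⟩⟩ := Groth.Agent.Lib.Helper13.LimModel.hasModel_of_finitePresentation hc Hη.hom
  haveI : LocallyOfFinitePresentation (Over.mk M.h₀).hom := M.lfp
  haveI : QuasiCompact (Over.mk M.h₀).hom := M.qc
  haveI : QuasiSeparated (Over.mk M.h₀).hom := M.qs
  let Y₁ : Over (D.obj i₁) := Over.mk M.h₀
  let e₀ : Hη ≅ (Over.pullback (c.π.app i₁)).obj Y₁ :=
    Over.isoMk M.pb.isoPullback (M.pb.isoPullback_hom_snd)
  let i₂ := IsCofiltered.min j i₁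
  let g₂ : i₂ ⟶ j := IsCofiltered.minToLeft j i₁
  let g₁ : i₂ ⟶ i₁ := IsCofiltered.minToRight j i₁
  let A : Over (D.obj i₂) := (Over.pullback (D.map g₁)).obj Y₁
  let B : Over (D.obj i₂) := (Over.pullback (D.map g₂)).obj G
  let u : (Over.pullback (c.π.app i₂)).obj A ⟶ (Over.pullback (c.π.app i₂)).obj B :=
    (cmp D c g₁ Y₁).hom ≫ e₀.inv ≫ iη ≫ (cmp D c g₂ G).inv
  obtain ⟨i₃, h, p₃, hp₃⟩ := exists_map_eq_cmp D c hc u
  let αA : (Over.pullback (c.π.app i₃)).obj ((Over.pullback (D.map h)).obj A) ≅ Hη :=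
    cmp D c h A ≪≫ cmp D c g₁ Y₁ ≪≫ e₀.symm
  let αB : (Over.pullback (c.π.app j)).obj G ≅
      (Over.pullback (c.π.app i₃)).obj ((Over.pullback (D.map h)).obj B) :=
    (cmp D c g₂ G).symm ≪≫ (cmp D c h B).symm
  have hp₃' : (Over.pullback (c.π.app i₃)).map p₃ = αA.hom ≫ iη ≫ αB.hom := by
    rw [hp₃]
    simp only [u, αA, αB, Iso.trans_hom, Iso.symm_hom, Category.assoc]
  have hcl₃ : IsClosedImmersion ((Over.pullback (c.π.app i₃)).map p₃).left := by
    rw [hp₃']
    exact (prop_left_conj_iff @IsClosedImmersion αA αB iη).mpr inferInstance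
  obtain ⟨i₄, k, hk⟩ := exists_closedImmersion_map D c hc p₃ hcl₃
  let F : i₄ ⟶ j := (k ≫ h) ≫ g₂
  let H₄ : Over (D.obj i₄) := (Over.pullback (D.map k)).obj ((Over.pullback (D.map h)).obj A)
  let em₄ : H₄ ⟶ (Over.pullback (D.map k)).obj ((Over.pullback (D.map h)).obj B) :=
    (Over.pullback (D.map k)).map p₃
  let em₄' : H₄ ⟶ (Over.pullback (D.map F)).obj G :=
    em₄ ≫ (tau D k h B).inv ≫ (tau D (k ≫ h) g₂ G).inv
  let β : Hη ≅ (Over.pullback (c.π.app i₄)).obj H₄ :=
    αA.symm ≪≫ (cmp D c k ((Over.pullback (D.map h)).obj A)).symm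
  -- the key equation
  have KE : (Over.pullback (c.π.app i₄)).map em₄' = β.inv ≫ iη ≫ (cmp D c F G).inv := by
    have n1 : (Over.pullback (c.π.app i₄)).map em₄ =
        (cmp D c k ((Over.pullback (D.map h)).obj A)).hom ≫ (Over.pullback (c.π.app i₃)).map p₃ ≫
          (cmp D c k ((Over.pullback (D.map h)).obj B)).inv := by
      rw [← Category.assoc, Iso.eq_comp_inv]
      exact cmp_naturality D c k p₃
    have c1 : (cmp D c h B).inv ≫ (cmp D c k ((Over.pullback (D.map h)).obj B)).inv ≫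
        (Over.pullback (c.π.app i₄)).map (tau D k h B).inv = (cmp D c (k ≫ h) B).inv := by
      rw [Iso.inv_comp_eq, Iso.inv_comp_eq, ← Category.assoc, Iso.eq_comp_inv,
        ← cmp_coherence D c k h B, ← Functor.map_comp_assoc, Iso.inv_hom_id, CategoryTheory.Functor.map_id,
        Category.id_comp]
    have c2 : (cmp D c g₂ G).inv ≫ (cmp D c (k ≫ h) B).inv ≫
        (Over.pullback (c.π.app i₄)).map (tau D (k ≫ h) g₂ G).inv = (cmp D c F G).inv := by
      rw [Iso.inv_comp_eq, Iso.inv_comp_eq, ← Category.assoc, Iso.eq_comp_inv,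
        ← cmp_coherence D c (k ≫ h) g₂ G, ← Functor.map_comp_assoc, Iso.inv_hom_id, CategoryTheory.Functor.map_id,
        Category.id_comp]
    simp only [em₄', Functor.map_comp]
    rw [n1, hp₃', ← c2, ← c1]
    simp only [β, αA, αB, Iso.trans_hom, Iso.trans_inv, Iso.symm_hom, Iso.symm_inv, Category.assoc]
  haveI hcl₄ : IsClosedImmersion em₄.left := hk
  haveI hcl₄' : IsClosedImmersion em₄'.left := by
    haveI : IsIso ((tau D k h B).inv ≫ (tau D (k ≫ h) g₂ G).inv).left :=
      inferInstanceAs (IsIso ((Over.forget _).map ((tau D k h B).inv ≫ (tau D (k ≫ h) g₂ G).inv)))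
    change IsClosedImmersion (em₄.left ≫ ((tau D k h B).inv ≫ (tau D (k ≫ h) g₂ G).inv).left)
    infer_instance
  haveI : Mono em₄' := by
    haveI : Mono ((Over.forget _).map em₄') := inferInstanceAs (Mono em₄'.left)
    exact (Over.forget _).mono_of_mono_map inferInstance
  have hH : ∃ _ : GrpObj ((Over.pullback (c.π.app i₄)).obj H₄),
      IsMonHom ((Over.pullback (c.π.app i₄)).map em₄') := by
    let w : Hη ⟶ (Over.pullback (c.π.app i₄)).obj ((Over.pullback (D.map F)).obj G) :=
      iη ≫ (cmp D c F G).inv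
    haveI hw1 : IsMonHom (cmp D c F G).inv := isMonHom_cmp_inv D c F G
    haveI hw2 : IsMonHom w := inferInstanceAs (IsMonHom (iη ≫ (cmp D c F G).inv))
    haveI hw3 : Mono w := mono_comp iη (cmp D c F G).inv
    obtain ⟨inst, hi⟩ := exists_grpObj_of_iso w β
    refine ⟨inst, ?_⟩
    rw [KE]
    exact hi
  obtain ⟨i₅, f₅, inst₅, hmon₅⟩ := exists_subgroup_stage D c hc em₄' hH
  let H : Over (D.obj i₅) := (Over.pullback (D.map f₅)).obj H₄
  let em : H ⟶ (Over.pullback (D.map (f₅ ≫ F))).obj G :=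
    (Over.pullback (D.map f₅)).map em₄' ≫ (tau D f₅ F G).inv
  let θ : Hη ≅ (Over.pullback (c.π.app i₅)).obj H := β ≪≫ (cmp D c f₅ H₄).symm
  let φ : Hη.left ⟶ H.left := θ.hom.left ≫ pullback.fst H.hom (c.π.app i₅)
  refine ⟨i₅, f₅ ≫ F, H, inst₅, em, φ, ?_, ?_, ?_, ?_⟩
  · letI := inst₅
    haveI := hmon₅
    haveI : IsMonHom (tau D f₅ F G).inv := isMonHom_tau_inv D f₅ F G
    exact inferInstanceAs (IsMonHom ((Over.pullback (D.map f₅)).map em₄' ≫ (tau D f₅ F G).inv))
  · haveI : IsIso (tau D f₅ F G).inv.left :=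
      inferInstanceAs (IsIso ((Over.forget _).map (tau D f₅ F G).inv))
    haveI : IsClosedImmersion ((Over.pullback (D.map f₅)).map em₄').left :=
      prop_map @IsClosedImmersion (D.map f₅) em₄' hcl₄'
    change IsClosedImmersion (((Over.pullback (D.map f₅)).map em₄').left ≫ (tau D f₅ F G).inv.left)
    infer_instance
  · haveI : IsIso θ.hom.left := inferInstanceAs (IsIso ((Over.forget _).map θ.hom))
    refine IsPullback.of_iso (IsPullback.of_hasPullback H.hom (c.π.app i₅))
      (asIso θ.hom.left).symm (Iso.refl _) (Iso.refl _) (Iso.refl _) ?_ ?_ ?_ ?_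
    · simp [φ]
    · simp only [Iso.symm_hom, asIso_inv, Iso.refl_hom, Category.comp_id]
      rw [IsIso.eq_inv_comp]
      exact Over.w θ.hom
    · simp
    · simp
  · have s1 : em.left ≫ pullback.fst G.hom (D.map (f₅ ≫ F)) =
        pullback.fst H₄.hom (D.map f₅) ≫ em₄'.left ≫ pullback.fst G.hom (D.map F) := by
      simp only [em, Over.comp_left, Category.assoc]
      rw [tau_inv_left_fst, ← Category.assoc, map_left_fst, Category.assoc]
    have s2 : φ ≫ pullback.fst H₄.hom (D.map f₅) =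
        β.hom.left ≫ pullback.fst H₄.hom (c.π.app i₄) := by
      simp only [φ, θ, Iso.trans_hom, Iso.symm_hom, Over.comp_left, Category.assoc]
      rw [cmp_inv_left_fst_fst]
    have s3 : pullback.fst H₄.hom (c.π.app i₄) ≫ em₄'.left =
        ((Over.pullback (c.π.app i₄)).map em₄').left ≫
          pullback.fst ((Over.pullback (D.map F)).obj G).hom (c.π.app i₄) :=
      (map_left_fst (c.π.app i₄) em₄').symm
    have s5 : β.hom.left ≫ β.inv.left = 𝟙 _ := by
      rw [← Over.comp_left, Iso.hom_inv_id]; rfl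
    rw [s1, ← Category.assoc, s2, Category.assoc, ← Category.assoc (pullback.fst H₄.hom _), s3, KE]
    simp only [Over.comp_left, Category.assoc]
    rw [cmp_inv_left_fst_fst, ← Category.assoc, s5, Category.id_comp]

end Groth.Agent.Lib.Helper9.GL
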