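import Mathlib
import Groth.Prelude.Def_Red
import Groth.Prelude.Def_AlgGrp
import Groth.Agent.Lib.Helper9.GS6
set_option autoImplicit false
set_option linter.style.haveILetI false
set_option linter.unusedSectionVars false
set_option linter.unusedVariables false
universe u
open CategoryTheory CategoryTheory.Limits AlgebraicGeometry Opposite MonObj MonoidalCategory CartesianMonoidalCategory

namespace Groth.Agent.Lib.Helper9.GL

open Groth.Agent.Lib.Helper22

section sch
variable {S₀ S₁ S₂ : Scheme.{u}}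

/-- iterated base change along a commutative triangle -/
noncomputable def bcc (f : S₂ ⟶ S₁) (g : S₁ ⟶ S₀) (h : S₂ ⟶ S₀) (w : f ≫ g = h) (X : Over S₀) :
    (Over.pullback f).obj ((Over.pullback g).obj X) ≅ (Over.pullback h).obj X :=
  ((Over.pullbackComp f g).app X).symm ≪≫ eqToIso (congrArg (fun k => Red.bc k X) w)

theorem bcc_hom_left_fst (f : S₂ ⟶ S₁) (g : S₁ ⟶ S₀) (h : S₂ ⟶ S₀) (w : f ≫ g = h) (X : Over S₀) :
    (bcc f g h w X).hom.left ≫ pullback.fst X.hom h = pullback.fst _ _ ≫ pullback.fst _ _ := by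
  simp only [bcc, Iso.trans_hom, Iso.symm_hom, Iso.app_inv, eqToIso.hom, Over.comp_left,
    Category.assoc]
  rw [eqToHom_bc_left_fst w X, pullbackComp_inv_left_fst]

theorem bcc_inv_left_fst_fst (f : S₂ ⟶ S₁) (g : S₁ ⟶ S₀) (h : S₂ ⟶ S₀) (w : f ≫ g = h)
    (X : Over S₀) :
    (bcc f g h w X).inv.left ≫ pullback.fst _ _ ≫ pullback.fst _ _ = pullback.fst X.hom h := by
  rw [← bcc_hom_left_fst f g h w X, ← Over.comp_left_assoc]
  simp

instance isMonHom_bcc_hom (f : S₂ ⟶ S₁) (g : S₁ ⟶ S₀) (h : S₂ ⟶ S₀) (w : f ≫ g = h)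
    (X : Over S₀) [GrpObj X] : IsMonHom (bcc f g h w X).hom := by
  haveI := isMonHom_pullbackComp_inv f g X
  haveI := isMonHom_eqToHom w X
  simp only [bcc, Iso.trans_hom, Iso.symm_hom, Iso.app_inv, eqToIso.hom]
  exact instIsMonHomComp (M := Red.bc f (Red.bc g X))
    (N := Red.bc (f ≫ g) X) (O := Red.bc h X) _ _

instance isMonHom_bcc_inv (f : S₂ ⟶ S₁) (g : S₁ ⟶ S₀) (h : S₂ ⟶ S₀) (w : f ≫ g = h)
    (X : Over S₀) [GrpObj X] : IsMonHom (bcc f g h w X).inv := inferInstance

end sch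

variable {I : Type u} [SmallCategory I] [IsCofiltered I] (D : I ⥤ Scheme.{u}) (c : Cone D)
  (hc : IsLimit c) [∀ (i i' : I) (f : i ⟶ i'), IsAffineHom (D.map f)]
  [∀ i, CompactSpace (D.obj i)] [∀ i, QuasiSeparatedSpace (D.obj i)]

include hc in
/-- a closed subgroup of the base change to the limit of a system of opens of `X` comes from a
closed subgroup over one of the opens -/
theorem exists_closed_subgroup_open {X : Scheme.{u}} (G : Over X) [GrpObj G]
    [QuasiCompact G.hom] [QuasiSeparated G.hom] [LocallyOfFinitePresentation G.hom]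
    (t : ∀ i, D.obj i ⟶ X) [∀ i, IsOpenImmersion (t i)]
    (ht : ∀ {i i' : I} (a : i ⟶ i'), D.map a ≫ t i' = t i)
    (η' : c.pt ⟶ X) (hη : ∀ i, c.π.app i ≫ t i = η')
    (Hη : Over c.pt) [GrpObj Hη]
    [QuasiCompact Hη.hom] [QuasiSeparated Hη.hom] [LocallyOfFinitePresentation Hη.hom]
    (iη : Hη ⟶ (Over.pullback η').obj G) [IsMonHom iη] [IsClosedImmersion iη.left] :
    ∃ (U : X.Opens) (ηU : c.pt ⟶ (U : Scheme.{u})) (HU : Over (U : Scheme.{u}))
      (_ : GrpObj HU) (j : HU ⟶ (Over.pullback U.ι).obj G) (φ : Hη.left ⟶ HU.left),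
      ηU ≫ U.ι = η' ∧ IsMonHom j ∧ IsClosedImmersion j.left ∧
      IsPullback φ Hη.hom HU.hom ηU ∧
      φ ≫ j.left ≫ pullback.fst G.hom U.ι = iη.left ≫ pullback.fst G.hom η' := by
  obtain ⟨i₀⟩ := IsCofiltered.nonempty (C := I)
  let G₀ : Over (D.obj i₀) := (Over.pullback (t i₀)).obj G
  let γ₀ : (Over.pullback (c.π.app i₀)).obj G₀ ≅ (Over.pullback η').obj G :=
    bcc (c.π.app i₀) (t i₀) η' (hη i₀) G
  let iη₀ : Hη ⟶ (Over.pullback (c.π.app i₀)).obj G₀ := iη ≫ γ₀.inv
  haveI : IsMonHom γ₀.inv := isMonHom_bcc_inv _ _ _ _ G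
  haveI : IsMonHom iη₀ := inferInstanceAs (IsMonHom (iη ≫ γ₀.inv))
  haveI : IsClosedImmersion iη₀.left := by
    haveI : IsIso γ₀.inv.left := inferInstanceAs (IsIso ((Over.forget _).map γ₀.inv))
    change IsClosedImmersion (iη.left ≫ γ₀.inv.left)
    infer_instance
  obtain ⟨σ, f, H, instH, em, φ₀, hem1, hem2, hpb, hcompat⟩ :=
    exists_closed_subgroup_model D c hc G₀ Hη iη₀
  letI := instH
  let U : X.Opens := (t σ).opensRange
  let e : D.obj σ ≅ (U : Scheme.{u}) := (t σ).isoOpensRange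
  have he1 : e.hom ≫ U.ι = t σ := (t σ).isoOpensRange_hom_ι
  have he2 : e.inv ≫ t σ = U.ι := (t σ).isoOpensRange_inv_comp
  let ηU : c.pt ⟶ (U : Scheme.{u}) := c.π.app σ ≫ e.hom
  let HU : Over (U : Scheme.{u}) := (Over.pullback e.inv).obj H
  let γ₁ : (Over.pullback (D.map f)).obj G₀ ≅ (Over.pullback (t σ)).obj G :=
    bcc (D.map f) (t i₀) (t σ) (ht f) G
  let γ₂ : (Over.pullback e.inv).obj ((Over.pullback (t σ)).obj G) ≅ (Over.pullback U.ι).obj G :=
    bcc e.inv (t σ) U.ι he2 G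
  let j : HU ⟶ (Over.pullback U.ι).obj G := (Over.pullback e.inv).map (em ≫ γ₁.hom) ≫ γ₂.hom
  let φ : Hη.left ⟶ HU.left := φ₀ ≫ inv (pullback.fst H.hom e.inv)
  refine ⟨U, ηU, HU, inferInstance, j, φ, ?_, ?_, ?_, ?_, ?_⟩
  · simp only [ηU, Category.assoc, he1, hη]
  · haveI := hem1
    haveI : IsMonHom γ₁.hom := isMonHom_bcc_hom _ _ _ _ G
    haveI : IsMonHom γ₂.hom := isMonHom_bcc_hom _ _ _ _ G
    haveI : IsMonHom (em ≫ γ₁.hom) := inferInstance
    haveI : IsMonHom ((Over.pullback e.inv).map (em ≫ γ₁.hom)) := inferInstance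
    exact inferInstanceAs (IsMonHom ((Over.pullback e.inv).map (em ≫ γ₁.hom) ≫ γ₂.hom))
  · haveI : IsIso γ₁.hom.left := inferInstanceAs (IsIso ((Over.forget _).map γ₁.hom))
    haveI : IsIso γ₂.hom.left := inferInstanceAs (IsIso ((Over.forget _).map γ₂.hom))
    haveI := hem2
    haveI : IsClosedImmersion (em ≫ γ₁.hom).left := by
      change IsClosedImmersion (em.left ≫ γ₁.hom.left)
      infer_instance
    haveI : IsClosedImmersion ((Over.pullback e.inv).map (em ≫ γ₁.hom)).left :=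
      prop_map @IsClosedImmersion e.inv (em ≫ γ₁.hom) inferInstance
    change IsClosedImmersion (((Over.pullback e.inv).map (em ≫ γ₁.hom)).left ≫ γ₂.hom.left)
    infer_instance
  · have hsq : IsPullback (inv (pullback.fst H.hom e.inv)) H.hom HU.hom e.hom := by
      refine IsPullback.of_horiz_isIso ⟨?_⟩
      rw [IsIso.inv_comp_eq]
      change pullback.snd H.hom e.inv = pullback.fst H.hom e.inv ≫ H.hom ≫ e.hom
      rw [← Category.assoc, pullback.condition, Category.assoc, Iso.inv_hom_id, Category.comp_id]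
    exact hpb.paste_horiz hsq
  · have s1 : j.left ≫ pullback.fst G.hom U.ι =
        pullback.fst H.hom e.inv ≫ em.left ≫ pullback.fst G₀.hom (D.map f) ≫
          pullback.fst G.hom (t i₀) := by
      simp only [j, Over.comp_left, Category.assoc]
      rw [bcc_hom_left_fst, ← Category.assoc, map_left_fst, Category.assoc, Over.comp_left,
        Category.assoc, bcc_hom_left_fst]
    have s2 : φ ≫ pullback.fst H.hom e.inv = φ₀ := by
      simp only [φ, Category.assoc, IsIso.inv_hom_id, Category.comp_id]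
    have s4 : iη₀.left ≫ pullback.fst G₀.hom (c.π.app i₀) ≫ pullback.fst G.hom (t i₀) =
        iη.left ≫ pullback.fst G.hom η' := by
      simp only [iη₀, Over.comp_left, Category.assoc]
      rw [bcc_inv_left_fst_fst]
    rw [s1, ← Category.assoc, s2, ← s4, ← Category.assoc, ← Category.assoc, Category.assoc φ₀,
      hcompat, Category.assoc]

end Groth.Agent.Lib.Helper9.GL
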