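import Mathlib
import Groth.Prelude.Def_Red
import Groth.Prelude.Def_AlgGrp
import Groth.Agent.Lib.Helper9.GS7
import Groth.Agent.Lib.Helper25.FibLocusGen
set_option autoImplicit false
set_option linter.style.haveILetI false
set_option linter.unusedSectionVars false
set_option linter.unusedVariables false
universe u
open CategoryTheory CategoryTheory.Limits AlgebraicGeometry Opposite MonObj MonoidalCategory CartesianMonoidalCategory

namespace Groth.Agent.Lib.Helper9.GL

open Groth.Agent.Lib.Helper22 Groth.Agent.Lib.Helper25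

theorem closed_subgroup_spreads_generic
    (X : Scheme.{u}) [IsIntegral X] (G : Over X) [GrpObj G]
    [IsAffineHom G.hom] [LocallyOfFinitePresentation G.hom]
    (Hη : Over (Spec X.functionField)) [GrpObj Hη]
    (i : Hη ⟶ Red.bc (X.fromSpecStalk (genericPoint X)) G) [IsMonHom i] [IsClosedImmersion i.left] :
    ∃ (U : X.Opens) (ηU : Spec X.functionField ⟶ (U : Scheme.{u})) (HU : Over (U : Scheme.{u}))
      (_ : GrpObj HU) (j : HU ⟶ Red.bc U.ι G) (φ : Hη.left ⟶ HU.left),
      ηU ≫ U.ι = X.fromSpecStalk (genericPoint X) ∧ IsMonHom j ∧ IsClosedImmersion j.left ∧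
      IsPullback φ Hη.hom HU.hom ηU ∧
      φ ≫ j.left ≫ pullback.fst G.hom U.ι =
        i.left ≫ pullback.fst G.hom (X.fromSpecStalk (genericPoint X)) := by
  obtain ⟨U₀, hU₀, hsU, -⟩ := exists_isAffineOpen_mem_and_subset (X := X) (x := genericPoint X)
    (U := ⊤) (by simp)
  haveI : Nonempty U₀ := ⟨⟨genericPoint X, hsU⟩⟩
  haveI : IsFractionRing Γ(X, U₀) X.functionField :=
    functionField_isFractionRing_of_isAffineOpen X U₀ hU₀
  have hinj : Function.Injective (algebraMap Γ(X, U₀) X.functionField) :=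
    IsFractionRing.injective Γ(X, U₀) X.functionField
  have hK : ∀ x : X.functionField, ∃ a t : Γ(X, U₀),
      algebraMap Γ(X, U₀) X.functionField t ≠ 0 ∧
        x * algebraMap Γ(X, U₀) X.functionField t = algebraMap Γ(X, U₀) X.functionField a := by
    intro x
    obtain ⟨⟨a, s⟩, hs⟩ := IsLocalization.surj (nonZeroDivisors Γ(X, U₀)) x
    refine ⟨a, s, ?_, hs⟩
    exact IsFractionRing.to_map_ne_zero_of_mem_nonZeroDivisors s.2
  let A := Γ(X, U₀)
  let K := X.functionField
  let D := ResLim.specDiag A K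
  let c := ResLim.specCone A K
  have hc : IsLimit c := ResLim.specIsLimit A K hK
  haveI : IsOpenImmersion hU₀.fromSpec := inferInstanceAs (IsOpenImmersion hU₀.fromSpec)
  let t : ∀ σ, D.obj σ ⟶ X := fun σ => ResLim.specStr A K σ ≫ hU₀.fromSpec
  haveI : ∀ σ, IsOpenImmersion (t σ) := fun σ => by
    haveI := FibLocusGen.isOpenImmersion_specStr A K hinj σ
    simp only [t]; infer_instance
  have ht : ∀ {σ τ : (Finset A)ᵒᵖ} (a : σ ⟶ τ), D.map a ≫ t τ = t σ :=
    fun a => by simp only [t]; rw [← Category.assoc, ResLim.specDiag_map_str]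
  have hτ : ResLim.specτ A K ≫ hU₀.fromSpec = X.fromSpecStalk (genericPoint X) := by
    have h1 : Spec.map (X.presheaf.germ U₀ (genericPoint X) hsU) ≫ hU₀.fromSpec =
        X.fromSpecStalk (genericPoint X) := by
      change hU₀.fromSpecStalk hsU = _
      rw [hU₀.fromSpecStalk_eq_fromSpecStalk]
    exact h1
  have hη : ∀ σ, c.π.app σ ≫ t σ = X.fromSpecStalk (genericPoint X) :=
    fun σ => by simp only [t]; rw [← Category.assoc, ResLim.specCone_π_str, hτ]
  -- finiteness of `Hη`
  have hw : i.left ≫ (Red.bc (X.fromSpecStalk (genericPoint X)) G).hom = Hη.hom := Over.w i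
  haveI : QuasiCompact Hη.hom := by rw [← hw]; infer_instance
  haveI : QuasiSeparated Hη.hom := by rw [← hw]; infer_instance
  haveI : LocallyOfFiniteType Hη.hom := by rw [← hw]; infer_instance
  haveI : IsLocallyNoetherian (Spec X.functionField) := inferInstance
  haveI : LocallyOfFinitePresentation Hη.hom := inferInstance
  let Hη' : Over c.pt := Hη
  letI iG : GrpObj Hη' := ‹GrpObj Hη›
  haveI : QuasiCompact Hη'.hom := ‹QuasiCompact Hη.hom›
  haveI : QuasiSeparated Hη'.hom := ‹QuasiSeparated Hη.hom›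
  haveI : LocallyOfFinitePresentation Hη'.hom := ‹LocallyOfFinitePresentation Hη.hom›
  let η' : c.pt ⟶ X := X.fromSpecStalk (genericPoint X)
  let i' : Hη' ⟶ (Over.pullback η').obj G := i
  haveI : IsMonHom i' := ‹IsMonHom i›
  haveI : IsClosedImmersion i'.left := ‹IsClosedImmersion i.left›
  exact exists_closed_subgroup_open D c hc G t ht η' hη Hη' i'

end Groth.Agent.Lib.Helper9.GL
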