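import Groth.Prelude.Def_Pi1X
import Mathlib.CategoryTheory.Galois.Equivalence
import Mathlib.CategoryTheory.Galois.IsFundamentalgroup

universe u v w
open CategoryTheory Limits PreGaloisCategory

namespace Groth.Agent.Lib.Helper9.Gal

section one
variable {C : Type u} [Category.{v} C] [GaloisCategory C] (F : C ⥤ FintypeCat.{w}) [FiberFunctor F]

lemma exists_hom_of_equivariant {X Y : C} (φ : F.obj X → F.obj Y)
    (hφ : ∀ (σ : Aut F) (x : F.obj X), φ (σ • x) = σ • φ x) :
    ∃ f : X ⟶ Y, ∀ x, F.map f x = φ x := by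
  let ψ : (functorToAction F).obj X ⟶ (functorToAction F).obj Y :=
    { hom := FintypeCat.homMk φ
      comm := fun g => by
        ext x
        exact hφ g x }
  obtain ⟨f, hf⟩ := (functorToAction F).map_surjective ψ
  refine ⟨f, fun x => ?_⟩
  have := congrArg (fun k => k.hom x) hf
  exact this

lemma exists_hom_of_stabilizer_le {Y X : C} [IsConnected Y] (y : F.obj Y) (a : F.obj X)
    (h : MulAction.stabilizer (Aut F) y ≤ MulAction.stabilizer (Aut F) a) :
    ∃ q : Y ⟶ X, F.map q y = a := by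
  have htr : ∀ z : F.obj Y, ∃ σ : Aut F, σ • y = z := fun z => MulAction.exists_smul_eq (Aut F) y z
  choose τ hτ using htr
  have key : ∀ (σ ρ : Aut F), σ • y = ρ • y → σ • a = ρ • a := by
    intro σ ρ hσρ
    have h1 : ρ⁻¹ * σ ∈ MulAction.stabilizer (Aut F) y := by
      rw [MulAction.mem_stabilizer_iff, mul_smul, hσρ, inv_smul_smul]
    have h2 := h h1
    rw [MulAction.mem_stabilizer_iff, mul_smul, inv_smul_eq_iff] at h2
    exact h2
  obtain ⟨q, hq⟩ := exists_hom_of_equivariant F (X := Y) (Y := X) (fun z => τ z • a) (by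
    intro σ z
    show τ (σ • z) • a = σ • τ z • a
    rw [← mul_smul]
    apply key
    rw [hτ, mul_smul, hτ])
  refine ⟨q, ?_⟩
  rw [hq]
  show τ y • a = a
  have := key (τ y) 1 (by rw [hτ, one_smul])
  rwa [one_smul] at this

lemma fiber_inl_ne_inr (X Y : C) (x : F.obj X) (y : F.obj Y) :
    F.map (coprod.inl : X ⟶ X ⨿ Y) x ≠ F.map (coprod.inr : Y ⟶ X ⨿ Y) y := by
  let G := F ⋙ FintypeCat.incl
  have hc : IsColimit (BinaryCofan.mk (G.map (coprod.inl : X ⟶ X ⨿ Y)) (G.map (coprod.inr : Y ⟶ X ⨿ Y))) :=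
    mapIsColimitOfPreservesOfIsColimit G _ _ (coprodIsCoprod X Y)
  have := (Types.binaryCofan_isColimit_iff _).mp ⟨hc⟩
  obtain ⟨-, -, h3⟩ := this
  intro heq
  have h4 : F.map (coprod.inl : X ⟶ X ⨿ Y) x ∈ Set.range (G.map (coprod.inl : X ⟶ X ⨿ Y)) := ⟨x, rfl⟩
  have h5 : F.map (coprod.inl : X ⟶ X ⨿ Y) x ∈ Set.range (G.map (coprod.inr : Y ⟶ X ⨿ Y)) := ⟨y, heq.symm⟩
  exact (Set.disjoint_left.mp h3.disjoint) h4 h5

lemma mem_closure_of_forall (S : Set (Aut F)) (g : Aut F)
    (h : ∀ (X : C) [IsConnected X] (x : F.obj X), ∃ s ∈ S, s • x = g • x) : g ∈ closure S := by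
  rw [mem_closure_iff_nhds]
  intro t ht
  rw [← map_mul_left_nhds_one g, Filter.mem_map] at ht
  obtain ⟨A, -, hA⟩ := (nhds_one_has_basis_stabilizers F).mem_iff.mp ht
  obtain ⟨s, hs, hsA⟩ := h A.obj A.pt
  refine ⟨s, ?_, hs⟩
  have h1 : g⁻¹ * s ∈ MulAction.stabilizer (Aut F) A.pt := by
    rw [MulAction.mem_stabilizer_iff, mul_smul, hsA, inv_smul_smul]
  have h2 := hA h1
  simpa using h2

end one

section two
variable {C C' : Type u} [Category.{v} C] [Category.{v} C'] [GaloisCategory C] [GaloisCategory C']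
  (H : C ⥤ C') (F' : C' ⥤ FintypeCat.{w}) [FiberFunctor F'] [FiberFunctor (H ⋙ F')]

lemma autWhisker_smul (σ : Aut F') {X : C} (x : (H ⋙ F').obj X) :
    (Pi1X.autWhisker H F' σ) • x = (σ • (show F'.obj (H.obj X) from x) : F'.obj (H.obj X)) := rfl

lemma stable_of_full [H.Full] {X : C} (O : Set ((H ⋙ F').obj X))
    (hO : ∀ (σ : Aut F') (x : (H ⋙ F').obj X), x ∈ O → (Pi1X.autWhisker H F' σ) • x ∈ O)
    (g : Aut (H ⋙ F')) (x : (H ⋙ F').obj X) (hx : x ∈ O) : g • x ∈ O := by
  classical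
  have hO' : ∀ (σ : Aut F') (x : (H ⋙ F').obj X), (Pi1X.autWhisker H F' σ) • x ∈ O ↔ x ∈ O := by
    intro σ x
    refine ⟨fun h => ?_, hO σ x⟩
    have := hO σ⁻¹ _ h
    rwa [map_inv, inv_smul_smul] at this
  obtain ⟨f', hf'⟩ := exists_hom_of_equivariant F' (X := H.obj X) (Y := H.obj (X ⨿ X))
    (fun z => if z ∈ O then F'.map (H.map (coprod.inl : X ⟶ X ⨿ X)) z
      else F'.map (H.map (coprod.inr : X ⟶ X ⨿ X)) z) (by
      intro σ z
      have h1 := hO' σ z
      rw [autWhisker_smul] at h1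
      by_cases hz : z ∈ O
      · simp only [hz, h1.mpr hz, if_true]
        exact (mulAction_naturality F' σ (H.map coprod.inl) z).symm
      · simp only [hz, mt h1.mp hz, if_false]
        exact (mulAction_naturality F' σ (H.map coprod.inr) z).symm)
  obtain ⟨f, rfl⟩ := H.map_surjective f'
  by_contra hgx
  have h1 := hf' (g • x)
  have h2 := hf' x
  simp only [hgx, hx, if_true, if_false] at h1 h2
  have h3 : (H ⋙ F').map f (g • x) = g • (H ⋙ F').map f x := (mulAction_naturality (H ⋙ F') g f x).symm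
  have h4 : (H ⋙ F').map coprod.inl (g • x) = g • (H ⋙ F').map coprod.inl x :=
    (mulAction_naturality (H ⋙ F') g (coprod.inl : X ⟶ X ⨿ X) x).symm
  have h5 : (H ⋙ F').map (coprod.inl : X ⟶ X ⨿ X) (g • x) = (H ⋙ F').map (coprod.inr : X ⟶ X ⨿ X) (g • x) := by
    rw [h4]
    have h2' : (H ⋙ F').map f x = (H ⋙ F').map (coprod.inl : X ⟶ X ⨿ X) x := h2
    have h1' : (H ⋙ F').map f (g • x) = (H ⋙ F').map (coprod.inr : X ⟶ X ⨿ X) (g • x) := h1
    rw [← h2', ← h1']
    exact h3.symm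
  exact fiber_inl_ne_inr (H ⋙ F') X X (g • x) (g • x) h5

lemma exists_autWhisker_smul_eq [H.Full] {X : C} [IsConnected X] (x y : (H ⋙ F').obj X) :
    ∃ σ : Aut F', (Pi1X.autWhisker H F' σ) • x = y := by
  obtain ⟨g, rfl⟩ := MulAction.exists_smul_eq (Aut (H ⋙ F')) x y
  have := stable_of_full H F' {z | ∃ σ : Aut F', (Pi1X.autWhisker H F' σ) • x = z} (by
    rintro σ _ ⟨τ, rfl⟩
    exact ⟨σ * τ, by rw [map_mul, mul_smul]⟩) g x ⟨1, by rw [map_one, one_smul]⟩
  exact this

lemma continuous_autWhisker : Continuous (Pi1X.autWhisker H F') := by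
  rw [continuous_induced_rng]
  have : (autEmbedding (H ⋙ F') ∘ Pi1X.autWhisker H F') =
      (fun (a : ∀ X', Aut (F'.obj X')) (X : C) => a (H.obj X)) ∘ autEmbedding F' := rfl
  rw [this]
  exact (continuous_pi fun X => continuous_apply (H.obj X)).comp continuous_induced_dom

lemma isClosed_range_autWhisker : IsClosed (Set.range (Pi1X.autWhisker H F')) :=
  (isCompact_range (continuous_autWhisker H F')).isClosed

lemma surjective_of_full [H.Full] : Function.Surjective (Pi1X.autWhisker H F') := by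
  intro g
  have : g ∈ closure (Set.range (Pi1X.autWhisker H F')) := by
    apply mem_closure_of_forall
    intro X _ x
    obtain ⟨σ, hσ⟩ := exists_autWhisker_smul_eq H F' x (g • x)
    exact ⟨_, ⟨σ, rfl⟩, hσ⟩
  rw [(isClosed_range_autWhisker H F').closure_eq] at this
  exact this

lemma full_of_surjective (hs : Function.Surjective (Pi1X.autWhisker H F')) : H.Full := by
  constructor
  intro X Y f'
  obtain ⟨f, hf⟩ := exists_hom_of_equivariant (H ⋙ F') (X := X) (Y := Y) (fun x => F'.map f' x) (by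
    intro g x
    obtain ⟨σ, rfl⟩ := hs g
    exact (mulAction_naturality F' σ f' x).symm)
  refine ⟨f, ?_⟩
  apply F'.map_injective
  ext x
  exact hf x

include F' in
lemma faithful_of_fiber : H.Faithful := Functor.Faithful.of_comp H F'

theorem surjective_iff : Function.Surjective (Pi1X.autWhisker H F') ↔ (H.Full ∧ H.Faithful) :=
  ⟨fun h => ⟨full_of_surjective H F' h, faithful_of_fiber H F'⟩, fun h => by
    have := h.1
    exact surjective_of_full H F'⟩

end two

end Groth.Agent.Lib.Helper9.Gal
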