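import Groth.Agent.Lib.Helper9.Gal1

universe u v w
open CategoryTheory Limits PreGaloisCategory

namespace Groth.Agent.Lib.Helper9.Gal

section one
variable {C : Type u} [Category.{v} C] [GaloisCategory C] (F : C ⥤ FintypeCat.{w}) [FiberFunctor F]

noncomputable def isTerminalFiberTop : IsTerminal (F.obj (⊤_ C)) :=
  terminalIsTerminal.isTerminalObj F

instance nonempty_fiber_top : Nonempty (F.obj (⊤_ C)) :=
  ⟨(IsTerminal.from (isTerminalFiberTop F) (FintypeCat.of PUnit.{w+1})) PUnit.unit⟩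

instance subsingleton_fiber_top : Subsingleton (F.obj (⊤_ C)) := by
  constructor
  intro a b
  have := (isTerminalFiberTop F).hom_ext
    (FintypeCat.homMk (X := FintypeCat.of PUnit.{w+1}) (fun _ => a))
    (FintypeCat.homMk (X := FintypeCat.of PUnit.{w+1}) (fun _ => b))
  exact congrArg (fun k => k PUnit.unit) this

lemma forall_smul_eq_iff_exists_section {Y : C} (a : F.obj Y) :
    (∀ σ : Aut F, σ • a = a) ↔ ∃ s : ⊤_ C ⟶ Y, ∀ t : F.obj (⊤_ C), F.map s t = a := by
  constructor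
  · intro h
    exact exists_hom_of_equivariant F (X := ⊤_ C) (Y := Y) (fun _ => a) (fun σ _ => (h σ).symm)
  · rintro ⟨s, hs⟩ σ
    obtain ⟨t⟩ := nonempty_fiber_top F
    rw [← hs t, mulAction_naturality, hs, hs]

lemma exists_ι_eq {n : ℕ} (z : F.obj (∐ fun _ : Fin n => ⊤_ C)) :
    ∃ (i : Fin n) (t : F.obj (⊤_ C)), F.map (Sigma.ι (fun _ : Fin n => ⊤_ C) i) t = z := by
  obtain ⟨⟨j⟩, a, ha⟩ := Limits.FintypeCat.jointly_surjective
    (Discrete.functor (fun _ : Fin n => ⊤_ C) ⋙ F) _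
    (Limits.isColimitOfPreserves F (coproductIsCoproduct (fun _ : Fin n => ⊤_ C))) z
  exact ⟨j, a, ha⟩

theorem forall_smul_eq_iff_iso_coprod_top (Y : C) :
    (∀ (σ : Aut F) (y : F.obj Y), σ • y = y) ↔
      ∃ n : ℕ, Nonempty (Y ≅ ∐ fun _ : Fin n => ⊤_ C) := by
  constructor
  · intro h
    let n := Nat.card (F.obj Y)
    have e : Fin n ≃ F.obj Y := (Finite.equivFin (F.obj Y)).symm
    have hs : ∀ i : Fin n, ∃ s : ⊤_ C ⟶ Y, ∀ t : F.obj (⊤_ C), F.map s t = e i := fun i =>
      (forall_smul_eq_iff_exists_section F (e i)).mp (fun σ => h σ _)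
    choose s hs using hs
    let m : (∐ fun _ : Fin n => ⊤_ C) ⟶ Y := Sigma.desc s
    have hm : ∀ (i : Fin n) (t : F.obj (⊤_ C)), F.map m (F.map (Sigma.ι (fun _ : Fin n => ⊤_ C) i) t) = e i := by
      intro i t
      rw [← FintypeCat.comp_apply, ← F.map_comp, Sigma.ι_desc, hs]
    have hbij : Function.Bijective (F.map m) := by
      constructor
      · intro z z' hzz'
        obtain ⟨i, t, rfl⟩ := exists_ι_eq F z
        obtain ⟨j, t', rfl⟩ := exists_ι_eq F z'
        rw [hm, hm] at hzz'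
        obtain rfl := e.injective hzz'
        rw [Subsingleton.elim t t']
      · intro y
        obtain ⟨i, rfl⟩ := e.surjective y
        obtain ⟨t⟩ := nonempty_fiber_top F
        exact ⟨_, hm i t⟩
    have : IsIso (F.map m) := (ConcreteCategory.isIso_iff_bijective _).mpr hbij
    have : IsIso m := isIso_of_reflects_iso m F
    exact ⟨n, ⟨(asIso m).symm⟩⟩
  · rintro ⟨n, ⟨e⟩⟩ σ y
    obtain ⟨i, t, ht⟩ := exists_ι_eq F (F.map e.hom y)
    have hy : y = F.map (Sigma.ι (fun _ : Fin n => ⊤_ C) i ≫ e.inv) t := by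
      rw [F.map_comp, FintypeCat.comp_apply, ht, ← FintypeCat.comp_apply, ← F.map_comp, e.hom_inv_id,
        F.map_id, FintypeCat.id_apply]
    rw [hy, mulAction_naturality, Subsingleton.elim (σ • t) t]

end one

section two
variable {C C' : Type u} [Category.{v} C] [Category.{v} C'] [GaloisCategory C] [GaloisCategory C']
  (H : C ⥤ C') (F' : C' ⥤ FintypeCat.{w}) [FiberFunctor F'] [FiberFunctor (H ⋙ F')]

theorem range_le_stabilizer_iff {X : C} (a : (H ⋙ F').obj X) :
    (Pi1X.autWhisker H F').range ≤ MulAction.stabilizer (Aut (H ⋙ F')) a ↔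
      ∃ s : ⊤_ C' ⟶ H.obj X, ∀ t : F'.obj (⊤_ C'), F'.map s t = a := by
  rw [← forall_smul_eq_iff_exists_section F' (Y := H.obj X) a]
  constructor
  · intro h σ
    exact h ⟨σ, rfl⟩
  · rintro h _ ⟨σ, rfl⟩
    exact h σ

theorem normalClosure_range_le_stabilizer_iff {X : C} [IsConnected X] (a : (H ⋙ F').obj X) :
    Subgroup.normalClosure ((Pi1X.autWhisker H F').range : Set (Aut (H ⋙ F'))) ≤
        MulAction.stabilizer (Aut (H ⋙ F')) a ↔
      ∃ n : ℕ, Nonempty (H.obj X ≅ ∐ fun _ : Fin n => ⊤_ C') := by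
  rw [← forall_smul_eq_iff_iso_coprod_top F' (H.obj X)]
  constructor
  · intro h σ y
    obtain ⟨g, rfl⟩ := MulAction.exists_smul_eq (Aut (H ⋙ F')) a (show (H ⋙ F').obj X from y)
    have h1 : g⁻¹ * Pi1X.autWhisker H F' σ * g ∈
        Subgroup.normalClosure ((Pi1X.autWhisker H F').range : Set (Aut (H ⋙ F'))) := by
      have := Subgroup.normalClosure_normal.conj_mem _
        (Subgroup.subset_normalClosure (s := ((Pi1X.autWhisker H F').range : Set (Aut (H ⋙ F'))))
          ⟨σ, rfl⟩) g⁻¹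
      simpa using this
    have h2 := h h1
    rw [MulAction.mem_stabilizer_iff, mul_smul, mul_smul, inv_smul_eq_iff] at h2
    exact h2
  · intro h
    let K : Subgroup (Aut (H ⋙ F')) := (MulAction.toPermHom (Aut (H ⋙ F')) ((H ⋙ F').obj X)).ker
    have hK : ∀ g : Aut (H ⋙ F'), g ∈ K ↔ ∀ x : (H ⋙ F').obj X, g • x = x := by
      intro g
      rw [MonoidHom.mem_ker, Equiv.ext_iff]
      rfl
    have h1 : ((Pi1X.autWhisker H F').range : Set (Aut (H ⋙ F'))) ⊆ K := by
      rintro _ ⟨σ, rfl⟩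
      exact (hK _).mpr (fun x => h σ x)
    refine (Subgroup.normalClosure_le_normal h1).trans ?_
    intro g hg
    exact (hK g).mp hg a

end two

section three
variable {C C' C'' : Type u} [Category.{v} C] [Category.{v} C'] [Category.{v} C'']
    [GaloisCategory C] [GaloisCategory C'] [GaloisCategory C'']
    (H : C ⥤ C') (H' : C' ⥤ C'')
    (F'' : C'' ⥤ FintypeCat.{w}) [FiberFunctor F''] [FiberFunctor (H' ⋙ F'')]
    [FiberFunctor (H ⋙ (H' ⋙ F''))]

lemma comp_eq_one_iff (σ : Aut F'') :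
    Pi1X.autWhisker H (H' ⋙ F'') (Pi1X.autWhisker H' F'' σ) = 1 ↔
      ∀ (X : C) (y : F''.obj (H'.obj (H.obj X))), σ • y = y := by
  constructor
  · intro h X y
    have := congrArg (fun τ : Aut (H ⋙ (H' ⋙ F'')) => τ.hom.app X y) h
    exact this
  · intro h
    apply Iso.ext
    apply NatTrans.ext
    funext X
    apply FintypeCat.hom_ext
    intro y
    exact h X y

theorem comp_trivial_iff :
    (∀ σ : Aut F'', Pi1X.autWhisker H (H' ⋙ F'') (Pi1X.autWhisker H' F'' σ) = 1) ↔
      ∀ X : C, ∃ n : ℕ, Nonempty (H'.obj (H.obj X) ≅ ∐ fun _ : Fin n => ⊤_ C'') := by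
  simp_rw [comp_eq_one_iff, ← forall_smul_eq_iff_iso_coprod_top F'']
  constructor
  · intro h X σ y
    exact h σ X y
  · intro h σ X y
    exact h X σ y

end three

end Groth.Agent.Lib.Helper9.Gal
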