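import Groth.Agent.Lib.Helper9.Gal2

universe u v w
open CategoryTheory Limits PreGaloisCategory

namespace Groth.Agent.Lib.Helper9.Gal

section one
variable {C : Type u} [Category.{v} C] [GaloisCategory C] (F : C ⥤ FintypeCat.{w}) [FiberFunctor F]

lemma map_injective_of_mono {X Y : C} (i : X ⟶ Y) [Mono i] : Function.Injective (F.map i) :=
  ConcreteCategory.injective_of_mono_of_preservesPullback (F.map i)

lemma smul_eq_of_mono {X Y : C} (i : X ⟶ Y) [Mono i] (σ : Aut F) (y : F.obj X)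
    (h : σ • F.map i y = F.map i y) : σ • y = y := by
  apply map_injective_of_mono F i
  rw [← mulAction_naturality, h]

lemma eq_one_of_forall_smul (σ : Aut F) (h : ∀ (X : C) (x : F.obj X), σ • x = x) : σ = 1 := by
  apply Iso.ext
  apply NatTrans.ext
  funext X
  apply FintypeCat.hom_ext
  intro y
  exact h X y

lemma eq_one_of_forall_connected (σ : Aut F)
    (h : ∀ (X : C) [IsConnected X] (x : F.obj X), σ • x = x) : σ = 1 := by
  apply eq_one_of_forall_smul
  intro X x
  obtain ⟨Y, i, y, rfl, hY, hi⟩ := fiber_in_connected_component F X x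
  rw [mulAction_naturality, h Y y]

end one

section two
variable {C C' : Type u} [Category.{v} C] [Category.{v} C'] [GaloisCategory C] [GaloisCategory C']
  (H : C ⥤ C') (F' : C' ⥤ FintypeCat.{w}) [FiberFunctor F'] [FiberFunctor (H ⋙ F')]

lemma mem_ker_iff (σ : Aut F') :
    σ ∈ (Pi1X.autWhisker H F').ker ↔ ∀ (X : C) (x : F'.obj (H.obj X)), σ • x = x := by
  rw [MonoidHom.mem_ker]
  constructor
  · intro h X x
    have := congrArg (fun τ : Aut (H ⋙ F') => τ.hom.app X x) h
    exact this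
  · intro h
    exact eq_one_of_forall_smul (H ⋙ F') _ (fun X x => h X x)

lemma exists_stabilizer_le_of_ker_le {X' : C'} (a' : F'.obj X')
    (h : (Pi1X.autWhisker H F').ker ≤ MulAction.stabilizer (Aut F') a') :
    ∃ (X : C) (x : F'.obj (H.obj X)),
      MulAction.stabilizer (Aut F') x ≤ MulAction.stabilizer (Aut F') a' := by
  let ι := Σ X : C, F'.obj (H.obj X)
  let U : ι → Set (Aut F') := fun i => ((MulAction.stabilizer (Aut F') i.2 : Set (Aut F')))ᶜ
  have hUo : ∀ i, IsOpen (U i) := fun i =>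
    (Subgroup.isClosed_of_isOpen _ (stabilizer_isOpen (Aut F') i.2)).isOpen_compl
  have hs : IsCompact ((MulAction.stabilizer (Aut F') a' : Set (Aut F')))ᶜ :=
    (stabilizer_isOpen (Aut F') a').isClosed_compl.isCompact
  have hsU : ((MulAction.stabilizer (Aut F') a' : Set (Aut F')))ᶜ ⊆ ⋃ i, U i := by
    intro σ hσ
    have h1 : σ ∉ (Pi1X.autWhisker H F').ker := fun hk => hσ (h hk)
    rw [mem_ker_iff] at h1
    push Not at h1
    obtain ⟨X, x, hx⟩ := h1
    exact Set.mem_iUnion.mpr ⟨⟨X, x⟩, hx⟩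
  have hdU : Directed (· ⊆ ·) U := by
    rintro ⟨X, x⟩ ⟨Y, y⟩
    let z : F'.obj (H.obj (X ⨯ Y)) :=
      (fiberBinaryProductEquiv (H ⋙ F') X Y).symm (x, y)
    have hz1 : F'.map (H.map prod.fst) z = x :=
      fiberBinaryProductEquiv_symm_fst_apply (H ⋙ F') x y
    have hz2 : F'.map (H.map prod.snd) z = y :=
      fiberBinaryProductEquiv_symm_snd_apply (H ⋙ F') x y
    refine ⟨⟨X ⨯ Y, z⟩, ?_, ?_⟩
    · intro σ hσ hσz
      apply hσ
      show σ • x = x
      rw [← hz1, mulAction_naturality]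
      exact congrArg _ hσz
    · intro σ hσ hσz
      apply hσ
      show σ • y = y
      rw [← hz2, mulAction_naturality]
      exact congrArg _ hσz
  have : Nonempty ι := by
    obtain ⟨t⟩ := nonempty_fiber_top (H ⋙ F')
    exact ⟨⟨⊤_ C, t⟩⟩
  obtain ⟨⟨X, x⟩, hi⟩ := hs.elim_directed_cover U hUo hsU hdU
  refine ⟨X, x, ?_⟩
  intro σ hσ
  by_contra hcon
  exact hi hcon hσ

theorem exists_of_ker_le {X' : C'} (a' : F'.obj X')
    (h : (Pi1X.autWhisker H F').ker ≤ MulAction.stabilizer (Aut F') a') :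
    ∃ (X : C) (Y' : C') (i : Y' ⟶ H.obj X) (q : Y' ⟶ X') (y : F'.obj Y'),
      Mono i ∧ IsConnected Y' ∧ F'.map q y = a' := by
  obtain ⟨X, x, hx⟩ := exists_stabilizer_le_of_ker_le H F' a' h
  obtain ⟨Y', i, y, hy, hY', hi⟩ := fiber_in_connected_component F' (H.obj X) x
  have h1 : MulAction.stabilizer (Aut F') y ≤ MulAction.stabilizer (Aut F') a' := by
    refine le_trans ?_ hx
    intro σ hσ
    rw [MulAction.mem_stabilizer_iff] at hσ ⊢
    rw [← hy, mulAction_naturality, hσ]
  obtain ⟨q, hq⟩ := exists_hom_of_stabilizer_le F' y a' h1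
  exact ⟨X, Y', i, q, y, hi, hY', hq⟩

theorem ker_le_stabilizer_iff {X' : C'} [IsConnected X'] (a' : F'.obj X') :
    (Pi1X.autWhisker H F').ker ≤ MulAction.stabilizer (Aut F') a' ↔
      ∃ (X : C) (Y' : C') (i : Y' ⟶ H.obj X) (q : Y' ⟶ X'), Mono i ∧ IsConnected Y' := by
  constructor
  · intro h
    obtain ⟨X, Y', i, q, y, hi, hY', -⟩ := exists_of_ker_le H F' a' h
    exact ⟨X, Y', i, q, hi, hY'⟩
  · rintro ⟨X, Y', i, q, hi, hY'⟩ σ hσ
    rw [mem_ker_iff] at hσ
    have : Epi q := epi_of_nonempty_of_isConnected F' q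
    obtain ⟨y, rfl⟩ := surjective_on_fiber_of_epi F' q a'
    rw [MulAction.mem_stabilizer_iff, mulAction_naturality,
      smul_eq_of_mono F' i σ y (hσ X _)]

theorem injective_iff :
    Function.Injective (Pi1X.autWhisker H F') ↔
      ∀ X' : C', IsConnected X' → ∃ (X : C) (Y' : C') (p : Y' ⟶ X') (q : Y' ⟶ H.obj X),
        Epi p ∧ Mono q := by
  constructor
  · intro h X' hX'
    obtain ⟨a'⟩ := nonempty_fiber_of_isConnected F' X'
    have hk : (Pi1X.autWhisker H F').ker ≤ MulAction.stabilizer (Aut F') a' := by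
      rw [(MonoidHom.ker_eq_bot_iff _).mpr h]
      exact bot_le
    obtain ⟨X, Y', i, q, y, hi, hY', -⟩ := exists_of_ker_le H F' a' hk
    exact ⟨X, Y', q, i, epi_of_nonempty_of_isConnected F' q, hi⟩
  · intro h
    rw [injective_iff_map_eq_one]
    intro σ hσ
    have hσ' := (mem_ker_iff H F' σ).mp hσ
    apply eq_one_of_forall_connected F'
    intro X' hX' x'
    obtain ⟨X, Y', p, q, hp, hq⟩ := h X' hX'
    obtain ⟨y, rfl⟩ := surjective_on_fiber_of_epi F' p x'
    rw [mulAction_naturality, smul_eq_of_mono F' q σ y (hσ' X _)]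

end two

end Groth.Agent.Lib.Helper9.Gal
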