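import Groth.Agent.Lib.Helper9.Gal3

universe u v w
open CategoryTheory Limits PreGaloisCategory

namespace Groth.Agent.Lib.Helper9.Gal

section quot
variable {G : Type*} {α : Type*} [Group G] [MulAction G α] (N : Subgroup G)

/-- orbit relation of a subgroup, written with explicit witnesses -/
def orbSetoid (α : Type*) [MulAction G α] : Setoid α where
  r a b := ∃ n ∈ N, n • b = a
  iseqv := ⟨fun a => ⟨1, N.one_mem, one_smul _ _⟩,
    fun ⟨n, hn, h⟩ => ⟨n⁻¹, N.inv_mem hn, by rw [← h, inv_smul_smul]⟩,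
    fun ⟨n, hn, h⟩ ⟨m, hm, h'⟩ => ⟨n * m, N.mul_mem hn hm, by rw [mul_smul, h', h]⟩⟩

variable [hN : N.Normal]

/-- the ambient group acts on the orbit space of a normal subgroup -/
def orbQuotAction : MulAction G (Quotient (orbSetoid N α)) where
  smul g := Quotient.map (g • ·) (by
    rintro a b ⟨n, hn, rfl⟩
    exact ⟨g * n * g⁻¹, hN.conj_mem n hn g, by simp [mul_smul]⟩)
  one_smul := by
    rintro ⟨x⟩
    show Quotient.mk _ ((1 : G) • x) = Quotient.mk _ x
    rw [one_smul]
  mul_smul := by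
    rintro g h ⟨x⟩
    show Quotient.mk _ ((g * h) • x) = Quotient.mk _ (g • h • x)
    rw [mul_smul]

lemma orbQuotAction_mk (g : G) (x : α) :
    (orbQuotAction N).smul g (Quotient.mk (orbSetoid N α) x) = Quotient.mk _ (g • x) := rfl

end quot

section one
variable {C : Type u} [Category.{v} C] [GaloisCategory C] (F : C ⥤ FintypeCat.{w}) [FiberFunctor F]

open scoped FintypeCatDiscrete in
lemma exists_obj_of_mulAction (V : FintypeCat.{w}) [MulAction (Aut F) V]
    (hcont : ∀ v : V, IsOpen (MulAction.stabilizer (Aut F) v : Set (Aut F))) :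
    ∃ (X : C) (e : F.obj X ≃ V), ∀ (σ : Aut F) (x : F.obj X), e (σ • x) = σ • e x := by
  let A : Action FintypeCat (Aut F) := Action.FintypeCat.ofMulAction (Aut F) V
  have hA : A.IsContinuous := by
    show ContinuousSMul (Aut F) V
    exact continuousSMul_iff_stabilizer_isOpen.mpr hcont
  let A' : ContAction FintypeCat (Aut F) := ⟨A, hA⟩
  let X := (functorToContAction F).objPreimage A'
  let i : (functorToContAction F).obj X ≅ A' := (functorToContAction F).objObjPreimageIso A'
  let j : (functorToAction F).obj X ≅ A := (ObjectProperty.ι _).mapIso i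
  let k : F.obj X ≅ V := (Action.forget _ _).mapIso j
  refine ⟨X, FintypeCat.equivEquivIso.symm k, ?_⟩
  intro σ x
  have := j.hom.comm σ
  exact congrArg (fun f => f x) this

lemma mem_ker_toPermHom (X : C) (g : Aut F) :
    g ∈ (MulAction.toPermHom (Aut F) (F.obj X)).ker ↔ ∀ x : F.obj X, g • x = x := by
  rw [MonoidHom.mem_ker, Equiv.ext_iff]
  rfl

lemma isClosed_ker_toPermHom (X : C) :
    IsClosed ((MulAction.toPermHom (Aut F) (F.obj X)).ker : Set (Aut F)) := by
  have : ((MulAction.toPermHom (Aut F) (F.obj X)).ker : Set (Aut F)) =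
      ⋂ x : F.obj X, (MulAction.stabilizer (Aut F) x : Set (Aut F)) := by
    ext g
    simp only [SetLike.mem_coe, Set.mem_iInter, MulAction.mem_stabilizer_iff]
    exact mem_ker_toPermHom F X g
  rw [this]
  exact isClosed_iInter fun x => Subgroup.isClosed_of_isOpen _ (stabilizer_isOpen (Aut F) x)

lemma exists_orbit_quotient (N : Subgroup (Aut F)) [N.Normal] (X : C) :
    ∃ Q : C, (∀ n ∈ N, ∀ z : F.obj Q, n • z = z) ∧
      ∀ σ : Aut F, (∀ z : F.obj Q, σ • z = z) → ∀ x : F.obj X, ∃ n ∈ N, n • x = σ • x := by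
  let _ : MulAction (Aut F) (FintypeCat.of (Quotient (orbSetoid N (F.obj X)))) := orbQuotAction N
  have hmk : ∀ (g : Aut F) (x : F.obj X),
      (g • (Quotient.mk (orbSetoid N (F.obj X)) x : FintypeCat.of (Quotient (orbSetoid N (F.obj X))))) =
        Quotient.mk (orbSetoid N (F.obj X)) (g • x) := fun g x => rfl
  obtain ⟨Q, e, he⟩ := exists_obj_of_mulAction F (FintypeCat.of (Quotient (orbSetoid N (F.obj X)))) (by
    intro q
    obtain ⟨x, rfl⟩ := Quotient.exists_rep (s := orbSetoid N (F.obj X)) q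
    refine Subgroup.isOpen_mono ?_ (stabilizer_isOpen (Aut F) x)
    intro g hg
    rw [MulAction.mem_stabilizer_iff] at hg ⊢
    rw [hmk, hg])
  refine ⟨Q, ?_, ?_⟩
  · intro n hn z
    apply e.injective
    rw [he]
    obtain ⟨x, hx⟩ := Quotient.exists_rep (e z)
    rw [← hx, hmk]
    exact Quotient.sound ⟨n, hn, rfl⟩
  · intro σ hσ x
    obtain ⟨z, hz⟩ := e.surjective (Quotient.mk (orbSetoid N (F.obj X)) x)
    have h1 := he σ z
    rw [hσ z, hz, hmk] at h1
    obtain ⟨n, hn, h⟩ := Quotient.exact h1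
    exact ⟨n⁻¹, N.inv_mem hn, by rw [inv_smul_eq_iff, h]⟩

end one

section two
variable {C C' : Type u} [Category.{v} C] [Category.{v} C'] [GaloisCategory C] [GaloisCategory C']
  (H : C ⥤ C') (F' : C' ⥤ FintypeCat.{w}) [FiberFunctor F'] [FiberFunctor (H ⋙ F')]

lemma exists_iso_of_ker_le (hs : Function.Surjective (Pi1X.autWhisker H F')) (X' : C')
    (h : ∀ τ ∈ (Pi1X.autWhisker H F').ker, ∀ y : F'.obj X', τ • y = y) :
    ∃ X : C, Nonempty (H.obj X ≅ X') := by
  let ρ : Aut F' →* Equiv.Perm (F'.obj X') := MulAction.toPermHom (Aut F') (F'.obj X')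
  have hker : (Pi1X.autWhisker H F').ker ≤ ρ.ker :=
    fun τ hτ => (mem_ker_toPermHom F' X' τ).mpr (h τ hτ)
  let ρ' : Aut (H ⋙ F') →* Equiv.Perm (F'.obj X') :=
    (Pi1X.autWhisker H F').liftOfRightInverse (Function.surjInv hs)
      (Function.rightInverse_surjInv hs) ⟨ρ, hker⟩
  have hρ' : ∀ τ, ρ' (Pi1X.autWhisker H F' τ) = ρ τ := fun τ =>
    MonoidHom.liftOfRightInverse_comp_apply _ _ _ _ τ
  let _ : MulAction (Aut (H ⋙ F')) (F'.obj X') := MulAction.compHom _ ρ'
  have hsm : ∀ (τ : Aut F') (y : F'.obj X'), (Pi1X.autWhisker H F' τ) • y = τ • y :=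
    fun τ y => congrArg (fun p => p y) (hρ' τ)
  have hq : Topology.IsQuotientMap (Pi1X.autWhisker H F') :=
    (continuous_autWhisker H F').isClosedMap.isQuotientMap (continuous_autWhisker H F') hs
  obtain ⟨X, e, he⟩ := exists_obj_of_mulAction (H ⋙ F') (F'.obj X') (by
    intro y
    rw [← hq.isOpen_preimage]
    have : (Pi1X.autWhisker H F') ⁻¹' (MulAction.stabilizer (Aut (H ⋙ F')) y : Set _) =
        (MulAction.stabilizer (Aut F') y : Set _) := by
      ext τ
      simp only [Set.mem_preimage, SetLike.mem_coe, MulAction.mem_stabilizer_iff, hsm]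
    rw [this]
    exact stabilizer_isOpen (Aut F') y)
  obtain ⟨f, hf⟩ := exists_hom_of_equivariant F' (X := H.obj X) (Y := X') (fun x => e x) (by
    intro τ x
    have := he (Pi1X.autWhisker H F' τ) x
    rw [hsm] at this
    exact this)
  have hbij : Function.Bijective (F'.map f) := by
    have : (F'.map f : _ → _) = e := funext hf
    rw [this]
    exact e.bijective
  have : IsIso (F'.map f) := (ConcreteCategory.isIso_iff_bijective _).mpr hbij
  have : IsIso f := isIso_of_reflects_iso f F'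
  exact ⟨X, ⟨asIso f⟩⟩

end two

section three
variable {C C' C'' : Type u} [Category.{v} C] [Category.{v} C'] [Category.{v} C'']
    [GaloisCategory C] [GaloisCategory C'] [GaloisCategory C'']
    (H : C ⥤ C') (H' : C' ⥤ C'')
    (F'' : C'' ⥤ FintypeCat.{w}) [FiberFunctor F''] [FiberFunctor (H' ⋙ F'')]
    [FiberFunctor (H ⋙ (H' ⋙ F''))]

lemma iso_coprod_top_iff_closure (X' : C') :
    (∃ n : ℕ, Nonempty (H'.obj X' ≅ ∐ fun _ : Fin n => ⊤_ C'')) ↔
      ∀ τ ∈ (Subgroup.normalClosure (Set.range (Pi1X.autWhisker H' F''))).topologicalClosure,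
        ∀ y : (H' ⋙ F'').obj X', τ • y = y := by
  rw [← forall_smul_eq_iff_iso_coprod_top F'' (H'.obj X')]
  constructor
  · intro h τ hτ
    have h1 : Set.range (Pi1X.autWhisker H' F'') ⊆
        ((MulAction.toPermHom (Aut (H' ⋙ F'')) ((H' ⋙ F'').obj X')).ker : Set _) := by
      rintro _ ⟨σ, rfl⟩
      exact (mem_ker_toPermHom (H' ⋙ F'') X' _).mpr (fun y => h σ y)
    have h2 := Subgroup.topologicalClosure_minimal _ (Subgroup.normalClosure_le_normal h1)
      (isClosed_ker_toPermHom (H' ⋙ F'') X')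
    exact (mem_ker_toPermHom (H' ⋙ F'') X' τ).mp (h2 hτ)
  · intro h σ y
    exact h (Pi1X.autWhisker H' F'' σ)
      (Subgroup.le_topologicalClosure _ (Subgroup.subset_normalClosure ⟨σ, rfl⟩)) y

theorem exact_iff :
    (Function.Surjective (Pi1X.autWhisker H (H' ⋙ F'')) ∧
      (∀ σ : Aut F'', Pi1X.autWhisker H (H' ⋙ F'') (Pi1X.autWhisker H' F'' σ) = 1) ∧
      (Pi1X.autWhisker H (H' ⋙ F'')).ker =
        (Subgroup.normalClosure (Set.range (Pi1X.autWhisker H' F''))).topologicalClosure) ↔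
    ((H.Full ∧ H.Faithful) ∧
      ∀ X' : C', (∃ X : C, Nonempty (H.obj X ≅ X')) ↔
        ∃ n : ℕ, Nonempty (H'.obj X' ≅ ∐ fun _ : Fin n => ⊤_ C'')) := by
  constructor
  · rintro ⟨hs, htriv, hker⟩
    refine ⟨(surjective_iff H (H' ⋙ F'')).mp hs, fun X' => ⟨?_, ?_⟩⟩
    · rintro ⟨X, ⟨i⟩⟩
      obtain ⟨n, ⟨j⟩⟩ := (comp_trivial_iff H H' F'').mp htriv X
      exact ⟨n, ⟨(H'.mapIso i).symm ≪≫ j⟩⟩
    · intro hT
      apply exists_iso_of_ker_le H (H' ⋙ F'') hs X'
      rw [hker]
      exact (iso_coprod_top_iff_closure H' F'' X').mp hT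
  · rintro ⟨⟨hfull, hfaith⟩, hB2⟩
    have hs : Function.Surjective (Pi1X.autWhisker H (H' ⋙ F'')) := surjective_of_full H (H' ⋙ F'')
    have htriv : ∀ σ : Aut F'', Pi1X.autWhisker H (H' ⋙ F'') (Pi1X.autWhisker H' F'' σ) = 1 :=
      (comp_trivial_iff H H' F'').mpr (fun X => (hB2 (H.obj X)).mp ⟨X, ⟨Iso.refl _⟩⟩)
    refine ⟨hs, htriv, le_antisymm ?_ ?_⟩
    · intro σ hσ
      have hσ' := (mem_ker_iff H (H' ⋙ F'') σ).mp hσ
      have hcl : σ ∈ closure (((Subgroup.normalClosure
          (Set.range (Pi1X.autWhisker H' F''))).topologicalClosure : Subgroup (Aut (H' ⋙ F''))) :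
            Set (Aut (H' ⋙ F''))) := by
        apply mem_closure_of_forall (H' ⋙ F'')
        intro X' _ x'
        have : (Subgroup.normalClosure
            (Set.range (Pi1X.autWhisker H' F''))).topologicalClosure.Normal :=
          Subgroup.is_normal_topologicalClosure _
        obtain ⟨Q, hQ1, hQ2⟩ := exists_orbit_quotient (H' ⋙ F'')
          (Subgroup.normalClosure (Set.range (Pi1X.autWhisker H' F''))).topologicalClosure X'
        obtain ⟨X, ⟨i⟩⟩ := (hB2 Q).mpr ((iso_coprod_top_iff_closure H' F'' Q).mpr hQ1)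
        have h3 : ∀ z : (H' ⋙ F'').obj Q, σ • z = z := by
          intro z
          have hz : z = (H' ⋙ F'').map i.hom ((H' ⋙ F'').map i.inv z) := by
            rw [← FintypeCat.comp_apply, ← Functor.map_comp, i.inv_hom_id,
              CategoryTheory.Functor.map_id, FintypeCat.id_apply]
          rw [hz, mulAction_naturality, hσ' X]
        obtain ⟨n, hn, hnx⟩ := hQ2 σ h3 x'
        exact ⟨n, hn, hnx⟩
      rw [(Subgroup.isClosed_topologicalClosure _).closure_eq] at hcl
      exact hcl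
    · refine Subgroup.topologicalClosure_minimal _ (Subgroup.normalClosure_le_normal ?_) ?_
      · rintro _ ⟨σ, rfl⟩
        exact htriv σ
      · rw [MonoidHom.coe_ker]
        exact isClosed_singleton.preimage (continuous_autWhisker H (H' ⋙ F''))

end three

end Groth.Agent.Lib.Helper9.Gal
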