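import Groth.Agent.Lib.Helper9.Gal1
import Mathlib.CategoryTheory.Galois.Prorepresentability
import Mathlib.CategoryTheory.CofilteredSystem

universe u v w
open CategoryTheory Limits PreGaloisCategory

namespace Groth.Agent.Lib.Helper9.Gal

section gen
variable {C : Type u} [Category.{v} C] [GaloisCategory C] (G : C ⥤ FintypeCat.{w})

lemma prod_ext_of_preserves [PreservesLimitsOfShape (Discrete WalkingPair) G] {X Y : C}
    (z z' : G.obj (X ⨯ Y)) (h1 : G.map prod.fst z = G.map prod.fst z')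
    (h2 : G.map prod.snd z = G.map prod.snd z') : z = z' := by
  have hl : IsLimit (BinaryFan.mk (G.map (prod.fst : X ⨯ Y ⟶ X)) (G.map prod.snd)) :=
    mapIsLimitOfPreservesOfIsLimit G _ _ (prodIsProd X Y)
  have := BinaryFan.IsLimit.hom_ext hl
    (f := FintypeCat.homMk (X := FintypeCat.of PUnit.{w+1}) (fun _ => z))
    (g := FintypeCat.homMk (X := FintypeCat.of PUnit.{w+1}) (fun _ => z'))
    (by ext; exact h1) (by ext; exact h2)
  exact congrArg (fun k => k PUnit.unit) this

lemma exists_prod_of_preserves [PreservesLimitsOfShape (Discrete WalkingPair) G] {X Y : C}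
    (x : G.obj X) (y : G.obj Y) :
    ∃ z : G.obj (X ⨯ Y), G.map prod.fst z = x ∧ G.map prod.snd z = y := by
  have hl : IsLimit (BinaryFan.mk (G.map (prod.fst : X ⨯ Y ⟶ X)) (G.map prod.snd)) :=
    mapIsLimitOfPreservesOfIsLimit G _ _ (prodIsProd X Y)
  obtain ⟨l, hl1, hl2⟩ := BinaryFan.IsLimit.lift' hl
    (FintypeCat.homMk (X := FintypeCat.of PUnit.{w+1}) (fun _ => x))
    (FintypeCat.homMk (X := FintypeCat.of PUnit.{w+1}) (fun _ => y))
  exact ⟨l PUnit.unit, congrArg (fun k => k PUnit.unit) hl1, congrArg (fun k => k PUnit.unit) hl2⟩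

lemma exists_equalizer_of_preserves [PreservesLimitsOfShape WalkingParallelPair G] {X Y : C}
    (f g : X ⟶ Y) (x : G.obj X) (h : G.map f x = G.map g x) :
    ∃ z : G.obj (equalizer f g), G.map (equalizer.ι f g) z = x := by
  have hw : G.map (equalizer.ι f g) ≫ G.map f = G.map (equalizer.ι f g) ≫ G.map g := by
    rw [← G.map_comp, equalizer.condition, G.map_comp]
  have hl : IsLimit (Fork.ofι (G.map (equalizer.ι f g)) hw) :=
    isLimitForkMapOfIsLimit G _ (equalizerIsEqualizer f g)
  obtain ⟨l, hl1⟩ := Fork.IsLimit.lift' hl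
    (FintypeCat.homMk (X := FintypeCat.of PUnit.{w+1}) (fun _ => x)) (by ext; exact h)
  exact ⟨l PUnit.unit, congrArg (fun k => k PUnit.unit) hl1⟩

lemma sigma_surj_of_preserves {n : ℕ} [PreservesColimitsOfShape (Discrete (Fin n)) G]
    (f : Fin n → C) (z : G.obj (∐ f)) :
    ∃ (i : Fin n) (t : G.obj (f i)), G.map (Sigma.ι f i) t = z := by
  obtain ⟨⟨j⟩, a, ha⟩ := Limits.FintypeCat.jointly_surjective
    (Discrete.functor f ⋙ G) _
    (Limits.isColimitOfPreserves G (coproductIsCoproduct f)) z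
  exact ⟨j, a, ha⟩

lemma sigma_inj_of_preserves {n : ℕ} [PreservesColimitsOfShape (Discrete (Fin n)) G]
    (f : Fin n → C) {i j : Fin n} (t : G.obj (f i)) (t' : G.obj (f j))
    (h : G.map (Sigma.ι f i) t = G.map (Sigma.ι f j) t') :
    (⟨i, t⟩ : Σ i, G.obj (f i)) = ⟨j, t'⟩ := by
  have hc : IsColimit (Cofan.mk (G.obj (∐ f)) (fun i => G.map (Sigma.ι f i))) :=
    (isColimitMapCoconeCofanMkEquiv _ _ _) (isColimitOfPreserves G (coproductIsCoproduct f))
  let d : G.obj (∐ f) ⟶ FintypeCat.of (Σ i, G.obj (f i)) :=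
    Cofan.IsColimit.desc hc (fun i => FintypeCat.homMk (X := G.obj (f i)) (Y := FintypeCat.of (Σ i, G.obj (f i))) (fun t => ⟨i, t⟩))
  have hd : ∀ (i : Fin n) (t : G.obj (f i)), d (G.map (Sigma.ι f i) t) = ⟨i, t⟩ := by
    intro i t
    have := Cofan.IsColimit.fac hc (fun i => FintypeCat.homMk (X := G.obj (f i)) (Y := FintypeCat.of (Σ i, G.obj (f i))) (fun t => ⟨i, t⟩)) i
    exact congrArg (fun k => k t) this
  rw [← hd i t, ← hd j t', h]

lemma map_desc_fst {A X : C} {n : ℕ} (e : Fin n → (A ⟶ X)) (i : Fin n) (t : G.obj A) :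
    G.map prod.fst (G.map (Sigma.desc (fun i : Fin n => prod.lift (𝟙 A) (e i)))
      (G.map (Sigma.ι (fun _ : Fin n => A) i) t)) = t := by
  rw [← FintypeCat.comp_apply, ← FintypeCat.comp_apply, ← G.map_comp, ← G.map_comp,
    Sigma.ι_desc_assoc, prod.lift_fst, G.map_id, FintypeCat.id_apply]

lemma map_desc_snd {A X : C} {n : ℕ} (e : Fin n → (A ⟶ X)) (i : Fin n) (t : G.obj A) :
    G.map prod.snd (G.map (Sigma.desc (fun i : Fin n => prod.lift (𝟙 A) (e i)))
      (G.map (Sigma.ι (fun _ : Fin n => A) i) t)) = G.map (e i) t := by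
  rw [← FintypeCat.comp_apply, ← FintypeCat.comp_apply, ← G.map_comp, ← G.map_comp,
    Sigma.ι_desc_assoc, prod.lift_snd]

end gen

section uniq
variable {C : Type u} [Category.{v} C] [GaloisCategory C]
    (F : C ⥤ FintypeCat.{w}) [FiberFunctor F]

lemma isIso_sigma_desc {A X : C} [IsGalois A] (a : F.obj A)
    (hbij : Function.Bijective (fun f : A ⟶ X => F.map f a)) {n : ℕ} (e : Fin n ≃ (A ⟶ X)) :
    IsIso (Sigma.desc (fun i : Fin n => prod.lift (𝟙 A) (e i)) :
      (∐ fun _ : Fin n => A) ⟶ A ⨯ X) := by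
  have hb : Function.Bijective
      (F.map (Sigma.desc (fun i : Fin n => prod.lift (𝟙 A) (e i)) :
        (∐ fun _ : Fin n => A) ⟶ A ⨯ X)) := by
    constructor
    · intro p p' hpp'
      obtain ⟨i, t, rfl⟩ := sigma_surj_of_preserves F _ p
      obtain ⟨j, t', rfl⟩ := sigma_surj_of_preserves F _ p'
      have h1 := congrArg (F.map prod.fst) hpp'
      rw [map_desc_fst, map_desc_fst] at h1
      subst h1
      have h2 := congrArg (F.map prod.snd) hpp'
      rw [map_desc_snd, map_desc_snd] at h2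
      have h3 := evaluation_injective_of_isConnected F A X t h2
      rw [e.injective h3]
    · intro z
      obtain ⟨φ, hφ⟩ := (evaluation_aut_bijective_of_isGalois F A a).surjective (F.map prod.fst z)
      obtain ⟨f', hf'⟩ := hbij.surjective (F.map prod.snd z)
      have hf : F.map (φ.inv ≫ f') (F.map prod.fst z) = F.map prod.snd z := by
        change F.map f' a = _ at hf'
        change F.map φ.hom a = _ at hφ
        have hcomp : φ.hom ≫ φ.inv ≫ f' = f' := Iso.hom_inv_id_assoc (φ : A ≅ A) f'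
        rw [← hφ, ← FintypeCat.comp_apply, ← F.map_comp, hcomp, hf']
      refine ⟨F.map (Sigma.ι (fun _ : Fin n => A) (e.symm (φ.inv ≫ f'))) (F.map prod.fst z), ?_⟩
      apply prod_ext_of_preserves F
      · rw [map_desc_fst]
      · rw [map_desc_snd, e.apply_symm_apply, hf]
  have : IsIso (F.map (Sigma.desc (fun i : Fin n => prod.lift (𝟙 A) (e i)) :
        (∐ fun _ : Fin n => A) ⟶ A ⨯ X)) := (ConcreteCategory.isIso_iff_bijective _).mpr hb
  exact isIso_of_reflects_iso _ F

variable (F' : C ⥤ FintypeCat.{w}) [PreservesFiniteLimits F']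
    [PreservesColimitsOfShape (Discrete WalkingPair) F']

lemma isEmpty_obj_initial : IsEmpty (F'.obj (⊥_ C)) := by
  constructor
  intro t
  have hc : IsColimit (BinaryCofan.mk (F'.map (coprod.inl : ⊥_ C ⟶ (⊥_ C) ⨿ (⊥_ C)))
      (F'.map coprod.inr)) :=
    mapIsColimitOfPreservesOfIsColimit F' _ _ (coprodIsCoprod _ _)
  obtain ⟨d, hd1, hd2⟩ := BinaryCofan.IsColimit.desc' hc
    (FintypeCat.homMk (X := F'.obj (⊥_ C)) (Y := FintypeCat.of (ULift.{w} Bool)) (fun _ => ⟨true⟩))
    (FintypeCat.homMk (X := F'.obj (⊥_ C)) (Y := FintypeCat.of (ULift.{w} Bool)) (fun _ => ⟨false⟩))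
  have e : (coprod.inl : ⊥_ C ⟶ (⊥_ C) ⨿ (⊥_ C)) = coprod.inr := initialIsInitial.hom_ext _ _
  have h1 : d (F'.map (coprod.inl : ⊥_ C ⟶ (⊥_ C) ⨿ (⊥_ C)) t) = ⟨true⟩ := congrArg (fun k => k t) hd1
  have h2 : d (F'.map (coprod.inr : ⊥_ C ⟶ (⊥_ C) ⨿ (⊥_ C)) t) = ⟨false⟩ := congrArg (fun k => k t) hd2
  clear hd1 hd2
  have h3 : F'.map (coprod.inl : ⊥_ C ⟶ (⊥_ C) ⨿ (⊥_ C)) t = F'.map coprod.inr t := by rw [e]
  rw [h3, h2] at h1
  simpa using congrArg ULift.down h1

noncomputable def isInitialObjInitial : IsInitial (F'.obj (⊥_ C)) :=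
  have := isEmpty_obj_initial F'
  IsInitial.ofUniqueHom (fun Y => FintypeCat.homMk (fun t => isEmptyElim t))
    (fun Y m => by ext t; exact isEmptyElim t)

lemma preservesInitial' : PreservesColimitsOfShape (Discrete PEmpty.{1}) F' := by
  have : PreservesColimit (Functor.empty.{0} C) F' :=
    preservesInitial_of_iso F' (initialIsInitial.uniqueUpToIso (isInitialObjInitial F'))
  exact preservesColimitsOfShape_pempty_of_preservesInitial F'

lemma preservesFin' (n : ℕ) : PreservesColimitsOfShape (Discrete (Fin n)) F' := by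
  have := preservesInitial' F'
  exact preservesShape_fin_of_preserves_binary_and_initial F' n

lemma eval_injective' {A X : C} [IsConnected A] (a' : F'.obj A) (f g : A ⟶ X)
    (h : F'.map f a' = F'.map g a') : f = g := by
  obtain ⟨z, hz⟩ := exists_equalizer_of_preserves F' f g a' h
  have : IsIso (equalizer.ι f g) := by
    apply IsConnected.noTrivialComponent _ (equalizer.ι f g)
    intro hinit
    have i : equalizer f g ≅ ⊥_ C := hinit.uniqueUpToIso initialIsInitial
    exact (isEmpty_obj_initial F').false (F'.map i.hom z)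
  exact (cancel_epi (equalizer.ι f g)).mp (equalizer.condition f g)

lemma eval_bijective' {A X : C} [IsGalois A] (a : F.obj A)
    (hbij : Function.Bijective (fun f : A ⟶ X => F.map f a)) (a' : F'.obj A) :
    Function.Bijective (fun f : A ⟶ X => F'.map f a') := by
  have e : Fin (Nat.card (A ⟶ X)) ≃ (A ⟶ X) := (Finite.equivFin (A ⟶ X)).symm
  have := isIso_sigma_desc F a hbij e
  have hb : Function.Bijective (F'.map (Sigma.desc (fun i => prod.lift (𝟙 A) (e i)) :
      (∐ fun _ : Fin (Nat.card (A ⟶ X)) => A) ⟶ A ⨯ X)) :=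
    ConcreteCategory.bijective_of_isIso _
  have := preservesFin' F' (Nat.card (A ⟶ X))
  constructor
  · intro f g hfg
    exact eval_injective' F' a' f g hfg
  · intro x'
    obtain ⟨z, hz1, hz2⟩ := exists_prod_of_preserves F' a' x'
    obtain ⟨p, rfl⟩ := hb.surjective z
    obtain ⟨i, t', rfl⟩ := sigma_surj_of_preserves F' _ p
    rw [map_desc_fst] at hz1
    rw [map_desc_snd] at hz2
    subst hz1
    exact ⟨e i, hz2⟩

lemma isCofilteredOrEmpty_pointed : IsCofilteredOrEmpty (PointedGaloisObject F) where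
  cone_objs := fun ⟨A, a, _⟩ ⟨B, b, _⟩ ↦ by
    obtain ⟨Z, f, z, hgal, hfz⟩ := exists_hom_from_galois_of_fiber F (A ⨯ B)
      <| (fiberBinaryProductEquiv F A B).symm (a, b)
    refine ⟨⟨Z, z, hgal⟩, ⟨f ≫ prod.fst, ?_⟩, ⟨f ≫ prod.snd, ?_⟩, trivial⟩
    · simp only [F.map_comp, hfz, FintypeCat.comp_apply, fiberBinaryProductEquiv_symm_fst_apply]
    · simp only [F.map_comp, hfz, FintypeCat.comp_apply, fiberBinaryProductEquiv_symm_snd_apply]
  cone_maps := fun ⟨A, a, _⟩ ⟨B, b, _⟩ ⟨f, hf⟩ ⟨g, hg⟩ ↦ by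
    obtain ⟨Z, h, z, hgal, hhz⟩ := exists_hom_from_galois_of_fiber F A a
    refine ⟨⟨Z, z, hgal⟩, ⟨h, hhz⟩, PointedGaloisObject.hom_ext ?_⟩
    apply evaluation_injective_of_isConnected F Z B z
    simp [hhz, hf, hg]

theorem nonempty_iso_of_preserves
    (h : ∀ X : C, IsEmpty (F'.obj X) → Nonempty (IsInitial X)) : Nonempty (F' ≅ F) := by
  have hne : ∀ A : C, IsConnected A → Nonempty (F'.obj A) := by
    intro A hA
    by_contra hcon
    obtain ⟨hi⟩ := h A (not_nonempty_iff.mp hcon)
    exact hA.notInitial hi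
  have := isCofilteredOrEmpty_pointed F
  let D : PointedGaloisObject F ⥤ Type w := PointedGaloisObject.incl F ⋙ F' ⋙ FintypeCat.incl
  have : ∀ j, Finite (D.obj j) := fun j => inferInstanceAs (Finite (F'.obj j.obj))
  have : ∀ j, Nonempty (D.obj j) := fun j => hne j.obj inferInstance
  obtain ⟨s, hs⟩ := nonempty_sections_of_finite_cofiltered_system D
  have hs' : ∀ {A B : PointedGaloisObject F} (f : A ⟶ B),
      F'.map f.val (show F'.obj A.obj from s A) = (show F'.obj B.obj from s B) := fun f => hs f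
  -- well-definedness
  have key : ∀ (A B : PointedGaloisObject F) (X : C) (f : A.obj ⟶ X) (g : B.obj ⟶ X),
      F.map f A.pt = F.map g B.pt →
      F'.map f (show F'.obj A.obj from s A) = F'.map g (show F'.obj B.obj from s B) := by
    intro A B X f g hfg
    obtain ⟨W, p, q, -⟩ := IsCofilteredOrEmpty.cone_objs A B
    have h1 : p.val ≫ f = q.val ≫ g := by
      apply evaluation_injective_of_isConnected F W.obj X W.pt
      show F.map (p.val ≫ f) W.pt = F.map (q.val ≫ g) W.pt
      rw [F.map_comp, F.map_comp, FintypeCat.comp_apply, FintypeCat.comp_apply, p.comp, q.comp, hfg]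
    rw [← hs' p, ← hs' q, ← FintypeCat.comp_apply, ← FintypeCat.comp_apply, ← F'.map_comp,
      ← F'.map_comp, h1]
  -- choice of presentation of fibre points
  have hex : ∀ (X : C) (x : F.obj X), ∃ (A : PointedGaloisObject F) (f : A.obj ⟶ X),
      F.map f A.pt = x := by
    intro X x
    obtain ⟨A, f, a, hA, hfa⟩ := exists_hom_from_galois_of_fiber F X x
    exact ⟨⟨A, a, hA⟩, f, hfa⟩
  choose cA cf hc using hex
  let η : F ⟶ F' :=
    { app := fun X => FintypeCat.homMk (fun x => F'.map (cf X x) (show F'.obj (cA X x).obj from s (cA X x)))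
      naturality := by
        intro X Y g
        ext x
        show F'.map (cf Y (F.map g x)) (show F'.obj (cA Y (F.map g x)).obj from s (cA Y (F.map g x))) =
          F'.map g (F'.map (cf X x) (show F'.obj (cA X x).obj from s (cA X x)))
        rw [← FintypeCat.comp_apply, ← F'.map_comp]
        apply key
        rw [hc, F.map_comp, FintypeCat.comp_apply, hc] }
  have hη : ∀ (A : PointedGaloisObject F) (X : C) (f : A.obj ⟶ X),
      η.app X (F.map f A.pt) = F'.map f (show F'.obj A.obj from s A) := by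
    intro A X f
    show F'.map (cf X (F.map f A.pt)) _ = _
    apply key
    rw [hc]
  have hiso : ∀ X : C, IsIso (η.app X) := by
    intro X
    obtain ⟨A, a, hA, hbij⟩ := exists_galois_representative F X
    have hb' := eval_bijective' F F' a hbij (show F'.obj A from s ⟨A, a, hA⟩)
    have hcomp : (η.app X : F.obj X → F'.obj X) ∘ (fun f : A ⟶ X => F.map f a) =
        fun f : A ⟶ X => F'.map f (show F'.obj A from s ⟨A, a, hA⟩) := by
      funext f
      exact hη ⟨A, a, hA⟩ X f
    rw [← hcomp] at hb'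
    exact (ConcreteCategory.isIso_iff_bijective _).mpr
      ((Function.Bijective.of_comp_iff _ hbij).mp hb')
  have : IsIso η := NatIso.isIso_of_isIso_app η
  exact ⟨(asIso η).symm⟩

end uniq

end Groth.Agent.Lib.Helper9.Gal
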