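import Groth.Agent.Lib.Helper9.Gal5
import Groth.Agent.Lib.Helper9.Gal4

universe u v w
open CategoryTheory Limits PreGaloisCategory

namespace Groth.Agent.Lib.Helper9.Gal

section one
variable {C : Type u} [Category.{v} C] [GaloisCategory C] (F : C ⥤ FintypeCat.{w}) [FiberFunctor F]

/-- transitive nonempty fibre implies connected -/
lemma isConnected_of_pretransitive (Y : C) [Nonempty (F.obj Y)]
    (htr : ∀ x y : F.obj Y, ∃ σ : Aut F, σ • x = y) : IsConnected Y := by
  constructor
  · intro hinit
    obtain ⟨y⟩ := ‹Nonempty (F.obj Y)›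
    exact not_initial_of_inhabited F y hinit
  · intro Z i _ hZ
    have hne : Nonempty (F.obj Z) := (not_initial_iff_fiber_nonempty F Z).mp hZ
    obtain ⟨z⟩ := hne
    have hsurj : Function.Surjective (F.map i) := by
      intro y
      obtain ⟨σ, hσ⟩ := htr (F.map i z) y
      exact ⟨σ • z, by rw [← mulAction_naturality, hσ]⟩
    have hbij : Function.Bijective (F.map i) := ⟨map_injective_of_mono F i, hsurj⟩
    have : IsIso (F.map i) := (ConcreteCategory.isIso_iff_bijective _).mpr hbij
    exact isIso_of_reflects_iso i F

include F in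
lemma isConnected_top : IsConnected (⊤_ C) := by
  have : Nonempty (F.obj (⊤_ C)) := nonempty_fiber_top F
  apply isConnected_of_pretransitive F
  intro x y
  exact ⟨1, Subsingleton.elim _ _⟩

theorem nonempty_iso_of_preservesEpi (F' : C ⥤ FintypeCat.{w})
    [PreservesFiniteLimits F'] [PreservesColimitsOfShape (Discrete WalkingPair) F']
    [F'.PreservesEpimorphisms] : Nonempty (F' ≅ F) := by
  apply nonempty_iso_of_preserves F F'
  intro X hX
  by_contra hcon
  have hne : Nonempty (F.obj X) :=
    (not_initial_iff_fiber_nonempty F X).mp (fun hi => hcon ⟨hi⟩)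
  obtain ⟨x⟩ := hne
  obtain ⟨A, i, a, -, hA, -⟩ := fiber_in_connected_component F X x
  have : IsConnected (⊤_ C) := isConnected_top F
  have : Epi (terminal.from A) := epi_of_nonempty_of_isConnected F (terminal.from A)
  have hepi : Epi (F'.map (terminal.from A)) := inferInstance
  have hsurj : Function.Surjective (F'.map (terminal.from A)) :=
    surjective_of_epi (FintypeCat.incl.map (F'.map (terminal.from A)))
  have hT : IsTerminal (F'.obj (⊤_ C)) := terminalIsTerminal.isTerminalObj F'
  let t : F'.obj (⊤_ C) := (IsTerminal.from hT (FintypeCat.of PUnit.{w+1})) PUnit.unit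
  obtain ⟨a', -⟩ := hsurj t
  exact hX.false (F'.map i a')

theorem nonempty_iso_of_exact (F' : C ⥤ FintypeCat.{w})
    [PreservesFiniteLimits F'] [PreservesFiniteColimits F'] : Nonempty (F' ≅ F) :=
  nonempty_iso_of_preservesEpi F F'

end one

section two
variable {C D : Type u} [Category.{v} C] [Category.{v} D] [GaloisCategory C] [GaloisCategory D]
  (H : C ⥤ D) [PreservesFiniteLimits H] [PreservesFiniteColimits H]

lemma preservesQuot {G : Type*} [Group G] [Finite G] :
    PreservesColimitsOfShape (SingleObj G) H := by
  choose G' hg hf he using Finite.exists_type_univ_nonempty_mulEquiv.{_, 0} G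
  exact Limits.preservesColimitsOfShape_of_equiv he.some.toSingleObjEquiv.symm H

lemma fiberFunctor_comp (F' : D ⥤ FintypeCat.{w}) [FiberFunctor F'] : FiberFunctor (H ⋙ F') := by
  let F₀ : C ⥤ FintypeCat.{w} := GaloisCategory.getFiberFunctor C ⋙ FintypeCat.uSwitch.{v, w}
  have : FiberFunctor F₀ := FiberFunctor.comp_right _
  have hq : ∀ (G : Type v) [Group G] [Finite G], PreservesColimitsOfShape (SingleObj G) (H ⋙ F') := by
    intro G _ _
    have := preservesQuot H (G := G)
    exact comp_preservesColimitsOfShape H F'
  have hfc : PreservesFiniteCoproducts (H ⋙ F') := inferInstance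
  have hfl : PreservesFiniteLimits (H ⋙ F') := comp_preservesFiniteLimits H F'
  obtain ⟨i⟩ := nonempty_iso_of_preservesEpi F₀ (H ⋙ F')
  have hr : (H ⋙ F').ReflectsIsomorphisms := reflectsIsomorphisms_of_iso i.symm
  exact { preservesQuotientsByFiniteGroups := hq, reflectsIsos := hr }

end two

section three
variable {C C' : Type u} [Category.{v} C] [Category.{v} C'] [GaloisCategory C] [GaloisCategory C']
  (H : C ⥤ C') (F' : C' ⥤ FintypeCat.{w}) [FiberFunctor F'] [FiberFunctor (H ⋙ F')]

lemma surjective_of_preservesConnected
    (hc : ∀ X : C, IsConnected X → IsConnected (H.obj X)) :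
    Function.Surjective (Pi1X.autWhisker H F') := by
  intro g
  have : g ∈ closure (Set.range (Pi1X.autWhisker H F')) := by
    apply mem_closure_of_forall
    intro X _ x
    have := hc X inferInstance
    obtain ⟨σ, hσ⟩ := MulAction.exists_smul_eq (Aut F') (show F'.obj (H.obj X) from x)
      (show F'.obj (H.obj X) from g • x)
    exact ⟨_, ⟨σ, rfl⟩, hσ⟩
  rw [(isClosed_range_autWhisker H F').closure_eq] at this
  exact this

include F' in
lemma preservesConnected_of_full [H.Full] (X : C) [IsConnected X] : IsConnected (H.obj X) := by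
  have : Nonempty (F'.obj (H.obj X)) := nonempty_fiber_of_isConnected (H ⋙ F') X
  apply isConnected_of_pretransitive F'
  intro x y
  obtain ⟨σ, hσ⟩ := exists_autWhisker_smul_eq H F' (X := X) x y
  exact ⟨σ, hσ⟩

end three

section four
variable {C D : Type u} [Category.{v} C] [Category.{v} D] [GaloisCategory C] [GaloisCategory D]
  (H : C ⥤ D) [PreservesFiniteLimits H] [PreservesFiniteColimits H]

theorem fullyFaithful_iff_preservesConnected :
    (H.Full ∧ H.Faithful) ↔ ∀ X : C, IsConnected X → IsConnected (H.obj X) := by
  let F' : D ⥤ FintypeCat.{v} := GaloisCategory.getFiberFunctor D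
  have : FiberFunctor (H ⋙ F') := fiberFunctor_comp H F'
  constructor
  · rintro ⟨hfull, -⟩ X hX
    exact preservesConnected_of_full H F' X
  · intro hc
    exact (surjective_iff H F').mp (surjective_of_preservesConnected H F' hc)

end four

end Groth.Agent.Lib.Helper9.Gal
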