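import Groth.Agent.Lib.Helper9.Gal6

universe u v w
open CategoryTheory Limits PreGaloisCategory

namespace Groth.Agent.Lib.Helper9.Gal

section quot2
variable {G : Type*} {α : Type*} [Group G] [MulAction G α] [MulAction.IsPretransitive G α]
  (U : Subgroup G) (a₀ : α)

/-- the relation on a transitive `G`-set with base point `a₀` induced by `g ↦ g U`, valid when `U`
contains the stabilizer of `a₀` -/
def cosetSetoid (hU : MulAction.stabilizer G a₀ ≤ U) : Setoid α where
  r x y := ∃ g g' : G, g • a₀ = x ∧ g' • a₀ = y ∧ g⁻¹ * g' ∈ U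
  iseqv := by
    refine ⟨?_, ?_, ?_⟩
    · intro x
      obtain ⟨g, hg⟩ := MulAction.exists_smul_eq G a₀ x
      exact ⟨g, g, hg, hg, by simp [U.one_mem]⟩
    · rintro x y ⟨g, g', hg, hg', h⟩
      refine ⟨g', g, hg', hg, ?_⟩
      have := U.inv_mem h
      simpa using this
    · rintro x y z ⟨g, g', hg, hg', h⟩ ⟨k, k', hk, hk', h'⟩
      refine ⟨g, k', hg, hk', ?_⟩
      have h1 : g'⁻¹ * k ∈ U := by
        apply hU
        rw [MulAction.mem_stabilizer_iff, mul_smul, hk, ← hg', inv_smul_smul]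
      have : g⁻¹ * k' = (g⁻¹ * g') * (g'⁻¹ * k) * (k⁻¹ * k') := by group
      rw [this]
      exact U.mul_mem (U.mul_mem h h1) h'

variable (hU : MulAction.stabilizer G a₀ ≤ U)

def cosetQuotAction : MulAction G (Quotient (cosetSetoid U a₀ hU)) where
  smul k := Quotient.map (k • ·) (by
    rintro x y ⟨g, g', hg, hg', h⟩
    refine ⟨k * g, k * g', by rw [mul_smul, hg], by rw [mul_smul, hg'], ?_⟩
    have : (k * g)⁻¹ * (k * g') = g⁻¹ * g' := by group
    rw [this]
    exact h)
  one_smul := by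
    rintro ⟨x⟩
    show Quotient.mk _ ((1 : G) • x) = Quotient.mk _ x
    rw [one_smul]
  mul_smul := by
    rintro g h ⟨x⟩
    show Quotient.mk _ ((g * h) • x) = Quotient.mk _ (g • h • x)
    rw [mul_smul]

lemma cosetQuot_mk_eq_iff (k : G) :
    Quotient.mk (cosetSetoid U a₀ hU) (k • a₀) = Quotient.mk _ a₀ ↔ k ∈ U := by
  rw [Quotient.eq]
  constructor
  · rintro ⟨g, g', hg, hg', h⟩
    have h1 : k⁻¹ * g ∈ U := by
      apply hU
      rw [MulAction.mem_stabilizer_iff, mul_smul, hg, inv_smul_smul]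
    have h2 : g' ∈ U := hU (by rwa [MulAction.mem_stabilizer_iff])
    have : k⁻¹ = (k⁻¹ * g) * (g⁻¹ * g') * g'⁻¹ := by group
    have h3 : k⁻¹ ∈ U := by
      rw [this]
      exact U.mul_mem (U.mul_mem h1 h) (U.inv_mem h2)
    simpa using U.inv_mem h3
  · intro hk
    exact ⟨k, 1, rfl, one_smul _ _, by simpa using U.inv_mem hk⟩

end quot2

section one
variable {C : Type u} [Category.{v} C] [GaloisCategory C] (F : C ⥤ FintypeCat.{w}) [FiberFunctor F]

lemma exists_pointed_of_open (U : Subgroup (Aut F)) (hUo : IsOpen (U : Set (Aut F))) :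
    ∃ (X : C) (_ : IsConnected X) (a : F.obj X), MulAction.stabilizer (Aut F) a = U := by
  have hU1 : (U : Set (Aut F)) ∈ nhds (1 : Aut F) := hUo.mem_nhds U.one_mem
  obtain ⟨A, -, hA⟩ := (nhds_one_has_basis_stabilizers F).mem_iff.mp hU1
  have hU : MulAction.stabilizer (Aut F) A.pt ≤ U := hA
  let Q := Quotient (cosetSetoid U A.pt hU)
  let _ : MulAction (Aut F) (FintypeCat.of Q) := cosetQuotAction U A.pt hU
  have hmk : ∀ (g : Aut F) (x : F.obj A.obj),
      (g • (Quotient.mk (cosetSetoid U A.pt hU) x : FintypeCat.of Q)) =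
        Quotient.mk (cosetSetoid U A.pt hU) (g • x) := fun g x => rfl
  obtain ⟨X, e, he⟩ := exists_obj_of_mulAction F (FintypeCat.of Q) (by
    intro q
    obtain ⟨x, rfl⟩ := Quotient.exists_rep (s := cosetSetoid U A.pt hU) q
    refine Subgroup.isOpen_mono ?_ (stabilizer_isOpen (Aut F) x)
    intro g hg
    rw [MulAction.mem_stabilizer_iff] at hg ⊢
    rw [hmk, hg])
  have hne : Nonempty (F.obj X) := ⟨e.symm (Quotient.mk _ A.pt)⟩
  have hconn : IsConnected X := by
    apply isConnected_of_pretransitive F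
    intro x y
    obtain ⟨x0, hx0⟩ := Quotient.exists_rep (s := cosetSetoid U A.pt hU) (e x)
    obtain ⟨y0, hy0⟩ := Quotient.exists_rep (s := cosetSetoid U A.pt hU) (e y)
    obtain ⟨σ, hσ⟩ := MulAction.exists_smul_eq (Aut F) x0 y0
    refine ⟨σ, e.injective ?_⟩
    rw [he, ← hx0, hmk, hσ, hy0]
  refine ⟨X, hconn, e.symm (Quotient.mk _ A.pt), ?_⟩
  ext k
  rw [MulAction.mem_stabilizer_iff, ← cosetQuot_mk_eq_iff U A.pt hU k, ← hmk]
  constructor
  · intro h
    have := congrArg e h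
    rw [he, e.apply_symm_apply] at this
    exact this
  · intro h
    apply e.injective
    rw [he, e.apply_symm_apply]
    exact h

lemma exists_open_subgroup_of_closed (R : Subgroup (Aut F)) (hR : IsClosed (R : Set (Aut F)))
    (σ : Aut F) (hσ : σ ∉ R) :
    ∃ U : Subgroup (Aut F), IsOpen (U : Set (Aut F)) ∧ R ≤ U ∧ σ ∉ U := by
  let W : Set (Aut F) := {τ | σ * τ ∉ R}
  have hW : IsOpen W := hR.isOpen_compl.preimage (continuous_const.mul continuous_id)
  have hW1 : W ∈ nhds (1 : Aut F) := hW.mem_nhds (by simpa [W] using hσ)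
  obtain ⟨A, -, hA⟩ := (nhds_one_has_basis_stabilizers F).mem_iff.mp hW1
  have hN : (MulAction.stabilizer (Aut F) A.pt).Normal := stabilizer_normal_of_isGalois F A.obj A.pt
  refine ⟨R ⊔ MulAction.stabilizer (Aut F) A.pt,
    Subgroup.isOpen_mono le_sup_right (stabilizer_isOpen (Aut F) A.pt), le_sup_left, ?_⟩
  intro hmem
  rw [← SetLike.mem_coe, Subgroup.mul_normal] at hmem
  obtain ⟨r, hr, n, hn, hrn⟩ := hmem
  have h1 : n⁻¹ ∈ W := hA ((MulAction.stabilizer (Aut F) A.pt).inv_mem hn)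
  apply h1
  have : σ * n⁻¹ = r := by rw [← hrn]; group
  rw [this]
  exact hr

end one

section three
variable {C C' C'' : Type u} [Category.{v} C] [Category.{v} C'] [Category.{v} C'']
    [GaloisCategory C] [GaloisCategory C'] [GaloisCategory C'']
    (H : C ⥤ C') (H' : C' ⥤ C'')
    (F'' : C'' ⥤ FintypeCat.{w}) [FiberFunctor F''] [FiberFunctor (H' ⋙ F'')]
    [FiberFunctor (H ⋙ (H' ⋙ F''))]

theorem ker_le_range_iff :
    (Pi1X.autWhisker H (H' ⋙ F'')).ker ≤ (Pi1X.autWhisker H' F'').range ↔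
      ∀ (X' : C') (a' : (H' ⋙ F'').obj X'), IsConnected X' →
        (∃ s : ⊤_ C'' ⟶ H'.obj X', ∀ t : F''.obj (⊤_ C''), F''.map s t = a') →
          ∃ (X : C) (Y' : C') (i : Y' ⟶ H.obj X) (q : Y' ⟶ X'), Mono i ∧ IsConnected Y' := by
  constructor
  · intro hle X' a' hX' hs
    rw [← ker_le_stabilizer_iff H (H' ⋙ F'') a']
    exact hle.trans ((range_le_stabilizer_iff H' F'' a').mpr hs)
  · intro hall σ hσ
    by_contra hσR
    obtain ⟨U, hUo, hRU, hσU⟩ := exists_open_subgroup_of_closed (H' ⋙ F'')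
      (Pi1X.autWhisker H' F'').range (by
        rw [MonoidHom.coe_range]
        exact isClosed_range_autWhisker H' F'') σ hσR
    obtain ⟨X', hX', a', ha'⟩ := exists_pointed_of_open (H' ⋙ F'') U hUo
    have hs := (range_le_stabilizer_iff H' F'' a').mp (ha' ▸ hRU)
    have h2 := (ker_le_stabilizer_iff H (H' ⋙ F'') a').mpr (hall X' a' hX' hs)
    exact hσU (ha' ▸ h2 hσ)

end three

end Groth.Agent.Lib.Helper9.Gal
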