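import Groth.Agent.Lib.Helper9.FlatDom

set_option autoImplicit false
set_option linter.style.haveILetI false
set_option linter.unusedSectionVars false
universe u v w
open CategoryTheory CategoryTheory.Limits AlgebraicGeometry TopologicalSpace Opposite Topology

namespace Groth.Agent.Lib.Helper9.GenNhd

section top

variable {X : Type*} [TopologicalSpace X]

lemma isClosed_constructibleTopology_of_isClosed [PrespectralSpace X] {s : Set X}
    (hs : IsClosed s) : IsClosed[constructibleTopology X] s := by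
  rw [← @isOpen_compl_iff X s (constructibleTopology X)]
  obtain ⟨S, hS, h⟩ := PrespectralSpace.isTopologicalBasis.open_eq_sUnion hs.isOpen_compl
  rw [h]
  exact @isOpen_sUnion X (constructibleTopology X) S fun t ht =>
    (hS ht).2.isOpen_constructibleTopology_of_isOpen (hS ht).1

/-- In a spectral space, an open subset `R` of a compact open `T` containing all generizations
of `x` in `T` contains `O ∩ T` for some open neighbourhood `O` of `x`. -/
theorem exists_nhd_inter_subset [CompactSpace X] [QuasiSober X] [PrespectralSpace X]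
    [QuasiSeparatedSpace X] (x : X) {T R : Set X} (hTo : IsOpen T) (hTc : IsCompact T)
    (hR : IsOpen R) (h : ∀ z ∈ T, z ⤳ x → z ∈ R) :
    ∃ O : Set X, IsOpen O ∧ x ∈ O ∧ O ∩ T ⊆ R := by
  by_contra hcon
  push Not at hcon
  let ι := {O : Set X // IsOpen O ∧ IsCompact O ∧ x ∈ O}
  haveI : Nonempty ι := ⟨⟨Set.univ, isOpen_univ, isCompact_univ, trivial⟩⟩
  let e : WithConstructibleTopology X → X := WithTopology.ofTopology
  let t : ι → Set (WithConstructibleTopology X) := fun O => e ⁻¹' (O.1 ∩ T ∩ Rᶜ)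
  have htd : Directed (· ⊇ ·) t := by
    intro O₁ O₂
    refine ⟨⟨O₁.1 ∩ O₂.1, O₁.2.1.inter O₂.2.1,
      QuasiSeparatedSpace.inter_isCompact _ _ O₁.2.1 O₁.2.2.1 O₂.2.1 O₂.2.2.1,
      O₁.2.2.2, O₂.2.2.2⟩, ?_, ?_⟩
    · exact Set.preimage_mono (by intro z hz; exact ⟨⟨hz.1.1.1, hz.1.2⟩, hz.2⟩)
    · exact Set.preimage_mono (by intro z hz; exact ⟨⟨hz.1.1.2, hz.1.2⟩, hz.2⟩)
  have htn : ∀ O, (t O).Nonempty := by
    intro O
    obtain ⟨z, hz⟩ := Set.not_subset.mp (hcon O.1 O.2.1 O.2.2.2)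
    exact ⟨WithTopology.toTopology _ z, hz.1, hz.2⟩
  have htcl : ∀ O, IsClosed (t O) := by
    intro O
    rw [WithTopology.isClosed_iff]
    change IsClosed[constructibleTopology X] (O.1 ∩ T ∩ Rᶜ)
    refine @IsClosed.inter X _ _ (constructibleTopology X)
      (@IsClosed.inter X _ _ (constructibleTopology X) ?_ ?_) ?_
    · exact (FlatDom.isClopen_constructibleTopology
        (O.2.2.1.isConstructible O.2.1)).2
    · exact (FlatDom.isClopen_constructibleTopology (hTc.isConstructible hTo)).2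
    · exact isClosed_constructibleTopology_of_isClosed hR.isClosed_compl
  obtain ⟨w, hw⟩ := IsCompact.nonempty_iInter_of_directed_nonempty_isCompact_isClosed t htd htn
    (fun O => (htcl O).isCompact) htcl
  rw [Set.mem_iInter] at hw
  have hwT : e w ∈ T := (hw ⟨Set.univ, isOpen_univ, isCompact_univ, trivial⟩).1.2
  have hwR : e w ∉ R := (hw ⟨Set.univ, isOpen_univ, isCompact_univ, trivial⟩).2
  refine hwR (h _ hwT ?_)
  rw [specializes_iff_forall_open]
  intro O hO hxO
  obtain ⟨O', ⟨hO'o, hO'c⟩, hxO', hO'O⟩ :=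
    PrespectralSpace.isTopologicalBasis.exists_subset_of_mem_open hxO hO
  exact hO'O (hw ⟨O', hO'o, hO'c, hxO'⟩).1.1

end top

section sch

/-- Scheme version: an open `R ≤ U` containing all generizations of `x` in `U`
contains `N ⊓ U` for some open neighbourhood `N` of `x`, if `U ⟶ X` is quasi-compact. -/
theorem exists_nhd_inf_le {X : Scheme.{u}} (x : X) (U : X.Opens) [QuasiCompact U.ι]
    (R : X.Opens) (h : ∀ z ∈ U, z ⤳ x → z ∈ R) : ∃ N : X.Opens, x ∈ N ∧ N ⊓ U ≤ R := by
  obtain ⟨_, ⟨N₀ : X.Opens, hN₀, rfl⟩, hxN₀, -⟩ :=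
    X.isBasis_affineOpens.exists_subset_of_mem_open (Set.mem_univ x) isOpen_univ
  haveI : IsAffine (N₀ : Scheme.{u}) := hN₀
  let T : (N₀ : Scheme.{u}).Opens := N₀.ι ⁻¹ᵁ U
  let R' : (N₀ : Scheme.{u}).Opens := N₀.ι ⁻¹ᵁ R
  have hTc : IsCompact (T : Set (N₀ : Scheme.{u})) := by
    have h1 : IsCompact ((U : Set X) ∩ N₀) := by
      have := (QuasiCompact.isCompact_preimage (f := U.ι) _ N₀.2 hN₀.isCompact).image
        U.ι.continuous
      convert this using 1
      ext y
      constructor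
      · rintro ⟨hyU, hyN⟩
        exact ⟨⟨y, hyU⟩, hyN, rfl⟩
      · rintro ⟨⟨y', hy'U⟩, hy'N, rfl⟩
        exact ⟨hy'U, hy'N⟩
    have h2 := (N₀.ι.isEmbedding.isInducing.isCompact_preimage_iff
      (K := (U : Set X) ∩ N₀) (by
        rw [Scheme.Opens.range_ι]
        exact Set.inter_subset_right)).mpr h1
    convert h2 using 1
    ext y
    constructor
    · intro hy
      exact ⟨hy, y.2⟩
    · intro hy
      exact hy.1
  obtain ⟨O, hO, hxO, hOT⟩ := exists_nhd_inter_subset (X := (N₀ : Scheme.{u})) ⟨x, hxN₀⟩ T.2 hTc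
    R'.2 (fun z hz hzx => h z.1 hz (hzx.map (f := Subtype.val) continuous_subtype_val))
  refine ⟨N₀.ι ''ᵁ ⟨O, hO⟩, ⟨⟨x, hxN₀⟩, hxO, rfl⟩, ?_⟩
  rintro _ ⟨⟨o, hoO, rfl⟩, hyU⟩
  exact hOT ⟨hoO, hyU⟩

end sch

end Groth.Agent.Lib.Helper9.GenNhd
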