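import Mathlib
import Groth.Agent.Lib.Helper7.HartogsScheme

set_option backward.isDefEq.respectTransparency false
set_option maxHeartbeats 800000
set_option autoImplicit false
set_option linter.unusedSectionVars false
set_option linter.unusedVariables false
universe u
open CategoryTheory CategoryTheory.Limits AlgebraicGeometry Opposite TopologicalSpace

namespace Groth.Agent.Lib.Helper9.Hart

set_option linter.dupNamespace false

/-- `𝒪_S ⟶ f_* 𝒪_X` is bijective on all opens -/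
def Hart {X S : Scheme.{u}} (f : X ⟶ S) : Prop := ∀ U : S.Opens, Function.Bijective (f.app U)

theorem hart_of_basis {X S : Scheme.{u}} (f : X ⟶ S) {ι : Type*} (B : ι → S.Opens)
    (hB : Opens.IsBasis (Set.range B)) (h : ∀ i, Function.Bijective (f.app (B i))) : Hart f := by
  intro U
  let F : TopCat.Sheaf CommRingCat S := S.sheaf
  let G : TopCat.Sheaf CommRingCat S :=
    (TopCat.Sheaf.pushforward CommRingCat f.base).obj X.sheaf
  let φ : F ⟶ G := ⟨f.c⟩
  haveI : IsIso φ := by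
    refine TopCat.Sheaf.isIso_iff_isIso_basis hB (fun i => ?_)
    show IsIso (f.app (B i))
    rw [ConcreteCategory.isIso_iff_bijective]
    exact h i
  have h2 : IsIso ((TopCat.Sheaf.forget CommRingCat S).map φ) := inferInstance
  have h3 : IsIso (f.app U) :=
    NatIso.isIso_app_of_isIso ((TopCat.Sheaf.forget CommRingCat S).map φ) (op U)
  exact (ConcreteCategory.isIso_iff_bijective _).1 h3

theorem hart_of_depth {X : Scheme.{u}} [IsLocallyNoetherian X] (U : X.Opens)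
    (hU : ∀ x : X, x ∉ U → (2 : ℕ∞) ≤ LocCoh.depth (X.presheaf.stalk x) (X.presheaf.stalk x)) :
    Hart U.ι := by
  intro V
  open Groth.Agent.Lib.Helper7.Hartogs in
  have h0 := bijective_res_of_depth U hU V
  have e : V ⊓ U = U.ι ''ᵁ (U.ι ⁻¹ᵁ V) := by
    rw [Scheme.Hom.image_preimage_eq_opensRange_inf, Scheme.Opens.opensRange_ι, inf_comm]
  have key : ∀ (V₁ V₂ : X.Opens) (e : V₁ = V₂) (h₁ : V₁ ≤ V) (h₂ : V₂ ≤ V),
      Function.Bijective (Groth.Agent.Lib.Helper7.Hartogs.res h₁) →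
      Function.Bijective (Groth.Agent.Lib.Helper7.Hartogs.res h₂) := by
    intro V₁ V₂ e h₁ h₂ h
    subst e
    exact h
  exact key _ _ e _ (Set.image_preimage_subset _ _) h0

theorem isBasis_small {S S' : Scheme.{u}} (g : S' ⟶ S) :
    Opens.IsBasis (Set.range (fun i : {UT : S'.Opens // IsAffineOpen UT ∧
      ∃ US : S.Opens, IsAffineOpen US ∧ UT ≤ g ⁻¹ᵁ US} => i.1)) := by
  rw [Opens.isBasis_iff_nbhd]
  intro V x hxV
  obtain ⟨US, hUS, hxUS, -⟩ := Opens.isBasis_iff_nbhd.mp (S.isBasis_affineOpens)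
    (show g x ∈ (⊤ : S.Opens) from trivial)
  obtain ⟨UT, hUT, hxUT, hle⟩ := Opens.isBasis_iff_nbhd.mp (S'.isBasis_affineOpens)
    (show x ∈ V ⊓ g ⁻¹ᵁ US from ⟨hxV, hxUS⟩)
  exact ⟨UT, ⟨⟨UT, hUT, US, hUS, hle.trans inf_le_right⟩, rfl⟩, hxUT, hle.trans inf_le_left⟩

theorem hart_bc {X S S' P : Scheme.{u}} {f : X ⟶ S} {g : S' ⟶ S} {fst : P ⟶ X} {snd : P ⟶ S'}
    (H : IsPullback fst snd f g) [Flat g] [QuasiCompact f] [QuasiSeparated f] (hf : Hart f) :
    Hart snd := by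
  apply hart_of_basis snd _ (isBasis_small g)
  rintro ⟨UT, hUT, US, hUS, hle⟩
  show Function.Bijective (snd.app UT)
  have hUY : snd ⁻¹ᵁ UT = fst ⁻¹ᵁ (f ⁻¹ᵁ US) ⊓ snd ⁻¹ᵁ UT := by
    refine le_antisymm (le_inf ?_ le_rfl) inf_le_right
    rw [← Scheme.Hom.comp_preimage, H.w, Scheme.Hom.comp_preimage]
    exact snd.preimage_mono hle
  have hiso := isIso_pushoutSection_of_isQuasiSeparated_of_flat_right H hle
    (le_refl (f ⁻¹ᵁ US)) hUY hUS hUT (f.isCompact_preimage hUS.isCompact)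
    (f.isQuasiSeparated_preimage hUS.isQuasiSeparated)
  haveI : IsIso (f.appLE US (f ⁻¹ᵁ US) le_rfl) := by
    rw [Scheme.Hom.appLE_eq_app]
    exact (ConcreteCategory.isIso_iff_bijective _).2 (hf US)
  have h1 : pushout.inr (f.appLE US (f ⁻¹ᵁ US) le_rfl) (g.appLE US UT hle) ≫
      pushoutSection H hle (le_refl (f ⁻¹ᵁ US)) hUY = snd.appLE UT (snd ⁻¹ᵁ UT) le_rfl :=
    pushout.inr_desc _ _ _
  have h2 : IsIso (snd.appLE UT (snd ⁻¹ᵁ UT) le_rfl) := by
    rw [← h1]
    infer_instance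
  rw [Scheme.Hom.appLE_eq_app] at h2
  exact (ConcreteCategory.isIso_iff_bijective _).1 h2

end Groth.Agent.Lib.Helper9.Hart
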