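import Mathlib
import Groth.Agent.Lib.Helper9.Hart1

set_option backward.isDefEq.respectTransparency false
set_option maxHeartbeats 800000
set_option autoImplicit false
set_option linter.unusedSectionVars false
set_option linter.unusedVariables false
universe u
open CategoryTheory CategoryTheory.Limits AlgebraicGeometry Opposite TopologicalSpace

namespace Groth.Agent.Lib.Helper9.GeomQ

open Groth.Agent.Lib.Helper9.Hart

/-- injectivity of `𝒪_S ⟶ f_* 𝒪_X` can be checked on a basis -/
theorem inj_of_basis {X S : Scheme.{u}} (f : X ⟶ S) {ι : Type*} (B : ι → S.Opens)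
    (hB : Opens.IsBasis (Set.range B)) (h : ∀ i, Function.Injective (f.app (B i))) :
    ∀ U : S.Opens, Function.Injective (f.app U) := by
  intro U s₁ s₂ hs
  refine TopCat.Presheaf.section_ext S.sheaf U s₁ s₂ ?_
  intro x hx
  obtain ⟨W, ⟨i, rfl⟩, hxW, hWU⟩ := Opens.isBasis_iff_nbhd.mp hB hx
  have hnat : ∀ s : Γ(S, U), f.app (B i) (S.presheaf.map (homOfLE hWU).op s) =
      X.presheaf.map (homOfLE (f.preimage_mono hWU)).op (f.app U s) := by
    intro s
    have := f.naturality (homOfLE hWU).op
    exact congrArg (fun θ => θ.hom s) this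
  have h1 : S.presheaf.map (homOfLE hWU).op s₁ = S.presheaf.map (homOfLE hWU).op s₂ := by
    apply h i
    rw [hnat, hnat, hs]
  have h2 := congrArg (S.presheaf.germ (B i) x hxW) h1
  rw [TopCat.Presheaf.germ_res_apply, TopCat.Presheaf.germ_res_apply] at h2
  exact h2

theorem pushout_inr_injective {R A B : CommRingCat.{u}} (φ : R ⟶ A) (ψ : R ⟶ B)
    (hφ : Function.Injective φ.hom) (hψ : ψ.hom.Flat) :
    Function.Injective (pushout.inr φ ψ).hom := by
  letI := φ.hom.toAlgebra
  letI := ψ.hom.toAlgebra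
  haveI : Module.Flat R B := hψ
  have hpo := CommRingCat.isPushout_tensorProduct R A B
  have hφ' : φ = CommRingCat.ofHom (algebraMap R A) := rfl
  have hψ' : ψ = CommRingCat.ofHom (algebraMap R B) := rfl
  have hinr : pushout.inr φ ψ = CommRingCat.ofHom
      (Algebra.TensorProduct.includeRight (R := R) (A := A) (B := B)).toRingHom ≫
        hpo.isoPushout.hom := by
    exact (hpo.inr_isoPushout_hom).symm
  rw [hinr]
  have h1 : Function.Injective
      (Algebra.TensorProduct.includeRight (R := R) (A := A) (B := B)) :=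
    Algebra.TensorProduct.includeRight_injective hφ
  have h2 : Function.Injective hpo.isoPushout.hom.hom :=
    (ConcreteCategory.bijective_of_isIso hpo.isoPushout.hom).1
  exact h2.comp h1

/-- injectivity of `𝒪 ⟶ f_* 𝒪` on all opens is stable under flat base change (for `f` qcqs) -/
theorem injective_app_bc {X S S' P : Scheme.{u}} {f : X ⟶ S} {g : S' ⟶ S} {fst : P ⟶ X}
    {snd : P ⟶ S'} (H : IsPullback fst snd f g) [Flat g] [QuasiCompact f] [QuasiSeparated f]
    (hf : ∀ U : S.Opens, Function.Injective (f.app U)) :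
    ∀ U : S'.Opens, Function.Injective (snd.app U) := by
  apply inj_of_basis snd _ (isBasis_small g)
  rintro ⟨UT, hUT, US, hUS, hle⟩
  show Function.Injective (snd.app UT)
  have hUY : snd ⁻¹ᵁ UT = fst ⁻¹ᵁ (f ⁻¹ᵁ US) ⊓ snd ⁻¹ᵁ UT := by
    refine le_antisymm (le_inf ?_ le_rfl) inf_le_right
    rw [← Scheme.Hom.comp_preimage, H.w, Scheme.Hom.comp_preimage]
    exact snd.preimage_mono hle
  have hiso := isIso_pushoutSection_of_isQuasiSeparated_of_flat_right H hle
    (le_refl (f ⁻¹ᵁ US)) hUY hUS hUT (f.isCompact_preimage hUS.isCompact)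
    (f.isQuasiSeparated_preimage hUS.isQuasiSeparated)
  have h1 : pushout.inr (f.appLE US (f ⁻¹ᵁ US) le_rfl) (g.appLE US UT hle) ≫
      pushoutSection H hle (le_refl (f ⁻¹ᵁ US)) hUY = snd.appLE UT (snd ⁻¹ᵁ UT) le_rfl :=
    pushout.inr_desc _ _ _
  have hflat : (g.appLE US UT hle).hom.Flat :=
    HasRingHomProperty.appLE (P := @Flat) g inferInstance ⟨US, hUS⟩ ⟨UT, hUT⟩ hle
  have hinj : Function.Injective (f.appLE US (f ⁻¹ᵁ US) le_rfl).hom := by
    rw [Scheme.Hom.appLE_eq_app]
    exact hf US
  have h2 := pushout_inr_injective _ _ hinj hflat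
  have h3 : Function.Injective (pushoutSection H hle (le_refl (f ⁻¹ᵁ US)) hUY).hom :=
    (ConcreteCategory.bijective_of_isIso _).1
  have h4 : Function.Injective (snd.appLE UT (snd ⁻¹ᵁ UT) le_rfl).hom := by
    rw [← h1]
    exact h3.comp h2
  rw [Scheme.Hom.appLE_eq_app] at h4
  exact h4

end Groth.Agent.Lib.Helper9.GeomQ
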