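import Mathlib
import Groth.Agent.Lib.Helper9.GeomQ1
import Groth.Agent.Lib.Helper9.FpqcLoc4
import Groth.Agent.Lib.Helper9.DescAff4

set_option backward.isDefEq.respectTransparency false
set_option maxHeartbeats 800000
set_option autoImplicit false
set_option linter.unusedSectionVars false
set_option linter.unusedVariables false
universe u
open CategoryTheory CategoryTheory.Limits AlgebraicGeometry Opposite TopologicalSpace

namespace Groth.Agent.Lib.Helper9.GeomQ

/-- the affine line over `ℤ` -/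
noncomputable abbrev A1 : Scheme.{u} :=
  Spec (CommRingCat.of (MvPolynomial PUnit.{u + 1} (ULift.{u, 0} ℤ)))

/-- morphisms to the affine line are global functions -/
noncomputable def fnEquiv (W : Scheme.{u}) : (W ⟶ A1.{u}) ≃ Γ(W, ⊤) :=
  (AffineSpace.toSpecMvPolyIntEquiv PUnit.{u + 1}).trans (Equiv.funUnique PUnit.{u + 1} Γ(W, ⊤))

theorem fnEquiv_comp {W Z : Scheme.{u}} (k : W ⟶ Z) (m : Z ⟶ A1.{u}) :
    fnEquiv W (k ≫ m) = k.appTop (fnEquiv Z m) :=
  AffineSpace.toSpecMvPolyIntEquiv_comp PUnit.{u + 1} k m PUnit.unit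

/-- the morphism to the affine line defined by a section over an open -/
noncomputable def mor {Y : Scheme.{u}} (U : Y.Opens) (h : Γ(Y, U)) : (U : Scheme.{u}) ⟶ A1.{u} :=
  (fnEquiv (U : Scheme.{u})).symm (U.topIso.inv h)

theorem mor_injective {Y : Scheme.{u}} (U : Y.Opens) : Function.Injective (mor U) := by
  intro h₁ h₂ h
  have := (fnEquiv (U : Scheme.{u})).symm.injective h
  exact (ConcreteCategory.bijective_of_isIso U.topIso.inv).1 this

theorem mor_surjective {Y : Scheme.{u}} (U : Y.Opens) : Function.Surjective (mor U) := by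
  intro m
  refine ⟨U.topIso.hom (fnEquiv _ m), ?_⟩
  unfold mor
  rw [← CommRingCat.comp_apply, Iso.hom_inv_id]
  exact (fnEquiv _).symm_apply_apply m

theorem resLE_comp_mor {X Y : Scheme.{u}} (f : X ⟶ Y) (U : Y.Opens) (V : X.Opens)
    (e : V ≤ f ⁻¹ᵁ U) (h : Γ(Y, U)) :
    f.resLE U V e ≫ mor U h = mor V (f.appLE U V e h) := by
  apply (fnEquiv _).injective
  rw [fnEquiv_comp]
  unfold mor
  rw [Equiv.apply_symm_apply, Equiv.apply_symm_apply]
  have h1 : (f.resLE U V e).appTop = U.topIso.hom ≫ f.appLE U V e ≫ V.topIso.inv :=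
    Scheme.Hom.resLE_app_top f e
  rw [h1]
  simp only [CommRingCat.comp_apply]
  rw [← CommRingCat.comp_apply U.topIso.inv, Iso.inv_hom_id]
  rfl

end Groth.Agent.Lib.Helper9.GeomQ
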