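import Mathlib
import Groth.Agent.Lib.Helper9.GeomQ2

set_option backward.isDefEq.respectTransparency false
set_option maxHeartbeats 800000
set_option autoImplicit false
set_option linter.unusedSectionVars false
set_option linter.unusedVariables false
universe u
open CategoryTheory CategoryTheory.Limits AlgebraicGeometry Opposite TopologicalSpace

namespace Groth.Agent.Lib.Helper9.GeomQ

theorem epi_of_isPullback_fpqc {X Y X' Y' : Scheme.{u}} {f : X ⟶ Y} {g : Y' ⟶ Y} {g' : X' ⟶ X}
    {f' : X' ⟶ Y'} (H : IsPullback g' f' f g) [Flat g] [Surjective g] : Epi g' := by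
  haveI : Flat g' := MorphismProperty.of_isPullback (P := @Flat) H.flip inferInstance
  haveI : Surjective g' := MorphismProperty.of_isPullback (P := @Surjective) H.flip inferInstance
  exact Flat.epi_of_flat_of_surjective g'

/-- descent of functions along an fpqc base change, given injectivity of `𝒪 → f'_* 𝒪` -/
theorem exists_descent_mor {X Y X' Y' : Scheme.{u}} {f : X ⟶ Y} {g : Y' ⟶ Y} {g' : X' ⟶ X}
    {f' : X' ⟶ Y'} (H : IsPullback g' f' f g) [Flat g] [Surjective g] [QuasiCompact g]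
    [QuasiCompact f'] [QuasiSeparated f'] (hinj : ∀ V : Y'.Opens, Function.Injective (f'.app V))
    (mX : X ⟶ A1.{u}) (m' : Y' ⟶ A1.{u}) (hm : f' ≫ m' = g' ≫ mX) :
    ∃ m : Y ⟶ A1.{u}, g ≫ m = m' ∧ f ≫ m = mX := by
  let p₁ := pullback.fst g g
  let p₂ := pullback.snd g g
  let q₁ := pullback.fst f' p₁
  let f'' := pullback.snd f' p₁
  have sq'' : IsPullback q₁ f'' f' p₁ := IsPullback.of_hasPullback f' p₁
  have hw : (q₁ ≫ g') ≫ f = (f'' ≫ p₂) ≫ g := by
    rw [Category.assoc, H.w, ← Category.assoc, sq''.w, Category.assoc, Category.assoc]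
    congr 1
    exact pullback.condition
  let q₂ := H.lift (q₁ ≫ g') (f'' ≫ p₂) hw
  have hq₂a : q₂ ≫ g' = q₁ ≫ g' := H.lift_fst _ _ _
  have hq₂b : q₂ ≫ f' = f'' ≫ p₂ := H.lift_snd _ _ _
  have key : f'' ≫ (p₁ ≫ m') = f'' ≫ (p₂ ≫ m') := by
    rw [← Category.assoc, ← sq''.w, Category.assoc, hm, ← Category.assoc f'' p₂, ← hq₂b,
      Category.assoc, hm, ← Category.assoc q₂, hq₂a, Category.assoc]
  have hinj'' : Function.Injective f''.appTop :=
    injective_app_bc sq'' hinj ⊤
  have hp : p₁ ≫ m' = p₂ ≫ m' := by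
    apply (fnEquiv _).injective
    apply hinj''
    rw [← fnEquiv_comp, ← fnEquiv_comp, key]
  obtain ⟨m, hm1, -⟩ := Groth.Agent.Lib.Helper9.FpqcLoc.existsUnique_glue
    (W := fun _ : PUnit.{u + 1} => Y') (fun _ => g)
    (Groth.Agent.Lib.Helper9.DescAff.mem_fpqc_of_pUnit g) (fun _ => m') (by
      intro _ _ Z gi gj hgg
      have h1 : gi = pullback.lift gi gj hgg ≫ p₁ := (pullback.lift_fst _ _ _).symm
      have h2 : gj = pullback.lift gi gj hgg ≫ p₂ := (pullback.lift_snd _ _ _).symm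
      rw [h1, Category.assoc, hp, ← Category.assoc, ← h2])
  have hgm : g ≫ m = m' := hm1 PUnit.unit
  refine ⟨m, hgm, ?_⟩
  haveI := epi_of_isPullback_fpqc H
  rw [← cancel_epi g', ← Category.assoc, H.w, Category.assoc, hgm, hm]

end Groth.Agent.Lib.Helper9.GeomQ
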