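import Mathlib
import Groth.Agent.Lib.Helper9.GeomQ3

set_option backward.isDefEq.respectTransparency false
set_option maxHeartbeats 800000
set_option autoImplicit false
set_option linter.unusedSectionVars false
set_option linter.unusedVariables false
universe u
open CategoryTheory CategoryTheory.Limits AlgebraicGeometry Opposite TopologicalSpace

namespace Groth.Agent.Lib.Helper9.GeomQ

theorem appLE_congr_hom {X Y : Scheme.{u}} {f f' : X ⟶ Y} (h : f = f') (U : Y.Opens)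
    (V : X.Opens) (e : V ≤ f ⁻¹ᵁ U) : f.appLE U V e = f'.appLE U V (h ▸ e) := by
  subst h; rfl

/-- pulling back functions around a commutative square -/
theorem appLE_square {A B C D : Scheme.{u}} {a : A ⟶ B} {b : B ⟶ D} {c : A ⟶ C} {d : C ⟶ D}
    (w : a ≫ b = c ≫ d) (U : D.Opens) (V : B.Opens) (V' : C.Opens) (W : A.Opens)
    (e₁ : V ≤ b ⁻¹ᵁ U) (e₂ : W ≤ a ⁻¹ᵁ V) (e₃ : V' ≤ d ⁻¹ᵁ U) (e₄ : W ≤ c ⁻¹ᵁ V')
    (x : Γ(D, U)) :
    a.appLE V W e₂ (b.appLE U V e₁ x) = c.appLE V' W e₄ (d.appLE U V' e₃ x) := by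
  rw [← CommRingCat.comp_apply, ← CommRingCat.comp_apply, Scheme.Hom.appLE_comp_appLE,
    Scheme.Hom.appLE_comp_appLE, appLE_congr_hom w]

theorem app_injective_of_fpqc {Y' Y : Scheme.{u}} (g : Y' ⟶ Y) [Flat g] [Surjective g]
    (U : Y.Opens) : Function.Injective (g.app U) := by
  intro h₁ h₂ h
  haveI : Flat (g.resLE U (g ⁻¹ᵁ U) le_rfl) := by
    rw [Scheme.Hom.resLE_eq_morphismRestrict]; infer_instance
  haveI : Surjective (g.resLE U (g ⁻¹ᵁ U) le_rfl) := by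
    rw [Scheme.Hom.resLE_eq_morphismRestrict]
    exact MorphismProperty.of_isPullback (P := @Surjective) (isPullback_morphismRestrict g U).flip
      inferInstance
  haveI := Flat.epi_of_flat_of_surjective (g.resLE U (g ⁻¹ᵁ U) le_rfl)
  apply mor_injective U
  rw [← cancel_epi (g.resLE U (g ⁻¹ᵁ U) le_rfl), resLE_comp_mor, resLE_comp_mor,
    Scheme.Hom.appLE_eq_app, h]

/-- the key step: an invariant function whose pullback descends, descends -/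
theorem exists_section_of_eq {X Y X' Y' : Scheme.{u}} {f : X ⟶ Y} {g : Y' ⟶ Y} {g' : X' ⟶ X}
    {f' : X' ⟶ Y'} (H : IsPullback g' f' f g) [Flat g] [Surjective g] [QuasiCompact g]
    [QuasiCompact f'] [QuasiSeparated f'] (hinj : ∀ V : Y'.Opens, Function.Injective (f'.app V))
    (U : Y.Opens) (s : Γ(X, f ⁻¹ᵁ U)) (h' : Γ(Y', g ⁻¹ᵁ U))
    (e : f' ⁻¹ᵁ (g ⁻¹ᵁ U) ≤ g' ⁻¹ᵁ (f ⁻¹ᵁ U))
    (hs : f'.app (g ⁻¹ᵁ U) h' = g'.appLE (f ⁻¹ᵁ U) (f' ⁻¹ᵁ (g ⁻¹ᵁ U)) e s) :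
    ∃ h : Γ(Y, U), f.app U h = s := by
  have hUY : f' ⁻¹ᵁ (g ⁻¹ᵁ U) = g' ⁻¹ᵁ (f ⁻¹ᵁ U) ⊓ f' ⁻¹ᵁ (g ⁻¹ᵁ U) :=
    le_antisymm (le_inf e le_rfl) inf_le_right
  have Hres := Scheme.Hom.isPullback_resLE H (US := U) (UT := g ⁻¹ᵁ U) (UX := f ⁻¹ᵁ U)
    le_rfl le_rfl hUY
  haveI : Flat (g.resLE U (g ⁻¹ᵁ U) le_rfl) := by
    rw [Scheme.Hom.resLE_eq_morphismRestrict]; infer_instance
  haveI : Surjective (g.resLE U (g ⁻¹ᵁ U) le_rfl) := by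
    rw [Scheme.Hom.resLE_eq_morphismRestrict]
    exact MorphismProperty.of_isPullback (P := @Surjective) (isPullback_morphismRestrict g U).flip
      inferInstance
  haveI : QuasiCompact (g.resLE U (g ⁻¹ᵁ U) le_rfl) := by
    rw [Scheme.Hom.resLE_eq_morphismRestrict]; infer_instance
  haveI : QuasiCompact (f'.resLE (g ⁻¹ᵁ U) (f' ⁻¹ᵁ (g ⁻¹ᵁ U)) le_rfl) := by
    rw [Scheme.Hom.resLE_eq_morphismRestrict]; infer_instance
  haveI : QuasiSeparated (f'.resLE (g ⁻¹ᵁ U) (f' ⁻¹ᵁ (g ⁻¹ᵁ U)) le_rfl) := by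
    rw [Scheme.Hom.resLE_eq_morphismRestrict]; infer_instance
  have hinj' : ∀ V : (g ⁻¹ᵁ U : Scheme.{u}).Opens,
      Function.Injective ((f'.resLE (g ⁻¹ᵁ U) (f' ⁻¹ᵁ (g ⁻¹ᵁ U)) le_rfl).app V) := by
    intro V
    rw [Scheme.Hom.resLE_eq_morphismRestrict, morphismRestrict_app]
    have h2 : Function.Injective (X'.presheaf.map
        (eqToHom (image_morphismRestrict_preimage f' (g ⁻¹ᵁ U) V)).op) :=
      (ConcreteCategory.bijective_of_isIso _).1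
    exact h2.comp (hinj _)
  have hm : f'.resLE (g ⁻¹ᵁ U) (f' ⁻¹ᵁ (g ⁻¹ᵁ U)) le_rfl ≫ mor (g ⁻¹ᵁ U) h' =
      g'.resLE (f ⁻¹ᵁ U) (f' ⁻¹ᵁ (g ⁻¹ᵁ U)) e ≫ mor (f ⁻¹ᵁ U) s := by
    rw [resLE_comp_mor, resLE_comp_mor, Scheme.Hom.appLE_eq_app, hs]
  obtain ⟨m, -, hm2⟩ := exists_descent_mor Hres hinj' (mor (f ⁻¹ᵁ U) s) (mor (g ⁻¹ᵁ U) h') hm
  obtain ⟨h, rfl⟩ := mor_surjective U m
  refine ⟨h, ?_⟩
  apply mor_injective (f ⁻¹ᵁ U)
  rw [← hm2, resLE_comp_mor, Scheme.Hom.appLE_eq_app]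

end Groth.Agent.Lib.Helper9.GeomQ
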