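import Mathlib
import Groth.Agent.Lib.Helper9.GeomQ4

set_option backward.isDefEq.respectTransparency false
set_option maxHeartbeats 800000
set_option autoImplicit false
set_option linter.unusedSectionVars false
set_option linter.unusedVariables false
universe u
open CategoryTheory CategoryTheory.Limits AlgebraicGeometry Opposite TopologicalSpace

namespace Groth.Agent.Lib.Helper9.GeomQ

/-- the invariant-sections predicate, abstractly -/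
def Inv {X Y GX : Scheme.{u}} (f : X ⟶ Y) (σ ρ : GX ⟶ X) (U : Y.Opens) (s : Γ(X, f ⁻¹ᵁ U)) : Prop :=
  σ.appLE (f ⁻¹ᵁ U) (σ ⁻¹ᵁ (f ⁻¹ᵁ U) ⊓ ρ ⁻¹ᵁ (f ⁻¹ᵁ U)) inf_le_left s =
    ρ.appLE (f ⁻¹ᵁ U) (σ ⁻¹ᵁ (f ⁻¹ᵁ U) ⊓ ρ ⁻¹ᵁ (f ⁻¹ᵁ U)) inf_le_right s

theorem sections_descend {X Y X' Y' GX GX' : Scheme.{u}} {f : X ⟶ Y} {g : Y' ⟶ Y} {g' : X' ⟶ X}
    {f' : X' ⟶ Y'} (H : IsPullback g' f' f g) [Flat g] [Surjective g] [QuasiCompact g]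
    [QuasiCompact f'] [QuasiSeparated f']
    (σ ρ : GX ⟶ X) (σ' ρ' : GX' ⟶ X') (κ : GX' ⟶ GX)
    (hσ : σ' ≫ g' = κ ≫ σ) (hρ : ρ' ≫ g' = κ ≫ ρ) (hinv : σ ≫ f = ρ ≫ f)
    (hsec : ∀ V : Y'.Opens, Function.Injective (f'.app V) ∧
      Set.range (f'.app V) = {s | Inv f' σ' ρ' V s})
    (U : Y.Opens) :
    Function.Injective (f.app U) ∧ Set.range (f.app U) = {s | Inv f σ ρ U s} := by
  have e : f' ⁻¹ᵁ (g ⁻¹ᵁ U) ≤ g' ⁻¹ᵁ (f ⁻¹ᵁ U) := by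
    rw [← Scheme.Hom.comp_preimage, ← Scheme.Hom.comp_preimage, H.w]
  have hnat : ∀ h : Γ(Y, U), f'.app (g ⁻¹ᵁ U) (g.app U h) =
      g'.appLE (f ⁻¹ᵁ U) (f' ⁻¹ᵁ (g ⁻¹ᵁ U)) e (f.app U h) := by
    intro h
    rw [← Scheme.Hom.appLE_eq_app, ← Scheme.Hom.appLE_eq_app, ← Scheme.Hom.appLE_eq_app]
    exact appLE_square H.w.symm U _ _ _ _ _ _ _ h
  refine ⟨?_, ?_⟩
  · intro h₁ h₂ h12
    apply app_injective_of_fpqc g U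
    apply (hsec (g ⁻¹ᵁ U)).1
    rw [hnat, hnat, h12]
  · ext s
    simp only [Set.mem_range, Set.mem_ofPred_eq]
    constructor
    · rintro ⟨h, rfl⟩
      unfold Inv
      rw [← Scheme.Hom.appLE_eq_app]
      exact appLE_square hinv U _ _ _ _ _ _ _ h
    · intro hs
      have hs' : Inv f' σ' ρ' (g ⁻¹ᵁ U) (g'.appLE (f ⁻¹ᵁ U) (f' ⁻¹ᵁ (g ⁻¹ᵁ U)) e s) := by
        unfold Inv at hs ⊢
        have hW : σ' ⁻¹ᵁ (f' ⁻¹ᵁ (g ⁻¹ᵁ U)) ⊓ ρ' ⁻¹ᵁ (f' ⁻¹ᵁ (g ⁻¹ᵁ U)) ≤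
            κ ⁻¹ᵁ (σ ⁻¹ᵁ (f ⁻¹ᵁ U) ⊓ ρ ⁻¹ᵁ (f ⁻¹ᵁ U)) := by
          rw [Scheme.Hom.preimage_inf]
          refine inf_le_inf ?_ ?_
          · rw [← Scheme.Hom.comp_preimage κ σ, ← hσ, Scheme.Hom.comp_preimage]
            exact (σ'.preimage_mono e)
          · rw [← Scheme.Hom.comp_preimage κ ρ, ← hρ, Scheme.Hom.comp_preimage]
            exact (ρ'.preimage_mono e)
        rw [appLE_square hσ (f ⁻¹ᵁ U) (f' ⁻¹ᵁ (g ⁻¹ᵁ U)) (σ ⁻¹ᵁ (f ⁻¹ᵁ U) ⊓ ρ ⁻¹ᵁ (f ⁻¹ᵁ U)) _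
          e inf_le_left inf_le_left hW s,
          appLE_square hρ (f ⁻¹ᵁ U) (f' ⁻¹ᵁ (g ⁻¹ᵁ U)) (σ ⁻¹ᵁ (f ⁻¹ᵁ U) ⊓ ρ ⁻¹ᵁ (f ⁻¹ᵁ U)) _
          e inf_le_right inf_le_right hW s, hs]
      have hr : g'.appLE (f ⁻¹ᵁ U) (f' ⁻¹ᵁ (g ⁻¹ᵁ U)) e s ∈ Set.range (f'.app (g ⁻¹ᵁ U)) := by
        rw [(hsec (g ⁻¹ᵁ U)).2]; exact hs'
      obtain ⟨h', hh'⟩ := hr
      exact exists_section_of_eq H (fun V => (hsec V).1) U s h' e hh'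

end Groth.Agent.Lib.Helper9.GeomQ
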