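import Mathlib
import Groth.Agent.Lib.Helper9.GeomQ5

set_option backward.isDefEq.respectTransparency false
set_option maxHeartbeats 800000
set_option autoImplicit false
set_option linter.unusedSectionVars false
set_option linter.unusedVariables false
universe u
open CategoryTheory CategoryTheory.Limits AlgebraicGeometry Opposite TopologicalSpace

namespace Groth.Agent.Lib.Helper9.GeomQ

theorem surj_descend {X Y X' Y' : Scheme.{u}} {f : X ⟶ Y} {g : Y' ⟶ Y} {g' : X' ⟶ X}
    {f' : X' ⟶ Y'} (H : IsPullback g' f' f g) [Surjective g]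
    (hf' : Function.Surjective f'.base) : Function.Surjective f.base := by
  intro y
  obtain ⟨y', rfl⟩ := g.surjective y
  obtain ⟨x', rfl⟩ := hf' y'
  refine ⟨g'.base x', ?_⟩
  have := congrArg (fun m => m.base x') H.w
  simpa using this

theorem orbit_descend {X Y X' Y' GX GX' : Scheme.{u}} {f : X ⟶ Y} {g : Y' ⟶ Y} {g' : X' ⟶ X}
    {f' : X' ⟶ Y'} (H : IsPullback g' f' f g) [Surjective g]
    (σ ρ : GX ⟶ X) (σ' ρ' : GX' ⟶ X') (κ : GX' ⟶ GX)
    (hσ : σ' ≫ g' = κ ≫ σ) (hρ : ρ' ≫ g' = κ ≫ ρ) (hinv : σ ≫ f = ρ ≫ f)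
    (hinv' : σ' ≫ f' = ρ' ≫ f')
    (hΨ' : Function.Surjective (pullback.lift σ' ρ' hinv').base) :
    Function.Surjective (pullback.lift σ ρ hinv).base := by
  -- P = (X ×_Y X) ×_Y Y'
  let c : pullback f f ⟶ Y := pullback.fst f f ≫ f
  let P := pullback c g
  let π : P ⟶ pullback f f := pullback.fst c g
  let l : P ⟶ Y' := pullback.snd c g
  have hπ : Surjective π := MorphismProperty.pullback_fst (P := @Surjective) c g inferInstance
  have w1 : (π ≫ pullback.fst f f) ≫ f = l ≫ g := by
    rw [Category.assoc]; exact pullback.condition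
  have w2 : (π ≫ pullback.snd f f) ≫ f = l ≫ g := by
    rw [Category.assoc, ← pullback.condition (f := f) (g := f)]; exact pullback.condition
  let t1 : P ⟶ X' := H.lift (π ≫ pullback.fst f f) l w1
  let t2 : P ⟶ X' := H.lift (π ≫ pullback.snd f f) l w2
  have ht : t1 ≫ f' = t2 ≫ f' := by
    rw [H.lift_snd, H.lift_snd]
  let t : P ⟶ pullback f' f' := pullback.lift t1 t2 ht
  let q : pullback f' f' ⟶ pullback f f :=
    pullback.map f' f' f f g' g' g H.w.symm H.w.symm
  have htq : t ≫ q = π := by
    apply pullback.hom_ext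
    · simp only [t, q, Category.assoc, pullback.lift_fst, pullback.lift_fst_assoc]
      exact H.lift_fst _ _ _
    · simp only [t, q, Category.assoc, pullback.lift_snd, pullback.lift_snd_assoc]
      exact H.lift_fst _ _ _
  have hΨq : pullback.lift σ' ρ' hinv' ≫ q = κ ≫ pullback.lift σ ρ hinv := by
    apply pullback.hom_ext
    · simp only [q, Category.assoc, pullback.lift_fst, pullback.lift_fst_assoc, hσ]
    · simp only [q, Category.assoc, pullback.lift_snd, pullback.lift_snd_assoc, hρ]
  intro z
  obtain ⟨p, rfl⟩ := π.surjective z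
  obtain ⟨w, hw⟩ := hΨ' (t.base p)
  refine ⟨κ.base w, ?_⟩
  have h1 := congrArg (fun m => m.base w) hΨq
  have h2 := congrArg (fun m => m.base p) htq
  simp only [Scheme.Hom.comp_base, TopCat.hom_comp, ContinuousMap.comp_apply] at h1 h2
  rw [← h1, hw, h2]

theorem subm_descend {X Y X' Y' : Scheme.{u}} {f : X ⟶ Y} {g : Y' ⟶ Y} {g' : X' ⟶ X}
    {f' : X' ⟶ Y'} (H : IsPullback g' f' f g) [Flat g] [Surjective g] [QuasiCompact g]
    (hf' : MorphismProperty.universally (topologically @Topology.IsQuotientMap) f') :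
    MorphismProperty.universally (topologically @Topology.IsQuotientMap) f := by
  intro XW W i₁ i₂ fW sq
  let W' := pullback i₂ g
  let j : W' ⟶ W := pullback.fst i₂ g
  let l : W' ⟶ Y' := pullback.snd i₂ g
  let XW' := pullback fW j
  let p1 : XW' ⟶ XW := pullback.fst fW j
  let p2 : XW' ⟶ W' := pullback.snd fW j
  have sqA : IsPullback p1 p2 fW j := IsPullback.of_hasPullback fW j
  have sqB : IsPullback (p1 ≫ i₁) p2 f (j ≫ i₂) := sqA.paste_horiz sq.flip
  have hjl : j ≫ i₂ = l ≫ g := pullback.condition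
  have w : (p1 ≫ i₁) ≫ f = (p2 ≫ l) ≫ g := by
    rw [sqB.w, Category.assoc, hjl]
  let r : XW' ⟶ X' := H.lift (p1 ≫ i₁) (p2 ≫ l) w
  have sqC : IsPullback r p2 f' l := by
    refine IsPullback.of_right ?_ (H.lift_snd _ _ _) H
    rw [H.lift_fst, ← hjl]; exact sqB
  have hp2 : Topology.IsQuotientMap p2.base := hf' r l p2 sqC.flip
  haveI : Flat j := MorphismProperty.pullback_fst (P := @Flat) i₂ g inferInstance
  haveI : Surjective j := MorphismProperty.pullback_fst (P := @Surjective) i₂ g inferInstance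
  haveI : QuasiCompact j := MorphismProperty.pullback_fst (P := @QuasiCompact) i₂ g inferInstance
  have hj : Topology.IsQuotientMap j.base := Flat.isQuotientMap_of_surjective j
  have hcomp : Topology.IsQuotientMap (fW.base ∘ p1.base) := by
    have h1 : (fW.base ∘ p1.base : XW' → W) = j.base ∘ p2.base := by
      have := congrArg (fun m => (m.base : XW' → W)) sqA.w
      simpa using this
    rw [h1]
    exact hj.comp hp2
  exact Topology.IsQuotientMap.of_comp p1.base.hom.continuous fW.base.hom.continuous hcomp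

end Groth.Agent.Lib.Helper9.GeomQ
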