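import Mathlib
import Groth.Prelude.Def_W4bk4git07Quot
import Groth.Agent.Lib.Helper9.GeomQ6

set_option backward.isDefEq.respectTransparency false
set_option maxHeartbeats 800000
set_option autoImplicit false
set_option linter.unusedSectionVars false
set_option linter.unusedVariables false
universe u
open CategoryTheory MonoidalCategory CartesianMonoidalCategory MonObj GrpObj AlgebraicGeometry Topology

namespace Groth.Agent.Lib.Helper9.GeomQ

/-- fpqc descent of geometric quotients, without finiteness hypotheses on the total spaces -/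
theorem isGeomQuot_descend {S : Scheme.{u}} {G X Y X' Y' : Over S} [GrpObj G]
    (a : AlgGrp.Action G X) (φ : X ⟶ Y) (hinv : GIT.IsInvariant a φ)
    (α : Y' ⟶ Y) [Flat α.left] [Surjective α.left] [QuasiCompact α.left]
    (pr : X' ⟶ X) (φ' : X' ⟶ Y') (hpb : IsPullback pr φ' φ α)
    [QuasiCompact φ'.left] [QuasiSeparated φ'.left]
    (a' : AlgGrp.Action G X') (heq : a'.act ≫ pr = (G ◁ pr) ≫ a.act)
    (hinv' : GIT.IsInvariant a' φ') (h : GIT.IsGeomQuot a' φ') :
    GIT.IsGeomQuot a φ := by
  have H : IsPullback pr.left φ'.left φ.left α.left := hpb.map (Over.forget _)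
  have hσ : a'.act.left ≫ pr.left = (G ◁ pr).left ≫ a.act.left := by
    rw [← Over.comp_left, ← Over.comp_left, heq]
  have hρ : (snd G X').left ≫ pr.left = (G ◁ pr).left ≫ (snd G X).left := by
    rw [← Over.comp_left, ← Over.comp_left, whiskerLeft_snd]
  refine ⟨hinv, ?_, ?_, ?_, ?_⟩
  · exact surj_descend H h.surj
  · exact orbit_descend H a.act.left (snd G X).left a'.act.left
      (snd G X').left (G ◁ pr).left hσ hρ hinv.left hinv'.left h.orbit
  · exact subm_descend H h.subm
  · intro U
    exact sections_descend H a.act.left (snd G X).left a'.act.left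
      (snd G X').left (G ◁ pr).left hσ hρ hinv.left h.sections U

/-- the induced action on a base change of an invariant morphism -/
noncomputable def inducedAction {S : Scheme.{u}} {G X W W' P : Over S} [GrpObj G]
    (a : AlgGrp.Action G X) (φ : X ⟶ W) (hinv : GIT.IsInvariant a φ)
    {j : W' ⟶ W} {p1 : P ⟶ X} {p2 : P ⟶ W'} (sq : IsPullback p1 p2 φ j) :
    AlgGrp.Action G P where
  act := sq.lift ((G ◁ p1) ≫ a.act) (snd G P ≫ p2) (by
    have h1 : a.act ≫ φ = snd G X ≫ φ := hinv
    rw [Category.assoc, h1, ← Category.assoc, whiskerLeft_snd, Category.assoc, Category.assoc,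
      sq.w])
  one_act := by
    apply sq.hom_ext
    · rw [Category.assoc, sq.lift_fst, ← Category.assoc, ← whisker_exchange, Category.assoc,
        a.one_act]
      simp
    · rw [Category.assoc, sq.lift_snd]
      simp [leftUnitor_hom]
  mul_act := by
    apply sq.hom_ext
    · rw [Category.assoc, sq.lift_fst, ← Category.assoc, ← whisker_exchange, Category.assoc,
        a.mul_act]
      simp only [Category.assoc, sq.lift_fst]
      rw [← MonoidalCategory.whiskerLeft_comp_assoc, sq.lift_fst]
      simp
    · rw [Category.assoc, sq.lift_snd]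
      simp only [Category.assoc, sq.lift_snd]
      simp

theorem inducedAction_act_fst {S : Scheme.{u}} {G X W W' P : Over S} [GrpObj G]
    (a : AlgGrp.Action G X) (φ : X ⟶ W) (hinv : GIT.IsInvariant a φ)
    {j : W' ⟶ W} {p1 : P ⟶ X} {p2 : P ⟶ W'} (sq : IsPullback p1 p2 φ j) :
    (inducedAction a φ hinv sq).act ≫ p1 = (G ◁ p1) ≫ a.act :=
  sq.lift_fst _ _ _

theorem inducedAction_act_snd {S : Scheme.{u}} {G X W W' P : Over S} [GrpObj G]
    (a : AlgGrp.Action G X) (φ : X ⟶ W) (hinv : GIT.IsInvariant a φ)
    {j : W' ⟶ W} {p1 : P ⟶ X} {p2 : P ⟶ W'} (sq : IsPullback p1 p2 φ j) :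
    GIT.IsInvariant (inducedAction a φ hinv sq) p2 :=
  sq.lift_snd _ _ _

end Groth.Agent.Lib.Helper9.GeomQ
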