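import Mathlib.AlgebraicGeometry.Gluing
import Mathlib.AlgebraicGeometry.Restrict
import Mathlib.AlgebraicGeometry.Cover.Open

set_option autoImplicit false
universe u
open CategoryTheory CategoryTheory.Limits AlgebraicGeometry TopologicalSpace

namespace Groth.Agent.Lib.Helper9.GlueFinal

/-- Abstract setup for gluing local final objects among morphisms to `X` with a property `P`. -/
structure Setup (X : Scheme.{u}) where
  P : ∀ ⦃T : Scheme.{u}⦄, (T ⟶ X) → Prop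
  P_open : ∀ ⦃T T' : Scheme.{u}⦄ (j : T' ⟶ T) [IsOpenImmersion j] (g : T ⟶ X), P g → P (j ≫ g)
  P_local : ∀ ⦃T : Scheme.{u}⦄ (g : T ⟶ X),
    (∀ x : T, ∃ U : T.Opens, x ∈ U ∧ P (U.ι ≫ g)) → P g
  J : Type u
  locus : J → ∀ ⦃T : Scheme.{u}⦄, (T ⟶ X) → T.Opens
  locus_comp : ∀ (i : J) ⦃T T' : Scheme.{u}⦄ (g : T ⟶ X) (h : T' ⟶ T), P g → P (h ≫ g) →
    locus i (h ≫ g) = h ⁻¹ᵁ locus i g
  locus_cover : ∀ ⦃T : Scheme.{u}⦄ (g : T ⟶ X), P g → ⨆ i, locus i g = ⊤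
  Y : J → Scheme.{u}
  b : ∀ i, Y i ⟶ X
  P_b : ∀ i, P (b i)
  locus_b : ∀ i, locus i (b i) = ⊤
  lift : ∀ (i : J) ⦃T : Scheme.{u}⦄ (g : T ⟶ X), P g → locus i g = ⊤ →
    ∃! h : T ⟶ Y i, h ≫ b i = g

namespace Setup

variable {X : Scheme.{u}} (S : Setup X)

lemma hom_ext_Y (i : S.J) {T : Scheme.{u}} (h h' : T ⟶ S.Y i) (hP : S.P (h ≫ S.b i))
    (e : h ≫ S.b i = h' ≫ S.b i) : h = h' := by
  have hl : S.locus i (h ≫ S.b i) = ⊤ := by
    rw [S.locus_comp i (S.b i) h (S.P_b i) hP, S.locus_b]; rfl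
  exact (S.lift i (h ≫ S.b i) hP hl).unique rfl e.symm

/-- The overlap `V i j ⊆ Y i`. -/
def V (i j : S.J) : (S.Y i).Opens := S.locus j (S.b i)

lemma P_ι (i : S.J) (O : (S.Y i).Opens) : S.P (O.ι ≫ S.b i) := S.P_open O.ι _ (S.P_b i)

lemma locus_V (i j : S.J) : S.locus j ((S.V i j).ι ≫ S.b i) = ⊤ := by
  rw [S.locus_comp j (S.b i) _ (S.P_b i) (S.P_ι i _)]
  exact (S.V i j).ι_preimage_self

/-- `V i j ⟶ Y j`. -/
noncomputable def t₀ (i j : S.J) : (S.V i j : Scheme.{u}) ⟶ S.Y j :=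
  (S.lift j ((S.V i j).ι ≫ S.b i) (S.P_ι i _) (S.locus_V i j)).exists.choose

lemma t₀_b (i j : S.J) : S.t₀ i j ≫ S.b j = (S.V i j).ι ≫ S.b i :=
  (S.lift j ((S.V i j).ι ≫ S.b i) (S.P_ι i _) (S.locus_V i j)).exists.choose_spec

lemma range_of_locus {T : Scheme.{u}} (i j : S.J) (h : T ⟶ S.Y i) (hP : S.P (h ≫ S.b i))
    (hl : S.locus j (h ≫ S.b i) = ⊤) : Set.range h ⊆ Set.range (S.V i j).ι := by
  rw [S.locus_comp j (S.b i) h (S.P_b i) hP] at hl
  rintro _ ⟨x, rfl⟩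
  rw [Scheme.Opens.range_ι]
  have : x ∈ h ⁻¹ᵁ S.locus j (S.b i) := by rw [hl]; trivial
  exact this

lemma t₀_range (i j : S.J) : Set.range (S.t₀ i j) ⊆ Set.range (S.V j i).ι := by
  apply S.range_of_locus j i
  · rw [t₀_b]; exact S.P_ι i _
  · rw [t₀_b, S.locus_comp i (S.b i) _ (S.P_b i) (S.P_ι i _), S.locus_b]; rfl

/-- transition map. -/
noncomputable def t (i j : S.J) : (S.V i j : Scheme.{u}) ⟶ (S.V j i : Scheme.{u}) :=
  IsOpenImmersion.lift (S.V j i).ι (S.t₀ i j) (S.t₀_range i j)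

@[reassoc]
lemma t_ι (i j : S.J) : S.t i j ≫ (S.V j i).ι = S.t₀ i j := IsOpenImmersion.lift_fac _ _ _

@[reassoc]
lemma t_ι_b (i j : S.J) : S.t i j ≫ (S.V j i).ι ≫ S.b j = (S.V i j).ι ≫ S.b i := by
  rw [t_ι_assoc, t₀_b]

lemma V_self (i : S.J) : S.V i i = ⊤ := S.locus_b i

lemma t_id (i : S.J) : S.t i i = 𝟙 _ := by
  rw [← cancel_mono (S.V i i).ι]
  apply S.hom_ext_Y i
  · rw [Category.assoc, t_ι_b]; exact S.P_ι i _
  · rw [Category.assoc, t_ι_b, Category.id_comp]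

/-- structure map of the triple overlap -/
noncomputable abbrev σ (i j k : S.J) : pullback (S.V i j).ι (S.V i k).ι ⟶ X :=
  pullback.fst _ _ ≫ (S.V i j).ι ≫ S.b i

lemma P_σ (i j k : S.J) : S.P (S.σ i j k) := by
  have := S.P_open (pullback.fst (S.V i j).ι (S.V i k).ι ≫ (S.V i j).ι) (S.b i) (S.P_b i)
  simpa [σ] using this

lemma t'_range (i j k : S.J) :
    Set.range (pullback.fst (S.V i j).ι (S.V i k).ι ≫ S.t i j ≫ (S.V j i).ι) ⊆
      Set.range (S.V j k).ι := by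
  have e : (pullback.fst (S.V i j).ι (S.V i k).ι ≫ S.t i j ≫ (S.V j i).ι) ≫ S.b j = S.σ i j k := by
    simp only [Category.assoc, t_ι_b]
  apply S.range_of_locus j k
  · rw [e]; exact S.P_σ i j k
  · rw [e]
    have e2 : S.σ i j k = pullback.snd (S.V i j).ι (S.V i k).ι ≫ (S.V i k).ι ≫ S.b i := by
      simp only [σ, ← Category.assoc, pullback.condition]
    rw [e2, S.locus_comp k _ _ (S.P_ι i _) (by rw [← e2]; exact S.P_σ i j k), S.locus_V]
    rfl

noncomputable def t' (i j k : S.J) :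
    pullback (S.V i j).ι (S.V i k).ι ⟶ pullback (S.V j k).ι (S.V j i).ι :=
  pullback.lift
    (IsOpenImmersion.lift (S.V j k).ι (pullback.fst _ _ ≫ S.t i j ≫ (S.V j i).ι) (S.t'_range i j k))
    (pullback.fst _ _ ≫ S.t i j)
    (by rw [IsOpenImmersion.lift_fac, Category.assoc])

lemma t'_snd (i j k : S.J) : S.t' i j k ≫ pullback.snd _ _ = pullback.fst _ _ ≫ S.t i j :=
  pullback.lift_snd _ _ _

lemma t'_σ (i j k : S.J) : S.t' i j k ≫ S.σ j k i = S.σ i j k := by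
  have : S.σ j k i = pullback.snd (S.V j k).ι (S.V j i).ι ≫ (S.V j i).ι ≫ S.b j := by
    simp only [σ, ← Category.assoc, pullback.condition]
  rw [this, ← Category.assoc, t'_snd, Category.assoc, t_ι_b]

lemma cocycle (i j k : S.J) : S.t' i j k ≫ S.t' j k i ≫ S.t' k i j = 𝟙 _ := by
  rw [← cancel_mono (pullback.fst (S.V i j).ι (S.V i k).ι ≫ (S.V i j).ι)]
  apply S.hom_ext_Y i
  · have : ((S.t' i j k ≫ S.t' j k i ≫ S.t' k i j) ≫
        pullback.fst (S.V i j).ι (S.V i k).ι ≫ (S.V i j).ι) ≫ S.b i = S.σ i j k := by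
      simp only [Category.assoc]
      change S.t' i j k ≫ S.t' j k i ≫ S.t' k i j ≫ S.σ i j k = _
      rw [t'_σ, t'_σ, t'_σ]
    rw [this]; exact S.P_σ i j k
  · simp only [Category.assoc, Category.id_comp]
    change S.t' i j k ≫ S.t' j k i ≫ S.t' k i j ≫ S.σ i j k = S.σ i j k
    rw [t'_σ, t'_σ, t'_σ]

/-- The glue data. -/
noncomputable def glueData : Scheme.GlueData.{u} where
  J := S.J
  U := S.Y
  V := fun ij => (S.V ij.1 ij.2 : Scheme.{u})
  f := fun i j => (S.V i j).ι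
  f_mono := fun i j => inferInstance
  f_hasPullback := fun i j k => inferInstance
  f_id := fun i => by
    have : S.V i i = ⊤ := S.V_self i
    change IsIso (S.V i i).ι
    rw [this]
    exact (inferInstance : IsIso (S.Y i).topIso.hom)
  t := S.t
  t_id := S.t_id
  t' := S.t'
  t_fac := S.t'_snd
  cocycle := S.cocycle
  f_open := fun i j => inferInstance

end Setup

end Groth.Agent.Lib.Helper9.GlueFinal
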