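import Groth.Agent.Lib.Helper9.GlueFinal

set_option autoImplicit false
universe u
open CategoryTheory CategoryTheory.Limits AlgebraicGeometry TopologicalSpace

namespace Groth.Agent.Lib.Helper9.GlueFinal

namespace Setup

variable {X : Scheme.{u}} (S : Setup X)

noncomputable abbrev glued : Scheme.{u} := S.glueData.glued

noncomputable abbrev gι (i : S.J) : S.Y i ⟶ S.glued := S.glueData.ι i

instance (i : S.J) : IsOpenImmersion (S.gι i) := S.glueData.ι_isOpenImmersion i

lemma gι_jointly_surjective (x : S.glued) : ∃ (i : S.J) (y : S.Y i), S.gι i y = x :=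
  S.glueData.ι_jointly_surjective x

/-- the glued structure map -/
noncomputable def gb : S.glued ⟶ X :=
  Multicoequalizer.desc S.glueData.diagram X (fun i => S.b i) (by
    rintro ⟨i, j⟩
    change (S.V i j).ι ≫ S.b i = (S.t i j ≫ (S.V j i).ι) ≫ S.b j
    rw [Category.assoc, t_ι_b])

@[reassoc]
lemma gι_gb (i : S.J) : S.gι i ≫ S.gb = S.b i :=
  Multicoequalizer.π_desc _ _ _ _ _

lemma P_gb : S.P S.gb := by
  apply S.P_local
  intro x
  obtain ⟨i, y, rfl⟩ := S.gι_jointly_surjective x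
  refine ⟨(S.gι i).opensRange, ⟨y, rfl⟩, ?_⟩
  have e : (S.gι i).opensRange.ι ≫ S.gb = (S.gι i).isoOpensRange.inv ≫ S.b i := by
    rw [← S.gι_gb i, ← Category.assoc]
    congr 1
    rw [Iso.eq_inv_comp]
    exact (Scheme.Hom.isoOpensRange_hom_ι _)
  rw [e]
  exact S.P_open _ _ (S.P_b i)

/-- `locus i` of the glued map is the chart `i`. -/
lemma locus_gb (i : S.J) : S.locus i S.gb = (S.gι i).opensRange := by
  apply le_antisymm
  · intro y hy
    obtain ⟨j, yj, rfl⟩ := S.gι_jointly_surjective y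
    have h1 : yj ∈ (S.gι j) ⁻¹ᵁ S.locus i S.gb := hy
    rw [← S.locus_comp i S.gb (S.gι j) S.P_gb (by rw [S.gι_gb]; exact S.P_b j), S.gι_gb] at h1
    -- yj ∈ V j i
    let v : (S.V j i : Scheme.{u}) := ⟨yj, h1⟩
    have h2 : (S.t j i ≫ (S.V i j).ι ≫ S.gι i) v = ((S.V j i).ι ≫ S.gι j) v :=
      congrArg (fun φ : (S.V j i : Scheme.{u}) ⟶ S.glued => φ v) (S.glueData.glue_condition j i)
    refine ⟨(S.V i j).ι (S.t j i v), ?_⟩
    simp only [Scheme.Hom.comp_apply] at h2
    exact h2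
  · rintro _ ⟨y, rfl⟩
    change y ∈ (S.gι i) ⁻¹ᵁ S.locus i S.gb
    rw [← S.locus_comp i S.gb (S.gι i) S.P_gb (by rw [S.gι_gb]; exact S.P_b i), S.gι_gb,
      S.locus_b]
    trivial

end Setup

end Groth.Agent.Lib.Helper9.GlueFinal
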