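import Groth.Agent.Lib.Helper9.GlueFinal2

set_option autoImplicit false
universe u
open CategoryTheory CategoryTheory.Limits AlgebraicGeometry TopologicalSpace

namespace Groth.Agent.Lib.Helper9.GlueFinal

namespace Setup

variable {X : Scheme.{u}} (S : Setup X)

section Lift

variable {T : Scheme.{u}} (g : T ⟶ X) (hg : S.P g)

include hg in
lemma locus_ι (i : S.J) : S.locus i ((S.locus i g).ι ≫ g) = ⊤ := by
  rw [S.locus_comp i g _ hg (S.P_open _ _ hg)]
  exact (S.locus i g).ι_preimage_self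

/-- local lift on the `i`-th locus -/
noncomputable def hloc (i : S.J) : (S.locus i g : Scheme.{u}) ⟶ S.Y i :=
  (S.lift i ((S.locus i g).ι ≫ g) (S.P_open _ _ hg) (S.locus_ι g hg i)).exists.choose

lemma hloc_b (i : S.J) : S.hloc g hg i ≫ S.b i = (S.locus i g).ι ≫ g :=
  (S.lift i ((S.locus i g).ι ≫ g) (S.P_open _ _ hg) (S.locus_ι g hg i)).exists.choose_spec

lemma hloc_compat (i j : S.J) :
    pullback.fst (S.locus i g).ι (S.locus j g).ι ≫ S.hloc g hg i ≫ S.gι i =
      pullback.snd (S.locus i g).ι (S.locus j g).ι ≫ S.hloc g hg j ≫ S.gι j := by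
  set p := pullback.fst (S.locus i g).ι (S.locus j g).ι ≫ (S.locus i g).ι with hp
  have hp' : p = pullback.snd (S.locus i g).ι (S.locus j g).ι ≫ (S.locus j g).ι :=
    pullback.condition
  have hPp : S.P (p ≫ g) := S.P_open p g hg
  have e1 : (pullback.fst (S.locus i g).ι (S.locus j g).ι ≫ S.hloc g hg i) ≫ S.b i = p ≫ g := by
    rw [Category.assoc, hloc_b, ← Category.assoc]
  have hr : Set.range (pullback.fst (S.locus i g).ι (S.locus j g).ι ≫ S.hloc g hg i) ⊆
      Set.range (S.V i j).ι := by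
    apply S.range_of_locus i j
    · rw [e1]; exact hPp
    · rw [e1, hp', Category.assoc, S.locus_comp j _ _ (S.P_open _ _ hg)
        (by rw [← Category.assoc, ← hp']; exact hPp), S.locus_ι g hg j]
      rfl
  let m := IsOpenImmersion.lift (S.V i j).ι _ hr
  have hm : m ≫ (S.V i j).ι = pullback.fst (S.locus i g).ι (S.locus j g).ι ≫ S.hloc g hg i :=
    IsOpenImmersion.lift_fac _ _ _
  have e2 : m ≫ S.t i j ≫ (S.V j i).ι =
      pullback.snd (S.locus i g).ι (S.locus j g).ι ≫ S.hloc g hg j := by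
    apply S.hom_ext_Y j
    · rw [Category.assoc, Category.assoc, t_ι_b, ← Category.assoc, hm, e1]; exact hPp
    · have e3 : (pullback.snd (S.locus i g).ι (S.locus j g).ι ≫ S.hloc g hg j) ≫ S.b j = p ≫ g := by
        rw [Category.assoc, hloc_b, ← Category.assoc, ← hp']
      rw [Category.assoc, Category.assoc, t_ι_b, ← Category.assoc, hm, e1, e3]
  have gc : S.t i j ≫ (S.V j i).ι ≫ S.gι j = (S.V i j).ι ≫ S.gι i :=
    S.glueData.glue_condition i j
  calc pullback.fst (S.locus i g).ι (S.locus j g).ι ≫ S.hloc g hg i ≫ S.gι i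
      = m ≫ (S.V i j).ι ≫ S.gι i := by rw [← Category.assoc, ← hm, Category.assoc]
    _ = m ≫ S.t i j ≫ (S.V j i).ι ≫ S.gι j := by rw [gc]
    _ = pullback.snd (S.locus i g).ι (S.locus j g).ι ≫ S.hloc g hg j ≫ S.gι j := by
        rw [← Category.assoc, ← Category.assoc, ← Category.assoc, Category.assoc m, e2,
          Category.assoc]

/-- the open cover of `T` by the loci -/
noncomputable def cover : T.OpenCover :=
  T.openCoverOfIsOpenCover (fun i : S.J => S.locus i g) (S.locus_cover g hg)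

/-- the global lift -/
noncomputable def hglob : T ⟶ S.glued :=
  (S.cover g hg).glueMorphisms (fun i => S.hloc g hg i ≫ S.gι i) (S.hloc_compat g hg)

lemma ι_hglob (i : S.J) : (S.locus i g).ι ≫ S.hglob g hg = S.hloc g hg i ≫ S.gι i :=
  (S.cover g hg).ι_glueMorphisms _ _ i

lemma hglob_gb : S.hglob g hg ≫ S.gb = g := by
  refine Scheme.Cover.hom_ext (S.cover g hg) _ _ fun i => ?_
  change (S.locus i g).ι ≫ S.hglob g hg ≫ S.gb = (S.locus i g).ι ≫ g
  rw [← Category.assoc, ι_hglob, Category.assoc, gι_gb, hloc_b]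

include hg in
lemma hom_ext_glued (h h' : T ⟶ S.glued) (e : h ≫ S.gb = g) (e' : h' ≫ S.gb = g) : h = h' := by
  refine Scheme.Cover.hom_ext (S.cover g hg) _ _ fun i => ?_
  change (S.locus i g).ι ≫ h = (S.locus i g).ι ≫ h'
  have key : ∀ k : T ⟶ S.glued, k ≫ S.gb = g →
      ∃ u : (S.locus i g : Scheme.{u}) ⟶ S.Y i, u ≫ S.gι i = (S.locus i g).ι ≫ k ∧
        u ≫ S.b i = (S.locus i g).ι ≫ g := by
    intro k hk
    have hr : Set.range ((S.locus i g).ι ≫ k) ⊆ Set.range (S.gι i) := by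
      rintro _ ⟨x, rfl⟩
      have h1 : S.locus i g = k ⁻¹ᵁ (S.gι i).opensRange := by
        rw [← S.locus_gb i, ← S.locus_comp i S.gb k S.P_gb (by rw [hk]; exact hg), hk]
      have h2 : ((S.locus i g).ι x) ∈ k ⁻¹ᵁ (S.gι i).opensRange := by
        rw [← h1]; exact x.2
      exact h2
    refine ⟨IsOpenImmersion.lift (S.gι i) _ hr, IsOpenImmersion.lift_fac _ _ _, ?_⟩
    rw [← S.gι_gb i, ← Category.assoc, IsOpenImmersion.lift_fac, Category.assoc, hk]
  obtain ⟨u, hu, hub⟩ := key h e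
  obtain ⟨u', hu', hub'⟩ := key h' e'
  have : u = u' := S.hom_ext_Y i u u' (by rw [hub]; exact S.P_open _ _ hg) (hub.trans hub'.symm)
  rw [← hu, ← hu', this]

end Lift

/-- **Main gluing theorem**: a final object exists. -/
theorem exists_final : ∃ (Y : Scheme.{u}) (b : Y ⟶ X), S.P b ∧
    ∀ (T : Scheme.{u}) (g : T ⟶ X), S.P g → ∃! h : T ⟶ Y, h ≫ b = g :=
  ⟨S.glued, S.gb, S.P_gb, fun _ g hg => ⟨S.hglob g hg, S.hglob_gb g hg,
    fun h' hh' => S.hom_ext_glued g hg h' _ hh' (S.hglob_gb g hg)⟩⟩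

end Setup

end Groth.Agent.Lib.Helper9.GlueFinal
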