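import Groth.Agent.Lib.Helper9.SpreadUniq
import Groth.Agent.Lib.Helper9.GenNhd
import Groth.Agent.Lib.Helper13.SpreadFP

set_option autoImplicit false
set_option linter.style.haveILetI false
set_option linter.unusedSectionVars false
universe u v w
open CategoryTheory CategoryTheory.Limits AlgebraicGeometry TopologicalSpace Opposite Topology

namespace Groth.Agent.Lib.Helper9.GlueStalk

open Groth.Agent.Lib.Helper9.SpreadUniq

variable {X Y S : Scheme.{u}}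

/-- two morphisms agreeing on two opens covering `X` are equal -/
theorem hom_ext_of_sup_eq_top (g₁ g₂ : X ⟶ Y) (U N : X.Opens) (h : U ⊔ N = ⊤)
    (hU : U.ι ≫ g₁ = U.ι ≫ g₂) (hN : N.ι ≫ g₁ = N.ι ≫ g₂) : g₁ = g₂ := by
  let V : Bool → X.Opens := fun b => if b then U else N
  have hV : IsOpenCover V := by
    rw [IsOpenCover, eq_top_iff, ← h]
    exact sup_le (le_iSup V true) (le_iSup V false)
  refine (X.openCoverOfIsOpenCover V hV).hom_ext _ _ fun b => ?_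
  cases b
  · exact hN
  · exact hU

theorem unique (x : X) (U : X.Opens) (hU : (U : Set X) = {x}ᶜ) (g₁ g₂ : X ⟶ Y)
    (h₁ : U.ι ≫ g₁ = U.ι ≫ g₂) (h₂ : X.fromSpecStalk x ≫ g₁ = X.fromSpecStalk x ≫ g₂) :
    g₁ = g₂ := by
  obtain ⟨e, H⟩ := stalkMap_eq_of_fromSpecStalk_comp_eq g₁ g₂ h₂
  obtain ⟨_, ⟨W : Y.Opens, hW, rfl⟩, hxW, -⟩ :=
    Y.isBasis_affineOpens.exists_subset_of_mem_open (Set.mem_univ (g₁ x)) isOpen_univ
  have hxW' : g₂ x ∈ W := e ▸ hxW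
  obtain ⟨_, ⟨N : X.Opens, hN, rfl⟩, hxN, hNW⟩ :=
    X.isBasis_affineOpens.exists_subset_of_mem_open
      (show x ∈ ((g₁ ⁻¹ᵁ W ⊓ g₂ ⁻¹ᵁ W : X.Opens) : Set X) from ⟨hxW, hxW'⟩)
      (g₁ ⁻¹ᵁ W ⊓ g₂ ⁻¹ᵁ W).2
  have e₁ : N ≤ g₁ ⁻¹ᵁ W := fun z hz => (hNW hz).1
  have e₂ : N ≤ g₂ ⁻¹ᵁ W := fun z hz => (hNW hz).2
  have hsup : U ⊔ N = ⊤ := by
    rw [eq_top_iff]
    intro z _
    by_cases hz : z = x
    · exact Or.inr (hz ▸ hxN)
    · refine Or.inl ?_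
      change z ∈ (U : Set X)
      rw [hU]; exact hz
  refine hom_ext_of_sup_eq_top g₁ g₂ U N hsup h₁ (ι_comp_eq_of_appLE_eq g₁ g₂ hW hN e₁ e₂ ?_)
  ext s
  refine TopCat.Presheaf.section_ext X.sheaf N _ _ fun z hz => ?_
  by_cases hzx : z = x
  · subst hzx
    exact congrArg (fun φ : Γ(Y, W) ⟶ X.presheaf.stalk z => φ.hom s)
      (appLE_germ_eq g₁ g₂ e H e₁ e₂ hz)
  · have hzU : z ∈ U := by
      change z ∈ (U : Set X)
      rw [hU]; exact hzx
    let M : X.Opens := N ⊓ U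
    have hM : ∀ (g : X ⟶ Y) (eg : N ≤ g ⁻¹ᵁ W),
        X.presheaf.germ N z hz (g.appLE W N eg s) =
          X.presheaf.germ M z ⟨hz, hzU⟩ (g.appLE W M (inf_le_left.trans eg) s) := by
      intro g eg
      rw [← Scheme.Hom.appLE_map g eg (homOfLE (inf_le_left : M ≤ N)).op]
      exact (X.presheaf.germ_res_apply (homOfLE (inf_le_left : M ≤ N)) z ⟨hz, hzU⟩ _).symm
    change X.presheaf.germ N z hz _ = X.presheaf.germ N z hz _
    rw [hM g₁ e₁, hM g₂ e₂]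
    congr 1
    -- agreement on `M ≤ U`
    have hMU : M ≤ U.ι.opensRange := by
      rw [Scheme.Opens.opensRange_ι]; exact inf_le_right
    haveI : IsIso (U.ι.app M) := U.ι.isIso_app M hMU
    have h3 : ∀ (g : X ⟶ Y) (eg : M ≤ g ⁻¹ᵁ W),
        (U.ι ≫ g).appLE W (U.ι ⁻¹ᵁ M) (by
          rw [Scheme.Hom.comp_preimage]; exact Scheme.Hom.preimage_mono _ eg) =
        g.appLE W M eg ≫ U.ι.app M := by
      intro g eg
      rw [Scheme.Hom.app_eq_appLE, Scheme.Hom.appLE_comp_appLE]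
    have h4 : g₁.appLE W M (inf_le_left.trans e₁) ≫ U.ι.app M =
        g₂.appLE W M (inf_le_left.trans e₂) ≫ U.ι.app M := by
      rw [← h3, ← h3]
      simp only [h₁]
    exact congrArg (fun φ : Γ(Y, W) ⟶ Γ(X, M) => φ.hom s) ((cancel_mono _).mp h4)

end Groth.Agent.Lib.Helper9.GlueStalk
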