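import Groth.Agent.Lib.Helper9.GlueStalk

set_option autoImplicit false
set_option linter.style.haveILetI false
set_option linter.unusedSectionVars false
universe u v w
open CategoryTheory CategoryTheory.Limits AlgebraicGeometry TopologicalSpace Opposite Topology

namespace Groth.Agent.Lib.Helper9.GlueStalk

open Groth.Agent.Lib.Helper9.SpreadUniq

variable {X Y S : Scheme.{u}}

/-- glueing morphisms defined on two opens covering `X` -/
theorem exists_glue_two (U N : X.Opens) (h : U ⊔ N = ⊤) (a : (U : Scheme.{u}) ⟶ Y)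
    (c : (N : Scheme.{u}) ⟶ Y)
    (hac : X.homOfLE (inf_le_left : U ⊓ N ≤ U) ≫ a = X.homOfLE (inf_le_right : U ⊓ N ≤ N) ≫ c) :
    ∃ g : X ⟶ Y, U.ι ≫ g = a ∧ N.ι ≫ g = c := by
  let V : Bool → X.Opens := fun b => cond b U N
  have hV : IsOpenCover V := by
    rw [IsOpenCover, eq_top_iff, ← h]
    exact sup_le (le_iSup V true) (le_iSup V false)
  let 𝒰 := X.openCoverOfIsOpenCover V hV
  let f : ∀ b, 𝒰.X b ⟶ Y := fun b => match b with
    | true => a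
    | false => c
  -- the key compatibility
  have key : ∀ {P : Scheme.{u}} (u : P ⟶ U) (n : P ⟶ N), u ≫ U.ι = n ≫ N.ι → u ≫ a = n ≫ c := by
    intro P u n hun
    have hr : Set.range (u ≫ U.ι) ⊆ Set.range (U ⊓ N).ι := by
      rw [Scheme.Opens.range_ι]
      rintro _ ⟨w, rfl⟩
      refine ⟨?_, ?_⟩
      · rw [Scheme.Hom.comp_apply]; exact (u w).2
      · rw [hun, Scheme.Hom.comp_apply]; exact (n w).2
    let l : P ⟶ (U ⊓ N : X.Opens) := IsOpenImmersion.lift (U ⊓ N).ι (u ≫ U.ι) hr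
    have hl : l ≫ (U ⊓ N).ι = u ≫ U.ι := IsOpenImmersion.lift_fac _ _ _
    have h1 : u = l ≫ X.homOfLE inf_le_left := by
      rw [← cancel_mono U.ι, Category.assoc, Scheme.homOfLE_ι, hl]
    have h2 : n = l ≫ X.homOfLE inf_le_right := by
      rw [← cancel_mono N.ι, Category.assoc, Scheme.homOfLE_ι, hl, hun]
    rw [h1, h2, Category.assoc, Category.assoc, hac]
  have hf : ∀ i j, pullback.fst (𝒰.f i) (𝒰.f j) ≫ f i = pullback.snd (𝒰.f i) (𝒰.f j) ≫ f j := by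
    intro i j
    cases i <;> cases j
    · have : pullback.fst (𝒰.f false) (𝒰.f false) = pullback.snd (𝒰.f false) (𝒰.f false) := by
        rw [← cancel_mono (𝒰.f false)]; exact pullback.condition
      rw [this]
    · exact (key (pullback.snd (𝒰.f false) (𝒰.f true)) (pullback.fst (𝒰.f false) (𝒰.f true))
        pullback.condition.symm).symm
    · exact key (pullback.fst (𝒰.f true) (𝒰.f false)) (pullback.snd (𝒰.f true) (𝒰.f false))
        pullback.condition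
    · have : pullback.fst (𝒰.f true) (𝒰.f true) = pullback.snd (𝒰.f true) (𝒰.f true) := by
        rw [← cancel_mono (𝒰.f true)]; exact pullback.condition
      rw [this]
  refine ⟨𝒰.glueMorphisms f hf, 𝒰.ι_glueMorphisms f hf true, 𝒰.ι_glueMorphisms f hf false⟩

/-- compatibility of `fromSpecStalkOfMem` with inclusions of opens -/
theorem fromSpecStalkOfMem_homOfLE {A B : X.Opens} (hAB : A ≤ B) (z : X) (hz : z ∈ A) :
    A.fromSpecStalkOfMem z hz ≫ X.homOfLE hAB = B.fromSpecStalkOfMem z (hAB hz) := by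
  rw [← cancel_mono B.ι, Category.assoc, Scheme.homOfLE_ι, Scheme.Opens.fromSpecStalkOfMem_ι,
    Scheme.Opens.fromSpecStalkOfMem_ι]

theorem fromSpecStalk_eq_fromSpecStalkOfMem (A : X.Opens) (z : X) (hz : z ∈ A) :
    (A : Scheme.{u}).fromSpecStalk ⟨z, hz⟩ =
      Spec.map (A.ι.stalkMap ⟨z, hz⟩) ≫ A.fromSpecStalkOfMem z hz := by
  simp [Scheme.Opens.fromSpecStalkOfMem]

/-- agreement at a generization of `x` -/
theorem agree_at_generization (x : X) (U : X.Opens)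
    (a : (U : Scheme.{u}) ⟶ Y) (b : Spec (X.presheaf.stalk x) ⟶ Y)
    (hab : ((X.fromSpecStalk x) ⁻¹ᵁ U).ι ≫ b = ((X.fromSpecStalk x) ∣_ U) ≫ a)
    (N₀ : X.Opens) (hxN₀ : x ∈ N₀) (b₀ : (N₀ : Scheme.{u}) ⟶ Y)
    (hb₀ : b = N₀.fromSpecStalkOfMem x hxN₀ ≫ b₀)
    (z : X) (hzU : z ∈ U) (hzN₀ : z ∈ N₀) (hzx : z ⤳ x) :
    U.fromSpecStalkOfMem z hzU ≫ a = N₀.fromSpecStalkOfMem z hzN₀ ≫ b₀ := by
  let sp : Spec (X.presheaf.stalk z) ⟶ Spec (X.presheaf.stalk x) :=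
    Spec.map (X.presheaf.stalkSpecializes hzx)
  have hsp : sp ≫ X.fromSpecStalk x = X.fromSpecStalk z :=
    Scheme.SpecMap_stalkSpecializes_fromSpecStalk hzx
  have h1 : N₀.fromSpecStalkOfMem z hzN₀ = sp ≫ N₀.fromSpecStalkOfMem x hxN₀ := by
    rw [← cancel_mono N₀.ι, Category.assoc, Scheme.Opens.fromSpecStalkOfMem_ι,
      Scheme.Opens.fromSpecStalkOfMem_ι, hsp]
  let V : (Spec (X.presheaf.stalk x)).Opens := (X.fromSpecStalk x) ⁻¹ᵁ U
  have hr : Set.range sp ⊆ Set.range V.ι := by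
    rw [Scheme.Opens.range_ι]
    rintro _ ⟨w, rfl⟩
    change X.fromSpecStalk x (sp w) ∈ U
    rw [← Scheme.Hom.comp_apply, hsp]
    have h2 : X.fromSpecStalk z w ⤳ z := by
      have : X.fromSpecStalk z w ∈ Set.range (X.fromSpecStalk z) := ⟨w, rfl⟩
      rw [Scheme.range_fromSpecStalk] at this
      exact this
    exact h2.mem_open U.2 hzU
  let sp' : Spec (X.presheaf.stalk z) ⟶ V := IsOpenImmersion.lift V.ι sp hr
  have hsp' : sp' ≫ V.ι = sp := IsOpenImmersion.lift_fac _ _ _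
  have h3 : sp' ≫ ((X.fromSpecStalk x) ∣_ U) = U.fromSpecStalkOfMem z hzU := by
    rw [← cancel_mono U.ι, Category.assoc, morphismRestrict_ι, reassoc_of% hsp', hsp,
      Scheme.Opens.fromSpecStalkOfMem_ι]
  rw [h1, Category.assoc, ← hb₀, ← h3, Category.assoc, ← hab, reassoc_of% hsp']

theorem exists_glue (p : X ⟶ S) (q : Y ⟶ S) [LocallyOfFinitePresentation q] (x : X)
    (U : X.Opens) (hU : (U : Set X) = {x}ᶜ) [QuasiCompact U.ι]
    (a : (U : Scheme.{u}) ⟶ Y) (b : Spec (X.presheaf.stalk x) ⟶ Y) (ha : a ≫ q = U.ι ≫ p)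
    (hb : b ≫ q = X.fromSpecStalk x ≫ p)
    (hab : ((X.fromSpecStalk x) ⁻¹ᵁ U).ι ≫ b = ((X.fromSpecStalk x) ∣_ U) ≫ a) :
    ∃ g : X ⟶ Y, g ≫ q = p ∧ U.ι ≫ g = a ∧ X.fromSpecStalk x ≫ g = b := by
  obtain ⟨N₀, hxN₀, b₀, hb₀, hb₀q⟩ :=
    Groth.Agent.Lib.Helper13.SpreadFP.spread_out_of_finitePresentation' p q b hb
  let T₀ : X.Opens := N₀ ⊓ U
  let α : (T₀ : Scheme.{u}) ⟶ Y := X.homOfLE (inf_le_right : T₀ ≤ U) ≫ a
  let β : (T₀ : Scheme.{u}) ⟶ Y := X.homOfLE (inf_le_left : T₀ ≤ N₀) ≫ b₀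
  have hα : α ≫ q = T₀.ι ≫ p := by
    change (X.homOfLE _ ≫ a) ≫ q = _
    rw [Category.assoc, ha, Scheme.homOfLE_ι_assoc]
  have hβ : β ≫ q = T₀.ι ≫ p := by
    change (X.homOfLE _ ≫ b₀) ≫ q = _
    rw [Category.assoc, hb₀q, Scheme.homOfLE_ι_assoc]
  -- the agreement locus
  let Ragree : (T₀ : Scheme.{u}).Opens := sSup {O' | O'.ι ≫ α = O'.ι ≫ β}
  let R : X.Opens := T₀.ι ''ᵁ Ragree
  have hgen : ∀ z ∈ U, z ⤳ x → z ∈ R := by
    intro z hzU hzx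
    have hzN₀ : z ∈ N₀ := hzx.mem_open N₀.2 hxN₀
    have hzT₀ : z ∈ T₀ := ⟨hzN₀, hzU⟩
    have h1 : (T₀ : Scheme.{u}).fromSpecStalk ⟨z, hzT₀⟩ ≫ α =
        (T₀ : Scheme.{u}).fromSpecStalk ⟨z, hzT₀⟩ ≫ β := by
      rw [fromSpecStalk_eq_fromSpecStalkOfMem, Category.assoc, Category.assoc]
      congr 1
      change T₀.fromSpecStalkOfMem z hzT₀ ≫ X.homOfLE _ ≫ a =
        T₀.fromSpecStalkOfMem z hzT₀ ≫ X.homOfLE _ ≫ b₀
      rw [reassoc_of% fromSpecStalkOfMem_homOfLE, reassoc_of% fromSpecStalkOfMem_homOfLE]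
      exact agree_at_generization x U a b hab N₀ hxN₀ b₀ hb₀ z hzU hzN₀ hzx
    obtain ⟨O', hzO', hO'⟩ := spread_out_unique_of_locallyOfFiniteType' (T₀.ι ≫ p) q α β hα hβ h1
    refine ⟨⟨z, hzT₀⟩, ?_, rfl⟩
    exact TopologicalSpace.Opens.mem_sSup.mpr ⟨O', hO', hzO'⟩
  obtain ⟨N', hxN', hN'R⟩ := GenNhd.exists_nhd_inf_le x U R hgen
  let N₁ : X.Opens := N' ⊓ N₀
  have hxN₁ : x ∈ N₁ := ⟨hxN', hxN₀⟩
  let M : X.Opens := U ⊓ N₁
  have hMT₀ : M ≤ T₀ := fun z hz => ⟨hz.2.2, hz.1⟩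
  have hMR : M ≤ R := fun z hz => hN'R ⟨hz.2.1, hz.1⟩
  let f : (M : Scheme.{u}) ⟶ T₀ := X.homOfLE hMT₀
  have hfαβ : f ≫ α = f ≫ β := by
    have hpt : ∀ m : (M : Scheme.{u}), ∃ O' : (T₀ : Scheme.{u}).Opens,
        O'.ι ≫ α = O'.ι ≫ β ∧ f m ∈ O' := by
      intro m
      obtain ⟨t, ht, htm⟩ := hMR m.2
      obtain ⟨O', hO', htO'⟩ := TopologicalSpace.Opens.mem_sSup.mp ht
      refine ⟨O', hO', ?_⟩
      have : f m = t := by
        apply T₀.ι.isOpenEmbedding.injective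
        rw [← Scheme.Hom.comp_apply, Scheme.homOfLE_ι]
        exact htm.symm
      rw [this]; exact htO'
    choose O' hO' hmO' using hpt
    let 𝒱 := fun m : (M : Scheme.{u}) => f ⁻¹ᵁ O' m
    have h𝒱 : IsOpenCover 𝒱 := by
      rw [IsOpenCover, eq_top_iff]
      intro m _
      exact TopologicalSpace.Opens.mem_iSup.mpr ⟨m, hmO' m⟩
    refine ((M : Scheme.{u}).openCoverOfIsOpenCover 𝒱 h𝒱).hom_ext _ _ fun m => ?_
    change (f ⁻¹ᵁ O' m).ι ≫ f ≫ α = (f ⁻¹ᵁ O' m).ι ≫ f ≫ β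
    rw [← morphismRestrict_ι_assoc, ← morphismRestrict_ι_assoc, hO' m]
  -- glue
  let c : (N₁ : Scheme.{u}) ⟶ Y := X.homOfLE (inf_le_right : N₁ ≤ N₀) ≫ b₀
  have hsup : U ⊔ N₁ = ⊤ := by
    rw [eq_top_iff]
    intro z _
    by_cases hz : z = x
    · exact Or.inr (hz ▸ hxN₁)
    · refine Or.inl ?_
      change z ∈ (U : Set X)
      rw [hU]; exact hz
  have hac : X.homOfLE (inf_le_left : U ⊓ N₁ ≤ U) ≫ a =
      X.homOfLE (inf_le_right : U ⊓ N₁ ≤ N₁) ≫ c := by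
    have h1 : X.homOfLE (inf_le_left : U ⊓ N₁ ≤ U) ≫ a = f ≫ α := by
      change _ = X.homOfLE hMT₀ ≫ X.homOfLE _ ≫ a
      rw [Scheme.homOfLE_homOfLE_assoc]
    have h2 : X.homOfLE (inf_le_right : U ⊓ N₁ ≤ N₁) ≫ c = f ≫ β := by
      change X.homOfLE _ ≫ X.homOfLE _ ≫ b₀ = X.homOfLE hMT₀ ≫ X.homOfLE _ ≫ b₀
      rw [Scheme.homOfLE_homOfLE_assoc, Scheme.homOfLE_homOfLE_assoc]
    rw [h1, h2, hfαβ]
  obtain ⟨g, hgU, hgN⟩ := exists_glue_two U N₁ hsup a c hac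
  refine ⟨g, ?_, hgU, ?_⟩
  · refine hom_ext_of_sup_eq_top _ _ U N₁ hsup ?_ ?_
    · rw [reassoc_of% hgU, ha]
    · rw [reassoc_of% hgN]
      change (X.homOfLE _ ≫ b₀) ≫ q = _
      rw [Category.assoc, hb₀q, Scheme.homOfLE_ι_assoc]
  · rw [← N₁.fromSpecStalkOfMem_ι x hxN₁, Category.assoc, hgN, hb₀]
    change N₁.fromSpecStalkOfMem x hxN₁ ≫ X.homOfLE _ ≫ b₀ = _
    rw [reassoc_of% fromSpecStalkOfMem_homOfLE]

end Groth.Agent.Lib.Helper9.GlueStalk
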