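import Mathlib.RingTheory.GradedAlgebra.FiniteType
import Mathlib.RingTheory.GradedAlgebra.HomogeneousLocalization
import Mathlib.Algebra.Group.Submonoid.Finsupp

set_option autoImplicit false

namespace Groth.Agent.Lib.Helper9

open DirectSum

variable {R A : Type*} [CommRing R] [CommRing A] [Algebra R A]
  (𝒜 : ℕ → Submodule R A) [GradedAlgebra 𝒜]

/-- The degree `n` component of any element is an `𝒜 0`-combination of monomials of degree `n` in
homogeneous generators. -/
theorem decompose_mem_span_monomials {ι' : Type*} [Fintype ι'] (v : ι' → A)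
    (hx : Algebra.adjoin (𝒜 0) (Set.range v) = ⊤) (dv : ι' → ℕ) (hxd : ∀ i, v i ∈ 𝒜 (dv i))
    (n : ℕ) (a : A) :
    ((DirectSum.decompose 𝒜 a n : 𝒜 n) : A) ∈ Submodule.span (𝒜 0)
      {x : A | ∃ ai : ι' → ℕ, ∑ i, ai i • dv i = n ∧ x = ∏ i, v i ^ ai i} := by
  classical
  have : a ∈ Submodule.span (𝒜 0) (Submonoid.closure (Set.range v) : Set A) := by
    rw [← Algebra.adjoin_eq_span, hx]
    trivial
  induction this using Submodule.span_induction with
  | mem a ha' =>
    obtain ⟨ai, rfl⟩ := Submonoid.exists_of_mem_closure_range _ _ ha'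
    have hmem : (∏ i, v i ^ ai i) ∈ 𝒜 (∑ i, ai i • dv i) :=
      SetLike.prod_pow_mem_graded _ _ _ _ fun i _ ↦ hxd i
    by_cases H : ∑ i, ai i • dv i = n
    · apply Submodule.subset_span
      refine ⟨ai, H, ?_⟩
      exact DirectSum.decompose_of_mem_same _ (H ▸ hmem)
    · rw [DirectSum.decompose_of_mem_ne _ hmem H]
      exact zero_mem _
  | zero => simp
  | add s t hs ht hs' ht' =>
    rw [DirectSum.decompose_add, DirectSum.add_apply, Submodule.coe_add]
    exact add_mem hs' ht'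
  | smul r x hx hx' =>
    have : ((DirectSum.decompose 𝒜 (r • x) n : 𝒜 n) : A) = r • ((DirectSum.decompose 𝒜 x n : 𝒜 n) : A) := by
      rw [Algebra.smul_def, Algebra.smul_def]
      exact DirectSum.coe_decompose_mul_of_left_mem_zero 𝒜 r.2
    rw [this]
    exact Submodule.smul_mem _ r hx'

theorem mem_span_monomials {ι' : Type*} [Fintype ι'] (v : ι' → A)
    (hx : Algebra.adjoin (𝒜 0) (Set.range v) = ⊤) (dv : ι' → ℕ) (hxd : ∀ i, v i ∈ 𝒜 (dv i))
    (n : ℕ) (a : A) (ha : a ∈ 𝒜 n) :
    a ∈ Submodule.span (𝒜 0)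
      {x : A | ∃ ai : ι' → ℕ, ∑ i, ai i • dv i = n ∧ x = ∏ i, v i ^ ai i} := by
  have := decompose_mem_span_monomials 𝒜 v hx dv hxd n a
  rwa [DirectSum.decompose_of_mem_same _ ha] at this

end Groth.Agent.Lib.Helper9
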