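import Mathlib
import Groth.Prelude.Def_HRes
import Groth.Agent.Lib.Helper9.ExtFun
set_option backward.isDefEq.respectTransparency false
set_option maxHeartbeats 800000
set_option autoImplicit false
set_option linter.unusedSectionVars false
set_option linter.unusedVariables false
universe u
open CategoryTheory CategoryTheory.Limits AlgebraicGeometry Opposite

namespace Groth.Agent.Lib.Helper9.HResFun

open Abelian

variable (K : Precoverage Scheme.{u})

/-- characterisation of `pullConst.inv` through the sheafification unit -/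
lemma toSheafify_pullConst_inv {S T : Scheme.{u}} (f : T ⟶ S) (M : AddCommGrpCat.{u + 1}) :
    toSheafify (QuotSh.J K T) ((Functor.const _).obj M) ≫ (HRes.pullConst K f M).inv.hom =
      (Over.map f).op.whiskerLeft (toSheafify (QuotSh.J K S) ((Functor.const _).obj M)) :=
  (Over.map f).toSheafify_pullbackSheafificationCompatibility AddCommGrpCat.{u + 1}
    (QuotSh.J K T) (QuotSh.J K S) ((Functor.const _).obj M)

lemma pullConst_inv_id (S : Scheme.{u}) (M : AddCommGrpCat.{u + 1}) :
    (HRes.pullConst K (𝟙 S) M).inv ≫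
      (K.toGrothendieck.overMapPullbackId AddCommGrpCat.{u + 1} S).hom.app
        ((constantSheaf (QuotSh.J K S) AddCommGrpCat.{u + 1}).obj M) = 𝟙 _ := by
  apply Sheaf.hom_ext
  apply sheafify_hom_ext _ _ _ ((constantSheaf (QuotSh.J K S) AddCommGrpCat.{u + 1}).obj M).property
  rw [ObjectProperty.FullSubcategory.comp_hom, ← Category.assoc, toSheafify_pullConst_inv]
  refine NatTrans.ext (funext fun U => ?_)
  simp only [NatTrans.comp_app, Functor.whiskerLeft_app,
    GrothendieckTopology.overMapPullbackId_hom_app_hom_app]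
  have := (toSheafify (QuotSh.J K S) ((Functor.const (Over S)ᵒᵖ).obj M)).naturality
    ((Over.mapId S).inv.app (unop U)).op
  exact (this.symm.trans (Category.id_comp _)).trans (Category.comp_id _).symm

theorem pull_id (S : Scheme.{u}) (F : BigSite.Ab K S) (n : ℕ) (x : BigSite.H K S F n) :
    Sheaf.H.map ((K.toGrothendieck.overMapPullbackId AddCommGrpCat.{u + 1} S).hom.app F) n
      (HRes.pull K (𝟙 S) F n x) = x := by
  rw [HRes.pull_apply, Sheaf.H.map_apply, Ext.comp_assoc_of_third_deg_zero]
  have h := ExtFun.mapExactFunctor_naturality (BigSite.pullBig K (𝟙 S) AddCommGrpCat.{u + 1}) (𝟭 _)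
    (K.toGrothendieck.overMapPullbackId AddCommGrpCat.{u + 1} S).hom n x
  rw [ExtFun.mapExactFunctor_id] at h
  erw [h]
  rw [← Ext.comp_assoc_of_second_deg_zero, Ext.mk₀_comp_mk₀]
  erw [pullConst_inv_id]
  rw [Ext.mk₀_id_comp]


lemma pullConst_inv_comp {S T T' : Scheme.{u}} (f : T ⟶ S) (g : T' ⟶ T) (M : AddCommGrpCat.{u + 1}) :
    (HRes.pullConst K g M).inv ≫
      (BigSite.pullBig K g AddCommGrpCat.{u + 1}).map (HRes.pullConst K f M).inv ≫
        (K.toGrothendieck.overMapPullbackComp AddCommGrpCat.{u + 1} g f).hom.app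
          ((constantSheaf (QuotSh.J K S) AddCommGrpCat.{u + 1}).obj M) =
      (HRes.pullConst K (g ≫ f) M).inv := by
  apply Sheaf.hom_ext
  apply sheafify_hom_ext _ _ _
    ((BigSite.pullBig K (g ≫ f) AddCommGrpCat.{u + 1}).obj
      ((constantSheaf (QuotSh.J K S) AddCommGrpCat.{u + 1}).obj M)).property
  rw [ObjectProperty.FullSubcategory.comp_hom, ObjectProperty.FullSubcategory.comp_hom,
    ← Category.assoc, toSheafify_pullConst_inv, toSheafify_pullConst_inv]
  refine NatTrans.ext (funext fun U => ?_)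
  simp only [NatTrans.comp_app, Functor.whiskerLeft_app,
    GrothendieckTopology.overMapPullbackComp_hom_app_hom_app]
  have h1 := congrArg (fun t => t.app ((Over.map g).op.obj U)) (toSheafify_pullConst_inv K f M)
  simp only [NatTrans.comp_app, Functor.whiskerLeft_app] at h1
  have h2 := (toSheafify (QuotSh.J K S) ((Functor.const (Over S)ᵒᵖ).obj M)).naturality
    ((Over.mapComp g f).hom.app (unop U)).op
  erw [← Category.assoc, h1]
  exact (h2.symm.trans (Category.id_comp _))

theorem pull_comp {S T T' : Scheme.{u}} (f : T ⟶ S) (g : T' ⟶ T) (F : BigSite.Ab K S) (n : ℕ)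
    (x : BigSite.H K S F n) :
    HRes.pull K (g ≫ f) F n x =
      Sheaf.H.map ((K.toGrothendieck.overMapPullbackComp AddCommGrpCat.{u + 1} g f).hom.app F) n
        (HRes.pull K g ((BigSite.pullBig K f AddCommGrpCat.{u + 1}).obj F) n (HRes.pull K f F n x)) := by
  haveI : PreservesFiniteLimits (BigSite.pullBig K f AddCommGrpCat.{u + 1} ⋙
      BigSite.pullBig K g AddCommGrpCat.{u + 1}) := comp_preservesFiniteLimits _ _
  haveI : PreservesFiniteColimits (BigSite.pullBig K f AddCommGrpCat.{u + 1} ⋙
      BigSite.pullBig K g AddCommGrpCat.{u + 1}) := comp_preservesFiniteColimits _ _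
  rw [HRes.pull_apply, HRes.pull_apply, HRes.pull_apply, Sheaf.H.map_apply,
    Ext.mapExactFunctor_comp, Ext.mapExactFunctor_mk₀]
  rw [← ExtFun.mapExactFunctor_comp_functor]
  rw [Ext.comp_assoc_of_third_deg_zero, Ext.comp_assoc_of_third_deg_zero]
  have h := ExtFun.mapExactFunctor_naturality
    (BigSite.pullBig K f AddCommGrpCat.{u + 1} ⋙ BigSite.pullBig K g AddCommGrpCat.{u + 1})
    (BigSite.pullBig K (g ≫ f) AddCommGrpCat.{u + 1})
    (K.toGrothendieck.overMapPullbackComp AddCommGrpCat.{u + 1} g f).hom n x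
  erw [h]
  rw [← Ext.comp_assoc_of_second_deg_zero, ← Ext.comp_assoc_of_second_deg_zero, Ext.mk₀_comp_mk₀,
    Ext.mk₀_comp_mk₀, Category.assoc]
  erw [pullConst_inv_comp]

end Groth.Agent.Lib.Helper9.HResFun
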