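import Groth.Agent.Lib.Helper9.PhSheaf2
import Mathlib.AlgebraicGeometry.Morphisms.FormallyUnramified
import Mathlib.RingTheory.Kaehler.Basic

namespace Groth.Agent.Lib.Helper9.VCov

open CategoryTheory CategoryTheory.Limits AlgebraicGeometry TopologicalSpace IsLocalRing
open MorphismProperty TensorProduct

universe u w w' v

theorem respectsRight_lfp_openImm :
    RespectsRight @LocallyOfFinitePresentation.{u} @IsOpenImmersion.{u} :=
  ⟨fun i hi f hf => by
    haveI : IsOpenImmersion i := hi
    haveI : LocallyOfFinitePresentation f := hf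
    infer_instance⟩

set_option backward.isDefEq.respectTransparency.types false in
/-- the diagonal of a morphism locally of finite type is locally of finite presentation. -/
theorem locallyOfFinitePresentation_diagonal {X Y : Scheme.{u}} (f : X ⟶ Y)
    [LocallyOfFiniteType f] : LocallyOfFinitePresentation (pullback.diagonal f) := by
  wlog hX : (∃ S, X = Spec S) ∧ ∃ R, Y = Spec R with H
  · haveI := respectsRight_lfp_openImm.{u}
    let 𝒰Y := Y.affineCover
    let 𝒰X (j : (Y.affineCover.pullback₁ f).I₀) :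
        ((Y.affineCover.pullback₁ f).X j).OpenCover := Scheme.affineCover _
    apply IsZariskiLocalAtTarget.of_range_subset_iSup _
      (Scheme.Pullback.range_diagonal_subset_diagonalCoverDiagonalRange f 𝒰Y 𝒰X)
    intro ⟨i, j⟩
    rw [arrow_mk_iso_iff (P := @LocallyOfFinitePresentation)
      (Scheme.Pullback.diagonalRestrictIsoDiagonal f 𝒰Y 𝒰X i j)]
    have hfin : LocallyOfFiniteType ((𝒰X i).f j ≫ pullback.snd f (𝒰Y.f i)) :=
      comp_mem _ _ _ inferInstance (pullback_snd _ _ inferInstance)
    exact H _ ⟨⟨_, rfl⟩, ⟨_, rfl⟩⟩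
  obtain ⟨⟨S, rfl⟩, R, rfl⟩ := hX
  obtain ⟨f, rfl⟩ := Spec.map_surjective f
  rw [HasRingHomProperty.Spec_iff (P := @LocallyOfFiniteType)] at *
  algebraize [f.hom]
  rw [show f = CommRingCat.ofHom (algebraMap R S) from rfl, diagonal_SpecMap R S,
    cancel_right_of_respectsIso (P := @LocallyOfFinitePresentation),
    HasRingHomProperty.Spec_iff (P := @LocallyOfFinitePresentation)]
  have : Algebra.EssFiniteType R S := inferInstance
  refine RingHom.FinitePresentation.of_surjective _ ?_ (KaehlerDifferential.ideal_fg R S)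
  intro x
  exact ⟨x ⊗ₜ 1, by simp⟩

/-- a jointly surjective family of closed immersions has the valuative lifting property. -/
theorem hasValLift_of_closed_cover {T : Scheme.{u}} (E : PreZeroHypercover.{w} T)
    (hcl : ∀ j, IsClosedImmersion (E.f j)) (hsurj : ∀ t : T, ∃ j, t ∈ Set.range (E.f j)) :
    HTop.HasValLift E := by
  apply hasValLift_of_specLift
  intro Z g z' z h
  obtain ⟨j, x, hx⟩ := hsurj (g z')
  obtain ⟨w', hw'1, hw'2⟩ := Scheme.Pullback.exists_preimage_pullback (f := g) (g := E.f j)
    z' x hx.symm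
  haveI := hcl j
  have hce : Topology.IsClosedEmbedding (pullback.fst g (E.f j)) :=
    (pullback.fst g (E.f j)).isClosedEmbedding
  have hz : z ∈ Set.range (pullback.fst g (E.f j)) :=
    h.mem_closed hce.isClosed_range ⟨w', hw'1⟩
  obtain ⟨w, hw⟩ := hz
  refine ⟨j, w', w, ?_, hw'1, hw⟩
  rw [← hce.isInducing.specializes_iff, hw'1, hw]
  exact h

/-- a finite family of affine morphisms with the valuative lifting property is a V covering. -/
theorem isVCover_of_hasValLift_of_isAffineHom {T : Scheme.{u}} (E : PreZeroHypercover.{w} T)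
    [Finite E.I₀] (haff : ∀ j, IsAffineHom (E.f j)) (hE : HTop.HasValLift E) :
    HTop.IsVCover E := by
  intro U
  obtain ⟨n, ⟨e⟩⟩ := Finite.exists_equiv_fin E.I₀
  haveI : IsAffine (U.1 : Scheme.{u}) := U.2
  refine ⟨(reindex E (fun k : Fin n => e.symm k)).pullback₁ U.1.ι,
    ⟨U.2, inferInstanceAs (Finite (Fin n)), fun k => ?_, ?_⟩,
    fun k => ⟨e.symm k, pullback.snd _ _, pullback.condition.symm⟩⟩
  · haveI := haff (e.symm k)
    change IsAffine (pullback U.1.ι (E.f (e.symm k)))
    exact isAffine_of_isAffineHom (pullback.fst U.1.ι (E.f (e.symm k)))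
  · intro V _ _ g'
    obtain ⟨W, hW1, hW2, φ, hφ, j, h, hh⟩ := hE V (g' ≫ U.1.ι)
    obtain ⟨k, rfl⟩ := e.symm.surjective j
    refine ⟨W, hW1, hW2, φ, hφ, k, ?_⟩
    have hc : (Spec.map φ ≫ g') ≫ U.1.ι = h ≫ E.f (e.symm k) := by
      rw [Category.assoc]; exact hh.symm
    exact ⟨(pullback.lift (Spec.map φ ≫ g') h hc : Spec W ⟶ pullback U.1.ι (E.f (e.symm k))),
      pullback.lift_fst _ _ hc⟩

/-- a finite jointly surjective family of closed immersions of finite presentation is an
h covering. -/
theorem isHCover_of_closed_cover {T : Scheme.{u}} (E : PreZeroHypercover.{w} T) [Finite E.I₀]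
    (hcl : ∀ j, IsClosedImmersion (E.f j)) (hfp : ∀ j, LocallyOfFinitePresentation (E.f j))
    (hsurj : ∀ t : T, ∃ j, t ∈ Set.range (E.f j)) : HTop.IsHCover E :=
  ⟨hfp, isVCover_of_hasValLift_of_isAffineHom E (fun j => by haveI := hcl j; infer_instance)
    (hasValLift_of_closed_cover E hcl hsurj)⟩

end Groth.Agent.Lib.Helper9.VCov
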