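import Groth.Agent.Lib.Helper9.HSheaf1

namespace Groth.Agent.Lib.Helper9.VCov

open CategoryTheory CategoryTheory.Limits AlgebraicGeometry TopologicalSpace IsLocalRing
open MorphismProperty

universe u w w' v

section KeyCompat

variable {X Y Z W : Scheme.{u}} (f : X ⟶ Y) (i : Z ⟶ Y) (a b : W ⟶ X) (hab : a ≫ f = b ≫ f)

/-- the locus where `a` and `b` agree -/
noncomputable abbrev eqLocus : Scheme.{u} :=
  pullback (pullback.lift a b hab) (pullback.diagonal f)

noncomputable abbrev eqι : eqLocus f a b hab ⟶ W := pullback.fst _ _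

theorem eqι_comp : eqι f a b hab ≫ a = eqι f a b hab ≫ b := by
  have h := pullback.condition (f := pullback.lift a b hab) (g := pullback.diagonal f)
  have h1 := congrArg (· ≫ pullback.fst f f) h
  have h2 := congrArg (· ≫ pullback.snd f f) h
  simp only [Category.assoc, pullback.lift_fst, pullback.lift_snd, pullback.diagonal_fst,
    pullback.diagonal_snd, Category.comp_id] at h1 h2
  rw [h1, h2]

theorem exists_lift_eqι {V : Scheme.{u}} (j : V ⟶ W) (hj : j ≫ a = j ≫ b) :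
    ∃ l : V ⟶ eqLocus f a b hab, l ≫ eqι f a b hab = j :=
  ⟨pullback.lift j (j ≫ a) (by
    apply pullback.hom_ext
    · rw [Category.assoc, pullback.lift_fst, Category.assoc, pullback.diagonal_fst,
        Category.comp_id]
    · rw [Category.assoc, pullback.lift_snd, Category.assoc, pullback.diagonal_snd,
        Category.comp_id, hj]), pullback.lift_fst _ _ _⟩

set_option backward.isDefEq.respectTransparency.types false in
instance [IsSeparated f] : IsClosedImmersion (eqι f a b hab) :=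
  MorphismProperty.pullback_fst _ _ inferInstance

set_option backward.isDefEq.respectTransparency.types false in
theorem lfp_eqι [LocallyOfFiniteType f] : LocallyOfFinitePresentation (eqι f a b hab) :=
  MorphismProperty.pullback_fst _ _ (locallyOfFinitePresentation_diagonal f)

include hab in
theorem comp_eq_of_isIso_restrict (U : Y.Opens) [IsIso (f ∣_ U)] :
    ((a ≫ f) ⁻¹ᵁ U).ι ≫ a = ((a ≫ f) ⁻¹ᵁ U).ι ≫ b := by
  set j := ((a ≫ f) ⁻¹ᵁ U).ι with hj
  have hra : Set.range (j ≫ a) ⊆ Set.range (f ⁻¹ᵁ U).ι := by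
    rw [Scheme.Opens.range_ι]
    rintro _ ⟨x, rfl⟩
    have hx : j x ∈ Set.range j := ⟨x, rfl⟩
    rw [hj, Scheme.Opens.range_ι] at hx
    exact hx
  have hrb : Set.range (j ≫ b) ⊆ Set.range (f ⁻¹ᵁ U).ι := by
    rw [Scheme.Opens.range_ι]
    rintro _ ⟨x, rfl⟩
    have hx : j x ∈ Set.range j := ⟨x, rfl⟩
    rw [hj, Scheme.Opens.range_ι] at hx
    have e := congrArg (fun g : W ⟶ Y => g (((a ≫ f) ⁻¹ᵁ U).ι x)) hab
    change (b ≫ f) (((a ≫ f) ⁻¹ᵁ U).ι x) ∈ (U : Set Y)
    rw [← e]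
    exact hx
  let a' := IsOpenImmersion.lift (f ⁻¹ᵁ U).ι (j ≫ a) hra
  let b' := IsOpenImmersion.lift (f ⁻¹ᵁ U).ι (j ≫ b) hrb
  have ha' : a' ≫ (f ⁻¹ᵁ U).ι = j ≫ a := IsOpenImmersion.lift_fac _ _ _
  have hb' : b' ≫ (f ⁻¹ᵁ U).ι = j ≫ b := IsOpenImmersion.lift_fac _ _ _
  have : a' ≫ (f ∣_ U) = b' ≫ (f ∣_ U) := by
    rw [← cancel_mono U.ι, Category.assoc, Category.assoc, morphismRestrict_ι,
      ← Category.assoc, ← Category.assoc, ha', hb', Category.assoc, Category.assoc]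
    exact congrArg (j ≫ ·) hab
  have h2 : a' = b' := (cancel_mono (f ∣_ U)).mp this
  rw [← ha', ← hb', h2]

include hab in
theorem closed_cover_surjective (U : Y.Opens) (hU : (U : Set Y) = (Set.range i)ᶜ)
    [IsIso (f ∣_ U)] (w : W) :
    w ∈ Set.range (eqι f a b hab) ∨ w ∈ Set.range (pullback.fst (a ≫ f) i) := by
  by_cases hw : (a ≫ f) w ∈ Set.range i
  · right
    obtain ⟨z, hz⟩ := hw
    obtain ⟨p, hp, -⟩ := Scheme.Pullback.exists_preimage_pullback (f := a ≫ f) (g := i) w z hz.symm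
    exact ⟨p, hp⟩
  · left
    have hwU : w ∈ (a ≫ f) ⁻¹ᵁ U := by
      change (a ≫ f) w ∈ (U : Set Y)
      rw [hU]; exact hw
    obtain ⟨l, hl⟩ := exists_lift_eqι f a b hab _ (comp_eq_of_isIso_restrict f a b hab U)
    have : w ∈ Set.range ((a ≫ f) ⁻¹ᵁ U).ι := by
      rw [Scheme.Opens.range_ι]; exact hwU
    obtain ⟨v, rfl⟩ := this
    exact ⟨l v, by rw [← Scheme.Hom.comp_apply, hl]⟩

end KeyCompat

end Groth.Agent.Lib.Helper9.VCov
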