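import Groth.Agent.Lib.Helper9.HSheaf2

namespace Groth.Agent.Lib.Helper9.VCov

open CategoryTheory CategoryTheory.Limits AlgebraicGeometry TopologicalSpace IsLocalRing
open MorphismProperty Opposite

universe u w w' v

set_option backward.isDefEq.respectTransparency.types false in
/-- S14258 (without the affineness hypothesis) -/
theorem hSheaf_sections_cartesian (S : Scheme.{u}) (F : HTop.ShH S)
    {E Z X Y : Over S} (e : E ⟶ X) (π : E ⟶ Z) (f : X ⟶ Y) (i : Z ⟶ Y)
    [IsProper f.left] [Surjective f.left] [LocallyOfFinitePresentation f.left]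
    [IsClosedImmersion i.left] [LocallyOfFinitePresentation i.left]
    (hsq : IsPullback e.left π.left f.left i.left)
    (U : Y.left.Opens) (hU : (U : Set Y.left) = (Set.range i.left.base)ᶜ)
    (hiso : IsIso (f.left ∣_ U))
    (t : F.obj.obj (op Z)) (s' : F.obj.obj (op X)) (hts : F.obj.map π.op t = F.obj.map e.op s') :
    ∃! s : F.obj.obj (op Y), F.obj.map i.op s = t ∧ F.obj.map f.op s = s' := by
  have hF : Presieve.IsSheaf (HTop.hPrecoverage.toGrothendieck.over S) F.obj :=
    (isSheaf_iff_isSheaf_of_type _ _).mp F.property
  have h1 : Presieve.IsSheafFor F.obj (Presieve.singleton f) :=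
    isSheafFor_singleton_over S F.obj hF f (by
      rw [← PreZeroHypercover.presieve₀_singleton.{_, _, 0} f.left,
        HTop.presieve₀_mem_hPrecoverage_iff]
      exact isHCover_singleton_of_proper_surjective f.left)
  rw [← Presieve.ofArrows_pUnit.{0}, Presieve.isSheafFor_arrows_iff] at h1
  have hcompat : Presieve.Arrows.Compatible F.obj (fun _ : PUnit.{1} => f) (fun _ => s') := by
    intro _ _ W g1 g2 hg
    have hab : g1.left ≫ f.left = g2.left ≫ f.left := by
      rw [← Over.comp_left, ← Over.comp_left, hg]
    let C₁ : Over S := Over.mk (eqι f.left g1.left g2.left hab ≫ W.hom)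
    let c₁ : C₁ ⟶ W := Over.homMk (eqι f.left g1.left g2.left hab) rfl
    let C₂ : Over S := Over.mk (pullback.fst (g1.left ≫ f.left) i.left ≫ W.hom)
    let c₂ : C₂ ⟶ W := Over.homMk (pullback.fst (g1.left ≫ f.left) i.left) rfl
    let Zf : Bool → Over S := fun j => Bool.rec C₂ C₁ j
    let gf : ∀ j, Zf j ⟶ W := fun j => Bool.rec (motive := fun j => Zf j ⟶ W) c₂ c₁ j
    let E₀ : PreZeroHypercover.{0} W.left := ⟨Bool, fun j => (Zf j).left, fun j => (gf j).left⟩
    have hcov : HTop.IsHCover E₀ := by
      haveI : Finite E₀.I₀ := inferInstanceAs (Finite Bool)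
      apply isHCover_of_closed_cover
      · intro j
        cases j
        · change IsClosedImmersion (pullback.fst (g1.left ≫ f.left) i.left)
          infer_instance
        · change IsClosedImmersion (eqι f.left g1.left g2.left hab)
          infer_instance
      · intro j
        cases j
        · change LocallyOfFinitePresentation (pullback.fst (g1.left ≫ f.left) i.left)
          infer_instance
        · change LocallyOfFinitePresentation (eqι f.left g1.left g2.left hab)
          exact lfp_eqι _ _ _ _
      · intro w
        rcases closed_cover_surjective f.left i.left g1.left g2.left hab U hU w with h | h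
        · exact ⟨true, h⟩
        · exact ⟨false, h⟩
    have hmem : Presieve.ofArrows (fun j => (Zf j).left) (fun j => (gf j).left) ∈
        HTop.hPrecoverage W.left := (HTop.presieve₀_mem_hPrecoverage_iff E₀).mpr hcov
    have hsep := (isSheafFor_ofArrows_over S F.obj hF Zf gf hmem).isSeparatedFor
    apply hsep.ext
    rintro V m ⟨j⟩
    cases j
    · -- the closed part over Z
      change F.obj.map c₂.op (F.obj.map g1.op s') = F.obj.map c₂.op (F.obj.map g2.op s')
      have hc1 : (pullback.fst (g1.left ≫ f.left) i.left ≫ g1.left) ≫ f.left =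
          pullback.snd (g1.left ≫ f.left) i.left ≫ i.left := by
        rw [Category.assoc, pullback.condition]
      have hc2 : (pullback.fst (g1.left ≫ f.left) i.left ≫ g2.left) ≫ f.left =
          pullback.snd (g1.left ≫ f.left) i.left ≫ i.left := by
        rw [Category.assoc, ← hab, pullback.condition]
      let l1 : C₂ ⟶ E := Over.homMk (hsq.lift _ _ hc1) (by
        rw [← Over.w e, ← Category.assoc, hsq.lift_fst, Category.assoc, Over.w g1]
        rfl)
      let l2 : C₂ ⟶ E := Over.homMk (hsq.lift _ _ hc2) (by
        rw [← Over.w e, ← Category.assoc, hsq.lift_fst, Category.assoc, Over.w g2]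
        rfl)
      have e1 : c₂ ≫ g1 = l1 ≫ e := by
        apply Over.OverMorphism.ext
        simp only [Over.comp_left, c₂, l1, Over.homMk_left]
        rw [hsq.lift_fst]
      have e2 : c₂ ≫ g2 = l2 ≫ e := by
        apply Over.OverMorphism.ext
        simp only [Over.comp_left, c₂, l2, Over.homMk_left]
        rw [hsq.lift_fst]
      have e3 : l1 ≫ π = l2 ≫ π := by
        apply Over.OverMorphism.ext
        simp only [Over.comp_left, l1, l2, Over.homMk_left]
        rw [hsq.lift_snd, hsq.lift_snd]
      rw [← Functor.map_comp_apply, ← Functor.map_comp_apply, ← op_comp, ← op_comp,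
        e1, e2, op_comp, op_comp, Functor.map_comp_apply, Functor.map_comp_apply,
        ← hts, ← Functor.map_comp_apply, ← Functor.map_comp_apply, ← op_comp,
        ← op_comp, e3]
    · -- the locus where the two maps agree
      change F.obj.map c₁.op (F.obj.map g1.op s') = F.obj.map c₁.op (F.obj.map g2.op s')
      have e1 : c₁ ≫ g1 = c₁ ≫ g2 := by
        apply Over.OverMorphism.ext
        simp only [Over.comp_left, c₁, Over.homMk_left]
        exact eqι_comp f.left g1.left g2.left hab
      rw [← Functor.map_comp_apply, ← Functor.map_comp_apply, ← op_comp, ← op_comp,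
        e1]
  obtain ⟨s, hs, hsu⟩ := h1 _ hcompat
  refine ⟨s, ⟨?_, hs ⟨⟩⟩, fun s₂ hs₂ => hsu s₂ (fun _ => hs₂.2)⟩
  have hπ : Presieve.IsSheafFor F.obj (Presieve.singleton π) :=
    isSheafFor_singleton_over S F.obj hF π (by
      rw [← PreZeroHypercover.presieve₀_singleton.{_, _, 0} π.left,
        HTop.presieve₀_mem_hPrecoverage_iff]
      haveI : IsProper π.left := MorphismProperty.of_isPullback hsq ‹IsProper f.left›
      haveI : Surjective π.left := MorphismProperty.of_isPullback hsq ‹Surjective f.left›
      haveI : LocallyOfFinitePresentation π.left :=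
        MorphismProperty.of_isPullback hsq ‹LocallyOfFinitePresentation f.left›
      exact isHCover_singleton_of_proper_surjective π.left)
  have hinj := Presieve.isSeparatedFor_singleton.mp hπ.isSeparatedFor
  apply hinj
  have e4 : π ≫ i = e ≫ f := by
    apply Over.OverMorphism.ext
    simp only [Over.comp_left]
    exact hsq.w.symm
  rw [← Functor.map_comp_apply, ← op_comp, e4, op_comp, Functor.map_comp_apply,
    hs ⟨⟩, hts]

end Groth.Agent.Lib.Helper9.VCov
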