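import Groth.Agent.Lib.Helper9.HSheaf3


namespace Groth.Agent.Lib.Helper9.VCov

open CategoryTheory CategoryTheory.Limits AlgebraicGeometry TopologicalSpace IsLocalRing
open MorphismProperty Opposite

universe u w w' v

/-- a jointly surjective family of universally closed morphisms has the valuative lifting
property. -/
theorem hasValLift_of_univClosed_jointly_surjective {T : Scheme.{u}}
    (E : PreZeroHypercover.{w} T) (hcl : ∀ j, UniversallyClosed (E.f j))
    (hsurj : ∀ t : T, ∃ j, t ∈ Set.range (E.f j)) : HTop.HasValLift E := by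
  apply hasValLift_of_specLift
  intro Z g z' z h
  obtain ⟨j, x, hx⟩ := hsurj (g z')
  obtain ⟨w', hw'1, hw'2⟩ := Scheme.Pullback.exists_preimage_pullback (f := g) (g := E.f j)
    z' x hx.symm
  haveI := hcl j
  have hcm : IsClosedMap (pullback.fst g (E.f j)) := (pullback.fst g (E.f j)).isClosedMap
  obtain ⟨w, hw, hwz⟩ := hcm.specializingMap (a := w') (b := z) (by rw [hw'1]; exact h)
  exact ⟨j, w', w, hw, hw'1, hwz⟩

/-- a finite family of quasi-compact morphisms with the valuative lifting property is a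
V covering. -/
theorem isVCover_of_hasValLift_of_quasiCompact {T : Scheme.{u}} (E : PreZeroHypercover.{w} T)
    [Finite E.I₀] (hqc : ∀ j, QuasiCompact (E.f j)) (hE : HTop.HasValLift E) :
    HTop.IsVCover E := by
  classical
  intro U
  obtain ⟨m, ⟨em⟩⟩ := Finite.exists_equiv_fin E.I₀
  have hc : ∀ j, IsCompact ((E.f j) ⁻¹ᵁ U.1 : Set (E.X j)) := fun j =>
    haveI := hqc j
    (E.f j).isCompact_preimage U.2.isCompact
  choose s hs e using fun j => isCompact_iff_finite_and_eq_biUnion_affineOpens.mp (hc j)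
  let n : E.I₀ → ℕ := fun j => (hs j).toFinset.card
  let idx : ∀ j, Fin (n j) → (E.X j).affineOpens := fun j k => ((hs j).toFinset.equivFin.symm k).1
  have hidx : ∀ j k, idx j k ∈ s j := fun j k =>
    (hs j).mem_toFinset.mp ((hs j).toFinset.equivFin.symm k).2
  have hsub : ∀ j k, ((idx j k).1 : Set (E.X j)) ⊆ (E.f j) ⁻¹ᵁ U.1 := by
    intro j k x hx
    change x ∈ (E.f j) ⁻¹ᵁ U.1
    rw [e j]
    exact Opens.mem_iSup.mpr ⟨idx j k, Opens.mem_iSup.mpr ⟨hidx j k, hx⟩⟩
  have hrange : ∀ j k, Set.range ((idx j k).1.ι ≫ E.f j) ⊆ Set.range U.1.ι := by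
    intro j k
    rw [Scheme.Opens.range_ι]
    rintro _ ⟨x, rfl⟩
    have hx : (idx j k).1.ι x ∈ ((idx j k).1 : Set (E.X j)) := by
      have : (idx j k).1.ι x ∈ Set.range (idx j k).1.ι := ⟨x, rfl⟩
      rwa [Scheme.Opens.range_ι] at this
    exact hsub j k hx
  let F : PreZeroHypercover.{0} (U.1 : Scheme.{u}) :=
    { I₀ := Σ a : Fin m, Fin (n (em.symm a))
      X := fun p => ((idx (em.symm p.1) p.2).1 : Scheme.{u})
      f := fun p => IsOpenImmersion.lift U.1.ι ((idx (em.symm p.1) p.2).1.ι ≫ E.f (em.symm p.1))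
        (hrange _ _) }
  have hF : ∀ p : F.I₀, F.f p ≫ U.1.ι = (idx (em.symm p.1) p.2).1.ι ≫ E.f (em.symm p.1) :=
    fun p => IsOpenImmersion.lift_fac _ _ _
  refine ⟨F, ⟨U.2, inferInstanceAs (Finite (Σ a : Fin m, Fin (n (em.symm a)))),
    fun p => (idx (em.symm p.1) p.2).2, ?_⟩, ?_⟩
  · intro R _ _ g
    obtain ⟨W, hW1, hW2, φ, hφ, j, g', hg'⟩ := hE R (g ≫ U.1.ι)
    obtain ⟨a, rfl⟩ := em.symm.surjective j
    have hmem : g' (clPt W) ∈ ((E.f (em.symm a)) ⁻¹ᵁ U.1 : Set (E.X (em.symm a))) := by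
      change (E.f (em.symm a)) (g' (clPt W)) ∈ (U.1 : Set T)
      rw [← Scheme.Hom.comp_apply, hg', ← Category.assoc, Scheme.Hom.comp_apply]
      have : U.1.ι ((Spec.map φ ≫ g) (clPt W)) ∈ Set.range U.1.ι := ⟨_, rfl⟩
      rwa [Scheme.Opens.range_ι] at this
    change g' (clPt W) ∈ (E.f (em.symm a)) ⁻¹ᵁ U.1 at hmem
    rw [e (em.symm a)] at hmem
    obtain ⟨V, hV'⟩ := Opens.mem_iSup.mp hmem
    obtain ⟨hVs, hV⟩ := Opens.mem_iSup.mp hV'
    let k : Fin (n (em.symm a)) :=
      (hs (em.symm a)).toFinset.equivFin ⟨V, (hs (em.symm a)).mem_toFinset.mpr hVs⟩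
    have hk : idx (em.symm a) k = V := by simp [idx, k]
    have hr : Set.range g' ⊆ Set.range (idx (em.symm a) k).1.ι := by
      rw [Scheme.Opens.range_ι, hk]
      exact range_subset_of_closedPoint_mem W g' V.1 hV
    let l : Spec W ⟶ (idx (em.symm a) k).1 := IsOpenImmersion.lift (idx (em.symm a) k).1.ι g' hr
    have hl : l ≫ (idx (em.symm a) k).1.ι = g' := IsOpenImmersion.lift_fac _ _ _
    refine ⟨W, hW1, hW2, φ, hφ, (⟨a, k⟩ : Σ a : Fin m, Fin (n (em.symm a))), l, ?_⟩
    rw [← cancel_mono U.1.ι, Category.assoc, hF ⟨a, k⟩, ← Category.assoc, hl, hg',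
      Category.assoc]
  · intro p
    exact ⟨em.symm p.1, (idx (em.symm p.1) p.2).1.ι, (hF p).symm⟩

/-- a finite jointly surjective family of proper morphisms of finite presentation is an
h covering. -/
theorem isHCover_of_proper_jointly_surjective {T : Scheme.{u}} (E : PreZeroHypercover.{w} T)
    [Finite E.I₀] (hp : ∀ j, IsProper (E.f j)) (hfp : ∀ j, LocallyOfFinitePresentation (E.f j))
    (hsurj : ∀ t : T, ∃ j, t ∈ Set.range (E.f j)) : HTop.IsHCover E :=
  ⟨hfp, isVCover_of_hasValLift_of_quasiCompact E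
    (fun j => by haveI := hp j; infer_instance)
    (hasValLift_of_univClosed_jointly_surjective E
      (fun j => by haveI := hp j; infer_instance) hsurj)⟩

end Groth.Agent.Lib.Helper9.VCov
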