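import Groth.Agent.Lib.Helper9.HSheaf5
import Groth.Agent.Lib.Helper9.MProd
import Groth.Agent.Lib.Helper29.BlowUpUP
import Groth.Prelude.Def_HTop3


namespace Groth.Agent.Lib.Helper9.VCov

open CategoryTheory CategoryTheory.Limits AlgebraicGeometry TopologicalSpace IsLocalRing
open MorphismProperty Opposite

universe u w w' v

/-- converse of `MProd.isIso_imageι_comp_restrict`. -/
lemma isIso_restrict_of_isIso_imageι_comp_restrict {P T : Scheme.{u}} (f : P ⟶ T) (V : T.Opens)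
    (O : P.Opens) (hO : O = f ⁻¹ᵁ V)
    (hiso : IsIso ((O.ι.imageι ≫ f) ∣_ V)) : IsIso (f ∣_ V) := by
  subst hO
  set U := f ⁻¹ᵁ V with hU
  let q := U.ι.imageι ≫ f
  have hr : Set.range U.ι.toImage = ((q ⁻¹ᵁ V : U.ι.image.Opens) : Set _) := by
    ext y
    constructor
    · rintro ⟨u, rfl⟩
      change f (U.ι.imageι (U.ι.toImage u)) ∈ V
      rw [← Scheme.Hom.comp_apply U.ι.toImage U.ι.imageι, Scheme.Hom.toImage_imageι]
      exact u.2
    · intro hy
      have hy' : U.ι.imageι y ∈ U := hy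
      refine ⟨⟨_, hy'⟩, ?_⟩
      apply U.ι.imageι.isEmbedding.injective
      rw [← Scheme.Hom.comp_apply, Scheme.Hom.toImage_imageι]
      rfl
  let e := IsOpenImmersion.isoOfRangeEq U.ι.toImage (q ⁻¹ᵁ V).ι
    (by rw [hr, Scheme.Opens.range_ι])
  have : f ∣_ V = e.hom ≫ (q ∣_ V) := by
    rw [← cancel_mono V.ι, morphismRestrict_ι, Category.assoc, morphismRestrict_ι]
    have h1 : e.hom ≫ (q ⁻¹ᵁ V).ι = U.ι.toImage := IsOpenImmersion.isoOfRangeEq_hom_fac _ _ _
    calc U.ι ≫ f = (U.ι.toImage ≫ U.ι.imageι) ≫ f := by rw [Scheme.Hom.toImage_imageι]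
      _ = (e.hom ≫ (q ⁻¹ᵁ V).ι) ≫ U.ι.imageι ≫ f := by rw [h1, Category.assoc]
      _ = e.hom ≫ (q ⁻¹ᵁ V).ι ≫ q := by simp only [Category.assoc, q]
  rw [this]
  haveI : IsIso (q ∣_ V) := hiso
  infer_instance

theorem isIso_restrict_of_isAlmostBlowUpSquare {E Z X' X : Scheme.{u}} (e : E ⟶ X') (π : E ⟶ Z)
    (b : X' ⟶ X) (i : Z ⟶ X) (h : HTop.IsAlmostBlowUpSquare e π b i) :
    IsIso (b ∣_ i.ker.support.compl) := by
  have hbl := Groth.Agent.Lib.Helper29.EffCart.IsBlowUp.isIso_morphismRestrict h.isBlowUp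
  refine isIso_restrict_of_isIso_imageι_comp_restrict b _ (HTop.awayFrom (i.ker.comap b)) ?_ hbl
  ext x
  change x ∉ (i.ker.comap b).support ↔ b x ∉ i.ker.support
  rw [Scheme.IdealSheafData.support_comap]
  rfl

theorem coe_compl_support_ker {Z X : Scheme.{u}} (i : Z ⟶ X) [IsClosedImmersion i] :
    ((i.ker.support.compl : X.Opens) : Set X) = (Set.range i.base)ᶜ := by
  have : (i.ker.support : Set X) = Set.range i.base := by
    rw [Scheme.Hom.support_ker]
    exact i.isClosedEmbedding.isClosed_range.closure_eq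
  change (i.ker.support : Set X)ᶜ = _
  rw [this]

end Groth.Agent.Lib.Helper9.VCov
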