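import Mathlib
import Groth.Agent.Lib.Helper9.Hart1

set_option backward.isDefEq.respectTransparency false
set_option maxHeartbeats 800000
set_option autoImplicit false
set_option linter.unusedSectionVars false
set_option linter.unusedVariables false
universe u
open CategoryTheory CategoryTheory.Limits AlgebraicGeometry Opposite TopologicalSpace

namespace Groth.Agent.Lib.Helper9.Hart

/-- extension of morphisms to an affine target -/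
theorem ext_affine {U' T Y : Scheme.{u}} (j : U' ⟶ T) (hbij : Function.Bijective j.appTop)
    [IsAffine Y] (f : U' ⟶ Y) : ∃! g : T ⟶ Y, j ≫ g = f := by
  let ψ : Γ(T, ⊤) ≃+* Γ(U', ⊤) := RingEquiv.ofBijective j.appTop.hom hbij
  let φ : Γ(Y, ⊤) ⟶ Γ(T, ⊤) := CommRingCat.ofHom (ψ.symm.toRingHom.comp f.appTop.hom)
  have hφ : φ ≫ j.appTop = f.appTop := by
    ext r
    show ψ (ψ.symm (f.appTop.hom r)) = f.appTop.hom r
    exact ψ.apply_symm_apply _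
  refine ⟨T.toSpecΓ ≫ Spec.map φ ≫ Y.isoSpec.inv, ?_, ?_⟩
  · show j ≫ T.toSpecΓ ≫ Spec.map φ ≫ Y.isoSpec.inv = f
    rw [← Category.assoc, Scheme.toSpecΓ_naturality, Category.assoc, ← Category.assoc (Spec.map _),
      ← Spec.map_comp, hφ, ← Category.assoc, ← Scheme.toSpecΓ_naturality, Category.assoc]
    have : Y.toSpecΓ ≫ Y.isoSpec.inv = 𝟙 Y := Y.isoSpec.hom_inv_id
    rw [this, Category.comp_id]
  · intro g' hg'
    apply ext_of_isAffine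
    have h1 : j ≫ g' = j ≫ (T.toSpecΓ ≫ Spec.map φ ≫ Y.isoSpec.inv) := by
      rw [hg']
      symm
      rw [← Category.assoc, Scheme.toSpecΓ_naturality, Category.assoc,
        ← Category.assoc (Spec.map _), ← Spec.map_comp, hφ, ← Category.assoc,
        ← Scheme.toSpecΓ_naturality, Category.assoc]
      have : Y.toSpecΓ ≫ Y.isoSpec.inv = 𝟙 Y := Y.isoSpec.hom_inv_id
      rw [this, Category.comp_id]
    have h2 := congrArg Scheme.Hom.appTop h1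
    rw [Scheme.Hom.comp_appTop, Scheme.Hom.comp_appTop] at h2
    ext r
    apply hbij.1
    exact congrArg (fun k => k.hom r) h2

theorem hart_appTop {U' T : Scheme.{u}} {j : U' ⟶ T} (hj : Hart j) :
    Function.Bijective j.appTop := hj ⊤

section Ext

variable {U' T Y S : Scheme.{u}} (j : U' ⟶ T) [IsOpenImmersion j] [QuasiCompact j] (hj : Hart j)
  (g : T ⟶ S) (f : Y ⟶ S) [IsAffineHom f]

include hj

theorem hart_snd {T' : Scheme.{u}} (i : T' ⟶ T) [Flat i] : Hart (pullback.snd j i) :=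
  hart_bc (IsPullback.of_hasPullback j i) hj

/-- local uniqueness -/
theorem ext_unique_of_affine {W : S.Opens} (hW : IsAffineOpen W) (hgW : g ⁻¹ᵁ W = ⊤)
    (ψ ψ' : T ⟶ Y) (h1 : ψ ≫ f = g) (h2 : ψ' ≫ f = g) (hres : j ≫ ψ = j ≫ ψ') : ψ = ψ' := by
  haveI : IsAffine ↑(f ⁻¹ᵁ W) := hW.preimage f
  have hr : ∀ χ : T ⟶ Y, χ ≫ f = g → Set.range χ ⊆ Set.range (f ⁻¹ᵁ W).ι := by
    intro χ hχ
    rintro _ ⟨x, rfl⟩
    rw [Scheme.Opens.range_ι]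
    show f (χ x) ∈ W
    have : f (χ x) = g x := by rw [← hχ]; rfl
    rw [this]
    have hx : x ∈ g ⁻¹ᵁ W := by rw [hgW]; trivial
    exact hx
  let ψ₀ := IsOpenImmersion.lift (f ⁻¹ᵁ W).ι ψ (hr ψ h1)
  let ψ₀' := IsOpenImmersion.lift (f ⁻¹ᵁ W).ι ψ' (hr ψ' h2)
  have e : ψ₀ ≫ (f ⁻¹ᵁ W).ι = ψ := IsOpenImmersion.lift_fac _ _ _
  have e' : ψ₀' ≫ (f ⁻¹ᵁ W).ι = ψ' := IsOpenImmersion.lift_fac _ _ _
  obtain ⟨k, -, huniq⟩ := ext_affine j (hart_appTop hj) (j ≫ ψ₀)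
  have h0 : ψ₀' = ψ₀ := by
    rw [huniq ψ₀ rfl]
    apply huniq
    rw [← cancel_mono (f ⁻¹ᵁ W).ι, Category.assoc, Category.assoc, e, e', hres]
  rw [← e, ← e', h0]

/-- local existence -/
theorem ext_exists_of_affine {W : S.Opens} (hW : IsAffineOpen W) (hgW : g ⁻¹ᵁ W = ⊤)
    (ψU : U' ⟶ Y) (hψU : ψU ≫ f = j ≫ g) :
    ∃ ψ : T ⟶ Y, ψ ≫ f = g ∧ j ≫ ψ = ψU := by
  haveI : IsAffine ↑(f ⁻¹ᵁ W) := hW.preimage f
  haveI : IsAffine ↑W := hW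
  have hgx : ∀ x : T, g x ∈ W := by
    intro x
    have hx : x ∈ g ⁻¹ᵁ W := by rw [hgW]; trivial
    exact hx
  have hr : Set.range ψU ⊆ Set.range (f ⁻¹ᵁ W).ι := by
    rintro _ ⟨x, rfl⟩
    rw [Scheme.Opens.range_ι]
    show f (ψU x) ∈ W
    have : f (ψU x) = g (j x) := by
      change (ψU ≫ f) x = (j ≫ g) x
      rw [hψU]
    rw [this]
    exact hgx _
  let ψU' := IsOpenImmersion.lift (f ⁻¹ᵁ W).ι ψU hr
  have hψU' : ψU' ≫ (f ⁻¹ᵁ W).ι = ψU := IsOpenImmersion.lift_fac _ _ _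
  obtain ⟨ψ', hψ', -⟩ := ext_affine j (hart_appTop hj) ψU'
  have hgr : Set.range g ⊆ Set.range W.ι := by
    rintro _ ⟨x, rfl⟩
    rw [Scheme.Opens.range_ι]
    exact hgx x
  let g' := IsOpenImmersion.lift W.ι g hgr
  have hg' : g' ≫ W.ι = g := IsOpenImmersion.lift_fac _ _ _
  have key : ψ' ≫ (f ∣_ W) = g' := by
    obtain ⟨k, -, huniq⟩ := ext_affine j (hart_appTop hj) (j ≫ g')
    rw [huniq g' rfl]
    apply huniq
    rw [← cancel_mono W.ι, Category.assoc, Category.assoc, Category.assoc, morphismRestrict_ι, hg',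
      ← Category.assoc, hψ', ← Category.assoc, hψU', hψU]
  refine ⟨ψ' ≫ (f ⁻¹ᵁ W).ι, ?_, by rw [← Category.assoc, hψ', hψU']⟩
  rw [Category.assoc, ← morphismRestrict_ι, ← Category.assoc, key, hg']

omit [IsOpenImmersion j] [QuasiCompact j] hj [IsAffineHom f] in
theorem exists_affineOpen_mem (s : S) : ∃ W : S.Opens, IsAffineOpen W ∧ s ∈ W := by
  obtain ⟨W, hW, hs, -⟩ := Opens.isBasis_iff_nbhd.mp (S.isBasis_affineOpens)
    (show s ∈ (⊤ : S.Opens) from trivial)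
  exact ⟨W, hW, hs⟩

/-- uniqueness -/
theorem ext_unique (ψ ψ' : T ⟶ Y) (h1 : ψ ≫ f = g) (h2 : ψ' ≫ f = g)
    (hres : j ≫ ψ = j ≫ ψ') : ψ = ψ' := by
  apply Scheme.hom_ext_of_forall
  intro x
  obtain ⟨W, hW, hxW⟩ := exists_affineOpen_mem (S := S) (g x)
  refine ⟨g ⁻¹ᵁ W, hxW, ?_⟩
  refine ext_unique_of_affine (pullback.snd j (g ⁻¹ᵁ W).ι) (hart_snd j hj _)
    ((g ⁻¹ᵁ W).ι ≫ g) f hW ?_ _ _
    (by rw [Category.assoc, h1]) (by rw [Category.assoc, h2]) ?_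
  · rw [Scheme.Hom.comp_preimage, Scheme.Opens.ι_preimage_self]
  · rw [← Category.assoc, ← Category.assoc, ← pullback.condition, Category.assoc, Category.assoc,
      hres]

/-- existence -/
theorem ext_exists (ψU : U' ⟶ Y) (hψU : ψU ≫ f = j ≫ g) :
    ∃ ψ : T ⟶ Y, ψ ≫ f = g ∧ j ≫ ψ = ψU := by
  have hloc : ∀ W : S.affineOpens, ∃ ψ : ((g ⁻¹ᵁ W.1 : T.Opens) : Scheme.{u}) ⟶ Y,
      ψ ≫ f = (g ⁻¹ᵁ W.1).ι ≫ g ∧
      pullback.snd j (g ⁻¹ᵁ W.1).ι ≫ ψ = pullback.fst j (g ⁻¹ᵁ W.1).ι ≫ ψU := by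
    intro W
    refine ext_exists_of_affine (pullback.snd j (g ⁻¹ᵁ W.1).ι) (hart_snd j hj _)
      ((g ⁻¹ᵁ W.1).ι ≫ g) f W.2 ?_ _ ?_
    · rw [Scheme.Hom.comp_preimage, Scheme.Opens.ι_preimage_self]
    · rw [Category.assoc, hψU, ← Category.assoc, pullback.condition, Category.assoc]
  choose ψi h1 h2 using hloc
  have hcov : IsOpenCover (fun W : S.affineOpens => g ⁻¹ᵁ W.1) := by
    rw [IsOpenCover, eq_top_iff]
    intro x _
    obtain ⟨W, hW, hxW⟩ := exists_affineOpen_mem (S := S) (g x)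
    exact Opens.mem_iSup.2 ⟨⟨W, hW⟩, hxW⟩
  have hcompat : ∀ W W' : S.affineOpens,
      pullback.fst (g ⁻¹ᵁ W.1).ι (g ⁻¹ᵁ W'.1).ι ≫ ψi W =
        pullback.snd (g ⁻¹ᵁ W.1).ι (g ⁻¹ᵁ W'.1).ι ≫ ψi W' := by
    intro W W'
    have hc : pullback.fst (g ⁻¹ᵁ W.1).ι (g ⁻¹ᵁ W'.1).ι ≫ (g ⁻¹ᵁ W.1).ι =
        pullback.snd (g ⁻¹ᵁ W.1).ι (g ⁻¹ᵁ W'.1).ι ≫ (g ⁻¹ᵁ W'.1).ι := pullback.condition
    let i' : pullback (g ⁻¹ᵁ W.1).ι (g ⁻¹ᵁ W'.1).ι ⟶ T :=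
      pullback.fst (g ⁻¹ᵁ W.1).ι (g ⁻¹ᵁ W'.1).ι ≫ (g ⁻¹ᵁ W.1).ι
    have hi' : i' = pullback.snd (g ⁻¹ᵁ W.1).ι (g ⁻¹ᵁ W'.1).ι ≫ (g ⁻¹ᵁ W'.1).ι := hc
    haveI : IsOpenImmersion i' := by dsimp only [i']; infer_instance
    let m : pullback j i' ⟶ pullback j (g ⁻¹ᵁ W.1).ι :=
      pullback.lift (pullback.fst j i')
        (pullback.snd j i' ≫ pullback.fst (g ⁻¹ᵁ W.1).ι (g ⁻¹ᵁ W'.1).ι)
        (by rw [Category.assoc]; exact pullback.condition)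
    let m' : pullback j i' ⟶ pullback j (g ⁻¹ᵁ W'.1).ι :=
      pullback.lift (pullback.fst j i')
        (pullback.snd j i' ≫ pullback.snd (g ⁻¹ᵁ W.1).ι (g ⁻¹ᵁ W'.1).ι)
        (by rw [Category.assoc, ← hi']; exact pullback.condition)
    refine ext_unique (pullback.snd j i') (hart_snd j hj _) (i' ≫ g) f _ _ ?_ ?_ ?_
    · rw [Category.assoc, h1, Category.assoc]
    · rw [Category.assoc, h1, hi', Category.assoc]
    · have e1 : pullback.snd j i' ≫ pullback.fst (g ⁻¹ᵁ W.1).ι (g ⁻¹ᵁ W'.1).ι =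
          m ≫ pullback.snd j (g ⁻¹ᵁ W.1).ι := (pullback.lift_snd _ _ _).symm
      have e2 : pullback.snd j i' ≫ pullback.snd (g ⁻¹ᵁ W.1).ι (g ⁻¹ᵁ W'.1).ι =
          m' ≫ pullback.snd j (g ⁻¹ᵁ W'.1).ι := (pullback.lift_snd _ _ _).symm
      have e3 : m ≫ pullback.fst j (g ⁻¹ᵁ W.1).ι = pullback.fst j i' := pullback.lift_fst _ _ _
      have e4 : m' ≫ pullback.fst j (g ⁻¹ᵁ W'.1).ι = pullback.fst j i' := pullback.lift_fst _ _ _
      rw [← Category.assoc, e1, Category.assoc, h2, ← Category.assoc, e3,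
        ← Category.assoc, e2, Category.assoc, h2, ← Category.assoc, e4]
  let 𝒰 : T.OpenCover := T.openCoverOfIsOpenCover _ hcov
  let ψ : T ⟶ Y := 𝒰.glueMorphisms ψi hcompat
  have e2 : ∀ W : S.affineOpens, (g ⁻¹ᵁ W.1).ι ≫ ψ = ψi W := fun W =>
    Scheme.Cover.ι_glueMorphisms 𝒰 ψi hcompat W
  refine ⟨ψ, ?_, ?_⟩
  · refine 𝒰.hom_ext _ _ fun W => ?_
    show (g ⁻¹ᵁ W.1).ι ≫ ψ ≫ f = (g ⁻¹ᵁ W.1).ι ≫ g
    rw [← Category.assoc, e2, h1]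
  · refine Scheme.Cover.hom_ext (𝒰.pullback₁ j) _ _ fun W => ?_
    show pullback.fst j (g ⁻¹ᵁ W.1).ι ≫ j ≫ ψ = pullback.fst j (g ⁻¹ᵁ W.1).ι ≫ ψU
    rw [← Category.assoc, pullback.condition, Category.assoc, e2, h2]

end Ext

end Groth.Agent.Lib.Helper9.Hart
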