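import Mathlib
import Groth.Agent.Lib.Helper9.Hart2
import Groth.Prelude.Def_FEt

set_option backward.isDefEq.respectTransparency false
set_option maxHeartbeats 800000
set_option autoImplicit false
set_option linter.unusedSectionVars false
set_option linter.unusedVariables false
universe u
open CategoryTheory CategoryTheory.Limits AlgebraicGeometry Opposite TopologicalSpace

namespace Groth.Agent.Lib.Helper9.Hart

section FF

variable {X U' : Scheme.{u}} (j : U' ⟶ X) [IsOpenImmersion j] [QuasiCompact j] (hj : Hart j)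

include hj

theorem hart_fst {T : Scheme.{u}} (t : T ⟶ X) [Flat t] : Hart (pullback.fst t j) :=
  hart_bc (IsPullback.of_hasPullback t j).flip hj

/-- unique extension for points of schemes affine over the base, over a flat `T` -/
theorem ext_flat {T S₁ Z : Scheme.{u}} (t : T ⟶ X) [Flat t] (z : Z ⟶ S₁) [IsAffineHom z]
    (x : T ⟶ S₁) (ψ : pullback t j ⟶ Z) (hψ : ψ ≫ z = pullback.fst t j ≫ x) :
    ∃! v : T ⟶ Z, v ≫ z = x ∧ pullback.fst t j ≫ v = ψ := by
  obtain ⟨v, hv1, hv2⟩ := ext_exists (pullback.fst t j) (hart_fst j hj t) x z ψ hψ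
  refine ⟨v, ⟨hv1, hv2⟩, ?_⟩
  rintro v' ⟨hv1', hv2'⟩
  exact ext_unique (pullback.fst t j) (hart_fst j hj t) x z v' v hv1' hv1 (hv2'.trans hv2.symm)

theorem full_restrict : (FEt.restrict j).Full := by
  refine ⟨fun {A B} φ => ?_⟩
  have hA : IsFinite A.hom ∧ Etale A.hom := A.prop
  have hB : IsFinite B.hom ∧ Etale B.hom := B.prop
  let fA : A.left ⟶ X := A.hom
  let fB : B.left ⟶ X := B.hom
  haveI : IsFinite fA := hA.1
  haveI : Etale fA := hA.2
  haveI : IsFinite fB := hB.1
  haveI : Etale fB := hB.2
  let φl : pullback fA j ⟶ pullback fB j := φ.left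
  have hφ : φl ≫ pullback.snd fB j = pullback.snd fA j := Over.w φ.hom
  obtain ⟨ψ₀, ⟨h1, h2⟩, -⟩ := ext_flat j hj fA fB fA (φl ≫ pullback.fst fB j) (by
    rw [Category.assoc, pullback.condition, ← Category.assoc, hφ, pullback.condition])
  refine ⟨MorphismProperty.Over.homMk ψ₀ h1 trivial, ?_⟩
  apply MorphismProperty.Over.Hom.ext
  simp only [FEt.restrict, MorphismProperty.Over.pullback_map_left]
  apply pullback.hom_ext
  · rw [pullback.lift_fst]
    exact h2
  · rw [pullback.lift_snd]
    exact hφ.symm

theorem faithful_restrict : (FEt.restrict j).Faithful := by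
  refine ⟨fun {A B} a b hab => ?_⟩
  have hA : IsFinite A.hom ∧ Etale A.hom := A.prop
  have hB : IsFinite B.hom ∧ Etale B.hom := B.prop
  let fA : A.left ⟶ X := A.hom
  let fB : B.left ⟶ X := B.hom
  haveI : IsFinite fA := hA.1
  haveI : Etale fA := hA.2
  haveI : IsFinite fB := hB.1
  haveI : Etale fB := hB.2
  have hl : pullback.fst fA j ≫ a.left = pullback.fst fA j ≫ b.left := by
    have := congrArg (fun φ => φ.left ≫ pullback.fst B.hom j) hab
    simp only [FEt.restrict, MorphismProperty.Over.pullback_map_left] at this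
    exact (pullback.lift_fst _ _ _).symm.trans (this.trans (pullback.lift_fst _ _ _))
  have h4 : a.left = b.left :=
    ext_unique (pullback.fst fA j) (hart_fst j hj fA) fA fB a.left b.left (Over.w a.hom)
      (Over.w b.hom) hl
  exact MorphismProperty.Over.Hom.ext h4

end FF

end Groth.Agent.Lib.Helper9.Hart
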