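import Mathlib
import Groth.Agent.Lib.Helper9.Hart3
import Groth.Prelude.Def_DescFam

set_option backward.isDefEq.respectTransparency false
set_option maxHeartbeats 800000
set_option autoImplicit false
set_option linter.unusedSectionVars false
set_option linter.unusedVariables false
universe u
open CategoryTheory CategoryTheory.Limits AlgebraicGeometry Opposite TopologicalSpace

namespace Groth.Agent.Lib.Helper9.Hart

section Descent

variable {S S₁ SU S₁U : Scheme.{u}} {p : S₁ ⟶ S} {j : SU ⟶ S} {j₁ : S₁U ⟶ S₁} {pU : S₁U ⟶ SU}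
  (sq : IsPullback j₁ pU p j)
  (Z : Over S₁) (W : Over SU)
  (α : (Over.pullback j₁).obj Z ≅ (Over.pullback pU).obj W)

theorem α_hom_snd : α.hom.left ≫ pullback.snd W.hom pU = pullback.snd Z.hom j₁ := Over.w α.hom

theorem α_inv_snd : α.inv.left ≫ pullback.snd Z.hom j₁ = pullback.snd W.hom pU := Over.w α.inv

theorem α_hom_inv : α.hom.left ≫ α.inv.left = 𝟙 _ := by
  rw [← Over.comp_left, α.hom_inv_id]; rfl

theorem α_inv_hom : α.inv.left ≫ α.hom.left = 𝟙 _ := by
  rw [← Over.comp_left, α.inv_hom_id]; rfl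

/-- comparison on `SU`-points -/
noncomputable def rho' {T : Scheme.{u}} (s : T ⟶ SU) (x : T ⟶ S₁) (hx : x ≫ p = s ≫ j)
    (v : Desc.Lifts Z x) : T ⟶ W.left :=
  pullback.lift v.1 (sq.lift x s hx) (v.2.trans (sq.lift_fst x s hx).symm) ≫ α.hom.left ≫
    pullback.fst W.hom pU

theorem rho'_hom {T : Scheme.{u}} (s : T ⟶ SU) (x : T ⟶ S₁) (hx : x ≫ p = s ≫ j)
    (v : Desc.Lifts Z x) : rho' sq Z W α s x hx v ≫ W.hom = s := by
  unfold rho'
  rw [Category.assoc, Category.assoc, pullback.condition, ← Category.assoc α.hom.left,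
    α_hom_snd, ← Category.assoc, pullback.lift_snd, sq.lift_snd]

theorem rho'_congr {T : Scheme.{u}} {s s' : T ⟶ SU} {x x' : T ⟶ S₁} (hs : s = s') (hxx : x = x')
    (hx : x ≫ p = s ≫ j) (hx' : x' ≫ p = s' ≫ j) (v : Desc.Lifts Z x) (v' : Desc.Lifts Z x')
    (hv : v.1 = v'.1) : rho' sq Z W α s x hx v = rho' sq Z W α s' x' hx' v' := by
  subst hs hxx
  have : v = v' := Subtype.ext hv
  subst this
  rfl

theorem rho'_natural {T T' : Scheme.{u}} (k : T' ⟶ T) (s : T ⟶ SU) (x : T ⟶ S₁)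
    (hx : x ≫ p = s ≫ j) (v : Desc.Lifts Z x) :
    k ≫ rho' sq Z W α s x hx v = rho' sq Z W α (k ≫ s) (k ≫ x)
      (by rw [Category.assoc, hx, Category.assoc]) ⟨k ≫ v.1, by rw [Category.assoc, v.2]⟩ := by
  unfold rho'
  rw [← Category.assoc]
  congr 1
  apply pullback.hom_ext
  · simp
  · rw [Category.assoc, pullback.lift_snd, pullback.lift_snd]
    apply sq.hom_ext
    · simp
    · simp

/-- the inverse comparison -/
noncomputable def sig' {T : Scheme.{u}} (s : T ⟶ SU) (x : T ⟶ S₁) (hx : x ≫ p = s ≫ j)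
    (a : T ⟶ W.left) (ha : a ≫ W.hom = s) : Desc.Lifts Z x :=
  ⟨pullback.lift a (sq.lift x s hx) (ha.trans (sq.lift_snd x s hx).symm) ≫ α.inv.left ≫
    pullback.fst Z.hom j₁, by
    rw [Category.assoc, Category.assoc, pullback.condition, ← Category.assoc α.inv.left,
      α_inv_snd, ← Category.assoc, pullback.lift_snd, sq.lift_fst]⟩

theorem rho'_sig' {T : Scheme.{u}} (s : T ⟶ SU) (x : T ⟶ S₁) (hx : x ≫ p = s ≫ j)
    (a : T ⟶ W.left) (ha : a ≫ W.hom = s) :
    rho' sq Z W α s x hx (sig' sq Z W α s x hx a ha) = a := by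
  unfold rho'
  have h1 : pullback.lift (sig' sq Z W α s x hx a ha).1 (sq.lift x s hx)
      ((sig' sq Z W α s x hx a ha).2.trans (sq.lift_fst x s hx).symm) =
      pullback.lift a (sq.lift x s hx) (ha.trans (sq.lift_snd x s hx).symm) ≫ α.inv.left := by
    apply pullback.hom_ext
    · rw [pullback.lift_fst, Category.assoc]; rfl
    · rw [pullback.lift_snd, Category.assoc, α_inv_snd, pullback.lift_snd]
  rw [h1, Category.assoc, ← Category.assoc α.inv.left, α_inv_hom, Category.id_comp,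
    pullback.lift_fst]

theorem sig'_rho' {T : Scheme.{u}} (s : T ⟶ SU) (x : T ⟶ S₁) (hx : x ≫ p = s ≫ j)
    (v : Desc.Lifts Z x) :
    sig' sq Z W α s x hx (rho' sq Z W α s x hx v) (rho'_hom sq Z W α s x hx v) = v := by
  apply Subtype.ext
  change pullback.lift (rho' sq Z W α s x hx v) (sq.lift x s hx) _ ≫ α.inv.left ≫
    pullback.fst Z.hom j₁ = v.1
  have h1 : pullback.lift (rho' sq Z W α s x hx v) (sq.lift x s hx)
      ((rho'_hom sq Z W α s x hx v).trans (sq.lift_snd x s hx).symm) =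
      pullback.lift v.1 (sq.lift x s hx) (v.2.trans (sq.lift_fst x s hx).symm) ≫ α.hom.left := by
    apply pullback.hom_ext
    · rw [pullback.lift_fst, Category.assoc]; rfl
    · rw [pullback.lift_snd, Category.assoc, α_hom_snd, pullback.lift_snd]
  rw [h1, Category.assoc, ← Category.assoc α.hom.left, α_hom_inv, Category.id_comp,
    pullback.lift_fst]

theorem rho'_injective {T : Scheme.{u}} (s : T ⟶ SU) (x : T ⟶ S₁) (hx : x ≫ p = s ≫ j)
    (v v' : Desc.Lifts Z x) (h : rho' sq Z W α s x hx v = rho' sq Z W α s x hx v') : v = v' := by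
  rw [← sig'_rho' sq Z W α s x hx v, ← sig'_rho' sq Z W α s x hx v']
  congr 1

/-- comparison on general points -/
noncomputable def rho {T : Scheme.{u}} (t : T ⟶ S) (x : T ⟶ S₁) (hx : x ≫ p = t)
    (v : Desc.Lifts Z x) : pullback t j ⟶ W.left :=
  rho' sq Z W α (pullback.snd t j) (pullback.fst t j ≫ x)
    (by rw [Category.assoc, hx, pullback.condition])
    ⟨pullback.fst t j ≫ v.1, by rw [Category.assoc, v.2]⟩

theorem rho_hom {T : Scheme.{u}} (t : T ⟶ S) (x : T ⟶ S₁) (hx : x ≫ p = t)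
    (v : Desc.Lifts Z x) : rho sq Z W α t x hx v ≫ W.hom = pullback.snd t j :=
  rho'_hom sq Z W α _ _ _ _

theorem rho_congr {T : Scheme.{u}} (t : T ⟶ S) {x x' : T ⟶ S₁} (hxx : x = x')
    (hx : x ≫ p = t) (hx' : x' ≫ p = t) (v : Desc.Lifts Z x) (v' : Desc.Lifts Z x')
    (hv : v.1 = v'.1) : rho sq Z W α t x hx v = rho sq Z W α t x' hx' v' := by
  subst hxx
  have : v = v' := Subtype.ext hv
  subst this
  rfl

theorem rho_natural {T T' : Scheme.{u}} (k : T' ⟶ T) (t : T ⟶ S) (t' : T' ⟶ S) (ht' : k ≫ t = t')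
    (x : T ⟶ S₁) (hx : x ≫ p = t) (v : Desc.Lifts Z x) :
    rho sq Z W α t' (k ≫ x) (by rw [Category.assoc, hx, ht'])
      ⟨k ≫ v.1, by rw [Category.assoc, v.2]⟩ =
    pullback.lift (pullback.fst t' j ≫ k) (pullback.snd t' j)
      (by rw [Category.assoc, ht', pullback.condition]) ≫ rho sq Z W α t x hx v := by
  unfold rho
  rw [rho'_natural]
  apply rho'_congr
  · rw [pullback.lift_snd]
  · rw [pullback.lift_fst_assoc, Category.assoc]
  · simp

end Descent

end Groth.Agent.Lib.Helper9.Hart
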