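import Mathlib
import Groth.Agent.Lib.Helper9.Hart4

set_option backward.isDefEq.respectTransparency false
set_option maxHeartbeats 800000
set_option autoImplicit false
set_option linter.unusedSectionVars false
set_option linter.unusedVariables false
universe u
open CategoryTheory CategoryTheory.Limits AlgebraicGeometry Opposite TopologicalSpace

namespace Groth.Agent.Lib.Helper9.Hart

section Descent

variable {S S₁ SU S₁U : Scheme.{u}} {p : S₁ ⟶ S} {j : SU ⟶ S} {j₁ : S₁U ⟶ S₁} {pU : S₁U ⟶ SU}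
  (sq : IsPullback j₁ pU p j)
  (Z : Over S₁) (W : Over SU)
  (α : (Over.pullback j₁).obj Z ≅ (Over.pullback pU).obj W)
  (G : ∀ {T : Scheme.{u}} (t : T ⟶ S) [Flat t] (x : T ⟶ S₁) (ψ : pullback t j ⟶ Z.left),
    ψ ≫ Z.hom = pullback.fst t j ≫ x →
    ∃! v : T ⟶ Z.left, v ≫ Z.hom = x ∧ pullback.fst t j ≫ v = ψ)

include G in
theorem good_exists {T : Scheme.{u}} (t : T ⟶ S) [Flat t] (x : T ⟶ S₁) (hx : x ≫ p = t)
    (a : pullback t j ⟶ W.left) (ha : a ≫ W.hom = pullback.snd t j) :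
    ∃ v : Desc.Lifts Z x, rho sq Z W α t x hx v = a := by
  have hx' : (pullback.fst t j ≫ x) ≫ p = pullback.snd t j ≫ j := by
    rw [Category.assoc, hx, pullback.condition]
  obtain ⟨v, ⟨hv1, hv2⟩, -⟩ := G t x (sig' sq Z W α (pullback.snd t j) (pullback.fst t j ≫ x) hx' a ha).1
    (sig' sq Z W α (pullback.snd t j) (pullback.fst t j ≫ x) hx' a ha).2
  refine ⟨⟨v, hv1⟩, ?_⟩
  unfold rho
  have : (⟨pullback.fst t j ≫ v, by rw [Category.assoc, hv1]⟩ : Desc.Lifts Z (pullback.fst t j ≫ x)) =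
      sig' sq Z W α (pullback.snd t j) (pullback.fst t j ≫ x) hx' a ha := Subtype.ext hv2
  rw [this, rho'_sig']

include G in
theorem good_unique {T : Scheme.{u}} (t : T ⟶ S) [Flat t] (x : T ⟶ S₁) (hx : x ≫ p = t)
    (v v' : Desc.Lifts Z x) (h : rho sq Z W α t x hx v = rho sq Z W α t x hx v') : v = v' := by
  have h1 := rho'_injective sq Z W α _ _ _ _ _ h
  have h2 : pullback.fst t j ≫ v.1 = pullback.fst t j ≫ v'.1 := congrArg Subtype.val h1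
  obtain ⟨w, -, hw⟩ := G t x (pullback.fst t j ≫ v.1) (by rw [Category.assoc, v.2])
  apply Subtype.ext
  rw [hw v.1 ⟨v.2, rfl⟩, hw v'.1 ⟨v'.2, h2.symm⟩]

variable [Flat p] [Flat Z.hom]

/-- the universal object -/
noncomputable abbrev A : Scheme.{u} := pullback Z.hom (pullback.fst p p)

noncomputable abbrev tA : A (p := p) Z ⟶ S := pullback.fst Z.hom (pullback.fst p p) ≫ Z.hom ≫ p

noncomputable abbrev x₀A : A (p := p) Z ⟶ S₁ := pullback.fst Z.hom (pullback.fst p p) ≫ Z.hom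

noncomputable abbrev x₁A : A (p := p) Z ⟶ S₁ :=
  pullback.snd Z.hom (pullback.fst p p) ≫ pullback.snd p p

theorem hx₀A : x₀A (p := p) Z ≫ p = tA (p := p) Z := Category.assoc _ _ _

theorem hx₁A : x₁A (p := p) Z ≫ p = tA (p := p) Z := by
  unfold x₁A tA
  rw [Category.assoc, ← pullback.condition, ← Category.assoc, ← pullback.condition, Category.assoc]

noncomputable def v₀A : Desc.Lifts Z (x₀A (p := p) Z) := ⟨pullback.fst Z.hom (pullback.fst p p), rfl⟩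

instance : Flat (tA (p := p) Z) := by
  unfold tA
  infer_instance

include G in
theorem exists_v₁A : ∃ v : Desc.Lifts Z (x₁A (p := p) Z),
    rho sq Z W α (tA Z) (x₁A Z) (hx₁A Z) v = rho sq Z W α (tA Z) (x₀A Z) (hx₀A Z) (v₀A Z) :=
  good_exists sq Z W α G (tA Z) (x₁A Z) (hx₁A Z) _ (rho_hom sq Z W α _ _ _ _)

/-- the universal transported point -/
noncomputable def v₁A : Desc.Lifts Z (x₁A (p := p) Z) := (exists_v₁A sq Z W α G).choose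

theorem v₁A_spec : rho sq Z W α (tA Z) (x₁A Z) (hx₁A Z) (v₁A sq Z W α G) =
    rho sq Z W α (tA Z) (x₀A Z) (hx₀A Z) (v₀A Z) := (exists_v₁A sq Z W α G).choose_spec

/-- the classifying map -/
noncomputable def cl {T : Scheme.{u}} (x₀ x₁ : T ⟶ S₁) (h : x₀ ≫ p = x₁ ≫ p)
    (v : Desc.Lifts Z x₀) : T ⟶ A (p := p) Z :=
  pullback.lift v.1 (pullback.lift x₀ x₁ h) (v.2.trans (pullback.lift_fst _ _ _).symm)

omit [Flat p] [Flat Z.hom] in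
theorem cl_v {T : Scheme.{u}} (x₀ x₁ : T ⟶ S₁) (h : x₀ ≫ p = x₁ ≫ p) (v : Desc.Lifts Z x₀) :
    cl Z x₀ x₁ h v ≫ (v₀A (p := p) Z).1 = v.1 := pullback.lift_fst _ _ _

omit [Flat p] [Flat Z.hom] in
theorem cl_x₀ {T : Scheme.{u}} (x₀ x₁ : T ⟶ S₁) (h : x₀ ≫ p = x₁ ≫ p) (v : Desc.Lifts Z x₀) :
    cl Z x₀ x₁ h v ≫ x₀A (p := p) Z = x₀ := by
  unfold cl x₀A
  rw [pullback.lift_fst_assoc, v.2]

omit [Flat p] [Flat Z.hom] in
theorem cl_x₁ {T : Scheme.{u}} (x₀ x₁ : T ⟶ S₁) (h : x₀ ≫ p = x₁ ≫ p) (v : Desc.Lifts Z x₀) :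
    cl Z x₀ x₁ h v ≫ x₁A (p := p) Z = x₁ := by
  unfold cl x₁A
  rw [pullback.lift_snd_assoc, pullback.lift_snd]

omit [Flat p] [Flat Z.hom] in
theorem cl_natural {T T' : Scheme.{u}} (k : T' ⟶ T) (x₀ x₁ : T ⟶ S₁) (h : x₀ ≫ p = x₁ ≫ p)
    (v : Desc.Lifts Z x₀) :
    cl Z (k ≫ x₀) (k ≫ x₁) (by rw [Category.assoc, h, Category.assoc])
      ⟨k ≫ v.1, by rw [Category.assoc, v.2]⟩ = k ≫ cl Z x₀ x₁ h v := by
  unfold cl
  apply pullback.hom_ext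
  · simp
  · apply pullback.hom_ext <;> simp

omit [Flat p] [Flat Z.hom] in
theorem cl_congr {T : Scheme.{u}} {x₀ x₁ x₀' x₁' : T ⟶ S₁} (h : x₀ ≫ p = x₁ ≫ p)
    (h' : x₀' ≫ p = x₁' ≫ p) (e₀ : x₀ = x₀') (e₁ : x₁ = x₁') (v : Desc.Lifts Z x₀)
    (v' : Desc.Lifts Z x₀') (hv : v.1 = v'.1) : cl Z x₀ x₁ h v = cl Z x₀' x₁' h' v' := by
  subst e₀ e₁
  have : v = v' := Subtype.ext hv
  subst this
  rfl

/-- the transport -/
noncomputable def phi {T : Scheme.{u}} (x₀ x₁ : T ⟶ S₁) (h : x₀ ≫ p = x₁ ≫ p)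
    (v : Desc.Lifts Z x₀) : Desc.Lifts Z x₁ :=
  ⟨cl Z x₀ x₁ h v ≫ (v₁A sq Z W α G).1, by
    rw [Category.assoc, (v₁A sq Z W α G).2, cl_x₁]⟩

theorem phi_natural {T T' : Scheme.{u}} (k : T' ⟶ T) (x₀ x₁ : T ⟶ S₁) (h : x₀ ≫ p = x₁ ≫ p)
    (v : Desc.Lifts Z x₀) :
    (phi sq Z W α G (k ≫ x₀) (k ≫ x₁) (by rw [Category.assoc, h, Category.assoc])
      ⟨k ≫ v.1, by rw [Category.assoc, v.2]⟩).1 = k ≫ (phi sq Z W α G x₀ x₁ h v).1 := by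
  change cl Z _ _ _ _ ≫ _ = k ≫ cl Z _ _ _ _ ≫ _
  rw [cl_natural, Category.assoc]

theorem phi_congr {T : Scheme.{u}} {x₀ x₁ x₀' x₁' : T ⟶ S₁} (h : x₀ ≫ p = x₁ ≫ p)
    (h' : x₀' ≫ p = x₁' ≫ p) (e₀ : x₀ = x₀') (e₁ : x₁ = x₁') (v : Desc.Lifts Z x₀)
    (v' : Desc.Lifts Z x₀') (hv : v.1 = v'.1) :
    (phi sq Z W α G x₀ x₁ h v).1 = (phi sq Z W α G x₀' x₁' h' v').1 := by
  change cl Z _ _ _ _ ≫ _ = cl Z _ _ _ _ ≫ _
  rw [cl_congr Z h h' e₀ e₁ v v' hv]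

/-- the key lemma, universal case -/
theorem phi_eq_of_good {T : Scheme.{u}} (t : T ⟶ S) [Flat t] (x₀ x₁ : T ⟶ S₁) (hx₀ : x₀ ≫ p = t)
    (hx₁ : x₁ ≫ p = t) (v₀ : Desc.Lifts Z x₀) (v₁ : Desc.Lifts Z x₁)
    (hrel : rho sq Z W α t x₀ hx₀ v₀ = rho sq Z W α t x₁ hx₁ v₁) :
    phi sq Z W α G x₀ x₁ (hx₀.trans hx₁.symm) v₀ = v₁ := by
  apply good_unique sq Z W α G t x₁ hx₁
  rw [← hrel]
  set c := cl Z x₀ x₁ (hx₀.trans hx₁.symm) v₀ with hc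
  have hct : c ≫ tA Z = t := by
    rw [← hx₀A, ← Category.assoc, cl_x₀, hx₀]
  have n1 := rho_natural sq Z W α c (tA Z) t hct (x₁A Z) (hx₁A Z) (v₁A sq Z W α G)
  have n0 := rho_natural sq Z W α c (tA Z) t hct (x₀A Z) (hx₀A Z) (v₀A Z)
  rw [v₁A_spec] at n1
  rw [← n0] at n1
  refine (rho_congr sq Z W α t (cl_x₁ Z x₀ x₁ _ v₀).symm _ _ _ _ rfl).trans (n1.trans ?_)
  exact rho_congr sq Z W α t (cl_x₀ Z x₀ x₁ _ v₀) _ _ _ _ (cl_v Z x₀ x₁ _ v₀)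

/-- the key lemma -/
theorem phi_eq_of_good' {T0 : Scheme.{u}} (t : T0 ⟶ S) [Flat t] (y₀ y₁ : T0 ⟶ S₁)
    (hx₀ : y₀ ≫ p = t) (hx₁ : y₁ ≫ p = t) (w₀ : Desc.Lifts Z y₀) (w₁ : Desc.Lifts Z y₁)
    (hrel : rho sq Z W α t y₀ hx₀ w₀ = rho sq Z W α t y₁ hx₁ w₁)
    {T : Scheme.{u}} (c : T ⟶ T0) (x₀ x₁ : T ⟶ S₁) (h : x₀ ≫ p = x₁ ≫ p)
    (hc₀ : c ≫ y₀ = x₀) (hc₁ : c ≫ y₁ = x₁) (v : Desc.Lifts Z x₀) (hv : c ≫ w₀.1 = v.1) :
    (phi sq Z W α G x₀ x₁ h v).1 = c ≫ w₁.1 := by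
  have h1 := phi_eq_of_good sq Z W α G t y₀ y₁ hx₀ hx₁ w₀ w₁ hrel
  rw [← h1, ← phi_natural]
  exact phi_congr sq Z W α G _ _ hc₀.symm hc₁.symm _ _ hv.symm

end Descent

end Groth.Agent.Lib.Helper9.Hart
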