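import Mathlib
import Groth.Agent.Lib.Helper9.Hart5

set_option backward.isDefEq.respectTransparency false
set_option maxHeartbeats 800000
set_option autoImplicit false
set_option linter.unusedSectionVars false
set_option linter.unusedVariables false
universe u
open CategoryTheory CategoryTheory.Limits AlgebraicGeometry Opposite TopologicalSpace

namespace Groth.Agent.Lib.Helper9.Hart

section Descent

variable {S S₁ SU S₁U : Scheme.{u}} {p : S₁ ⟶ S} {j : SU ⟶ S} {j₁ : S₁U ⟶ S₁} {pU : S₁U ⟶ SU}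
  (sq : IsPullback j₁ pU p j)
  (Z : Over S₁) (W : Over SU)
  (α : (Over.pullback j₁).obj Z ≅ (Over.pullback pU).obj W)
  (G : ∀ {T : Scheme.{u}} (t : T ⟶ S) [Flat t] (x : T ⟶ S₁) (ψ : pullback t j ⟶ Z.left),
    ψ ≫ Z.hom = pullback.fst t j ≫ x →
    ∃! v : T ⟶ Z.left, v ≫ Z.hom = x ∧ pullback.fst t j ≫ v = ψ)
  [Flat p] [Flat Z.hom]

theorem phi_rel {T : Scheme.{u}} (t : T ⟶ S) (x₀ x₁ : T ⟶ S₁) (hx₀ : x₀ ≫ p = t)
    (hx₁ : x₁ ≫ p = t) (v₀ : Desc.Lifts Z x₀) :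
    rho sq Z W α t x₁ hx₁ (phi sq Z W α G x₀ x₁ (hx₀.trans hx₁.symm) v₀) =
      rho sq Z W α t x₀ hx₀ v₀ := by
  set c := cl Z x₀ x₁ (hx₀.trans hx₁.symm) v₀ with hc
  have hct : c ≫ tA Z = t := by
    rw [← hx₀A, ← Category.assoc, cl_x₀, hx₀]
  have n1 := rho_natural sq Z W α c (tA Z) t hct (x₁A Z) (hx₁A Z) (v₁A sq Z W α G)
  have n0 := rho_natural sq Z W α c (tA Z) t hct (x₀A Z) (hx₀A Z) (v₀A Z)
  rw [v₁A_spec] at n1
  rw [← n0] at n1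
  refine (rho_congr sq Z W α t (cl_x₁ Z x₀ x₁ _ v₀).symm _ _ _ _ rfl).trans (n1.trans ?_)
  exact rho_congr sq Z W α t (cl_x₀ Z x₀ x₁ _ v₀) _ _ _ _ (cl_v Z x₀ x₁ _ v₀)

omit [Flat p] [Flat Z.hom] in
theorem rho'_eq_rho {T : Scheme.{u}} (s : T ⟶ SU) (x : T ⟶ S₁) (hx : x ≫ p = s ≫ j)
    (v : Desc.Lifts Z x) :
    rho' sq Z W α s x hx v =
      pullback.lift (𝟙 T) s (Category.id_comp _) ≫ rho sq Z W α (s ≫ j) x hx v := by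
  unfold rho
  rw [rho'_natural]
  apply rho'_congr
  · rw [pullback.lift_snd]
  · rw [pullback.lift_fst_assoc, Category.id_comp]
  · show v.1 = _ ≫ _ ≫ v.1
    rw [pullback.lift_fst_assoc, Category.id_comp]

theorem phi_rel' {T : Scheme.{u}} (s : T ⟶ SU) (x₀ x₁ : T ⟶ S₁) (hx₀ : x₀ ≫ p = s ≫ j)
    (hx₁ : x₁ ≫ p = s ≫ j) (v₀ : Desc.Lifts Z x₀) :
    rho' sq Z W α s x₁ hx₁ (phi sq Z W α G x₀ x₁ (hx₀.trans hx₁.symm) v₀) =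
      rho' sq Z W α s x₀ hx₀ v₀ := by
  rw [rho'_eq_rho, rho'_eq_rho, phi_rel sq Z W α G (s ≫ j) x₀ x₁ hx₀ hx₁ v₀]

theorem phi_self {T : Scheme.{u}} (x : T ⟶ S₁) (v : Desc.Lifts Z x) :
    phi sq Z W α G x x rfl v = v := by
  apply Subtype.ext
  have := phi_eq_of_good' sq Z W α G (Z.hom ≫ p) Z.hom Z.hom rfl rfl
    ⟨𝟙 _, Category.id_comp _⟩ ⟨𝟙 _, Category.id_comp _⟩ rfl v.1 x x rfl v.2 v.2 v
    (Category.comp_id _)
  rw [this]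
  exact Category.comp_id _

/-- the second universal object -/
noncomputable abbrev T0 : Scheme.{u} := pullback (x₁A (p := p) Z) (pullback.fst p p)

noncomputable abbrev π0 : T0 (p := p) Z ⟶ A (p := p) Z := pullback.fst (x₁A Z) (pullback.fst p p)

noncomputable abbrev t0 : T0 (p := p) Z ⟶ S := π0 Z ≫ tA Z

noncomputable abbrev y₂ : T0 (p := p) Z ⟶ S₁ :=
  pullback.snd (x₁A Z) (pullback.fst p p) ≫ pullback.snd p p

theorem hy₂ : y₂ (p := p) Z ≫ p = t0 Z := by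
  unfold y₂ t0
  rw [Category.assoc, ← pullback.condition, ← Category.assoc, ← pullback.condition,
    Category.assoc, hx₁A]

instance : Flat (t0 (p := p) Z) := by
  unfold t0 π0
  infer_instance

theorem phi_comp {T : Scheme.{u}} (x₀ x₁ x₂ : T ⟶ S₁) (h₀₁ : x₀ ≫ p = x₁ ≫ p)
    (h₁₂ : x₁ ≫ p = x₂ ≫ p) (v : Desc.Lifts Z x₀) :
    phi sq Z W α G x₁ x₂ h₁₂ (phi sq Z W α G x₀ x₁ h₀₁ v) =
      phi sq Z W α G x₀ x₂ (h₀₁.trans h₁₂) v := by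
  have hy₀ : (π0 (p := p) Z ≫ x₀A Z) ≫ p = t0 Z := by rw [Category.assoc, hx₀A]
  have hy₁ : (π0 (p := p) Z ≫ x₁A Z) ≫ p = t0 Z := by rw [Category.assoc, hx₁A]
  let w₀ : Desc.Lifts Z (π0 (p := p) Z ≫ x₀A Z) := ⟨π0 Z ≫ (v₀A Z).1, by rw [Category.assoc, (v₀A Z).2]⟩
  let w₁ : Desc.Lifts Z (π0 (p := p) Z ≫ x₁A Z) :=
    ⟨π0 Z ≫ (v₁A sq Z W α G).1, by rw [Category.assoc, (v₁A sq Z W α G).2]⟩
  have rel01 : rho sq Z W α (t0 Z) _ hy₀ w₀ = rho sq Z W α (t0 Z) _ hy₁ w₁ := by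
    have n1 := rho_natural sq Z W α (π0 Z) (tA Z) (t0 Z) rfl (x₁A Z) (hx₁A Z) (v₁A sq Z W α G)
    have n0 := rho_natural sq Z W α (π0 Z) (tA Z) (t0 Z) rfl (x₀A Z) (hx₀A Z) (v₀A Z)
    rw [v₁A_spec] at n1
    exact n0.trans n1.symm
  obtain ⟨w₂, rel12⟩ := good_exists sq Z W α G (t0 Z) (y₂ Z) (hy₂ Z)
    (rho sq Z W α (t0 Z) _ hy₁ w₁) (rho_hom sq Z W α _ _ _ _)
  let c : T ⟶ T0 (p := p) Z := pullback.lift (cl Z x₀ x₁ h₀₁ v) (pullback.lift x₁ x₂ h₁₂)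
    (by rw [cl_x₁, pullback.lift_fst])
  have hcπ : c ≫ π0 Z = cl Z x₀ x₁ h₀₁ v := pullback.lift_fst _ _ _
  have hc₀ : c ≫ π0 Z ≫ x₀A Z = x₀ := by rw [← Category.assoc, hcπ, cl_x₀]
  have hc₁ : c ≫ π0 Z ≫ x₁A Z = x₁ := by rw [← Category.assoc, hcπ, cl_x₁]
  have hc₂ : c ≫ y₂ Z = x₂ := by
    unfold y₂
    rw [← Category.assoc, pullback.lift_snd, pullback.lift_snd]
  have e1 : c ≫ w₁.1 = (phi sq Z W α G x₀ x₁ h₀₁ v).1 := by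
    change c ≫ π0 Z ≫ _ = cl Z x₀ x₁ h₀₁ v ≫ _
    rw [← Category.assoc, hcπ]
  have e0 : c ≫ w₀.1 = v.1 := by
    change c ≫ π0 Z ≫ _ = _
    rw [← Category.assoc, hcπ, cl_v]
  apply Subtype.ext
  rw [phi_eq_of_good' sq Z W α G (t0 Z) _ (y₂ Z) hy₁ (hy₂ Z) w₁ w₂ rel12.symm c x₁ x₂ h₁₂ hc₁ hc₂
      _ e1,
    phi_eq_of_good' sq Z W α G (t0 Z) _ (y₂ Z) hy₀ (hy₂ Z) w₀ w₂ (rel01.trans rel12.symm) c x₀ x₂
      (h₀₁.trans h₁₂) hc₀ hc₂ v e0]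

/-- the descent datum -/
noncomputable def dd : Desc.SchDDFam (fun _ : PUnit.{u + 1} => p) where
  obj _ := Z
  φ T i j x₀ x₁ h :=
    { toFun := phi sq Z W α G x₀ x₁ h
      invFun := phi sq Z W α G x₁ x₀ h.symm
      left_inv := fun v => by rw [phi_comp, phi_self]
      right_inv := fun v => by rw [phi_comp, phi_self] }
  φ_natural T T' g i j x₀ x₁ h y₀ y₁ hy₀ hy₁ h' v v' hv' := by
    subst hy₀ hy₁
    change (phi sq Z W α G (g ≫ x₀) (g ≫ x₁) h' v').1 = g ≫ (phi sq Z W α G x₀ x₁ h v).1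
    rw [← phi_natural]
    exact phi_congr sq Z W α G _ _ rfl rfl _ _ hv'
  φ_self T i x v := phi_self sq Z W α G x v
  φ_comp T i j k x₀ x₁ x₂ h₀₁ h₁₂ v := phi_comp sq Z W α G x₀ x₁ x₂ h₀₁ h₁₂ v

end Descent

end Groth.Agent.Lib.Helper9.Hart
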