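import Mathlib
import Groth.Agent.Lib.Helper9.Hart6
import Groth.Agent.Lib.Helper9.DescMain2
import Groth.Agent.Lib.Helper9.DescSec2
import Groth.Agent.Lib.Helper9.DescFF1

set_option backward.isDefEq.respectTransparency false
set_option maxHeartbeats 800000
set_option autoImplicit false
set_option linter.unusedSectionVars false
set_option linter.unusedVariables false
universe u
open CategoryTheory CategoryTheory.Limits AlgebraicGeometry Opposite TopologicalSpace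

namespace Groth.Agent.Lib.Helper9.Hart

section Compare

variable {S S₁ SU S₁U : Scheme.{u}} {p : S₁ ⟶ S} {j : SU ⟶ S} {j₁ : S₁U ⟶ S₁} {pU : S₁U ⟶ SU}
  (sq : IsPullback j₁ pU p j)
  (Z : Over S₁) (W : Over SU)
  (α : (Over.pullback j₁).obj Z ≅ (Over.pullback pU).obj W)
  (W' : Over S) (vP : pullback p W'.hom ⟶ Z.left) (vQ : Z.left ⟶ pullback p W'.hom)
  (hvP : vP ≫ Z.hom = pullback.fst p W'.hom) (hvQ : vQ ≫ pullback.fst p W'.hom = Z.hom)
  (hPQ : vP ≫ vQ = 𝟙 _) (hQP : vQ ≫ vP = 𝟙 _)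

/-- the point of `Z` attached to a point of `W'` -/
noncomputable def zpt {T : Scheme.{u}} (b : T ⟶ S₁U) (w' : T ⟶ W'.left)
    (hbw : (b ≫ pU) ≫ j = w' ≫ W'.hom) : Desc.Lifts Z (b ≫ j₁) :=
  ⟨pullback.lift (b ≫ j₁) w' (by rw [Category.assoc, sq.w, ← Category.assoc, hbw]) ≫ vP, by
    rw [Category.assoc, hvP, pullback.lift_fst]⟩

/-- the comparison on points -/
noncomputable def Θ {T : Scheme.{u}} (b : T ⟶ S₁U) (w' : T ⟶ W'.left)
    (hbw : (b ≫ pU) ≫ j = w' ≫ W'.hom) : T ⟶ W.left :=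
  rho' sq Z W α (b ≫ pU) (b ≫ j₁) (by rw [Category.assoc, sq.w, Category.assoc])
    (zpt sq Z W' vP hvP b w' hbw)

theorem Θ_hom {T : Scheme.{u}} (b : T ⟶ S₁U) (w' : T ⟶ W'.left)
    (hbw : (b ≫ pU) ≫ j = w' ≫ W'.hom) : Θ sq Z W α W' vP hvP b w' hbw ≫ W.hom = b ≫ pU :=
  rho'_hom sq Z W α _ _ _ _

theorem Θ_natural {T T' : Scheme.{u}} (k : T' ⟶ T) (b : T ⟶ S₁U) (w' : T ⟶ W'.left)
    (hbw : (b ≫ pU) ≫ j = w' ≫ W'.hom) :
    k ≫ Θ sq Z W α W' vP hvP b w' hbw = Θ sq Z W α W' vP hvP (k ≫ b) (k ≫ w')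
      (by simp only [Category.assoc] at hbw ⊢; rw [hbw]) := by
  unfold Θ
  rw [rho'_natural]
  apply rho'_congr
  · rw [Category.assoc]
  · rw [Category.assoc]
  · unfold zpt
    simp only
    rw [← Category.assoc]
    congr 1
    apply pullback.hom_ext <;> simp

theorem Θ_congr {T : Scheme.{u}} {b b' : T ⟶ S₁U} {w' w'' : T ⟶ W'.left} (hb : b = b')
    (hw : w' = w'') (hbw : (b ≫ pU) ≫ j = w' ≫ W'.hom) (hbw' : (b' ≫ pU) ≫ j = w'' ≫ W'.hom) :
    Θ sq Z W α W' vP hvP b w' hbw = Θ sq Z W α W' vP hvP b' w'' hbw' := by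
  subst hb hw
  rfl

/-- the inverse comparison on points -/
noncomputable def Ξ {T : Scheme.{u}} (b : T ⟶ S₁U) (a : T ⟶ W.left) (hba : a ≫ W.hom = b ≫ pU) :
    T ⟶ W'.left :=
  (sig' sq Z W α (b ≫ pU) (b ≫ j₁) (by rw [Category.assoc, sq.w, Category.assoc]) a hba).1 ≫ vQ ≫
    pullback.snd p W'.hom

include hvQ in
theorem Ξ_hom {T : Scheme.{u}} (b : T ⟶ S₁U) (a : T ⟶ W.left) (hba : a ≫ W.hom = b ≫ pU) :
    (b ≫ pU) ≫ j = Ξ sq Z W α W' vQ b a hba ≫ W'.hom := by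
  unfold Ξ
  have hx : (b ≫ j₁) ≫ p = (b ≫ pU) ≫ j := by rw [Category.assoc, sq.w, Category.assoc]
  have h1 : (sig' sq Z W α (b ≫ pU) (b ≫ j₁) hx a hba).1 ≫ Z.hom = b ≫ j₁ :=
    (sig' sq Z W α (b ≫ pU) (b ≫ j₁) hx a hba).2
  simp only [Category.assoc]
  rw [← pullback.condition, reassoc_of% hvQ, reassoc_of% h1, sq.w]

omit vQ in
theorem sig'_natural {T T' : Scheme.{u}} (k : T' ⟶ T) (s : T ⟶ SU) (x : T ⟶ S₁)
    (hx : x ≫ p = s ≫ j) (a : T ⟶ W.left) (ha : a ≫ W.hom = s) :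
    k ≫ (sig' sq Z W α s x hx a ha).1 = (sig' sq Z W α (k ≫ s) (k ≫ x)
      (by rw [Category.assoc, hx, Category.assoc]) (k ≫ a) (by rw [Category.assoc, ha])).1 := by
  unfold sig'
  simp only
  rw [← Category.assoc]
  congr 1
  apply pullback.hom_ext
  · simp
  · rw [Category.assoc, pullback.lift_snd, pullback.lift_snd]
    apply sq.hom_ext
    · simp
    · simp

omit vQ in
theorem sig'_congr {T : Scheme.{u}} {s s' : T ⟶ SU} {x x' : T ⟶ S₁} (hs : s = s') (hxx : x = x')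
    (hx : x ≫ p = s ≫ j) (hx' : x' ≫ p = s' ≫ j) {a a' : T ⟶ W.left} (haa : a = a')
    (ha : a ≫ W.hom = s) (ha' : a' ≫ W.hom = s') :
    (sig' sq Z W α s x hx a ha).1 = (sig' sq Z W α s' x' hx' a' ha').1 := by
  subst hs hxx haa
  rfl

theorem Ξ_natural {T T' : Scheme.{u}} (k : T' ⟶ T) (b : T ⟶ S₁U) (a : T ⟶ W.left)
    (hba : a ≫ W.hom = b ≫ pU) :
    k ≫ Ξ sq Z W α W' vQ b a hba = Ξ sq Z W α W' vQ (k ≫ b) (k ≫ a)
      (by rw [Category.assoc, hba, Category.assoc]) := by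
  unfold Ξ
  rw [← Category.assoc, sig'_natural]
  congr 1

include hQP hvQ in
theorem Θ_Ξ {T : Scheme.{u}} (b : T ⟶ S₁U) (a : T ⟶ W.left) (hba : a ≫ W.hom = b ≫ pU) :
    Θ sq Z W α W' vP hvP b (Ξ sq Z W α W' vQ b a hba) (Ξ_hom sq Z W α W' vQ hvQ b a hba) = a := by
  unfold Θ
  have hx : (b ≫ j₁) ≫ p = (b ≫ pU) ≫ j := by rw [Category.assoc, sq.w, Category.assoc]
  have : zpt sq Z W' vP hvP b (Ξ sq Z W α W' vQ b a hba) (Ξ_hom sq Z W α W' vQ hvQ b a hba) =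
      sig' sq Z W α (b ≫ pU) (b ≫ j₁) hx a hba := by
    apply Subtype.ext
    unfold zpt
    simp only
    have h1 : pullback.lift (b ≫ j₁) (Ξ sq Z W α W' vQ b a hba)
        (by rw [Category.assoc, sq.w, ← Category.assoc]; exact Ξ_hom sq Z W α W' vQ hvQ b a hba) =
        (sig' sq Z W α (b ≫ pU) (b ≫ j₁) hx a hba).1 ≫ vQ := by
      apply pullback.hom_ext
      · rw [pullback.lift_fst, Category.assoc, hvQ, (sig' sq Z W α (b ≫ pU) (b ≫ j₁) hx a hba).2]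
      · rw [pullback.lift_snd, Category.assoc]; rfl
    rw [h1, Category.assoc, hQP, Category.comp_id]
  rw [this, rho'_sig']

include hPQ in
theorem Ξ_Θ {T : Scheme.{u}} (b : T ⟶ S₁U) (w' : T ⟶ W'.left)
    (hbw : (b ≫ pU) ≫ j = w' ≫ W'.hom) :
    Ξ sq Z W α W' vQ b (Θ sq Z W α W' vP hvP b w' hbw) (Θ_hom sq Z W α W' vP hvP b w' hbw) = w' := by
  unfold Ξ Θ
  rw [sig'_rho']
  unfold zpt
  simp only
  rw [Category.assoc, ← Category.assoc vP, hPQ, Category.id_comp, pullback.lift_snd]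

end Compare

end Groth.Agent.Lib.Helper9.Hart
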