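import Mathlib
import Groth.Agent.Lib.Helper9.Hart7
import Groth.Agent.Lib.Helper9.DescAff4

set_option backward.isDefEq.respectTransparency false
set_option maxHeartbeats 800000
set_option autoImplicit false
set_option linter.unusedSectionVars false
set_option linter.unusedVariables false
universe u
open CategoryTheory CategoryTheory.Limits AlgebraicGeometry Opposite TopologicalSpace

namespace Groth.Agent.Lib.Helper9.Hart

section Compare

variable {S S₁ SU S₁U : Scheme.{u}} {p : S₁ ⟶ S} {j : SU ⟶ S} {j₁ : S₁U ⟶ S₁} {pU : S₁U ⟶ SU}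
  (sq : IsPullback j₁ pU p j)
  (Z : Over S₁) (W : Over SU)
  (α : (Over.pullback j₁).obj Z ≅ (Over.pullback pU).obj W)
  (G : ∀ {T : Scheme.{u}} (t : T ⟶ S) [Flat t] (x : T ⟶ S₁) (ψ : pullback t j ⟶ Z.left),
    ψ ≫ Z.hom = pullback.fst t j ≫ x →
    ∃! v : T ⟶ Z.left, v ≫ Z.hom = x ∧ pullback.fst t j ≫ v = ψ)
  [Flat p] [Flat Z.hom]
  (W' : Over S) (vP : pullback p W'.hom ⟶ Z.left) (vQ : Z.left ⟶ pullback p W'.hom)
  (hvP : vP ≫ Z.hom = pullback.fst p W'.hom) (hvQ : vQ ≫ pullback.fst p W'.hom = Z.hom)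
  (hPQ : vP ≫ vQ = 𝟙 _) (hQP : vQ ≫ vP = 𝟙 _)
  (hcomm : ∀ {T : Scheme.{u}} (x₀ x₁ : T ⟶ S₁) (h : x₀ ≫ p = x₁ ≫ p) (y : T ⟶ pullback p W'.hom)
    (hy : y ≫ pullback.fst p W'.hom = x₀),
    (phi sq Z W α G x₀ x₁ h ⟨y ≫ vP, by rw [Category.assoc, hvP, hy]⟩).1 =
      pullback.lift x₁ (y ≫ pullback.snd p W'.hom)
        (by rw [← h, ← hy, Category.assoc, Category.assoc, pullback.condition]) ≫ vP)

include hcomm in
theorem Θ_indep {T : Scheme.{u}} (x₀ x₁ : T ⟶ S₁U) (h : x₀ ≫ pU = x₁ ≫ pU) (q : T ⟶ W'.left)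
    (h₀ : (x₀ ≫ pU) ≫ j = q ≫ W'.hom) (h₁ : (x₁ ≫ pU) ≫ j = q ≫ W'.hom) :
    Θ sq Z W α W' vP hvP x₁ q h₁ = Θ sq Z W α W' vP hvP x₀ q h₀ := by
  unfold Θ
  have hx₀ : (x₀ ≫ j₁) ≫ p = (x₀ ≫ pU) ≫ j := by rw [Category.assoc, sq.w, Category.assoc]
  have hx₁ : (x₁ ≫ j₁) ≫ p = (x₀ ≫ pU) ≫ j := by rw [Category.assoc, sq.w, ← Category.assoc, h]
  rw [← phi_rel' sq Z W α G (x₀ ≫ pU) (x₀ ≫ j₁) (x₁ ≫ j₁) hx₀ hx₁ (zpt sq Z W' vP hvP x₀ q h₀)]
  apply rho'_congr sq Z W α h.symm rfl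
  have := hcomm (x₀ ≫ j₁) (x₁ ≫ j₁) (hx₀.trans hx₁.symm)
    (pullback.lift (x₀ ≫ j₁) q (by rw [Category.assoc, sq.w, ← Category.assoc, h₀]))
    (pullback.lift_fst _ _ _)
  refine Eq.trans ?_ this.symm
  unfold zpt
  simp only
  congr 1
  apply pullback.hom_ext
  · simp
  · simp

end Compare


section Main

variable {S S₁ SU S₁U : Scheme.{u}} {p : S₁ ⟶ S} {j : SU ⟶ S} {j₁ : S₁U ⟶ S₁} {pU : S₁U ⟶ SU}
  (sq : IsPullback j₁ pU p j)
  (Z : Over S₁) (W : Over SU)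
  (α : (Over.pullback j₁).obj Z ≅ (Over.pullback pU).obj W)
  (G : ∀ {T : Scheme.{u}} (t : T ⟶ S) [Flat t] (x : T ⟶ S₁) (ψ : pullback t j ⟶ Z.left),
    ψ ≫ Z.hom = pullback.fst t j ≫ x →
    ∃! v : T ⟶ Z.left, v ≫ Z.hom = x ∧ pullback.fst t j ≫ v = ψ)
  [Flat p] [Surjective p] [QuasiCompact p] [Flat Z.hom] [IsAffineHom Z.hom]

omit [Flat p] [Flat Z.hom] [Surjective p] [QuasiCompact p] [IsAffineHom Z.hom] in
theorem Ξ_congr (W' : Over S) (vQ : Z.left ⟶ pullback p W'.hom) {T : Scheme.{u}} {b b' : T ⟶ S₁U}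
    {a a' : T ⟶ W.left} (hb : b = b')
    (ha : a = a') (hba : a ≫ W.hom = b ≫ pU) (hba' : a' ≫ W.hom = b' ≫ pU) :
    Ξ sq Z W α W' vQ b a hba = Ξ sq Z W α W' vQ b' a' hba' := by
  subst hb ha
  rfl

include sq α G in
theorem exists_descent : ∃ W' : Over S, Nonempty ((Over.pullback p).obj W' ≅ Z) ∧
    Nonempty ((Over.pullback j).obj W' ≅ W) := by
  have hp := DescAff.mem_fpqc_of_pUnit p
  obtain ⟨W', ⟨ε⟩⟩ := DescMain.isEffective_of_isAffineHom (fun _ : PUnit.{u + 1} => p) hp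
    (dd sq Z W α G) (fun _ => (inferInstance : IsAffineHom Z.hom))
  let vP : pullback p W'.hom ⟶ Z.left := (ε.hom.hom PUnit.unit).left
  let vQ : Z.left ⟶ pullback p W'.hom := (ε.inv.hom PUnit.unit).left
  have hvP : vP ≫ Z.hom = pullback.fst p W'.hom := Over.w (ε.hom.hom PUnit.unit)
  have hvQ : vQ ≫ pullback.fst p W'.hom = Z.hom := Over.w (ε.inv.hom PUnit.unit)
  have hPQ : vP ≫ vQ = 𝟙 _ := by
    have := congrArg (fun a : (Desc.toDDFam (fun _ : PUnit.{u + 1} => p)).obj W' ⟶ _ =>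
      (a.hom PUnit.unit).left) ε.hom_inv_id
    exact this
  have hQP : vQ ≫ vP = 𝟙 _ := by
    have := congrArg (fun a : dd sq Z W α G ⟶ _ => (a.hom PUnit.unit).left) ε.inv_hom_id
    exact this
  have hcomm : ∀ {T : Scheme.{u}} (x₀ x₁ : T ⟶ S₁) (h : x₀ ≫ p = x₁ ≫ p)
      (y : T ⟶ pullback p W'.hom) (hy : y ≫ pullback.fst p W'.hom = x₀),
      (phi sq Z W α G x₀ x₁ h ⟨y ≫ vP, by rw [Category.assoc, hvP, hy]⟩).1 =
        pullback.lift x₁ (y ≫ pullback.snd p W'.hom)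
          (by rw [← h, ← hy, Category.assoc, Category.assoc, pullback.condition]) ≫ vP := by
    intro T x₀ x₁ h y hy
    exact ε.hom.comm (i := PUnit.unit) (j := PUnit.unit) x₀ x₁ h ⟨y, hy⟩
      ⟨y ≫ vP, show (y ≫ vP) ≫ Z.hom = x₀ by rw [Category.assoc, hvP, hy]⟩ rfl
  refine ⟨W', ⟨?_⟩, ?_⟩
  · exact Over.isoMk (pullbackSymmetry W'.hom p ≪≫ ⟨vP, vQ, hPQ, hQP⟩) (by
      change ((pullbackSymmetry W'.hom p).hom ≫ vP) ≫ Z.hom = pullback.snd W'.hom p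
      rw [Category.assoc, hvP, pullbackSymmetry_hom_comp_fst])
  · haveI : Flat pU := MorphismProperty.of_isPullback (P := @Flat) sq inferInstance
    haveI : Surjective pU := MorphismProperty.of_isPullback (P := @Surjective) sq inferInstance
    haveI : QuasiCompact pU := MorphismProperty.of_isPullback (P := @QuasiCompact) sq inferInstance
    have hcov := DescAff.mem_fpqc_of_pUnit pU
    haveI := DescFF.full_toDDFam (fun _ : PUnit.{u + 1} => pU) hcov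
    haveI := DescFF.faithful_toDDFam (fun _ : PUnit.{u + 1} => pU) hcov
    let Q' : Over SU := (Over.pullback j).obj W'
    -- the universal points
    let b₀ : pullback pU Q'.hom ⟶ S₁U := pullback.fst pU Q'.hom
    let w₀ : pullback pU Q'.hom ⟶ W'.left := pullback.snd pU Q'.hom ≫ pullback.fst W'.hom j
    have hbw₀ : (b₀ ≫ pU) ≫ j = w₀ ≫ W'.hom := by
      have h1 : b₀ ≫ pU = pullback.snd pU Q'.hom ≫ pullback.snd W'.hom j := pullback.condition
      rw [h1, Category.assoc, Category.assoc, pullback.condition]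
    let θ₁ : pullback pU Q'.hom ⟶ pullback pU W.hom :=
      pullback.lift b₀ (Θ sq Z W α W' vP hvP b₀ w₀ hbw₀) (Θ_hom sq Z W α W' vP hvP b₀ w₀ hbw₀).symm
    let b₁ : pullback pU W.hom ⟶ S₁U := pullback.fst pU W.hom
    let a₁ : pullback pU W.hom ⟶ W.left := pullback.snd pU W.hom
    have hba₁ : a₁ ≫ W.hom = b₁ ≫ pU := pullback.condition.symm
    let θ₂ : pullback pU W.hom ⟶ pullback pU Q'.hom :=
      pullback.lift b₁ (pullback.lift (Ξ sq Z W α W' vQ b₁ a₁ hba₁) (b₁ ≫ pU)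
        (Ξ_hom sq Z W α W' vQ hvQ b₁ a₁ hba₁).symm) (pullback.lift_snd _ _ _).symm
    have hθ₁b : θ₁ ≫ b₁ = b₀ := pullback.lift_fst _ _ _
    have hθ₁a : θ₁ ≫ a₁ = Θ sq Z W α W' vP hvP b₀ w₀ hbw₀ := pullback.lift_snd _ _ _
    have hθ₂b : θ₂ ≫ b₀ = b₁ := pullback.lift_fst _ _ _
    have hθ₂w : θ₂ ≫ w₀ = Ξ sq Z W α W' vQ b₁ a₁ hba₁ := by
      change θ₂ ≫ pullback.snd pU Q'.hom ≫ pullback.fst W'.hom j = _
      rw [← Category.assoc, pullback.lift_snd, pullback.lift_fst]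
    have h12 : θ₁ ≫ θ₂ = 𝟙 _ := by
      apply pullback.hom_ext
      · rw [Category.assoc, Category.id_comp]
        exact (congrArg (θ₁ ≫ ·) hθ₂b).trans hθ₁b
      · rw [Category.assoc, Category.id_comp, pullback.lift_snd]
        apply pullback.hom_ext
        · rw [Category.assoc, pullback.lift_fst, Ξ_natural]
          refine (Ξ_congr sq Z W α W' vQ hθ₁b hθ₁a _
            (Θ_hom sq Z W α W' vP hvP b₀ w₀ hbw₀)).trans ?_
          exact Ξ_Θ sq Z W α W' vP vQ hvP hPQ b₀ w₀ hbw₀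
        · rw [Category.assoc, pullback.lift_snd, ← Category.assoc, hθ₁b]
          exact pullback.condition
    have h21 : θ₂ ≫ θ₁ = 𝟙 _ := by
      apply pullback.hom_ext
      · rw [Category.assoc, Category.id_comp]
        exact (congrArg (θ₂ ≫ ·) hθ₁b).trans hθ₂b
      · rw [Category.assoc, Category.id_comp, pullback.lift_snd, Θ_natural]
        refine (Θ_congr sq Z W α W' vP hvP hθ₂b hθ₂w _
          (Ξ_hom sq Z W α W' vQ hvQ b₁ a₁ hba₁)).trans ?_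
        exact Θ_Ξ sq Z W α W' vP vQ hvP hvQ hQP b₁ a₁ hba₁
    let c : (Desc.toDDFam (fun _ : PUnit.{u + 1} => pU)).obj Q' ⟶
        (Desc.toDDFam (fun _ : PUnit.{u + 1} => pU)).obj W :=
      ⟨fun _ => Over.homMk θ₁ hθ₁b, by
        intro T i₀ i₁ x₀ x₁ h v w hw
        have hw' : w.1 = v.1 ≫ θ₁ := hw
        have hv : v.1 ≫ b₀ = x₀ := v.2
        change (Desc.canMapFam (fun _ : PUnit.{u + 1} => pU) W (i := i₀) (j := i₁) x₀ x₁ h w).1 =
          (Desc.canMapFam (fun _ : PUnit.{u + 1} => pU) Q' (i := i₀) (j := i₁) x₀ x₁ h v).1 ≫ θ₁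
        rw [Desc.canMapFam_val, Desc.canMapFam_val]
        apply pullback.hom_ext
        · rw [pullback.lift_fst, Category.assoc]
          exact ((congrArg (_ ≫ ·) hθ₁b).trans (pullback.lift_fst _ _ _)).symm
        · rw [pullback.lift_snd, Category.assoc, hw', Category.assoc]
          change v.1 ≫ θ₁ ≫ a₁ = _ ≫ θ₁ ≫ a₁
          rw [hθ₁a, Θ_natural, Θ_natural]
          have e1 : ∀ hc, v.1 ≫ w₀ = pullback.lift x₁ (v.1 ≫ pullback.snd pU Q'.hom) hc ≫ w₀ := by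
            intro hc
            change v.1 ≫ pullback.snd pU Q'.hom ≫ _ = _ ≫ pullback.snd pU Q'.hom ≫ _
            rw [pullback.lift_snd_assoc]
            exact (Category.assoc _ _ _).symm
          have e2 : ∀ hc, pullback.lift x₁ (v.1 ≫ pullback.snd pU Q'.hom) hc ≫ b₀ = x₁ :=
            fun hc => pullback.lift_fst _ _ _
          have hq₀ : (x₀ ≫ pU) ≫ j = (v.1 ≫ w₀) ≫ W'.hom :=
            calc (x₀ ≫ pU) ≫ j = ((v.1 ≫ b₀) ≫ pU) ≫ j := by rw [hv]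
              _ = v.1 ≫ ((b₀ ≫ pU) ≫ j) := by simp only [Category.assoc]
              _ = v.1 ≫ (w₀ ≫ W'.hom) := by rw [hbw₀]
              _ = _ := (Category.assoc _ _ _).symm
          have hq₁ : (x₁ ≫ pU) ≫ j = (v.1 ≫ w₀) ≫ W'.hom := by rw [← h, hq₀]
          refine (Θ_congr sq Z W α W' vP hvP hv rfl _ hq₀).trans ?_
          refine ((Θ_indep sq Z W α G W' vP hvP hcomm x₀ x₁ h (v.1 ≫ w₀) hq₀ hq₁).symm).trans ?_
          exact Θ_congr sq Z W α W' vP hvP (e2 _).symm (e1 _) _ _⟩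
    haveI : IsIso c := DescSec.isIso_of_isIso_left c (fun _ => ⟨θ₂, h12, h21⟩)
    exact ⟨(Desc.toDDFam (fun _ : PUnit.{u + 1} => pU)).preimageIso (asIso c)⟩

end Main

end Groth.Agent.Lib.Helper9.Hart
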