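import Mathlib
import Groth.Agent.Lib.Helper9.Hart8
import Groth.Agent.Lib.Helper4.AffineDescent

set_option backward.isDefEq.respectTransparency false
set_option maxHeartbeats 800000
set_option autoImplicit false
set_option linter.unusedSectionVars false
set_option linter.unusedVariables false
universe u
open CategoryTheory CategoryTheory.Limits AlgebraicGeometry Opposite TopologicalSpace

namespace Groth.Agent.Lib.Helper9.Hart

theorem essSurj_restrict {S S₁ SU S₁U : Scheme.{u}} {p : S₁ ⟶ S} {j : SU ⟶ S} {j₁ : S₁U ⟶ S₁}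
    {pU : S₁U ⟶ SU} (sq : IsPullback j₁ pU p j) [IsOpenImmersion j] [QuasiCompact j] (hj : Hart j)
    [Flat p] [Surjective p] [QuasiCompact p] (hE : (FEt.restrict j₁).EssSurj) :
    (FEt.restrict j).EssSurj := by
  refine ⟨fun W => ?_⟩
  obtain ⟨Z', ⟨β⟩⟩ := hE.mem_essImage ((FEt.restrict pU).obj W)
  have hZ : IsFinite Z'.hom ∧ Etale Z'.hom := Z'.prop
  let Zo : Over S₁ := Over.mk Z'.hom
  let Wo : Over SU := Over.mk W.hom
  haveI : IsFinite Zo.hom := hZ.1
  haveI : Etale Zo.hom := hZ.2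
  let bl : pullback Zo.hom j₁ ⟶ pullback Wo.hom pU := β.hom.left
  let br : pullback Wo.hom pU ⟶ pullback Zo.hom j₁ := β.inv.left
  have hbl : bl ≫ pullback.snd Wo.hom pU = pullback.snd Zo.hom j₁ := Over.w β.hom.hom
  have hlr : bl ≫ br = 𝟙 _ := by
    have := congrArg (fun φ => φ.left) β.hom_inv_id
    exact this
  have hrl : br ≫ bl = 𝟙 _ := by
    have := congrArg (fun φ => φ.left) β.inv_hom_id
    exact this
  let α : (Over.pullback j₁).obj Zo ≅ (Over.pullback pU).obj Wo :=
    Over.isoMk ⟨bl, br, hlr, hrl⟩ hbl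
  obtain ⟨W', ⟨e₁⟩, ⟨e₂⟩⟩ := exists_descent sq Zo Wo α
    (fun t _ x ψ hψ => ext_flat j hj t Zo.hom x ψ hψ)
  have h1 : e₁.hom.left ≫ Zo.hom = pullback.snd W'.hom p := Over.w e₁.hom
  haveI : IsIso e₁.hom.left := ⟨e₁.inv.left, by
    rw [← Over.comp_left, e₁.hom_inv_id]; rfl, by rw [← Over.comp_left, e₁.inv_hom_id]; rfl⟩
  haveI : IsFinite (pullback.snd W'.hom p) := by rw [← h1]; infer_instance
  haveI : Etale (pullback.snd W'.hom p) := by rw [← h1]; infer_instance
  have hfin : IsFinite W'.hom :=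
    Groth.Agent.Lib.Helper4.AffineDescent.isFinite_of_isPullback
      (IsPullback.of_hasPullback W'.hom p).flip
  have het : Etale W'.hom :=
    MorphismProperty.of_isPullback_of_descendsAlong (P := @Etale)
      (Q := (@Surjective ⊓ @Flat ⊓ @QuasiCompact : MorphismProperty Scheme.{u}))
      (IsPullback.of_hasPullback W'.hom p).flip ⟨⟨inferInstance, inferInstance⟩, inferInstance⟩
      inferInstance
  refine ⟨MorphismProperty.Over.mk ⊤ W'.hom ⟨hfin, het⟩, ⟨?_⟩⟩
  have h2 : e₂.hom.left ≫ W.hom = pullback.snd W'.hom j := Over.w e₂.hom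
  exact MorphismProperty.Over.isoMk ⟨e₂.hom.left, e₂.inv.left, by
    rw [← Over.comp_left, e₂.hom_inv_id]; rfl, by rw [← Over.comp_left, e₂.inv_hom_id]; rfl⟩ h2

end Groth.Agent.Lib.Helper9.Hart
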