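import Mathlib
import Groth.Agent.Lib.Helper9.Hart1
import Groth.Agent.Lib.Helper16.StalkPB
import Groth.Agent.Lib.helper11.RegularDim

set_option backward.isDefEq.respectTransparency false
set_option maxHeartbeats 800000
set_option autoImplicit false
set_option linter.unusedSectionVars false
set_option linter.unusedVariables false
universe u
open CategoryTheory CategoryTheory.Limits AlgebraicGeometry Opposite TopologicalSpace

namespace Groth.Agent.Lib.Helper9.HartN

open Groth.Agent.Lib.Helper9.Hart

theorem stalkMap_bijective_fromSpecStalk (X : Scheme.{u}) (z : X)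
    (x : Spec (X.presheaf.stalk z)) :
    Function.Bijective ((X.fromSpecStalk z).stalkMap x) := by
  refine ⟨?_, (X.fromSpecStalk z).stalkMap_surjective x⟩
  have hflat := Flat.stalkMap (X.fromSpecStalk z) x
  algebraize [((X.fromSpecStalk z).stalkMap x).hom]
  haveI : IsLocalHom (algebraMap (X.presheaf.stalk ((X.fromSpecStalk z) x))
      ((Spec (X.presheaf.stalk z)).presheaf.stalk x)) :=
    (inferInstance : IsLocalHom ((X.fromSpecStalk z).stalkMap x).hom)
  haveI : Module.FaithfullyFlat (X.presheaf.stalk ((X.fromSpecStalk z) x))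
      ((Spec (X.presheaf.stalk z)).presheaf.stalk x) :=
    Module.FaithfullyFlat.of_flat_of_isLocalHom
  exact FaithfulSMul.algebraMap_injective _ _

theorem depth_stalk_fromSpecStalk (X : Scheme.{u}) (z : X) (x : Spec (X.presheaf.stalk z))
    (hreg : IsRegularLocalRing (X.presheaf.stalk ((X.fromSpecStalk z) x)))
    (hdim : (2 : WithBot ℕ∞) ≤ ringKrullDim (X.presheaf.stalk ((X.fromSpecStalk z) x))) :
    (2 : ℕ∞) ≤ LocCoh.depth ((Spec (X.presheaf.stalk z)).presheaf.stalk x)
      ((Spec (X.presheaf.stalk z)).presheaf.stalk x) := by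
  let e : X.presheaf.stalk ((X.fromSpecStalk z) x) ≃+*
      (Spec (X.presheaf.stalk z)).presheaf.stalk x :=
    RingEquiv.ofBijective ((X.fromSpecStalk z).stalkMap x).hom
      (stalkMap_bijective_fromSpecStalk X z x)
  rw [← Groth.Agent.Lib.Helper7.Hartogs.depth_eq_of_ringEquiv e]
  have h := Groth.Agent.Lib.helper11.RegularDim.depth_self
    (R := X.presheaf.stalk ((X.fromSpecStalk z) x))
  rw [← h] at hdim
  have h2 : ((2 : ℕ∞) : WithBot ℕ∞) ≤ ((LocCoh.depth (X.presheaf.stalk ((X.fromSpecStalk z) x))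
      (X.presheaf.stalk ((X.fromSpecStalk z) x)) : ℕ∞) : WithBot ℕ∞) := hdim
  exact WithBot.coe_le_coe.mp h2

theorem hart_iso_comp {Y Y' T : Scheme.{u}} (e : Y ⟶ Y') [IsIso e] (i : Y' ⟶ T) (h : Hart i) :
    Hart (e ≫ i) := by
  intro V
  have h1 : IsIso (i.app V) := (ConcreteCategory.isIso_iff_bijective _).2 (h V)
  have h2 : IsIso ((e ≫ i).app V) := by
    rw [Scheme.Hom.comp_app]
    infer_instance
  exact (ConcreteCategory.isIso_iff_bijective _).1 h2

theorem hart_of_opensRange_eq {Y T : Scheme.{u}} (j : Y ⟶ T) [IsOpenImmersion j] (W : T.Opens)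
    (hW : j.opensRange = W) (h : Hart W.ι) : Hart j := by
  have hr : Set.range j = Set.range W.ι := by
    rw [Scheme.Opens.range_ι]
    exact congrArg (fun O : T.Opens => (O : Set T)) hW
  have he : (IsOpenImmersion.isoOfRangeEq j W.ι hr).hom ≫ W.ι = j :=
    IsOpenImmersion.isoOfRangeEq_hom_fac _ _ _
  rw [← he]
  exact hart_iso_comp _ W.ι h

/-- local Hartogs at the spectrum of a regular stalk -/
theorem hart_snd_fromSpecStalk {X : Scheme.{u}} (U : X.Opens)
    (hZ : ∀ z : X, z ∉ U → IsRegularLocalRing (X.presheaf.stalk z) ∧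
      (2 : WithBot ℕ∞) ≤ ringKrullDim (X.presheaf.stalk z)) (z : X) :
    Hart (pullback.snd U.ι (X.fromSpecStalk z)) := by
  by_cases hz : z ∈ U
  · -- the projection is an isomorphism
    haveI : Surjective (pullback.snd U.ι (X.fromSpecStalk z)) := by
      constructor
      intro x
      have hx : (X.fromSpecStalk z) x ∈ U := by
        have h1 : (X.fromSpecStalk z) x ∈ Set.range (X.fromSpecStalk z) := ⟨x, rfl⟩
        rw [Scheme.range_fromSpecStalk] at h1
        exact h1.mem_open U.2 hz
      obtain ⟨y, hy1, hy2⟩ := Scheme.Pullback.exists_preimage_pullback (f := U.ι)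
        (g := X.fromSpecStalk z) ⟨_, hx⟩ x rfl
      exact ⟨y, hy2⟩
    haveI : IsIso (pullback.snd U.ι (X.fromSpecStalk z)) :=
      (isIso_iff_isOpenImmersion_and_epi_base _).2 ⟨inferInstance, by
        rw [TopCat.epi_iff_surjective]
        exact (pullback.snd U.ι (X.fromSpecStalk z)).surjective⟩
    intro V
    exact (ConcreteCategory.isIso_iff_bijective _).1 inferInstance
  · obtain ⟨hreg, -⟩ := hZ z hz
    haveI : IsNoetherianRing (X.presheaf.stalk z) := inferInstance
    haveI : IsLocallyNoetherian (Spec (X.presheaf.stalk z)) := inferInstance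
    refine hart_of_opensRange_eq _ ((X.fromSpecStalk z) ⁻¹ᵁ U) ?_ ?_
    · rw [Scheme.Hom.opensRange_pullbackSnd, Scheme.Opens.opensRange_ι]
    · apply hart_of_depth
      intro x hx
      have hx' : (X.fromSpecStalk z) x ∉ U := hx
      obtain ⟨hreg', hdim'⟩ := hZ _ hx'
      exact depth_stalk_fromSpecStalk X z x hreg' hdim'

end Groth.Agent.Lib.Helper9.HartN
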