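import Mathlib
import Groth.Agent.Lib.Helper9.HartN1

set_option backward.isDefEq.respectTransparency false
set_option maxHeartbeats 800000
set_option autoImplicit false
set_option linter.unusedSectionVars false
set_option linter.unusedVariables false
universe u
open CategoryTheory CategoryTheory.Limits AlgebraicGeometry Opposite TopologicalSpace

namespace Groth.Agent.Lib.Helper9.HartN

open Groth.Agent.Lib.Helper9.Hart

theorem locglob_step {R S R' S' : CommRingCat.{u}} {ρ : R ⟶ S} {lam : R ⟶ R'} {inl : S ⟶ S'}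
    {inr : R' ⟶ S'} (H : IsPushout ρ lam inl inr) (M : Submonoid R)
    (hloc : letI := lam.hom.toAlgebra; IsLocalization M R') (hinr : Function.Bijective inr) :
    (∀ a : R, ρ a = 0 → lam a = 0) ∧ (∀ m : S, ∃ s ∈ M, ∃ a : R, ρ s * m = ρ a) := by
  have hw : ∀ a, inl (ρ a) = inr (lam a) := fun a => congr($(H.w).hom a)
  refine ⟨fun a ha => hinr.1 (by rw [← hw, ha, map_zero, map_zero]), fun m => ?_⟩
  algebraize [ρ.hom, lam.hom, inl.hom, inr.hom, (ρ ≫ inl).hom]
  haveI : IsScalarTower R S S' := .of_algebraMap_eq' rfl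
  haveI : IsScalarTower R R' S' := .of_algebraMap_eq' (congr($(H.w).hom))
  haveI : IsLocalization M R' := hloc
  have hP : Algebra.IsPushout R S R' S' := CommRingCat.isPushout_iff_isPushout.mp H
  haveI : IsLocalization (Algebra.algebraMapSubmonoid S M) S' :=
    (Algebra.isLocalization_iff_isPushout M R').mpr hP
  obtain ⟨r', hr'⟩ := hinr.2 (inl m)
  obtain ⟨⟨a, s⟩, hs⟩ := IsLocalization.surj M r'
  have hs' : r' * lam s.1 = lam a := hs
  have h0 : algebraMap S S' (ρ s.1 * m - ρ a) = 0 := by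
    show inl (ρ s.1 * m - ρ a) = 0
    rw [map_sub, map_mul, hw, hw, ← hr', ← hs', map_mul, mul_comm, sub_self]
  obtain ⟨c, hc⟩ := (IsLocalization.map_eq_zero_iff (Algebra.algebraMapSubmonoid S M) S' _).mp h0
  obtain ⟨c', ⟨s', hs'M, rfl⟩⟩ := c
  have hc' : ρ s' * (ρ s.1 * m - ρ a) = 0 := hc
  refine ⟨s' * s.1, M.mul_mem hs'M s.2, s' * a, ?_⟩
  rw [map_mul, map_mul, mul_assoc]
  rw [mul_sub] at hc'
  exact sub_eq_zero.mp hc'

theorem appLE_fromSpecStalk {X : Scheme.{u}} {V : X.Opens} (z : X) (hz : z ∈ V)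
    (h : (⊤ : (Spec (X.presheaf.stalk z)).Opens) ≤ (X.fromSpecStalk z) ⁻¹ᵁ V) :
    (X.fromSpecStalk z).appLE V ⊤ h =
      X.presheaf.germ V z hz ≫ (Scheme.ΓSpecIso (X.presheaf.stalk z)).inv := by
  rw [Scheme.Hom.appLE, Scheme.fromSpecStalk_app hz, Category.assoc, Category.assoc,
    ← Functor.map_comp]
  have : (Spec (X.presheaf.stalk z)).presheaf.map
      ((homOfLE (le_top : (X.fromSpecStalk z) ⁻¹ᵁ V ≤ ⊤)).op ≫ (homOfLE h).op) = 𝟙 _ := by
    rw [← (Spec (X.presheaf.stalk z)).presheaf.map_id]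
    congr 1
  rw [this, Category.comp_id]

theorem key {X : Scheme.{u}} (U : X.Opens) [QuasiCompact U.ι]
    (h : ∀ z : X, Hart (pullback.snd U.ι (X.fromSpecStalk z)))
    (V : X.Opens) (hV : IsAffineOpen V) (z : X) (hz : z ∈ V) :
    (∀ a : Γ(X, V), U.ι.app V a = 0 → X.presheaf.germ V z hz a = 0) ∧
    (∀ m : Γ(U, U.ι ⁻¹ᵁ V), ∃ s : Γ(X, V), z ∈ X.basicOpen s ∧
      ∃ a : Γ(X, V), U.ι.app V s * m = U.ι.app V a) := by
  have hUST : (⊤ : (Spec (X.presheaf.stalk z)).Opens) ≤ (X.fromSpecStalk z) ⁻¹ᵁ V := by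
    intro x _
    have h1 : (X.fromSpecStalk z) x ∈ Set.range (X.fromSpecStalk z) := ⟨x, rfl⟩
    rw [Scheme.range_fromSpecStalk] at h1
    exact h1.mem_open V.2 hz
  have hUY : (⊤ : (pullback U.ι (X.fromSpecStalk z)).Opens) =
      (pullback.fst U.ι (X.fromSpecStalk z)) ⁻¹ᵁ (U.ι ⁻¹ᵁ V) ⊓
        (pullback.snd U.ι (X.fromSpecStalk z)) ⁻¹ᵁ ⊤ := by
    rw [← Scheme.Hom.comp_preimage, pullback.condition, Scheme.Hom.comp_preimage,
      top_le_iff.mp hUST]
    simp
  have H := IsPullback.of_hasPullback U.ι (X.fromSpecStalk z)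
  have hiso := isIso_pushoutSection_of_isQuasiSeparated_of_flat_right H hUST
    (le_refl (U.ι ⁻¹ᵁ V)) hUY hV (isAffineOpen_top _) (U.ι.isCompact_preimage hV.isCompact)
    (U.ι.isQuasiSeparated_preimage hV.isQuasiSeparated)
  have Hpo := (isIso_pushoutSection_iff H hUST (le_refl (U.ι ⁻¹ᵁ V)) hUY).mp hiso
  rw [Scheme.Hom.appLE_eq_app] at Hpo
  -- `inr` is bijective
  have hinr : Function.Bijective ((pullback.snd U.ι (X.fromSpecStalk z)).appLE ⊤ ⊤
      (by rw [hUY]; exact inf_le_right)) := by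
    have h1 : IsIso ((pullback.snd U.ι (X.fromSpecStalk z)).app ⊤) :=
      (ConcreteCategory.isIso_iff_bijective _).2 (h z ⊤)
    have h2 : IsIso ((pullback.snd U.ι (X.fromSpecStalk z)).appLE ⊤ ⊤
        (by rw [hUY]; exact inf_le_right)) := by
      rw [Scheme.Hom.appLE]
      have : IsIso (homOfLE (show (⊤ : (pullback U.ι (X.fromSpecStalk z)).Opens) ≤
          (pullback.snd U.ι (X.fromSpecStalk z)) ⁻¹ᵁ ⊤ by simp)) :=
        ⟨⟨homOfLE le_top, Subsingleton.elim _ _, Subsingleton.elim _ _⟩⟩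
      infer_instance
    exact (ConcreteCategory.isIso_iff_bijective _).1 h2
  -- localization
  have hlam := appLE_fromSpecStalk z hz hUST
  letI : Algebra Γ(X, V) (X.presheaf.stalk z) :=
    TopCat.Presheaf.algebra_section_stalk X.presheaf (⟨z, hz⟩ : V)
  haveI : IsLocalization.AtPrime (X.presheaf.stalk z) (hV.primeIdealOf ⟨z, hz⟩).asIdeal :=
    hV.isLocalization_stalk ⟨z, hz⟩
  have hloc : letI := ((X.fromSpecStalk z).appLE V ⊤ hUST).hom.toAlgebra
      IsLocalization (hV.primeIdealOf ⟨z, hz⟩).asIdeal.primeCompl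
        Γ(Spec (X.presheaf.stalk z), ⊤) := by
    letI := ((X.fromSpecStalk z).appLE V ⊤ hUST).hom.toAlgebra
    refine IsLocalization.isLocalization_of_algEquiv _ (AlgEquiv.ofRingEquiv
      (f := (Scheme.ΓSpecIso (X.presheaf.stalk z)).symm.commRingCatIsoToRingEquiv) ?_)
    intro a
    exact (congr($(hlam).hom a)).symm
  obtain ⟨h1, h2⟩ := locglob_step Hpo _ hloc hinr
  refine ⟨fun a ha => ?_, fun m => ?_⟩
  · have h3 := h1 a ha
    rw [hlam] at h3
    have h4 : Function.Injective (Scheme.ΓSpecIso (X.presheaf.stalk z)).inv :=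
      ((ConcreteCategory.isIso_iff_bijective _).1 inferInstance).1
    apply h4
    rw [map_zero]
    exact h3
  · obtain ⟨s, hs, a, ha⟩ := h2 m
    refine ⟨s, ?_, a, ha⟩
    rw [Scheme.mem_basicOpen _ _ _ hz]
    exact IsLocalization.map_units (X.presheaf.stalk z)
      (⟨s, hs⟩ : (hV.primeIdealOf ⟨z, hz⟩).asIdeal.primeCompl)

theorem hart_of_forall_stalk {X : Scheme.{u}} (U : X.Opens) [QuasiCompact U.ι]
    (h : ∀ z : X, Hart (pullback.snd U.ι (X.fromSpecStalk z))) : Hart U.ι := by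
  refine hart_of_basis U.ι (fun V : X.affineOpens => V.1) ?_ ?_
  · have : Set.range (fun V : X.affineOpens => V.1) = X.affineOpens := by
      ext W
      simp
    rw [this]
    exact X.isBasis_affineOpens
  · intro V
    constructor
    · rw [injective_iff_map_eq_zero]
      intro a ha
      refine TopCat.Presheaf.section_ext X.sheaf V.1 a 0 (fun z hz => ?_)
      rw [map_zero]
      exact (key U h V.1 V.2 z hz).1 a ha
    · intro m
      let I : Ideal Γ(X, V.1) :=
        { carrier := {s | ∃ a : Γ(X, V.1), U.ι.app V.1 s * m = U.ι.app V.1 a}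
          add_mem' := by
            rintro s t ⟨a, ha⟩ ⟨b, hb⟩
            exact ⟨a + b, by rw [map_add, add_mul, ha, hb, map_add]⟩
          zero_mem' := ⟨0, by simp⟩
          smul_mem' := by
            rintro c s ⟨a, ha⟩
            exact ⟨c * a, by rw [smul_eq_mul, map_mul, mul_assoc, ha, map_mul]⟩ }
      have hI : Ideal.span (I : Set Γ(X, V.1)) = ⊤ := by
        rw [← V.2.self_le_iSup_basicOpen_iff]
        intro z hz
        obtain ⟨s, hzs, a, ha⟩ := (key U h V.1 V.2 z hz).2 m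
        exact Opens.mem_iSup.mpr ⟨⟨s, ⟨a, ha⟩⟩, hzs⟩
      rw [Ideal.span_eq] at hI
      have h1 : (1 : Γ(X, V.1)) ∈ I := by
        rw [hI]
        trivial
      obtain ⟨a, ha⟩ := h1
      exact ⟨a, by rw [← ha, map_one, one_mul]⟩

/-- Hartogs across a closed subset along which the scheme is regular of dimension `≥ 2`
(no Noetherian hypothesis on `X`) -/
theorem hart_of_regular {X : Scheme.{u}} (U : X.Opens) [QuasiCompact U.ι]
    (hZ : ∀ z : X, z ∉ U → IsRegularLocalRing (X.presheaf.stalk z) ∧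
      (2 : WithBot ℕ∞) ≤ ringKrullDim (X.presheaf.stalk z)) : Hart U.ι :=
  hart_of_forall_stalk U (hart_snd_fromSpecStalk U hZ)

end Groth.Agent.Lib.Helper9.HartN
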