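import Mathlib
import Groth.Agent.Lib.Helper9.Hart2

set_option backward.isDefEq.respectTransparency false
set_option maxHeartbeats 800000
set_option autoImplicit false
set_option linter.unusedSectionVars false
set_option linter.unusedVariables false
universe u
open CategoryTheory CategoryTheory.Limits AlgebraicGeometry Opposite TopologicalSpace

namespace Groth.Agent.Lib.Helper9.HartO

open Groth.Agent.Lib.Helper9.Hart

/-- `j` induces bijections on sections over the preimages of the opens of `S` -/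
def HartOver {U' T S : Scheme.{u}} (j : U' ⟶ T) (g : T ⟶ S) : Prop :=
  ∀ O : S.Opens, Function.Bijective (j.app (g ⁻¹ᵁ O))

theorem bijective_app_congr {U' T : Scheme.{u}} (j : U' ⟶ T) {V₁ V₂ : T.Opens} (e : V₁ = V₂)
    (h : Function.Bijective (j.app V₁)) : Function.Bijective (j.app V₂) := by
  subst e; exact h

theorem hartOver_appTop {U' T S : Scheme.{u}} {j : U' ⟶ T} {g : T ⟶ S} (hj : HartOver j g) :
    Function.Bijective j.appTop :=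
  bijective_app_congr j (Scheme.Hom.preimage_top g) (hj ⊤)

/-- sections under base change along an open immersion -/
theorem bijective_app_snd {U' T Z : Scheme.{u}} (j : U' ⟶ T) (i : Z ⟶ T) [IsOpenImmersion i]
    (V : T.Opens) (hV : V ≤ i.opensRange) (hb : Function.Bijective (j.app V)) :
    Function.Bijective ((pullback.snd j i).app (i ⁻¹ᵁ V)) := by
  haveI h1 : IsIso (i.app V) := i.isIso_app V hV
  have hV' : j ⁻¹ᵁ V ≤ (pullback.fst j i).opensRange := by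
    intro x hx
    show x ∈ Set.range (pullback.fst j i)
    rw [Scheme.Pullback.range_fst]
    exact hV hx
  haveI h2 : IsIso ((pullback.fst j i).app (j ⁻¹ᵁ V)) := (pullback.fst j i).isIso_app _ hV'
  have hw := Scheme.Hom.congr_app (pullback.condition (f := j) (g := i)) V
  rw [Scheme.Hom.comp_app, Scheme.Hom.comp_app] at hw
  haveI h3 : IsIso (j.app V) := (ConcreteCategory.isIso_iff_bijective _).2 hb
  obtain ⟨β, hβ, hw'⟩ : ∃ β : Γ(pullback j i, (pullback.snd j i ≫ i) ⁻¹ᵁ V) ⟶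
      Γ(pullback j i, (pullback.fst j i ≫ j) ⁻¹ᵁ V), IsIso β ∧
      j.app V ≫ (pullback.fst j i).app (j ⁻¹ᵁ V) =
        (i.app V ≫ (pullback.snd j i).app (i ⁻¹ᵁ V)) ≫ β := ⟨_, inferInstance, hw⟩
  haveI := hβ
  haveI h4 : IsIso ((i.app V ≫ (pullback.snd j i).app (i ⁻¹ᵁ V)) ≫ β) := by
    rw [← hw']; infer_instance
  haveI h5 : IsIso (i.app V ≫ (pullback.snd j i).app (i ⁻¹ᵁ V)) :=
    IsIso.of_isIso_comp_right _ β
  haveI h6 : IsIso ((pullback.snd j i).app (i ⁻¹ᵁ V)) :=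
    IsIso.of_isIso_comp_left (i.app V) _
  exact (ConcreteCategory.isIso_iff_bijective _).1 h6

section Ext

variable {U' T Y S : Scheme.{u}} (j : U' ⟶ T) (g : T ⟶ S) (f : Y ⟶ S) [IsAffineHom f]

omit [IsAffineHom f] in
/-- restriction of `HartOver` to an open pulled back from `S` -/
theorem hartOver_snd (hj : HartOver j g) {Z : Scheme.{u}} (i : Z ⟶ T) [IsOpenImmersion i]
    (O : S.Opens) (hi : i.opensRange = g ⁻¹ᵁ O) : HartOver (pullback.snd j i) (i ≫ g) := by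
  intro O'
  have h1 : i ⁻¹ᵁ (g ⁻¹ᵁ (O ⊓ O')) = (i ≫ g) ⁻¹ᵁ O' := by
    ext x
    constructor
    · intro hx; exact hx.2
    · intro hx
      refine ⟨?_, hx⟩
      have : i x ∈ i.opensRange := ⟨x, rfl⟩
      rw [hi] at this
      exact this
  refine bijective_app_congr _ h1 (bijective_app_snd j i (g ⁻¹ᵁ (O ⊓ O')) ?_ (hj (O ⊓ O')))
  rw [hi]
  exact g.preimage_mono inf_le_left

/-- local uniqueness -/
theorem ext_unique_of_affine (hbij : Function.Bijective j.appTop) {W : S.Opens} (hW : IsAffineOpen W) (hgW : g ⁻¹ᵁ W = ⊤)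
    (ψ ψ' : T ⟶ Y) (h1 : ψ ≫ f = g) (h2 : ψ' ≫ f = g) (hres : j ≫ ψ = j ≫ ψ') : ψ = ψ' := by
  haveI : IsAffine ↑(f ⁻¹ᵁ W) := hW.preimage f
  have hr : ∀ χ : T ⟶ Y, χ ≫ f = g → Set.range χ ⊆ Set.range (f ⁻¹ᵁ W).ι := by
    intro χ hχ
    rintro _ ⟨x, rfl⟩
    rw [Scheme.Opens.range_ι]
    show f (χ x) ∈ W
    have : f (χ x) = g x := by rw [← hχ]; rfl
    rw [this]
    have hx : x ∈ g ⁻¹ᵁ W := by rw [hgW]; trivial
    exact hx
  let ψ₀ := IsOpenImmersion.lift (f ⁻¹ᵁ W).ι ψ (hr ψ h1)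
  let ψ₀' := IsOpenImmersion.lift (f ⁻¹ᵁ W).ι ψ' (hr ψ' h2)
  have e : ψ₀ ≫ (f ⁻¹ᵁ W).ι = ψ := IsOpenImmersion.lift_fac _ _ _
  have e' : ψ₀' ≫ (f ⁻¹ᵁ W).ι = ψ' := IsOpenImmersion.lift_fac _ _ _
  obtain ⟨k, -, huniq⟩ := ext_affine j hbij (j ≫ ψ₀)
  have h0 : ψ₀' = ψ₀ := by
    rw [huniq ψ₀ rfl]
    apply huniq
    rw [← cancel_mono (f ⁻¹ᵁ W).ι, Category.assoc, Category.assoc, e, e', hres]
  rw [← e, ← e', h0]

/-- local existence -/
theorem ext_exists_of_affine (hbij : Function.Bijective j.appTop) {W : S.Opens} (hW : IsAffineOpen W) (hgW : g ⁻¹ᵁ W = ⊤)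
    (ψU : U' ⟶ Y) (hψU : ψU ≫ f = j ≫ g) :
    ∃ ψ : T ⟶ Y, ψ ≫ f = g ∧ j ≫ ψ = ψU := by
  haveI : IsAffine ↑(f ⁻¹ᵁ W) := hW.preimage f
  haveI : IsAffine ↑W := hW
  have hgx : ∀ x : T, g x ∈ W := by
    intro x
    have hx : x ∈ g ⁻¹ᵁ W := by rw [hgW]; trivial
    exact hx
  have hr : Set.range ψU ⊆ Set.range (f ⁻¹ᵁ W).ι := by
    rintro _ ⟨x, rfl⟩
    rw [Scheme.Opens.range_ι]
    show f (ψU x) ∈ W
    have : f (ψU x) = g (j x) := by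
      change (ψU ≫ f) x = (j ≫ g) x
      rw [hψU]
    rw [this]
    exact hgx _
  let ψU' := IsOpenImmersion.lift (f ⁻¹ᵁ W).ι ψU hr
  have hψU' : ψU' ≫ (f ⁻¹ᵁ W).ι = ψU := IsOpenImmersion.lift_fac _ _ _
  obtain ⟨ψ', hψ', -⟩ := ext_affine j hbij ψU'
  have hgr : Set.range g ⊆ Set.range W.ι := by
    rintro _ ⟨x, rfl⟩
    rw [Scheme.Opens.range_ι]
    exact hgx x
  let g' := IsOpenImmersion.lift W.ι g hgr
  have hg' : g' ≫ W.ι = g := IsOpenImmersion.lift_fac _ _ _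
  have key : ψ' ≫ (f ∣_ W) = g' := by
    obtain ⟨k, -, huniq⟩ := ext_affine j hbij (j ≫ g')
    rw [huniq g' rfl]
    apply huniq
    rw [← cancel_mono W.ι, Category.assoc, Category.assoc, Category.assoc, morphismRestrict_ι, hg',
      ← Category.assoc, hψ', ← Category.assoc, hψU', hψU]
  refine ⟨ψ' ≫ (f ⁻¹ᵁ W).ι, ?_, by rw [← Category.assoc, hψ', hψU']⟩
  rw [Category.assoc, ← morphismRestrict_ι, ← Category.assoc, key, hg']

omit [IsAffineHom f] in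
theorem exists_affineOpen_mem (s : S) : ∃ W : S.Opens, IsAffineOpen W ∧ s ∈ W := by
  obtain ⟨W, hW, hs, -⟩ := Opens.isBasis_iff_nbhd.mp (S.isBasis_affineOpens)
    (show s ∈ (⊤ : S.Opens) from trivial)
  exact ⟨W, hW, hs⟩

/-- uniqueness -/
theorem ext_unique (hj : HartOver j g) (ψ ψ' : T ⟶ Y) (h1 : ψ ≫ f = g) (h2 : ψ' ≫ f = g)
    (hres : j ≫ ψ = j ≫ ψ') : ψ = ψ' := by
  apply Scheme.hom_ext_of_forall
  intro x
  obtain ⟨W, hW, hxW⟩ := exists_affineOpen_mem (S := S) (g x)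
  refine ⟨g ⁻¹ᵁ W, hxW, ?_⟩
  refine ext_unique_of_affine (pullback.snd j (g ⁻¹ᵁ W).ι)
    ((g ⁻¹ᵁ W).ι ≫ g) f (hartOver_appTop (hartOver_snd j g hj (g ⁻¹ᵁ W).ι W
      (Scheme.Opens.opensRange_ι _))) hW ?_ _ _
    (by rw [Category.assoc, h1]) (by rw [Category.assoc, h2]) ?_
  · rw [Scheme.Hom.comp_preimage, Scheme.Opens.ι_preimage_self]
  · rw [← Category.assoc, ← Category.assoc, ← pullback.condition, Category.assoc, Category.assoc,
      hres]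

/-- existence -/
theorem ext_exists (hj : HartOver j g) (ψU : U' ⟶ Y) (hψU : ψU ≫ f = j ≫ g) :
    ∃ ψ : T ⟶ Y, ψ ≫ f = g ∧ j ≫ ψ = ψU := by
  have hloc : ∀ W : S.affineOpens, ∃ ψ : ((g ⁻¹ᵁ W.1 : T.Opens) : Scheme.{u}) ⟶ Y,
      ψ ≫ f = (g ⁻¹ᵁ W.1).ι ≫ g ∧
      pullback.snd j (g ⁻¹ᵁ W.1).ι ≫ ψ = pullback.fst j (g ⁻¹ᵁ W.1).ι ≫ ψU := by
    intro W
    refine ext_exists_of_affine (pullback.snd j (g ⁻¹ᵁ W.1).ι)
      ((g ⁻¹ᵁ W.1).ι ≫ g) f (hartOver_appTop (hartOver_snd j g hj (g ⁻¹ᵁ W.1).ι W.1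
        (Scheme.Opens.opensRange_ι _))) W.2 ?_ _ ?_
    · rw [Scheme.Hom.comp_preimage, Scheme.Opens.ι_preimage_self]
    · rw [Category.assoc, hψU, ← Category.assoc, pullback.condition, Category.assoc]
  choose ψi h1 h2 using hloc
  have hcov : IsOpenCover (fun W : S.affineOpens => g ⁻¹ᵁ W.1) := by
    rw [IsOpenCover, eq_top_iff]
    intro x _
    obtain ⟨W, hW, hxW⟩ := exists_affineOpen_mem (S := S) (g x)
    exact Opens.mem_iSup.2 ⟨⟨W, hW⟩, hxW⟩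
  have hcompat : ∀ W W' : S.affineOpens,
      pullback.fst (g ⁻¹ᵁ W.1).ι (g ⁻¹ᵁ W'.1).ι ≫ ψi W =
        pullback.snd (g ⁻¹ᵁ W.1).ι (g ⁻¹ᵁ W'.1).ι ≫ ψi W' := by
    intro W W'
    have hc : pullback.fst (g ⁻¹ᵁ W.1).ι (g ⁻¹ᵁ W'.1).ι ≫ (g ⁻¹ᵁ W.1).ι =
        pullback.snd (g ⁻¹ᵁ W.1).ι (g ⁻¹ᵁ W'.1).ι ≫ (g ⁻¹ᵁ W'.1).ι := pullback.condition
    let i' : pullback (g ⁻¹ᵁ W.1).ι (g ⁻¹ᵁ W'.1).ι ⟶ T :=
      pullback.fst (g ⁻¹ᵁ W.1).ι (g ⁻¹ᵁ W'.1).ι ≫ (g ⁻¹ᵁ W.1).ι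
    have hi' : i' = pullback.snd (g ⁻¹ᵁ W.1).ι (g ⁻¹ᵁ W'.1).ι ≫ (g ⁻¹ᵁ W'.1).ι := hc
    haveI : IsOpenImmersion i' := by dsimp only [i']; infer_instance
    have hi'r : i'.opensRange = g ⁻¹ᵁ (W.1 ⊓ W'.1) := by
      apply Opens.ext
      show Set.range i' = _
      dsimp only [i']
      rw [Scheme.Pullback.range_fst_comp, Scheme.Opens.range_ι, Scheme.Opens.range_ι]
      rfl
    let m : pullback j i' ⟶ pullback j (g ⁻¹ᵁ W.1).ι :=
      pullback.lift (pullback.fst j i')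
        (pullback.snd j i' ≫ pullback.fst (g ⁻¹ᵁ W.1).ι (g ⁻¹ᵁ W'.1).ι)
        (by rw [Category.assoc]; exact pullback.condition)
    let m' : pullback j i' ⟶ pullback j (g ⁻¹ᵁ W'.1).ι :=
      pullback.lift (pullback.fst j i')
        (pullback.snd j i' ≫ pullback.snd (g ⁻¹ᵁ W.1).ι (g ⁻¹ᵁ W'.1).ι)
        (by rw [Category.assoc, ← hi']; exact pullback.condition)
    refine ext_unique (pullback.snd j i') (i' ≫ g) f (hartOver_snd j g hj i' (W.1 ⊓ W'.1) hi'r) _ _ ?_ ?_ ?_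
    · rw [Category.assoc, h1, Category.assoc]
    · rw [Category.assoc, h1, hi', Category.assoc]
    · have e1 : pullback.snd j i' ≫ pullback.fst (g ⁻¹ᵁ W.1).ι (g ⁻¹ᵁ W'.1).ι =
          m ≫ pullback.snd j (g ⁻¹ᵁ W.1).ι := (pullback.lift_snd _ _ _).symm
      have e2 : pullback.snd j i' ≫ pullback.snd (g ⁻¹ᵁ W.1).ι (g ⁻¹ᵁ W'.1).ι =
          m' ≫ pullback.snd j (g ⁻¹ᵁ W'.1).ι := (pullback.lift_snd _ _ _).symm
      have e3 : m ≫ pullback.fst j (g ⁻¹ᵁ W.1).ι = pullback.fst j i' := pullback.lift_fst _ _ _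
      have e4 : m' ≫ pullback.fst j (g ⁻¹ᵁ W'.1).ι = pullback.fst j i' := pullback.lift_fst _ _ _
      rw [← Category.assoc, e1, Category.assoc, h2, ← Category.assoc, e3,
        ← Category.assoc, e2, Category.assoc, h2, ← Category.assoc, e4]
  let 𝒰 : T.OpenCover := T.openCoverOfIsOpenCover _ hcov
  let ψ : T ⟶ Y := 𝒰.glueMorphisms ψi hcompat
  have e2 : ∀ W : S.affineOpens, (g ⁻¹ᵁ W.1).ι ≫ ψ = ψi W := fun W =>
    Scheme.Cover.ι_glueMorphisms 𝒰 ψi hcompat W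
  refine ⟨ψ, ?_, ?_⟩
  · refine 𝒰.hom_ext _ _ fun W => ?_
    show (g ⁻¹ᵁ W.1).ι ≫ ψ ≫ f = (g ⁻¹ᵁ W.1).ι ≫ g
    rw [← Category.assoc, e2, h1]
  · refine Scheme.Cover.hom_ext (𝒰.pullback₁ j) _ _ fun W => ?_
    show pullback.fst j (g ⁻¹ᵁ W.1).ι ≫ j ≫ ψ = pullback.fst j (g ⁻¹ᵁ W.1).ι ≫ ψU
    rw [← Category.assoc, pullback.condition, Category.assoc, e2, h2]

end Ext

end Groth.Agent.Lib.Helper9.HartO
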