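import Mathlib

set_option backward.isDefEq.respectTransparency false
set_option maxHeartbeats 800000
set_option autoImplicit false
set_option linter.unusedSectionVars false
set_option linter.unusedVariables false
universe u
open CategoryTheory CategoryTheory.Limits AlgebraicGeometry Opposite TopologicalSpace

namespace Groth.Agent.Lib.Helper9.HartP

open TensorProduct

section Alg

variable {R A B M : CommRingCat.{u}} {α : R ⟶ A} {β : R ⟶ B} {γ : A ⟶ M} {δ : B ⟶ M}

/-- the ring isomorphism `A ⊗[R] B ≃+* M` of a pushout square, with its values on pure tensors -/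
theorem exists_equiv (H : IsPushout α β γ δ) :
    letI := α.hom.toAlgebra
    letI := β.hom.toAlgebra
    ∃ E : A ⊗[R] B ≃+* M, ∀ a b, E (a ⊗ₜ b) = γ a * δ b := by
  algebraize [α.hom, β.hom]
  let E := ((CommRingCat.isPushout_tensorProduct R A B).isoIsPushout A B H).commRingCatIsoToRingEquiv
  refine ⟨E, fun a b => ?_⟩
  have h1 : ∀ a : A, E (a ⊗ₜ 1) = γ a := fun a =>
    congr($(((CommRingCat.isPushout_tensorProduct R A B).inl_isoIsPushout_hom A B H)).hom a)
  have h2 : ∀ b : B, E (1 ⊗ₜ b) = δ b := fun b =>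
    congr($(((CommRingCat.isPushout_tensorProduct R A B).inr_isoIsPushout_hom A B H)).hom b)
  have : (a ⊗ₜ[R] b : A ⊗[R] B) = (a ⊗ₜ 1) * (1 ⊗ₜ b) := by
    rw [Algebra.TensorProduct.tmul_mul_tmul, mul_one, one_mul]
  rw [this, map_mul, h1, h2]

theorem induction_isPushout (H : IsPushout α β γ δ) (p : M → Prop) (h0 : p 0)
    (hadd : ∀ m m', p m → p m' → p (m + m')) (hmul : ∀ a b, p (γ a * δ b)) : ∀ m, p m := by
  algebraize [α.hom, β.hom]
  obtain ⟨E, hE⟩ := exists_equiv H
  intro m
  obtain ⟨x, rfl⟩ := E.surjective m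
  induction x using TensorProduct.induction_on with
  | zero => simpa using h0
  | tmul a b => rw [hE]; exact hmul a b
  | add x y hx hy => rw [map_add]; exact hadd _ _ hx hy

theorem exists_coord (H : IsPushout α β γ δ) {n : ℕ} (e : Fin n → B) (l : Fin n → B → R)
    (hl_add : ∀ i b b', l i (b + b') = l i b + l i b')
    (hl_smul : ∀ i r b, l i (β r * b) = r * l i b)
    (hel : ∀ b, ∑ i, β (l i b) * e i = b) :
    ∃ κ : M → Fin n → A, (∀ m, ∑ i, γ (κ m i) * δ (e i) = m) ∧
      (∀ a b i, κ (γ a * δ b) i = a * α (l i b)) ∧ (∀ m m', κ (m + m') = κ m + κ m') := by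
  algebraize [α.hom, β.hom]
  obtain ⟨E, hE⟩ := exists_equiv H
  let L : Fin n → (B →ₗ[R] R) := fun i =>
    { toFun := l i
      map_add' := hl_add i
      map_smul' := fun r b => by
        simp only [Algebra.smul_def, RingHom.id_apply]
        exact hl_smul i r b }
  let K : Fin n → (A ⊗[R] B →ₗ[A] A) := fun i =>
    (TensorProduct.AlgebraTensorModule.rid R A A).toLinearMap ∘ₗ (LinearMap.baseChange A (L i))
  have hK : ∀ i a b, K i (a ⊗ₜ b) = a * α (l i b) := by
    intro i a b
    simp only [K, L, LinearMap.coe_comp, LinearEquiv.coe_coe, Function.comp_apply,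
      LinearMap.baseChange_tmul, LinearMap.coe_mk, AddHom.coe_mk,
      TensorProduct.AlgebraTensorModule.rid_tmul, Algebra.smul_def]
    rw [mul_comm]
    rfl
  have hw : ∀ r : R, γ (α r) = δ (β r) := fun r => congr($(H.w).hom r)
  refine ⟨fun m i => K i (E.symm m), ?_, ?_, ?_⟩
  · intro m
    obtain ⟨x, rfl⟩ := E.surjective m
    simp only [E.symm_apply_apply]
    induction x using TensorProduct.induction_on with
    | zero => simp
    | tmul a b =>
      simp only [hK, hE, map_mul, hw]
      simp only [mul_assoc, ← Finset.mul_sum, ← map_mul, ← map_sum, hel]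
    | add x y hx hy =>
      simp only [map_add, add_mul, Finset.sum_add_distrib, hx, hy]
  · intro a b i
    show K i (E.symm (γ a * δ b)) = _
    rw [← hE, E.symm_apply_apply, hK]
  · intro m m'
    ext i
    simp only [map_add, Pi.add_apply]

theorem coord_natural {A' M' : CommRingCat.{u}} {α' : R ⟶ A'} {γ' : A' ⟶ M'} {δ' : B ⟶ M'}
    (H : IsPushout α β γ δ) (ρA : A ⟶ A') (ρM : M ⟶ M')
    (h1 : α ≫ ρA = α') (h2 : γ ≫ ρM = ρA ≫ γ') (h3 : δ ≫ ρM = δ')
    {n : ℕ} (l : Fin n → B → R) (κ : M → Fin n → A) (κ' : M' → Fin n → A')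
    (hκ : ∀ a b i, κ (γ a * δ b) i = a * α (l i b)) (hκa : ∀ m m', κ (m + m') = κ m + κ m')
    (hκ' : ∀ a b i, κ' (γ' a * δ' b) i = a * α' (l i b))
    (hκa' : ∀ m m', κ' (m + m') = κ' m + κ' m') (m : M) (i : Fin n) :
    κ' (ρM m) i = ρA (κ m i) := by
  have z : κ 0 = 0 := by
    have := hκa 0 0
    rw [add_zero] at this
    exact left_eq_add.mp this
  have z' : κ' 0 = 0 := by
    have := hκa' 0 0
    rw [add_zero] at this
    exact left_eq_add.mp this
  revert i
  refine induction_isPushout H (fun m => ∀ i, κ' (ρM m) i = ρA (κ m i)) ?_ ?_ ?_ m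
  · intro i
    simp [z, z']
  · intro m m' hm hm' i
    simp only [map_add, hκa, hκa', Pi.add_apply, hm i, hm' i]
  · intro a b i
    have e2 : ∀ a, ρM (γ a) = γ' (ρA a) := fun a => congr($(h2).hom a)
    have e3 : ∀ b, ρM (δ b) = δ' b := fun b => congr($(h3).hom b)
    have e1 : ∀ r, ρA (α r) = α' r := fun r => congr($(h1).hom r)
    rw [map_mul, e2, e3, hκ', hκ, map_mul, e1]

end Alg

end Groth.Agent.Lib.Helper9.HartP
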