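import Mathlib
import Groth.Agent.Lib.Helper9.HartP1

set_option backward.isDefEq.respectTransparency false
set_option maxHeartbeats 800000
set_option autoImplicit false
set_option linter.unusedSectionVars false
set_option linter.unusedVariables false
universe u
open CategoryTheory CategoryTheory.Limits AlgebraicGeometry Opposite TopologicalSpace

namespace Groth.Agent.Lib.Helper9.HartP

theorem map_map' (X : Scheme.{u}) {U V W : X.Opens} (f : V ⟶ U) (g : W ⟶ V) (s : Γ(X, U)) :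
    X.presheaf.map g.op (X.presheaf.map f.op s) =
      X.presheaf.map (homOfLE (g.le.trans f.le)).op s := by
  rw [← ConcreteCategory.comp_apply, ← X.presheaf.map_comp]
  rfl

theorem existsUnique_of_basis (X : Scheme.{u}) {B : Set X.Opens} (hB : Opens.IsBasis B)
    (W : X.Opens)
    (t : ∀ U : B, (U : X.Opens) ≤ W → Γ(X, (U : X.Opens)))
    (ht : ∀ (U U' : B) (hU : (U : X.Opens) ≤ W) (hU' : (U' : X.Opens) ≤ W)
      (h : (U' : X.Opens) ≤ U), X.presheaf.map (homOfLE h).op (t U hU) = t U' hU') :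
    ∃! s : Γ(X, W), ∀ (U : B) (hU : (U : X.Opens) ≤ W),
      X.presheaf.map (homOfLE hU).op s = t U hU := by
  let ι := {U : B // (U : X.Opens) ≤ W}
  let Uf : ι → X.Opens := fun i => i.1.1
  have hcover : W ≤ iSup Uf := by
    intro x hx
    obtain ⟨U, hUB, hxU, hU⟩ := (Opens.isBasis_iff_nbhd.mp hB) hx
    exact Opens.mem_iSup.mpr ⟨⟨⟨U, hUB⟩, hU⟩, hxU⟩
  have hcompat : TopCat.Presheaf.IsCompatible X.sheaf.1 Uf (fun i => t i.1 i.2) := by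
    intro i j
    let κ := {U : B // (U : X.Opens) ≤ Uf i ⊓ Uf j}
    refine X.sheaf.eq_of_locally_eq' (fun k : κ => (k.1.1 : X.Opens)) (Uf i ⊓ Uf j)
      (fun k => homOfLE k.2) ?_ _ _ ?_
    · intro x hx
      obtain ⟨U, hUB, hxU, hU⟩ := (Opens.isBasis_iff_nbhd.mp hB) hx
      exact Opens.mem_iSup.mpr ⟨⟨⟨U, hUB⟩, hU⟩, hxU⟩
    · intro k
      erw [map_map' X, map_map' X]
      rw [ht i.1 k.1 i.2 ((k.2.trans inf_le_left).trans i.2) (k.2.trans inf_le_left),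
        ht j.1 k.1 j.2 ((k.2.trans inf_le_left).trans i.2) (k.2.trans inf_le_right)]
  obtain ⟨s, hs, huniq⟩ := X.sheaf.existsUnique_gluing' Uf W (fun i => homOfLE i.2) hcover
    (fun i => t i.1 i.2) hcompat
  refine ⟨s, fun U hU => hs ⟨U, hU⟩, fun s' hs' => huniq s' fun i => hs' i.1 i.2⟩

theorem exists_dualBasis {R B : CommRingCat.{u}} (β : R ⟶ B) (hfin : β.hom.Finite)
    (hflat : β.hom.Flat) (hfp : β.hom.FinitePresentation) :
    ∃ (n : ℕ) (e : Fin n → B) (l : Fin n → B → R),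
      (∀ i b b', l i (b + b') = l i b + l i b') ∧ (∀ i r b, l i (β r * b) = r * l i b) ∧
      (∀ b, ∑ i, β (l i b) * e i = b) := by
  algebraize [β.hom]
  haveI : Module.FinitePresentation R B :=
    Module.FinitePresentation.of_finite_of_finitePresentation R B
  haveI : Module.Projective R B := Module.Flat.projective_of_finitePresentation
  obtain ⟨n, F, G, -, -, hFG⟩ := Module.Finite.exists_comp_eq_id_of_projective R B
  refine ⟨n, fun i => F (Pi.single i 1), fun i b => G b i, ?_, ?_, ?_⟩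
  · intro i b b'
    simp
  · intro i r b
    have : β r * b = r • b := (Algebra.smul_def r b).symm
    rw [this]
    show G (r • b) i = r * G b i
    rw [map_smul]
    rfl
  · intro b
    have h1 : G b = ∑ i, (G b i) • (Pi.single i 1 : Fin n → R) := by
      ext j
      simp [Finset.sum_apply, Pi.single_apply]
    have h2 : F (G b) = b := congr($hFG b)
    conv_rhs => rw [← h2, h1, map_sum]
    refine Finset.sum_congr rfl fun i _ => ?_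
    rw [map_smul, Algebra.smul_def]
    rfl

variable {X Y S T : Scheme.{u}} {f : T ⟶ S} {g : Y ⟶ X} {iX : X ⟶ S} {iY : Y ⟶ T}

theorem bijective_app_of_projective (H : IsPullback g iY iX f) {US : S.Opens}
    (hUS : IsAffineOpen US) (hUT : IsAffineOpen (f ⁻¹ᵁ US))
    (hfin : (f.app US).hom.Finite) (hflat : (f.app US).hom.Flat)
    (hfp : (f.app US).hom.FinitePresentation)
    (hiX : Function.Bijective (iX.app US)) : Function.Bijective (iY.app (f ⁻¹ᵁ US)) := by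
  obtain ⟨n, e, l, hla, hls, hel⟩ := exists_dualBasis (f.app US) hfin hflat hfp
  have hpre : g ⁻¹ᵁ (iX ⁻¹ᵁ US) = iY ⁻¹ᵁ (f ⁻¹ᵁ US) := by
    rw [← Scheme.Hom.comp_preimage, ← Scheme.Hom.comp_preimage, H.w]
  have hleY : ∀ Ω : X.Opens, Ω ≤ iX ⁻¹ᵁ US → g ⁻¹ᵁ Ω ≤ iY ⁻¹ᵁ (f ⁻¹ᵁ US) := by
    intro Ω hΩ
    rw [← hpre]
    exact g.preimage_mono hΩ
  have hΩY : ∀ Ω : X.Opens, Ω ≤ iX ⁻¹ᵁ US → g ⁻¹ᵁ Ω = g ⁻¹ᵁ Ω ⊓ iY ⁻¹ᵁ (f ⁻¹ᵁ US) := by
    intro Ω hΩ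
    exact le_antisymm (le_inf le_rfl (hleY Ω hΩ)) inf_le_left
  have HΩ : ∀ (Ω : X.Opens) (hΩ : Ω ≤ iX ⁻¹ᵁ US), IsAffineOpen Ω →
      IsPushout (iX.appLE US Ω hΩ) (f.app US) (g.appLE Ω (g ⁻¹ᵁ Ω) le_rfl)
        (iY.appLE (f ⁻¹ᵁ US) (g ⁻¹ᵁ Ω) (hleY Ω hΩ)) := by
    intro Ω hΩ hΩa
    have := (isIso_pushoutSection_iff H (le_refl (f ⁻¹ᵁ US)) hΩ (hΩY Ω hΩ)).mp
      (isIso_pushoutSection_of_isAffineOpen H (le_refl _) hΩ (hΩY Ω hΩ) hUS hUT hΩa)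
    rwa [Scheme.Hom.appLE_eq_app] at this
  choose κ hκ1 hκ2 hκ3 using fun (Ω : X.Opens) (hΩ : Ω ≤ iX ⁻¹ᵁ US) (hΩa : IsAffineOpen Ω) =>
    exists_coord (HΩ Ω hΩ hΩa) e l hla hls hel
  have hκ0 : ∀ Ω hΩ hΩa, κ Ω hΩ hΩa 0 = 0 := by
    intro Ω hΩ hΩa
    have := hκ3 Ω hΩ hΩa 0 0
    rw [add_zero] at this
    exact left_eq_add.mp this
  have hnat : ∀ (Ω Ω' : X.Opens) (hΩ : Ω ≤ iX ⁻¹ᵁ US) (hΩ' : Ω' ≤ iX ⁻¹ᵁ US)
      (hΩa : IsAffineOpen Ω) (hΩa' : IsAffineOpen Ω') (h : Ω' ≤ Ω) (m : Γ(Y, g ⁻¹ᵁ Ω)) (i : Fin n),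
      κ Ω' hΩ' hΩa' (Y.presheaf.map (homOfLE (g.preimage_mono h)).op m) i =
        X.presheaf.map (homOfLE h).op (κ Ω hΩ hΩa m i) := by
    intro Ω Ω' hΩ hΩ' hΩa hΩa' h m i
    exact coord_natural (HΩ Ω hΩ hΩa) (X.presheaf.map (homOfLE h).op)
      (Y.presheaf.map (homOfLE (g.preimage_mono h)).op)
      (Scheme.Hom.appLE_map _ _ _) (by rw [Scheme.Hom.appLE_map, Scheme.Hom.map_appLE])
      (Scheme.Hom.appLE_map _ _ _) l _ _ (hκ2 Ω hΩ hΩa) (hκ3 Ω hΩ hΩa) (hκ2 Ω' hΩ' hΩa')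
      (hκ3 Ω' hΩ' hΩa') m i
  constructor
  · rw [injective_iff_map_eq_zero]
    intro b hb
    have h0 : ∀ i, l i b = 0 := by
      intro i
      apply hiX.1
      rw [map_zero]
      apply X.IsSheaf.section_ext
      intro x hx
      obtain ⟨Ω, hΩa, hxΩ, hΩ⟩ := Opens.isBasis_iff_nbhd.mp X.isBasis_affineOpens hx
      refine ⟨Ω, hΩ, hxΩ, ?_⟩
      rw [map_zero]
      have h2 := hκ2 Ω hΩ hΩa 1 b i
      have hδ : iY.appLE (f ⁻¹ᵁ US) (g ⁻¹ᵁ Ω) (hleY Ω hΩ) b = 0 := by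
        rw [Scheme.Hom.appLE, CommRingCat.comp_apply, hb, map_zero]
      rw [hδ, mul_zero, hκ0, one_mul] at h2
      exact h2.symm
    rw [← hel b]
    simp [h0]
  · intro m
    let mΩ : ∀ (Ω : X.Opens) (hΩ : Ω ≤ iX ⁻¹ᵁ US), Γ(Y, g ⁻¹ᵁ Ω) := fun Ω hΩ =>
      Y.presheaf.map (homOfLE (hleY Ω hΩ)).op m
    have hglue : ∀ i : Fin n, ∃! c : Γ(X, iX ⁻¹ᵁ US), ∀ (Ω : X.affineOpens)
        (hΩ : (Ω : X.Opens) ≤ iX ⁻¹ᵁ US),
        X.presheaf.map (homOfLE hΩ).op c = κ Ω.1 hΩ Ω.2 (mΩ Ω.1 hΩ) i := by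
      intro i
      apply existsUnique_of_basis X X.isBasis_affineOpens
      intro U U' hU hU' h
      have hm : mΩ U'.1 hU' = Y.presheaf.map (homOfLE (g.preimage_mono h)).op (mΩ U.1 hU) :=
        (map_map' Y _ _ m).symm
      rw [hm]
      exact (hnat U.1 U'.1 hU hU' U.2 U'.2 h _ i).symm
    choose c hc _ using hglue
    choose r hr using fun i => hiX.2 (c i)
    refine ⟨∑ i, f.app US (r i) * e i, ?_⟩
    apply Y.IsSheaf.section_ext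
    intro y hy
    have hgy : g y ∈ iX ⁻¹ᵁ US := by
      rw [← hpre] at hy
      exact hy
    obtain ⟨Ω, hΩa, hxΩ, hΩ⟩ := Opens.isBasis_iff_nbhd.mp X.isBasis_affineOpens hgy
    refine ⟨g ⁻¹ᵁ Ω, hleY Ω hΩ, hxΩ, ?_⟩
    have h1 := hκ1 Ω hΩ hΩa (mΩ Ω hΩ)
    have h3 : ∀ i, κ Ω hΩ hΩa (mΩ Ω hΩ) i = iX.appLE US Ω hΩ (r i) := by
      intro i
      rw [← hc i ⟨Ω, hΩa⟩ hΩ, ← hr i]
      rfl
    have hw : ∀ r, g.appLE Ω (g ⁻¹ᵁ Ω) le_rfl (iX.appLE US Ω hΩ r) =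
        iY.appLE (f ⁻¹ᵁ US) (g ⁻¹ᵁ Ω) (hleY Ω hΩ) (f.app US r) :=
      fun r => congr($((HΩ Ω hΩ hΩa).w).hom r)
    show iY.appLE (f ⁻¹ᵁ US) (g ⁻¹ᵁ Ω) (hleY Ω hΩ) _ = mΩ Ω hΩ
    rw [← h1, map_sum]
    refine Finset.sum_congr rfl fun i _ => ?_
    rw [map_mul, h3, hw]

end Groth.Agent.Lib.Helper9.HartP
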