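import Mathlib
import Groth.Agent.Lib.Helper9.HartP2
import Groth.Agent.Lib.Helper9.HartO1
import Groth.Prelude.Def_FEt

set_option backward.isDefEq.respectTransparency false
set_option maxHeartbeats 800000
set_option autoImplicit false
set_option linter.unusedSectionVars false
set_option linter.unusedVariables false
universe u
open CategoryTheory CategoryTheory.Limits AlgebraicGeometry Opposite TopologicalSpace

namespace Groth.Agent.Lib.Helper9.HartP

open Groth.Agent.Lib.Helper9.HartO

theorem hartOver_of_basis {U' T S : Scheme.{u}} (j : U' ⟶ T) (g : T ⟶ S) {ι : Type*}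
    (B : ι → S.Opens) (hB : Opens.IsBasis (Set.range B))
    (h : ∀ i, Function.Bijective (j.app (g ⁻¹ᵁ B i))) : HartOver j g := by
  intro O
  let F₀ : TopCat.Sheaf CommRingCat T := T.sheaf
  let G₀ : TopCat.Sheaf CommRingCat T :=
    (TopCat.Sheaf.pushforward CommRingCat j.base).obj U'.sheaf
  let φ₀ : F₀ ⟶ G₀ := ⟨j.c⟩
  let F : TopCat.Sheaf CommRingCat S := (TopCat.Sheaf.pushforward CommRingCat g.base).obj F₀
  let G : TopCat.Sheaf CommRingCat S := (TopCat.Sheaf.pushforward CommRingCat g.base).obj G₀
  let φ : F ⟶ G := (TopCat.Sheaf.pushforward CommRingCat g.base).map φ₀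
  haveI : IsIso φ := by
    refine TopCat.Sheaf.isIso_iff_isIso_basis hB (fun i => ?_)
    show IsIso (j.app (g ⁻¹ᵁ B i))
    rw [ConcreteCategory.isIso_iff_bijective]
    exact h i
  have h2 : IsIso ((TopCat.Sheaf.forget CommRingCat S).map φ) := inferInstance
  have h3 : IsIso (j.app (g ⁻¹ᵁ O)) :=
    NatIso.isIso_app_of_isIso ((TopCat.Sheaf.forget CommRingCat S).map φ) (op O)
  exact (ConcreteCategory.isIso_iff_bijective _).1 h3

theorem hartOver_fst {X S T : Scheme.{u}} (f : X ⟶ S)
    (hf : ∀ U : S.Opens, Function.Bijective (f.app U)) (t : T ⟶ S) [IsFinite t] [Flat t]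
    [LocallyOfFinitePresentation t] : HartOver (pullback.fst t f) t := by
  refine hartOver_of_basis _ _ (fun W : S.affineOpens => W.1) ?_ ?_
  · have : Set.range (fun W : S.affineOpens => W.1) = S.affineOpens := by
      ext W
      simp
    rw [this]
    exact S.isBasis_affineOpens
  · intro W
    have hfl := HasRingHomProperty.appLE (P := @Flat) t inferInstance W
      ⟨t ⁻¹ᵁ W.1, W.2.preimage t⟩ le_rfl
    have hfp := HasRingHomProperty.appLE (P := @LocallyOfFinitePresentation) t inferInstance W
      ⟨t ⁻¹ᵁ W.1, W.2.preimage t⟩ le_rfl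
    rw [Scheme.Hom.appLE_eq_app] at hfl hfp
    exact bijective_app_of_projective (IsPullback.of_hasPullback t f).flip W.2 (W.2.preimage t)
      (t.finite_app W.1 W.2) hfl hfp (hf W.1)

section FF

variable {X S : Scheme.{u}} (f : X ⟶ S) (hf : ∀ U : S.Opens, Function.Bijective (f.app U))

include hf

theorem full_restrict : (FEt.restrict f).Full := by
  refine ⟨fun {A B} φ => ?_⟩
  have hA : IsFinite A.hom ∧ Etale A.hom := A.prop
  have hB : IsFinite B.hom ∧ Etale B.hom := B.prop
  let fA : A.left ⟶ S := A.hom
  let fB : B.left ⟶ S := B.hom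
  haveI : IsFinite fA := hA.1
  haveI : Etale fA := hA.2
  haveI : IsFinite fB := hB.1
  haveI : Etale fB := hB.2
  let φl : pullback fA f ⟶ pullback fB f := φ.left
  have hφ : φl ≫ pullback.snd fB f = pullback.snd fA f := Over.w φ.hom
  obtain ⟨ψ₀, h1, h2⟩ := ext_exists (pullback.fst fA f) fA fB (hartOver_fst f hf fA)
    (φl ≫ pullback.fst fB f) (by
      rw [Category.assoc, pullback.condition, ← Category.assoc, hφ, pullback.condition])
  refine ⟨MorphismProperty.Over.homMk ψ₀ h1 trivial, ?_⟩
  apply MorphismProperty.Over.Hom.ext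
  simp only [FEt.restrict, MorphismProperty.Over.pullback_map_left]
  apply pullback.hom_ext
  · rw [pullback.lift_fst]
    exact h2
  · rw [pullback.lift_snd]
    exact hφ.symm

theorem faithful_restrict : (FEt.restrict f).Faithful := by
  refine ⟨fun {A B} a b hab => ?_⟩
  have hA : IsFinite A.hom ∧ Etale A.hom := A.prop
  have hB : IsFinite B.hom ∧ Etale B.hom := B.prop
  let fA : A.left ⟶ S := A.hom
  let fB : B.left ⟶ S := B.hom
  haveI : IsFinite fA := hA.1
  haveI : Etale fA := hA.2
  haveI : IsFinite fB := hB.1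
  haveI : Etale fB := hB.2
  have hl : pullback.fst fA f ≫ a.left = pullback.fst fA f ≫ b.left := by
    have := congrArg (fun φ => φ.left ≫ pullback.fst B.hom f) hab
    simp only [FEt.restrict, MorphismProperty.Over.pullback_map_left] at this
    exact (pullback.lift_fst _ _ _).symm.trans (this.trans (pullback.lift_fst _ _ _))
  have h4 : a.left = b.left :=
    ext_unique (pullback.fst fA f) fA fB (hartOver_fst f hf fA) a.left b.left (Over.w a.hom)
      (Over.w b.hom) hl
  exact MorphismProperty.Over.Hom.ext h4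

end FF

end Groth.Agent.Lib.Helper9.HartP
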