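import Mathlib
import Groth.Agent.Lib.Helper9.HartN2
import Groth.Agent.Lib.Helper9.HartP3
import Groth.Agent.Lib.Helper9.Tors1
import Groth.Agent.Lib.Helper4.AffineDescent
import Groth.Agent.Lib.Helper4.QuotFlat
import Groth.Prelude.Def_NonAbH2

set_option backward.isDefEq.respectTransparency false
set_option maxHeartbeats 800000
set_option autoImplicit false
set_option linter.unusedSectionVars false
set_option linter.unusedVariables false
universe u
open CategoryTheory CategoryTheory.Limits AlgebraicGeometry Opposite TopologicalSpace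
open MonoidalCategory CartesianMonoidalCategory

namespace Groth.Agent.Lib.Helper9.HartN

open Groth.Agent.Lib.Helper9.Hart Groth.Agent.Lib.Helper9.HartO Groth.Agent.Lib.Helper9.HartP

/-- fppf torsors are fpqc torsors -/
theorem isTorsorFor_fpqc_of_fppf {S : Scheme.{u}} {G Q : Over S} [GrpObj G] (a : AlgGrp.Action G Q)
    (h : NonAbH1.IsTorsorFor Scheme.fppfPrecoverage a) :
    NonAbH1.IsTorsorFor Scheme.fpqcPrecoverage a := by
  obtain ⟨h1, R, hR, hs⟩ := h
  exact ⟨h1, R, Scheme.fppfPrecoverage_le_fpqcPrecoverage _ hR, hs⟩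

/-- torsors under a finite locally free group are finite locally free -/
theorem flf_of_isTorsorFor {S : Scheme.{u}} {G Q : Over S} [GrpObj G] [IsFinite G.hom] [Flat G.hom]
    [LocallyOfFinitePresentation G.hom] (a : AlgGrp.Action G Q)
    (h : NonAbH1.IsTorsorFor Scheme.fppfPrecoverage a) :
    IsFinite Q.hom ∧ Flat Q.hom ∧ LocallyOfFinitePresentation Q.hom := by
  have h' := isTorsorFor_fpqc_of_fppf a h
  exact ⟨Tors.prop_hom_of_isTorsorFor_fpqc (P := @IsFinite) a h' inferInstance,
    Tors.prop_hom_of_isTorsorFor_fpqc (P := @Flat) a h' inferInstance,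
    Tors.prop_hom_of_isTorsorFor_fpqc (P := @LocallyOfFinitePresentation) a h' inferInstance⟩

section FF

variable {X : Scheme.{u}} (U : X.Opens) (hH : Hart U.ι)

include hH

/-- faithfulness of restriction to `U` on morphisms from a finite locally free `X`-scheme to an
`X`-scheme affine over `X` -/
theorem hom_ext_of_pullback_map {T Q : Over X} [IsFinite T.hom] [Flat T.hom]
    [LocallyOfFinitePresentation T.hom] [IsAffineHom Q.hom] (b₁ b₂ : T ⟶ Q)
    (h : (Over.pullback U.ι).map b₁ = (Over.pullback U.ι).map b₂) : b₁ = b₂ := by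
  apply Over.OverMorphism.ext
  refine ext_unique (pullback.fst T.hom U.ι) T.hom Q.hom (hartOver_fst U.ι hH T.hom) _ _
    (Over.w b₁) (Over.w b₂) ?_
  have := congrArg (fun φ => φ.left ≫ pullback.fst Q.hom U.ι) h
  simp only [Over.pullback_map_left] at this
  exact (pullback.lift_fst _ _ _).symm.trans (this.trans (pullback.lift_fst _ _ _))

theorem exists_of_pullback_map {T Q : Over X} [IsFinite T.hom] [Flat T.hom]
    [LocallyOfFinitePresentation T.hom] [IsAffineHom Q.hom]
    (h' : (Over.pullback U.ι).obj T ⟶ (Over.pullback U.ι).obj Q) :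
    ∃ h : T ⟶ Q, (Over.pullback U.ι).map h = h' := by
  have hw : h'.left ≫ pullback.snd Q.hom U.ι = pullback.snd T.hom U.ι := Over.w h'
  obtain ⟨ψ, hψ1, hψ2⟩ := ext_exists (pullback.fst T.hom U.ι) T.hom Q.hom
    (hartOver_fst U.ι hH T.hom) (h'.left ≫ pullback.fst Q.hom U.ι) (by
      rw [Category.assoc, pullback.condition, ← Category.assoc, hw, pullback.condition])
  refine ⟨Over.homMk ψ hψ1, ?_⟩
  apply Over.OverMorphism.ext
  simp only [Over.pullback_map_left]
  apply pullback.hom_ext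
  · rw [pullback.lift_fst]
    exact hψ2
  · rw [pullback.lift_snd]
    exact hw.symm

theorem torsor_ff (G : Over X) [GrpObj G] [IsFinite G.hom] [Flat G.hom]
    [LocallyOfFinitePresentation G.hom] (Q₁ Q₂ : Over X) (a₁ : AlgGrp.Action G Q₁)
    (a₂ : AlgGrp.Action G Q₂) [IsFinite Q₁.hom] [Flat Q₁.hom]
    [LocallyOfFinitePresentation Q₁.hom] [IsAffineHom Q₂.hom]
    (h' : (Over.pullback U.ι).obj Q₁ ⟶ (Over.pullback U.ι).obj Q₂)
    (hh' : (Functor.LaxMonoidal.μ (Over.pullback U.ι) G Q₁ ≫ (Over.pullback U.ι).map a₁.act) ≫ h' =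
      ((Over.pullback U.ι).obj G ◁ h') ≫ (Functor.LaxMonoidal.μ (Over.pullback U.ι) G Q₂ ≫
        (Over.pullback U.ι).map a₂.act)) :
    ∃! h : Q₁ ⟶ Q₂, a₁.act ≫ h = (G ◁ h) ≫ a₂.act ∧ (Over.pullback U.ι).map h = h' := by
  obtain ⟨h, hh⟩ := exists_of_pullback_map U hH (T := Q₁) (Q := Q₂) h'
  haveI : IsFinite (G ⊗ Q₁).hom := by
    rw [Over.tensorObj_hom]
    infer_instance
  haveI : Flat (G ⊗ Q₁).hom := by
    rw [Over.tensorObj_hom]
    infer_instance
  haveI : LocallyOfFinitePresentation (G ⊗ Q₁).hom := by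
    rw [Over.tensorObj_hom]
    infer_instance
  refine ⟨h, ⟨?_, hh⟩, ?_⟩
  · apply hom_ext_of_pullback_map U hH
    rw [← cancel_epi (Functor.LaxMonoidal.μ (Over.pullback U.ι) G Q₁)]
    rw [Functor.map_comp, Functor.map_comp, hh, ← Category.assoc, hh',
      ← Functor.LaxMonoidal.μ_natural_right_assoc, hh]
  · rintro h₂ ⟨-, hh₂⟩
    exact hom_ext_of_pullback_map U hH _ _ (hh₂.trans hh.symm)

end FF

end Groth.Agent.Lib.Helper9.HartN
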