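import Groth.Agent.Lib.Helper9.ClosedDesc
import Groth.Agent.Lib.Helper9.Hilb1
import Groth.Agent.S9867

set_option backward.isDefEq.respectTransparency false
set_option maxHeartbeats 800000
set_option autoImplicit false
set_option linter.unusedSectionVars false
set_option linter.unusedVariables false
universe u
open CategoryTheory CategoryTheory.Limits AlgebraicGeometry Opposite

namespace Groth.Agent.Lib.Helper9.HilbSheaf

open Groth.Agent.Lib.Helper9.Hilb1

/-- fpqc descent of quasi-coherent ideal sheaves, for an arbitrary kernel pair -/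
theorem exists_comap_eq_of_isPullback {S S' W : Scheme.{u}} (g : S' ⟶ S) [Flat g] [Surjective g]
    [QuasiCompact g] (a b : W ⟶ S') (hp : IsPullback a b g g) (J' : S'.IdealSheafData)
    (h : J'.comap a = J'.comap b) : ∃ J : S.IdealSheafData, J.comap g = J' := by
  apply Groth.Agent.Lib.Helper9.ClosedDesc.exists_idealSheafData_comap_eq_of_fpqc g J'
  have h' : J'.comap (hp.isoPullback.hom ≫ pullback.fst g g) =
      J'.comap (hp.isoPullback.hom ≫ pullback.snd g g) := by
    rw [hp.isoPullback_hom_fst, hp.isoPullback_hom_snd]; exact h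
  rw [Scheme.IdealSheafData.comap_comp, Scheme.IdealSheafData.comap_comp] at h'
  have h := h'
  have h2 := congrArg (fun K => Scheme.IdealSheafData.comap K hp.isoPullback.inv) h
  simp only [← Scheme.IdealSheafData.comap_comp, Iso.inv_hom_id_assoc] at h2
  exact h2

variable {X S : Scheme.{u}} (f : X ⟶ S)

/-- `X_{T'} ⟶ X_T` is the base change of `T' ⟶ T` -/
theorem isPullback_XTmap {T T' : Over S} (g : T' ⟶ T) :
    IsPullback (PicF.XTmap f g) (PicF.XTproj f T') (PicF.XTproj f T) g.left := by
  have hr : IsPullback (pullback.fst f T.hom) (PicF.XTproj f T) f T.hom :=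
    IsPullback.of_hasPullback f T.hom
  have ho : IsPullback (PicF.XTmap f g ≫ pullback.fst f T.hom) (PicF.XTproj f T') f
      (g.left ≫ T.hom) := by
    rw [XTmap_fst, Over.w g]
    exact IsPullback.of_hasPullback f T'.hom
  exact IsPullback.of_right ho (XTmap_snd f g) hr

theorem XTmap_comp {T T' T'' : Over S} (g : T' ⟶ T) (g' : T'' ⟶ T') :
    PicF.XTmap f (g' ≫ g) = PicF.XTmap f g' ≫ PicF.XTmap f g := by
  apply pullback.hom_ext
  · rw [Category.assoc, XTmap_fst, XTmap_fst, XTmap_fst]
  · rw [Category.assoc, XTmap_snd, XTmap_snd, XTmap_snd_assoc, Over.comp_left]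

/-- the kernel pair of `X_{T'} ⟶ X_T` -/
theorem isPullback_XTmap_overlap (T : Over S) {T' : Scheme.{u}} (g : T' ⟶ T.left) :
    IsPullback (PicF.XTmap f (HilbD.overlapFst T g)) (PicF.XTmap f (HilbD.overlapSnd T g))
      (PicF.XTmap f (HilbD.coverHom T g)) (PicF.XTmap f (HilbD.coverHom T g)) := by
  have hcomm : HilbD.overlapFst T g ≫ HilbD.coverHom T g =
      HilbD.overlapSnd T g ≫ HilbD.coverHom T g := by
    ext1
    exact pullback.condition
  have hc : PicF.XTmap f (HilbD.overlapFst T g) ≫ PicF.XTmap f (HilbD.coverHom T g) =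
      PicF.XTmap f (HilbD.overlapSnd T g) ≫ PicF.XTmap f (HilbD.coverHom T g) := by
    rw [← XTmap_comp, ← XTmap_comp, hcomm]
  have P1 := isPullback_XTmap f (HilbD.coverHom T g)
  have P2 := isPullback_XTmap f (HilbD.overlapSnd T g)
  have P3 : IsPullback (pullback.fst g g) (pullback.snd g g) g g := IsPullback.of_hasPullback g g
  have ho := P2.flip.paste_horiz P3
  have e1 : PicF.XTmap f (HilbD.overlapFst T g) ≫ PicF.XTproj f (HilbD.coverOver T g) =
      PicF.XTproj f (HilbD.overlapOver T g) ≫ pullback.fst g g := XTmap_snd f _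
  have e2 : PicF.XTmap f (HilbD.coverHom T g) ≫ PicF.XTproj f T =
      PicF.XTproj f (HilbD.coverOver T g) ≫ g := XTmap_snd f _
  have ho' : IsPullback (PicF.XTmap f (HilbD.overlapFst T g) ≫ PicF.XTproj f (HilbD.coverOver T g))
      (PicF.XTmap f (HilbD.overlapSnd T g)) g
      (PicF.XTmap f (HilbD.coverHom T g) ≫ PicF.XTproj f T) := by
    rw [e1, e2]; exact ho
  exact IsPullback.of_right ho' hc P1.flip

/-- fpqc descent for `Hilb^d`. -/
theorem main (d : ℕ) (T : Over S) {T' : Scheme.{u}} (g : T' ⟶ T.left)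
    [QuasiCompact g] [Flat g] [Surjective g] (Z' : HilbD.Obj f d (HilbD.coverOver T g))
    (hZ' : HilbD.pull f (HilbD.overlapFst T g) Z'.1 = HilbD.pull f (HilbD.overlapSnd T g) Z'.1) :
    ∃! I : (PicF.XT f T).IdealSheafData, Mor2.IsFinLocFreeOfDeg d (I.subschemeι ≫ PicF.XTproj f T) ∧
      HilbD.pull f (HilbD.coverHom T g) I = Z'.1 := by
  obtain ⟨I', hI'⟩ := Z'
  change HilbD.pull f (HilbD.overlapFst T g) I' = HilbD.pull f (HilbD.overlapSnd T g) I' at hZ'
  rw [pull_eq_comap, pull_eq_comap] at hZ'
  have P1 : IsPullback (PicF.XTmap f (HilbD.coverHom T g)) (PicF.XTproj f (HilbD.coverOver T g))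
      (PicF.XTproj f T) g := isPullback_XTmap f (HilbD.coverHom T g)
  let G := PicF.XTmap f (HilbD.coverHom T g)
  have hQ : (@Surjective ⊓ @Flat ⊓ @QuasiCompact : MorphismProperty Scheme.{u}) g :=
    ⟨⟨inferInstance, inferInstance⟩, inferInstance⟩
  have hQG : (@Surjective ⊓ @Flat ⊓ @QuasiCompact : MorphismProperty Scheme.{u}) G :=
    ⟨⟨MorphismProperty.of_isPullback (P := @Surjective) P1.flip inferInstance,
      MorphismProperty.of_isPullback (P := @Flat) P1.flip inferInstance⟩,
      MorphismProperty.of_isPullback (P := @QuasiCompact) P1.flip inferInstance⟩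
  haveI : Surjective G := hQG.1.1
  haveI : Flat G := hQG.1.2
  haveI : QuasiCompact G := hQG.2
  obtain ⟨I, hI⟩ := exists_comap_eq_of_isPullback G _ _ (isPullback_XTmap_overlap f T g) I' hZ'
  refine ⟨I, ⟨?_, ?_⟩, ?_⟩
  · -- finite locally free of degree `d` descends
    subst hI
    let Zf : (I.comap G).subscheme ⟶ I.subscheme :=
      (I.comapIso G).hom ≫ pullback.snd G I.subschemeι
    have hcomm : (I.comap G).subschemeι ≫ G = Zf ≫ I.subschemeι := by
      change _ = ((I.comapIso G).hom ≫ pullback.snd G I.subschemeι) ≫ I.subschemeι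
      rw [Category.assoc, ← pullback.condition, Scheme.IdealSheafData.comapIso_hom_fst_assoc]
    have hL : IsPullback (I.comap G).subschemeι Zf G I.subschemeι :=
      isPullback_of_isClosedImmersion _ _ Zf G hcomm (by
        rw [Scheme.IdealSheafData.ker_subschemeι, Scheme.IdealSheafData.ker_subschemeι])
    have hsq := hL.paste_horiz P1.flip
    exact ((Groth.Agent.S9867.result.{u}).2 d).of_isPullback hsq hQ hI'
  · change HilbD.pull f (HilbD.coverHom T g) I = I'
    rw [pull_eq_comap]
    exact hI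
  · rintro J ⟨-, hJ⟩
    change HilbD.pull f (HilbD.coverHom T g) J = I' at hJ
    rw [pull_eq_comap] at hJ
    exact Groth.Agent.Lib.Helper9.ClosedDesc.comap_injective_of_flat_surjective G (hJ.trans hI.symm)

end Groth.Agent.Lib.Helper9.HilbSheaf
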