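import Mathlib
import Groth.Agent.Lib.Helper9.HopfPt
import Groth.Agent.Lib.Helper14.GrpBridge

set_option autoImplicit false
set_option linter.style.haveILetI false
set_option linter.unusedSectionVars false
set_option linter.unusedVariables false

universe u

open CategoryTheory MonoidalCategory CartesianMonoidalCategory AlgebraicGeometry
open CategoryTheory.Limits

namespace Groth.Agent.Lib.Helper9.HopfPt

section pts

variable {k : Type u} [Field k] {A : Type u} [CommRing A] [Algebra k A]

/-- the `k`-point of `Spec A` defined by an algebra homomorphism `A → k` -/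
noncomputable def ptOf (y : A →ₐ[k] k) :
    𝟙_ (Over (Spec (CommRingCat.of k))) ⟶ (Spec (.of A)).asOver (Spec (.of k)) :=
  Over.homMk (Spec.map (CommRingCat.ofHom (y : A →+* k))) (by
    simp only [Over.tensorUnit_hom]
    show Spec.map _ ≫ Spec.map (CommRingCat.ofHom (algebraMap k A)) = _
    rw [← Spec.map_comp, ← CommRingCat.ofHom_comp]
    have : (y : A →+* k).comp (algebraMap k A) = RingHom.id k := by
      ext r; simp
    rw [this]
    exact Spec.map_id _)

theorem ptOf_left (y : A →ₐ[k] k) :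
    (ptOf y).left = Spec.map (CommRingCat.ofHom (y : A →+* k)) := rfl

theorem exists_ptOf_eq (g : 𝟙_ (Over (Spec (CommRingCat.of k))) ⟶
    (Spec (.of A)).asOver (Spec (.of k))) : ∃ y : A →ₐ[k] k, ptOf y = g := by
  let φ : CommRingCat.of A ⟶ CommRingCat.of k := Spec.preimage g.left
  have hφ : Spec.map φ = g.left := Spec.map_preimage _
  have hw := Over.w g
  simp only [Over.tensorUnit_hom] at hw
  have hw' : Spec.map (CommRingCat.ofHom (algebraMap k A) ≫ φ) = Spec.map (𝟙 _) := by
    rw [Spec.map_comp, hφ, Spec.map_id]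
    exact hw
  have hw'' := Spec.map_injective hw'
  refine ⟨⟨φ.hom, fun r => ?_⟩, ?_⟩
  · have := congrArg (fun f => f.hom r) hw''
    exact this
  · ext1
    exact hφ

end pts

end Groth.Agent.Lib.Helper9.HopfPt

namespace Groth.Agent.Lib.Helper9.HopfPt

open Groth.Agent.Lib.Helper24.HopfFF

theorem ptOf_base_mem_basicOpen {k : Type u} [Field k] {A : Type u} [CommRing A] [Algebra k A]
    (y : A →ₐ[k] k) (a : A) (ha : y a ≠ 0) :
    (ptOf y).left.base (IsLocalRing.closedPoint k) ∈ PrimeSpectrum.basicOpen a := by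
  rw [ptOf_left]
  show PrimeSpectrum.comap _ (IsLocalRing.closedPoint k) ∈ PrimeSpectrum.basicOpen a
  rw [PrimeSpectrum.mem_basicOpen]
  show ¬ (y a ∈ IsLocalRing.maximalIdeal k)
  rw [IsLocalRing.mem_maximalIdeal, mem_nonunits_iff, not_not]
  exact isUnit_iff_ne_zero.2 ha

theorem dense_pts (k : Type u) [Field k] [IsAlgClosed k]
    (G : Over (Spec (CommRingCat.of k))) [GrpObj G] [IsAffine G.left] :
    Dense {x : ↥G.left | ∃ g : 𝟙_ (Over (Spec (CommRingCat.of k))) ⟶ G,
      g.left.base (IsLocalRing.closedPoint k) = x} := by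
  obtain ⟨A, _, hA, φ, hφ⟩ := Groth.Agent.Lib.Helper14.GrpBridge.exists_hopf (.of k) G
  letI : HopfAlgebra k A := hA
  rw [dense_iff_inter_open]
  intro U hU ⟨u, hu⟩
  haveI : IsIso φ.hom.left := inferInstanceAs (IsIso ((Over.forget _).mapIso φ).hom)
  obtain ⟨p, rfl⟩ := (φ.hom.left.homeomorph).surjective u
  have hV : IsOpen (φ.hom.left.base ⁻¹' U) := hU.preimage φ.hom.left.continuous
  obtain ⟨_, ⟨a, rfl⟩, hpa, haV⟩ :=
    PrimeSpectrum.isTopologicalBasis_basic_opens.exists_subset_of_mem_open
      (show p ∈ φ.hom.left.base ⁻¹' U from hu) hV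
  have hnil : ¬ IsNilpotent a := by
    intro hn
    have : a ∈ p.asIdeal := by
      obtain ⟨n, hn⟩ := hn
      exact p.2.mem_of_pow_mem n (by rw [hn]; exact zero_mem _)
    exact hpa this
  obtain ⟨y, hy⟩ := exists_algHom_ne_zero (k := k) a hnil
  refine ⟨φ.hom.left.base ((ptOf y).left.base (IsLocalRing.closedPoint k)), ?_, ptOf y ≫ φ.hom, ?_⟩
  · exact haV (ptOf_base_mem_basicOpen y a hy)
  · simp

end Groth.Agent.Lib.Helper9.HopfPt
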