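import Mathlib
import Groth.Agent.Lib.Helper9.HopfPt
import Groth.Agent.Lib.Helper14.GrpBridge

set_option autoImplicit false
set_option linter.style.haveILetI false
set_option linter.unusedSectionVars false
set_option linter.unusedVariables false

universe u

open TensorProduct Coalgebra Bialgebra WithConv Groth.Agent.Lib.Helper24.HopfFF

namespace Groth.Agent.Lib.Helper9.HopfPt

section alg

variable {k : Type u} [Field k] {A A' : Type u} [CommRing A] [CommRing A']
  [HopfAlgebra k A] [HopfAlgebra k A']

/-- bialgebra maps of commutative Hopf algebras commute with antipodes -/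
theorem antipode_bialgHom (g : A' →ₐc[k] A) (r : A') :
    HopfAlgebra.antipode k (g r) = g (HopfAlgebra.antipode k r) := by
  have h1 : precomp g (inv' (toConv (AlgHom.id k A))) * precomp g (toConv (AlgHom.id k A)) = 1 := by
    rw [← map_mul, inv'_mul, map_one]
  have h2 : precomp g (toConv (AlgHom.id k A)) * inv' (precomp g (toConv (AlgHom.id k A))) = 1 :=
    mul_inv' _
  have h3 : precomp g (inv' (toConv (AlgHom.id k A))) =
      inv' (precomp g (toConv (AlgHom.id k A))) :=
    left_inv_eq_right_inv (M := WithConv (A' →ₐ[k] A)) h1 h2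
  exact congrArg (fun f => f.ofConv r) h3

/-- the image of a bialgebra map of commutative Hopf algebras is a sub-Hopf-algebra -/
theorem isSub_range (f : A' →ₐc[k] A) : IsSub (f : A' →ₐ[k] A).range := by
  constructor
  · rintro _ ⟨a, rfl⟩
    have h1 : comul (R := k) ((f : A' →ₐ[k] A) a) =
        TensorProduct.map (f : A' →ₗ[k] A) (f : A' →ₗ[k] A) (comul (R := k) a) :=
      (CoalgHomClass.map_comp_comul_apply f a).symm
    show comul (R := k) ((f : A' →ₐ[k] A) a) ∈ _
    rw [h1]
    have h2 : ∀ z : A' ⊗[k] A', TensorProduct.map (f : A' →ₗ[k] A) (f : A' →ₗ[k] A) z ∈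
        (incl₂ (f : A' →ₐ[k] A).range).range := by
      intro z
      induction z using TensorProduct.induction_on with
      | zero => simp
      | tmul a b =>
        exact ⟨(f : A' →ₐ[k] A).rangeRestrict a ⊗ₜ (f : A' →ₐ[k] A).rangeRestrict b, rfl⟩
      | add z₁ z₂ h₁ h₂ => rw [map_add]; exact add_mem h₁ h₂
    exact h2 _
  · rintro _ ⟨a, rfl⟩
    exact ⟨HopfAlgebra.antipode k a, (antipode_bialgHom f a).symm⟩

variable [IsAlgClosed k]

/-- lifting rational points along a bialgebra map which is surjective on spectra -/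
theorem exists_lift_of_comap_surjective (f : A' →ₐc[k] A)
    (hf : Function.Surjective (PrimeSpectrum.comap (f : A' →+* A))) (x : A' →ₐ[k] k) :
    ∃ y : A →ₐ[k] k, y.comp (f : A' →ₐ[k] A) = x := by
  have hker : RingHom.ker ((f : A' →ₐ[k] A).rangeRestrict).toRingHom ≤ RingHom.ker x.toRingHom := by
    intro a ha
    rw [RingHom.mem_ker] at ha ⊢
    have ha' : f a = 0 := congrArg Subtype.val ha
    have hnil : IsNilpotent a := by
      rw [nilpotent_iff_mem_prime]
      intro J hJ
      obtain ⟨q, hq⟩ := hf ⟨J, hJ⟩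
      have : a ∈ (PrimeSpectrum.comap (f : A' →+* A) q).asIdeal := by
        show (f : A' →+* A) a ∈ q.asIdeal
        have : (f : A' →+* A) a = 0 := ha'
        rw [this]; exact zero_mem _
      rw [hq] at this
      exact this
    exact (hnil.map x).eq_zero
  let xR : (f : A' →ₐ[k] A).range →ₐ[k] k :=
    AlgHom.liftOfSurjective (f : A' →ₐ[k] A).rangeRestrict
      (f : A' →ₐ[k] A).rangeRestrict_surjective x hker
  obtain ⟨y, hy⟩ := exists_extension (isSub_range f) xR
  refine ⟨y, AlgHom.ext fun a => ?_⟩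
  have := hy ((f : A' →ₐ[k] A).rangeRestrict a)
  rw [AlgHom.liftOfSurjective_apply] at this
  exact this

end alg

end Groth.Agent.Lib.Helper9.HopfPt

namespace Groth.Agent.Lib.Helper9.HopfPt

open CategoryTheory MonoidalCategory CartesianMonoidalCategory AlgebraicGeometry
open CategoryTheory.Limits Opposite

section sch

theorem exists_bialgHom_of_isMonHom' (R : CommRingCat.{u}) {A A' : Type u} [CommRing A] [CommRing A']
    [HopfAlgebra R A] [HopfAlgebra R A']
    (ψ : (Spec (.of A)).asOver (Spec R) ⟶ (Spec (.of A')).asOver (Spec R))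
    [hψ : IsMonHom ψ] :
    ∃ f : A' →ₐc[R] A, ψ.left = Spec.map (CommRingCat.ofHom (f : A' →+* A)) := by
  have hψ' : IsMonHom (M := ((hopfSpec R).obj (op (CommHopfAlgCat.of R A))).X)
      (N := ((hopfSpec R).obj (op (CommHopfAlgCat.of R A'))).X) ψ := hψ
  let g : (hopfSpec R).obj (op (CommHopfAlgCat.of R A)) ⟶
      (hopfSpec R).obj (op (CommHopfAlgCat.of R A')) := Grp.homMk ψ
  let F := (hopfSpec R).preimage g
  have hF : (hopfSpec R).map F = g := Functor.map_preimage _ _
  refine ⟨F.unop.hom, ?_⟩
  have h2 : ((hopfSpec R).map F).hom.hom.left = ψ.left := by rw [hF]; rfl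
  rw [← h2]
  rfl

variable {k : Type u} [Field k] {A A' : Type u} [CommRing A] [CommRing A']
  [HopfAlgebra k A] [HopfAlgebra k A']

theorem exists_bialgHom_of_isMonHom
    (ψ : (Spec (.of A)).asOver (Spec (.of k)) ⟶ (Spec (.of A')).asOver (Spec (.of k)))
    [IsMonHom ψ] :
    ∃ f : A' →ₐc[k] A, ψ.left = Spec.map (CommRingCat.ofHom (f : A' →+* A)) :=
  exists_bialgHom_of_isMonHom' (.of k) ψ

end sch

end Groth.Agent.Lib.Helper9.HopfPt
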