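import Mathlib
import Groth.Agent.Lib.Helper9.HopfPt
import Groth.Agent.Lib.Helper9.HopfPt2
import Groth.Agent.Lib.Helper9.HopfPt3

set_option autoImplicit false
set_option linter.style.haveILetI false
set_option linter.unusedSectionVars false
set_option linter.unusedVariables false

universe u

open CategoryTheory MonoidalCategory CartesianMonoidalCategory AlgebraicGeometry
open CategoryTheory.Limits Opposite

namespace Groth.Agent.Lib.Helper9.HopfPt

theorem pts_surjective (k : Type u) [Field k] [IsAlgClosed k]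
    (G G' : Over (Spec (CommRingCat.of k))) [GrpObj G] [GrpObj G'] [IsAffine G.left]
    [IsAffine G'.left] (h : G ⟶ G') [IsMonHom h] (hs : Surjective h.left)
    (x : 𝟙_ (Over (Spec (CommRingCat.of k))) ⟶ G') :
    ∃ g : 𝟙_ (Over (Spec (CommRingCat.of k))) ⟶ G, g ≫ h = x := by
  obtain ⟨A, _, hA, φ, hφ⟩ := Groth.Agent.Lib.Helper14.GrpBridge.exists_hopf (.of k) G
  obtain ⟨A', _, hA', φ', hφ'⟩ := Groth.Agent.Lib.Helper14.GrpBridge.exists_hopf (.of k) G'
  letI : HopfAlgebra k A := hA
  letI : HopfAlgebra k A' := hA'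
  let ψ : (Spec (.of A)).asOver (Spec (.of k)) ⟶ (Spec (.of A')).asOver (Spec (.of k)) :=
    φ.hom ≫ h ≫ φ'.inv
  haveI : IsMonHom ψ := inferInstance
  obtain ⟨f, hf⟩ := exists_bialgHom_of_isMonHom ψ
  haveI : IsIso φ.hom.left := inferInstanceAs (IsIso ((Over.forget _).mapIso φ).hom)
  haveI : IsIso φ'.inv.left := inferInstanceAs (IsIso ((Over.forget _).mapIso φ').inv)
  have hsurj : Function.Surjective (PrimeSpectrum.comap (f : A' →+* A)) := by
    have h1 : Surjective ψ.left := by
      show Surjective (φ.hom.left ≫ h.left ≫ φ'.inv.left)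
      infer_instance
    rw [hf] at h1
    exact h1.surj
  obtain ⟨x', hx'⟩ := exists_ptOf_eq (x ≫ φ'.inv)
  obtain ⟨y, hy⟩ := exists_lift_of_comap_surjective f hsurj x'
  refine ⟨ptOf y ≫ φ.hom, ?_⟩
  have key : ptOf y ≫ ψ = ptOf x' := by
    ext1
    rw [Over.comp_left, hf, ptOf_left, ptOf_left]
    have h3 : Spec.map (CommRingCat.ofHom (y : A →+* k)) ≫
        Spec.map (CommRingCat.ofHom (f : A' →+* A)) = Spec.map (CommRingCat.ofHom (x' : A' →+* k)) := by
      rw [← Spec.map_comp, ← CommRingCat.ofHom_comp, ← hy]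
      rfl
    exact h3
  have : (ptOf y ≫ φ.hom) ≫ h = (ptOf y ≫ ψ) ≫ φ'.hom := by
    simp [ψ]
  rw [this, key, hx']
  simp

end Groth.Agent.Lib.Helper9.HopfPt
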