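import Mathlib
import Groth.Agent.Lib.Helper9.HopfPt
import Groth.Prelude.Def_HopfRep

set_option autoImplicit false
set_option linter.style.haveILetI false
set_option linter.unusedSectionVars false
set_option linter.unusedVariables false

universe u v w

open TensorProduct Coalgebra Bialgebra Groth.Agent.Lib.Helper24.HopfFF

namespace Groth.Agent.Lib.Helper9.HopfPt

/-- Cartier without finiteness: a commutative Hopf algebra over a field of characteristic zero is
reduced. -/
theorem isReduced_of_charZero' (k A : Type u) [Field k] [CharZero k] [CommRing A]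
    [HopfAlgebra k A] : _root_.IsReduced A := by
  classical
  constructor
  intro a ha
  obtain ⟨S, hS, hfg, hSsub⟩ := exists_fg_isSub_of_finset (k := k) ({a} : Finset A)
  have haS : a ∈ S := hS (by simp)
  letI := hopfB hSsub
  haveI : Algebra.FiniteType k S := (Subalgebra.fg_iff_finiteType S).1 hfg
  haveI : _root_.IsReduced S := isReduced_of_charZero k S
  have h1 : IsNilpotent (⟨a, haS⟩ : S) := by
    obtain ⟨n, hn⟩ := ha
    exact ⟨n, Subtype.ext (by simpa using hn)⟩
  have := h1.eq_zero
  exact congrArg Subtype.val this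

/-- rational points separate elements (same universe) -/
theorem exists_algHom_ne_zero_of_charZero {k A : Type u} [Field k] [IsAlgClosed k] [CharZero k]
    [CommRing A] [HopfAlgebra k A] (a : A) (ha : a ≠ 0) : ∃ g : A →ₐ[k] k, g a ≠ 0 := by
  haveI := isReduced_of_charZero' k A
  exact exists_algHom_ne_zero a (fun h => ha h.eq_zero)

/-- algebraic closedness transfers along ring isomorphisms (universe-free version) -/
theorem isAlgClosed_of_ringEquiv' {k : Type u} {k' : Type v} [Field k] [Field k'] (e : k ≃+* k')
    [IsAlgClosed k] : IsAlgClosed k' := by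
  open Polynomial in
  apply IsAlgClosed.of_exists_root
  intro p hmp hp
  have hpe : degree (p.map e.symm.toRingHom) ≠ 0 := by
    rw [degree_map]
    exact ne_of_gt (degree_pos_of_irreducible hp)
  rcases IsAlgClosed.exists_root (k := k) (p.map e.symm.toRingHom) hpe with ⟨x, hx⟩
  use e x
  rw [IsRoot] at hx
  apply e.symm.injective
  rw [map_zero, ← hx]
  clear hx hpe hp hmp
  induction p using Polynomial.induction_on <;> simp_all

/-- rational points separate elements (any universes) -/
theorem exists_algHom_ne_zero_of_charZero' {k : Type u} {A : Type v} [Field k] [IsAlgClosed k]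
    [CharZero k] [CommRing A] [HopfAlgebra k A] (a : A) (ha : a ≠ 0) :
    ∃ g : A →ₐ[k] k, g a ≠ 0 := by
  let K := ULift.{v} k
  let e : k ≃ₐ[k] K := ULift.algEquiv.symm
  haveI : IsAlgClosed K := isAlgClosed_of_ringEquiv' e.toRingEquiv
  haveI : CharZero K := charZero_of_injective_ringHom (f := (e : k →+* K)) e.injective
  have hinj : Function.Injective (Algebra.TensorProduct.includeRight : A →ₐ[k] K ⊗[k] A) :=
    Algebra.TensorProduct.includeRight_injective (algebraMap k K).injective
  have hne : (1 : K) ⊗ₜ[k] a ≠ 0 := by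
    intro h
    apply ha
    apply hinj
    rw [map_zero]
    exact h
  obtain ⟨G, hG⟩ := exists_algHom_ne_zero_of_charZero (k := K) (A := K ⊗[k] A) _ hne
  let g : A →ₐ[k] k := (e.symm : K →ₐ[k] k).comp
    ((G.restrictScalars k).comp (Algebra.TensorProduct.includeRight : A →ₐ[k] K ⊗[k] A))
  refine ⟨g, fun h => hG ?_⟩
  have : e.symm (G ((1 : K) ⊗ₜ[k] a)) = 0 := h
  rw [← map_zero e.symm] at this
  exact e.symm.injective this

end Groth.Agent.Lib.Helper9.HopfPt

namespace Groth.Agent.Lib.Helper9.HopfPt

section linalg

variable {k : Type u} {A : Type v} [Field k] [CommRing A] [Algebra k A]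

/-- if rational points separate the elements of `A`, an element of `M ⊗ A` vanishing at all rational
points is zero -/
theorem eq_zero_of_forall_lTensor (hsep : ∀ a : A, a ≠ 0 → ∃ g : A →ₐ[k] k, g a ≠ 0)
    {M : Type w} [AddCommGroup M] [Module k M] (t : M ⊗[k] A)
    (h : ∀ g : A →ₐ[k] k, LinearMap.lTensor M g.toLinearMap t = 0) : t = 0 := by
  classical
  let ℬ := Module.Free.chooseBasis k M
  let e := TensorProduct.equivFinsuppOfBasisLeft (N := A) ℬ
  have key : ∀ (g : A →ₐ[k] k) (s : M ⊗[k] A) (i),
      g (e s i) = ℬ.repr (TensorProduct.rid k M (LinearMap.lTensor M g.toLinearMap s)) i := by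
    intro g s i
    induction s using TensorProduct.induction_on with
    | zero => simp
    | tmul m a =>
      simp [e, mul_comm]
    | add s₁ s₂ h₁ h₂ =>
      simp only [map_add, Finsupp.add_apply, h₁, h₂]
  apply e.injective
  rw [map_zero]
  ext i
  by_contra hne
  obtain ⟨g, hg⟩ := hsep _ hne
  apply hg
  rw [key, h g]
  simp

end linalg

section comod

variable {k : Type u} {A : Type v} [Field k] [CommRing A] [Bialgebra k A]

theorem isSubcomod_of_stable (hsep : ∀ a : A, a ≠ 0 → ∃ g : A →ₐ[k] k, g a ≠ 0)
    (V : Type w) [AddCommGroup V] [Module k V] [HopfRep.Comod k A V] (W : Submodule k V)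
    (hW : ∀ g : A →ₐ[k] k, W.map (HopfRep.Comod.act k A V g) ≤ W) :
    HopfRep.IsSubcomod (k := k) (A := A) W := by
  intro w hw
  have hex : Function.Exact (W.subtype.rTensor A) (W.mkQ.rTensor A) :=
    rTensor_exact A (LinearMap.exact_subtype_mkQ W) (Submodule.mkQ_surjective W)
  rw [← hex.linearMap_ker_eq, LinearMap.mem_ker]
  apply eq_zero_of_forall_lTensor hsep
  intro g
  have nat : ∀ s : V ⊗[k] A,
      TensorProduct.rid k (V ⧸ W) (LinearMap.lTensor (V ⧸ W) g.toLinearMap (W.mkQ.rTensor A s)) =
        W.mkQ (TensorProduct.rid k V (LinearMap.lTensor V g.toLinearMap s)) := by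
    intro s
    induction s using TensorProduct.induction_on with
    | zero => simp
    | tmul v a => simp
    | add s₁ s₂ h₁ h₂ => simp only [map_add, h₁, h₂]
  apply (TensorProduct.rid k (V ⧸ W)).injective
  rw [nat, map_zero]
  have h1 : HopfRep.Comod.act k A V g w ∈ W := hW g ⟨w, hw, rfl⟩
  rw [Submodule.mkQ_apply, Submodule.Quotient.mk_eq_zero]
  exact h1

end comod

end Groth.Agent.Lib.Helper9.HopfPt
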