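import Groth.Agent.Lib.Helper9.LimClosed3
set_option autoImplicit false
set_option linter.style.haveILetI false
set_option linter.unusedSectionVars false
universe u v w
open CategoryTheory CategoryTheory.Limits AlgebraicGeometry TopologicalSpace

namespace Groth.Agent.Lib.Helper9.ImmLim

/-- A compact subset of an open set of a scheme is contained in a compact open subset. -/
lemma exists_compact_open_between {S : Scheme.{u}} (K : Set S) (hK : IsCompact K) (U₀ : S.Opens)
    (hKU : K ⊆ U₀) : ∃ U' : S.Opens, IsCompact (U' : Set S) ∧ K ⊆ U' ∧ U' ≤ U₀ := by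
  have key : ∀ x ∈ K, ∃ V : S.Opens, IsAffineOpen V ∧ x ∈ V ∧ V ≤ U₀ := by
    intro x hx
    obtain ⟨_, ⟨V, hV, rfl⟩, hxV, hVU⟩ := S.isBasis_affineOpens.exists_subset_of_mem_open
      (hKU hx) U₀.isOpen
    exact ⟨V, hV, hxV, hVU⟩
  choose V hV hxV hVU using key
  obtain ⟨F, hF⟩ := hK.elim_finite_subcover (fun x : K => ((V x.1 x.2 : S.Opens) : Set S))
    (fun x => (V x.1 x.2).isOpen) (fun x hx => Set.mem_iUnion.2 ⟨⟨x, hx⟩, hxV x hx⟩)
  refine ⟨⨆ x ∈ F, V x.1 x.2, ?_, ?_, ?_⟩
  · simp only [Opens.coe_iSup]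
    exact F.finite_toSet.isCompact_biUnion fun x _ => (hV x.1 x.2).isCompact
  · intro x hx
    have := hF hx
    simpa using this
  · exact iSup₂_le fun x _ => hVU x.1 x.2

variable {I : Type u} [SmallCategory I] [IsCofiltered I] (D : I ⥤ Scheme.{u})
  (c : Cone D) (hc : IsLimit c)
  [∀ {i j : I} (f : i ⟶ j), IsClosedImmersion (D.map f)]
  [∀ i, CompactSpace (D.obj i)] [∀ i, QuasiSeparatedSpace (D.obj i)]
  {S : Scheme.{u}} [QuasiSeparatedSpace S] (t : D ⟶ (Functor.const I).obj S)

/-- the structure map, with a clean type -/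
def tApp (i : I) : D.obj i ⟶ S := t.app i

omit [IsCofiltered I] [∀ {i j : I} (f : i ⟶ j), IsClosedImmersion (D.map f)]
  [∀ i, CompactSpace (D.obj i)] [∀ i, QuasiSeparatedSpace (D.obj i)] [QuasiSeparatedSpace S] in
lemma tApp_naturality {i j : I} (a : i ⟶ j) : D.map a ≫ tApp D t j = tApp D t i := by
  simp [tApp]

/-- the restricted diagram over `Over j` -/
noncomputable abbrev D' (j : I) : Over j ⥤ Scheme.{u} := Over.forget j ⋙ D

/-- the lifted structure maps to an open `U'` containing all the images -/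
noncomputable def t' (j : I) (U' : S.Opens)
    (hU' : ∀ (k : Over j), Set.range (tApp D t k.left) ⊆ U') :
    D' D j ⟶ (Functor.const (Over j)).obj U'.toScheme where
  app k := IsOpenImmersion.lift U'.ι (tApp D t k.left) (by rw [Scheme.Opens.range_ι]; exact hU' k)
  naturality k l a := by
    rw [← cancel_mono U'.ι]
    simp only [Functor.const_obj_obj, Functor.const_obj_map, Category.comp_id, Category.assoc,
      IsOpenImmersion.lift_fac]
    exact tApp_naturality D t a.left

include hc in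
theorem main [∀ i, LocallyOfFiniteType (tApp D t i)] (i₀ : I)
    [IsImmersion (c.π.app i₀ ≫ tApp D t i₀)] :
    ∃ i₁ : I, ∀ (i : I) (_ : i ⟶ i₁), IsImmersion (tApp D t i) := by
  have haff : ∀ {i j : I} (f : i ⟶ j), IsAffineHom (D.map f) := fun f => inferInstance
  have hcpt : CompactSpace c.pt := Scheme.compactSpace_of_isLimit D c hc
  set g : c.pt ⟶ S := c.π.app i₀ ≫ tApp D t i₀ with hg
  obtain ⟨U', hU'c, hgU', hU'U₀⟩ := exists_compact_open_between (Set.range g)
    (isCompact_range g.continuous) g.coborderRange (by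
      rintro _ ⟨x, rfl⟩
      have := congrArg (fun h => h x) g.liftCoborder_ι
      simp only [Scheme.Hom.comp_apply] at this
      rw [← this]
      exact (g.liftCoborder x).2)
  have hpre : c.π.app i₀ ⁻¹ᵁ (tApp D t i₀ ⁻¹ᵁ U') = ⊤ := by
    rw [← Scheme.Hom.comp_preimage]
    apply top_le_iff.1
    intro x _
    exact hgU' ⟨x, rfl⟩
  obtain ⟨j, fji, hj⟩ := exists_map_eq_top D c hc (tApp D t i₀ ⁻¹ᵁ U') hpre
  have hjU' : ∀ k : Over j, Set.range (tApp D t k.left) ⊆ U' := by
    rintro k _ ⟨x, rfl⟩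
    have h1 : D.map (k.hom ≫ fji) ≫ tApp D t i₀ = tApp D t k.left := tApp_naturality D t _
    have h2 : (D.map k.hom x) ∈ D.map fji ⁻¹ᵁ (tApp D t i₀ ⁻¹ᵁ U') := by rw [hj]; trivial
    have h3 := congrArg (fun h => h x) h1
    simp only [Scheme.Hom.comp_apply, Functor.map_comp] at h3
    rw [← h3]
    exact h2
  -- the restricted diagram
  have hcU' : CompactSpace U'.toScheme := isCompact_iff_compactSpace.mp hU'c
  have hqsU' : QuasiSeparatedSpace U'.toScheme := U'.ι.isOpenEmbedding.quasiSeparatedSpace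
  let c' : Cone (D' D j) := c.whisker (Over.forget j)
  have hc' : IsLimit c' := (Functor.Initial.isLimitWhiskerEquiv (Over.forget j) c).symm hc
  have h1 : ∀ {k l : Over j} (f : k ⟶ l), IsClosedImmersion ((D' D j).map f) := fun f => by
    dsimp; infer_instance
  have h2 : ∀ {k l : Over j} (f : k ⟶ l), IsAffineHom ((D' D j).map f) := fun f => inferInstance
  have h3 : ∀ k : Over j, CompactSpace ((D' D j).obj k) := fun k =>
    inferInstanceAs (CompactSpace (D.obj k.left))
  have h4 : ∀ k : Over j, QuasiSeparatedSpace ((D' D j).obj k) := fun k =>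
    inferInstanceAs (QuasiSeparatedSpace (D.obj k.left))
  let tk : ∀ k : Over j, D.obj k.left ⟶ U'.toScheme := fun k => (t' D t j U' hjU').app k
  have hfac : ∀ k : Over j, tk k ≫ U'.ι = tApp D t k.left := fun k =>
    IsOpenImmersion.lift_fac _ _ _
  have h5 : ∀ k : Over j, LocallyOfFiniteType ((t' D t j U' hjU').app k) := fun k => by
    have : LocallyOfFiniteType (tk k ≫ U'.ι) := by
      rw [hfac]; infer_instance
    exact locallyOfFiniteType_of_comp (tk k) U'.ι
  have h6 : IsClosedImmersion (c'.π.app (Over.mk (𝟙 j)) ≫ (t' D t j U' hjU').app (Over.mk (𝟙 j))) := by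
    let h : c.pt ⟶ U'.toScheme := c.π.app j ≫ tk (Over.mk (𝟙 j))
    change IsClosedImmersion h
    have e1 : h ≫ U'.ι = g := by
      simp only [h, Category.assoc]
      rw [hfac, hg]
      change c.π.app j ≫ tApp D t j = _
      rw [← tApp_naturality D t fji, ← Category.assoc, c.w]
    have e2 : h ≫ S.homOfLE hU'U₀ = g.liftCoborder := by
      rw [← cancel_mono g.coborderRange.ι, Category.assoc, Scheme.homOfLE_ι, e1,
        Scheme.Hom.liftCoborder_ι]
    have : IsClosedImmersion (h ≫ S.homOfLE hU'U₀) := by rw [e2]; infer_instance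
    exact IsClosedImmersion.of_comp h (S.homOfLE hU'U₀)
  obtain ⟨k₁, hk₁⟩ := LimClosed.exists_isClosedImmersion_t (D' D j) c' hc' (t' D t j U' hjU')
    (Over.mk (𝟙 j))
  refine ⟨k₁.left, fun i a => ?_⟩
  have h7 : tApp D t i = D.map a ≫ tk k₁ ≫ U'.ι := by
    rw [hfac, tApp_naturality]
  rw [h7]
  have h8 : IsClosedImmersion (tk k₁) := hk₁
  infer_instance

end Groth.Agent.Lib.Helper9.ImmLim
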