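import Mathlib
import Groth.Agent.Lib.Helper9.IntHom2
import Groth.Agent.S7194

set_option backward.isDefEq.respectTransparency false
set_option maxHeartbeats 800000
set_option autoImplicit false
set_option linter.unusedSectionVars false
set_option linter.unusedVariables false
universe u
open CategoryTheory CategoryTheory.Limits AlgebraicGeometry Opposite TopologicalSpace

namespace Groth.Agent.Lib.Helper9.IntHom

/-- `T`-points of `W` over `g` are morphisms in `Over X` -/
def ptEquiv {X T : Scheme.{u}} (W : Over X) (g : T ⟶ X) :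
    {s : T ⟶ W.left // s ≫ W.hom = g} ≃ (Over.mk g ⟶ W) where
  toFun s := Over.homMk s.1 s.2
  invFun φ := ⟨φ.left, Over.w φ⟩
  left_inv s := rfl
  right_inv φ := rfl

/-- the base change of a finite étale cover, as an object of `Over T`, flipped -/
noncomputable def flipIso {X T : Scheme.{u}} (g : T ⟶ X) (U : FEt.Cat X) :
    (fgt).obj ((FEt.restrict g).obj U) ≅ Over.mk (pullback.fst g U.hom) :=
  Over.isoMk (pullbackSymmetry U.hom g) (by
    change (pullbackSymmetry U.hom g).hom ≫ pullback.fst g U.hom = pullback.snd U.hom g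
    exact pullbackSymmetry_hom_comp_fst _ _)

theorem main {X : Scheme.{u}} (U V : FEt.Cat X) :
    ∃ W : FEt.Cat X, ∀ (T : Scheme.{u}) (g : T ⟶ X),
      Nonempty ({s : T ⟶ W.left // s ≫ W.hom = g} ≃
        ((FEt.restrict g).obj U ⟶ (FEt.restrict g).obj V)) := by
  haveI : IsFinite U.hom := U.prop.1
  haveI : Etale U.hom := U.prop.2
  haveI : IsFinite V.hom := V.prop.1
  have hg : Mor2.IsFinLocFree U.hom := ⟨inferInstance, inferInstance, inferInstance⟩
  obtain ⟨W, _, ⟨eW⟩⟩ := Groth.Agent.S7194.result U.hom V.hom hg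
  have hW := finite_etale_of_rep U V W eW
  refine ⟨MorphismProperty.Over.mk ⊤ W.hom ⟨hW.1, hW.2⟩, fun T g => ⟨?_⟩⟩
  refine (ptEquiv W g).trans ?_
  refine (eW.homEquiv (X := Over.mk g)).trans ?_
  refine (Flatn.morSEquiv U.hom V.hom (Over.mk g)).trans ?_
  refine ((flipIso g U).homCongr (flipIso g V)).symm.trans ?_
  exact (MorphismProperty.Comma.forgetFullyFaithful _ _ FEt.prop.{u}).homEquiv.symm

end Groth.Agent.Lib.Helper9.IntHom
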