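import Groth.Agent.Lib.Helper9.RedLim
set_option autoImplicit false
set_option linter.style.haveILetI false
set_option linter.unusedSectionVars false
universe u v w
open CategoryTheory CategoryTheory.Limits AlgebraicGeometry TopologicalSpace Opposite

namespace Groth.Agent.Lib.Helper9.IntLim

variable {I : Type u} [SmallCategory I] [IsCofiltered I] (D : I ⥤ Scheme.{u})
  (c : Cone D) (hc : IsLimit c) [∀ {i j : I} (f : i ⟶ j), IsAffineHom (D.map f)]

include hc in
/-- a cofiltered limit (affine transitions) of irreducible schemes with surjective projections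
is irreducible -/
theorem irreducibleSpace_limit (hirr : ∀ i, IrreducibleSpace (D.obj i))
    (hsurj : ∀ i, Function.Surjective (c.π.app i)) : IrreducibleSpace c.pt := by
  obtain ⟨i₀⟩ := IsCofiltered.nonempty (C := I)
  have hne : Nonempty c.pt := by
    obtain ⟨y⟩ := (hirr i₀).toNonempty
    obtain ⟨x, -⟩ := hsurj i₀ y
    exact ⟨x⟩
  have hB := isBasis_preimage_isAffineOpen D c hc
  have hpre : PreirreducibleSpace c.pt := by
    refine ⟨?_⟩
    rintro u v hu hv ⟨x, -, hxu⟩ ⟨y, -, hyv⟩
    obtain ⟨_, ⟨i, A, hA, rfl⟩, hxA, hAu⟩ :=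
      (Opens.isBasis_iff_nbhd.mp hB) (show x ∈ (⟨u, hu⟩ : c.pt.Opens) from hxu)
    obtain ⟨_, ⟨j, B, hB', rfl⟩, hyB, hBv⟩ :=
      (Opens.isBasis_iff_nbhd.mp hB) (show y ∈ (⟨v, hv⟩ : c.pt.Opens) from hyv)
    let k := IsCofiltered.min i j
    let a : k ⟶ i := IsCofiltered.minToLeft i j
    let b : k ⟶ j := IsCofiltered.minToRight i j
    have hwa : ∀ w : c.pt, (D.map a) ((c.π.app k) w) = (c.π.app i) w := fun w => by
      rw [← Scheme.Hom.comp_apply, c.w]
    have hwb : ∀ w : c.pt, (D.map b) ((c.π.app k) w) = (c.π.app j) w := fun w => by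
      rw [← Scheme.Hom.comp_apply, c.w]
    have h1 : ((D.map a ⁻¹ᵁ A : (D.obj k).Opens) : Set (D.obj k)).Nonempty :=
      ⟨(c.π.app k) x, by change (D.map a) ((c.π.app k) x) ∈ A; rw [hwa]; exact hxA⟩
    have h2 : ((D.map b ⁻¹ᵁ B : (D.obj k).Opens) : Set (D.obj k)).Nonempty :=
      ⟨(c.π.app k) y, by change (D.map b) ((c.π.app k) y) ∈ B; rw [hwb]; exact hyB⟩
    obtain ⟨z, hzA, hzB⟩ := nonempty_preirreducible_inter (D.map a ⁻¹ᵁ A).isOpen
      (D.map b ⁻¹ᵁ B).isOpen h1 h2
    obtain ⟨w, rfl⟩ := hsurj k z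
    refine ⟨w, Set.mem_univ _, hAu ?_, hBv ?_⟩
    · change (c.π.app i) w ∈ A
      rw [← hwa]; exact hzA
    · change (c.π.app j) w ∈ B
      rw [← hwb]; exact hzB
  exact ⟨hne⟩

include hc in
theorem isIntegral_limit (hint : ∀ i, IsIntegral (D.obj i))
    (hs : ∀ (i j : I) (φ : i ⟶ j), Surjective (D.map φ)) : IsIntegral c.pt := by
  have haff : ∀ (i j : I) (f : i ⟶ j), IsAffineHom (D.map f) := fun _ _ f => inferInstance
  have h1 : IsReduced c.pt := RedLim.isReduced_limit D c hc (fun i => inferInstance)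
  have h2 : IrreducibleSpace c.pt := irreducibleSpace_limit D c hc (fun i => inferInstance)
    (fun i => RedLim.surjective_π D c hc i (fun j φ => hs j i φ))
  exact isIntegral_of_irreducibleSpace_of_isReduced c.pt

include hc in
theorem isIntegral_stage [IsIntegral c.pt]
    (hf : ∀ (i j : I) (φ : i ⟶ j), Flat (D.map φ) ∧ Surjective (D.map φ)) (j : I) :
    IsIntegral (D.obj j) := by
  have haff : ∀ (i j : I) (f : i ⟶ j), IsAffineHom (D.map f) := fun _ _ f => inferInstance
  have h1 : IsReduced (D.obj j) := RedLim.isReduced_stage D c hc j (fun k φ => (hf k j φ).1)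
    (fun k φ => (hf k j φ).2)
  have hsurj : Function.Surjective (c.π.app j) :=
    RedLim.surjective_π D c hc j (fun k φ => (hf k j φ).2)
  have h2 : IrreducibleSpace (D.obj j) := by
    rw [irreducibleSpace_def]
    have := (IrreducibleSpace.isIrreducible_univ c.pt).image (c.π.app j)
      (c.π.app j).continuous.continuousOn
    rwa [Set.image_univ, hsurj.range_eq] at this
  exact isIntegral_of_irreducibleSpace_of_isReduced (D.obj j)

include hc in
theorem isIntegral_iff (i₀ : I)
    (hf : ∀ (i j : I) (φ : i ⟶ j), Flat (D.map φ) ∧ Surjective (D.map φ)) :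
    IsIntegral c.pt ↔ ∃ (i : I) (_ : i ⟶ i₀), ∀ (j : I) (_ : j ⟶ i), IsIntegral (D.obj j) := by
  constructor
  · intro h
    exact ⟨i₀, 𝟙 i₀, fun j _ => isIntegral_stage D c hc hf j⟩
  · rintro ⟨i, -, h⟩
    let D' : Over i ⥤ Scheme.{u} := Over.forget i ⋙ D
    have hD' : ∀ {j k : Over i} (f : j ⟶ k), IsAffineHom (D'.map f) := fun f =>
      inferInstanceAs (IsAffineHom (D.map f.left))
    let c' : Cone D' := c.whisker (Over.forget i)
    have hc' : IsLimit c' := (Functor.Initial.isLimitWhiskerEquiv (Over.forget i) c).symm hc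
    exact isIntegral_limit D' c' hc' (fun j => h j.left j.hom)
      (fun j k φ => (hf j.left k.left φ.left).2)

end Groth.Agent.Lib.Helper9.IntLim
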