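import Mathlib
import Groth.Agent.Lib.Helper9.BiratLib
set_option autoImplicit false
universe u
open CategoryTheory CategoryTheory.Limits AlgebraicGeometry TensorProduct

namespace Groth.Agent.Lib.Helper9.IrrFin
open Groth.Agent.Lib.Helper9.BiratLib


section topology
variable {α : Type*} [TopologicalSpace α]

/-- generic points of an open subspace are generic in the ambient space -/
theorem coe_mem_genericPoints_of_open [QuasiSober α] [T0Space α] {V : Set α} (hV : IsOpen V)
    (ξ : V) (hξ : ξ ∈ genericPoints V) : (ξ : α) ∈ genericPoints α := by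
  have : QuasiSober V := hV.isOpenEmbedding_subtypeVal.quasiSober
  rw [mem_genericPoints_iff] at hξ ⊢
  intro y' hy'
  have hy'V : y' ∈ V := hy'.mem_open hV ξ.2
  have h1 : (⟨y', hy'V⟩ : V) ⤳ ξ := (subtype_specializes_iff _ _).mpr hy'
  exact congrArg Subtype.val (hξ _ h1)

/-- generic points of the ambient space lying in an open are generic in the open -/
theorem mem_genericPoints_open_of_mem [QuasiSober α] [T0Space α] {V : Set α} (hV : IsOpen V)
    (x : α) (hx : x ∈ genericPoints α) (hxV : x ∈ V) : (⟨x, hxV⟩ : V) ∈ genericPoints V := by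
  have : QuasiSober V := hV.isOpenEmbedding_subtypeVal.quasiSober
  rw [mem_genericPoints_iff] at hx ⊢
  intro u' hu'
  have h1 : (u' : α) ⤳ x := (subtype_specializes_iff _ _).mp hu'
  exact Subtype.ext (hx _ h1)

theorem finite_irreducibleComponents_of_finite_genericPoints [QuasiSober α] [T0Space α]
    (h : (genericPoints α).Finite) : (irreducibleComponents α).Finite := by
  have h1 : Finite (genericPoints α) := h.to_subtype
  have h2 : Finite (irreducibleComponents α) := Finite.of_equiv _ genericPoints.equiv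
  exact Set.finite_coe_iff.mp h2

end topology



theorem finite_generic_over_affine {X Y : Scheme.{u}} (f : Y ⟶ X) [LocallyOfFiniteType f]
    {V : Y.Opens} (hV : IsAffineOpen V) {U : X.Opens} (hU : IsAffineOpen U) (hVU : V ≤ f ⁻¹ᵁ U)
    (η : X) : {ξ : Y | ξ ∈ genericPoints Y ∧ ξ ∈ V ∧ f ξ = η}.Finite := by
  by_cases hη : η ∈ U
  swap
  · convert Set.finite_empty
    ext ξ
    simp only [Set.mem_setOf_eq, Set.mem_empty_iff_false, iff_false, not_and]
    intro _ hξV hfξ
    exact hη (hfξ ▸ hVU hξV)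
  have hft : (f.appLE U V hVU).hom.FiniteType := f.finiteType_appLE hU hV hVU
  algebraize [(f.appLE U V hVU).hom]
  set p : PrimeSpectrum Γ(X, U) := hU.primeIdealOf ⟨η, hη⟩ with hp
  have hpη : hU.fromSpec p = η := hU.fromSpec_primeIdealOf ⟨η, hη⟩
  have hnoeth : IsNoetherianRing (p.asIdeal.Fiber Γ(Y, V)) :=
    Algebra.FiniteType.isNoetherianRing p.asIdeal.ResidueField _
  have hTfin : (genericPoints (PrimeSpectrum (p.asIdeal.Fiber Γ(Y, V)))).Finite :=
    genericPoints.finite TopologicalSpace.NoetherianSpace.finite_irreducibleComponents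
  let e := PrimeSpectrum.preimageHomeomorphFiber Γ(X, U) Γ(Y, V) p
  have hS₀ : (e ⁻¹' genericPoints (PrimeSpectrum (p.asIdeal.Fiber Γ(Y, V)))).Finite :=
    hTfin.preimage e.injective.injOn
  refine (hS₀.image (fun q => hV.fromSpec q.1)).subset ?_
  rintro ξ ⟨hξgen, hξV, hfξ⟩
  set q : PrimeSpectrum Γ(Y, V) := hV.primeIdealOf ⟨ξ, hξV⟩ with hq
  have hqξ : hV.fromSpec q = ξ := hV.fromSpec_primeIdealOf ⟨ξ, hξV⟩
  have hnat : ∀ r : PrimeSpectrum Γ(Y, V),
      hU.fromSpec (PrimeSpectrum.comap (algebraMap Γ(X, U) Γ(Y, V)) r) = f (hV.fromSpec r) := by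
    intro r
    have := congrArg (fun ψ : Spec Γ(Y, V) ⟶ X => ψ r)
      (IsAffineOpen.SpecMap_appLE_fromSpec f hU hV hVU)
    exact this
  have hinjU : Function.Injective hU.fromSpec := hU.fromSpec.isOpenEmbedding.injective
  have hinjV : Function.Injective hV.fromSpec := hV.fromSpec.isOpenEmbedding.injective
  have hqp : PrimeSpectrum.comap (algebraMap Γ(X, U) Γ(Y, V)) q = p := by
    apply hinjU
    rw [hnat, hqξ, hfξ, hpη]
  refine ⟨⟨q, hqp⟩, ?_, hqξ⟩
  change e ⟨q, hqp⟩ ∈ genericPoints _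
  rw [mem_genericPoints_iff]
  intro t' ht'
  obtain ⟨q'', rfl⟩ := e.surjective t'
  have h1 : q'' ⤳ ⟨q, hqp⟩ := e.isInducing.specializes_iff.mp ht'
  have h2 : q''.1 ⤳ q := (subtype_specializes_iff _ _).mp h1
  have h3 : hV.fromSpec q''.1 ⤳ hV.fromSpec q := h2.map hV.fromSpec.continuous
  rw [hqξ] at h3
  have h4 := (mem_genericPoints_iff ξ).mp hξgen _ h3
  have h5 : q''.1 = q := hinjV (h4.trans hqξ.symm)
  congr 1
  exact Subtype.ext h5


theorem finite_generic_over_compact {X Y : Scheme.{u}} (f : Y ⟶ X) [LocallyOfFiniteType f]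
    (V : Y.Opens) (hV : IsCompact (V : Set Y)) (η : X) :
    {ξ : Y | ξ ∈ genericPoints Y ∧ ξ ∈ V ∧ f ξ = η}.Finite := by
  have hloc : ∀ y : Y, ∃ W : Y.Opens, y ∈ W ∧
      {ξ : Y | ξ ∈ genericPoints Y ∧ ξ ∈ W ∧ f ξ = η}.Finite := by
    intro y
    obtain ⟨U, hU, hyU, -⟩ := exists_isAffineOpen_mem_and_subset (x := f y) (U := ⊤) trivial
    obtain ⟨W, hW, hyW, hWU⟩ := exists_isAffineOpen_mem_and_subset (x := y) (U := f ⁻¹ᵁ U) hyU
    exact ⟨W, hyW, finite_generic_over_affine f hW hU hWU η⟩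
  choose W hyW hWfin using hloc
  obtain ⟨t, ht⟩ := hV.elim_finite_subcover (fun y => (W y : Set Y)) (fun y => (W y).2)
    (fun y _ => Set.mem_iUnion.mpr ⟨y, hyW y⟩)
  refine (Set.Finite.biUnion t.finite_toSet (fun y _ => hWfin y)).subset ?_
  rintro ξ ⟨h1, h2, h3⟩
  obtain ⟨y, hy⟩ := Set.mem_iUnion.mp (ht h2)
  obtain ⟨hyt, hξW⟩ := Set.mem_iUnion.mp hy
  exact Set.mem_biUnion hyt ⟨h1, hξW, h3⟩

theorem finite_irreducibleComponents_of_flat_lfp {Y X : Scheme.{u}} (f : Y ⟶ X) [Flat f]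
    [LocallyOfFinitePresentation f]
    (hX : ∀ U : X.Opens, IsCompact (U : Set X) → (irreducibleComponents (U : Type u)).Finite)
    (V : Y.Opens) (hV : IsCompact (V : Set Y)) : (irreducibleComponents (V : Type u)).Finite := by
  have hopen : IsOpenMap f := isOpenMap_of_generalizingMap f (Flat.generalizingMap f)
  let U : X.Opens := ⟨f '' (V : Set Y), hopen _ V.2⟩
  have hUc : IsCompact (U : Set X) := hV.image f.continuous
  have hUfin : (genericPoints ↥U).Finite := genericPoints.finite (hX U hUc)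
  have hmaps := mapsTo_genericPoints_of_generalizingMap f (Flat.generalizingMap f)
  have hfin : ∀ η : X, {ξ : Y | ξ ∈ genericPoints Y ∧ ξ ∈ V ∧ f ξ = η}.Finite :=
    finite_generic_over_compact f V hV
  have hbig : (⋃ η ∈ (Subtype.val '' genericPoints ↥U : Set X),
      {ξ : Y | ξ ∈ genericPoints Y ∧ ξ ∈ V ∧ f ξ = η}).Finite :=
    Set.Finite.biUnion (hUfin.image _) (fun η _ => hfin η)
  have hgen : (genericPoints ↥V).Finite := by
    refine (hbig.preimage (f := Subtype.val) Subtype.val_injective.injOn).subset ?_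
    intro ξ hξ
    have h1 : (ξ : Y) ∈ genericPoints Y := coe_mem_genericPoints_of_open V.2 ξ hξ
    have h2 : f ξ ∈ genericPoints X := hmaps h1
    have h3 : f ξ ∈ (U : Set X) := ⟨ξ, ξ.2, rfl⟩
    have h4 := mem_genericPoints_open_of_mem U.2 (f ξ) h2 h3
    refine Set.mem_biUnion (x := f ξ) ⟨⟨f ξ, h3⟩, h4, rfl⟩ ⟨h1, ξ.2, rfl⟩
  exact finite_irreducibleComponents_of_finite_genericPoints hgen


end Groth.Agent.Lib.Helper9.IrrFin
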