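import Groth.Agent.Lib.Helper9.RelClosure

/-!
# Jointly surjective families of algebras and filtered colimits in `Under A`
-/

set_option autoImplicit false
universe u
open CategoryTheory AlgebraicGeometry Limits

namespace Groth.Agent.Lib.Helper9.UnivHomeoRing

section ring
variable {A B : Type u} [CommRing A] [CommRing B] (φ : A →+* B)
  {I : Type*} (Bi : I → Type u) [∀ i, CommRing (Bi i)] (φi : ∀ i, A →+* Bi i)
  (ιi : ∀ i, Bi i →+* B)

include ιi in
theorem isIntegral_of_jointly_surjective (hcomp : ∀ i, (ιi i).comp (φi i) = φ)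
    (hsurj : ∀ b : B, ∃ i, ∃ x : Bi i, ιi i x = b)
    (h : ∀ i, (φi i).IsIntegral) : φ.IsIntegral := by
  intro b
  obtain ⟨i, x, rfl⟩ := hsurj b
  obtain ⟨p, hp, hpx⟩ := h i x
  refine ⟨p, hp, ?_⟩
  rw [← hcomp i, ← Polynomial.hom_eval₂, hpx, map_zero]

include ιi in
theorem isRadicial_of_jointly_surjective (hcomp : ∀ i, (ιi i).comp (φi i) = φ)
    (hsurj : ∀ b : B, ∃ i, ∃ x : Bi i, ιi i x = b)
    (h : ∀ i, IsRadicial (φi i)) : IsRadicial φ := by
  intro K _ g₁ g₂ hg
  refine RingHom.ext fun b => ?_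
  obtain ⟨i, x, rfl⟩ := hsurj b
  have h1 : (g₁.comp (ιi i)) = (g₂.comp (ιi i)) := by
    apply h i K
    rw [RingHom.comp_assoc, RingHom.comp_assoc, hcomp i, hg]
  exact congrArg (fun ψ => ψ x) (congrArg DFunLike.coe h1)

include ιi in
theorem resSurj_of_jointly_surjective (hcomp : ∀ i, (ιi i).comp (φi i) = φ)
    (hsurj : ∀ b : B, ∃ i, ∃ x : Bi i, ιi i x = b)
    (h : ∀ i, ResSurj (φi i)) : ResSurj φ := by
  intro c _ p _ hp
  apply surjective_of_forall_algebraMap_mem
  intro b
  obtain ⟨i, x, rfl⟩ := hsurj b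
  have hci : (Ideal.comap (ιi i) c).IsPrime := inferInstance
  have hpi : p = Ideal.comap (φi i) (Ideal.comap (ιi i) c) := by
    rw [hp, Ideal.comap_comap, hcomp i]
  obtain ⟨y, hy⟩ := h i (Ideal.comap (ιi i) c) p hpi
    (algebraMap (Bi i) (Ideal.comap (ιi i) c).ResidueField x)
  have hcompres : (Ideal.ResidueField.map (Ideal.comap (ιi i) c) c (ιi i) rfl).comp
      (Ideal.ResidueField.map p (Ideal.comap (ιi i) c) (φi i) hpi) =
      Ideal.ResidueField.map p c φ hp := by
    apply Ideal.ResidueField.ringHom_ext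
    refine RingHom.ext fun a => ?_
    simp only [RingHom.comp_apply]
    rw [Ideal.ResidueField.map_algebraMap, Ideal.ResidueField.map_algebraMap,
      Ideal.ResidueField.map_algebraMap, ← hcomp i]
    rfl
  refine ⟨y, ?_⟩
  rw [← hcompres, RingHom.comp_apply, hy, Ideal.ResidueField.map_algebraMap]

include ιi in
theorem comap_surjective_of_jointly_surjective (hint : φ.IsIntegral)
    (hker : ∀ a, φ a = 0 → ∃ i, φi i a = 0)
    (h : ∀ i, Function.Surjective (PrimeSpectrum.comap (φi i))) :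
    Function.Surjective (PrimeSpectrum.comap φ) := by
  intro p
  letI := φ.toAlgebra
  haveI : Algebra.IsIntegral A B := ⟨hint⟩
  have hker' : (⊥ : Ideal B).comap (algebraMap A B) ≤ p.asIdeal := by
    intro a ha
    have h0 : φ a = 0 := ha
    obtain ⟨i, hi⟩ := hker a h0
    obtain ⟨q, rfl⟩ := h i p
    change φi i a ∈ q.asIdeal
    rw [hi]
    exact q.asIdeal.zero_mem
  obtain ⟨q, -, hq_prime, hq⟩ :=
    Ideal.exists_ideal_over_prime_of_isIntegral p.asIdeal (⊥ : Ideal B) hker'
  exact ⟨⟨q, hq_prime⟩, PrimeSpectrum.ext hq⟩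

end ring

end Groth.Agent.Lib.Helper9.UnivHomeoRing
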