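import Mathlib
set_option autoImplicit false
set_option linter.style.haveILetI false
set_option linter.unusedSectionVars false
universe u v w
open CategoryTheory CategoryTheory.Limits AlgebraicGeometry TopologicalSpace

namespace Groth.Agent.Lib.Helper9.Kunneth0

lemma quasiSeparatedSpace_of_isAffineHom_diagonal {X S : Scheme.{u}} (f : X ⟶ S) [IsAffine S]
    [IsAffineHom (pullback.diagonal f)] : QuasiSeparatedSpace X := by
  have : QuasiSeparated f := ⟨inferInstance⟩
  exact quasiSeparatedSpace_of_quasiSeparated f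

lemma appLE_top_top {X Y : Scheme.{u}} (f : X ⟶ Y) (e : (⊤ : X.Opens) ≤ f ⁻¹ᵁ ⊤) :
    f.appLE ⊤ ⊤ e = f.appTop := by
  rw [Scheme.Hom.appTop, Scheme.Hom.app_eq_appLE]
  rfl

theorem main {X Y S : Scheme.{u}} (f : X ⟶ S) (g : Y ⟶ S) [IsAffine S] [Flat g]
    [CompactSpace X] [CompactSpace Y] [QuasiSeparatedSpace X] [QuasiSeparatedSpace Y]
    (hf : f.appTop.hom.Flat) :
    IsPushout f.appTop g.appTop (pullback.fst f g).appTop (pullback.snd f g).appTop := by
  have H : IsPullback (pullback.fst f g) (pullback.snd f g) f g := IsPullback.of_hasPullback f g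
  have hUST : (⊤ : Y.Opens) ≤ g ⁻¹ᵁ ⊤ := le_top
  have hUSX : (⊤ : X.Opens) ≤ f ⁻¹ᵁ ⊤ := le_top
  have hUY : (⊤ : (pullback f g).Opens) = (pullback.fst f g) ⁻¹ᵁ ⊤ ⊓ (pullback.snd f g) ⁻¹ᵁ ⊤ := by
    simp
  have h1 := isIso_pushoutSection_of_isCompact_of_flat_right_of_ringHomFlat H hUST hUSX hUY
    (isAffineOpen_top S) isCompact_univ isQuasiSeparated_univ isCompact_univ isQuasiSeparated_univ
    (by rw [appLE_top_top]; exact hf)
  have h2 := (isIso_pushoutSection_iff H hUST hUSX hUY).1 h1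
  simpa only [appLE_top_top] using h2

end Groth.Agent.Lib.Helper9.Kunneth0
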