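import Groth.Prelude.Def_W4c4lgringredgrpLG
import Mathlib.LinearAlgebra.Matrix.ToLinearEquiv
import Mathlib.LinearAlgebra.Matrix.NonsingularInverse
import Mathlib.RingTheory.TensorProduct.Free
import Mathlib.Algebra.Module.Projective
import Mathlib.RingTheory.Finiteness.Cardinality
import Mathlib.Algebra.MvPolynomial.Rename
import Mathlib.LinearAlgebra.Dimension.Free
import Mathlib.RingTheory.Ideal.Quotient.Basic

/-!
Over an LG-ring, two finite projective modules which are isomorphic modulo every maximal ideal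
are isomorphic.
-/

set_option autoImplicit false
universe u v w

namespace Groth.Agent.Lib.Helper9.LG

open MvPolynomial TensorProduct

section abstract

variable {R : Type u} [CommRing R] {F : Type*} {M : Type*} [AddCommGroup F] [Module R F]
  [AddCommGroup M] [Module R M]

/-- If `π ∘ s = id` and `s θ π + (1 - s π)` is bijective on `F` then `θ` is bijective on `M`. -/
theorem bijective_of_conj (π : F →ₗ[R] M) (s : M →ₗ[R] F) (hπs : π ∘ₗ s = LinearMap.id)
    (θ : M →ₗ[R] M)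
    (h : Function.Bijective (s ∘ₗ θ ∘ₗ π + (LinearMap.id - s ∘ₗ π) : F →ₗ[R] F)) :
    Function.Bijective θ := by
  have hps : ∀ m, π (s m) = m := fun m => LinearMap.congr_fun hπs m
  constructor
  · rw [injective_iff_map_eq_zero]
    intro m hm
    have h1 : (s ∘ₗ θ ∘ₗ π + (LinearMap.id - s ∘ₗ π) : F →ₗ[R] F) (s m) = 0 := by
      simp [hps, hm]
    have h2 := h.1 (h1.trans (map_zero _).symm)
    rw [← hps m, h2, map_zero]
  · intro m
    obtain ⟨v, hv⟩ := h.2 (s m)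
    refine ⟨π v, ?_⟩
    have := congrArg π hv
    simp only [LinearMap.add_apply, LinearMap.comp_apply, LinearMap.sub_apply, LinearMap.id_apply,
      map_add, map_sub, hps] at this
    simpa using this

end abstract

section gmat

variable {S T : Type*} [CommRing S] [CommRing T] {a b : ℕ}

/-- `P₁ Y P₂ X P₁ + (1 - P₁)`. -/
def Gmat (P₁ : Matrix (Fin a) (Fin a) S) (P₂ : Matrix (Fin b) (Fin b) S)
    (X : Matrix (Fin b) (Fin a) S) (Y : Matrix (Fin a) (Fin b) S) : Matrix (Fin a) (Fin a) S :=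
  P₁ * Y * P₂ * X * P₁ + (1 - P₁)

theorem Gmat_map (f : S →+* T) (P₁ : Matrix (Fin a) (Fin a) S) (P₂ : Matrix (Fin b) (Fin b) S)
    (X : Matrix (Fin b) (Fin a) S) (Y : Matrix (Fin a) (Fin b) S) :
    (Gmat P₁ P₂ X Y).map f = Gmat (P₁.map f) (P₂.map f) (X.map f) (Y.map f) := by
  unfold Gmat
  rw [Matrix.map_add f f.map_add, Matrix.map_sub f f.map_sub, Matrix.map_mul, Matrix.map_mul,
    Matrix.map_mul, Matrix.map_mul, Matrix.map_one f f.map_zero f.map_one]

end gmat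

section lgfin

variable {R : Type u} [CommRing R]

/-- The LG property for polynomials indexed by an arbitrary finite type. -/
theorem representsUnit_of_fintype (hR : LGRing.IsLGRing R) {σ : Type} [Fintype σ]
    (f : MvPolynomial σ R)
    (h : ∀ (m : Ideal R) [m.IsMaximal], ∃ s : σ → R ⧸ m, IsUnit (aeval s f)) :
    ∃ s : σ → R, IsUnit (aeval s f) := by
  let e : σ ≃ Fin (Fintype.card σ) := Fintype.equivFin σ
  have h' : ∀ (m : Ideal R) [m.IsMaximal],
      LGRing.RepresentsUnit (rename e f) (R ⧸ m) := by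
    intro m _
    obtain ⟨s, hs⟩ := h m
    refine ⟨s ∘ e.symm, ?_⟩
    rw [aeval_rename]
    have : (s ∘ e.symm) ∘ e = s := by
      funext x; simp
    rwa [this]
  obtain ⟨s, hs⟩ := hR _ (rename e f) h'
  refine ⟨s ∘ e, ?_⟩
  rwa [aeval_rename] at hs

end lgfin


section core

variable {R : Type u} [CommRing R] {M₁ : Type v} {M₂ : Type w} [AddCommGroup M₁] [Module R M₁]
  [AddCommGroup M₂] [Module R M₂] {a b : ℕ}

/-- the index type of the variables. -/
abbrev Idx (a b : ℕ) : Type := (Fin b × Fin a) ⊕ (Fin a × Fin b)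

/-- the matrix `X` attached to a point. -/
def ptX {S : Type*} (t : Idx a b → S) : Matrix (Fin b) (Fin a) S :=
  Matrix.of fun i j => t (Sum.inl (i, j))

/-- the matrix `Y` attached to a point. -/
def ptY {S : Type*} (t : Idx a b → S) : Matrix (Fin a) (Fin b) S :=
  Matrix.of fun i j => t (Sum.inr (i, j))

/-- the polynomial whose unit values detect isomorphisms. -/
noncomputable def Fpoly (P₁ : Matrix (Fin a) (Fin a) R) (P₂ : Matrix (Fin b) (Fin b) R) :
    MvPolynomial (Idx a b) R :=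
  (Gmat (P₁.map C) (P₂.map C) (ptX (X : Idx a b → MvPolynomial (Idx a b) R))
      (ptY (X : Idx a b → MvPolynomial (Idx a b) R))).det *
    (Gmat (P₂.map C) (P₁.map C) (ptY (X : Idx a b → MvPolynomial (Idx a b) R))
      (ptX (X : Idx a b → MvPolynomial (Idx a b) R))).det

theorem aeval_Fpoly {S : Type*} [CommRing S] [Algebra R S] (P₁ : Matrix (Fin a) (Fin a) R)
    (P₂ : Matrix (Fin b) (Fin b) R) (t : Idx a b → S) :
    aeval t (Fpoly P₁ P₂) =
      (Gmat (P₁.map (algebraMap R S)) (P₂.map (algebraMap R S)) (ptX t) (ptY t)).det *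
      (Gmat (P₂.map (algebraMap R S)) (P₁.map (algebraMap R S)) (ptY t) (ptX t)).det := by
  have hP : ∀ {n : ℕ} (P : Matrix (Fin n) (Fin n) R),
      (P.map C).map (aeval t : MvPolynomial (Idx a b) R →ₐ[R] S).toRingHom =
        P.map (algebraMap R S) := by
    intro n P
    ext i j
    simp
  have hX : (ptX (X : Idx a b → MvPolynomial (Idx a b) R)).map
      (aeval t : MvPolynomial (Idx a b) R →ₐ[R] S).toRingHom = ptX t := by
    ext i j
    simp [ptX]
  have hY : (ptY (X : Idx a b → MvPolynomial (Idx a b) R)).map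
      (aeval t : MvPolynomial (Idx a b) R →ₐ[R] S).toRingHom = ptY t := by
    ext i j
    simp [ptY]
  unfold Fpoly
  rw [map_mul, AlgHom.map_det, AlgHom.map_det, AlgHom.mapMatrix_apply, AlgHom.mapMatrix_apply]
  have e1 := Gmat_map (aeval t : MvPolynomial (Idx a b) R →ₐ[R] S).toRingHom (P₁.map C)
    (P₂.map C) (ptX (X : Idx a b → MvPolynomial (Idx a b) R))
    (ptY (X : Idx a b → MvPolynomial (Idx a b) R))
  have e2 := Gmat_map (aeval t : MvPolynomial (Idx a b) R →ₐ[R] S).toRingHom (P₂.map C)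
    (P₁.map C) (ptY (X : Idx a b → MvPolynomial (Idx a b) R))
    (ptX (X : Idx a b → MvPolynomial (Idx a b) R))
  rw [hP, hP, hX, hY] at e1 e2
  change (Matrix.map _ (aeval t : MvPolynomial (Idx a b) R →ₐ[R] S).toRingHom).det *
    (Matrix.map _ (aeval t : MvPolynomial (Idx a b) R →ₐ[R] S).toRingHom).det = _
  rw [e1, e2]

variable (π₁ : (Fin a → R) →ₗ[R] M₁) (s₁ : M₁ →ₗ[R] (Fin a → R)) (h₁ : π₁ ∘ₗ s₁ = LinearMap.id)
  (π₂ : (Fin b → R) →ₗ[R] M₂) (s₂ : M₂ →ₗ[R] (Fin b → R)) (h₂ : π₂ ∘ₗ s₂ = LinearMap.id)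

include h₁ h₂ in
theorem nonempty_equiv_of_isUnit (Xm : Matrix (Fin b) (Fin a) R) (Ym : Matrix (Fin a) (Fin b) R)
    (hu1 : IsUnit (Gmat (LinearMap.toMatrix' (s₁ ∘ₗ π₁)) (LinearMap.toMatrix' (s₂ ∘ₗ π₂)) Xm Ym).det)
    (hu2 : IsUnit (Gmat (LinearMap.toMatrix' (s₂ ∘ₗ π₂)) (LinearMap.toMatrix' (s₁ ∘ₗ π₁)) Ym Xm).det) :
    Nonempty (M₁ ≃ₗ[R] M₂) := by
  classical
  let φ : M₁ →ₗ[R] M₂ := π₂ ∘ₗ Matrix.toLin' Xm ∘ₗ s₁
  let ψ : M₂ →ₗ[R] M₁ := π₁ ∘ₗ Matrix.toLin' Ym ∘ₗ s₂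
  have hbij : ∀ {n : ℕ} (G : Matrix (Fin n) (Fin n) R), IsUnit G.det →
      Function.Bijective (Matrix.toLin' G) := by
    intro n G hG
    have := (Matrix.toLinearEquiv' G (Matrix.invertibleOfIsUnitDet G hG)).bijective
    have h2 := Matrix.toLinearEquiv'_apply G (Matrix.invertibleOfIsUnitDet G hG)
    have h3 : (Matrix.toLin' G : (Fin n → R) → (Fin n → R)) =
        (Matrix.toLinearEquiv' G (Matrix.invertibleOfIsUnitDet G hG)) := by
      funext x
      exact (LinearMap.congr_fun h2 x).symm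
    rw [h3]
    exact this
  have e1 : Matrix.toLin' (Gmat (LinearMap.toMatrix' (s₁ ∘ₗ π₁)) (LinearMap.toMatrix' (s₂ ∘ₗ π₂)) Xm Ym)
      = s₁ ∘ₗ (ψ ∘ₗ φ) ∘ₗ π₁ + (LinearMap.id - s₁ ∘ₗ π₁) := by
    unfold Gmat
    simp only [map_add, map_sub, Matrix.toLin'_mul, Matrix.toLin'_toMatrix', Matrix.toLin'_one, φ, ψ,
      LinearMap.comp_assoc]
  have e2 : Matrix.toLin' (Gmat (LinearMap.toMatrix' (s₂ ∘ₗ π₂)) (LinearMap.toMatrix' (s₁ ∘ₗ π₁)) Ym Xm)
      = s₂ ∘ₗ (φ ∘ₗ ψ) ∘ₗ π₂ + (LinearMap.id - s₂ ∘ₗ π₂) := by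
    unfold Gmat
    simp only [map_add, map_sub, Matrix.toLin'_mul, Matrix.toLin'_toMatrix', Matrix.toLin'_one, φ, ψ,
      LinearMap.comp_assoc]
  have b1 : Function.Bijective (ψ ∘ₗ φ) := by
    apply bijective_of_conj π₁ s₁ h₁
    rw [← e1]
    exact hbij _ hu1
  have b2 : Function.Bijective (φ ∘ₗ ψ) := by
    apply bijective_of_conj π₂ s₂ h₂
    rw [← e2]
    exact hbij _ hu2
  have hφ : Function.Bijective φ := by
    constructor
    · have : Function.Injective (ψ ∘ φ) := b1.1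
      exact Function.Injective.of_comp this
    · have : Function.Surjective (φ ∘ ψ) := b2.2
      exact Function.Surjective.of_comp this
  exact ⟨LinearEquiv.ofBijective φ hφ⟩

include h₁ h₂ in
theorem exists_local (S : Type*) [CommRing S] [Algebra R S]
    (θ : S ⊗[R] M₁ ≃ₗ[S] S ⊗[R] M₂) :
    ∃ (Xm : Matrix (Fin b) (Fin a) S) (Ym : Matrix (Fin a) (Fin b) S),
      Gmat ((LinearMap.toMatrix' (s₁ ∘ₗ π₁)).map (algebraMap R S))
        ((LinearMap.toMatrix' (s₂ ∘ₗ π₂)).map (algebraMap R S)) Xm Ym = 1 ∧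
      Gmat ((LinearMap.toMatrix' (s₂ ∘ₗ π₂)).map (algebraMap R S))
        ((LinearMap.toMatrix' (s₁ ∘ₗ π₁)).map (algebraMap R S)) Ym Xm = 1 := by
  classical
  let Ba := Algebra.TensorProduct.basis S (Pi.basisFun R (Fin a))
  let Bb := Algebra.TensorProduct.basis S (Pi.basisFun R (Fin b))
  let π₁' := π₁.baseChange S
  let s₁' := s₁.baseChange S
  let π₂' := π₂.baseChange S
  let s₂' := s₂.baseChange S
  have hπs1 : π₁' ∘ₗ s₁' = LinearMap.id := by
    rw [← LinearMap.baseChange_comp, h₁, LinearMap.baseChange_id]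
  have hπs2 : π₂' ∘ₗ s₂' = LinearMap.id := by
    rw [← LinearMap.baseChange_comp, h₂, LinearMap.baseChange_id]
  let fX : S ⊗[R] (Fin a → R) →ₗ[S] S ⊗[R] (Fin b → R) := s₂' ∘ₗ θ.toLinearMap ∘ₗ π₁'
  let fY : S ⊗[R] (Fin b → R) →ₗ[S] S ⊗[R] (Fin a → R) := s₁' ∘ₗ θ.symm.toLinearMap ∘ₗ π₂'
  have hP1 : (LinearMap.toMatrix' (s₁ ∘ₗ π₁)).map (algebraMap R S) =
      LinearMap.toMatrix Ba Ba (s₁' ∘ₗ π₁') := by
    rw [← LinearMap.baseChange_comp, LinearMap.toMatrix_baseChange,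
      LinearMap.toMatrix_eq_toMatrix']
  have hP2 : (LinearMap.toMatrix' (s₂ ∘ₗ π₂)).map (algebraMap R S) =
      LinearMap.toMatrix Bb Bb (s₂' ∘ₗ π₂') := by
    rw [← LinearMap.baseChange_comp, LinearMap.toMatrix_baseChange,
      LinearMap.toMatrix_eq_toMatrix']
  have hps1 : ∀ x, π₁' (s₁' x) = x := fun x => LinearMap.congr_fun hπs1 x
  have hps2 : ∀ x, π₂' (s₂' x) = x := fun x => LinearMap.congr_fun hπs2 x
  refine ⟨LinearMap.toMatrix Ba Bb fX, LinearMap.toMatrix Bb Ba fY, ?_, ?_⟩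
  · unfold Gmat
    rw [hP1, hP2, ← LinearMap.toMatrix_comp, ← LinearMap.toMatrix_comp, ← LinearMap.toMatrix_comp,
      ← LinearMap.toMatrix_comp]
    have : ((((s₁' ∘ₗ π₁') ∘ₗ fY) ∘ₗ (s₂' ∘ₗ π₂')) ∘ₗ fX) ∘ₗ (s₁' ∘ₗ π₁') = s₁' ∘ₗ π₁' := by
      apply LinearMap.ext
      intro x
      simp [fX, fY, hps1, hps2]
    rw [this]
    abel
  · unfold Gmat
    rw [hP1, hP2, ← LinearMap.toMatrix_comp, ← LinearMap.toMatrix_comp, ← LinearMap.toMatrix_comp,
      ← LinearMap.toMatrix_comp]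
    have : ((((s₂' ∘ₗ π₂') ∘ₗ fX) ∘ₗ (s₁' ∘ₗ π₁')) ∘ₗ fY) ∘ₗ (s₂' ∘ₗ π₂') = s₂' ∘ₗ π₂' := by
      apply LinearMap.ext
      intro x
      simp [fX, fY, hps1, hps2]
    rw [this]
    abel

end core


section main

variable {R : Type u} [CommRing R]

/-- Over an LG-ring, finite projective modules which are isomorphic modulo every maximal ideal
are isomorphic. -/
theorem nonempty_linearEquiv_of_forall_maximal (hR : LGRing.IsLGRing R)
    (M₁ : Type v) (M₂ : Type w) [AddCommGroup M₁] [Module R M₁] [Module.Finite R M₁]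
    [Module.Projective R M₁] [AddCommGroup M₂] [Module R M₂] [Module.Finite R M₂]
    [Module.Projective R M₂]
    (h : ∀ (m : Ideal R) [m.IsMaximal],
      Nonempty ((R ⧸ m) ⊗[R] M₁ ≃ₗ[R ⧸ m] (R ⧸ m) ⊗[R] M₂)) :
    Nonempty (M₁ ≃ₗ[R] M₂) := by
  classical
  obtain ⟨a, π₁, hπ₁⟩ := Module.Finite.exists_fin' R M₁
  obtain ⟨s₁, h₁⟩ := Module.projective_lifting_property π₁ LinearMap.id hπ₁
  obtain ⟨b, π₂, hπ₂⟩ := Module.Finite.exists_fin' R M₂
  obtain ⟨s₂, h₂⟩ := Module.projective_lifting_property π₂ LinearMap.id hπ₂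
  have key := representsUnit_of_fintype hR
    (Fpoly (LinearMap.toMatrix' (s₁ ∘ₗ π₁)) (LinearMap.toMatrix' (s₂ ∘ₗ π₂))) (fun m _ => by
      obtain ⟨θ⟩ := h m
      obtain ⟨Xm, Ym, g1, g2⟩ := exists_local π₁ s₁ h₁ π₂ s₂ h₂ (R ⧸ m) θ
      refine ⟨Sum.elim (fun p => Xm p.1 p.2) (fun p => Ym p.1 p.2), ?_⟩
      rw [aeval_Fpoly]
      have hx : ptX (Sum.elim (fun p : Fin b × Fin a => Xm p.1 p.2)
          (fun p : Fin a × Fin b => Ym p.1 p.2)) = Xm := by
        ext i j; rfl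
      have hy : ptY (Sum.elim (fun p : Fin b × Fin a => Xm p.1 p.2)
          (fun p : Fin a × Fin b => Ym p.1 p.2)) = Ym := by
        ext i j; rfl
      rw [hx, hy, g1, g2, Matrix.det_one, Matrix.det_one, mul_one]
      exact isUnit_one)
  obtain ⟨t, ht⟩ := key
  rw [aeval_Fpoly, Algebra.algebraMap_self, RingHom.coe_id, Matrix.map_id, Matrix.map_id,
    IsUnit.mul_iff] at ht
  exact nonempty_equiv_of_isUnit π₁ s₁ h₁ π₂ s₂ h₂ (ptX t) (ptY t) ht.1 ht.2

end main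

end Groth.Agent.Lib.Helper9.LG
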