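import Mathlib.AlgebraicGeometry.AffineScheme
import Mathlib.RingTheory.Spectrum.Prime.Topology
import Groth.Agent.Lib.Helper9.LGRing

set_option autoImplicit false
universe u
open AlgebraicGeometry MvPolynomial

namespace Groth.Agent.Lib.Helper9.LG2

theorem range_subset_compl_zeroLocus_iff {B T : Type u} [CommRing B] [CommRing T] (ψ : B →+* T)
    (t : Set B) :
    Set.range (Spec.map (CommRingCat.ofHom ψ)).base ⊆ (PrimeSpectrum.zeroLocus t)ᶜ ↔
      Ideal.span (ψ '' t) = ⊤ := by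
  constructor
  · intro h
    by_contra hne
    obtain ⟨M, hM, hle⟩ := Ideal.exists_le_maximal _ hne
    have hq : (Spec.map (CommRingCat.ofHom ψ)).base ⟨M, hM.isPrime⟩ ∈
        (PrimeSpectrum.zeroLocus t)ᶜ := h ⟨_, rfl⟩
    apply hq
    intro b hb
    change ψ b ∈ M
    exact hle (Ideal.subset_span ⟨b, hb, rfl⟩)
  · rintro h _ ⟨q, rfl⟩ hq
    have hle : Ideal.span (ψ '' t) ≤ q.asIdeal := by
      rw [Ideal.span_le]
      rintro _ ⟨b, hb, rfl⟩
      exact hq hb
    rw [h] at hle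
    exact q.2.ne_top (top_le_iff.1 hle)

theorem exists_point {R : Type u} [CommRing R] (hR : LGRing.IsLGRing R) (n : ℕ)
    (t : Finset (MvPolynomial (Fin n) R))
    (h : ∀ (m : Ideal R) [m.IsMaximal], ∃ x : Fin n → R ⧸ m,
      Ideal.span ((MvPolynomial.eval₂Hom (Ideal.Quotient.mk m) x) '' (t : Set _)) = ⊤) :
    ∃ x : Fin n → R, Ideal.span ((MvPolynomial.eval x) '' (t : Set (MvPolynomial (Fin n) R))) = ⊤ := by
  classical
  let k := t.card
  let g : Fin k → MvPolynomial (Fin n) R := fun i => (t.equivFin.symm i).1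
  have hg : ∀ b ∈ t, ∃ i, g i = b := by
    intro b hb
    refine ⟨t.equivFin ⟨b, hb⟩, ?_⟩
    simp [g]
  have hg' : ∀ i, g i ∈ t := fun i => (t.equivFin.symm i).2
  let F : MvPolynomial (Fin n ⊕ Fin k) R := ∑ i, X (Sum.inr i) * rename Sum.inl (g i)
  have hF : ∀ {T : Type u} [CommRing T] [Algebra R T] (s : Fin n ⊕ Fin k → T),
      aeval s F = ∑ i, s (Sum.inr i) * aeval (s ∘ Sum.inl) (g i) := by
    intro T _ _ s
    simp only [F, map_sum, map_mul, aeval_X, aeval_rename]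
  have key : ∃ s : Fin n ⊕ Fin k → R, IsUnit (aeval s F) := by
    apply LG.representsUnit_of_fintype hR F
    intro m _
    obtain ⟨x, hx⟩ := h m
    have : ∃ b ∈ t, (MvPolynomial.eval₂Hom (Ideal.Quotient.mk m) x) b ≠ 0 := by
      by_contra hcon
      push Not at hcon
      have : Ideal.span ((MvPolynomial.eval₂Hom (Ideal.Quotient.mk m) x) '' (t : Set _)) = ⊥ := by
        rw [Ideal.span_eq_bot]
        rintro _ ⟨b, hb, rfl⟩
        exact hcon b hb
      rw [this] at hx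
      exact bot_ne_top hx
    obtain ⟨b, hb, hne⟩ := this
    obtain ⟨i, rfl⟩ := hg b hb
    refine ⟨Sum.elim x (Pi.single i 1), ?_⟩
    rw [hF]
    have : ∑ j, (Sum.elim x (Pi.single i (1 : R ⧸ m)) (Sum.inr j)) *
        aeval (Sum.elim x (Pi.single i (1 : R ⧸ m)) ∘ Sum.inl) (g j) = aeval x (g i) := by
      rw [Finset.sum_eq_single i]
      · simp
      · intro j _ hj
        simp [hj]
      · intro hi; exact absurd (Finset.mem_univ i) hi
    rw [this]
    have hfield : IsField (R ⧸ m) := (Ideal.Quotient.maximal_ideal_iff_isField_quotient m).1 ‹_›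
    let _ := hfield.toField
    exact isUnit_iff_ne_zero.2 hne
  obtain ⟨s, hs⟩ := key
  refine ⟨s ∘ Sum.inl, ?_⟩
  rw [hF] at hs
  rw [Ideal.eq_top_iff_one]
  have hmem : ∑ i, s (Sum.inr i) * aeval (s ∘ Sum.inl) (g i) ∈
      Ideal.span ((MvPolynomial.eval (s ∘ Sum.inl)) '' (t : Set (MvPolynomial (Fin n) R))) := by
    refine sum_mem fun i _ => Ideal.mul_mem_left _ _ (Ideal.subset_span ⟨g i, hg' i, ?_⟩)
    rfl
  exact (Ideal.eq_top_of_isUnit_mem _ hmem hs) ▸ Submodule.mem_top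

theorem exists_section_in_open {R : Type u} [CommRing R] (hR : LGRing.IsLGRing R)
    (n : ℕ) (U : (Spec (CommRingCat.of (MvPolynomial (Fin n) R))).Opens)
    (hU : IsCompact (U : Set ↥(Spec (CommRingCat.of (MvPolynomial (Fin n) R)))))
    (h : ∀ (m : Ideal R) [m.IsMaximal], ∃ x : Fin n → R ⧸ m,
      Set.range (Spec.map (CommRingCat.ofHom (MvPolynomial.eval₂Hom (Ideal.Quotient.mk m) x))).base ⊆
        (U : Set ↥(Spec (CommRingCat.of (MvPolynomial (Fin n) R))))) :
    ∃ x : Fin n → R, Set.range (Spec.map (CommRingCat.ofHom (MvPolynomial.eval x))).base ⊆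
      (U : Set ↥(Spec (CommRingCat.of (MvPolynomial (Fin n) R)))) := by
  obtain ⟨t, ht⟩ := (PrimeSpectrum.isCompact_isOpen_iff (R := MvPolynomial (Fin n) R)
    (s := (U : Set ↥(Spec (CommRingCat.of (MvPolynomial (Fin n) R)))))).1 ⟨hU, U.2⟩
  have h' : ∀ (m : Ideal R) [m.IsMaximal], ∃ x : Fin n → R ⧸ m,
      Ideal.span ((MvPolynomial.eval₂Hom (Ideal.Quotient.mk m) x) '' (t : Set _)) = ⊤ := by
    intro m _
    obtain ⟨x, hx⟩ := h m
    refine ⟨x, ?_⟩
    rw [← ht] at hx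
    exact (range_subset_compl_zeroLocus_iff _ _).1 hx
  obtain ⟨x, hx⟩ := exists_point hR n t h'
  refine ⟨x, ?_⟩
  rw [← ht]
  exact (range_subset_compl_zeroLocus_iff _ _).2 hx

end Groth.Agent.Lib.Helper9.LG2
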