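import Mathlib.AlgebraicGeometry.Morphisms.FinitePresentation
import Groth.Agent.Lib.Helper9.FPColim2
import Groth.Agent.Lib.Helper9.LfpLift

set_option autoImplicit false
set_option linter.style.haveILetI false
set_option linter.unusedSectionVars false
universe u v w
open CategoryTheory CategoryTheory.Limits AlgebraicGeometry TopologicalSpace Opposite

namespace Groth.Agent.Lib.Helper9.FPColim

attribute [local instance] IsFiltered.isConnected

section
variable {A B : Type u} [CommRing A] [CommRing B] [Algebra A B]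
variable (P : Idx A B → Prop) (hC : ∀ i : Idx A B, ∃ j, P j ∧ i ≤ j)

/-- The cocone of the presentation is a colimit cocone. -/
noncomputable def isColimitCocone [IsDirected {i : Idx A B // P i} (· ≤ ·)]
    [Nonempty {i : Idx A B // P i}] : IsColimit (cocone P) := by
  apply isColimitUnder
  · intro b
    change B at b
    obtain ⟨k, hk, hle⟩ := hC (Idx.single b)
    have hb : b ∈ k.S := hle.1 (Finset.mem_singleton_self b)
    refine ⟨⟨k, hk⟩, q k (MvPolynomial.X b), ?_⟩
    change b = leg k (q k (MvPolynomial.X b))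
    rw [leg_q k (X_mem_supported' (Finset.mem_coe.mpr hb)), ev_X]
  · intro j x y hxy
    change Q j.1 at x y
    change leg j.1 x = leg j.1 y at hxy
    obtain ⟨r₁, hr₁, rfl⟩ := exists_q_eq j.1 x
    obtain ⟨r₂, hr₂, rfl⟩ := exists_q_eq j.1 y
    rw [leg_q _ hr₁, leg_q _ hr₂] at hxy
    have h0 : ev A B (r₁ - r₂) = 0 := by rw [map_sub, hxy, sub_self]
    have hmem : r₁ - r₂ ∈ MvPolynomial.supported A (j.1.S : Set B) := Subalgebra.sub_mem _ hr₁ hr₂
    obtain ⟨k, hk, hle⟩ := hC (j.1.addRel (r₁ - r₂) hmem h0)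
    have hjk : j.1 ≤ k := (Idx.le_addRel j.1 _ hmem h0).trans hle
    have hjk' : j ≤ (⟨k, hk⟩ : {i : Idx A B // P i}) := hjk
    refine ⟨⟨k, hk⟩, homOfLE hjk', ?_⟩
    change tr hjk (q j.1 r₁) = tr hjk (q j.1 r₂)
    rw [tr_q _ hr₁, tr_q _ hr₂, ← sub_eq_zero, ← map_sub]
    exact q_eq_zero_of_mem k (hle.2 (Idx.mem_addRel j.1 _ hmem h0))

end

section
variable (A B : Type u) [CommRing A] [CommRing B] [Algebra A B]

/-- The full index set as a subtype. -/
abbrev JJ : Type u := {i : Idx A B // (fun _ => True) i}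

theorem hCC : ∀ i : Idx A B, ∃ j, (fun _ => True) j ∧ i ≤ j := fun i => ⟨i, trivial, le_rfl⟩

instance : IsDirected (JJ A B) (· ≤ ·) := isDirected_sub _ (hCC A B)
instance : Nonempty (JJ A B) := nonempty_sub _ (hCC A B)

/-- The inverse system of spectra. -/
noncomputable def DD : (JJ A B)ᵒᵖ ⥤ Scheme.{u} :=
  (diag (A := A) (B := B) (fun _ => True) ⋙ Under.forget _).op ⋙ Scheme.Spec

/-- The cone with point `Spec B`. -/
noncomputable def cc : Cone (DD A B) :=
  Scheme.Spec.mapCone ((Under.forget _).mapCocone (cocone (A := A) (B := B) (fun _ => True))).op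

/-- It is a limit cone. -/
noncomputable def hcc : IsLimit (cc A B) :=
  isLimitOfPreserves Scheme.Spec
    (IsColimit.op (isColimitOfPreserves (Under.forget _) (isColimitCocone _ (hCC A B))))

instance (j : (JJ A B)ᵒᵖ) : IsAffine ((DD A B).obj j) := by
  dsimp [DD]; infer_instance

end

end Groth.Agent.Lib.Helper9.FPColim
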