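import Groth.Agent.Lib.Helper9.LfpLift2

set_option autoImplicit false
set_option linter.style.haveILetI false
set_option linter.unusedSectionVars false
universe u v w
open CategoryTheory CategoryTheory.Limits AlgebraicGeometry TopologicalSpace Opposite

namespace Groth.Agent.Lib.Helper9.LfpLift

open Groth.Agent.Lib.Helper9.FPColim

variable {X S : Scheme.{u}} (f : X ⟶ S)

section
variable {U : S.Opens} (hU : IsAffineOpen U) {V : X.Opens} (hV : IsAffineOpen V)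
  (e : V ≤ f ⁻¹ᵁ U)

/-- The algebra structure on sections. -/
@[reducible] def alg : Algebra Γ(S, U) Γ(X, V) := (f.appLE U V e).hom.toAlgebra

/-- The structure morphism of a stage. -/
noncomputable def tApp (j : (@JJ Γ(S, U) Γ(X, V) _ _ (alg f e))ᵒᵖ) :
    (@DD Γ(S, U) Γ(X, V) _ _ (alg f e)).obj j ⟶ S :=
  letI := alg f e
  Spec.map (objOf (A := Γ(S, U)) (B := Γ(X, V)) j.unop.1).hom ≫ hU.fromSpec

theorem tApp_naturality {j j' : (@JJ Γ(S, U) Γ(X, V) _ _ (alg f e))ᵒᵖ} (φ : j ⟶ j') :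
    (@DD Γ(S, U) Γ(X, V) _ _ (alg f e)).map φ ≫ tApp f hU e j' = tApp f hU e j := by
  letI := alg f e
  have h := Under.w ((diag (A := Γ(S, U)) (B := Γ(X, V)) (fun _ => True)).map φ.unop)
  change Spec.map ((diag (A := Γ(S, U)) (B := Γ(X, V)) (fun _ => True)).map φ.unop).right ≫
    Spec.map (objOf (A := Γ(S, U)) (B := Γ(X, V)) j'.unop.1).hom ≫ hU.fromSpec =
    Spec.map (objOf (A := Γ(S, U)) (B := Γ(X, V)) j.unop.1).hom ≫ hU.fromSpec
  rw [← Spec.map_comp_assoc]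
  exact congrArg (fun z => Spec.map z ≫ hU.fromSpec) h

/-- The structure morphisms as a natural transformation. -/
noncomputable def tt :
    (@DD Γ(S, U) Γ(X, V) _ _ (alg f e)) ⟶ (Functor.const _).obj S where
  app j := tApp f hU e j
  naturality _ _ φ := (tApp_naturality f hU e φ).trans (Category.comp_id _).symm

instance (j : (@JJ Γ(S, U) Γ(X, V) _ _ (alg f e))ᵒᵖ) :
    LocallyOfFinitePresentation (tApp f hU e j) := by
  letI := alg f e
  have h1 : LocallyOfFinitePresentation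
      (Spec.map (objOf (A := Γ(S, U)) (B := Γ(X, V)) j.unop.1).hom) := by
    rw [LocallyOfFinitePresentation.SpecMap_iff]
    exact (RingHom.finitePresentation_algebraMap (A := Γ(S, U)) (B := Q j.unop.1)).mpr
      (finitePresentation_Q j.unop.1)
  haveI := hU.isOpenImmersion_fromSpec
  exact @locallyOfFinitePresentation_comp _ _ _ _ _ h1 inferInstance

theorem cone_comp_tApp (j : (@JJ Γ(S, U) Γ(X, V) _ _ (alg f e))ᵒᵖ) :
    (@cc Γ(S, U) Γ(X, V) _ _ (alg f e)).π.app j ≫ tApp f hU e j = hV.fromSpec ≫ f := by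
  letI := alg f e
  have h := Under.w ((cocone (A := Γ(S, U)) (B := Γ(X, V)) (fun _ => True)).ι.app j.unop)
  change Spec.map ((cocone (A := Γ(S, U)) (B := Γ(X, V)) (fun _ => True)).ι.app j.unop).right ≫
    Spec.map (objOf (A := Γ(S, U)) (B := Γ(X, V)) j.unop.1).hom ≫ hU.fromSpec = hV.fromSpec ≫ f
  rw [← Spec.map_comp_assoc, ← IsAffineOpen.SpecMap_appLE_fromSpec f hU hV e]
  exact congrArg (fun z => Spec.map z ≫ hU.fromSpec) h

/-- If `Spec Γ(X, V) ⟶ X` factors through a stage, then `V` is locally of finite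
presentation over `S`. -/
theorem of_stage (j : (@JJ Γ(S, U) Γ(X, V) _ _ (alg f e))ᵒᵖ)
    (gj : (@DD Γ(S, U) Γ(X, V) _ _ (alg f e)).obj j ⟶ X)
    (h1 : gj ≫ f = tApp f hU e j)
    (h2 : (@cc Γ(S, U) Γ(X, V) _ _ (alg f e)).π.app j ≫ gj = hV.fromSpec) :
    LocallyOfFinitePresentation (V.ι ≫ f) := by
  let p0 : Spec Γ(X, V) ⟶ (@DD Γ(S, U) Γ(X, V) _ _ (alg f e)).obj j :=
    (@cc Γ(S, U) Γ(X, V) _ _ (alg f e)).π.app j
  have h2' : p0 ≫ gj = hV.fromSpec := h2
  refine of_factor f (tApp f hU e j) (hV.isoSpec.hom ≫ p0) gj h1 ?_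
  rw [Category.assoc, h2', IsAffineOpen.isoSpec_hom_fromSpec]

end

/-- Main criterion. -/
theorem main
    (H : ∀ (U : S.Opens) (hU : IsAffineOpen U) (V : X.Opens) (hV : IsAffineOpen V)
      (e : V ≤ f ⁻¹ᵁ U), ∃ (j : (@JJ Γ(S, U) Γ(X, V) _ _ (alg f e))ᵒᵖ)
      (gj : (@DD Γ(S, U) Γ(X, V) _ _ (alg f e)).obj j ⟶ X),
      gj ≫ f = tApp f hU e j ∧
      (@cc Γ(S, U) Γ(X, V) _ _ (alg f e)).π.app j ≫ gj = hV.fromSpec) :
    LocallyOfFinitePresentation f := by
  refine of_forall_exists_nhds f fun x => ?_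
  obtain ⟨_, ⟨U, hU, rfl⟩, hxU, -⟩ :=
    S.isBasis_affineOpens.exists_subset_of_mem_open (Set.mem_univ (f x)) isOpen_univ
  obtain ⟨V, hV, hxV, hVU⟩ := exists_isAffineOpen_mem_and_subset (x := x) (U := f ⁻¹ᵁ U) hxU
  obtain ⟨j, gj, h1, h2⟩ := H U hU V hV hVU
  exact ⟨V, hxV, of_stage f hU hV hVU j gj h1 h2⟩

end Groth.Agent.Lib.Helper9.LfpLift
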