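import Groth.Agent.Lib.Helper9.LfpLift3
import Mathlib.CategoryTheory.Limits.Types.Colimits

set_option autoImplicit false
set_option linter.style.haveILetI false
set_option linter.unusedSectionVars false
universe u v w
open CategoryTheory CategoryTheory.Limits AlgebraicGeometry TopologicalSpace Opposite

namespace Groth.Agent.Lib.Helper9.LfpLift

open Groth.Agent.Lib.Helper9.FPColim

variable {X S : Scheme.{u}} (f : X ⟶ S)

section
variable {U : S.Opens} (hU : IsAffineOpen U) {V : X.Opens} (hV : IsAffineOpen V)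
  (e : V ≤ f ⁻¹ᵁ U)

/-- The structure morphisms to `U`. -/
noncomputable def tU :
    (@DD Γ(S, U) Γ(X, V) _ _ (alg f e)) ⟶ (Functor.const _).obj (U : Scheme.{u}) where
  app j := letI := alg f e
    Spec.map (objOf (A := Γ(S, U)) (B := Γ(X, V)) j.unop.1).hom ≫ hU.isoSpec.inv
  naturality j j' φ := by
    letI := alg f e
    have h := Under.w ((diag (A := Γ(S, U)) (B := Γ(X, V)) (fun _ => True)).map φ.unop)
    change Spec.map ((diag (A := Γ(S, U)) (B := Γ(X, V)) (fun _ => True)).map φ.unop).right ≫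
      Spec.map (objOf (A := Γ(S, U)) (B := Γ(X, V)) j'.unop.1).hom ≫ hU.isoSpec.inv =
      (Spec.map (objOf (A := Γ(S, U)) (B := Γ(X, V)) j.unop.1).hom ≫ hU.isoSpec.inv) ≫ 𝟙 _
    rw [← Spec.map_comp_assoc, Category.comp_id]
    exact congrArg (fun z => Spec.map z ≫ hU.isoSpec.inv) h

/-- The system over `U`. -/
noncomputable def ZU : (@JJ Γ(S, U) Γ(X, V) _ _ (alg f e))ᵒᵖ ⥤ Over (U : Scheme.{u}) :=
  Over.lift _ (tU f hU e)

theorem ZU_map_eq : ZU f hU e ⋙ Over.map U.ι = Over.lift _ (tt f hU e) := rfl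

instance (j : (@JJ Γ(S, U) Γ(X, V) _ _ (alg f e))ᵒᵖ) : IsAffine ((ZU f hU e).obj j).left :=
  inferInstanceAs (IsAffine ((@DD Γ(S, U) Γ(X, V) _ _ (alg f e)).obj j))

/-- The limit cone in `Over S`. -/
noncomputable def coneS : Cone (Over.lift _ (tt f hU e)) :=
  Over.liftCone _ (tt f hU e) (@cc Γ(S, U) Γ(X, V) _ _ (alg f e)) (hV.fromSpec ≫ f)
    (fun j => cone_comp_tApp f hU hV e j)

/-- It is a limit cone. -/
noncomputable def isLimitConeS : IsLimit (coneS f hU hV e) :=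
  Over.isLimitLiftCone _ _ _ _ _ (@hcc Γ(S, U) Γ(X, V) _ _ (alg f e))

theorem exists_of_preserves
    (hP : PreservesColimit (ZU f hU e ⋙ Over.map U.ι).op (yoneda.obj (Over.mk f))) :
    ∃ (j : (@JJ Γ(S, U) Γ(X, V) _ _ (alg f e))ᵒᵖ)
      (gj : (@DD Γ(S, U) Γ(X, V) _ _ (alg f e)).obj j ⟶ X),
      gj ≫ f = tApp f hU e j ∧
      (@cc Γ(S, U) Γ(X, V) _ _ (alg f e)).π.app j ≫ gj = hV.fromSpec := by
  rw [ZU_map_eq] at hP
  have hcol := isColimitOfPreserves (yoneda.obj (Over.mk f)) (IsLimit.op (isLimitConeS f hU hV e))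
  let x : (coneS f hU hV e).pt ⟶ Over.mk f := Over.homMk (U := Over.mk (hV.fromSpec ≫ f))
    (V := Over.mk f) hV.fromSpec rfl
  obtain ⟨j, y, hy⟩ := Types.jointly_surjective_of_isColimit hcol x
  change (Over.lift _ (tt f hU e)).obj j.unop ⟶ Over.mk f at y
  refine ⟨j.unop, y.left, Over.w y, ?_⟩
  have := congrArg CommaMorphism.left hy
  exact this

end

end Groth.Agent.Lib.Helper9.LfpLift
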