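import Mathlib
import Groth.Prelude.Def_W4c6modpairsegaMP
import Groth.Agent.Lib.Helper29.EffCart2
import Groth.Agent.Lib.Helper9.MProd

set_option autoImplicit false
universe u
open CategoryTheory CategoryTheory.Limits AlgebraicGeometry TopologicalSpace

namespace Groth.Agent.Lib.Helper9.MProd2

open Groth.Agent.Lib.Helper29.EffCart Groth.Agent.Lib.Helper9.AdmCoprod
  Groth.Agent.Lib.Helper9.MProd

/-- A morphism from a pair whose interior lands in an open `U` factors through the
scheme-theoretic closure of `U`. -/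
lemma ker_le_of_interior_le {W P : Scheme.{u}} (IW : W.IdealSheafData)
    (hW : BlowUp.IsEffCartierIdeal IW) (φ : W ⟶ P) (U : P.Opens)
    (h : ModPair.interior IW ≤ φ ⁻¹ᵁ U) : U.ι.ker ≤ φ.ker := by
  let ψ : (ModPair.interior IW : Scheme.{u}) ⟶ U :=
    IsOpenImmersion.lift U.ι ((ModPair.interior IW).ι ≫ φ) (by
      rw [Scheme.Opens.range_ι]
      rintro _ ⟨w, rfl⟩
      exact h w.2)
  have hψ : ψ ≫ U.ι = (ModPair.interior IW).ι ≫ φ := IsOpenImmersion.lift_fac _ _ _
  have h1 : U.ι.ker ≤ (ψ ≫ U.ι).ker := Scheme.Hom.le_ker_comp ψ U.ι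
  have h2 : (ModPair.interior IW).ι.ker = ⊥ := ker_ι_compl_support_eq_bot IW hW
  rw [hψ, Scheme.Hom.ker_comp, h2, Scheme.IdealSheafData.map_bot] at h1
  exact h1

theorem main_aux {S T X : Scheme.{u}} (IS : S.IdealSheafData)
    (IT : T.IdealSheafData) (IX : X.IdealSheafData)
    (hX : BlowUp.IsEffCartierIdeal IX)
    (p : X ⟶ S) (hp : ModPair.IsAmbient IX IS p) (f : T ⟶ S) (hf : ModPair.IsMinimal IT IS f)
    (U : (pullback p f).Opens) (hU : U = pullback.fst p f ⁻¹ᵁ ModPair.interior IX) :
    BlowUp.IsEffCartierIdeal (IX.comap (U.ι.imageι ≫ pullback.fst p f)) ∧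
      ModPair.IsAmbient (IX.comap (U.ι.imageι ≫ pullback.fst p f)) IT
        (U.ι.imageι ≫ pullback.snd p f) ∧
      ∀ (W : Scheme.{u}) (IW : W.IdealSheafData), BlowUp.IsEffCartierIdeal IW →
        ∀ (a : W ⟶ T) (b : W ⟶ X), ModPair.IsAmbient IW IT a → ModPair.IsAmbient IW IX b →
          a ≫ f = b ≫ p →
          ∃! c : W ⟶ U.ι.image,
            c ≫ U.ι.imageι ≫ pullback.snd p f = a ∧
              c ≫ U.ι.imageι ≫ pullback.fst p f = b ∧
              ModPair.IsAmbient IW (IX.comap (U.ι.imageι ≫ pullback.fst p f)) c := by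
  subst hU
  have qcV : QuasiCompact (ModPair.interior IX).ι :=
    quasiCompact_ι IX hX (ModPair.interior IX) ⊥ (by simp) disjoint_bot_right
  have qcU : QuasiCompact (pullback.fst p f ⁻¹ᵁ ModPair.interior IX).ι :=
    MorphismProperty.of_isPullback (P := @QuasiCompact)
      (isPullback_morphismRestrict (pullback.fst p f) (ModPair.interior IX)) qcV
  refine ⟨?_, ?_, ?_⟩
  · rw [Scheme.IdealSheafData.comap_comp]
    exact isEffCartier_comap_imageι' _ (isLocPrincipal_comap IX hX _) _
      (le_of_eq (interior_comap IX _).symm)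
  · change _ ≤ _
    have hf' : IT = IS.comap f := hf
    rw [hf', ← Scheme.IdealSheafData.comap_comp, Category.assoc, ← pullback.condition,
      ← Category.assoc, Scheme.IdealSheafData.comap_comp _ _ p]
    exact Scheme.IdealSheafData.comap_mono _ hp
  · intro W IW hW a b ha hb hab
    set ι := (pullback.fst p f ⁻¹ᵁ ModPair.interior IX).ι.imageι with hι
    let φ : W ⟶ pullback p f := pullback.lift b a hab.symm
    have hφ1 : φ ≫ pullback.fst p f = b := pullback.lift_fst _ _ _
    have hφ2 : φ ≫ pullback.snd p f = a := pullback.lift_snd _ _ _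
    have hint : ModPair.interior IW ≤ φ ⁻¹ᵁ (pullback.fst p f ⁻¹ᵁ ModPair.interior IX) := by
      have h1 : ModPair.interior IW ≤ b ⁻¹ᵁ ModPair.interior IX := by
        rw [← interior_comap]; exact interior_mono hb
      intro w hw
      change pullback.fst p f (φ w) ∈ ModPair.interior IX
      rw [← Scheme.Hom.comp_apply, hφ1]
      exact h1 hw
    have hker : ι.ker ≤ φ.ker := by
      rw [hι, Scheme.IdealSheafData.ker_subschemeι]
      exact ker_le_of_interior_le IW hW φ _ hint
    refine ⟨IsClosedImmersion.lift ι φ hker, ⟨?_, ?_, ?_⟩, ?_⟩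
    · rw [IsClosedImmersion.lift_fac_assoc, hφ2]
    · rw [IsClosedImmersion.lift_fac_assoc, hφ1]
    · change _ ≤ _
      rw [← Scheme.IdealSheafData.comap_comp, IsClosedImmersion.lift_fac_assoc, hφ1]
      exact hb
    · rintro c ⟨hc1, hc2, -⟩
      rw [← cancel_mono ι, IsClosedImmersion.lift_fac]
      apply pullback.hom_ext
      · rw [Category.assoc, hc2, hφ1]
      · rw [Category.assoc, hc1, hφ2]

theorem main {S T X : Scheme.{u}} (IS : S.IdealSheafData)
    (IT : T.IdealSheafData) (IX : X.IdealSheafData)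
    (hX : BlowUp.IsEffCartierIdeal IX)
    (p : X ⟶ S) (hp : ModPair.IsAmbient IX IS p) (f : T ⟶ S) (hf : ModPair.IsMinimal IT IS f) :
    BlowUp.IsEffCartierIdeal (IX.comap (ModPair.mprodι p f IX IT ≫ pullback.fst p f)) ∧
      ModPair.IsAmbient (IX.comap (ModPair.mprodι p f IX IT ≫ pullback.fst p f)) IT
        (ModPair.mprodι p f IX IT ≫ pullback.snd p f) ∧
      ∀ (W : Scheme.{u}) (IW : W.IdealSheafData), BlowUp.IsEffCartierIdeal IW →
        ∀ (a : W ⟶ T) (b : W ⟶ X), ModPair.IsAmbient IW IT a → ModPair.IsAmbient IW IX b →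
          a ≫ f = b ≫ p →
          ∃! c : W ⟶ ModPair.mprod p f IX IT,
            c ≫ ModPair.mprodι p f IX IT ≫ pullback.snd p f = a ∧
              c ≫ ModPair.mprodι p f IX IT ≫ pullback.fst p f = b ∧
              ModPair.IsAmbient IW (IX.comap (ModPair.mprodι p f IX IT ≫ pullback.fst p f)) c := by
  have hV : ModPair.interior IX ≤ p ⁻¹ᵁ ModPair.interior IS := by
    rw [← interior_comap]; exact interior_mono hp
  have hU : ModPair.prodInterior p f IX IT = pullback.fst p f ⁻¹ᵁ ModPair.interior IX := by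
    unfold ModPair.prodInterior
    rw [inf_eq_left]
    have hf' : IT = IS.comap f := hf
    have : ModPair.interior IT = f ⁻¹ᵁ ModPair.interior IS := by rw [hf', interior_comap]
    rw [this]
    intro q hq
    change f (pullback.snd p f q) ∈ ModPair.interior IS
    rw [← Scheme.Hom.comp_apply, ← pullback.condition, Scheme.Hom.comp_apply]
    exact hV hq
  exact main_aux IS IT IX hX p hp f hf _ hU

end Groth.Agent.Lib.Helper9.MProd2
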