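import Groth.Agent.Lib.Helper9.LimClosed1
import Groth.Agent.Lib.Helper9.MProd2

set_option autoImplicit false
universe u
open CategoryTheory CategoryTheory.Limits AlgebraicGeometry TopologicalSpace

namespace Groth.Agent.Lib.Helper9.LimClosed

open Groth.Agent.Lib.Helper29.EffCart

/-- a closed immersion which is an isomorphism over the interior of an effective Cartier
divisor is an isomorphism -/
lemma isIso_of_isClosedImmersion_of_isIso_interior {X X' : Scheme.{u}} (π : X ⟶ X')
    [IsClosedImmersion π] (J : X'.IdealSheafData) (hJ : BlowUp.IsEffCartierIdeal J)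
    (h : IsIso (π ∣_ ModPair.interior J)) : IsIso π := by
  rw [IsClosedImmersion.isIso_iff_ker_eq_bot, eq_bot_iff]
  have h2 : (ModPair.interior J).ι.ker = ⊥ := ker_ι_compl_support_eq_bot J hJ
  let σ : (ModPair.interior J : Scheme.{u}) ⟶ X :=
    inv (π ∣_ ModPair.interior J) ≫ (π ⁻¹ᵁ ModPair.interior J).ι
  have hσ : σ ≫ π = (ModPair.interior J).ι := by
    simp only [σ, Category.assoc]
    rw [← morphismRestrict_ι, IsIso.inv_hom_id_assoc]
  rw [← h2, ← hσ]
  exact Scheme.Hom.le_ker_comp σ π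

theorem lfp_of_limit {Y : Scheme.{u}} (IY : Y.IdealSheafData)
    {I : Type u} [SmallCategory I] [IsCofiltered I] (D : I ⥤ Over Y) (c : Cone D) (hc : IsLimit c)
    [∀ (i j : I) (t : i ⟶ j), IsAffineHom (D.map t).left]
    [∀ i, CompactSpace (D.obj i).left]
    (hI : ∀ i, BlowUp.IsEffCartierIdeal (IY.comap (D.obj i).hom))
    (hadm : ∀ i, ModPair.IsAdmBlowup (IY.comap (D.obj i).hom) IY (D.obj i).hom)
    [∀ i, LocallyOfFinitePresentation (D.obj i).hom]
    (hXadm : ModPair.IsAdmBlowup (IY.comap c.pt.hom) IY c.pt.hom) :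
    LocallyOfFinitePresentation c.pt.hom := by
  have hprop : IsProper c.pt.hom := hXadm.2.1
  have hlft : LocallyOfFiniteType (𝟙 c.pt.left ≫ c.pt.hom) := by
    rw [Category.id_comp]; infer_instance
  obtain ⟨i, hi⟩ := exists_isClosedImmersion_over Y D c hc (𝟙 c.pt.left)
  rw [Category.id_comp] at hi
  set π := (c.π.app i).left with hπ
  set U := ModPair.interior IY with hU
  have hw : π ≫ (D.obj i).hom = c.pt.hom := Over.w (c.π.app i)
  have h3 : IsIso ((π ≫ (D.obj i).hom) ∣_ U) := by
    rw [hw]; exact hXadm.2.2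
  have h4 : IsIso ((D.obj i).hom ∣_ U) := (hadm i).2.2
  rw [morphismRestrict_comp] at h3
  have h5 : IsIso (π ∣_ ((D.obj i).hom ⁻¹ᵁ U)) :=
    @IsIso.of_isIso_comp_right _ _ _ _ _ _ ((D.obj i).hom ∣_ U) h4 h3
  have h6 : ModPair.interior (IY.comap (D.obj i).hom) = (D.obj i).hom ⁻¹ᵁ U :=
    Groth.Agent.Lib.Helper9.MProd.interior_comap IY (D.obj i).hom
  have h7 : IsIso π := by
    apply isIso_of_isClosedImmersion_of_isIso_interior π (IY.comap (D.obj i).hom) (hI i)
    rw [h6]; exact h5
  rw [← hw]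
  infer_instance

end Groth.Agent.Lib.Helper9.LimClosed
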