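import Groth.Agent.Lib.Helper9.LimClosed1

set_option autoImplicit false
universe u
open CategoryTheory CategoryTheory.Limits AlgebraicGeometry TopologicalSpace

namespace Groth.Agent.Lib.Helper9.LimClosed

variable {I : Type u} [SmallCategory I] [IsCofiltered I] (D : I ⥤ Scheme.{u})
  (c : Cone D) (hc : IsLimit c) [∀ {i j : I} (f : i ⟶ j), IsAffineHom (D.map f)]
  [∀ i, CompactSpace (D.obj i)] [∀ i, QuasiSeparatedSpace (D.obj i)]

include hc in
lemma exists_isAffineOpen_preimage (i₀ : I) (W : (D.obj i₀).Opens)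
    (hWc : IsCompact (W : Set (D.obj i₀))) (hW : IsAffineOpen (c.π.app i₀ ⁻¹ᵁ W)) :
    ∃ (j : I) (u : j ⟶ i₀), IsAffineOpen (D.map u ⁻¹ᵁ W) := by
  have h1 : ∀ j : Over i₀, CompactSpace ((opensDiagram D i₀ W).obj j) := fun j =>
    isCompact_iff_compactSpace.mp
      (QuasiCompact.isCompact_preimage (f := D.map j.hom) _ W.isOpen hWc)
  have h2 : ∀ j : Over i₀, QuasiSeparatedSpace ((opensDiagram D i₀ W).obj j) := fun j =>
    (D.map j.hom ⁻¹ᵁ W).ι.isOpenEmbedding.quasiSeparatedSpace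
  have h3 : IsAffine (opensCone D c i₀ W).pt := hW
  obtain ⟨j, hj⟩ := Scheme.exists_isAffine_of_isLimit (opensDiagram D i₀ W) (opensCone D c i₀ W)
    (isLimitOpensCone D c hc i₀ W)
  exact ⟨j.left, j.hom, hj⟩

variable {S : Scheme.{u}} (t : D ⟶ (Functor.const I).obj S)

omit [IsCofiltered I] [∀ {i j : I} (f : i ⟶ j), IsAffineHom (D.map f)]
  [∀ i, CompactSpace (D.obj i)] [∀ i, QuasiSeparatedSpace (D.obj i)] in
lemma t_naturality {i j : I} (u : i ⟶ j) : D.map u ≫ t.app j = t.app i := by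
  simp

include hc in
lemma exists_isAffineHom [CompactSpace S] [QuasiSeparatedSpace S] (i₀ : I)
    [IsAffineHom (c.π.app i₀ ≫ t.app i₀)] :
    ∃ (j : I) (_ : j ⟶ i₀), IsAffineHom (t.app j) := by
  classical
  obtain ⟨F, hF⟩ := isCompact_univ.elim_finite_subcover (fun V : S.affineOpens => (V.1 : Set S))
    (fun V => V.1.isOpen) (fun x _ => by
      obtain ⟨_, ⟨V, hV, rfl⟩, hxV, -⟩ := S.isBasis_affineOpens.exists_subset_of_mem_open
        (Set.mem_univ x) isOpen_univ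
      exact Set.mem_iUnion.2 ⟨⟨V, hV⟩, hxV⟩)
  have hqc : QuasiCompact (t.app i₀) := quasiCompact_of_compactSpace (Y := S) (t.app i₀)
  have hstage : ∀ V : S.affineOpens, ∃ (j : I) (u : j ⟶ i₀),
      IsAffineOpen (D.map u ⁻¹ᵁ (t.app i₀ ⁻¹ᵁ V.1)) := by
    intro V
    apply exists_isAffineOpen_preimage D c hc i₀
    · exact QuasiCompact.isCompact_preimage (f := t.app i₀) _ V.1.isOpen V.2.isCompact
    · rw [← Scheme.Hom.comp_preimage]
      exact V.2.preimage _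
  choose jV uV hV using hstage
  obtain ⟨j, u, w, hw⟩ := IsCofiltered.wideCospan (I := ↥F) (fun V => uV V.1)
  refine ⟨j, u, ?_⟩
  rw [HasAffineProperty.iff_of_iSup_eq_top (P := @IsAffineHom) (fun V : ↥F => V.1)]
  · intro V
    change IsAffineOpen (t.app j ⁻¹ᵁ V.1.1)
    have h1 : t.app j ⁻¹ᵁ V.1.1 = D.map (w V) ⁻¹ᵁ (D.map (uV V.1) ⁻¹ᵁ (t.app i₀ ⁻¹ᵁ V.1.1)) := by
      rw [← Scheme.Hom.comp_preimage, ← Scheme.Hom.comp_preimage, ← D.map_comp, hw V,
        t_naturality]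
    rw [h1]
    exact (hV V.1).preimage _
  · apply top_le_iff.1
    intro x _
    have hx := hF (Set.mem_univ x)
    simp only [Set.mem_iUnion] at hx
    obtain ⟨V, hVF, hxV⟩ := hx
    exact Opens.mem_iSup.2 ⟨⟨V, hVF⟩, hxV⟩

include hc in
/-- one affine open of the base: surjectivity on sections at a later stage -/
lemma exists_surjective_app_t [∀ {i j : I} (f : i ⟶ j), IsClosedImmersion (D.map f)]
    (j₀ : I) [IsAffineHom (t.app j₀)] [LocallyOfFiniteType (t.app j₀)]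
    [IsClosedImmersion (c.π.app j₀ ≫ t.app j₀)] (V : S.Opens) (hV : IsAffineOpen V) :
    ∃ (l : I) (_ : l ⟶ j₀), ∀ (k : I) (_ : k ⟶ l),
      Function.Surjective ((t.app k).app V) := by
  classical
  set W : (D.obj j₀).Opens := t.app j₀ ⁻¹ᵁ V with hWdef
  have hW : IsAffineOpen W := hV.preimage (t.app j₀)
  have hft := HasRingHomProperty.appLE (P := @LocallyOfFiniteType)
    (t.app j₀) inferInstance ⟨V, hV⟩ ⟨W, hW⟩ le_rfl
  set α := (t.app j₀).appLE V W le_rfl with hα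
  letI : Algebra Γ(S, V) Γ(D.obj j₀, W) := α.hom.toAlgebra
  have hft' : Algebra.FiniteType Γ(S, V) Γ(D.obj j₀, W) := hft
  obtain ⟨G, hG⟩ := (Algebra.FiniteType.out : (⊤ : Subalgebra Γ(S, V) Γ(D.obj j₀, W)).FG)
  -- each generator agrees with an element of the base at a later stage
  have hstage : ∀ x : Γ(D.obj j₀, W), ∃ (a : Γ(S, V)) (k : I) (f : k ⟶ j₀),
      (D.map f).app W (α.hom a) = (D.map f).app W x := by
    intro x
    obtain ⟨a, ha⟩ := (c.π.app j₀ ≫ t.app j₀).app_surjective V hV ((c.π.app j₀).app W x)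
    have h1 : (c.π.app j₀ ≫ t.app j₀).app V = (t.app j₀).app V ≫ (c.π.app j₀).app W :=
      Scheme.Hom.comp_app _ _ _
    have ha' : ((c.π.app j₀).app W).hom (((t.app j₀).app V).hom a) =
        ((c.π.app j₀).app W).hom x := by
      rw [← ha, h1]; rfl
    obtain ⟨k, f, hk⟩ := exists_app_map_eq_map_of_isLimit D c hc hW.isCompact
      ((t.app j₀).app V a) x ha'
    refine ⟨a, k, f, ?_⟩
    rw [hα, Scheme.Hom.appLE_eq_app]
    exact hk
  choose ax kx fx hx using hstage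
  obtain ⟨l, v, w, hw⟩ := IsCofiltered.wideCospan (I := ↥G) (fun x => fx x.1)
  refine ⟨l, v, fun k r => ?_⟩
  set O : (D.obj k).Opens := D.map (r ≫ v) ⁻¹ᵁ W with hO
  have hOV : O = t.app k ⁻¹ᵁ V := by
    rw [hO, hWdef, ← Scheme.Hom.comp_preimage, t_naturality]
  rw [Scheme.Hom.app_eq_appLE]
  refine (Scheme.Hom.appLE_congr (t.app k) (U := V) (V := O) hOV.le rfl hOV
    (fun φ => Function.Surjective φ)).1 ?_
  set ρ := (t.app k).appLE V O hOV.le with hρ
  set σ := (D.map (r ≫ v)).appLE W O le_rfl with hσ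
  have hσs : Function.Surjective σ := by
    rw [hσ, Scheme.Hom.appLE_eq_app]
    exact (D.map (r ≫ v)).app_surjective W hW
  have h1 : α ≫ σ = ρ := by
    rw [hα, hσ, Scheme.Hom.appLE_comp_appLE, hρ]
    exact appLE_congr_hom (t_naturality D t (r ≫ v)) _ _ _
  have h2 : ∀ x ∈ G, σ.hom x = σ.hom (α.hom (ax x)) := by
    intro x hxG
    have hcomp : D.map (r ≫ w ⟨x, hxG⟩) ≫ D.map (fx x) = D.map (r ≫ v) := by
      rw [← D.map_comp, Category.assoc, hw ⟨x, hxG⟩]
    have hle : O ≤ D.map (r ≫ w ⟨x, hxG⟩) ⁻¹ᵁ (D.map (fx x) ⁻¹ᵁ W) := by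
      change O ≤ (D.map (r ≫ w ⟨x, hxG⟩) ≫ D.map (fx x)) ⁻¹ᵁ W
      rw [hcomp]
    have h4 : (D.map (r ≫ w ⟨x, hxG⟩) ≫ D.map (fx x)).appLE W O
        (by rw [hcomp]) = σ := by
      rw [hσ]
      exact appLE_congr_hom hcomp _ _ _
    have key : ∀ y : Γ(D.obj j₀, W),
        ((D.map (r ≫ w ⟨x, hxG⟩)).appLE (D.map (fx x) ⁻¹ᵁ W) O hle).hom
          (((D.map (fx x)).app W).hom y) = σ.hom y := by
      intro y
      rw [← h4, ← Scheme.Hom.appLE_comp_appLE (D.map (r ≫ w ⟨x, hxG⟩)) (D.map (fx x)) W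
        (D.map (fx x) ⁻¹ᵁ W) O le_rfl hle, Scheme.Hom.appLE_eq_app]
      rfl
    have h3 := congrArg ((D.map (r ≫ w ⟨x, hxG⟩)).appLE (D.map (fx x) ⁻¹ᵁ W) O hle).hom (hx x)
    exact ((key x).symm.trans h3.symm).trans (key _)
  let T : Subalgebra Γ(S, V) Γ(D.obj j₀, W) :=
    { toSubsemiring := ((ρ.hom.range).comap σ.hom).toSubsemiring
      algebraMap_mem' := fun a => ⟨a, by
        change ρ.hom a = σ.hom (α.hom a)
        rw [← h1]; rfl⟩ }
  have hGT : (G : Set Γ(D.obj j₀, W)) ⊆ T := by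
    intro x hxG
    refine ⟨ax x, ?_⟩
    change ρ.hom (ax x) = σ.hom x
    rw [h2 x hxG, ← h1]; rfl
  have htop : T = ⊤ := by
    apply top_le_iff.1
    rw [← hG]
    exact Algebra.adjoin_le hGT
  intro z
  obtain ⟨b, rfl⟩ := hσs z
  have hb : b ∈ T := by rw [htop]; trivial
  obtain ⟨a, ha⟩ := hb
  exact ⟨a, ha⟩

include hc in
theorem exists_isClosedImmersion_t [CompactSpace S] [QuasiSeparatedSpace S]
    [∀ {i j : I} (f : i ⟶ j), IsClosedImmersion (D.map f)]
    [∀ i, LocallyOfFiniteType (t.app i)] (i₀ : I) [IsClosedImmersion (c.π.app i₀ ≫ t.app i₀)] :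
    ∃ i : I, IsClosedImmersion (t.app i) := by
  classical
  obtain ⟨j₀, u₀, hj₀⟩ := exists_isAffineHom D c hc t i₀
  have hcomp : c.π.app j₀ ≫ t.app j₀ = c.π.app i₀ ≫ t.app i₀ := by
    rw [← t_naturality D t u₀, ← Category.assoc, c.w]
  have hci : IsClosedImmersion (c.π.app j₀ ≫ t.app j₀) := by rw [hcomp]; infer_instance
  obtain ⟨F, hF⟩ := isCompact_univ.elim_finite_subcover (fun V : S.affineOpens => (V.1 : Set S))
    (fun V => V.1.isOpen) (fun x _ => by
      obtain ⟨_, ⟨V, hV, rfl⟩, hxV, -⟩ := S.isBasis_affineOpens.exists_subset_of_mem_open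
        (Set.mem_univ x) isOpen_univ
      exact Set.mem_iUnion.2 ⟨⟨V, hV⟩, hxV⟩)
  choose lV vV hlV using fun V : S.affineOpens =>
    exists_surjective_app_t D c hc t j₀ V.1 V.2
  obtain ⟨l, v, w, hw⟩ := IsCofiltered.wideCospan (I := ↥F) (fun V => vV V.1)
  refine ⟨l, ?_⟩
  have haff : IsAffineHom (t.app l) := by
    rw [← t_naturality D t v]; infer_instance
  refine IsZariskiLocalAtTarget.of_iSup_eq_top (P := @IsClosedImmersion)
    (fun V : ↥F => V.1.1) ?_ ?_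
  · apply top_le_iff.1
    intro x _
    have hx := hF (Set.mem_univ x)
    simp only [Set.mem_iUnion] at hx
    obtain ⟨V, hVF, hxV⟩ := hx
    exact Opens.mem_iSup.2 ⟨⟨V, hVF⟩, hxV⟩
  · intro V
    exact isClosedImmersion_morphismRestrict_of_surjective (t.app l) V.1.1 V.1.2
      (V.1.2.preimage (t.app l)) (hlV V.1 l (w V))

end Groth.Agent.Lib.Helper9.LimClosed
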