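import Mathlib.AlgebraicGeometry.AffineTransitionLimit
import Mathlib.AlgebraicGeometry.Morphisms.SchemeTheoreticallyDominant

namespace Groth.Agent.Lib.Helper9.LimHomFT

open CategoryTheory CategoryTheory.Limits AlgebraicGeometry AlgebraicGeometry.Scheme

universe u

theorem isoSpec_inv_appTop' (T : Scheme.{u}) [IsAffine T] :
    T.isoSpec.inv.appTop = (Scheme.ΓSpecIso Γ(T, ⊤)).inv := by
  have h1 : T.isoSpec.inv.appTop ≫ T.isoSpec.hom.appTop = 𝟙 _ := by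
    rw [← Scheme.Hom.comp_appTop, Iso.hom_inv_id]
    rfl
  rw [Scheme.isoSpec_hom, Scheme.toSpecΓ_appTop] at h1
  rw [← cancel_mono (Scheme.ΓSpecIso Γ(T, ⊤)).hom, h1, Iso.inv_hom_id]

/-- morphisms into an affine scheme are given by maps on global sections. -/
theorem exists_hom_appTop_eq {Z X : Scheme.{u}} [IsAffine X] (θ : Γ(X, ⊤) ⟶ Γ(Z, ⊤)) :
    ∃ g : Z ⟶ X, g.appTop = θ := by
  refine ⟨Z.toSpecΓ ≫ Spec.map θ ≫ X.isoSpec.inv, ?_⟩
  rw [Scheme.Hom.comp_appTop, Scheme.Hom.comp_appTop, isoSpec_inv_appTop', Scheme.toSpecΓ_appTop,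
    Category.assoc, Scheme.ΓSpecIso_naturality, Iso.inv_hom_id_assoc]

section

variable {I : Type u} [Category.{u} I] {S X : Scheme.{u}} (D : I ⥤ Scheme.{u})
  (t : D ⟶ (Functor.const I).obj S) (f : X ⟶ S) (c : Cone D) (hc : IsLimit c)

include hc in
theorem appTop_π_injective [IsCofiltered I] [∀ i, IsAffine (D.obj i)]
    (hinj : ∀ {i j : I} (g : i ⟶ j), Function.Injective (D.map g).appTop) (i : I) :
    Function.Injective (c.π.app i).appTop := by
  rw [injective_iff_map_eq_zero]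
  intro s hs
  obtain ⟨j, g, hj⟩ := exists_appTop_map_eq_zero_of_isAffine_of_isLimit D c hc i s hs
  exact (injective_iff_map_eq_zero _).mp (hinj g) s hj

include hc in
theorem exists_of_isAffine [IsCofiltered I] [LocallyOfFiniteType f] [IsAffine S] [IsAffine X]
    [∀ i, IsAffine (D.obj i)]
    (hinj : ∀ {i j : I} (g : i ⟶ j), Function.Injective (D.map g).appTop)
    (a : c.pt ⟶ X) (ha : c.π ≫ t = (Functor.const _).map (a ≫ f)) :
    ∃ (i : I) (g : D.obj i ⟶ X), c.π.app i ≫ g = a ∧ g ≫ f = t.app i := by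
  classical
  have hft : RingHom.FiniteType f.appTop.hom :=
    (HasRingHomProperty.iff_of_isAffine (P := @LocallyOfFiniteType)).mp ‹_›
  let _ := f.appTop.hom.toAlgebra
  obtain ⟨s, hs⟩ : (⊤ : Subalgebra Γ(S, ⊤) Γ(X, ⊤)).FG := hft.out
  -- lift the generators
  choose i₁ y₁ hy₁ using fun x : Γ(X, ⊤) =>
    exists_appTop_π_eq_of_isAffine_of_isLimit D c hc (a.appTop.hom x)
  obtain ⟨i, hi⟩ := IsCofiltered.inf_objs_exists (s.image i₁)
  have ha' : ∀ j, c.π.app j ≫ t.app j = a ≫ f := fun j => congr(($ha).app j)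
  have hrange : ∀ b : Γ(X, ⊤), a.appTop.hom b ∈ (c.π.app i).appTop.hom.range := by
    intro b
    have hb : b ∈ Algebra.adjoin Γ(S, ⊤) (s : Set Γ(X, ⊤)) := by rw [hs]; trivial
    induction hb using Algebra.adjoin_induction with
    | mem x hx =>
      have g : i ⟶ i₁ x := (hi (Finset.mem_image_of_mem _ hx)).some
      refine ⟨(D.map g).appTop.hom (y₁ x), ?_⟩
      rw [← hy₁ x, ← c.w g, Scheme.Hom.comp_appTop]
      rfl
    | algebraMap r =>
      refine ⟨(t.app i).appTop.hom r, ?_⟩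
      change ((t.app i).appTop ≫ (c.π.app i).appTop).hom r = (f.appTop ≫ a.appTop).hom r
      rw [← Scheme.Hom.comp_appTop, ← Scheme.Hom.comp_appTop, ha']
    | add x y _ _ hx hy => rw [map_add]; exact Subring.add_mem _ hx hy
    | mul x y _ _ hx hy => rw [map_mul]; exact Subring.mul_mem _ hx hy
  have hιinj := appTop_π_injective D c hc hinj i
  let ι : Γ(D.obj i, ⊤) →+* Γ(c.pt, ⊤) := (c.π.app i).appTop.hom
  let e : Γ(D.obj i, ⊤) ≃+* ι.range := RingEquiv.ofBijective ι.rangeRestrict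
    ⟨fun x y hxy => hιinj (congrArg Subtype.val hxy), ι.rangeRestrict_surjective⟩
  let θ : Γ(X, ⊤) →+* Γ(D.obj i, ⊤) :=
    (e.symm : ι.range →+* Γ(D.obj i, ⊤)).comp (a.appTop.hom.codRestrict ι.range hrange)
  have hθ : ∀ b, ι (θ b) = a.appTop.hom b := by
    intro b
    have : ι.rangeRestrict (θ b) = a.appTop.hom.codRestrict ι.range hrange b :=
      e.apply_symm_apply _
    exact congrArg Subtype.val this
  obtain ⟨g, hg⟩ := exists_hom_appTop_eq (Z := D.obj i) (X := X) (CommRingCat.ofHom θ)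
  refine ⟨i, g, ?_, ?_⟩
  · apply ext_of_isAffine
    rw [Scheme.Hom.comp_appTop, hg]
    ext b
    exact hθ b
  · apply ext_of_isAffine
    rw [Scheme.Hom.comp_appTop, hg]
    ext r
    apply hιinj
    change ι (θ (f.appTop.hom r)) = ((t.app i).appTop ≫ (c.π.app i).appTop).hom r
    rw [hθ, ← Scheme.Hom.comp_appTop, ha', Scheme.Hom.comp_appTop]
    rfl


theorem resLE_appTop_injective {X Y : Scheme.{u}} (f : X ⟶ Y) (U : Y.Opens) (V : X.Opens)
    (e : V = f ⁻¹ᵁ U) (h : Function.Injective (f.app U)) :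
    Function.Injective (f.resLE U V e.le).appTop := by
  subst e
  rw [Scheme.Hom.appTop, Scheme.Hom.resLE_app_top, Scheme.Hom.appLE_eq_app]
  have h1 : Function.Injective U.topIso.hom := (ConcreteCategory.bijective_of_isIso _).1
  have h2 : Function.Injective (f ⁻¹ᵁ U).topIso.inv := (ConcreteCategory.bijective_of_isIso _).1
  exact h2.comp (h.comp h1)

set_option backward.defeqAttrib.useBackward true in
set_option backward.isDefEq.respectTransparency false in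
open TopologicalSpace in
include hc in
theorem exists_π_app_comp_eq_of_injective
    [IsCofiltered I] [LocallyOfFiniteType f]
    [∀ {i j} (f : i ⟶ j), IsAffineHom (D.map f)]
    [∀ i, CompactSpace (D.obj i)] [∀ i, QuasiSeparatedSpace (D.obj i)]
    (hinj : ∀ {i j : I} (g : i ⟶ j) (U : (D.obj j).Opens), Function.Injective ((D.map g).app U))
    (a : c.pt ⟶ X) (ha : c.π ≫ t = (Functor.const _).map (a ≫ f)) :
    ∃ (i : I) (g : D.obj i ⟶ X), c.π.app i ≫ g = a ∧ g ≫ f = t.app i := by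
  -- The open cover of `c := lim Dᵢ` indexed by triplets of affine opens `(U, V, W)` with
  -- `U ⊆ c`, `V ⊆ X`, `W ⊆ S` such that `U` maps to `V` maps to `W`.
  have 𝒰 := (c.pt.isBasis_affineOpens).isOpenCover_mem_and_le
    (((X.isBasis_affineOpens).isOpenCover_mem_and_le
    ((S.isBasis_affineOpens).isOpenCover.comap f.base.hom)).comap a.base.hom)
  -- By qcqs, this cover descends to some finite affine open cover `𝒱` of `Dᵢ`.
  obtain ⟨i, s, 𝒱, h𝒱, h𝒱𝒰⟩ := Scheme.exists_isOpenCover_and_isAffine D c hc _ 𝒰 fun U ↦ U.2.1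
  obtain ⟨i', fi'i, hi'⟩ : ∃ (i' : I) (fi'i : i' ⟶ i),
      ∀ j, D.map fi'i ⁻¹ᵁ 𝒱 j ≤ t.app i' ⁻¹ᵁ j.1.1.2.1.2.1 := by
    choose k fk hk using fun j ↦ exists_map_preimage_le_map_preimage D c hc (h𝒱𝒰 j).1.isCompact
      (V := t.app i ⁻¹ᵁ j.1.1.2.1.2.1) (by
      rw [← Hom.comp_preimage, ← NatTrans.comp_app, ha]
      exact (h𝒱𝒰 j).2.symm.trans_le (j.1.prop.2.trans (a.preimage_mono j.1.1.2.prop.2)))
    obtain ⟨i', fi'i, fi', hfi'⟩ := IsCofiltered.wideCospan fk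
    refine ⟨i', fi'i, fun j ↦ ?_⟩
    rw [← hfi', Functor.map_comp, Hom.comp_preimage]
    refine (Hom.preimage_mono _ (hk _)).trans ?_
    simp only [← Hom.comp_preimage, t.naturality, Functor.const_obj_obj,
      Functor.const_obj_map, Category.comp_id, le_refl]
  -- Using the affine version `exists_π_app_comp_eq_of_locallyOfFinitePresentation_of_isAffine`,
  -- one can now factor `Dⱼ ⁻¹ 𝒱ⱼ ⟶ lim Dᵢ ⟶ X` through some `Dⱼₖ ⁻¹ 𝒱ⱼ` for each `𝒱ⱼ`,
  -- and by finite-ness we may chose a fixed `k` that works for every `j`.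
  have : ∃ k, ∃ (fk : k ⟶ i), ∀ j, ∃ (ak : ↑(D.map fk ⁻¹ᵁ 𝒱 j) ⟶ X),
      ak ≫ f = Opens.ι _ ≫ t.app k ∧ c.π.app _ ∣_ _ ≫ ak = Opens.ι _ ≫ a := by
    let 𝒱' := (D.map fi'i ⁻¹ᵁ 𝒱 ·)
    have h𝒱'𝒰 (j : s) : c.π.app i' ⁻¹ᵁ 𝒱' j = j.1.1.1 := by
      rw [← Hom.comp_preimage, c.w fi'i]; exact (h𝒱𝒰 j).2.symm
    have _ (j k) : IsAffine ((opensDiagram D i' (𝒱' j)).obj k) := ((h𝒱𝒰 _).1.preimage _).preimage _
    let t𝒱 (j : _) : opensDiagram D i' (𝒱' j) ⟶ (Functor.const (Over i')).obj j.1.1.2.1.2 :=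
    { app k := (t.app k.left).resLE _ _ <| by
        refine (Hom.preimage_mono _ (hi' _)).trans ?_
        simp only [Functor.const_obj_obj, ← Hom.comp_preimage, t.naturality,
          Functor.const_obj_map, Category.comp_id, le_refl]
      naturality {k₁ k₂} f₁₂ := by simp [Hom.resLE_comp_resLE] }
    have (j : s) : IsAffine j.1.1.2.1.1 := j.1.1.2.prop.1
    choose k ak hk hk' using fun j ↦ exists_of_isAffine
      _ (t𝒱 j) (f.resLE _ _ j.1.1.2.prop.2) _ (isLimitOpensCone D c hc i' (𝒱' j))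
      (fun {k₁ k₂} g ↦ resLE_appTop_injective _ _ _
        (by rw [← Over.w g, Functor.map_comp, Hom.comp_preimage]) (hinj _ _))
      (a.resLE _ _ ((h𝒱'𝒰 _).trans_le j.1.prop.2)) (by
      ext k
      simp [t𝒱, Hom.resLE_comp_resLE, show c.π.app k.left ≫ t.app k.left = a ≫ f from
        congr(($ha).app k.left)])
    obtain ⟨i'', fi''i', fi'', hi''⟩ := IsCofiltered.wideCospan fun j ↦ (k j).hom
    refine ⟨i'', fi''i' ≫ fi'i, fun j ↦
      ⟨Scheme.homOfLE _ ?_ ≫ D.map (fi'' _) ∣_ _ ≫ ak j ≫ Opens.ι _, ?_, ?_⟩⟩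
    · simp only [← Hom.comp_preimage, ← Functor.map_comp, 𝒱', reassoc_of% hi'']; rfl
    · have : ak j ≫ Opens.ι _ ≫ f = Opens.ι _ ≫ t.app (k j).left := by
        simpa [t𝒱] using! congr($(hk' j) ≫ Opens.ι _)
      simp [this]
    · have e : c.π.app i'' ⁻¹ᵁ D.map (fi''i' ≫ fi'i) ⁻¹ᵁ 𝒱 j ≤ c.π.app i' ⁻¹ᵁ 𝒱' j := by
        simp only [← Hom.comp_preimage, Cone.w, 𝒱']; rfl
      simpa [← AlgebraicGeometry.Scheme.Hom.resLE_eq_morphismRestrict,
        Scheme.Hom.resLE_comp_resLE_assoc] using! congr(Scheme.homOfLE _ e ≫ $(hk j) ≫ Opens.ι _)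
  choose k fki ak hak hak' using this
  -- We may then find an `l` for each `j₁` and `j₂` such that the map `Dⱼ₁ₗ ⁻¹ 𝒱ⱼ₁ ⟶ X` and
  -- `Dⱼ₂ₗ ⁻¹ 𝒱ⱼ₂ ⟶ X` agrees on the intersection in `Dₗ`.
  -- And again by finiteness we may choose a global `l`.
  obtain ⟨l, flk, hl⟩ : ∃ (l : I) (flk : l ⟶ k), ∀ j₁ j₂, Scheme.homOfLE _ inf_le_left ≫
      D.map flk ∣_ _ ≫ ak j₁ = Scheme.homOfLE _ inf_le_right ≫ D.map flk ∣_ _ ≫ ak j₂ := by
    let 𝒱' := (D.map fki ⁻¹ᵁ 𝒱 ·)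
    have (j₁ j₂ : s) : ∃ (l : I) (flk : l ⟶ k), Scheme.homOfLE _ inf_le_left ≫ D.map flk ∣_ _ ≫
        ak j₁ = Scheme.homOfLE _ inf_le_right ≫ D.map flk ∣_ _ ≫ ak j₂ := by
      have _ (x) : CompactSpace ↥((opensDiagram D k (𝒱' j₁ ⊓ 𝒱' j₂)).obj x) :=
        isCompact_iff_compactSpace.mp (QuasiCompact.isCompact_preimage _ (𝒱' j₁ ⊓ 𝒱' j₂).isOpen
          (((h𝒱𝒰 _).1.preimage _).isCompact.inter_of_isOpen ((h𝒱𝒰 _).1.preimage _).isCompact
            (D.map fki ⁻¹ᵁ 𝒱 j₁).2 (D.map fki ⁻¹ᵁ 𝒱 j₂).2))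
      obtain ⟨⟨l, ⟨⟨⟩⟩, flk⟩, ⟨flk', ⟨⟨⟨⟩⟩⟩, h⟩, e⟩ :=
        Scheme.exists_hom_comp_eq_comp_of_locallyOfFiniteType _
          (opensDiagramι .. ≫ (Over.forget k).whiskerLeft t) f _
          (isLimitOpensCone D c hc k (𝒱' j₁ ⊓ 𝒱' j₂)) (i := .mk (𝟙 k))
          (Scheme.homOfLE _ (by simp [𝒱']) ≫ ak j₁) (Scheme.homOfLE _ (by simp [𝒱']) ≫ ak j₂)
          (by simp [hak]) (by simp [hak]) (by simp; simp [Hom.resLE, hak'])
      obtain rfl : flk = flk' := by simpa using! h.symm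
      refine ⟨l, flk, by simpa [← Scheme.Hom.resLE_eq_morphismRestrict] using! e⟩
    choose l flk hflk using this
    obtain ⟨l', fl'k, fl'l, hl'⟩ := IsCofiltered.wideCospan (I := s × s) fun x ↦ flk x.1 x.2
    refine ⟨l', fl'k, fun j₁ j₂ ↦ ?_⟩
    have H : (D.map fl'k ≫ D.map fki) ⁻¹ᵁ (𝒱 j₁ ⊓ 𝒱 j₂) ≤
        (D.map (fl'l (j₁, j₂)) ≫ D.map (flk j₁ j₂) ≫ D.map fki) ⁻¹ᵁ (𝒱 j₁ ⊓ 𝒱 j₂) := by
      simp only [← Functor.map_comp, reassoc_of% hl']; rfl
    simpa [← Scheme.Hom.resLE_eq_morphismRestrict, Scheme.Hom.resLE_comp_resLE_assoc,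
      ← Functor.map_comp, hl'] using! congr((D.map (fl'l (j₁, j₂))).resLE _ _ H ≫ $(hflk j₁ j₂))
  -- We may glue the morphisms into `Dₗ ⟶ X` and verify that it indeed satisfies the hypothesis.
  let h𝒲 := (h𝒱.comap (D.map fki).base.hom).comap (D.map flk).base.hom
  let 𝒲 := Scheme.openCoverOfIsOpenCover _ (D.map flk ⁻¹ᵁ D.map fki ⁻¹ᵁ 𝒱 ·) h𝒲
  let F := 𝒲.glueMorphisms (fun j ↦ D.map flk ∣_ D.map fki ⁻¹ᵁ 𝒱 j ≫ ak j) (fun j₁ j₂ ↦ by
      rw [← cancel_epi (isPullback_opens_inf _ _).isoPullback.hom]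
      simpa [𝒲] using! hl j₁ j₂)
  have hF (j : s) : (D.map flk ⁻¹ᵁ D.map fki ⁻¹ᵁ 𝒱 j).ι ≫ F = D.map flk ∣_ _ ≫ ak j :=
    Scheme.Cover.ι_glueMorphisms ..
  refine ⟨l, F, ?_, ?_⟩
  · refine Cover.hom_ext (𝒲.pullback₁ (c.π.app l)) _ _ fun j ↦ ?_
    rw [← cancel_epi (isPullback_morphismRestrict _ _).flip.isoPullback.hom]
    dsimp [𝒲]
    simp only [pullback.condition_assoc, IsPullback.isoPullback_hom_snd_assoc,
      IsPullback.isoPullback_hom_fst_assoc, hF]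
    have h : c.π.app l ⁻¹ᵁ D.map flk ⁻¹ᵁ D.map fki ⁻¹ᵁ 𝒱 j ≤ c.π.app k ⁻¹ᵁ D.map fki ⁻¹ᵁ 𝒱 j := by
      simp only [← Hom.comp_preimage, c.w_assoc, c.w]; rfl
    simpa [← Scheme.Hom.resLE_eq_morphismRestrict, Scheme.Hom.resLE_comp_resLE_assoc] using!
      congr(Scheme.homOfLE _ h ≫ $(hak' j))
  · refine 𝒲.hom_ext _ _ fun j ↦ ?_
    simp [F, Cover.ι_glueMorphisms_assoc, hak]; rfl


end

attribute [local instance] IsCofiltered.isConnected in
theorem hom_colimit_bijective {S : Scheme.{u}} [CompactSpace S] [QuasiSeparatedSpace S]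
    {I : Type u} [SmallCategory I] [IsCofiltered I] (D : I ⥤ Over S)
    (c : Cone D) (hc : IsLimit c)
    [∀ (i j : I) (t : i ⟶ j), IsAffineHom (D.map t).left]
    [∀ (i j : I) (t : i ⟶ j), IsSchemeTheoreticallyDominant (D.map t).left]
    [∀ i, CompactSpace (D.obj i).left] [∀ i, QuasiSeparatedSpace (D.obj i).left]
    (Y : Over S) [LocallyOfFiniteType Y.hom] :
    (∀ φ : c.pt ⟶ Y, ∃ (i : I) (φi : D.obj i ⟶ Y), c.π.app i ≫ φi = φ) ∧
      ∀ (i : I) (φ ψ : D.obj i ⟶ Y), c.π.app i ≫ φ = c.π.app i ≫ ψ →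
        ∃ (j : I) (t : j ⟶ i), D.map t ≫ φ = D.map t ≫ ψ := by
  let D' : I ⥤ Scheme.{u} := D ⋙ Over.forget S
  let t : D' ⟶ (Functor.const I).obj S :=
    { app i := (D.obj i).hom
      naturality := by intro i j g; simp [D'] }
  let c' : Cone D' := (Over.forget S).mapCone c
  have hc' : IsLimit c' := isLimitOfPreserves (Over.forget S) hc
  have h1 : ∀ {i j : I} (g : i ⟶ j), IsAffineHom (D'.map g) := fun g =>
    inferInstanceAs (IsAffineHom (D.map g).left)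
  have h2 : ∀ i, CompactSpace (D'.obj i) := fun i => inferInstanceAs (CompactSpace (D.obj i).left)
  have h3 : ∀ i, QuasiSeparatedSpace (D'.obj i) := fun i =>
    inferInstanceAs (QuasiSeparatedSpace (D.obj i).left)
  constructor
  · intro φ
    obtain ⟨i, g, hg1, hg2⟩ := exists_π_app_comp_eq_of_injective D' t Y.hom c' hc'
      (fun {i j} g U => Scheme.Hom.app_injective (D.map g).left U) φ.left (by
        ext i : 2
        change (c.π.app i).left ≫ (D.obj i).hom = φ.left ≫ Y.hom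
        rw [Over.w, Over.w]
        rfl)
    exact ⟨i, Over.homMk g hg2, by ext : 1; exact hg1⟩
  · intro i φ ψ h
    obtain ⟨k, hik, hk⟩ := Scheme.exists_hom_comp_eq_comp_of_locallyOfFiniteType D' t Y.hom c' hc'
      φ.left ψ.left (Over.w φ).symm (Over.w ψ).symm (congrArg (fun x => x.left) h)
    exact ⟨k, hik, by ext : 1; exact hk⟩

end Groth.Agent.Lib.Helper9.LimHomFT
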