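import Groth.Agent.Lib.Helper29.IdealComap
import Groth.Agent.Lib.Helper9.LimSec
import Groth.Agent.Lib.Helper9.LimHomFT
import Groth.Prelude.Def_W4c6modpairsegaMP

namespace Groth.Agent.Lib.Helper9.LimSec

open CategoryTheory CategoryTheory.Limits AlgebraicGeometry
open Groth.Agent.Lib.Helper29.EffCart

universe u

section

variable {I : Type u} [Category.{u} I] (D : I ⥤ Scheme.{u}) (c : Cone D) (hc : IsLimit c)

include hc in
theorem exists_comap_le_comap [IsCofiltered I] [∀ {i j : I} (f : i ⟶ j), IsAffineHom (D.map f)]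
    [∀ i, CompactSpace (D.obj i)] (i : I) (A B : (D.obj i).IdealSheafData)
    (hA : ∀ x : D.obj i, ∃ U : (D.obj i).affineOpens, x ∈ U.1 ∧
      ∃ a : Γ(D.obj i, U.1), A.ideal U = Ideal.span {a})
    (h : A.comap (c.π.app i) ≤ B.comap (c.π.app i)) :
    ∃ (j : I) (t : j ⟶ i), A.comap (D.map t) ≤ B.comap (D.map t) := by
  classical
  choose U hxU a ha using hA
  obtain ⟨s, hs⟩ := CompactSpace.elim_nhds_subcover (fun x => ((U x).1 : Set (D.obj i)))
    (fun x => (U x).1.2.mem_nhds (hxU x))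
  have := isAffineHom_π_app D c hc i
  have hloc : ∀ x : s, ∃ k : Over i,
      (ρ D (U x).1 k).hom (a x) ∈ (B.ideal (U x)).map (ρ D (U x).1 k).hom := by
    intro x
    apply exists_mem_map_of_mem_map D c hc (U x).1 (U x).2 (a x) (B.ideal (U x))
    have h1 := h ⟨Uinf D c (U x).1, (U x).2.preimage (c.π.app i)⟩
    rw [ideal_comap_eq_map A (c.π.app i) (U x) ⟨_, (U x).2.preimage (c.π.app i)⟩ le_rfl,
      ideal_comap_eq_map B (c.π.app i) (U x) ⟨_, (U x).2.preimage (c.π.app i)⟩ le_rfl,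
      Scheme.Hom.appLE_eq_app] at h1
    apply h1
    apply Ideal.mem_map_of_mem
    rw [ha]
    exact Ideal.subset_span rfl
  choose k hk using hloc
  obtain ⟨k₀, hk₀⟩ := IsCofiltered.inf_objs_exists (Finset.univ.image k)
  have f : ∀ x : s, k₀ ⟶ k x := fun x => (hk₀ (Finset.mem_image_of_mem _ (Finset.mem_univ x))).some
  refine ⟨k₀.left, k₀.hom, ?_⟩
  refine Scheme.IdealSheafData.le_of_iSup_eq_top
    (fun x : s => ⟨Uo D (U x).1 k₀, (U x).2.preimage (D.map k₀.hom)⟩) ?_ ?_
  · rw [eq_top_iff]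
    intro y _
    have hy : (D.map k₀.hom) y ∈ ⋃ x ∈ s, ((U x).1 : Set (D.obj i)) := by rw [hs]; trivial
    obtain ⟨x, hx, hyx⟩ := Set.mem_iUnion₂.mp hy
    exact TopologicalSpace.Opens.mem_iSup.mpr ⟨⟨x, hx⟩, hyx⟩
  · intro x
    rw [ideal_comap_eq_map A (D.map k₀.hom) (U x) ⟨_, (U x).2.preimage (D.map k₀.hom)⟩ le_rfl,
      ideal_comap_eq_map B (D.map k₀.hom) (U x) ⟨_, (U x).2.preimage (D.map k₀.hom)⟩ le_rfl,
      Scheme.Hom.appLE_eq_app, ha, Ideal.map_span, Set.image_singleton, Ideal.span_le,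
      Set.singleton_subset_iff]
    have := mem_map_σ D (U x).1 (B.ideal (U x)) (f x) (hk x)
    rwa [σ_ρ_apply] at this


end

attribute [local instance] IsCofiltered.isConnected in
theorem exists_descend_ambient_hom {S : Scheme.{u}} [CompactSpace S] [QuasiSeparatedSpace S]
    {I : Type u} [SmallCategory I] [IsCofiltered I]
    (D : I ⥤ Over S) (c : Cone D) (hc : IsLimit c)
    [∀ (i j : I) (t : i ⟶ j), IsAffineHom (D.map t).left]
    [∀ i, CompactSpace (D.obj i).left] [∀ i, QuasiSeparatedSpace (D.obj i).left]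
    (J : ∀ i, (D.obj i).left.IdealSheafData) (hJ : ∀ i, BlowUp.IsEffCartierIdeal (J i))
    (hmin : ∀ (i j : I) (t : i ⟶ j), ModPair.IsMinimal (J i) (J j) (D.map t).left)
    (IX : c.pt.left.IdealSheafData) (hIX : ∀ i, IX = (J i).comap (c.π.app i).left)
    (Y : Over S) [LocallyOfFiniteType Y.hom]
    (IY : Y.left.IdealSheafData)
    (h : (∀ (i j : I) (t : i ⟶ j), IsSchemeTheoreticallyDominant (D.map t).left) ∨
      LocallyOfFinitePresentation Y.hom)
    (φ : c.pt ⟶ Y) (hφ : ModPair.IsAmbient IX IY φ.left) :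
    ∃ (i : I) (φi : D.obj i ⟶ Y), ModPair.IsAmbient (J i) IY φi.left ∧ c.π.app i ≫ φi = φ := by
  let D' : I ⥤ Scheme.{u} := D ⋙ Over.forget S
  let t : D' ⟶ (Functor.const I).obj S :=
    { app i := (D.obj i).hom
      naturality := by intro i j g; simp [D'] }
  let c' : Cone D' := (Over.forget S).mapCone c
  have hc' : IsLimit c' := isLimitOfPreserves (Over.forget S) hc
  have h1 : ∀ {i j : I} (g : i ⟶ j), IsAffineHom (D'.map g) := fun g =>
    inferInstanceAs (IsAffineHom (D.map g).left)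
  have h2 : ∀ i, CompactSpace (D'.obj i) := fun i => inferInstanceAs (CompactSpace (D.obj i).left)
  have h3 : ∀ i, QuasiSeparatedSpace (D'.obj i) := fun i =>
    inferInstanceAs (QuasiSeparatedSpace (D.obj i).left)
  -- step 1
  obtain ⟨i, φi, hφi⟩ : ∃ (i : I) (φi : D.obj i ⟶ Y), c.π.app i ≫ φi = φ := by
    rcases h with hd | hfp
    · have := hd
      exact (LimHomFT.hom_colimit_bijective D c hc Y).1 φ
    · obtain ⟨i, g, hg1, hg2⟩ := Scheme.exists_π_app_comp_eq_of_locallyOfFinitePresentation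
        D' t Y.hom c' hc' φ.left (by
          ext i : 2
          change (c.π.app i).left ≫ (D.obj i).hom = φ.left ≫ Y.hom
          rw [Over.w, Over.w]
          rfl)
      exact ⟨i, Over.homMk g hg2, by ext : 1; exact hg1⟩
  -- step 2
  have hle : (J i).comap (c'.π.app i) ≤ (IY.comap φi.left).comap (c'.π.app i) := by
    change (J i).comap (c.π.app i).left ≤ (IY.comap φi.left).comap (c.π.app i).left
    rw [← hIX i, ← Scheme.IdealSheafData.comap_comp]
    have : (c.π.app i).left ≫ φi.left = φ.left := by rw [← hφi]; rfl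
    rw [this]
    exact hφ
  obtain ⟨j, s, hs⟩ := exists_comap_le_comap D' c' hc' i (J i) (IY.comap φi.left)
    (fun x => by
      obtain ⟨U, hxU, f, -, hf⟩ := hJ i x
      exact ⟨U, hxU, f, hf⟩) hle
  refine ⟨j, D.map s ≫ φi, ?_, ?_⟩
  · change J j ≤ IY.comap ((D.map s).left ≫ φi.left)
    rw [Scheme.IdealSheafData.comap_comp, hmin j i s]
    exact hs
  · rw [← Category.assoc, c.w, hφi]

end Groth.Agent.Lib.Helper9.LimSec
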