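import Groth.Agent.Lib.Helper29.IdealComap
import Groth.Agent.Lib.Helper29.EffCart4
import Groth.Agent.Lib.Helper9.LimSec
import Groth.Prelude.Def_W4c6modpairsegaMP

namespace Groth.Agent.Lib.Helper9.LimSec

open CategoryTheory CategoryTheory.Limits AlgebraicGeometry
open Groth.Agent.Lib.Helper29.EffCart

universe u

/-- a principal generator of an effective Cartier ideal on an affine open is a nonzerodivisor. -/
theorem mem_nonZeroDivisors_of_isEffCartierIdeal {X : Scheme.{u}} (𝓘 : X.IdealSheafData)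
    (h𝓘 : BlowUp.IsEffCartierIdeal 𝓘) (U : X.affineOpens) (g : Γ(X, U.1))
    (hg : 𝓘.ideal U = Ideal.span {g}) : g ∈ nonZeroDivisors Γ(X, U.1) := by
  rw [mem_nonZeroDivisors_iff_right]
  intro x hx
  refine TopCat.Presheaf.section_ext X.sheaf U.1 x 0 fun p hp => ?_
  obtain ⟨W, hpW, hWU, t, ht, hW⟩ := exists_affine_principal_nzd_le 𝓘 h𝓘 p U.1 hp
  let r := (X.presheaf.map (homOfLE hWU).op).hom
  have h1 : 𝓘.ideal W = Ideal.span {r g} := by
    rw [← 𝓘.map_ideal (U := W) (V := U) hWU, hg, Ideal.map_span, Set.image_singleton]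
    rfl
  have h2 : t ∈ Ideal.span {r g} := by rw [← h1, hW]; exact Ideal.subset_span rfl
  have h3 : r g ∈ Ideal.span {t} := by rw [← hW, h1]; exact Ideal.subset_span rfl
  obtain ⟨v, hv⟩ := Ideal.mem_span_singleton'.mp h2
  have h4 : r x * t = 0 := by
    rw [← hv, mul_comm v, ← mul_assoc, ← map_mul, hx, map_zero, zero_mul]
  have h5 : r x = 0 := (mem_nonZeroDivisors_iff_right.mp ht) _ h4
  refine X.presheaf.germ_ext W.1 hpW (homOfLE hWU) (homOfLE hWU) ?_
  change r x = r 0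
  rw [h5, map_zero]

theorem isEffCartierIdeal_comap_limit {I : Type u} [SmallCategory I] [IsCofiltered I]
    (D : I ⥤ Scheme.{u}) (c : Cone D) (hc : IsLimit c)
    [∀ (i j : I) (t : i ⟶ j), IsAffineHom (D.map t)]
    (J : ∀ i, (D.obj i).IdealSheafData) (hJ : ∀ i, BlowUp.IsEffCartierIdeal (J i))
    (hmin : ∀ (i j : I) (t : i ⟶ j), ModPair.IsMinimal (J i) (J j) (D.map t)) (i : I) :
    BlowUp.IsEffCartierIdeal ((J i).comap (c.π.app i)) := by
  have haff : ∀ {i j : I} (f : i ⟶ j), IsAffineHom (D.map f) := fun f => inferInstance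
  have := isAffineHom_π_app D c hc i
  intro x
  obtain ⟨U, hxU, f, hf, hI⟩ := hJ i (c.π.app i x)
  refine ⟨⟨Uinf D c U.1, U.2.preimage (c.π.app i)⟩, hxU, ((c.π.app i).app U.1).hom f, ?_, ?_⟩
  · rw [mem_nonZeroDivisors_iff_right]
    intro z hz
    obtain ⟨k, w, rfl⟩ := exists_τ_eq D c hc U.1 U.2 z
    have h0 : (τ D c U.1 k).hom (w * (ρ D U.1 k).hom f) = 0 := by
      rw [map_mul, τ_ρ_apply]; exact hz
    obtain ⟨k', g, hg⟩ := exists_σ_eq_zero D c hc U.1 U.2 k _ h0
    rw [map_mul, σ_ρ_apply] at hg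
    have hnzd : (ρ D U.1 k').hom f ∈ nonZeroDivisors Γ(D.obj k'.left, Uo D U.1 k') := by
      refine mem_nonZeroDivisors_of_isEffCartierIdeal (J k'.left) (hJ k'.left)
        ⟨Uo D U.1 k', U.2.preimage (D.map k'.hom)⟩ _ ?_
      rw [hmin k'.left i k'.hom,
        ideal_comap_eq_map (J i) (D.map k'.hom) U ⟨_, U.2.preimage (D.map k'.hom)⟩ le_rfl,
        Scheme.Hom.appLE_eq_app, hI, Ideal.map_span, Set.image_singleton]
    have h1 := (mem_nonZeroDivisors_iff_right.mp hnzd) _ hg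
    rw [← τ_σ_apply D c U.1 g, h1, map_zero]
  · rw [ideal_comap_eq_map (J i) (c.π.app i) U ⟨_, U.2.preimage (c.π.app i)⟩ le_rfl,
      Scheme.Hom.appLE_eq_app, hI, Ideal.map_span, Set.image_singleton]

end Groth.Agent.Lib.Helper9.LimSec
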