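import Mathlib
import Groth.Agent.Lib.Helper9.UnivHomeoRing3
set_option autoImplicit false
universe u
open CategoryTheory CategoryTheory.Limits AlgebraicGeometry TensorProduct

namespace Groth.Agent.Lib.Helper9.LinPow
open Groth.Agent.Lib.Helper9.UnivHomeoRing

variable {R S : Type u} [CommRing R] [CommRing S] [Algebra R S]

theorem isRadicial_of_linPow (G : Set S) (hG : Algebra.adjoin R G = ⊤)
    (hpow : ∀ x ∈ G, ∃ (n : ℕ) (P : Polynomial R), 0 < n ∧
      Polynomial.map (algebraMap R S) P = (Polynomial.X - Polynomial.C x) ^ n) :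
    IsRadicial (algebraMap R S) := by
  intro K _ g₁ g₂ hg
  have hGeq : ∀ x ∈ G, g₁ x = g₂ x := by
    intro x hx
    obtain ⟨n, P, hn, hP⟩ := hpow x hx
    have h1 : Polynomial.map g₁ (Polynomial.map (algebraMap R S) P) =
        Polynomial.map g₂ (Polynomial.map (algebraMap R S) P) := by
      rw [Polynomial.map_map, Polynomial.map_map, hg]
    rw [hP] at h1
    simp only [Polynomial.map_pow, Polynomial.map_sub, Polynomial.map_X, Polynomial.map_C] at h1
    have h2 := congrArg (Polynomial.eval (g₁ x)) h1
    simp only [Polynomial.eval_pow, Polynomial.eval_sub, Polynomial.eval_X, Polynomial.eval_C,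
      sub_self] at h2
    rw [zero_pow hn.ne'] at h2
    have h3 := pow_eq_zero_iff hn.ne' |>.mp h2.symm
    exact sub_eq_zero.mp h3
  ext s
  have hs : s ∈ Algebra.adjoin R G := hG ▸ Algebra.mem_top
  induction hs using Algebra.adjoin_induction with
  | mem x hx => exact hGeq x hx
  | algebraMap r => exact congrArg (fun f => f r) hg
  | add x y _ _ hx hy => rw [map_add, map_add, hx, hy]
  | mul x y _ _ hx hy => rw [map_mul, map_mul, hx, hy]

theorem isIntegral_of_linPow (G : Set S) (hG : Algebra.adjoin R G = ⊤)
    (hpow : ∀ x ∈ G, ∃ (n : ℕ) (P : Polynomial R), 0 < n ∧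
      Polynomial.map (algebraMap R S) P = (Polynomial.X - Polynomial.C x) ^ n) :
    (algebraMap R S).IsIntegral := by
  have hGint : ∀ x ∈ G, IsIntegral R x := by
    intro x hx
    obtain ⟨n, P, hn, hP⟩ := hpow x hx
    rcases subsingleton_or_nontrivial S with hS | hS
    · exact ⟨Polynomial.X, Polynomial.monic_X, Subsingleton.elim _ _⟩
    have hmonic : ((Polynomial.X - Polynomial.C x) ^ n : Polynomial S).Monic :=
      (Polynomial.monic_X_sub_C x).pow n
    have hlift : ((Polynomial.X - Polynomial.C x) ^ n : Polynomial S) ∈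
        Polynomial.lifts (algebraMap R S) := ⟨P, hP⟩
    obtain ⟨q, hq, -, hqm⟩ := Polynomial.lifts_and_degree_eq_and_monic hlift hmonic
    refine ⟨q, hqm, ?_⟩
    rw [Polynomial.eval₂_eq_eval_map, hq]
    simp [hn.ne']
  have hle : Algebra.adjoin R G ≤ integralClosure R S := Algebra.adjoin_le hGint
  rw [hG] at hle
  intro s
  exact hle Algebra.mem_top

theorem main (hker : ∀ r : R, algebraMap R S r = 0 → IsNilpotent r) (G : Set S)
    (hG : Algebra.adjoin R G = ⊤)
    (hpow : ∀ x ∈ G, ∃ (n : ℕ) (P : Polynomial R), 0 < n ∧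
      Polynomial.map (algebraMap R S) P = (Polynomial.X - Polynomial.C x) ^ n) :
    IsHomeomorph (PrimeSpectrum.comap (algebraMap R S)) ∧
      ∀ (q : Ideal S) [q.IsPrime] (p : Ideal R) [p.IsPrime] [q.LiesOver p],
        @IsPurelyInseparable p.ResidueField q.ResidueField _ _
          (Ideal.ResidueField.mapₐ p q (Algebra.ofId R S) (q.over_def p)).toRingHom.toAlgebra := by
  have hrad := isRadicial_of_linPow G hG hpow
  have hint := isIntegral_of_linPow G hG hpow
  have hUI : UniversallyInjective (Spec.map (CommRingCat.ofHom (algebraMap R S))) :=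
    (universallyInjective_SpecMap_iff _).mpr hrad
  obtain ⟨hinj, hpi⟩ := ((tfae_universallyInjective
    (Spec.map (CommRingCat.ofHom (algebraMap R S)))).out 0 2).mp hUI
  constructor
  · rw [isHomeomorph_iff_continuous_isClosedMap_bijective]
    refine ⟨PrimeSpectrum.continuous_comap _, PrimeSpectrum.isClosedMap_comap_of_isIntegral _ hint,
      hinj, ?_⟩
    have hker' : RingHom.ker (algebraMap R S) ≤ nilradical R := fun r hr => hker r hr
    have hint' : (algebraMap R S).kerLift.IsIntegral := by
      refine RingHom.IsIntegral.tower_top (Ideal.Quotient.mk _) _ ?_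
      have : (algebraMap R S).kerLift.comp (Ideal.Quotient.mk (RingHom.ker (algebraMap R S))) =
          algebraMap R S := by ext r; rfl
      rw [this]
      exact hint
    exact (PrimeSpectrum.comap_quotientMk_bijective_of_le_nilradical hker').2.comp <|
      hint'.comap_surjective (algebraMap R S).kerLift_injective
  · intro q _ p _ hqp
    have hp : p = q.under R := q.over_def p
    subst hp
    have h1 := isPurelyInseparable_residueField_map (CommRingCat.ofHom (algebraMap R S))
      (⟨q, inferInstance⟩ : PrimeSpectrum S) (hpi _)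
    exact h1

end Groth.Agent.Lib.Helper9.LinPow
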