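import Mathlib

set_option autoImplicit false
universe v₁ v₂ u₁ u₂
open CategoryTheory CategoryTheory.Limits

namespace Groth.Agent.Lib.Helper9.LocPull

variable {C : Type u₁} [Category.{v₁} C] {D : Type u₂} [Category.{v₂} D]
  (W : MorphismProperty C) [W.HasRightCalculusOfFractions] (L : C ⥤ D) [L.IsLocalization W]

lemma isIso_map {A A' : C} (s : A' ⟶ A) (hs : W s) : IsIso (L.map s) :=
  Localization.inverts L W s hs

/-- every morphism `L A ⟶ L X` is represented by a right fraction -/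
lemma exists_rep {A X : C} (α : L.obj A ⟶ L.obj X) :
    ∃ (A' : C) (s : A' ⟶ A) (_ : W s) (a : A' ⟶ X), L.map s ≫ α = L.map a := by
  obtain ⟨φ, hφ⟩ := Localization.exists_rightFraction L W α
  refine ⟨φ.X', φ.s, φ.hs, φ.f, ?_⟩
  rw [hφ]
  exact φ.map_s_comp_map L (Localization.inverts L W)

/-- two morphisms out of `L A` have a common denominator -/
lemma exists_rep₂ {A X T : C} (α : L.obj A ⟶ L.obj X) (β : L.obj A ⟶ L.obj T) :
    ∃ (A' : C) (s : A' ⟶ A) (_ : W s) (a : A' ⟶ X) (b : A' ⟶ T),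
      L.map s ≫ α = L.map a ∧ L.map s ≫ β = L.map b := by
  obtain ⟨A₁, s₁, hs₁, a₁, h₁⟩ := exists_rep W L α
  obtain ⟨A₂, s₂, hs₂, b₂, h₂⟩ := exists_rep W L β
  obtain ⟨ψ, hψ⟩ := (MorphismProperty.LeftFraction.mk s₁ s₂ hs₂).exists_rightFraction
  dsimp at hψ
  refine ⟨ψ.X', ψ.s ≫ s₁, W.comp_mem _ _ ψ.hs hs₁, ψ.s ≫ a₁, ψ.f ≫ b₂, ?_, ?_⟩
  · rw [L.map_comp, Category.assoc, h₁, ← L.map_comp]
  · rw [hψ, L.map_comp, Category.assoc, h₂, ← L.map_comp]

/-- A commutative square in `C` satisfying the weak universal property up to `W` becomes a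
pullback square in the localization (right calculus of fractions). -/
theorem isPullback_map {Y X T P : C} (pT : Y ⟶ T) (pX : Y ⟶ X) (g : T ⟶ P) (f : X ⟶ P)
    (hcomm : pT ≫ g = pX ≫ f)
    (hE : ∀ (A : C) (b : A ⟶ T) (a : A ⟶ X), b ≫ g = a ≫ f →
      ∃ (A' : C) (s : A' ⟶ A) (_ : W s) (h : A' ⟶ Y), h ≫ pT = s ≫ b ∧ h ≫ pX = s ≫ a)
    (hU : ∀ (A : C) (h₁ h₂ : A ⟶ Y), h₁ ≫ pT = h₂ ≫ pT → h₁ ≫ pX = h₂ ≫ pX →
      ∃ (A' : C) (s : A' ⟶ A) (_ : W s), s ≫ h₁ = s ≫ h₂) :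
    IsPullback (L.map pT) (L.map pX) (L.map g) (L.map f) := by
  have hw : L.map pT ≫ L.map g = L.map pX ≫ L.map f := by
    rw [← L.map_comp, ← L.map_comp, hcomm]
  -- existence for cone points of the form `L A`
  have ex : ∀ (A : C) (β : L.obj A ⟶ L.obj T) (α : L.obj A ⟶ L.obj X),
      β ≫ L.map g = α ≫ L.map f →
      ∃ γ : L.obj A ⟶ L.obj Y, γ ≫ L.map pT = β ∧ γ ≫ L.map pX = α := by
    intro A β α hαβ
    obtain ⟨A', s, hs, a, b, ha, hb⟩ := exists_rep₂ W L α β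
    have h1 : L.map (b ≫ g) = L.map (a ≫ f) := by
      rw [L.map_comp, L.map_comp, ← hb, ← ha, Category.assoc, Category.assoc, hαβ]
    obtain ⟨A'', t, ht, htab⟩ := (MorphismProperty.map_eq_iff_precomp L W _ _).1 h1
    obtain ⟨A''', s', hs', h, hhT, hhX⟩ := hE A'' (t ≫ b) (t ≫ a)
      (by rw [Category.assoc, Category.assoc, htab])
    have hσ : W (s' ≫ t ≫ s) := W.comp_mem _ _ hs' (W.comp_mem _ _ ht hs)
    haveI := isIso_map W L _ hσ
    refine ⟨inv (L.map (s' ≫ t ≫ s)) ≫ L.map h, ?_, ?_⟩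
    · rw [Category.assoc, ← L.map_comp, hhT, IsIso.inv_comp_eq, L.map_comp, L.map_comp,
        L.map_comp, L.map_comp, Category.assoc, Category.assoc, hb]
    · rw [Category.assoc, ← L.map_comp, hhX, IsIso.inv_comp_eq, L.map_comp, L.map_comp,
        L.map_comp, L.map_comp, Category.assoc, Category.assoc, ha]
  have uq : ∀ (A : C) (γ₁ γ₂ : L.obj A ⟶ L.obj Y),
      γ₁ ≫ L.map pT = γ₂ ≫ L.map pT → γ₁ ≫ L.map pX = γ₂ ≫ L.map pX → γ₁ = γ₂ := by
    intro A γ₁ γ₂ hT hX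
    obtain ⟨A', s, hs, h₁, h₂, e₁, e₂⟩ := exists_rep₂ W L γ₁ γ₂
    haveI := isIso_map W L s hs
    have k1 : L.map (h₁ ≫ pT) = L.map (h₂ ≫ pT) := by
      rw [L.map_comp, L.map_comp, ← e₁, ← e₂, Category.assoc, Category.assoc, hT]
    obtain ⟨A₁, t₁, ht₁, q₁⟩ := (MorphismProperty.map_eq_iff_precomp L W _ _).1 k1
    have k2 : L.map ((t₁ ≫ h₁) ≫ pX) = L.map ((t₁ ≫ h₂) ≫ pX) := by
      rw [L.map_comp, L.map_comp, L.map_comp, L.map_comp, ← e₁, ← e₂]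
      simp only [Category.assoc]
      rw [hX]
    obtain ⟨A₂, t₂, ht₂, q₂⟩ := (MorphismProperty.map_eq_iff_precomp L W _ _).1 k2
    obtain ⟨A₃, s', hs', q₃⟩ := hU A₂ (t₂ ≫ t₁ ≫ h₁) (t₂ ≫ t₁ ≫ h₂)
      (by simp only [Category.assoc]; rw [q₁])
      (by simp only [Category.assoc] at q₂ ⊢; exact q₂)
    have hσ : W (s' ≫ t₂ ≫ t₁) := W.comp_mem _ _ hs' (W.comp_mem _ _ ht₂ ht₁)
    haveI := isIso_map W L _ hσ
    have k3 : L.map h₁ = L.map h₂ := by
      rw [← cancel_epi (L.map (s' ≫ t₂ ≫ t₁)), ← L.map_comp, ← L.map_comp]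
      simp only [Category.assoc]
      rw [q₃]
    rw [← cancel_epi (L.map s), e₁, e₂, k3]
  -- general cone points
  haveI : L.EssSurj := Localization.essSurj L W
  have hc : ∀ c : PullbackCone (L.map g) (L.map f),
      ((L.objObjPreimageIso c.pt).hom ≫ c.fst) ≫ L.map g =
        ((L.objObjPreimageIso c.pt).hom ≫ c.snd) ≫ L.map f := fun c => by
    rw [Category.assoc, Category.assoc, c.condition]
  choose lift hl₁ hl₂ using fun c : PullbackCone (L.map g) (L.map f) =>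
    ex (L.objPreimage c.pt) _ _ (hc c)
  refine ⟨⟨hw⟩, ⟨PullbackCone.IsLimit.mk hw
    (fun c => (L.objObjPreimageIso c.pt).inv ≫ lift c) ?_ ?_ ?_⟩⟩
  · intro c
    rw [Category.assoc, hl₁, Iso.inv_hom_id_assoc]
  · intro c
    rw [Category.assoc, hl₂, Iso.inv_hom_id_assoc]
  · intro c m hm₁ hm₂
    rw [← cancel_epi (L.objObjPreimageIso c.pt).hom, Iso.hom_inv_id_assoc]
    apply uq
    · rw [Category.assoc, hm₁, hl₁]
    · rw [Category.assoc, hm₂, hl₂]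

end Groth.Agent.Lib.Helper9.LocPull
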