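import Groth.Agent.Lib.Helper9.MProd5

set_option autoImplicit false
universe u
open CategoryTheory CategoryTheory.Limits AlgebraicGeometry TopologicalSpace

namespace Groth.Agent.Lib.Helper9.MProd5

open Groth.Agent.Lib.Helper29.EffCart Groth.Agent.Lib.Helper9.ABlow

variable {S₀ S₁ T X : Scheme.{u}} (J : T.IdealSheafData) (I : X.IdealSheafData)
  (f : X ⟶ S₁) (g : T ⟶ S₁) (σ : S₁ ⟶ S₀)

lemma mapDesc_fst : pullback.mapDesc f g σ ≫ pullback.fst (f ≫ σ) (g ≫ σ) = pullback.fst f g := by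
  rw [pullback.mapDesc, pullback.map, pullback.lift_fst, Category.comp_id]

lemma mapDesc_snd : pullback.mapDesc f g σ ≫ pullback.snd (f ≫ σ) (g ≫ σ) = pullback.snd f g := by
  rw [pullback.mapDesc, pullback.map, pullback.lift_snd, Category.comp_id]

lemma range_prodInterior :
    Set.range ((ModPair.prodInterior f g I J).ι ≫ pullback.mapDesc f g σ) ⊆
      Set.range (ModPair.prodInterior (f ≫ σ) (g ≫ σ) I J).ι := by
  rintro _ ⟨x, rfl⟩
  rw [Scheme.Opens.range_ι]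
  have hx := x.2
  refine ⟨?_, ?_⟩
  · change (pullback.fst (f ≫ σ) (g ≫ σ))
      (((ModPair.prodInterior f g I J).ι ≫ pullback.mapDesc f g σ) x) ∈ ModPair.interior I
    rw [← Scheme.Hom.comp_apply, Category.assoc, mapDesc_fst]
    exact hx.1
  · change (pullback.snd (f ≫ σ) (g ≫ σ))
      (((ModPair.prodInterior f g I J).ι ≫ pullback.mapDesc f g σ) x) ∈ ModPair.interior J
    rw [← Scheme.Hom.comp_apply, Category.assoc, mapDesc_snd]
    exact hx.2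

lemma ker_mprodι_le :
    (ModPair.mprodι (f ≫ σ) (g ≫ σ) I J).ker ≤
      (ModPair.mprodι f g I J ≫ pullback.mapDesc f g σ).ker := by
  set O₁ := ModPair.prodInterior f g I J
  set O₀ := ModPair.prodInterior (f ≫ σ) (g ≫ σ) I J
  have h0 : (ModPair.mprodι (f ≫ σ) (g ≫ σ) I J).ker = O₀.ι.ker :=
    Scheme.IdealSheafData.ker_subschemeι _
  have h1 : (ModPair.mprodι f g I J).ker = O₁.ι.ker := Scheme.IdealSheafData.ker_subschemeι _
  rw [le_ker_iff_comap_eq_bot, Scheme.IdealSheafData.comap_comp, ← le_ker_iff_comap_eq_bot, h1,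
    le_ker_iff_comap_eq_bot, ← Scheme.IdealSheafData.comap_comp, ← le_ker_iff_comap_eq_bot, h0]
  let q := IsOpenImmersion.lift O₀.ι (O₁.ι ≫ pullback.mapDesc f g σ) (range_prodInterior J I f g σ)
  have hq : q ≫ O₀.ι = O₁.ι ≫ pullback.mapDesc f g σ := IsOpenImmersion.lift_fac _ _ _
  rw [← hq]
  exact ker_le_ker_comp q O₀.ι

/-- the induced map of the closures -/
noncomputable def ψ : ModPair.mprod f g I J ⟶ ModPair.mprod (f ≫ σ) (g ≫ σ) I J :=
  IsClosedImmersion.lift (ModPair.mprodι (f ≫ σ) (g ≫ σ) I J)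
    (ModPair.mprodι f g I J ≫ pullback.mapDesc f g σ) (ker_mprodι_le J I f g σ)

lemma ψ_ι : ψ J I f g σ ≫ ModPair.mprodι (f ≫ σ) (g ≫ σ) I J =
    ModPair.mprodι f g I J ≫ pullback.mapDesc f g σ := IsClosedImmersion.lift_fac _ _ _

lemma comap_ψ_fst : (I.comap (ModPair.mprodι (f ≫ σ) (g ≫ σ) I J ≫ pullback.fst _ _)).comap
    (ψ J I f g σ) = I.comap (ModPair.mprodι f g I J ≫ pullback.fst f g) := by
  rw [← Scheme.IdealSheafData.comap_comp, ← Category.assoc, ψ_ι, Category.assoc, mapDesc_fst]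

lemma comap_ψ_snd : (J.comap (ModPair.mprodι (f ≫ σ) (g ≫ σ) I J ≫ pullback.snd _ _)).comap
    (ψ J I f g σ) = J.comap (ModPair.mprodι f g I J ≫ pullback.snd f g) := by
  rw [← Scheme.IdealSheafData.comap_comp, ← Category.assoc, ψ_ι, Category.assoc, mapDesc_snd]

lemma comap_ψ_prodCentre : (ModPair.prodCentre (f ≫ σ) (g ≫ σ) I J).comap (ψ J I f g σ) =
    ModPair.prodCentre f g I J := by
  rw [ModPair.prodCentre, Scheme.IdealSheafData.comap_sup, comap_ψ_fst, comap_ψ_snd]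
  rfl

theorem main {Y₁ Y₀ : Scheme.{u}}
    (π₁ : Y₁ ⟶ ModPair.mprod f g I J) (K₁ : Y₁.IdealSheafData) (hY₁ : ModPair.IsAmbProd f g I J π₁ K₁)
    (π₀ : Y₀ ⟶ ModPair.mprod (f ≫ σ) (g ≫ σ) I J) (K₀ : Y₀.IdealSheafData)
    (hY₀ : ModPair.IsAmbProd (f ≫ σ) (g ≫ σ) I J π₀ K₀) :
    (∃! φ : Y₁ ⟶ Y₀, φ ≫ π₀ ≫ ModPair.mprodι (f ≫ σ) (g ≫ σ) I J =
        π₁ ≫ ModPair.mprodι f g I J ≫ pullback.mapDesc f g σ) ∧
      ∀ φ : Y₁ ⟶ Y₀, φ ≫ π₀ ≫ ModPair.mprodι (f ≫ σ) (g ≫ σ) I J =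
          π₁ ≫ ModPair.mprodι f g I J ≫ pullback.mapDesc f g σ →
        ModPair.IsMinimal K₁ K₀ φ := by
  have hE₁ : BlowUp.IsEffCartierIdeal ((ModPair.prodCentre f g I J).comap π₁) := hY₁.1.1
  have hcen : (ModPair.prodCentre (f ≫ σ) (g ≫ σ) I J).comap (π₁ ≫ ψ J I f g σ) =
      (ModPair.prodCentre f g I J).comap π₁ := by
    rw [Scheme.IdealSheafData.comap_comp, comap_ψ_prodCentre]
  have key : ∀ φ : Y₁ ⟶ Y₀, φ ≫ π₀ ≫ ModPair.mprodι (f ≫ σ) (g ≫ σ) I J =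
      π₁ ≫ ModPair.mprodι f g I J ≫ pullback.mapDesc f g σ ↔ φ ≫ π₀ = π₁ ≫ ψ J I f g σ := by
    intro φ
    rw [← cancel_mono (ModPair.mprodι (f ≫ σ) (g ≫ σ) I J), Category.assoc, Category.assoc, ψ_ι]
  obtain ⟨φ, hφ, hφu⟩ := hY₀.1.2 Y₁ (π₁ ≫ ψ J I f g σ) (by rw [hcen]; exact hE₁)
  refine ⟨⟨φ, (key φ).2 hφ, fun φ' hφ' => hφu φ' ((key φ').1 hφ')⟩, ?_⟩
  intro φ' hφ'
  have h1 := (key φ').1 hφ'
  have hEφ : ((ModPair.prodCentre (f ≫ σ) (g ≫ σ) I J).comap π₀).comap φ' =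
      (ModPair.prodCentre f g I J).comap π₁ := by
    rw [← Scheme.IdealSheafData.comap_comp, h1, hcen]
  have hAφ : ((I.comap (ModPair.mprodι (f ≫ σ) (g ≫ σ) I J ≫ pullback.fst _ _)).comap π₀).comap φ' =
      (I.comap (ModPair.mprodι f g I J ≫ pullback.fst f g)).comap π₁ := by
    rw [← Scheme.IdealSheafData.comap_comp _ φ' π₀, h1, Scheme.IdealSheafData.comap_comp,
      comap_ψ_fst]
  have hBφ : ((J.comap (ModPair.mprodι (f ≫ σ) (g ≫ σ) I J ≫ pullback.snd _ _)).comap π₀).comap φ' =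
      (J.comap (ModPair.mprodι f g I J ≫ pullback.snd f g)).comap π₁ := by
    rw [← Scheme.IdealSheafData.comap_comp _ φ' π₀, h1, Scheme.IdealSheafData.comap_comp,
      comap_ψ_snd]
  have h2 := congrArg (fun L => Scheme.IdealSheafData.comap L φ') hY₀.2
  simp only [comap_mul] at h2
  rw [hEφ, hAφ, hBφ, ← hY₁.2] at h2
  exact (mul_right_cancel_of_isEffCartier _ _ _ hE₁ h2).symm

end Groth.Agent.Lib.Helper9.MProd5
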