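import Groth.Agent.Lib.Helper9.LocPull1
import Groth.Agent.Lib.Helper9.BlowProper8
import Groth.Agent.Lib.Helper9.RCalc2
import Groth.Agent.Lib.Helper9.MProd6
import Groth.Agent.Lib.Helper9.MProd4
import Groth.Agent.Lib.Helper9.ColonE
import Groth.Agent.Lib.Helper29.RelEffCart
import Groth.Agent.Lib.Helper29.BlowUpUP2

set_option autoImplicit false
universe u
open CategoryTheory CategoryTheory.Limits AlgebraicGeometry TopologicalSpace

namespace Groth.Agent.Lib.Helper9.LocPull

open Groth.Agent.Lib.Helper29.EffCart Groth.Agent.Lib.Helper9.ABlow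
open Groth.Agent.Lib.Helper9.MProd ModPair

/-- restriction of an isomorphism-over-`V` to a smaller open -/
lemma isIso_morphismRestrict_of_le {X Y : Scheme.{u}} (f : X ⟶ Y) {U V : Y.Opens} (h : U ≤ V)
    (hV : IsIso (f ∣_ V)) : IsIso (f ∣_ U) := by
  have hle : f ⁻¹ᵁ U ≤ f ⁻¹ᵁ V := fun _ hx => h hx
  have big : IsPullback (X.homOfLE hle ≫ (f ⁻¹ᵁ V).ι) (f ∣_ U) f (Y.homOfLE h ≫ V.ι) := by
    rw [Scheme.homOfLE_ι, Scheme.homOfLE_ι]
    exact (isPullback_morphismRestrict f U).flip
  have right : IsPullback (f ⁻¹ᵁ V).ι (f ∣_ V) f V.ι := (isPullback_morphismRestrict f V).flip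
  have left : IsPullback (X.homOfLE hle) (f ∣_ U) (f ∣_ V) (Y.homOfLE h) := by
    refine IsPullback.of_right big ?_ right
    rw [← cancel_mono V.ι, Category.assoc, Category.assoc, morphismRestrict_ι, Scheme.homOfLE_ι,
      ← Category.assoc, Scheme.homOfLE_ι, morphismRestrict_ι]
  exact MorphismProperty.of_isPullback (P := MorphismProperty.isomorphisms Scheme.{u}) left hV


section Concrete

variable {P T X : ModPair.Pair.{u}} (f : X ⟶ P) (g : T ⟶ P)
  {Y : Scheme.{u}} (π : Y ⟶ ModPair.mprod f.hom g.hom X.mod T.mod) (K : Y.IdealSheafData)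

/-- effective Cartier-ness of the pulled-back exceptional ideal along an ambient morphism. -/
lemma isEffCartier_comap_centre (hY : ModPair.IsAmbProd f.hom g.hom X.mod T.mod π K)
    (hX : ModPair.IsAmbient K X.mod (π ≫ ModPair.mprodι f.hom g.hom X.mod T.mod ≫ pullback.fst f.hom g.hom))
    (hT : ModPair.IsAmbient K T.mod (π ≫ ModPair.mprodι f.hom g.hom X.mod T.mod ≫ pullback.snd f.hom g.hom))
    {A : Scheme.{u}} (D : A.IdealSheafData) (hD : BlowUp.IsEffCartierIdeal D) (h : A ⟶ Y)
    (hle : D ≤ K.comap h) :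
    BlowUp.IsEffCartierIdeal ((ModPair.prodCentre f.hom g.hom X.mod T.mod).comap (h ≫ π)) := by
  set ι := ModPair.mprodι f.hom g.hom X.mod T.mod with hι
  set IXm := X.mod.comap (ι ≫ pullback.fst f.hom g.hom) with hIXm
  set ITm := T.mod.comap (ι ≫ pullback.snd f.hom g.hom) with hITm
  set E := (ModPair.prodCentre f.hom g.hom X.mod T.mod).comap π with hE
  have hmul : K * E = IXm.comap π * ITm.comap π := hY.2
  have h1 := congrArg (fun 𝓙 : Y.IdealSheafData => 𝓙.comap h) hmul
  simp only [Groth.Agent.Lib.Helper9.MProd5.comap_mul] at h1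
  have hKX : K ≤ IXm.comap π := by
    rw [hIXm, ← Scheme.IdealSheafData.comap_comp]; exact hX
  have hKT : K ≤ ITm.comap π := by
    rw [hITm, ← Scheme.IdealSheafData.comap_comp]; exact hT
  have hlpX : HTop.IsLocPrincipal ((IXm.comap π).comap h) :=
    isLocPrincipal_comap _ (isLocPrincipal_comap _ (isLocPrincipal_comap _
      (Groth.Agent.Lib.Helper9.BlowProper.isLocPrincipal_of_isEffCartier _ X.isEffCartier) _) _) _
  have hlpT : HTop.IsLocPrincipal ((ITm.comap π).comap h) :=
    isLocPrincipal_comap _ (isLocPrincipal_comap _ (isLocPrincipal_comap _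
      (Groth.Agent.Lib.Helper9.BlowProper.isLocPrincipal_of_isEffCartier _ T.isEffCartier) _) _) _
  have heX : BlowUp.IsEffCartierIdeal ((IXm.comap π).comap h) :=
    Groth.Agent.Lib.Helper9.MProd4.isEffCartier_of_le D _ hD hlpX
      (hle.trans (Scheme.IdealSheafData.comap_mono h hKX))
  have heT : BlowUp.IsEffCartierIdeal ((ITm.comap π).comap h) :=
    Groth.Agent.Lib.Helper9.MProd4.isEffCartier_of_le D _ hD hlpT
      (hle.trans (Scheme.IdealSheafData.comap_mono h hKT))
  have hprod := Groth.Agent.Lib.Helper29.EffCart.isEffCartierIdeal_mul _ _ heX heT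
  rw [← h1, mul_comm] at hprod
  rw [Scheme.IdealSheafData.comap_comp]
  exact Groth.Agent.Lib.Helper9.BlowComp.isEffCartier_of_mul _ _ hprod


variable (hK : BlowUp.IsEffCartierIdeal K)

/-- uniqueness: pair morphisms into the ambient product are determined by their projections. -/
theorem hom_ext_ambProd (hY : ModPair.IsAmbProd f.hom g.hom X.mod T.mod π K)
    (hX : ModPair.IsAmbient K X.mod (π ≫ ModPair.mprodι f.hom g.hom X.mod T.mod ≫ pullback.fst f.hom g.hom))
    (hT : ModPair.IsAmbient K T.mod (π ≫ ModPair.mprodι f.hom g.hom X.mod T.mod ≫ pullback.snd f.hom g.hom))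
    {A : ModPair.Pair.{u}} (h₁ h₂ : A ⟶ ModPair.Pair.mk Y K hK)
    (eT : h₁.hom ≫ π ≫ ModPair.mprodι f.hom g.hom X.mod T.mod ≫ pullback.snd f.hom g.hom =
      h₂.hom ≫ π ≫ ModPair.mprodι f.hom g.hom X.mod T.mod ≫ pullback.snd f.hom g.hom)
    (eX : h₁.hom ≫ π ≫ ModPair.mprodι f.hom g.hom X.mod T.mod ≫ pullback.fst f.hom g.hom =
      h₂.hom ≫ π ≫ ModPair.mprodι f.hom g.hom X.mod T.mod ≫ pullback.fst f.hom g.hom) :
    h₁ = h₂ := by
  apply ModPair.Pair.Hom.ext
  have hπ : h₁.hom ≫ π = h₂.hom ≫ π := by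
    haveI : IsClosedImmersion (ModPair.mprodι f.hom g.hom X.mod T.mod) := by
      unfold ModPair.mprodι; infer_instance
    rw [← cancel_mono (ModPair.mprodι f.hom g.hom X.mod T.mod)]
    apply pullback.hom_ext
    · simpa only [Category.assoc] using eX
    · simpa only [Category.assoc] using eT
  exact IsBlowUp.hom_ext hY.1 h₁.hom h₂.hom
    (isEffCartier_comap_centre f g π K hY hX hT A.mod A.isEffCartier h₁.hom h₁.cond) hπ

end Concrete

end Groth.Agent.Lib.Helper9.LocPull
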