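import Groth.Agent.Lib.Helper9.LocPull2
import Groth.Agent.Lib.Helper9.MProd2

set_option autoImplicit false
universe u
open CategoryTheory CategoryTheory.Limits AlgebraicGeometry TopologicalSpace

namespace Groth.Agent.Lib.Helper9.LocPull

open Groth.Agent.Lib.Helper29.EffCart Groth.Agent.Lib.Helper9.ABlow
open Groth.Agent.Lib.Helper9.MProd ModPair

section Concrete

variable {P T X : ModPair.Pair.{u}} (f : X ⟶ P) (g : T ⟶ P)
  {Y : Scheme.{u}} (π : Y ⟶ ModPair.mprod f.hom g.hom X.mod T.mod) (K : Y.IdealSheafData)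
  (hK : BlowUp.IsEffCartierIdeal K)

/-- existence: a pair of compatible pair morphisms lifts to the ambient product after an
admissible blow-up. -/
theorem exists_lift_ambProd (hY : ModPair.IsAmbProd f.hom g.hom X.mod T.mod π K)
    (A : ModPair.Pair.{u}) (b : A ⟶ T) (a : A ⟶ X) (hab : b ≫ g = a ≫ f) :
    ∃ (A' : ModPair.Pair.{u}) (s : A' ⟶ A) (_ : ModPair.Pair.admBlowup s)
      (h : A' ⟶ ModPair.Pair.mk Y K hK),
      h.hom ≫ π ≫ ModPair.mprodι f.hom g.hom X.mod T.mod ≫ pullback.snd f.hom g.hom = s.hom ≫ b.hom ∧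
      h.hom ≫ π ≫ ModPair.mprodι f.hom g.hom X.mod T.mod ≫ pullback.fst f.hom g.hom = s.hom ≫ a.hom := by
  set ι := ModPair.mprodι f.hom g.hom X.mod T.mod with hι
  haveI : IsClosedImmersion ι := by
    rw [hι]; unfold ModPair.mprodι; infer_instance
  have hab' : a.hom ≫ f.hom = b.hom ≫ g.hom := (congrArg ModPair.Pair.Hom.hom hab).symm
  -- step 1: the map to the fibre product
  let l₀ : A.total ⟶ pullback f.hom g.hom := pullback.lift a.hom b.hom hab'
  have hl₀X : l₀ ≫ pullback.fst f.hom g.hom = a.hom := pullback.lift_fst _ _ _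
  have hl₀T : l₀ ≫ pullback.snd f.hom g.hom = b.hom := pullback.lift_snd _ _ _
  -- step 2: factor through `mprod`
  have hint : ModPair.interior A.mod ≤ l₀ ⁻¹ᵁ ModPair.prodInterior f.hom g.hom X.mod T.mod := by
    intro x hx
    refine ⟨?_, ?_⟩
    · change (l₀ ≫ pullback.fst f.hom g.hom) x ∈ ModPair.interior X.mod
      rw [hl₀X]
      have := interior_mono a.cond hx
      rwa [interior_comap] at this
    · change (l₀ ≫ pullback.snd f.hom g.hom) x ∈ ModPair.interior T.mod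
      rw [hl₀T]
      have := interior_mono b.cond hx
      rwa [interior_comap] at this
  have hker : ι.ker ≤ l₀.ker := by
    have h1 := Groth.Agent.Lib.Helper9.MProd2.ker_le_of_interior_le A.mod A.isEffCartier l₀ _ hint
    have h2 : ι.ker = (ModPair.prodInterior f.hom g.hom X.mod T.mod).ι.ker :=
      Scheme.IdealSheafData.ker_subschemeι _
    rw [h2]; exact h1
  let l₁ : A.total ⟶ ModPair.mprod f.hom g.hom X.mod T.mod := IsClosedImmersion.lift ι l₀ hker
  have hl₁ : l₁ ≫ ι = l₀ := IsClosedImmersion.lift_fac _ _ _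
  -- step 3: blow up
  set IXm := X.mod.comap (ι ≫ pullback.fst f.hom g.hom) with hIXm
  set ITm := T.mod.comap (ι ≫ pullback.snd f.hom g.hom) with hITm
  have hcentre : ModPair.prodCentre f.hom g.hom X.mod T.mod = IXm ⊔ ITm := rfl
  set C := (ModPair.prodCentre f.hom g.hom X.mod T.mod).comap l₁ with hC
  have hIXm_l₁ : IXm.comap l₁ = X.mod.comap a.hom := by
    rw [hIXm, ← Scheme.IdealSheafData.comap_comp, ← Category.assoc, hl₁, hl₀X]
  have hITm_l₁ : ITm.comap l₁ = T.mod.comap b.hom := by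
    rw [hITm, ← Scheme.IdealSheafData.comap_comp, ← Category.assoc, hl₁, hl₀T]
  have hC' : C = X.mod.comap a.hom ⊔ T.mod.comap b.hom := by
    rw [hC, hcentre, Scheme.IdealSheafData.comap_sup, hIXm_l₁, hITm_l₁]
  obtain ⟨A'', β, hβ⟩ := Groth.Agent.Lib.Helper9.BlowExist.exists_isBlowUp C
  have hD'' : BlowUp.IsEffCartierIdeal (A.mod.comap β) :=
    IsBlowUp.isEffCartierIdeal_comap hβ A.mod A.isEffCartier
  let A' : ModPair.Pair.{u} := ModPair.Pair.mk A'' (A.mod.comap β) hD''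
  let s : A' ⟶ A := ⟨β, le_rfl⟩
  have hfin : BlowUp.IsFiniteTypeIdeal C :=
    Groth.Agent.Lib.Helper9.BlowComp.isFiniteTypeIdeal_comap _ _
      (Groth.Agent.Lib.Helper9.BlowProper.isFiniteTypeIdeal_prodCentre f.hom g.hom X.mod T.mod
        X.isEffCartier T.isEffCartier)
  have hs : ModPair.Pair.admBlowup s := by
    refine ⟨rfl, Groth.Agent.Lib.Helper9.BlowProper.isProper_of_isBlowUp hβ hfin, ?_⟩
    have hle : ModPair.interior A.mod ≤ C.support.compl := by
      change ModPair.interior A.mod ≤ ModPair.interior C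
      apply Groth.Agent.Lib.Helper9.MProd.interior_mono
      rw [hC']
      exact a.cond.trans le_sup_left
    exact isIso_morphismRestrict_of_le β hle (IsBlowUp.isIso_morphismRestrict hβ)
  -- step 4: lift to the blow-up `Y`
  have heff : BlowUp.IsEffCartierIdeal
      ((ModPair.prodCentre f.hom g.hom X.mod T.mod).comap (β ≫ l₁)) := by
    rw [Scheme.IdealSheafData.comap_comp]; exact hβ.1
  obtain ⟨h₀, hh₀, -⟩ := hY.1.2 _ (β ≫ l₁) heff
  have hh₀X : h₀ ≫ π ≫ ι ≫ pullback.fst f.hom g.hom = β ≫ a.hom := by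
    rw [← Category.assoc, hh₀, Category.assoc, ← Category.assoc l₁, hl₁, hl₀X]
  have hh₀T : h₀ ≫ π ≫ ι ≫ pullback.snd f.hom g.hom = β ≫ b.hom := by
    rw [← Category.assoc, hh₀, Category.assoc, ← Category.assoc l₁, hl₁, hl₀T]
  -- step 5: the modulus condition
  set Pc := X.mod.comap (β ≫ a.hom) with hPc
  set Qc := T.mod.comap (β ≫ b.hom) with hQc
  have hDP : A.mod.comap β ≤ Pc := by
    rw [hPc, Scheme.IdealSheafData.comap_comp]
    exact Scheme.IdealSheafData.comap_mono β a.cond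
  have hDQ : A.mod.comap β ≤ Qc := by
    rw [hQc, Scheme.IdealSheafData.comap_comp]
    exact Scheme.IdealSheafData.comap_mono β b.cond
  have hPQ : C.comap β = Pc ⊔ Qc := by
    rw [hC', Scheme.IdealSheafData.comap_sup, ← Scheme.IdealSheafData.comap_comp,
      ← Scheme.IdealSheafData.comap_comp]
  have hEh : ((ModPair.prodCentre f.hom g.hom X.mod T.mod).comap π).comap h₀ = Pc ⊔ Qc := by
    rw [← Scheme.IdealSheafData.comap_comp, hh₀, Scheme.IdealSheafData.comap_comp, hPQ]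
  have hIXh : (IXm.comap π).comap h₀ = Pc := by
    rw [hIXm, ← Scheme.IdealSheafData.comap_comp, ← Scheme.IdealSheafData.comap_comp, hPc]
    congr 1
  have hITh : (ITm.comap π).comap h₀ = Qc := by
    rw [hITm, ← Scheme.IdealSheafData.comap_comp, ← Scheme.IdealSheafData.comap_comp, hQc]
    congr 1
  have hmul : K.comap h₀ * (Pc ⊔ Qc) = Pc * Qc := by
    have h1 := congrArg (fun 𝓙 : Y.IdealSheafData => 𝓙.comap h₀) hY.2
    simp only [Groth.Agent.Lib.Helper9.MProd5.comap_mul] at h1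
    rw [hEh, hIXh, hITh] at h1
    exact h1
  have hlpP : HTop.IsLocPrincipal Pc := isLocPrincipal_comap _
    (Groth.Agent.Lib.Helper9.BlowProper.isLocPrincipal_of_isEffCartier _ X.isEffCartier) _
  have hlpQ : HTop.IsLocPrincipal Qc := isLocPrincipal_comap _
    (Groth.Agent.Lib.Helper9.BlowProper.isLocPrincipal_of_isEffCartier _ T.isEffCartier) _
  have heP : BlowUp.IsEffCartierIdeal Pc :=
    Groth.Agent.Lib.Helper9.MProd4.isEffCartier_of_le _ _ hD'' hlpP hDP
  have heQ : BlowUp.IsEffCartierIdeal Qc :=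
    Groth.Agent.Lib.Helper9.MProd4.isEffCartier_of_le _ _ hD'' hlpQ hDQ
  have heS : BlowUp.IsEffCartierIdeal (Pc ⊔ Qc) := hPQ ▸ hβ.1
  obtain ⟨P', Q', -, -, eP, eQ, -, hD⟩ :=
    Groth.Agent.Lib.Helper9.ColonE.effCartier_sub_inter_coprime Pc Qc heP heQ heS
  have hKh : K.comap h₀ = P' * Q' * (Pc ⊔ Qc) := by
    apply Groth.Agent.Lib.Helper9.MProd5.mul_right_cancel_of_isEffCartier _ _ (Pc ⊔ Qc) heS
    rw [hmul]
    calc Pc * Qc = (P' * (Pc ⊔ Qc)) * (Q' * (Pc ⊔ Qc)) := by rw [← eP, ← eQ]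
      _ = P' * Q' * (Pc ⊔ Qc) * (Pc ⊔ Qc) := by ring
  have hcond : A.mod.comap β ≤ K.comap h₀ := by
    rw [hKh]; exact hD _ hD'' hDP hDQ
  let h : A' ⟶ ModPair.Pair.mk Y K hK := ⟨h₀, hcond⟩
  exact ⟨A', s, hs, h, hh₀T, hh₀X⟩

end Concrete

end Groth.Agent.Lib.Helper9.LocPull
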