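import Groth.Agent.Lib.Helper9.LocPull1

set_option autoImplicit false
universe v₁ v₂ u₁ u₂
open CategoryTheory CategoryTheory.Limits

namespace Groth.Agent.Lib.Helper9.LocPull

variable {C : Type u₁} [Category.{v₁} C] {D : Type u₂} [Category.{v₂} D]
  (W : MorphismProperty C) [W.HasRightCalculusOfFractions] (L : C ⥤ D) [L.IsLocalization W]

include W L in
/-- the image of a terminal object is terminal in the localization (right calculus). -/
theorem hasTerminal_of_isTerminal {T₀ : C} (hT₀ : IsTerminal T₀) : HasTerminal D := by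
  haveI : L.EssSurj := Localization.essSurj L W
  haveI : ∀ Z : D, Nonempty (Z ⟶ L.obj T₀) := fun Z =>
    ⟨(L.objObjPreimageIso Z).inv ≫ L.map (hT₀.from _)⟩
  haveI : ∀ Z : D, Subsingleton (Z ⟶ L.obj T₀) := fun Z => by
    refine ⟨fun γ₁ γ₂ => ?_⟩
    rw [← cancel_epi (L.objObjPreimageIso Z).hom]
    obtain ⟨A', s, hs, h₁, h₂, e₁, e₂⟩ := exists_rep₂ W L ((L.objObjPreimageIso Z).hom ≫ γ₁)
      ((L.objObjPreimageIso Z).hom ≫ γ₂)
    haveI := isIso_map W L s hs
    rw [← cancel_epi (L.map s), e₁, e₂, hT₀.hom_ext h₁ h₂]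
  exact hasTerminal_of_unique (L.obj T₀)

include W in
/-- pullbacks in the localization from pullback squares of images. -/
theorem hasPullbacks_of_exists
    (h : ∀ {X T P : C} (f : X ⟶ P) (g : T ⟶ P), ∃ (Y : C) (pT : Y ⟶ T) (pX : Y ⟶ X),
      IsPullback (L.map pT) (L.map pX) (L.map g) (L.map f)) : HasPullbacks D := by
  haveI : L.EssSurj := Localization.essSurj L W
  refine @hasPullbacks_of_hasLimit_cospan D _ (fun {Z₁ Z₂ Z₀} α β => ?_)
  -- α : Z₁ ⟶ Z₀, β : Z₂ ⟶ Z₀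
  set e₁ := L.objObjPreimageIso Z₁ with he₁
  set e₂ := L.objObjPreimageIso Z₂ with he₂
  set e₀ := L.objObjPreimageIso Z₀ with he₀
  obtain ⟨A₁', s, hs, a, ha⟩ := exists_rep W L (e₁.hom ≫ α ≫ e₀.inv)
  obtain ⟨A₂', t, ht, b, hb⟩ := exists_rep W L (e₂.hom ≫ β ≫ e₀.inv)
  haveI := isIso_map W L s hs
  haveI := isIso_map W L t ht
  obtain ⟨Y, pT, pX, hpb⟩ := h a b
  -- hpb : IsPullback (L pT) (L pX) (L b) (L a)
  have key : IsPullback (L.map pT ≫ L.map t ≫ e₂.hom) (L.map pX ≫ L.map s ≫ e₁.hom) β α := by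
    refine IsPullback.of_iso hpb (Iso.refl _) (asIso (L.map t) ≪≫ e₂) (asIso (L.map s) ≪≫ e₁) e₀
      ?_ ?_ ?_ ?_
    · simp
    · simp
    · simp only [Iso.trans_hom, asIso_hom, Category.assoc]
      rw [← hb]; simp
    · simp only [Iso.trans_hom, asIso_hom, Category.assoc]
      rw [← ha]; simp
  exact key.flip.hasPullback

end Groth.Agent.Lib.Helper9.LocPull
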