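import Groth.Agent.Lib.Helper9.ABlow3
import Groth.Agent.Lib.Helper9.MProd3

set_option autoImplicit false
universe u
open CategoryTheory CategoryTheory.Limits AlgebraicGeometry TopologicalSpace

namespace Groth.Agent.Lib.Helper9.MProd5

open Groth.Agent.Lib.Helper29.EffCart

/-- inverse image of ideal sheaves commutes with products (after Helper15's UnivThick) -/
theorem comap_mul {X Y : Scheme.{u}} (P Q : Y.IdealSheafData) (g : X ⟶ Y) :
    (P * Q).comap g = P.comap g * Q.comap g := by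
  let ι := { U : X.affineOpens // ∃ V : Y.affineOpens, U.1 ≤ g ⁻¹ᵁ V.1 }
  have hcov : ⨆ i : ι, (i.1 : X.affineOpens).1 = ⊤ := by
    rw [eq_top_iff]
    intro x _
    obtain ⟨_, ⟨V, hV : IsAffineOpen V, rfl⟩, hxV, -⟩ :=
      Y.isBasis_affineOpens.exists_subset_of_mem_open (Set.mem_univ (g x)) isOpen_univ
    obtain ⟨_, ⟨U, hU : IsAffineOpen U, rfl⟩, hxU, hUV⟩ :=
      X.isBasis_affineOpens.exists_subset_of_mem_open (show x ∈ (g ⁻¹ᵁ V : Set X) from hxV)
        (g ⁻¹ᵁ V).2
    exact TopologicalSpace.Opens.mem_iSup.2 ⟨⟨⟨U, hU⟩, ⟨V, hV⟩, hUV⟩, hxU⟩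
  refine Scheme.IdealSheafData.ext_of_iSup_eq_top (fun i : ι => i.1) hcov ?_
  rintro ⟨U, V, e⟩
  have h1 := ideal_comap_eq_map P g V U e
  have h2 := ideal_comap_eq_map Q g V U e
  have h3 := ideal_comap_eq_map (P * Q) g V U e
  change ((P * Q).comap g).ideal U = (P.comap g).ideal U * (Q.comap g).ideal U
  rw [h1, h2, h3, ← Ideal.map_mul]
  rfl

/-- cancellation of an effective Cartier ideal -/
theorem mul_right_cancel_of_isEffCartier {X : Scheme.{u}} (A B E : X.IdealSheafData)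
    (hE : BlowUp.IsEffCartierIdeal E) (h : A * E = B * E) : A = B := by
  choose W hxW e he hW using hE
  have hcov : ⨆ x : X, (W x).1 = ⊤ := by
    rw [eq_top_iff]
    intro x _
    exact Opens.mem_iSup.2 ⟨x, hxW x⟩
  refine Scheme.IdealSheafData.ext_of_iSup_eq_top W hcov ?_
  intro x
  have h1 : A.ideal (W x) * Ideal.span {e x} = B.ideal (W x) * Ideal.span {e x} := by
    have := congrArg (fun L : X.IdealSheafData => L.ideal (W x)) h
    simpa [hW x] using this
  have key : ∀ P Q : Ideal Γ(X, (W x).1), P * Ideal.span {e x} = Q * Ideal.span {e x} → P ≤ Q := by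
    intro P Q hPQ a ha
    have : a * e x ∈ Q * Ideal.span {e x} := by
      rw [← hPQ]; exact Ideal.mul_mem_mul ha (Ideal.subset_span rfl)
    obtain ⟨b, hb, hbe⟩ := Ideal.mem_mul_span_singleton.1 this
    have : a = b := by
      have h0 : (a - b) * e x = 0 := by rw [sub_mul, hbe, sub_self]
      exact sub_eq_zero.1 ((mem_nonZeroDivisors_iff_right.1 (he x)) _ h0)
    rw [this]; exact hb
  exact le_antisymm (key _ _ h1) (key _ _ h1.symm)

lemma ker_comp_of_ker_eq_bot {X Y Z : Scheme.{u}} (d : X ⟶ Y) (h : Y ⟶ Z) (hd : d.ker = ⊥) :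
    (d ≫ h).ker = h.ker := by
  rw [Scheme.Hom.ker_comp, hd, Scheme.IdealSheafData.map_bot]

end Groth.Agent.Lib.Helper9.MProd5
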