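import Mathlib
import Groth.Prelude.Def_Magnet4
import Groth.Agent.Lib.Helper9.SpecPO
set_option autoImplicit false
set_option linter.style.haveILetI false
set_option linter.unusedSectionVars false
universe u v w
open CategoryTheory CategoryTheory.Limits AlgebraicGeometry TopologicalSpace Opposite Topology

namespace Groth.Agent.Lib.Helper9.Mag

open Magnet Groth.Agent.Lib.Helper9.RingPB

variable (R : Type u) [CommRing R] {M : Type v} [AddCommMonoid M]

/-- the inclusion of multiplicative monoids attached to `F ≤ N` -/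
def incl {F N : AddSubmonoid M} (h : F ≤ N) : Multiplicative ↥F →* Multiplicative ↥N :=
  AddMonoidHom.toMultiplicative (AddSubmonoid.inclusion h)

theorem incl_injective {F N : AddSubmonoid M} (h : F ≤ N) : Function.Injective (incl h) := by
  intro a b hab
  have := AddSubmonoid.inclusion_injective h (show AddSubmonoid.inclusion h (Multiplicative.toAdd a) =
    AddSubmonoid.inclusion h (Multiplicative.toAdd b) from hab)
  exact this

theorem mem_range_incl {F N : AddSubmonoid M} (h : F ≤ N) (n : Multiplicative ↥N) :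
    n ∈ Set.range (incl h) ↔ ((Multiplicative.toAdd n : ↥N) : M) ∈ F := by
  constructor
  · rintro ⟨m, rfl⟩
    exact (Multiplicative.toAdd m).2
  · intro hn
    exact ⟨Multiplicative.ofAdd ⟨_, hn⟩, rfl⟩

theorem faceAlgHom_eq_comapDomain {N F : AddSubmonoid M} (hF : IsFace N F)
    (x : MonoidAlgebra R (Multiplicative ↥N)) :
    faceAlgHom R hF x = MonoidAlgebra.comapDomain (incl hF.le) (incl_injective hF.le) x := by
  induction x using MonoidAlgebra.induction_linear with
  | zero => rw [map_zero, MonoidAlgebra.comapDomain_zero]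
  | add x y hx hy => rw [map_add, MonoidAlgebra.comapDomain_add, hx, hy]
  | single n r =>
    by_cases hn : ((Multiplicative.toAdd n : ↥N) : M) ∈ F
    · rw [show n = Multiplicative.ofAdd (Multiplicative.toAdd n) from rfl,
        faceAlgHom_single_of_mem R hF _ hn]
      exact (MonoidAlgebra.comapDomain_single_map (incl hF.le) (incl_injective hF.le)
        (Multiplicative.ofAdd ⟨_, hn⟩) r).symm
    · rw [show n = Multiplicative.ofAdd (Multiplicative.toAdd n) from rfl,
        faceAlgHom_single_of_not_mem R hF _ hn]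
      refine (MonoidAlgebra.comapDomain_single_of_not_mem_range ?_ (incl_injective hF.le)).symm
      rwa [mem_range_incl]


theorem coeff_faceAlgHom {N F : AddSubmonoid M} (hF : IsFace N F)
    (x : MonoidAlgebra R (Multiplicative ↥N)) (m : Multiplicative ↥F) :
    (faceAlgHom R hF x).coeff m = x.coeff (incl hF.le m) := by
  rw [faceAlgHom_eq_comapDomain, MonoidAlgebra.coeff_comapDomain, Finsupp.comapDomain_apply]

theorem coeff_mapDomain_incl {F N : AddSubmonoid M} (h : F ≤ N)
    (x : MonoidAlgebra R (Multiplicative ↥F)) (m : Multiplicative ↥F) :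
    (MonoidAlgebra.mapDomain (incl h) x).coeff (incl h m) = x.coeff m := by
  rw [MonoidAlgebra.mapDomain]
  exact Finsupp.mapDomain_apply (incl_injective h) _ _

theorem coeff_mapDomain_incl_of_not_mem {F N : AddSubmonoid M} (h : F ≤ N)
    (x : MonoidAlgebra R (Multiplicative ↥F)) (n : Multiplicative ↥N)
    (hn : ((Multiplicative.toAdd n : ↥N) : M) ∉ F) :
    (MonoidAlgebra.mapDomain (incl h) x).coeff n = 0 := by
  rw [MonoidAlgebra.mapDomain]
  refine Finsupp.mapDomain_of_notMem_range _ _ ?_
  rwa [mem_range_incl]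

/-- the map `R[F] → R[N]` dual to `F ≤ N`, as a ring hom (spelled as in `AMon.map_left`) -/
noncomputable def mapHom {F N : AddSubmonoid M} (h : F ≤ N) :
    MonoidAlgebra R (Multiplicative ↥F) →+* MonoidAlgebra R (Multiplicative ↥N) :=
  (MonoidAlgebra.mapDomainBialgHom R
    (AddMonoidHom.toMultiplicative (AddSubmonoid.inclusion h))).toAlgHom.toRingHom

theorem mapHom_apply {F N : AddSubmonoid M} (h : F ≤ N) (x : MonoidAlgebra R (Multiplicative ↥F)) :
    mapHom R h x = MonoidAlgebra.mapDomain (incl h) x := rfl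

theorem isPB_of_sdiff (N N' L L' : AddSubmonoid M) (hNL : N ≤ L) (hN'L' : N' ≤ L')
    (hL : IsFace L' L) (hN : IsFace N' N)
    (hdiff : (N' : Set M) = (L' : Set M) \ ((L : Set M) \ (N : Set M))) :
    IsPB (mapHom R hN'L') (faceAlgHom R hN).toRingHom (faceAlgHom R hL).toRingHom
      (mapHom R hNL) := by
  have key : ∀ x : M, x ∈ N' → (x ∈ L ↔ x ∈ N) := by
    intro x hx
    have hx' : x ∈ (L' : Set M) \ ((L : Set M) \ (N : Set M)) := hdiff ▸ hx
    exact ⟨fun h => by_contra fun h' => hx'.2 ⟨h, h'⟩, fun h => hNL h⟩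
  have key2 : ∀ x : M, x ∈ L' → (x ∈ L → x ∈ N) → x ∈ N' := by
    intro x hx h
    have : x ∈ (L' : Set M) \ ((L : Set M) \ (N : Set M)) := ⟨hx, fun h' => h'.2 (h h'.1)⟩
    rw [← hdiff] at this
    exact this
  refine ⟨?_, ?_, ?_⟩
  · intro x
    apply MonoidAlgebra.ext
    ext l
    change (faceAlgHom R hL (mapHom R hN'L' x)).coeff l = (mapHom R hNL (faceAlgHom R hN x)).coeff l
    rw [coeff_faceAlgHom, mapHom_apply, mapHom_apply]
    by_cases hl : ((Multiplicative.toAdd l : ↥L) : M) ∈ N
    · obtain ⟨n, rfl⟩ := (mem_range_incl hNL l).mpr hl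
      rw [coeff_mapDomain_incl, coeff_faceAlgHom]
      exact coeff_mapDomain_incl R hN'L' x (incl hN.le n)
    · rw [coeff_mapDomain_incl_of_not_mem R hNL _ l hl]
      refine coeff_mapDomain_incl_of_not_mem R hN'L' x _ ?_
      intro h
      exact hl ((key _ h).mp (Multiplicative.toAdd l).2)
  · intro x h1 _
    exact MonoidAlgebra.mapDomain_injective (incl_injective hN'L') (h1.trans (map_zero (mapHom R hN'L')).symm)
  · intro x₁ x₂ h
    have hc : ∀ l : Multiplicative ↥L, x₁.coeff (incl hL.le l) =
        (MonoidAlgebra.mapDomain (incl hNL) x₂).coeff l := by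
      intro l
      rw [← coeff_faceAlgHom R hL]
      exact congrArg (fun y => MonoidAlgebra.coeff y l) h
    have hsupp : (↑x₁.coeff.support : Set (Multiplicative ↥L')) ⊆ Set.range (incl hN'L') := by
      intro l' hl'
      rw [mem_range_incl]
      refine key2 _ (Multiplicative.toAdd l').2 ?_
      intro hlL
      by_contra hlN
      have h0 := hc (Multiplicative.ofAdd ⟨_, hlL⟩)
      rw [coeff_mapDomain_incl_of_not_mem R hNL x₂ _ hlN] at h0
      exact (Finsupp.mem_support_iff.mp hl') h0
    refine ⟨MonoidAlgebra.comapDomain (incl hN'L') (incl_injective hN'L') x₁, ?_, ?_⟩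
    · rw [mapHom_apply]
      exact MonoidAlgebra.mapDomain_comapDomain hsupp (incl_injective hN'L')
    · apply MonoidAlgebra.ext
      ext n
      change (faceAlgHom R hN _).coeff n = x₂.coeff n
      rw [coeff_faceAlgHom, MonoidAlgebra.coeff_comapDomain, Finsupp.comapDomain_apply,
        ← coeff_mapDomain_incl R hNL x₂ n, ← hc]
      rfl

end Groth.Agent.Lib.Helper9.Mag
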