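import Mathlib
import Groth.Prelude.Def_Magnet4
import Groth.Agent.Lib.Helper9.SpecPO
import Groth.Agent.Lib.Helper9.Ferrand25
import Groth.Agent.Lib.Helper9.Mag1
set_option autoImplicit false
set_option linter.style.haveILetI false
set_option linter.unusedSectionVars false
universe u v w
open CategoryTheory CategoryTheory.Limits AlgebraicGeometry TopologicalSpace Opposite Topology

namespace Groth.Agent.Lib.Helper9.Mag

open Magnet Groth.Agent.Lib.Helper9.RingPB Groth.Agent.Lib.Helper9.Ferrand

/-- **Base change of a scheme pushout in `Over B`** along `g : S ⟶ B`, when the glued-along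
scheme is flat over `B`, the first leg is a closed immersion and the coprojections are affine. -/
theorem isPushout_overPullback {B S : Scheme.{u}} (g : S ⟶ B) {Z X Y P : Over B}
    (i : Z ⟶ X) (j : Z ⟶ Y) (a : X ⟶ P) (b : Y ⟶ P)
    [IsClosedImmersion i.left] [IsAffineHom a.left] [IsAffineHom b.left] [Flat Z.hom]
    (hP : IsPushout i.left j.left a.left b.left) :
    IsPushout ((Over.pullback g).map i) ((Over.pullback g).map j) ((Over.pullback g).map a)
      ((Over.pullback g).map b) := by
  have w : i ≫ a = j ≫ b := by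
    ext
    exact hP.w
  have w' : (Over.pullback g).map i ≫ (Over.pullback g).map a =
      (Over.pullback g).map j ≫ (Over.pullback g).map b := by
    rw [← Functor.map_comp, ← Functor.map_comp, w]
  haveI : Flat ((i.left ≫ a.left) ≫ P.hom) := by
    rw [Category.assoc, Over.w, Over.w]; infer_instance
  refine IsPushout.of_map (Over.forget S) w' ?_
  refine isPushout_baseChange_of_flat_source i.left j.left a.left b.left P.hom g
    (pullback.fst P.hom g) (pullback.snd P.hom g)
    (pullback.fst X.hom g) ((Over.pullback g).map a).left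
    (pullback.fst Y.hom g) ((Over.pullback g).map b).left
    (pullback.fst Z.hom g) ((Over.pullback g).map (i ≫ a)).left
    ((Over.pullback g).map i).left ((Over.pullback g).map j).left hP
    (IsPullback.of_hasPullback P.hom g) (isPullback_overPullback_map g a)
    (isPullback_overPullback_map g b) (isPullback_overPullback_map g (i ≫ a))
    (overPullback_map_fst g i) ?_ (overPullback_map_fst g j) ?_
  · rw [Functor.map_comp]; rfl
  · rw [w, Functor.map_comp]; rfl


instance isAffine_AMon_left (R : Type u) [CommRing R] (M : Type) [AddCommMonoid M] :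
    IsAffine (AMon R M).left :=
  inferInstanceAs (IsAffine (Spec (CommRingCat.of (MonoidAlgebra R (Multiplicative M)))))

instance flat_AMon_hom (R : Type u) [CommRing R] (M : Type) [AddCommMonoid M] :
    Flat (AMon R M).hom := by
  change Flat (Spec.map (CommRingCat.ofHom (algebraMap R (MonoidAlgebra R (Multiplicative M)))))
  rw [Flat.SpecMap_iff]
  change (algebraMap R (MonoidAlgebra R (Multiplicative M))).Flat
  rw [RingHom.flat_algebraMap_iff]
  infer_instance

theorem isPushout_AMonS (S : Scheme.{u}) (M : Type) [AddCommMonoid M]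
    (N N' L L' : AddSubmonoid M) (hNL : N ≤ L) (hN'L' : N' ≤ L') (hL : Magnet.IsFace L' L)
    (hN : Magnet.IsFace N' N) (hdiff : (N' : Set M) = (L' : Set M) \ ((L : Set M) \ (N : Set M))) :
    IsPushout (Magnet.AMonS.faceMap S hL) (Magnet.AMonS.map S (AddSubmonoid.inclusion hNL))
      (Magnet.AMonS.map S (AddSubmonoid.inclusion hN'L')) (Magnet.AMonS.faceMap S hN) := by
  have H := isPB_of_sdiff (ULift.{u} ℤ) N N' L L' hNL hN'L' hL hN hdiff
  have hsurj : Function.Surjective (faceAlgHom (ULift.{u} ℤ) hL).toRingHom := by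
    intro y
    refine ⟨mapHom (ULift.{u} ℤ) hL.le y, ?_⟩
    exact congrArg (fun φ : MonoidAlgebra (ULift.{u} ℤ) (Multiplicative ↥L) →ₐ[ULift.{u} ℤ] _ => φ y)
      (faceAlgHom_comp_mapDomain (ULift.{u} ℤ) hL)
  have hP := isPushout_Spec H hsurj
  haveI : IsClosedImmersion (AMon.faceMap (ULift.{u} ℤ) hL).left :=
    IsClosedImmersion.spec_of_surjective _ hsurj
  haveI : IsAffineHom (AMon.map (ULift.{u} ℤ) (AddSubmonoid.inclusion hN'L')).left := by
    exact isAffineHom_of_isAffine _
  haveI : IsAffineHom (AMon.faceMap (ULift.{u} ℤ) hN).left := by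
    exact isAffineHom_of_isAffine _
  exact isPushout_overPullback (Limits.IsTerminal.from specULiftZIsTerminal S)
    (AMon.faceMap (ULift.{u} ℤ) hL) (AMon.map (ULift.{u} ℤ) (AddSubmonoid.inclusion hNL))
    (AMon.map (ULift.{u} ℤ) (AddSubmonoid.inclusion hN'L')) (AMon.faceMap (ULift.{u} ℤ) hN) hP

end Groth.Agent.Lib.Helper9.Mag
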