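import Mathlib
import Groth.Prelude.Def_Magnet4
set_option autoImplicit false
set_option linter.style.haveILetI false
set_option linter.unusedSectionVars false
universe u v w v₁ u₁
open CategoryTheory CategoryTheory.Limits MonoidalCategory CartesianMonoidalCategory MonObj Opposite

namespace Groth.Agent.Lib.Helper9.Mag

open Magnet Magnet.MonAct

section General

variable {C : Type u₁} [Category.{v₁} C] [CartesianMonoidalCategory C]

/-- the swap `B ⊗ (A ⊗ T) ⟶ A ⊗ (B ⊗ T)` -/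
def swp (A B T : C) : B ⊗ (A ⊗ T) ⟶ A ⊗ (B ⊗ T) :=
  lift (snd B (A ⊗ T) ≫ fst A T) (lift (fst B (A ⊗ T)) (snd B (A ⊗ T) ≫ snd A T))

theorem swp_swp (A B T : C) : swp B A T ≫ swp A B T = 𝟙 _ := by
  unfold swp
  apply CartesianMonoidalCategory.hom_ext
  · simp
  · apply CartesianMonoidalCategory.hom_ext <;> simp

theorem swp_natural (A : C) {B B' : C} (ψ : B ⟶ B') (T : C) :
    (ψ ▷ (A ⊗ T)) ≫ swp A B' T = swp A B T ≫ (A ◁ (ψ ▷ T)) := by
  unfold swp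
  apply CartesianMonoidalCategory.hom_ext
  · simp
  · apply CartesianMonoidalCategory.hom_ext <;> simp

/-- joint epimorphy of `A ◁ (p ▷ T)`, `A ◁ (q ▷ T)` from the pushout for `A ⊗ T` -/
theorem hom_ext_whiskerLeft {A B₀ B₁ B₂ B₃ X : C} {i : B₀ ⟶ B₁} {j : B₀ ⟶ B₂} {p : B₁ ⟶ B₃}
    {q : B₂ ⟶ B₃} (T : C) (H : IsPushout (i ▷ (A ⊗ T)) (j ▷ (A ⊗ T)) (p ▷ (A ⊗ T)) (q ▷ (A ⊗ T)))
    {f g : A ⊗ (B₃ ⊗ T) ⟶ X} (h₁ : (A ◁ (p ▷ T)) ≫ f = (A ◁ (p ▷ T)) ≫ g)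
    (h₂ : (A ◁ (q ▷ T)) ≫ f = (A ◁ (q ▷ T)) ≫ g) : f = g := by
  have h : swp A B₃ T ≫ f = swp A B₃ T ≫ g := by
    apply H.hom_ext
    · rw [← Category.assoc, swp_natural, Category.assoc, h₁, ← Category.assoc, ← swp_natural,
        Category.assoc]
    · rw [← Category.assoc, swp_natural, Category.assoc, h₂, ← Category.assoc, ← swp_natural,
        Category.assoc]
  have := congrArg (fun k => swp B₃ A T ≫ k) h
  simpa only [← Category.assoc, swp_swp, Category.id_comp] using this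

variable {A X B B' : C} [MonObj A]

theorem isEquivariant_whiskerRight {ρ : MonAct A B} {ρ' : MonAct A B'} {ψ : B ⟶ B'}
    (hψ : IsEquivariant ρ ρ' ψ) (T : C) :
    IsEquivariant (ρ.prod (trivial A T)) (ρ'.prod (trivial A T)) (ψ ▷ T) := by
  rw [isEquivariant_iff] at hψ ⊢
  intro T' g x
  rw [← lift_comp_fst_snd x]
  simp only [lift_prod_act_assoc, lift_prod_act, lift_trivial_act, lift_whiskerRight, Category.assoc, hψ]


/-- **Attractor squares are cartesian**: a square of equivariant maps which stays a pushout after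
`- ⊗ T` for all `T` gives a cartesian square of functors of equivariant maps. -/
theorem isPullback_precomp {B₀ B₁ B₂ B₃ : C} (a : MonAct A X)
    {ρ₀ : MonAct A B₀} {ρ₁ : MonAct A B₁} {ρ₂ : MonAct A B₂} {ρ₃ : MonAct A B₃}
    {i : B₀ ⟶ B₁} {j : B₀ ⟶ B₂} {p : B₁ ⟶ B₃} {q : B₂ ⟶ B₃}
    (hi : IsEquivariant ρ₀ ρ₁ i) (hj : IsEquivariant ρ₀ ρ₂ j) (hp : IsEquivariant ρ₁ ρ₃ p)
    (hq : IsEquivariant ρ₂ ρ₃ q)
    (H : ∀ T : C, IsPushout (i ▷ T) (j ▷ T) (p ▷ T) (q ▷ T)) :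
    IsPullback (eqvHom.precomp a p hp) (eqvHom.precomp a q hq) (eqvHom.precomp a i hi)
      (eqvHom.precomp a j hj) := by
  apply IsPullback.of_forall_isPullback_app
  intro T
  rw [Types.isPullback_iff]
  refine ⟨?_, ?_, ?_⟩
  · ext φ
    apply Subtype.ext
    change (i ▷ unop T) ≫ (p ▷ unop T) ≫ φ.1 = (j ▷ unop T) ≫ (q ▷ unop T) ≫ φ.1
    rw [← Category.assoc, (H (unop T)).w, Category.assoc]
  · rintro φ φ' ⟨h₁, h₂⟩
    apply Subtype.ext
    apply (H (unop T)).hom_ext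
    · exact congrArg Subtype.val h₁
    · exact congrArg Subtype.val h₂
  · intro x₂ x₃ h
    have h' : (i ▷ unop T) ≫ x₂.1 = (j ▷ unop T) ≫ x₃.1 := congrArg Subtype.val h
    obtain ⟨φ, e₁, e₂⟩ : ∃ φ : B₃ ⊗ unop T ⟶ X, (p ▷ unop T) ≫ φ = x₂.1 ∧ (q ▷ unop T) ≫ φ = x₃.1 :=
      ⟨(H (unop T)).desc x₂.1 x₃.1 h', (H (unop T)).inl_desc _ _ _, (H (unop T)).inr_desc _ _ _⟩
    refine ⟨⟨φ, ?_⟩, Subtype.ext e₁, Subtype.ext e₂⟩
    have k₂ : (ρ₁.prod (trivial A (unop T))).act ≫ x₂.1 = (A ◁ x₂.1) ≫ a.act := x₂.2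
    have k₃ : (ρ₂.prod (trivial A (unop T))).act ≫ x₃.1 = (A ◁ x₃.1) ≫ a.act := x₃.2
    have kp : (ρ₁.prod (trivial A (unop T))).act ≫ (p ▷ unop T) =
        (A ◁ (p ▷ unop T)) ≫ (ρ₃.prod (trivial A (unop T))).act :=
      isEquivariant_whiskerRight hp (unop T)
    have kq : (ρ₂.prod (trivial A (unop T))).act ≫ (q ▷ unop T) =
        (A ◁ (q ▷ unop T)) ≫ (ρ₃.prod (trivial A (unop T))).act :=
      isEquivariant_whiskerRight hq (unop T)
    change (ρ₃.prod (trivial A (unop T))).act ≫ φ = (A ◁ φ) ≫ a.act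
    apply hom_ext_whiskerLeft (unop T) (H (A ⊗ unop T))
    · rw [← Category.assoc, ← kp, Category.assoc, e₁, k₂, ← e₁, MonoidalCategory.whiskerLeft_comp,
        Category.assoc]
    · rw [← Category.assoc, ← kq, Category.assoc, e₂, k₃, ← e₂, MonoidalCategory.whiskerLeft_comp,
        Category.assoc]

end General

end Groth.Agent.Lib.Helper9.Mag
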