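import Mathlib
import Groth.Prelude.Def_Magnet4
import Groth.Agent.Lib.Helper9.Mag2
import Groth.Agent.Lib.Helper9.Mag3
set_option autoImplicit false
set_option linter.style.haveILetI false
set_option linter.unusedSectionVars false
universe u v w
open CategoryTheory CategoryTheory.Limits AlgebraicGeometry TopologicalSpace Opposite Topology
open MonoidalCategory CartesianMonoidalCategory

namespace Groth.Agent.Lib.Helper9.Mag

open Magnet Groth.Agent.Lib.Helper9.RingPB Groth.Agent.Lib.Helper9.Ferrand

/-- the base change square attached to `- ⊗ T` in `Over S` -/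
theorem isPullback_whiskerRight_left {S : Scheme.{u}} {A B : Over S} (φ : A ⟶ B) (T : Over S) :
    IsPullback (pullback.fst A.hom T.hom) (φ ▷ T).left φ.left (pullback.fst B.hom T.hom) := by
  have s : IsPullback ((φ ▷ T).left ≫ pullback.snd B.hom T.hom)
      (pullback.fst A.hom T.hom) T.hom (φ.left ≫ B.hom) := by
    rw [Over.whiskerRight_left_snd, Over.w φ]
    exact (IsPullback.of_hasPullback A.hom T.hom).flip
  have p : (φ ▷ T).left ≫ pullback.fst B.hom T.hom = pullback.fst A.hom T.hom ≫ φ.left :=
    Over.whiskerRight_left_fst φ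
  exact (IsPullback.of_right s p (IsPullback.of_hasPullback B.hom T.hom).flip).flip

/-- **Pushouts in `Over S` stay pushouts after `- ⊗ T`**, when the glued-along scheme is flat
over `S`, the first leg is a closed immersion and the coprojections are affine. -/
theorem isPushout_whiskerRight {S : Scheme.{u}} {Z X Y P : Over S}
    (i : Z ⟶ X) (j : Z ⟶ Y) (a : X ⟶ P) (b : Y ⟶ P)
    [IsClosedImmersion i.left] [IsAffineHom a.left] [IsAffineHom b.left] [Flat Z.hom]
    (hP : IsPushout i.left j.left a.left b.left) (T : Over S) :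
    IsPushout (i ▷ T) (j ▷ T) (a ▷ T) (b ▷ T) := by
  have w : i ≫ a = j ≫ b := by
    ext
    exact hP.w
  have w' : (i ▷ T) ≫ (a ▷ T) = (j ▷ T) ≫ (b ▷ T) := by
    rw [← MonoidalCategory.comp_whiskerRight, ← MonoidalCategory.comp_whiskerRight, w]
  haveI : Flat ((i.left ≫ a.left) ≫ P.hom) := by
    rw [Category.assoc, Over.w, Over.w]; infer_instance
  refine IsPushout.of_map (Over.forget S) w' ?_
  refine isPushout_baseChange_of_flat_source i.left j.left a.left b.left P.hom T.hom
    (pullback.fst P.hom T.hom) (pullback.snd P.hom T.hom)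
    (pullback.fst X.hom T.hom) (a ▷ T).left
    (pullback.fst Y.hom T.hom) (b ▷ T).left
    (pullback.fst Z.hom T.hom) ((i ≫ a) ▷ T).left
    (i ▷ T).left (j ▷ T).left hP
    (IsPullback.of_hasPullback P.hom T.hom) (isPullback_whiskerRight_left a T)
    (isPullback_whiskerRight_left b T) (isPullback_whiskerRight_left (i ≫ a) T)
    (Over.whiskerRight_left_fst i) ?_ (Over.whiskerRight_left_fst j) ?_
  · rw [MonoidalCategory.comp_whiskerRight]; rfl
  · rw [w, MonoidalCategory.comp_whiskerRight]; rfl


theorem isPushout_AMonS_left (S : Scheme.{u}) (M : Type) [AddCommMonoid M]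
    (N N' L L' : AddSubmonoid M) (hNL : N ≤ L) (hN'L' : N' ≤ L') (hL : Magnet.IsFace L' L)
    (hN : Magnet.IsFace N' N) (hdiff : (N' : Set M) = (L' : Set M) \ ((L : Set M) \ (N : Set M))) :
    IsPushout (Magnet.AMonS.faceMap S hL).left (Magnet.AMonS.map S (AddSubmonoid.inclusion hNL)).left
      (Magnet.AMonS.map S (AddSubmonoid.inclusion hN'L')).left (Magnet.AMonS.faceMap S hN).left :=
  (isPushout_AMonS S M N N' L L' hNL hN'L' hL hN hdiff).map (Over.forget S)

instance isClosedImmersion_faceMap_left (S : Scheme.{u}) {M : Type} [AddCommMonoid M]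
    {N F : AddSubmonoid M} (hF : Magnet.IsFace N F) :
    IsClosedImmersion (Magnet.AMonS.faceMap S hF).left := by
  have hsurj : Function.Surjective (faceAlgHom (ULift.{u} ℤ) hF).toRingHom := by
    intro y
    refine ⟨mapHom (ULift.{u} ℤ) hF.le y, ?_⟩
    exact congrArg (fun φ : MonoidAlgebra (ULift.{u} ℤ) (Multiplicative ↥F) →ₐ[ULift.{u} ℤ] _ => φ y)
      (faceAlgHom_comp_mapDomain (ULift.{u} ℤ) hF)
  have h0 : IsClosedImmersion (AMon.faceMap (ULift.{u} ℤ) hF).left :=
    IsClosedImmersion.spec_of_surjective _ hsurj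
  exact MorphismProperty.of_isPullback (P := @IsClosedImmersion)
    (isPullback_overPullback_map (Limits.IsTerminal.from specULiftZIsTerminal S)
      (AMon.faceMap (ULift.{u} ℤ) hF)) h0

theorem isAffineHom_overPullback_map_left {B S : Scheme.{u}} (g : S ⟶ B) {X Y : Over B}
    (φ : X ⟶ Y) [IsAffineHom φ.left] : IsAffineHom ((Over.pullback g).map φ).left :=
  MorphismProperty.of_isPullback (P := @IsAffineHom) (isPullback_overPullback_map g φ) ‹_›

instance isAffineHom_faceMap_left (S : Scheme.{u}) {M : Type} [AddCommMonoid M]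
    {N F : AddSubmonoid M} (hF : Magnet.IsFace N F) :
    IsAffineHom (Magnet.AMonS.faceMap S hF).left := by
  haveI : IsAffineHom (AMon.faceMap (ULift.{u} ℤ) hF).left := isAffineHom_of_isAffine _
  exact isAffineHom_overPullback_map_left _ _

instance isAffineHom_map_left (S : Scheme.{u}) {M N : Type} [AddCommMonoid M] [AddCommMonoid N]
    (f : N →+ M) : IsAffineHom (Magnet.AMonS.map S f).left := by
  haveI : IsAffineHom (AMon.map (ULift.{u} ℤ) f).left := isAffineHom_of_isAffine _
  exact isAffineHom_overPullback_map_left _ _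

instance flat_AMonS_hom (S : Scheme.{u}) (M : Type) [AddCommMonoid M] : Flat (AMonS S M).hom := by
  change Flat (pullback.snd (AMon (ULift.{u} ℤ) M).hom _)
  infer_instance

/-- the push-out square of diagonalizable monoid schemes stays a push-out after `- ⊗ T` -/
theorem isPushout_AMonS_whiskerRight (S : Scheme.{u}) (M : Type) [AddCommMonoid M]
    (N N' L L' : AddSubmonoid M) (hNL : N ≤ L) (hN'L' : N' ≤ L') (hL : Magnet.IsFace L' L)
    (hN : Magnet.IsFace N' N) (hdiff : (N' : Set M) = (L' : Set M) \ ((L : Set M) \ (N : Set M)))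
    (T : Over S) :
    IsPushout (Magnet.AMonS.faceMap S hL ▷ T) (Magnet.AMonS.map S (AddSubmonoid.inclusion hNL) ▷ T)
      (Magnet.AMonS.map S (AddSubmonoid.inclusion hN'L') ▷ T) (Magnet.AMonS.faceMap S hN ▷ T) :=
  isPushout_whiskerRight _ _ _ _ (isPushout_AMonS_left S M N N' L L' hNL hN'L' hL hN hdiff) T

theorem isPullback_attr {S : Scheme.{u}} {M : Type} [AddCommMonoid M] {X : Over S}
    (a : MonAct (AMonS S M) X) (N N' L L' : AddSubmonoid M) (hNL : N ≤ L) (hN'L' : N' ≤ L')
    (hL : Magnet.IsFace L' L) (hN : Magnet.IsFace N' N)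
    (hdiff : (N' : Set M) = (L' : Set M) \ ((L : Set M) \ (N : Set M))) :
    IsPullback (Magnet.attrMap a hN'L') (Magnet.attrFace a hN) (Magnet.attrFace a hL)
      (Magnet.attrMap a hNL) :=
  isPullback_precomp a _ _ _ _
    (isPushout_AMonS_whiskerRight S M N N' L L' hNL hN'L' hL hN hdiff)

end Groth.Agent.Lib.Helper9.Mag
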