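import Mathlib
import Groth.Prelude.Def_Magnet4
import Groth.Agent.Lib.Helper9.Mag3
set_option autoImplicit false
set_option linter.style.haveILetI false
set_option linter.unusedSectionVars false
universe u v w v₁ u₁
open CategoryTheory CategoryTheory.Limits MonoidalCategory CartesianMonoidalCategory MonObj Opposite

namespace Groth.Agent.Lib.Helper9.Mag

open Magnet Magnet.MonAct

section General

variable {C : Type u₁} [Category.{v₁} C] [CartesianMonoidalCategory C]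

theorem swp_swp' (A B T : C) : swp A B T ≫ swp B A T = 𝟙 _ := swp_swp B A T

/-- `A ◁ (ψ ▷ T)` is an epimorphism as soon as `ψ ▷ (A ⊗ T)` is. -/
theorem epi_whiskerLeft_whiskerRight (A : C) {B B' : C} (ψ : B ⟶ B') (T : C)
    [Epi (ψ ▷ (A ⊗ T))] : Epi (A ◁ (ψ ▷ T)) := by
  have h : A ◁ (ψ ▷ T) = swp B A T ≫ (ψ ▷ (A ⊗ T)) ≫ swp A B' T := by
    rw [swp_natural, ← Category.assoc, swp_swp, Category.id_comp]
  haveI : IsIso (swp A B' T) := ⟨swp B' A T, swp_swp' A B' T, swp_swp A B' T⟩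
  haveI : IsIso (swp B A T) := ⟨swp A B T, swp_swp' B A T, swp_swp B A T⟩
  rw [h]
  infer_instance

variable {A B K X : C} [GrpObj A] [MonObj B] [MonObj K]

/-- the statement that `π ▷ T` is a "regular epimorphism" -/
structure IsRegEpi {P Q : C} (f : P ⟶ Q) : Prop where
  epi : Epi f
  desc : ∀ {X : C} (ψ : P ⟶ X), (∀ (W : C) (u v : W ⟶ P), u ≫ f = v ≫ f → u ≫ ψ = v ≫ ψ) →
    ∃ φ : Q ⟶ X, f ≫ φ = ψ


section main
variable {C : Type u₁} [Category.{v₁} C] [CartesianMonoidalCategory C]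
variable {A B K X : C} [GrpObj A] [MonObj B] [MonObj K]
variable (π : A ⟶ B) [IsMonHom π] (κ : K ⟶ A) [IsMonHom κ] (a : MonAct A X)

/-- the value at the unit of an equivariant map is fixed by the kernel -/
theorem evalAt_fixed (hκπ : κ ≫ π = 1) {T : C}
    (φ : B ⊗ T ⟶ X) (hφ : IsEquivariant (((regular B).restrict π).prod (trivial A T)) a φ)
    (T' : C) (t : T' ⟶ T) (g : T' ⟶ K) :
    lift g (t ≫ lift (toUnit T ≫ η[B]) (𝟙 T) ≫ φ) ≫ (a.restrict κ).act =
      t ≫ lift (toUnit T ≫ η[B]) (𝟙 T) ≫ φ := by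
  rw [mem_eqvHom_iff] at hφ
  have e : t ≫ lift (toUnit T ≫ η[B]) (𝟙 T) ≫ φ = lift (1 : T' ⟶ B) t ≫ φ := by
    rw [← Category.assoc, comp_lift, Category.comp_id, ← Category.assoc, Hom.one_def,
      toUnit_unique (t ≫ toUnit T) (toUnit T')]
  rw [e, lift_restrict_act, ← hφ T' (g ≫ κ) 1 t, lift_restrict_act, lift_regular_act,
    _root_.mul_one, Category.assoc, hκπ, MonObj.comp_one]

/-- the orbit map of a fixed point coequalizes the kernel pair of `π ▷ T` -/
theorem orbit_coequalizes (hker : ∀ (T : C) (h : T ⟶ A), h ≫ π = 1 → ∃ k : T ⟶ K, k ≫ κ = h)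
    {T : C} (x : T ⟶ X)
    (hx : ∀ (T' : C) (t : T' ⟶ T) (g : T' ⟶ K), lift g (t ≫ x) ≫ (a.restrict κ).act = t ≫ x)
    (W : C) (u v : W ⟶ A ⊗ T) (huv : u ≫ (π ▷ T) = v ≫ (π ▷ T)) :
    u ≫ (A ◁ x) ≫ a.act = v ≫ (A ◁ x) ≫ a.act := by
  rw [← lift_comp_fst_snd u, ← lift_comp_fst_snd v] at huv ⊢
  rw [lift_whiskerRight, lift_whiskerRight] at huv
  have h1 : (u ≫ fst A T) ≫ π = (v ≫ fst A T) ≫ π := by
    have := congrArg (fun k => k ≫ fst B T) huv
    simpa only [lift_fst] using this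
  have h2 : u ≫ snd A T = v ≫ snd A T := by
    have := congrArg (fun k => k ≫ snd B T) huv
    simpa only [lift_snd] using this
  rw [← h2]
  generalize u ≫ fst A T = g₁ at h1 ⊢
  generalize v ≫ fst A T = g₂ at h1 ⊢
  generalize u ≫ snd A T = t
  have hh : (g₁⁻¹ * g₂) ≫ π = 1 := by
    rw [MonObj.mul_comp, ← h1, ← MonObj.mul_comp, inv_mul_cancel, MonObj.one_comp]
  obtain ⟨k, hk⟩ := hker W _ hh
  have hg₂ : g₂ = g₁ * (k ≫ κ) := by rw [hk, mul_inv_cancel_left]
  rw [lift_whiskerLeft_assoc, lift_whiskerLeft_assoc, hg₂, lift_mul_act, ← lift_restrict_act,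
    hx W t k]


theorem isEquivariant_pi : IsEquivariant (regular A) ((regular B).restrict π) π := by
  rw [isEquivariant_iff]
  intro T g x
  rw [lift_regular_act_assoc, lift_restrict_act, lift_regular_act, MonObj.mul_comp]

/-- a map whose composite with `π ▷ T` is an orbit map is equivariant -/
theorem equivariant_of_comp {T : C} [Epi (π ▷ (A ⊗ T))] (x : T ⟶ X) (φ : B ⊗ T ⟶ X)
    (hφ : (π ▷ T) ≫ φ = (A ◁ x) ≫ a.act) :
    IsEquivariant (((regular B).restrict π).prod (trivial A T)) a φ := by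
  haveI := epi_whiskerLeft_whiskerRight A π T
  have h1 : ((regular A).prod (trivial A T)).act ≫ (π ▷ T) =
      (A ◁ (π ▷ T)) ≫ (((regular B).restrict π).prod (trivial A T)).act :=
    isEquivariant_whiskerRight (isEquivariant_pi π) T
  have h2 : ((regular A).prod (trivial A T)).act ≫ (A ◁ x) ≫ a.act =
      (A ◁ ((A ◁ x) ≫ a.act)) ≫ a.act := ((eqvHom.ofPoint a).app (op T) x).2
  unfold IsEquivariant
  rw [← cancel_epi (A ◁ (π ▷ T)), ← Category.assoc, ← h1, Category.assoc, hφ, h2,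
    ← MonoidalCategory.whiskerLeft_comp_assoc, hφ]

theorem evalAt_of_comp {T : C} (x : T ⟶ X) (φ : B ⊗ T ⟶ X)
    (hφ : (π ▷ T) ≫ φ = (A ◁ x) ≫ a.act) :
    lift (toUnit T ≫ η[B]) (𝟙 T) ≫ φ = x := by
  have : lift (toUnit T ≫ η[B]) (𝟙 T) = lift (1 : T ⟶ A) (𝟙 T) ≫ (π ▷ T) := by
    rw [lift_whiskerRight, MonObj.one_comp, Hom.one_def]
  rw [this, Category.assoc, hφ, lift_whiskerLeft_assoc, Category.id_comp, lift_one_act]

theorem comp_of_equivariant {T : C} (φ : B ⊗ T ⟶ X)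
    (hφ : IsEquivariant (((regular B).restrict π).prod (trivial A T)) a φ) :
    (π ▷ T) ≫ φ = (A ◁ (lift (toUnit T ≫ η[B]) (𝟙 T) ≫ φ)) ≫ a.act := by
  rw [mem_eqvHom_iff] at hφ
  apply hom_ext_lift₂
  intro T' g t
  have e : t ≫ lift (toUnit T ≫ η[B]) (𝟙 T) ≫ φ = lift (1 : T' ⟶ B) t ≫ φ := by
    rw [← Category.assoc, comp_lift, Category.comp_id, ← Category.assoc, Hom.one_def,
      toUnit_unique (t ≫ toUnit T) (toUnit T')]
  rw [lift_whiskerRight_assoc, lift_whiskerLeft_assoc, e, ← hφ T' g 1 t, lift_restrict_act,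
    lift_regular_act, _root_.mul_one]

/-- **The attractor of a quotient monoid is the fixed-point functor of the kernel.** -/
theorem exists_iso_fixedPsh (hκπ : κ ≫ π = 1)
    (hker : ∀ (T : C) (h : T ⟶ A), h ≫ π = 1 → ∃ k : T ⟶ K, k ≫ κ = h)
    (hreg : ∀ T : C, IsRegEpi (π ▷ T)) :
    ∃ e : eqvHom ((regular B).restrict π) a ≅ fixedPsh (a.restrict κ),
      e.hom ≫ fixedPshι (a.restrict κ) = eqvHom.evalAt ((regular B).restrict π) a η[B] := by
  haveI hepi : ∀ T : C, Epi (π ▷ T) := fun T => (hreg T).epi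
  have hdesc : ∀ (T : C) (x : (fixedPsh (a.restrict κ)).obj (op T)),
      ∃ φ : B ⊗ T ⟶ X, (π ▷ T) ≫ φ = (A ◁ x.1) ≫ a.act := fun T x =>
    (hreg T).desc _ (orbit_coequalizes π κ a hker x.1 x.2)
  let E : ∀ T : Cᵒᵖ, (eqvHom ((regular B).restrict π) a).obj T ≃ (fixedPsh (a.restrict κ)).obj T :=
    fun T =>
    { toFun := fun φ => ⟨lift (toUnit (unop T) ≫ η[B]) (𝟙 (unop T)) ≫ φ.1,
        evalAt_fixed π κ a hκπ φ.1 φ.2⟩
      invFun := fun x => ⟨(hdesc (unop T) x).choose,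
        equivariant_of_comp π a x.1 _ (hdesc (unop T) x).choose_spec⟩
      left_inv := fun φ => by
        apply Subtype.ext
        rw [← cancel_epi (π ▷ unop T)]
        exact (hdesc (unop T) _).choose_spec.trans (comp_of_equivariant π a φ.1 φ.2).symm
      right_inv := fun x => by
        apply Subtype.ext
        exact evalAt_of_comp π a x.1 _ (hdesc (unop T) x).choose_spec }
  refine ⟨NatIso.ofComponents (fun T => (E T).toIso) ?_, ?_⟩
  · intro T T' t
    ext φ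
    apply Subtype.ext
    change lift (toUnit (unop T') ≫ η[B]) (𝟙 (unop T')) ≫ (B ◁ t.unop) ≫ φ.1 =
      t.unop ≫ lift (toUnit (unop T) ≫ η[B]) (𝟙 (unop T)) ≫ φ.1
    rw [lift_whiskerLeft_assoc, Category.id_comp, ← Category.assoc t.unop, comp_lift,
      Category.comp_id, ← Category.assoc, toUnit_unique (t.unop ≫ toUnit (unop T)) (toUnit (unop T'))]
  · ext T φ
    rfl

end main

end General

end Groth.Agent.Lib.Helper9.Mag
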