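import Mathlib
set_option autoImplicit false
set_option linter.style.haveILetI false
set_option linter.unusedSectionVars false
universe u v w
open CategoryTheory CategoryTheory.Limits

namespace Groth.Agent.Lib.Helper9.MagB

section free
variable (R : Type u) [CommRing R] {G : Type v} {H : Type w} [CommGroup G] [CommMonoid H]
  (ι : H →* G)

/-- the ring map `R[H] → R[G]` induced by `ι`, spelled as in `AMon.map_left` -/
noncomputable def mdHom {G : Type v} {H : Type w} [CommMonoid G] [CommMonoid H] (ι : H →* G) :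
    MonoidAlgebra R H →+* MonoidAlgebra R G :=
  (MonoidAlgebra.mapDomainBialgHom R ι).toAlgHom.toRingHom

theorem mdHom_apply {G : Type v} {H : Type w} [CommMonoid G] [CommMonoid H] (ι : H →* G)
    (x : MonoidAlgebra R H) : mdHom R ι x = MonoidAlgebra.mapDomain ι x := rfl

theorem mdHom_single {G : Type v} {H : Type w} [CommMonoid G] [CommMonoid H] (ι : H →* G)
    (h : H) (r : R) :
    mdHom R ι (MonoidAlgebra.single h r) = MonoidAlgebra.single (ι h) r :=
  MonoidAlgebra.mapDomain_single

variable {ι}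

theorem coeff_mdHom (hι : Function.Injective ι) (x : MonoidAlgebra R H) (h : H) :
    (mdHom R ι x).coeff (ι h) = x.coeff h := by
  rw [mdHom_apply, MonoidAlgebra.mapDomain]
  exact Finsupp.mapDomain_apply hι _ _

theorem coeff_mdHom_of_notMem (x : MonoidAlgebra R H) (g : G) (hg : g ∉ Set.range ι) :
    (mdHom R ι x).coeff g = 0 := by
  rw [mdHom_apply, MonoidAlgebra.mapDomain]
  exact Finsupp.mapDomain_of_notMem_range _ _ hg

/-- `R[G]` is free over `R[H]` for an injective homomorphism from a commutative monoid `H` whose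
image is a subgroup of the commutative group `G` -/
theorem free_mdHom (hι : Function.Injective ι) (K' : Subgroup G)
    (hK : ∀ g, g ∈ K' ↔ g ∈ Set.range ι) :
    letI := (mdHom R ι).toAlgebra
    Module.Free (MonoidAlgebra R H) (MonoidAlgebra R G) := by
  letI := (mdHom R ι).toAlgebra
  have smul_def : ∀ (a : MonoidAlgebra R H) (f : MonoidAlgebra R G), a • f = mdHom R ι a * f :=
    fun a f => rfl
  let s : G ⧸ K' → G := Quotient.out
  have hs : ∀ c, (QuotientGroup.mk (s c) : G ⧸ K') = c := fun c => Quotient.out_eq c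
  let v : G ⧸ K' → MonoidAlgebra R G := fun c => MonoidAlgebra.single (s c) 1
  have hli : LinearIndependent (MonoidAlgebra R H) v := by
    rw [linearIndependent_iff']
    intro t g hg c₀ hc₀
    apply MonoidAlgebra.ext
    ext h
    have := congrArg (fun f => MonoidAlgebra.coeff f (ι h * s c₀)) hg
    simp only [MonoidAlgebra.coeff_sum, Finsupp.coe_finsetSum, Finset.sum_apply,
      MonoidAlgebra.coeff_zero, Finsupp.coe_zero, Pi.zero_apply] at this
    rw [Finset.sum_eq_single c₀] at this
    · rw [smul_def, MonoidAlgebra.coeff_mul_single_apply, _root_.mul_one, mul_inv_cancel_right,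
        coeff_mdHom R hι] at this
      exact this
    · intro c _ hc
      rw [smul_def, MonoidAlgebra.coeff_mul_single_apply, _root_.mul_one]
      refine coeff_mdHom_of_notMem R _ _ ?_
      intro hmem
      apply hc
      have h1 : s c₀ * (s c)⁻¹ ∈ K' := by
        have : s c₀ * (s c)⁻¹ = (ι h)⁻¹ * (ι h * s c₀ * (s c)⁻¹) := by group
        rw [this]
        exact K'.mul_mem (K'.inv_mem ((hK _).mpr ⟨h, rfl⟩)) ((hK _).mpr hmem)
      rw [← hs c, ← hs c₀]
      rw [QuotientGroup.eq]
      have : (s c)⁻¹ * s c₀ = s c₀ * (s c)⁻¹ := mul_comm _ _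
      rw [this]
      exact h1
    · intro h'
      exact (h' hc₀).elim
  have hsp : ⊤ ≤ Submodule.span (MonoidAlgebra R H) (Set.range v) := by
    intro f _
    clear ‹f ∈ (⊤ : Submodule (MonoidAlgebra R H) (MonoidAlgebra R G))›
    induction f using MonoidAlgebra.induction_linear with
    | zero => exact Submodule.zero_mem _
    | add x y hx hy => exact Submodule.add_mem _ hx hy
    | single g r =>
      have hmem : g * (s (QuotientGroup.mk g))⁻¹ ∈ K' := by
        have := hs (QuotientGroup.mk g)
        rw [QuotientGroup.eq] at this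
        have e : g * (s (QuotientGroup.mk g))⁻¹ = (s (QuotientGroup.mk g))⁻¹ * g := mul_comm _ _
        rw [e]
        exact this
      obtain ⟨h, hh⟩ := (hK _).mp hmem
      have : MonoidAlgebra.single g r =
          (MonoidAlgebra.single h r : MonoidAlgebra R H) • v (QuotientGroup.mk g) := by
        rw [smul_def, mdHom_single, MonoidAlgebra.single_mul_single, _root_.mul_one, hh,
          inv_mul_cancel_right]
      rw [this]
      exact Submodule.smul_mem _ _ (Submodule.subset_span ⟨_, rfl⟩)
  exact Module.Free.of_basis (Module.Basis.mk hli hsp)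

theorem flat_mdHom (hι : Function.Injective ι) (K' : Subgroup G)
    (hK : ∀ g, g ∈ K' ↔ g ∈ Set.range ι) : (mdHom R ι).Flat := by
  letI := (mdHom R ι).toAlgebra
  haveI := free_mdHom R hι K' hK
  change Module.Flat (MonoidAlgebra R H) (MonoidAlgebra R G)
  infer_instance

theorem comap_surjective_mdHom [Nontrivial R] (hι : Function.Injective ι) (K' : Subgroup G)
    (hK : ∀ g, g ∈ K' ↔ g ∈ Set.range ι) :
    Function.Surjective (PrimeSpectrum.comap (mdHom R ι)) := by
  letI := (mdHom R ι).toAlgebra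
  haveI := free_mdHom R hι K' hK
  haveI : Module.FaithfullyFlat (MonoidAlgebra R H) (MonoidAlgebra R G) := inferInstance
  exact PrimeSpectrum.comap_surjective_of_faithfullyFlat

theorem faithfullyFlat_mdHom [Nontrivial R] (hι : Function.Injective ι) (K' : Subgroup G)
    (hK : ∀ g, g ∈ K' ↔ g ∈ Set.range ι) : (mdHom R ι).FaithfullyFlat := by
  letI := (mdHom R ι).toAlgebra
  haveI := free_mdHom R hι K' hK
  change Module.FaithfullyFlat (MonoidAlgebra R H) (MonoidAlgebra R G)
  infer_instance

end free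

section pushout
variable (R : Type u) [CommRing R] {G H Q P : Type v} [CommGroup G] [CommMonoid H] [CommGroup Q]
  [CommMonoid P] [Subsingleton P]
  (ι : H →* G) (q : G →* Q) (eH : H →* P) (eQ : P →* Q)

theorem mdHom_comp {G₁ G₂ G₃ : Type v} [CommMonoid G₁] [CommMonoid G₂] [CommMonoid G₃]
    (f : G₁ →* G₂) (g : G₂ →* G₃) : (mdHom R g).comp (mdHom R f) = mdHom R (g.comp f) := by
  apply MonoidAlgebra.ringHom_ext
  · intro r
    simp only [RingHom.comp_apply, mdHom_single, MonoidHom.comp_apply]
  · intro m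
    simp only [RingHom.comp_apply, mdHom_single, MonoidHom.comp_apply]

theorem mdHom_surjective {G₁ G₂ : Type v} [CommMonoid G₁] [CommMonoid G₂]
    (f : G₁ →* G₂) (hf : Function.Surjective f) : Function.Surjective (mdHom R f) := by
  intro x
  induction x using MonoidAlgebra.induction_linear with
  | zero => exact ⟨0, map_zero _⟩
  | add x y hx hy =>
    obtain ⟨a, rfl⟩ := hx
    obtain ⟨b, rfl⟩ := hy
    exact ⟨a + b, map_add _ _ _⟩
  | single g r =>
    obtain ⟨g', rfl⟩ := hf g
    exact ⟨MonoidAlgebra.single g' r, mdHom_single R f g' r⟩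

theorem exists_desc_mdHom (hq : Function.Surjective q) (hqι : ∀ h, q (ι h) = 1)
    (hker : ∀ g, q g = 1 → g ∈ Set.range ι) {T₀ : Type (max u v)} [CommRing T₀]
    (α : MonoidAlgebra R G →+* T₀) (β : MonoidAlgebra R P →+* T₀)
    (hαβ : ∀ x, α (mdHom R ι x) = β (mdHom R eH x)) :
    ∃ γ : MonoidAlgebra R Q →+* T₀, γ.comp (mdHom R q) = α ∧ γ.comp (mdHom R eQ) = β := by
  let g₀ : G →* T₀ := (α : MonoidAlgebra R G →* T₀).comp (MonoidAlgebra.of R G)
  have hg₀ : q.ker ≤ g₀.toHomUnits.ker := by
    intro g hg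
    obtain ⟨h, rfl⟩ := hker g hg
    rw [MonoidHom.mem_ker]
    apply Units.ext
    change α (MonoidAlgebra.single (ι h) 1) = 1
    rw [← mdHom_single, hαβ, mdHom_single, Subsingleton.elim (eH h) 1]
    exact map_one β
  let γ₁ : Q →* T₀ˣ := q.liftOfSurjective hq ⟨g₀.toHomUnits, hg₀⟩
  have hγ₁ : ∀ g, ((γ₁ (q g) : T₀ˣ) : T₀) = α (MonoidAlgebra.single g 1) := by
    intro g
    have := MonoidHom.liftOfRightInverse_comp_apply q (Function.surjInv hq)
      (Function.rightInverse_surjInv hq) ⟨g₀.toHomUnits, hg₀⟩ g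
    exact congrArg Units.val this
  let γ₀ : Q →* T₀ := (Units.coeHom T₀).comp γ₁
  let γ : MonoidAlgebra R Q →+* T₀ := MonoidAlgebra.liftNCRingHom
      (α.comp (algebraMap R (MonoidAlgebra R G))) γ₀ (fun _ _ => Commute.all _ _)
  have h1 : γ.comp (mdHom R q) = α := by
    apply MonoidAlgebra.ringHom_ext
    · intro r
      rw [RingHom.comp_apply, mdHom_single, map_one, MonoidAlgebra.liftNCRingHom_single]
      change α _ * ((γ₁ 1 : T₀ˣ) : T₀) = _
      rw [map_one, Units.val_one, _root_.mul_one]
      rfl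
    · intro g
      rw [RingHom.comp_apply, mdHom_single, MonoidAlgebra.liftNCRingHom_single]
      change α _ * ((γ₁ (q g) : T₀ˣ) : T₀) = _
      rw [hγ₁, map_one, map_one, _root_.one_mul]
  refine ⟨γ, h1, ?_⟩
  have hs : Function.Surjective (mdHom R eH) :=
    mdHom_surjective R eH (fun p => ⟨1, Subsingleton.elim _ _⟩)
  apply RingHom.ext
  intro x
  obtain ⟨y, rfl⟩ := hs x
  rw [← hαβ, ← h1, RingHom.comp_apply, RingHom.comp_apply]
  congr 1
  have e1 := congrArg (fun φ : MonoidAlgebra R H →+* MonoidAlgebra R Q => φ y) (mdHom_comp R eH eQ)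
  have e2 := congrArg (fun φ : MonoidAlgebra R H →+* MonoidAlgebra R Q => φ y) (mdHom_comp R ι q)
  simp only [RingHom.comp_apply] at e1 e2
  rw [e1, e2]
  congr 2
  ext h
  rw [MonoidHom.comp_apply, MonoidHom.comp_apply, hqι, Subsingleton.elim (eH h) 1, map_one]

/-- `R[Q] = R[G] ⊗_{R[H]} R` for a short exact sequence `H → G → Q → 1`. -/
theorem isPushout_mdHom (hq : Function.Surjective q) (hqι : ∀ h, q (ι h) = 1)
    (hker : ∀ g, q g = 1 → g ∈ Set.range ι) :
    IsPushout (CommRingCat.ofHom (mdHom R ι)) (CommRingCat.ofHom (mdHom R eH))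
      (CommRingCat.ofHom (mdHom R q)) (CommRingCat.ofHom (mdHom R eQ)) := by
  have w : CommRingCat.ofHom (mdHom R ι) ≫ CommRingCat.ofHom (mdHom R q) =
      CommRingCat.ofHom (mdHom R eH) ≫ CommRingCat.ofHom (mdHom R eQ) := by
    rw [← CommRingCat.ofHom_comp, ← CommRingCat.ofHom_comp, mdHom_comp, mdHom_comp]
    congr 2
    ext h
    rw [MonoidHom.comp_apply, MonoidHom.comp_apply, hqι, Subsingleton.elim (eH h) 1, map_one]
  have hsurj := mdHom_surjective R q hq
  have key : ∀ s : PushoutCocone (CommRingCat.ofHom (mdHom R ι)) (CommRingCat.ofHom (mdHom R eH)),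
      ∃ γ : MonoidAlgebra R Q →+* s.pt, γ.comp (mdHom R q) = s.inl.hom ∧
        γ.comp (mdHom R eQ) = s.inr.hom := fun s =>
    exists_desc_mdHom R ι q eH eQ hq hqι hker s.inl.hom s.inr.hom (fun x =>
      congrArg (fun φ : CommRingCat.of (MonoidAlgebra R H) ⟶ s.pt => φ.hom x) s.condition)
  refine ⟨⟨w⟩, ⟨PushoutCocone.IsColimit.mk _ (fun s => CommRingCat.ofHom (key s).choose) ?_ ?_ ?_⟩⟩
  · intro s
    apply CommRingCat.hom_ext
    apply RingHom.ext
    intro x
    exact congrArg (fun φ : MonoidAlgebra R G →+* s.pt => φ x) (key s).choose_spec.1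
  · intro s
    apply CommRingCat.hom_ext
    apply RingHom.ext
    intro x
    exact congrArg (fun φ : MonoidAlgebra R P →+* s.pt => φ x) (key s).choose_spec.2
  · intro s m h1 _
    apply CommRingCat.hom_ext
    apply RingHom.ext
    intro x
    obtain ⟨y, rfl⟩ := hsurj x
    have e1 := congrArg (fun φ : CommRingCat.of (MonoidAlgebra R G) ⟶ s.pt => φ.hom y) h1
    have e2 := congrArg (fun φ : MonoidAlgebra R G →+* s.pt => φ y) (key s).choose_spec.1
    exact e1.trans e2.symm

end pushout

end Groth.Agent.Lib.Helper9.MagB
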