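import Mathlib
import Groth.Prelude.Def_Magnet4
import Groth.Agent.Lib.Helper9.Mag4
import Groth.Agent.Lib.Helper9.Mag8
import Groth.Agent.Lib.Helper9.Mag9b
set_option autoImplicit false
set_option linter.style.haveILetI false
set_option linter.unusedSectionVars false
universe u v w
open CategoryTheory CategoryTheory.Limits AlgebraicGeometry TopologicalSpace Opposite Topology
open MonoidalCategory CartesianMonoidalCategory MonObj

namespace Groth.Agent.Lib.Helper9.Mag

open Magnet Magnet.MonAct Groth.Agent.Lib.Helper9.Ferrand Groth.Agent.Lib.Helper9.MagB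

/-- a monoid morphism out of a monoid object whose underlying object is terminal is trivial -/
theorem eq_one_of_isIso_toUnit {C : Type*} [Category C] [CartesianMonoidalCategory C]
    {U B : C} [MonObj U] [MonObj B] (q : U ⟶ B) [IsMonHom q] [IsIso (toUnit U)] :
    q = 1 := by
  have h1 : η[U] ≫ toUnit U = 𝟙 _ := toUnit_unique _ _
  have h2 : toUnit U ≫ η[U] = 𝟙 U := by
    rw [← cancel_mono (toUnit U), Category.assoc, h1, Category.comp_id, Category.id_comp]
  rw [Hom.one_def, ← IsMonHom.one_hom (f := q), ← Category.assoc, h2, Category.id_comp]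

section
variable (S : Scheme.{u})

instance isIso_toUnit_AMonS_punit : IsIso (toUnit (AMonS S PUnit)) := by
  have h0 : IsIso (AMon (ULift.{u} ℤ) PUnit).hom := by
    change IsIso (Spec.map (CommRingCat.ofHom
      (algebraMap (ULift.{u} ℤ) (MonoidAlgebra (ULift.{u} ℤ) (Multiplicative PUnit)))))
    have hb : Function.Bijective
        (algebraMap (ULift.{u} ℤ) (MonoidAlgebra (ULift.{u} ℤ) (Multiplicative PUnit))) := by
      constructor
      · intro a b hab
        have := congrArg (fun f => MonoidAlgebra.coeff f 1) hab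
        simpa [MonoidAlgebra.coe_algebraMap] using this
      · intro f
        refine ⟨f.coeff 1, ?_⟩
        apply MonoidAlgebra.ext
        apply Finsupp.ext
        intro x
        rw [Subsingleton.elim x 1]
        simp [MonoidAlgebra.coe_algebraMap]
    haveI : IsIso (CommRingCat.ofHom
        (algebraMap (ULift.{u} ℤ) (MonoidAlgebra (ULift.{u} ℤ) (Multiplicative PUnit)))) :=
      (ConcreteCategory.isIso_iff_bijective _).mpr hb
    infer_instance
  have h1 : IsIso (AMonS S PUnit).hom := by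
    change IsIso (pullback.snd (AMon (ULift.{u} ℤ) PUnit).hom _)
    infer_instance
  have h2 : IsIso ((Over.forget S).map (toUnit (AMonS S PUnit))) := h1
  exact isIso_of_reflects_iso _ (Over.forget S)

theorem AMonS_map_zero {M N : Type} [AddCommMonoid M] [AddCommMonoid N] :
    AMonS.map S (0 : N →+ M) = 1 := by
  have h0 : (0 : N →+ M) = (0 : PUnit →+ M).comp (0 : N →+ PUnit) := by
    ext x; simp
  rw [h0, AMonS.map_comp, eq_one_of_isIso_toUnit (AMonS.map S (0 : N →+ PUnit)), MonObj.comp_one]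

end


section kernel
variable (S : Scheme.{u}) {M : Type} [AddCommGroup M] (Z : AddSubgroup M)

theorem AMon_map_left' (R : Type u) [CommRing R] {M N : Type} [AddCommMonoid M] [AddCommMonoid N]
    (f : N →+ M) :
    (AMon.map R f).left = Spec.map (CommRingCat.ofHom (mdHom R (AddMonoidHom.toMultiplicative f))) :=
  rfl

/-- `D(M/Z) = ker (D(M) → D(Z))` over `Spec ℤ` -/
theorem isPullback_AMon_kernel :
    IsPullback (AMon.map (ULift.{u} ℤ) (QuotientAddGroup.mk' Z))
      (AMon.map (ULift.{u} ℤ) (0 : PUnit →+ M ⧸ Z))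
      (AMon.map (ULift.{u} ℤ) Z.toAddSubmonoid.subtype)
      (AMon.map (ULift.{u} ℤ) (0 : ↥Z.toAddSubmonoid →+ PUnit)) := by
  have hpo := isPushout_mdHom (ULift.{u} ℤ)
    (AddMonoidHom.toMultiplicative Z.toAddSubmonoid.subtype)
    (AddMonoidHom.toMultiplicative (QuotientAddGroup.mk' Z))
    (AddMonoidHom.toMultiplicative (0 : ↥Z.toAddSubmonoid →+ PUnit))
    (AddMonoidHom.toMultiplicative (0 : PUnit →+ M ⧸ Z))
    (fun x => by
      obtain ⟨m, hm⟩ := QuotientAddGroup.mk'_surjective Z (Multiplicative.toAdd x)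
      exact ⟨Multiplicative.ofAdd m, congrArg Multiplicative.ofAdd hm⟩)
    (fun h => by
      change Multiplicative.ofAdd ((QuotientAddGroup.mk' Z) ((Multiplicative.toAdd h : ↥Z.toAddSubmonoid) : M)) = 1
      have h0 : (QuotientAddGroup.mk' Z) ((Multiplicative.toAdd h : ↥Z.toAddSubmonoid) : M) = 0 :=
        (QuotientAddGroup.eq_zero_iff _).mpr (Multiplicative.toAdd h).2
      rw [h0]
      rfl)
    (fun g hg => by
      have h0 : (QuotientAddGroup.mk' Z) (Multiplicative.toAdd g) = 0 := congrArg Multiplicative.toAdd hg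
      have hz : Multiplicative.toAdd g ∈ Z := (QuotientAddGroup.eq_zero_iff _).mp h0
      exact ⟨Multiplicative.ofAdd ⟨Multiplicative.toAdd g, hz⟩, rfl⟩)
  have hpb := isPullback_SpecMap_of_isPushout _ _ _ _ hpo
  have comm : AMon.map (ULift.{u} ℤ) (QuotientAddGroup.mk' Z) ≫
      AMon.map (ULift.{u} ℤ) Z.toAddSubmonoid.subtype =
      AMon.map (ULift.{u} ℤ) (0 : PUnit →+ M ⧸ Z) ≫
        AMon.map (ULift.{u} ℤ) (0 : ↥Z.toAddSubmonoid →+ PUnit) := by
    rw [← AMon.map_comp, ← AMon.map_comp]
    congr 1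
    ext x
    change (QuotientAddGroup.mk' Z) (x : M) = 0
    exact (QuotientAddGroup.eq_zero_iff _).mpr x.2
  exact IsPullback.of_map (Over.forget _) comm hpb

theorem isPullback_AMonS_kernel :
    IsPullback (AMonS.map S (QuotientAddGroup.mk' Z))
      (AMonS.map S (0 : PUnit →+ M ⧸ Z))
      (AMonS.map S Z.toAddSubmonoid.subtype)
      (AMonS.map S (0 : ↥Z.toAddSubmonoid →+ PUnit)) :=
  (isPullback_AMon_kernel Z).map (Over.pullback (Limits.IsTerminal.from specULiftZIsTerminal S))

theorem exists_lift_kernel (T : Over S) (h : T ⟶ AMonS S M)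
    (hh : h ≫ AMonS.map S Z.toAddSubmonoid.subtype = 1) :
    ∃ k : T ⟶ AMonS S (M ⧸ Z), k ≫ AMonS.map S (QuotientAddGroup.mk' Z) = h := by
  have hq₀ := eq_one_of_isIso_toUnit (AMonS.map S (0 : ↥Z.toAddSubmonoid →+ PUnit))
  have e : h ≫ AMonS.map S Z.toAddSubmonoid.subtype =
      (toUnit T ≫ inv (toUnit (AMonS S PUnit))) ≫ AMonS.map S (0 : ↥Z.toAddSubmonoid →+ PUnit) := by
    rw [hh, hq₀, Hom.one_def, Hom.one_def, Category.assoc, IsIso.inv_hom_id_assoc]
  exact ⟨(isPullback_AMonS_kernel S Z).lift h _ e, (isPullback_AMonS_kernel S Z).lift_fst _ _ _⟩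

end kernel


section regepi

/-- an effective epimorphism of schemes underlying a morphism of `S`-schemes is a regular
epimorphism in `Over S` -/
theorem isRegEpi_of_effectiveEpi_left {S : Scheme.{u}} {P Q : Over S} (f : P ⟶ Q)
    [EffectiveEpi f.left] : IsRegEpi f := by
  haveI : Epi f.left := inferInstance
  refine ⟨Over.epi_of_epi_left f, ?_⟩
  intro X ψ hψ
  have cond : ∀ {W : Scheme.{u}} (g₁ g₂ : W ⟶ P.left), g₁ ≫ f.left = g₂ ≫ f.left →
      g₁ ≫ ψ.left = g₂ ≫ ψ.left := by
    intro W g₁ g₂ h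
    have hw : g₂ ≫ P.hom = g₁ ≫ P.hom := by
      rw [← Over.w f, ← Category.assoc, ← h, Category.assoc]
    let u : Over.mk (g₁ ≫ P.hom) ⟶ P := Over.homMk g₁ rfl
    let v : Over.mk (g₁ ≫ P.hom) ⟶ P := Over.homMk g₂ hw
    have huv : u ≫ f = v ≫ f := by
      ext
      exact h
    exact congrArg (fun k => k.left) (hψ _ u v huv)
  have hfac : f.left ≫ EffectiveEpi.desc f.left ψ.left cond = ψ.left := EffectiveEpi.fac _ _ _
  have hw : EffectiveEpi.desc f.left ψ.left cond ≫ X.hom = Q.hom := by
    rw [← cancel_epi f.left, ← Category.assoc, hfac, Over.w, Over.w]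
  refine ⟨Over.homMk (EffectiveEpi.desc f.left ψ.left cond) hw, ?_⟩
  ext
  exact hfac

variable (S : Scheme.{u}) {M : Type} [AddCommGroup M] (Z : AddSubgroup M)

theorem faithfullyFlat_subtype :
    (mdHom (ULift.{u} ℤ) (AddMonoidHom.toMultiplicative Z.toAddSubmonoid.subtype)).FaithfullyFlat := by
  refine faithfullyFlat_mdHom (ULift.{u} ℤ) ?_ (AddSubgroup.toSubgroup Z) ?_
  · intro a b hab
    exact Subtype.ext hab
  · intro g
    constructor
    · intro hg
      exact ⟨Multiplicative.ofAdd ⟨Multiplicative.toAdd g, hg⟩, rfl⟩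
    · rintro ⟨h, rfl⟩
      exact (Multiplicative.toAdd h).2

theorem isRegEpi_whiskerRight_subtype (T : Over S) :
    IsRegEpi (AMonS.map S Z.toAddSubmonoid.subtype ▷ T) := by
  have h0 := (flat_and_surjective_SpecMap_iff (CommRingCat.ofHom
    (mdHom (ULift.{u} ℤ) (AddMonoidHom.toMultiplicative Z.toAddSubmonoid.subtype)))).mpr
    (faithfullyFlat_subtype Z)
  have hfl0 : Flat (AMon.map (ULift.{u} ℤ) Z.toAddSubmonoid.subtype).left := h0.1
  have hsj0 : Surjective (AMon.map (ULift.{u} ℤ) Z.toAddSubmonoid.subtype).left := h0.2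
  have hqc0 : QuasiCompact (AMon.map (ULift.{u} ℤ) Z.toAddSubmonoid.subtype).left := by
    haveI : IsAffineHom (AMon.map (ULift.{u} ℤ) Z.toAddSubmonoid.subtype).left :=
      isAffineHom_of_isAffine _
    infer_instance
  have sq1 := isPullback_overPullback_map (Limits.IsTerminal.from specULiftZIsTerminal S)
    (AMon.map (ULift.{u} ℤ) Z.toAddSubmonoid.subtype)
  have hfl1 : Flat (AMonS.map S Z.toAddSubmonoid.subtype).left :=
    MorphismProperty.of_isPullback (P := @Flat) sq1 hfl0
  have hsj1 : Surjective (AMonS.map S Z.toAddSubmonoid.subtype).left :=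
    MorphismProperty.of_isPullback (P := @Surjective) sq1 hsj0
  have hqc1 : QuasiCompact (AMonS.map S Z.toAddSubmonoid.subtype).left :=
    MorphismProperty.of_isPullback (P := @QuasiCompact) sq1 hqc0
  have sq2 := isPullback_whiskerRight_left (AMonS.map S Z.toAddSubmonoid.subtype) T
  haveI hfl2 : Flat (AMonS.map S Z.toAddSubmonoid.subtype ▷ T).left :=
    MorphismProperty.of_isPullback (P := @Flat) sq2 hfl1
  haveI hsj2 : Surjective (AMonS.map S Z.toAddSubmonoid.subtype ▷ T).left :=
    MorphismProperty.of_isPullback (P := @Surjective) sq2 hsj1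
  haveI hqc2 : QuasiCompact (AMonS.map S Z.toAddSubmonoid.subtype ▷ T).left :=
    MorphismProperty.of_isPullback (P := @QuasiCompact) sq2 hqc1
  exact isRegEpi_of_effectiveEpi_left _

end regepi

end Groth.Agent.Lib.Helper9.Mag
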