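import Mathlib
import Groth.Prelude.Def_Magnet4
import Groth.Agent.Lib.Helper9.Mag11
set_option autoImplicit false
set_option linter.style.haveILetI false
set_option linter.unusedSectionVars false
universe u v w
open CategoryTheory CategoryTheory.Limits AlgebraicGeometry TopologicalSpace Opposite Topology
open MonoidalCategory CartesianMonoidalCategory MonObj

namespace Groth.Agent.Lib.Helper9.Mag

open Magnet Magnet.MonAct

theorem s18289 (S : Scheme.{u}) (M : Type) [AddCommGroup M]
    (Z : AddSubgroup M) (X : Over S) (a : AlgGrp.Action (Red.DS S M) X) :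
    ∃ e : Magnet.attr (Magnet.MonAct.ofAction a) Z.toAddSubmonoid ≅
        Magnet.MonAct.fixedPsh ((Magnet.MonAct.ofAction a).restrict (Magnet.AMonS.map S (QuotientAddGroup.mk' Z))),
      e.hom ≫ Magnet.MonAct.fixedPshι _ = Magnet.attrToX (Magnet.MonAct.ofAction a) Z.toAddSubmonoid := by
  have hκπ : AMonS.map S (QuotientAddGroup.mk' Z) ≫ AMonS.map S Z.toAddSubmonoid.subtype = 1 := by
    rw [← AMonS.map_comp]
    have : (QuotientAddGroup.mk' Z).comp Z.toAddSubmonoid.subtype = 0 := by
      ext x
      change (QuotientAddGroup.mk' Z) (x : M) = 0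
      exact (QuotientAddGroup.eq_zero_iff _).mpr x.2
    rw [this]
    exact AMonS_map_zero S
  exact exists_iso_fixedPsh (AMonS.map S Z.toAddSubmonoid.subtype)
    (AMonS.map S (QuotientAddGroup.mk' Z)) (Magnet.MonAct.ofAction a) hκπ
    (fun T h hh => exists_lift_kernel S Z T h hh)
    (fun T => isRegEpi_whiskerRight_subtype S Z T)

end Groth.Agent.Lib.Helper9.Mag
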