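import Mathlib
import Groth.Prelude.Def_Magnet4
import Groth.Agent.Lib.Helper9.Mag1
set_option autoImplicit false
set_option linter.style.haveILetI false
set_option linter.unusedSectionVars false
universe u v w
open CategoryTheory CategoryTheory.Limits

namespace Groth.Agent.Lib.Helper9.Mag

section colim
variable (R : Type u) [CommRing R] {M : Type} [AddCommMonoid M]
  {J : Type u} [Preorder J] [IsDirected J (· ≤ ·)] [Nonempty J]
  (N : J → AddSubmonoid M) (hN : Monotone N)

theorem mapHom_single {F₁ F₂ : AddSubmonoid M} (h : F₁ ≤ F₂) (m : Multiplicative ↥F₁) (r : R) :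
    mapHom R h (MonoidAlgebra.single m r) = MonoidAlgebra.single (incl h m) r :=
  MonoidAlgebra.mapDomain_single

theorem mapHom_comp {F₁ F₂ F₃ : AddSubmonoid M} (h₁ : F₁ ≤ F₂) (h₂ : F₂ ≤ F₃) :
    (mapHom R h₂).comp (mapHom R h₁) = mapHom R (h₁.trans h₂) := by
  apply MonoidAlgebra.ringHom_ext
  · intro r
    simp only [RingHom.comp_apply, mapHom_single]
    rfl
  · intro m
    simp only [RingHom.comp_apply, mapHom_single]
    rfl

theorem mapHom_refl (F₁ : AddSubmonoid M) : mapHom R (le_refl F₁) = RingHom.id _ := by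
  apply MonoidAlgebra.ringHom_ext
  · intro r
    simp only [RingHom.id_apply, mapHom_single]
    rfl
  · intro m
    simp only [RingHom.id_apply, mapHom_single]
    rfl

theorem mapHom_injective {F₁ F₂ : AddSubmonoid M} (h : F₁ ≤ F₂) :
    Function.Injective (mapHom R h) :=
  MonoidAlgebra.mapDomain_injective (incl_injective h)

/-- the diagram `j ↦ R[N j]` -/
noncomputable def ringDiagram : J ⥤ CommRingCat.{u} where
  obj j := CommRingCat.of (MonoidAlgebra R (Multiplicative ↥(N j)))
  map {i j} f := CommRingCat.ofHom (mapHom R (hN (leOfHom f)))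
  map_id j := by
    apply CommRingCat.hom_ext
    exact mapHom_refl R (N j)
  map_comp f g := by
    apply CommRingCat.hom_ext
    exact (mapHom_comp R _ _).symm

/-- the cocone `R[N j] → R[⨆ N]` -/
noncomputable def ringCocone : Cocone (ringDiagram R N hN) where
  pt := CommRingCat.of (MonoidAlgebra R (Multiplicative ↥(⨆ j, N j)))
  ι :=
    { app := fun j => CommRingCat.ofHom (mapHom R (le_iSup N j))
      naturality := fun i j f => by
        apply CommRingCat.hom_ext
        change (mapHom R (le_iSup N j)).comp (mapHom R (hN (leOfHom f))) = _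
        rw [mapHom_comp]
        rfl }

include hN in
theorem exists_mem_of_mem_iSup {x : M} (hx : x ∈ ⨆ j, N j) : ∃ j, x ∈ N j :=
  (AddSubmonoid.mem_iSup_of_directed (directed_of_isDirected_le hN)).mp hx

include hN in
theorem ringCocone_jointly_surjective (x : MonoidAlgebra R (Multiplicative ↥(⨆ j, N j))) :
    ∃ (j : J) (y : MonoidAlgebra R (Multiplicative ↥(N j))), mapHom R (le_iSup N j) y = x := by
  induction x using MonoidAlgebra.induction_linear with
  | zero => exact ⟨Classical.arbitrary J, 0, map_zero _⟩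
  | add x y hx hy =>
    obtain ⟨i, a, rfl⟩ := hx
    obtain ⟨j, b, rfl⟩ := hy
    obtain ⟨k, hik, hjk⟩ := exists_ge_ge i j
    refine ⟨k, mapHom R (hN hik) a + mapHom R (hN hjk) b, ?_⟩
    rw [map_add]
    congr 1
    · exact congrArg (fun φ : MonoidAlgebra R (Multiplicative ↥(N i)) →+* _ => φ a)
        (mapHom_comp R (hN hik) (le_iSup N k))
    · exact congrArg (fun φ : MonoidAlgebra R (Multiplicative ↥(N j)) →+* _ => φ b)
        (mapHom_comp R (hN hjk) (le_iSup N k))
  | single m r =>
    obtain ⟨j, hj⟩ := exists_mem_of_mem_iSup N hN (Multiplicative.toAdd m).2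
    exact ⟨j, MonoidAlgebra.single (Multiplicative.ofAdd ⟨_, hj⟩) r, mapHom_single R _ _ _⟩

/-- `R[⨆ N] = colim R[N j]` -/
noncomputable def isColimit_ringCocone : IsColimit (ringCocone R N hN) := by
  haveI : ReflectsColimitsOfShape J (forget CommRingCat.{u}) :=
    reflectsColimitsOfShape_of_reflectsIsomorphisms
  apply isColimitOfReflects (forget CommRingCat.{u})
  refine Types.FilteredColimit.isColimitOf' _ _ ?_ ?_
  · intro x
    obtain ⟨j, y, hy⟩ := ringCocone_jointly_surjective R N hN x
    exact ⟨j, y, hy.symm⟩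
  · intro i x y h
    exact ⟨i, 𝟙 i, by
      have := mapHom_injective R (le_iSup N i) h
      rw [this]⟩

end colim

end Groth.Agent.Lib.Helper9.Mag
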