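import Mathlib
import Groth.Prelude.Def_Magnet4
import Groth.Agent.Lib.Helper9.Mag13
set_option autoImplicit false
set_option linter.style.haveILetI false
set_option linter.unusedSectionVars false
universe u v w v₁ u₁ v₂ u₂
open CategoryTheory CategoryTheory.Limits AlgebraicGeometry
open MonoidalCategory CartesianMonoidalCategory

namespace Groth.Agent.Lib.Helper9.Mag

/-- `- ⊗ W` preserves cofiltered limits in a cartesian monoidal category -/
noncomputable def isLimitTensorRightMapCone {C : Type u₁} [Category.{v₁} C] [CartesianMonoidalCategory C]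
    {I : Type u₂} [Category.{v₂} I] [IsCofiltered I] {D : I ⥤ C} (c : Cone D) (hc : IsLimit c)
    (W : C) : IsLimit ((tensorRight W).mapCone c) := by
  let i₀ : I := (IsCofiltered.nonempty (C := I)).some
  have hsnd : ∀ (s : Cone (D ⋙ tensorRight W)) (i j : I),
      s.π.app i ≫ snd _ _ = s.π.app j ≫ snd _ _ := by
    intro s i j
    have key : ∀ {a b : I} (f : a ⟶ b), s.π.app b ≫ snd _ _ = s.π.app a ≫ snd _ _ := by
      intro a b f
      have := s.w f
      rw [← this]
      change (s.π.app a ≫ (D.map f ▷ W)) ≫ snd _ _ = _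
      rw [Category.assoc, whiskerRight_snd]
    rw [key (IsCofiltered.minToLeft i j), key (IsCofiltered.minToRight i j)]
  let s₁ : Cone (D ⋙ tensorRight W) → Cone D := fun s =>
    { pt := s.pt
      π :=
        { app := fun i => s.π.app i ≫ fst _ _
          naturality := fun a b f => by
            have := s.w f
            simp only [Functor.const_obj_obj, Functor.const_obj_map, Category.id_comp]
            rw [← this]
            change (s.π.app a ≫ (D.map f ▷ W)) ≫ fst _ _ = _
            rw [Category.assoc, whiskerRight_fst, Category.assoc] } }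
  refine IsLimit.mk (fun s => lift (hc.lift (s₁ s)) (s.π.app i₀ ≫ snd _ _)) ?_ ?_
  · intro s j
    change lift (hc.lift (s₁ s)) (s.π.app i₀ ≫ snd _ _) ≫ (c.π.app j ▷ W) = s.π.app j
    rw [lift_whiskerRight, hc.fac, hsnd s i₀ j]
    change lift (s.π.app j ≫ fst _ _) (s.π.app j ≫ snd _ _) = _
    rw [← comp_lift, lift_fst_snd]
    exact Category.comp_id _
  · intro s m hm
    have hm' : ∀ j, m ≫ (c.π.app j ▷ W) = s.π.app j := hm
    apply CartesianMonoidalCategory.hom_ext
    · rw [lift_fst]
      apply hc.uniq (s₁ s)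
      intro j
      change (m ≫ fst _ _) ≫ c.π.app j = s.π.app j ≫ fst _ _
      rw [← hm' j, Category.assoc, Category.assoc, whiskerRight_fst]
      rfl
    · rw [lift_snd, ← hm' i₀, Category.assoc, whiskerRight_snd]
      rfl


open Magnet

section diagram
variable (R : Type u) [CommRing R] {M : Type} [AddCommMonoid M]
  {J : Type u} [Preorder J] [IsDirected J (· ≤ ·)] [Nonempty J]
  (N : J → AddSubmonoid M) (hN : Monotone N)

theorem AMon_map_inclusion_left {F₁ F₂ : AddSubmonoid M} (h : F₁ ≤ F₂) :
    (AMon.map R (AddSubmonoid.inclusion h)).left = Spec.map (CommRingCat.ofHom (mapHom R h)) := rfl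

theorem AMon_map_inclusion_refl (F₁ : AddSubmonoid M) :
    AMon.map R (AddSubmonoid.inclusion (le_refl F₁)) = 𝟙 _ := by
  ext : 1
  rw [AMon_map_inclusion_left, mapHom_refl]
  exact Spec.map_id _

theorem AMon_map_inclusion_comp {F₁ F₂ F₃ : AddSubmonoid M} (h₁ : F₁ ≤ F₂) (h₂ : F₂ ≤ F₃) :
    AMon.map R (AddSubmonoid.inclusion h₂) ≫ AMon.map R (AddSubmonoid.inclusion h₁) =
      AMon.map R (AddSubmonoid.inclusion (h₁.trans h₂)) := by
  rw [← AMon.map_comp]
  rfl

/-- the diagram `j ↦ A(N j)` over `Spec R` -/
noncomputable def amonDiagram : Jᵒᵖ ⥤ Over (Spec (CommRingCat.of R)) where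
  obj j := AMon R ↥(N j.unop)
  map {i j} f := AMon.map R (AddSubmonoid.inclusion (hN (leOfHom f.unop)))
  map_id j := AMon_map_inclusion_refl R (N j.unop)
  map_comp f g := (AMon_map_inclusion_comp R _ _).symm

/-- the cone `A(⨆ N) → A(N j)` -/
noncomputable def amonCone : Cone (amonDiagram R N hN) where
  pt := AMon R ↥(⨆ j, N j)
  π :=
    { app := fun j => AMon.map R (AddSubmonoid.inclusion (le_iSup N j.unop))
      naturality := fun i j f => by
        simp only [Functor.const_obj_obj, Functor.const_obj_map, Category.id_comp]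
        exact (AMon_map_inclusion_comp R (hN (leOfHom f.unop)) (le_iSup N i.unop)).symm }

/-- `A(⨆ N) = lim A(N j)` over `Spec R` -/
noncomputable def isLimit_amonCone : IsLimit (amonCone R N hN) := by
  haveI : IsConnected Jᵒᵖ := IsCofiltered.isConnected Jᵒᵖ
  apply isLimitOfReflects (Over.forget (Spec (CommRingCat.of R)))
  have h1 : IsLimit (Scheme.Spec.mapCone (ringCocone R N hN).op) :=
    isLimitOfPreserves Scheme.Spec (isColimit_ringCocone R N hN).op
  let α : (ringDiagram R N hN).op ⋙ Scheme.Spec ≅ amonDiagram R N hN ⋙ Over.forget _ :=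
    NatIso.ofComponents (fun j => Iso.refl _) (fun f => by
      simp only [Iso.refl_hom, Category.comp_id, Category.id_comp]
      rfl)
  refine (IsLimit.equivOfNatIsoOfIso α _ _ ?_) h1
  refine Cones.ext (Iso.refl _) ?_
  intro j
  simp only [Iso.refl_hom, Category.id_comp]
  rfl

end diagram

end Groth.Agent.Lib.Helper9.Mag
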