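import Mathlib
import Groth.Prelude.Def_Magnet4
set_option autoImplicit false
set_option linter.style.haveILetI false
set_option linter.unusedSectionVars false
universe u v w v₁ u₁
open CategoryTheory CategoryTheory.Limits MonoidalCategory CartesianMonoidalCategory MonObj Opposite

namespace Groth.Agent.Lib.Helper9.Mag

open Magnet Magnet.MonAct

section General

variable {C : Type u₁} [Category.{v₁} C] [CartesianMonoidalCategory C]
variable {A Z X₁ X₂ P : C} [MonObj A]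

/-- **An equivariant pushout**: a pushout of equivariant maps which is preserved by `A ⊗ -` and
`(A ⊗ A) ⊗ -` carries a unique action making the coprojections equivariant, and it is a pushout
for equivariant maps. -/
theorem exists_monAct_of_isPushout (ρZ : MonAct A Z) (ρ₁ : MonAct A X₁) (ρ₂ : MonAct A X₂)
    {i : Z ⟶ X₁} {j : Z ⟶ X₂} {ν₁ : X₁ ⟶ P} {ν₂ : X₂ ⟶ P}
    (hi : IsEquivariant ρZ ρ₁ i) (hj : IsEquivariant ρZ ρ₂ j)
    (hP : IsPushout i j ν₁ ν₂)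
    (hA : IsPushout (A ◁ i) (A ◁ j) (A ◁ ν₁) (A ◁ ν₂))
    (hAA : IsPushout ((A ⊗ A) ◁ i) ((A ⊗ A) ◁ j) ((A ⊗ A) ◁ ν₁) ((A ⊗ A) ◁ ν₂)) :
    ∃ aP : MonAct A P, IsEquivariant ρ₁ aP ν₁ ∧ IsEquivariant ρ₂ aP ν₂ ∧
      ∀ (X : C) (aX : MonAct A X) (f₁ : X₁ ⟶ X) (f₂ : X₂ ⟶ X) (w : i ≫ f₁ = j ≫ f₂),
        IsEquivariant ρ₁ aX f₁ → IsEquivariant ρ₂ aX f₂ →
          IsEquivariant aP aX (hP.desc f₁ f₂ w) := by
  unfold IsEquivariant at hi hj
  have hw : (A ◁ i) ≫ ρ₁.act ≫ ν₁ = (A ◁ j) ≫ ρ₂.act ≫ ν₂ := by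
    rw [← Category.assoc, ← hi, ← Category.assoc, ← hj, Category.assoc, Category.assoc, hP.w]
  obtain ⟨act, e₁, e₂⟩ : ∃ act : A ⊗ P ⟶ P, (A ◁ ν₁) ≫ act = ρ₁.act ≫ ν₁ ∧
      (A ◁ ν₂) ≫ act = ρ₂.act ≫ ν₂ :=
    ⟨hA.desc _ _ hw, hA.inl_desc _ _ _, hA.inr_desc _ _ _⟩
  have one_act : (η[A] ▷ P) ≫ act = (λ_ P).hom := by
    rw [← cancel_epi (λ_ P).inv]
    apply hP.hom_ext
    · rw [Iso.inv_hom_id, Category.comp_id, leftUnitor_inv_naturality_assoc,
        whisker_exchange_assoc, e₁, ← Category.assoc (η[A] ▷ X₁), ρ₁.one_act,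
        Iso.inv_hom_id_assoc]
    · rw [Iso.inv_hom_id, Category.comp_id, leftUnitor_inv_naturality_assoc,
        whisker_exchange_assoc, e₂, ← Category.assoc (η[A] ▷ X₂), ρ₂.one_act,
        Iso.inv_hom_id_assoc]
  have mul_act : (μ[A] ▷ P) ≫ act = (α_ A A P).hom ≫ (A ◁ act) ≫ act := by
    apply hAA.hom_ext
    · rw [whisker_exchange_assoc, e₁, ← Category.assoc (μ[A] ▷ X₁), ρ₁.mul_act,
        associator_naturality_right_assoc, ← MonoidalCategory.whiskerLeft_comp_assoc, e₁,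
        MonoidalCategory.whiskerLeft_comp_assoc, e₁]
      simp only [Category.assoc]
    · rw [whisker_exchange_assoc, e₂, ← Category.assoc (μ[A] ▷ X₂), ρ₂.mul_act,
        associator_naturality_right_assoc, ← MonoidalCategory.whiskerLeft_comp_assoc, e₂,
        MonoidalCategory.whiskerLeft_comp_assoc, e₂]
      simp only [Category.assoc]
  refine ⟨⟨act, one_act, mul_act⟩, e₁.symm, e₂.symm, ?_⟩
  intro X aX f₁ f₂ w h₁ h₂
  unfold IsEquivariant at h₁ h₂ ⊢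
  change act ≫ hP.desc f₁ f₂ w = (A ◁ hP.desc f₁ f₂ w) ≫ aX.act
  apply hA.hom_ext
  · rw [← Category.assoc, e₁, Category.assoc, hP.inl_desc, h₁,
      ← MonoidalCategory.whiskerLeft_comp_assoc, hP.inl_desc]
  · rw [← Category.assoc, e₂, Category.assoc, hP.inr_desc, h₂,
      ← MonoidalCategory.whiskerLeft_comp_assoc, hP.inr_desc]

end General

end Groth.Agent.Lib.Helper9.Mag
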