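import Mathlib
import Groth.Agent.Lib.Helper9.RingPB7
import Groth.Agent.Lib.Helper23.MilnorAlg
import Groth.Agent.S14953

set_option autoImplicit false
set_option linter.style.haveILetI false
set_option linter.unusedSectionVars false
universe u v w
open CategoryTheory CategoryTheory.Limits TensorProduct

namespace Groth.Agent.Lib.Helper9.MilnorSq

open Groth.Agent.Lib.Helper9.RingPB

section inst

variable {B' B A' A : Type u} [CommRing B'] [CommRing B] [CommRing A'] [CommRing A]
  [Algebra B' B] [Algebra B' A'] [Algebra B A] [Algebra A' A] [Algebra B' A]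
  [IsScalarTower B' B A] [IsScalarTower B' A' A]
variable {D' D C' : Type u} [CommRing D'] [CommRing D] [CommRing C']
  [Algebra B' D'] [Algebra B D] [Algebra A' C']
  [Algebra D' D] [Algebra B' D] [IsScalarTower B' B D] [IsScalarTower B' D' D]
  [Algebra.IsPushout B' B D' D]
  [Algebra D' C'] [Algebra B' C'] [IsScalarTower B' A' C'] [IsScalarTower B' D' C']
  [Algebra.IsPushout B' A' D' C']

theorem finiteType_rel (hsq : EtMil.IsFibreSquare B' B A' A) [Algebra.FiniteType B D]
    [Algebra.FiniteType A' C'] : Algebra.FiniteType B' D' := by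
  haveI : Algebra.FiniteType B (B ⊗[B'] D') :=
    Algebra.FiniteType.equiv inferInstance (Algebra.IsPushout.equiv B' B D' D).symm
  haveI : Algebra.FiniteType A' (A' ⊗[B'] D') :=
    Algebra.FiniteType.equiv inferInstance (Algebra.IsPushout.equiv B' A' D' C').symm
  exact Helper23.MilAlg.finiteType_of_pair hsq D'

theorem flat_rel (hsq : EtMil.IsFibreSquare B' B A' A) [Module.Flat B D]
    [Module.Flat A' C'] : Module.Flat B' D' := by
  haveI : Module.Flat B (B ⊗[B'] D') :=
    Module.Flat.of_linearEquiv (Algebra.IsPushout.equiv B' B D' D).toLinearEquiv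
  haveI : Module.Flat A' (A' ⊗[B'] D') :=
    Module.Flat.of_linearEquiv (Algebra.IsPushout.equiv B' A' D' C').toLinearEquiv
  exact Groth.Agent.S14952.result B' B A' A hsq D'

theorem finite_rel (hsq : EtMil.IsFibreSquare B' B A' A) [Module.Finite B D]
    [Module.Finite A' C'] : Module.Finite B' D' := by
  haveI : Module.Finite B (B ⊗[B'] D') :=
    Module.Finite.equiv (Algebra.IsPushout.equiv B' B D' D).symm.toLinearEquiv
  haveI : Module.Finite A' (A' ⊗[B'] D') :=
    Module.Finite.equiv (Algebra.IsPushout.equiv B' A' D' C').symm.toLinearEquiv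
  exact Groth.Agent.S14953.result B' B A' A hsq D'

theorem finitePresentation_rel (hsq : EtMil.IsFibreSquare B' B A' A) [Module.Flat B' D']
    [Algebra.FinitePresentation B D] [Algebra.FinitePresentation A' C'] :
    Algebra.FinitePresentation B' D' := by
  haveI : Algebra.FinitePresentation B (B ⊗[B'] D') :=
    Algebra.FinitePresentation.equiv (Algebra.IsPushout.equiv B' B D' D).symm
  haveI : Algebra.FinitePresentation A' (A' ⊗[B'] D') :=
    Algebra.FinitePresentation.equiv (Algebra.IsPushout.equiv B' A' D' C').symm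
  exact Helper23.MilAlg.finitePresentation_of_pair hsq D'

theorem smooth_rel (hsq : EtMil.IsFibreSquare B' B A' A) [Algebra.Smooth B D]
    [Algebra.Smooth A' C'] : Algebra.Smooth B' D' := by
  haveI : Algebra.Smooth B (B ⊗[B'] D') :=
    Algebra.Smooth.of_equiv (Algebra.IsPushout.equiv B' B D' D).symm
  haveI : Algebra.Smooth A' (A' ⊗[B'] D') :=
    Algebra.Smooth.of_equiv (Algebra.IsPushout.equiv B' A' D' C').symm
  exact Helper23.MilAlg.smooth_of_pair hsq D'

theorem etale_rel (hsq : EtMil.IsFibreSquare B' B A' A) [Algebra.Etale B D]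
    [Algebra.Etale A' C'] : Algebra.Etale B' D' := by
  haveI : Algebra.Etale B (B ⊗[B'] D') :=
    Algebra.Etale.of_equiv (Algebra.IsPushout.equiv B' B D' D).symm
  haveI : Algebra.Etale A' (A' ⊗[B'] D') :=
    Algebra.Etale.of_equiv (Algebra.IsPushout.equiv B' A' D' C').symm
  exact Helper23.MilAlg.etale_of_pair hsq D'

end inst

section hom

variable {D A B C D' A' B' C' : Type u} [CommRing D] [CommRing A] [CommRing B] [CommRing C]
  [CommRing D'] [CommRing A'] [CommRing B'] [CommRing C']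
  (π₁ : D →+* A) (π₂ : D →+* B) (q₁ : A →+* C) (q₂ : B →+* C)
  (π₁' : D' →+* A') (π₂' : D' →+* B') (q₁' : A' →+* C') (q₂' : B' →+* C')
  (δ : D →+* D') (α : A →+* A') (β : B →+* B') (γ : C →+* C')

/-- a map of Milnor squares `D = A ×_C B → D' = A' ×_{C'} B'` (with `A → C`, `A' → C'`
surjective) such that `C' = A' ⊗_A C = B' ⊗_B C` -/
structure Data : Prop where
  H : IsPB π₁ π₂ q₁ q₂
  H' : IsPB π₁' π₂' q₁' q₂'
  hq₁ : Function.Surjective q₁
  hq₁' : Function.Surjective q₁'
  c₁ : α.comp π₁ = π₁'.comp δ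
  c₂ : β.comp π₂ = π₂'.comp δ
  c₃ : γ.comp q₁ = q₁'.comp α
  c₄ : γ.comp q₂ = q₂'.comp β
  poA : IsPushout (CommRingCat.ofHom α) (CommRingCat.ofHom q₁) (CommRingCat.ofHom q₁')
    (CommRingCat.ofHom γ)
  poB : IsPushout (CommRingCat.ofHom β) (CommRingCat.ofHom q₂) (CommRingCat.ofHom q₂')
    (CommRingCat.ofHom γ)

variable {π₁ π₂ q₁ q₂ π₁' π₂' q₁' q₂' δ α β γ}

theorem isFibreSquare_of_isPB {R R₁ R₂ R₀ : Type u} [CommRing R] [CommRing R₁] [CommRing R₂]
    [CommRing R₀] {p₁ : R →+* R₁} {p₂ : R →+* R₂} {r₁ : R₁ →+* R₀} {r₂ : R₂ →+* R₀}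
    (H : IsPB p₁ p₂ r₁ r₂) (hr₁ : Function.Surjective r₁) :
    letI := p₁.toAlgebra
    letI := p₂.toAlgebra
    letI := r₁.toAlgebra
    letI := r₂.toAlgebra
    letI := (r₁.comp p₁).toAlgebra
    haveI : IsScalarTower R R₂ R₀ := IsScalarTower.of_algebraMap_eq (fun x => H.comm x)
    haveI : IsScalarTower R R₁ R₀ := IsScalarTower.of_algebraMap_eq (fun _ => rfl)
    EtMil.IsFibreSquare R R₂ R₁ R₀ := by
  letI := p₁.toAlgebra
  letI := p₂.toAlgebra
  letI := r₁.toAlgebra
  letI := r₂.toAlgebra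
  letI := (r₁.comp p₁).toAlgebra
  haveI : IsScalarTower R R₂ R₀ := IsScalarTower.of_algebraMap_eq (fun x => H.comm x)
  haveI : IsScalarTower R R₁ R₀ := IsScalarTower.of_algebraMap_eq (fun _ => rfl)
  refine ⟨hr₁, fun b a' hba => ?_⟩
  obtain ⟨x, hx1, hx2⟩ := H.ex a' b hba.symm
  refine ⟨x, ⟨hx2, hx1⟩, fun y hy => ?_⟩
  rw [← sub_eq_zero]
  apply H.inj
  · rw [map_sub, sub_eq_zero]; exact hy.2.trans hx1.symm
  · rw [map_sub, sub_eq_zero]; exact hy.1.trans hx2.symm

theorem Data.main (𝒟 : Data π₁ π₂ q₁ q₂ π₁' π₂' q₁' q₂' δ α β γ) :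
    IsPushout (CommRingCat.ofHom π₁) (CommRingCat.ofHom δ) (CommRingCat.ofHom α)
      (CommRingCat.ofHom π₁') ∧
    IsPushout (CommRingCat.ofHom π₂) (CommRingCat.ofHom δ) (CommRingCat.ofHom β)
      (CommRingCat.ofHom π₂') ∧
    (α.FiniteType → β.FiniteType → δ.FiniteType) ∧
    (α.Flat → β.Flat → δ.Flat) ∧
    (α.Flat → β.Flat → α.FinitePresentation → β.FinitePresentation → δ.FinitePresentation) ∧
    (α.Smooth → β.Smooth → δ.Smooth) ∧
    (α.Etale → β.Etale → δ.Etale) ∧
    (α.Finite → β.Finite → δ.Finite) := by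
  letI : Algebra D B := π₂.toAlgebra
  letI : Algebra D A := π₁.toAlgebra
  letI : Algebra B C := q₂.toAlgebra
  letI : Algebra A C := q₁.toAlgebra
  letI : Algebra D C := (q₁.comp π₁).toAlgebra
  haveI : IsScalarTower D B C := IsScalarTower.of_algebraMap_eq (fun x => 𝒟.H.comm x)
  haveI : IsScalarTower D A C := IsScalarTower.of_algebraMap_eq (fun _ => rfl)
  letI : Algebra D' B' := π₂'.toAlgebra
  letI : Algebra D' A' := π₁'.toAlgebra
  letI : Algebra B' C' := q₂'.toAlgebra
  letI : Algebra A' C' := q₁'.toAlgebra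
  letI : Algebra D' C' := (q₁'.comp π₁').toAlgebra
  haveI : IsScalarTower D' B' C' := IsScalarTower.of_algebraMap_eq (fun x => 𝒟.H'.comm x)
  haveI : IsScalarTower D' A' C' := IsScalarTower.of_algebraMap_eq (fun _ => rfl)
  letI : Algebra D D' := δ.toAlgebra
  letI : Algebra B B' := β.toAlgebra
  letI : Algebra A A' := α.toAlgebra
  letI : Algebra C C' := γ.toAlgebra
  letI : Algebra D B' := (β.comp π₂).toAlgebra
  haveI : IsScalarTower D B B' := IsScalarTower.of_algebraMap_eq (fun _ => rfl)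
  haveI : IsScalarTower D D' B' :=
    IsScalarTower.of_algebraMap_eq (fun x => RingHom.congr_fun 𝒟.c₂ x)
  letI : Algebra D A' := (α.comp π₁).toAlgebra
  haveI : IsScalarTower D A A' := IsScalarTower.of_algebraMap_eq (fun _ => rfl)
  haveI : IsScalarTower D D' A' :=
    IsScalarTower.of_algebraMap_eq (fun x => RingHom.congr_fun 𝒟.c₁ x)
  letI : Algebra B C' := (γ.comp q₂).toAlgebra
  haveI : IsScalarTower B C C' := IsScalarTower.of_algebraMap_eq (fun _ => rfl)
  haveI : IsScalarTower B B' C' :=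
    IsScalarTower.of_algebraMap_eq (fun x => RingHom.congr_fun 𝒟.c₄ x)
  letI : Algebra A C' := (γ.comp q₁).toAlgebra
  haveI : IsScalarTower A C C' := IsScalarTower.of_algebraMap_eq (fun _ => rfl)
  haveI : IsScalarTower A A' C' :=
    IsScalarTower.of_algebraMap_eq (fun x => RingHom.congr_fun 𝒟.c₃ x)
  haveI : Algebra.IsPushout B B' C C' := CommRingCat.isPushout_iff_isPushout.mp 𝒟.poB
  haveI : Algebra.IsPushout A A' C C' := CommRingCat.isPushout_iff_isPushout.mp 𝒟.poA
  have hsq : EtMil.IsFibreSquare D B A C := isFibreSquare_of_isPB 𝒟.H 𝒟.hq₁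
  have hsq' : EtMil.IsFibreSquare D' B' A' C' := isFibreSquare_of_isPB 𝒟.H' 𝒟.hq₁'
  obtain ⟨hB, hA⟩ := Helper23.MilAlg.isPushout_of_fibreSquares hsq D' B' A' C' hsq'
  haveI := hB
  haveI := hA
  refine ⟨CommRingCat.isPushout_iff_isPushout.mpr hA, CommRingCat.isPushout_iff_isPushout.mpr hB,
    ?_, ?_, ?_, ?_, ?_, ?_⟩
  · intro h1 h2
    haveI : Algebra.FiniteType A A' := h1
    haveI : Algebra.FiniteType B B' := h2
    exact finiteType_rel (D := B') (C' := A') hsq
  · intro h1 h2
    haveI : Module.Flat A A' := h1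
    haveI : Module.Flat B B' := h2
    exact flat_rel (D := B') (C' := A') hsq
  · intro h1 h2 h3 h4
    haveI : Module.Flat A A' := h1
    haveI : Module.Flat B B' := h2
    haveI : Algebra.FinitePresentation A A' := h3
    haveI : Algebra.FinitePresentation B B' := h4
    haveI : Module.Flat D D' := flat_rel (D := B') (C' := A') hsq
    exact finitePresentation_rel (D := B') (C' := A') hsq
  · intro h1 h2
    haveI : Algebra.Smooth A A' := h1
    haveI : Algebra.Smooth B B' := h2
    exact smooth_rel (D := B') (C' := A') hsq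
  · intro h1 h2
    haveI : Algebra.Etale A A' := h1
    haveI : Algebra.Etale B B' := h2
    exact etale_rel (D := B') (C' := A') hsq
  · intro h1 h2
    haveI : Module.Finite A A' := h1
    haveI : Module.Finite B B' := h2
    exact finite_rel (D := B') (C' := A') hsq

end hom

end Groth.Agent.Lib.Helper9.MilnorSq
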