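import Mathlib
import Groth.Agent.Lib.Helper9.Ferrand28
import Groth.Agent.Lib.Helper9.MilnorSq1

set_option autoImplicit false
set_option linter.style.haveILetI false
set_option linter.unusedSectionVars false
universe u v w
open CategoryTheory CategoryTheory.Limits AlgebraicGeometry TopologicalSpace Opposite Topology

namespace Groth.Agent.Lib.Helper9.MilnorSq

open Groth.Agent.Lib.Helper9.PushLoc Groth.Agent.Lib.Helper9.RingPB Groth.Agent.Lib.Helper9.OILoc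
open Groth.Agent.Lib.Helper9.JointSurj Groth.Agent.Lib.Helper9.Ferrand

section
variable {X Y Z P X' Y' Z' P' : Scheme.{u}}
  (i : Z ⟶ X) (j : Z ⟶ Y) (a : X ⟶ P) (b : Y ⟶ P)
  [IsClosedImmersion i] [IsAffineHom a] [IsAffineHom b]
  (i' : Z' ⟶ X') (j' : Z' ⟶ Y') (a' : X' ⟶ P') (b' : Y' ⟶ P')
  [IsClosedImmersion i'] [IsAffineHom a'] [IsAffineHom b']
  (f : X' ⟶ X) (g : Y' ⟶ Y) (c : Z' ⟶ Z) (h : P' ⟶ P)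

theorem data_of_opens (hP : IsPushout i j a b) (hP' : IsPushout i' j' a' b')
    (hX : IsPullback i' c f i) (hY : IsPullback j' c g j) (ha : a' ≫ h = f ≫ a)
    (hb : b' ≫ h = g ≫ b)
    (W : P.Opens) (hW : IsAffineOpen W) (W' : P'.Opens) (hW' : IsAffineOpen W')
    (e : W' ≤ h ⁻¹ᵁ W) (eX : a' ⁻¹ᵁ W' ≤ f ⁻¹ᵁ (a ⁻¹ᵁ W)) (eY : b' ⁻¹ᵁ W' ≤ g ⁻¹ᵁ (b ⁻¹ᵁ W))
    (eZ : i' ⁻¹ᵁ (a' ⁻¹ᵁ W') ≤ c ⁻¹ᵁ (i ⁻¹ᵁ (a ⁻¹ᵁ W))) :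
    Data (a.app W).hom (b.app W).hom (i.app (a ⁻¹ᵁ W)).hom
      (j.appLE (b ⁻¹ᵁ W) (i ⁻¹ᵁ (a ⁻¹ᵁ W)) (preimage_le hP.w W)).hom
      (a'.app W').hom (b'.app W').hom (i'.app (a' ⁻¹ᵁ W')).hom
      (j'.appLE (b' ⁻¹ᵁ W') (i' ⁻¹ᵁ (a' ⁻¹ᵁ W')) (preimage_le hP'.w W')).hom
      (h.appLE W W' e).hom (f.appLE (a ⁻¹ᵁ W) (a' ⁻¹ᵁ W') eX).hom
      (g.appLE (b ⁻¹ᵁ W) (b' ⁻¹ᵁ W') eY).hom
      (c.appLE (i ⁻¹ᵁ (a ⁻¹ᵁ W)) (i' ⁻¹ᵁ (a' ⁻¹ᵁ W')) eZ).hom := by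
  have hWX : IsAffineOpen (a ⁻¹ᵁ W) := hW.preimage a
  have hWY : IsAffineOpen (b ⁻¹ᵁ W) := hW.preimage b
  have hWZ : IsAffineOpen (i ⁻¹ᵁ (a ⁻¹ᵁ W)) := hWX.preimage i
  have hWX' : IsAffineOpen (a' ⁻¹ᵁ W') := hW'.preimage a'
  have hWY' : IsAffineOpen (b' ⁻¹ᵁ W') := hW'.preimage b'
  have hZeq : i' ⁻¹ᵁ (a' ⁻¹ᵁ W') = j' ⁻¹ᵁ (b' ⁻¹ᵁ W') := preimage_eq_of_comm hP'.w W'
  refine
    { H := (sheafPB_iff_isPB hP.w W).mp (sheafPB_of_isPushout i j a b hP.w hP W hW)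
      H' := (sheafPB_iff_isPB hP'.w W').mp (sheafPB_of_isPushout i' j' a' b' hP'.w hP' W' hW')
      hq₁ := i.app_surjective (a ⁻¹ᵁ W) hWX
      hq₁' := i'.app_surjective (a' ⁻¹ᵁ W') hWX'
      c₁ := ?_
      c₂ := ?_
      c₃ := ?_
      c₄ := ?_
      poA := ?_
      poB := ?_ }
  · have := appLE_comm ha.symm W (a ⁻¹ᵁ W) W' (a' ⁻¹ᵁ W') le_rfl eX e le_rfl
    rw [← Scheme.Hom.app_eq_appLE, ← Scheme.Hom.app_eq_appLE] at this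
    exact congrArg CommRingCat.Hom.hom this
  · have := appLE_comm hb.symm W (b ⁻¹ᵁ W) W' (b' ⁻¹ᵁ W') le_rfl eY e le_rfl
    rw [← Scheme.Hom.app_eq_appLE, ← Scheme.Hom.app_eq_appLE] at this
    exact congrArg CommRingCat.Hom.hom this
  · have := appLE_comm hX.w.symm (a ⁻¹ᵁ W) (i ⁻¹ᵁ (a ⁻¹ᵁ W)) (a' ⁻¹ᵁ W') (i' ⁻¹ᵁ (a' ⁻¹ᵁ W'))
      le_rfl eZ eX le_rfl
    rw [← Scheme.Hom.app_eq_appLE, ← Scheme.Hom.app_eq_appLE] at this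
    exact congrArg CommRingCat.Hom.hom this
  · have := appLE_comm hY.w.symm (b ⁻¹ᵁ W) (i ⁻¹ᵁ (a ⁻¹ᵁ W)) (b' ⁻¹ᵁ W') (i' ⁻¹ᵁ (a' ⁻¹ᵁ W'))
      (preimage_le hP.w W) eZ eY (preimage_le hP'.w W')
    exact congrArg CommRingCat.Hom.hom this
  · have hUY : i' ⁻¹ᵁ (a' ⁻¹ᵁ W') = i' ⁻¹ᵁ (a' ⁻¹ᵁ W') ⊓ c ⁻¹ᵁ (i ⁻¹ᵁ (a ⁻¹ᵁ W)) :=
      (inf_eq_left.mpr eZ).symm
    have := (isPushout_sections hX (le_refl (i ⁻¹ᵁ (a ⁻¹ᵁ W))) eX hUY hWX hWZ hWX' le_rfl eZ).2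
    rw [← Scheme.Hom.app_eq_appLE, ← Scheme.Hom.app_eq_appLE] at this
    exact this
  · have hUY : i' ⁻¹ᵁ (a' ⁻¹ᵁ W') = j' ⁻¹ᵁ (b' ⁻¹ᵁ W') ⊓ c ⁻¹ᵁ (i ⁻¹ᵁ (a ⁻¹ᵁ W)) := by
      rw [← hZeq]; exact (inf_eq_left.mpr eZ).symm
    exact (isPushout_sections hY (preimage_le hP.w W) eY hUY hWY hWZ hWY'
      (preimage_le hP'.w W') eZ).2

end

end Groth.Agent.Lib.Helper9.MilnorSq
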