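import Mathlib
import Groth.Agent.Lib.Helper9.MilnorSq2

set_option autoImplicit false
set_option linter.style.haveILetI false
set_option linter.unusedSectionVars false
universe u v w
open CategoryTheory CategoryTheory.Limits AlgebraicGeometry TopologicalSpace Opposite Topology

namespace Groth.Agent.Lib.Helper9.MilnorSq

open Groth.Agent.Lib.Helper9.PushLoc Groth.Agent.Lib.Helper9.RingPB Groth.Agent.Lib.Helper9.OILoc
open Groth.Agent.Lib.Helper9.JointSurj Groth.Agent.Lib.Helper9.Ferrand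

theorem isIso_app_of_isIso_appLE {X Y : Scheme.{u}} (f : X ⟶ Y) (U : Y.Opens) (V : X.Opens)
    (e : V ≤ f ⁻¹ᵁ U) (heq : V = f ⁻¹ᵁ U) (H : IsIso (f.appLE U V e)) : IsIso (f.app U) := by
  subst heq
  rwa [← Scheme.Hom.app_eq_appLE] at H

theorem isIso_app_congr {X Y : Scheme.{u}} (f : X ⟶ Y) (U V : Y.Opens) (heq : V = U)
    (H : IsIso (f.app U)) : IsIso (f.app V) := by
  subst heq; exact H

/-- a morphism between schemes affine over `S` which is an isomorphism on sections over the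
preimages of a covering family of affine opens of `S` is an isomorphism -/
theorem isIso_of_affine_cover {X₁ X₂ S : Scheme.{u}} (θ : X₁ ⟶ X₂) (p₁ : X₁ ⟶ S) (p₂ : X₂ ⟶ S)
    (hθ : θ ≫ p₂ = p₁) [IsAffineHom p₁] [IsAffineHom p₂] (𝒲 : Set S.Opens)
    (h𝒲 : ∀ W ∈ 𝒲, IsAffineOpen W) (hcov : ∀ x : S, ∃ W ∈ 𝒲, x ∈ W)
    (H : ∀ W ∈ 𝒲, IsIso (θ.app (p₂ ⁻¹ᵁ W))) : IsIso θ := by
  have hsup : ⨆ W : 𝒲, ((⟨p₂ ⁻¹ᵁ W.1, (h𝒲 W.1 W.2).preimage p₂⟩ : X₂.affineOpens) : X₂.Opens) = ⊤ := by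
    rw [eq_top_iff]
    intro x _
    obtain ⟨W, hW, hx⟩ := hcov (p₂ x)
    exact Opens.mem_iSup.mpr ⟨⟨W, hW⟩, hx⟩
  rw [← MorphismProperty.isomorphisms.iff,
    HasAffineProperty.iff_of_iSup_eq_top (P := MorphismProperty.isomorphisms Scheme)
      (fun W : 𝒲 => (⟨p₂ ⁻¹ᵁ W.1, (h𝒲 W.1 W.2).preimage p₂⟩ : X₂.affineOpens)) hsup]
  intro W
  refine ⟨?_, ?_⟩
  · have : θ ⁻¹ᵁ (p₂ ⁻¹ᵁ W.1) = p₁ ⁻¹ᵁ W.1 := by rw [← Scheme.Hom.comp_preimage, hθ]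
    change IsAffineOpen (θ ⁻¹ᵁ (p₂ ⁻¹ᵁ W.1))
    rw [this]; exact (h𝒲 W.1 W.2).preimage p₁
  · rw [morphismRestrict_appTop]
    have h1 : IsIso (θ.app ((p₂ ⁻¹ᵁ W.1).ι ''ᵁ ⊤)) :=
      isIso_app_congr θ _ _ (Scheme.Opens.ι_image_top _) (H W.1 W.2)
    exact @IsIso.comp_isIso _ _ _ _ _ _ _ h1 (Functor.map_isIso _ _)

/-- a commutative square with affine horizontal legs is cartesian as soon as the squares of
sections over (small) affine opens are pushouts of rings -/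
theorem isPullback_of_local {X P X' P' : Scheme.{u}} (a : X ⟶ P) (a' : X' ⟶ P') (f : X' ⟶ X)
    (h : P' ⟶ P) [IsAffineHom a] [IsAffineHom a'] (ha : a' ≫ h = f ≫ a)
    (H : ∀ (W : P.Opens) (W' : P'.Opens) (_ : IsAffineOpen W) (_ : IsAffineOpen W')
      (e : W' ≤ h ⁻¹ᵁ W) (eX : a' ⁻¹ᵁ W' ≤ f ⁻¹ᵁ (a ⁻¹ᵁ W)),
      IsPushout (a.app W) (h.appLE W W' e) (f.appLE (a ⁻¹ᵁ W) (a' ⁻¹ᵁ W') eX) (a'.app W')) :
    IsPullback a' f h a := by
  let θ : X' ⟶ pullback h a := pullback.lift a' f ha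
  have hθ1 : θ ≫ pullback.fst h a = a' := pullback.lift_fst _ _ _
  have hθ2 : θ ≫ pullback.snd h a = f := pullback.lift_snd _ _ _
  suffices IsIso θ by
    exact IsPullback.of_iso_pullback ⟨ha⟩ (asIso θ) hθ1 hθ2
  let 𝒲 : Set P'.Opens :=
    {W' | IsAffineOpen W' ∧ ∃ W : P.Opens, IsAffineOpen W ∧ W' ≤ h ⁻¹ᵁ W}
  haveI : IsAffineHom (pullback.fst h a) :=
    MorphismProperty.pullback_fst (P := @IsAffineHom) _ _ inferInstance
  refine isIso_of_affine_cover θ a' (pullback.fst h a) hθ1 𝒲 (fun W' hW' => hW'.1) ?_ ?_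
  · intro x
    obtain ⟨W, hW, hxW, -⟩ := exists_isAffineOpen_mem_and_subset (x := h x) (U := ⊤) trivial
    obtain ⟨W', hW', hxW', hle⟩ :=
      exists_isAffineOpen_mem_and_subset (x := x) (U := h ⁻¹ᵁ W) hxW
    exact ⟨W', ⟨hW', W, hW, hle⟩, hxW'⟩
  · rintro W' ⟨hW', W, hW, e⟩
    set UY := pullback.fst h a ⁻¹ᵁ W' with hUYdef
    have eX : a' ⁻¹ᵁ W' ≤ f ⁻¹ᵁ (a ⁻¹ᵁ W) := by
      rw [← preimage_eq_of_comm ha W]; exact a'.preimage_mono e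
    have e₂ : UY ≤ pullback.snd h a ⁻¹ᵁ (a ⁻¹ᵁ W) := by
      rw [← preimage_eq_of_comm pullback.condition W]
      exact (pullback.fst h a).preimage_mono e
    have hUY : UY = pullback.fst h a ⁻¹ᵁ W' ⊓ pullback.snd h a ⁻¹ᵁ (a ⁻¹ᵁ W) :=
      (inf_eq_left.mpr e₂).symm
    have PO₁ := (isPushout_sections (IsPullback.of_hasPullback h a) (le_refl (a ⁻¹ᵁ W)) e hUY hW
      (hW.preimage a) hW' le_rfl e₂).2
    rw [← Scheme.Hom.app_eq_appLE] at PO₁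
    have PO₂ := (H W W' hW hW' e eX).flip
    have heq : a' ⁻¹ᵁ W' = θ ⁻¹ᵁ UY := by rw [hUYdef, ← Scheme.Hom.comp_preimage, hθ1]
    have e' : a' ⁻¹ᵁ W' ≤ θ ⁻¹ᵁ UY := heq.le
    refine isIso_app_of_isIso_appLE θ UY (a' ⁻¹ᵁ W') e' heq ?_
    have h1 : (pullback.fst h a).appLE W' UY le_rfl ≫ θ.appLE UY (a' ⁻¹ᵁ W') e' = a'.app W' := by
      rw [Scheme.Hom.appLE_comp_appLE, Scheme.Hom.app_eq_appLE]
      exact appLE_congr_hom hθ1 _ _ _ _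
    have h2 : (pullback.snd h a).appLE (a ⁻¹ᵁ W) UY e₂ ≫ θ.appLE UY (a' ⁻¹ᵁ W') e' =
        f.appLE (a ⁻¹ᵁ W) (a' ⁻¹ᵁ W') eX := by
      rw [Scheme.Hom.appLE_comp_appLE]
      exact appLE_congr_hom hθ2 _ _ _ _
    have : θ.appLE UY (a' ⁻¹ᵁ W') e' = (PO₁.isoIsPushout _ _ PO₂).hom := by
      apply PO₁.hom_ext
      · rw [h1, IsPushout.inl_isoIsPushout_hom]
      · rw [h2, IsPushout.inr_isoIsPushout_hom]
    rw [this]
    infer_instance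

end Groth.Agent.Lib.Helper9.MilnorSq
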