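import Mathlib
import Groth.Agent.Lib.Helper9.MilnorSq3

set_option autoImplicit false
set_option linter.style.haveILetI false
set_option linter.unusedSectionVars false
universe u v w
open CategoryTheory CategoryTheory.Limits AlgebraicGeometry TopologicalSpace Opposite Topology

namespace Groth.Agent.Lib.Helper9.MilnorSq

open Groth.Agent.Lib.Helper9.PushLoc Groth.Agent.Lib.Helper9.RingPB Groth.Agent.Lib.Helper9.OILoc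
open Groth.Agent.Lib.Helper9.JointSurj Groth.Agent.Lib.Helper9.Ferrand

section
variable {X Y Z P X' Y' Z' P' : Scheme.{u}}
  (i : Z ⟶ X) (j : Z ⟶ Y) (a : X ⟶ P) (b : Y ⟶ P)
  [IsClosedImmersion i] [IsAffineHom a] [IsAffineHom b]
  (i' : Z' ⟶ X') (j' : Z' ⟶ Y') (a' : X' ⟶ P') (b' : Y' ⟶ P')
  [IsClosedImmersion i'] [IsAffineHom a'] [IsAffineHom b']
  (f : X' ⟶ X) (g : Y' ⟶ Y) (c : Z' ⟶ Z) (h : P' ⟶ P)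
  (hP : IsPushout i j a b) (hP' : IsPushout i' j' a' b')
  (hX : IsPullback i' c f i) (hY : IsPullback j' c g j) (ha : a' ≫ h = f ≫ a)
  (hb : b' ≫ h = g ≫ b)

include hP hP' hX hY ha hb

/-- the ring-level data over a pair of affine opens `W' ⊆ h⁻¹ W` -/
theorem data_of_le (W : P.Opens) (hW : IsAffineOpen W) (W' : P'.Opens) (hW' : IsAffineOpen W')
    (e : W' ≤ h ⁻¹ᵁ W) :
    ∃ (eX : a' ⁻¹ᵁ W' ≤ f ⁻¹ᵁ (a ⁻¹ᵁ W)) (eY : b' ⁻¹ᵁ W' ≤ g ⁻¹ᵁ (b ⁻¹ᵁ W))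
      (eZ : i' ⁻¹ᵁ (a' ⁻¹ᵁ W') ≤ c ⁻¹ᵁ (i ⁻¹ᵁ (a ⁻¹ᵁ W))),
    Data (a.app W).hom (b.app W).hom (i.app (a ⁻¹ᵁ W)).hom
      (j.appLE (b ⁻¹ᵁ W) (i ⁻¹ᵁ (a ⁻¹ᵁ W)) (preimage_le hP.w W)).hom
      (a'.app W').hom (b'.app W').hom (i'.app (a' ⁻¹ᵁ W')).hom
      (j'.appLE (b' ⁻¹ᵁ W') (i' ⁻¹ᵁ (a' ⁻¹ᵁ W')) (preimage_le hP'.w W')).hom
      (h.appLE W W' e).hom (f.appLE (a ⁻¹ᵁ W) (a' ⁻¹ᵁ W') eX).hom
      (g.appLE (b ⁻¹ᵁ W) (b' ⁻¹ᵁ W') eY).hom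
      (c.appLE (i ⁻¹ᵁ (a ⁻¹ᵁ W)) (i' ⁻¹ᵁ (a' ⁻¹ᵁ W')) eZ).hom := by
  have eX : a' ⁻¹ᵁ W' ≤ f ⁻¹ᵁ (a ⁻¹ᵁ W) := by
    rw [← preimage_eq_of_comm ha W]; exact a'.preimage_mono e
  have eY : b' ⁻¹ᵁ W' ≤ g ⁻¹ᵁ (b ⁻¹ᵁ W) := by
    rw [← preimage_eq_of_comm hb W]; exact b'.preimage_mono e
  have eZ : i' ⁻¹ᵁ (a' ⁻¹ᵁ W') ≤ c ⁻¹ᵁ (i ⁻¹ᵁ (a ⁻¹ᵁ W)) := by
    rw [← preimage_eq_of_comm hX.w (a ⁻¹ᵁ W)]; exact i'.preimage_mono eX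
  exact ⟨eX, eY, eZ, data_of_opens i j a b i' j' a' b' f g c h hP hP' hX hY ha hb W hW W' hW' e
    eX eY eZ⟩

theorem isPullback_left : IsPullback a' f h a :=
  isPullback_of_local a a' f h ha (fun W W' hW hW' e _ => by
    obtain ⟨_, _, _, 𝒟⟩ := data_of_le i j a b i' j' a' b' f g c h hP hP' hX hY ha hb W hW W' hW' e
    exact 𝒟.main.1)

theorem isPullback_right : IsPullback b' g h b :=
  isPullback_of_local b b' g h hb (fun W W' hW hW' e _ => by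
    obtain ⟨_, _, _, 𝒟⟩ := data_of_le i j a b i' j' a' b' f g c h hP hP' hX hY ha hb W hW W' hW' e
    exact 𝒟.main.2.1)

/-- transfer of a ring-hom-local property from `f`, `g` to `h` -/
theorem transfer {MP : MorphismProperty Scheme.{u}}
    {Q : ∀ {R S : Type u} [CommRing R] [CommRing S], (R →+* S) → Prop}
    [HasRingHomProperty MP Q]
    (hQ : ∀ (W : P.Opens) (W' : P'.Opens) (_ : IsAffineOpen W) (_ : IsAffineOpen W')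
      (e : W' ≤ h ⁻¹ᵁ W) (eX : a' ⁻¹ᵁ W' ≤ f ⁻¹ᵁ (a ⁻¹ᵁ W)) (eY : b' ⁻¹ᵁ W' ≤ g ⁻¹ᵁ (b ⁻¹ᵁ W)),
      Q (f.appLE (a ⁻¹ᵁ W) (a' ⁻¹ᵁ W') eX).hom → Q (g.appLE (b ⁻¹ᵁ W) (b' ⁻¹ᵁ W') eY).hom →
        Q (h.appLE W W' e).hom)
    (hf : MP f) (hg : MP g) : MP h := by
  rw [HasRingHomProperty.iff_appLE (P := MP)]
  intro U V e
  have eX : a' ⁻¹ᵁ V.1 ≤ f ⁻¹ᵁ (a ⁻¹ᵁ U.1) := by
    rw [← preimage_eq_of_comm ha U.1]; exact a'.preimage_mono e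
  have eY : b' ⁻¹ᵁ V.1 ≤ g ⁻¹ᵁ (b ⁻¹ᵁ U.1) := by
    rw [← preimage_eq_of_comm hb U.1]; exact b'.preimage_mono e
  exact hQ U.1 V.1 U.2 V.2 e eX eY
    (HasRingHomProperty.appLE MP f hf ⟨_, U.2.preimage a⟩ ⟨_, V.2.preimage a'⟩ eX)
    (HasRingHomProperty.appLE MP g hg ⟨_, U.2.preimage b⟩ ⟨_, V.2.preimage b'⟩ eY)

end

end Groth.Agent.Lib.Helper9.MilnorSq
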