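import Mathlib
import Groth.Agent.Lib.Helper9.MilnorSq4

set_option autoImplicit false
set_option linter.style.haveILetI false
set_option linter.unusedSectionVars false
universe u v w
open CategoryTheory CategoryTheory.Limits AlgebraicGeometry TopologicalSpace Opposite Topology

namespace Groth.Agent.Lib.Helper9.MilnorSq

open Groth.Agent.Lib.Helper9.PushLoc Groth.Agent.Lib.Helper9.RingPB Groth.Agent.Lib.Helper9.OILoc
open Groth.Agent.Lib.Helper9.JointSurj Groth.Agent.Lib.Helper9.Ferrand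

/-- in a pushout of two closed immersions both legs are closed immersions -/
theorem isClosedImmersion_legs {X Y Z P : Scheme.{u}} (i : Z ⟶ X) (j : Z ⟶ Y)
    [IsClosedImmersion i] [IsClosedImmersion j] (a : X ⟶ P) (b : Y ⟶ P)
    (hP : IsPushout i j a b) : IsClosedImmersion a ∧ IsClosedImmersion b :=
  ⟨isClosedImmersion_of_isPushout j i (hcov_of_haff j i (haff_of_isClosedImmersion j i)) hP.flip,
    isClosedImmersion_of_isPushout i j (hcov_of_haff i j (haff_of_isClosedImmersion i j)) hP⟩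

theorem s7183 {X Y Z P X' Y' Z' P' : Scheme.{u}}
    (i : Z ⟶ X) (j : Z ⟶ Y) [IsClosedImmersion i] [IsClosedImmersion j] (a : X ⟶ P) (b : Y ⟶ P)
    (hP : IsPushout i j a b)
    (f : X' ⟶ X) (g : Y' ⟶ Y) (i' : Z' ⟶ X') (j' : Z' ⟶ Y') (c : Z' ⟶ Z)
    (hX : IsPullback i' c f i) (hY : IsPullback j' c g j)
    (a' : X' ⟶ P') (b' : Y' ⟶ P') (hP' : IsPushout i' j' a' b') (h : P' ⟶ P)
    (ha : a' ≫ h = f ≫ a) (hb : b' ≫ h = g ≫ b) :
    (LocallyOfFiniteType h ↔ LocallyOfFiniteType f ∧ LocallyOfFiniteType g) ∧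
    (Flat h ↔ Flat f ∧ Flat g) ∧
    ((Flat h ∧ LocallyOfFinitePresentation h) ↔
      (Flat f ∧ LocallyOfFinitePresentation f) ∧ (Flat g ∧ LocallyOfFinitePresentation g)) ∧
    (Smooth h ↔ Smooth f ∧ Smooth g) ∧
    (Etale h ↔ Etale f ∧ Etale g) := by
  obtain ⟨hacl, hbcl⟩ := isClosedImmersion_legs i j a b hP
  haveI : IsClosedImmersion i' :=
    MorphismProperty.of_isPullback (P := @IsClosedImmersion) hX.flip inferInstance
  haveI : IsClosedImmersion j' :=
    MorphismProperty.of_isPullback (P := @IsClosedImmersion) hY.flip inferInstance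
  obtain ⟨hacl', hbcl'⟩ := isClosedImmersion_legs i' j' a' b' hP'
  have hL := isPullback_left i j a b i' j' a' b' f g c h hP hP' hX hY ha hb
  have hR := isPullback_right i j a b i' j' a' b' f g c h hP hP' hX hY ha hb
  have D := fun W hW W' hW' e =>
    data_of_le i j a b i' j' a' b' f g c h hP hP' hX hY ha hb W hW W' hW' e
  have T := fun {MP : MorphismProperty Scheme.{u}}
      {Q : ∀ {R S : Type u} [CommRing R] [CommRing S], (R →+* S) → Prop}
      [HasRingHomProperty MP Q] =>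
    transfer (MP := MP) (Q := Q) i j a b i' j' a' b' f g c h hP hP' hX hY ha hb
  refine ⟨⟨fun hh => ⟨MorphismProperty.of_isPullback (P := @LocallyOfFiniteType) hL hh,
      MorphismProperty.of_isPullback (P := @LocallyOfFiniteType) hR hh⟩, fun hfg => ?_⟩,
    ⟨fun hh => ⟨MorphismProperty.of_isPullback (P := @Flat) hL hh,
      MorphismProperty.of_isPullback (P := @Flat) hR hh⟩, fun hfg => ?_⟩,
    ⟨fun hh => ⟨⟨MorphismProperty.of_isPullback (P := @Flat) hL hh.1,
        MorphismProperty.of_isPullback (P := @LocallyOfFinitePresentation) hL hh.2⟩,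
      ⟨MorphismProperty.of_isPullback (P := @Flat) hR hh.1,
        MorphismProperty.of_isPullback (P := @LocallyOfFinitePresentation) hR hh.2⟩⟩,
      fun hfg => ?_⟩,
    ⟨fun hh => ⟨MorphismProperty.of_isPullback (P := @Smooth) hL hh,
      MorphismProperty.of_isPullback (P := @Smooth) hR hh⟩, fun hfg => ?_⟩,
    ⟨fun hh => ⟨MorphismProperty.of_isPullback (P := @Etale) hL hh,
      MorphismProperty.of_isPullback (P := @Etale) hR hh⟩, fun hfg => ?_⟩⟩
  · refine T (MP := @LocallyOfFiniteType) (fun W W' hW hW' e eX eY h1 h2 => ?_) hfg.1 hfg.2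
    obtain ⟨_, _, _, 𝒟⟩ := D W hW W' hW' e
    exact 𝒟.main.2.2.1 h1 h2
  · refine T (MP := @Flat) (fun W W' hW hW' e eX eY h1 h2 => ?_) hfg.1 hfg.2
    obtain ⟨_, _, _, 𝒟⟩ := D W hW W' hW' e
    exact 𝒟.main.2.2.2.1 h1 h2
  · have hfl : Flat h := by
      refine T (MP := @Flat) (fun W W' hW hW' e eX eY h1 h2 => ?_) hfg.1.1 hfg.2.1
      obtain ⟨_, _, _, 𝒟⟩ := D W hW W' hW' e
      exact 𝒟.main.2.2.2.1 h1 h2
    refine ⟨hfl, ?_⟩
    refine T (MP := @LocallyOfFinitePresentation) (fun W W' hW hW' e eX eY h1 h2 => ?_)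
      hfg.1.2 hfg.2.2
    obtain ⟨_, _, _, 𝒟⟩ := D W hW W' hW' e
    exact 𝒟.main.2.2.2.2.1
      (HasRingHomProperty.appLE @Flat f hfg.1.1 ⟨_, hW.preimage a⟩ ⟨_, hW'.preimage a'⟩ eX)
      (HasRingHomProperty.appLE @Flat g hfg.2.1 ⟨_, hW.preimage b⟩ ⟨_, hW'.preimage b'⟩ eY)
      h1 h2
  · refine T (MP := @Smooth) (fun W W' hW hW' e eX eY h1 h2 => ?_) hfg.1 hfg.2
    obtain ⟨_, _, _, 𝒟⟩ := D W hW W' hW' e
    exact 𝒟.main.2.2.2.2.2.1 h1 h2
  · refine T (MP := @Etale) (fun W W' hW hW' e eX eY h1 h2 => ?_) hfg.1 hfg.2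
    obtain ⟨_, _, _, 𝒟⟩ := D W hW W' hW' e
    exact 𝒟.main.2.2.2.2.2.2.1 h1 h2

end Groth.Agent.Lib.Helper9.MilnorSq
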