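import Mathlib
import Groth.Agent.Lib.Helper9.MilnorSq5

set_option autoImplicit false
set_option linter.style.haveILetI false
set_option linter.unusedSectionVars false
universe u v w
open CategoryTheory CategoryTheory.Limits AlgebraicGeometry TopologicalSpace Opposite Topology

namespace Groth.Agent.Lib.Helper9.MilnorSq

open Groth.Agent.Lib.Helper9.PushLoc Groth.Agent.Lib.Helper9.RingPB Groth.Agent.Lib.Helper9.OILoc
open Groth.Agent.Lib.Helper9.JointSurj Groth.Agent.Lib.Helper9.Ferrand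

section affineOpen
variable {X Y Z : Scheme.{u}} (i : Z ⟶ X) (j : Z ⟶ Y) [IsClosedImmersion i]
variable (hcov : ∀ y : Y, ∃ p : AdPair i j, y ∈ p.V)

/-- an open of the glued scheme whose preimages in both pieces are affine is affine -/
theorem isAffineOpen_of_preimages (W : (Po i j).Opens)
    (hU : IsAffineOpen (mapA i j hcov ⁻¹ᵁ W)) (hV : IsAffineOpen (mapB i j hcov ⁻¹ᵁ W)) :
    IsAffineOpen W := by
  let p : AdPair i j := ⟨mapA i j hcov ⁻¹ᵁ W, mapB i j hcov ⁻¹ᵁ W, hU, hV,
    preimage_eq_of_comm (Ferrand.isPushout i j hcov).w W⟩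
  have : W = (Ferrand.ι i j p).opensRange := by
    ext x
    rcases js_map i j hcov x with ⟨u, rfl⟩ | ⟨v, rfl⟩
    · have h1 : mapA i j hcov u ∈ (Ferrand.ι i j p).opensRange ↔ u ∈ p.U := by
        rw [← mapA_preimage i j hcov p]; rfl
      exact h1.symm
    · have h1 : mapB i j hcov v ∈ (Ferrand.ι i j p).opensRange ↔ v ∈ p.V := by
        rw [← mapB_preimage i j hcov p]; rfl
      exact h1.symm
  rw [this]
  exact isAffineOpen_opensRange _

end affineOpen

section glued
variable {X Y Z P X' Y' Z' : Scheme.{u}}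
  (i : Z ⟶ X) (j : Z ⟶ Y) (a : X ⟶ P) (b : Y ⟶ P)
  [IsClosedImmersion i] [IsAffineHom a] [IsAffineHom b]
  (i' : Z' ⟶ X') (j' : Z' ⟶ Y') [IsClosedImmersion i']
  (hcov' : ∀ y : Y', ∃ p : AdPair i' j', y ∈ p.V)
  (f : X' ⟶ X) (g : Y' ⟶ Y) (c : Z' ⟶ Z) (h : Po i' j' ⟶ P)
  (hP : IsPushout i j a b)
  (hX : IsPullback i' c f i) (hY : IsPullback j' c g j)
  (ha : mapA i' j' hcov' ≫ h = f ≫ a) (hb : mapB i' j' hcov' ≫ h = g ≫ b)

include ha hb in
theorem isAffineHom_desc [IsAffineHom f] [IsAffineHom g] : IsAffineHom h := by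
  refine ⟨fun W hW => isAffineOpen_of_preimages i' j' hcov' _ ?_ ?_⟩
  · rw [preimage_eq_of_comm ha W]
    exact (hW.preimage a).preimage f
  · rw [preimage_eq_of_comm hb W]
    exact (hW.preimage b).preimage g

include hP hX hY ha hb in
theorem isFinite_desc [IsFinite f] [IsFinite g] : IsFinite h := by
  haveI := isAffineHom_desc a b i' j' hcov' f g h ha hb
  haveI := isAffineHom_mapA i' j' hcov'
  haveI := isAffineHom_mapB i' j' hcov'
  refine { finite_app := fun W hW => ?_ }
  obtain ⟨eX, eY, eZ, 𝒟⟩ := data_of_le i j a b i' j' (mapA i' j' hcov') (mapB i' j' hcov') f g c h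
    hP (Ferrand.isPushout i' j' hcov') hX hY ha hb W hW (h ⁻¹ᵁ W) (hW.preimage h) le_rfl
  have := 𝒟.main.2.2.2.2.2.2.2
    (appLE_finite f (hW.preimage a) (preimage_eq_of_comm ha W))
    (appLE_finite g (hW.preimage b) (preimage_eq_of_comm hb W))
  rwa [← Scheme.Hom.app_eq_appLE] at this

include hP hX hY ha hb in
theorem etale_desc [Etale f] [Etale g] : Etale h := by
  haveI := isAffineHom_mapA i' j' hcov'
  haveI := isAffineHom_mapB i' j' hcov'
  refine transfer (MP := @Etale) i j a b i' j' (mapA i' j' hcov') (mapB i' j' hcov') f g c h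
    hP (Ferrand.isPushout i' j' hcov') hX hY ha hb (fun W W' hW hW' e eX eY h1 h2 => ?_)
    inferInstance inferInstance
  obtain ⟨_, _, _, 𝒟⟩ := data_of_le i j a b i' j' (mapA i' j' hcov') (mapB i' j' hcov') f g c h
    hP (Ferrand.isPushout i' j' hcov') hX hY ha hb W hW W' hW' e
  exact 𝒟.main.2.2.2.2.2.2.1 h1 h2

end glued

end Groth.Agent.Lib.Helper9.MilnorSq
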