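import Mathlib
import Groth.Prelude.Def_Magnet4
import Groth.Agent.Lib.Helper9.Mag4
import Groth.Agent.Lib.Helper9.Mag5
import Groth.Agent.Lib.Helper9.MilnorSq6
set_option autoImplicit false
set_option linter.style.haveILetI false
set_option linter.unusedSectionVars false
universe u v w
open CategoryTheory CategoryTheory.Limits AlgebraicGeometry TopologicalSpace Opposite Topology
open MonoidalCategory CartesianMonoidalCategory

namespace Groth.Agent.Lib.Helper9.Mag

open Magnet Groth.Agent.Lib.Helper9.RingPB Groth.Agent.Lib.Helper9.Ferrand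

/-- the base change square attached to `W ⊗ -` in `Over S` -/
theorem isPullback_whiskerLeft_left {S : Scheme.{u}} (W : Over S) {A B : Over S} (φ : A ⟶ B) :
    IsPullback (pullback.snd W.hom A.hom) (W ◁ φ).left φ.left (pullback.snd W.hom B.hom) := by
  have s : IsPullback ((W ◁ φ).left ≫ pullback.fst W.hom B.hom)
      (pullback.snd W.hom A.hom) W.hom (φ.left ≫ B.hom) := by
    rw [Over.whiskerLeft_left_fst, Over.w φ]
    exact IsPullback.of_hasPullback W.hom A.hom
  have p : (W ◁ φ).left ≫ pullback.snd W.hom B.hom = pullback.snd W.hom A.hom ≫ φ.left :=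
    Over.whiskerLeft_left_snd φ
  exact (IsPullback.of_right s p (IsPullback.of_hasPullback W.hom B.hom)).flip

/-- **Pushouts in `Over S` stay pushouts after `W ⊗ -` for `W` flat over `S`**, when the first
leg is a closed immersion and the coprojections are affine. -/
theorem isPushout_whiskerLeft_of_flat {S : Scheme.{u}} {Z X Y P : Over S}
    (i : Z ⟶ X) (j : Z ⟶ Y) (a : X ⟶ P) (b : Y ⟶ P)
    [IsClosedImmersion i.left] [IsAffineHom a.left] [IsAffineHom b.left]
    (hP : IsPushout i.left j.left a.left b.left) (W : Over S) [Flat W.hom] :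
    IsPushout (W ◁ i) (W ◁ j) (W ◁ a) (W ◁ b) := by
  have w : i ≫ a = j ≫ b := by
    ext
    exact hP.w
  have w' : (W ◁ i) ≫ (W ◁ a) = (W ◁ j) ≫ (W ◁ b) := by
    rw [← MonoidalCategory.whiskerLeft_comp, ← MonoidalCategory.whiskerLeft_comp, w]
  haveI : Flat (pullback.snd W.hom P.hom) := inferInstance
  refine IsPushout.of_map (Over.forget S) w' ?_
  refine isPushout_baseChange_of_flat i.left j.left a.left b.left (pullback.snd W.hom P.hom)
    (pullback.snd W.hom X.hom) (W ◁ a).left
    (pullback.snd W.hom Y.hom) (W ◁ b).left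
    (pullback.snd W.hom Z.hom) (W ◁ (i ≫ a)).left
    (W ◁ i).left (W ◁ j).left hP
    (isPullback_whiskerLeft_left W a)
    (isPullback_whiskerLeft_left W b) (isPullback_whiskerLeft_left W (i ≫ a))
    (Over.whiskerLeft_left_snd i) ?_ (Over.whiskerLeft_left_snd j) ?_
  · rw [MonoidalCategory.whiskerLeft_comp]; rfl
  · rw [w, MonoidalCategory.whiskerLeft_comp]; rfl


open Groth.Agent.Lib.Helper9.MilnorSq in
/-- the pushout of two closed immersions of affine `T`-schemes, as a `T`-scheme; it is affine -/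
theorem exists_affine_pushout_over {T : Scheme.{u}} {Z X₁ X₂ : Over T} (i : Z ⟶ X₁) (j : Z ⟶ X₂)
    [IsClosedImmersion i.left] [IsClosedImmersion j.left] [IsAffine X₁.left] [IsAffine X₂.left] :
    ∃ (P : Over T) (ν₁ : X₁ ⟶ P) (ν₂ : X₂ ⟶ P), IsPushout i j ν₁ ν₂ ∧
      IsPushout i.left j.left ν₁.left ν₂.left ∧ IsAffine P.left ∧
      IsClosedImmersion ν₁.left ∧ IsClosedImmersion ν₂.left := by
  have hcov := hcov_of_haff i.left j.left (haff_of_isClosedImmersion i.left j.left)
  have hP₀ := Ferrand.isPushout i.left j.left hcov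
  have hs : i.left ≫ X₁.hom = j.left ≫ X₂.hom := by rw [Over.w, Over.w]
  let P : Over T := Over.mk (hP₀.desc X₁.hom X₂.hom hs)
  let ν₁ : X₁ ⟶ P := Over.homMk (mapA i.left j.left hcov) (hP₀.inl_desc _ _ _)
  let ν₂ : X₂ ⟶ P := Over.homMk (mapB i.left j.left hcov) (hP₀.inr_desc _ _ _)
  have w : i ≫ ν₁ = j ≫ ν₂ := by
    ext
    exact hP₀.w
  refine ⟨P, ν₁, ν₂, IsPushout.of_map (Over.forget T) w hP₀, hP₀, ?_,
    isClosedImmersion_mapA i.left j.left hcov, isClosedImmersion_mapB i.left j.left hcov⟩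
  have h1 : IsAffineOpen (mapA i.left j.left hcov ⁻¹ᵁ (⊤ : (Po i.left j.left).Opens)) :=
    isAffineOpen_top _
  have h2 : IsAffineOpen (mapB i.left j.left hcov ⁻¹ᵁ (⊤ : (Po i.left j.left).Opens)) :=
    isAffineOpen_top _
  have h3 := isAffineOpen_of_preimages i.left j.left hcov ⊤ h1 h2
  exact (Scheme.isoOfEq _ rfl ≪≫ Scheme.topIso (Po i.left j.left)).symm |> fun e =>
    @IsAffine.of_isIso _ _ e.hom _ h3

end Groth.Agent.Lib.Helper9.Mag
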