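import Mathlib
import Groth.Prelude.Def_Magnet4
import Groth.Prelude.Def_MoreMor
import Groth.Agent.Lib.Helper9.Mag6
set_option autoImplicit false
set_option linter.style.haveILetI false
set_option linter.unusedSectionVars false
universe u v w v₁ u₁
open CategoryTheory CategoryTheory.Limits AlgebraicGeometry TopologicalSpace Opposite Topology
open MonoidalCategory CartesianMonoidalCategory

namespace Groth.Agent.Lib.Helper9.Mag

open Magnet Magnet.MonAct Groth.Agent.Lib.Helper9.RingPB Groth.Agent.Lib.Helper9.Ferrand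

theorem isEquivariant_fst {C : Type u₁} [Category.{v₁} C] [CartesianMonoidalCategory C]
    {A X Y : C} [MonObj A] (ρ : MonAct A X) (b : MonAct A Y) :
    IsEquivariant (ρ.prod b) ρ (fst X Y) := by
  rw [isEquivariant_iff]
  intro T' g x
  rw [← lift_comp_fst_snd x]
  simp only [lift_prod_act_assoc, lift_fst]

instance isAffine_AMonS_left (T : Scheme.{u}) [IsAffine T] (M : Type) [AddCommMonoid M] :
    IsAffine (AMonS T M).left := by
  change IsAffine (pullback (AMon (ULift.{u} ℤ) M).hom _)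
  infer_instance

theorem s18243 (T : Scheme.{u}) [IsAffine T] (M : Type) [AddCommMonoid M]
    {N F : AddSubmonoid M} (hF : Magnet.IsFace N F) (Tb : Over T)
    (hTb : IsClosedImmersion Tb.hom) :
    ∃ (P : Over T) (ν₁ : Magnet.AMonS T F ⟶ P) (ν₂ : Magnet.AMonS T N ⊗ Tb ⟶ P)
      (hP : IsPushout (CartesianMonoidalCategory.fst (Magnet.AMonS T F) Tb) (Magnet.AMonS.faceMap T hF ▷ Tb) ν₁ ν₂)
      (aP : Magnet.MonAct (Magnet.AMonS T M) P),
      IsAffine P.left ∧ Magnet.MonAct.IsEquivariant (Magnet.subAct T M F) aP ν₁ ∧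
      Magnet.MonAct.IsEquivariant ((Magnet.subAct T M N).prod (Magnet.MonAct.trivial (Magnet.AMonS T M) Tb)) aP ν₂ ∧
      ∀ (X : Over T) (aX : Magnet.MonAct (Magnet.AMonS T M) X) (f₁ : Magnet.AMonS T F ⟶ X)
        (f₂ : Magnet.AMonS T N ⊗ Tb ⟶ X)
        (w : CartesianMonoidalCategory.fst (Magnet.AMonS T F) Tb ≫ f₁ = (Magnet.AMonS.faceMap T hF ▷ Tb) ≫ f₂),
        Magnet.MonAct.IsEquivariant (Magnet.subAct T M F) aX f₁ →
        Magnet.MonAct.IsEquivariant ((Magnet.subAct T M N).prod (Magnet.MonAct.trivial (Magnet.AMonS T M) Tb)) aX f₂ →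
        Magnet.MonAct.IsEquivariant aP aX (hP.desc f₁ f₂ w) := by
  haveI : IsAffine Tb.left := isAffine_of_isAffineHom Tb.hom
  haveI : IsClosedImmersion (CartesianMonoidalCategory.fst (Magnet.AMonS T F) Tb).left := by
    change IsClosedImmersion (pullback.fst (AMonS T F).hom Tb.hom)
    infer_instance
  haveI : IsClosedImmersion (Magnet.AMonS.faceMap T hF ▷ Tb).left :=
    MorphismProperty.of_isPullback (P := @IsClosedImmersion)
      (isPullback_whiskerRight_left (Magnet.AMonS.faceMap T hF) Tb) inferInstance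
  haveI : IsAffine (Magnet.AMonS T N ⊗ Tb).left := by
    change IsAffine (pullback (AMonS T N).hom Tb.hom)
    infer_instance
  obtain ⟨P, ν₁, ν₂, hP, hPl, hPaff, hν₁, hν₂⟩ := exists_affine_pushout_over
    (CartesianMonoidalCategory.fst (Magnet.AMonS T F) Tb) (Magnet.AMonS.faceMap T hF ▷ Tb)
  haveI : Flat (Magnet.AMonS T M ⊗ Magnet.AMonS T M).hom := by
    change Flat (pullback.fst (AMonS T M).hom (AMonS T M).hom ≫ (AMonS T M).hom)
    infer_instance
  have hA := isPushout_whiskerLeft_of_flat _ _ _ _ hPl (Magnet.AMonS T M)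
  have hAA := isPushout_whiskerLeft_of_flat _ _ _ _ hPl (Magnet.AMonS T M ⊗ Magnet.AMonS T M)
  obtain ⟨aP, h₁, h₂, h₃⟩ := exists_monAct_of_isPushout
    ((Magnet.subAct T M F).prod (Magnet.MonAct.trivial (Magnet.AMonS T M) Tb))
    (Magnet.subAct T M F)
    ((Magnet.subAct T M N).prod (Magnet.MonAct.trivial (Magnet.AMonS T M) Tb))
    (isEquivariant_fst _ _) (isEquivariant_whiskerRight (isEquivariant_faceMapS T hF) Tb)
    hP hA hAA
  exact ⟨P, ν₁, ν₂, hP, aP, hPaff, h₁, h₂, h₃⟩

end Groth.Agent.Lib.Helper9.Mag
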