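import Mathlib
import Groth.Prelude.Def_Magnet4
import Groth.Agent.Lib.Helper9.Mag14
import Groth.Agent.Lib.Helper9.Mag7
set_option autoImplicit false
set_option linter.style.haveILetI false
set_option linter.unusedSectionVars false
universe u v w v₁ u₁ v₂ u₂
open CategoryTheory CategoryTheory.Limits AlgebraicGeometry
open MonoidalCategory CartesianMonoidalCategory

namespace Groth.Agent.Lib.Helper9.Mag

open Magnet Magnet.MonAct

section main
variable {S : Scheme.{u}} {M : Type} [AddCommMonoid M]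
  {J : Type u} [Preorder J] [IsDirected J (· ≤ ·)] [Nonempty J]
  (N : J → AddSubmonoid M) (hN : Monotone N)

/-- the diagram `j ↦ A(N j)_S ⊗ W` in `Over S` -/
noncomputable def sDiagram (W : Over S) : Jᵒᵖ ⥤ Over S :=
  (amonDiagram (ULift.{u} ℤ) N hN ⋙ Over.pullback (IsTerminal.from specULiftZIsTerminal S)) ⋙
    tensorRight W

theorem sDiagram_obj (W : Over S) (j : Jᵒᵖ) :
    (sDiagram N hN W).obj j = AMonS S ↥(N j.unop) ⊗ W := rfl

theorem sDiagram_map (W : Over S) {i j : Jᵒᵖ} (f : i ⟶ j) :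
    (sDiagram N hN W).map f =
      AMonS.map S (AddSubmonoid.inclusion (hN (leOfHom f.unop))) ▷ W := rfl

noncomputable def sCone (W : Over S) : Cone (sDiagram N hN W) :=
  (tensorRight W).mapCone ((Over.pullback (IsTerminal.from specULiftZIsTerminal S)).mapCone
    (amonCone (ULift.{u} ℤ) N hN))

theorem sCone_pt (W : Over S) : (sCone N hN W).pt = AMonS S ↥(⨆ j, N j) ⊗ W := rfl

theorem sCone_π_app (W : Over S) (j : Jᵒᵖ) :
    (sCone N hN W).π.app j = AMonS.map S (AddSubmonoid.inclusion (le_iSup N j.unop)) ▷ W := rfl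

noncomputable def isLimit_sCone (W : Over S) : IsLimit (sCone N hN W) :=
  isLimitTensorRightMapCone _
    (isLimitOfPreserves (Over.pullback (IsTerminal.from specULiftZIsTerminal S))
      (isLimit_amonCone (ULift.{u} ℤ) N hN)) W

noncomputable def isLimit_forget_sCone (W : Over S) :
    IsLimit ((Over.forget S).mapCone (sCone N hN W)) := by
  haveI : IsConnected Jᵒᵖ := IsCofiltered.isConnected Jᵒᵖ
  exact isLimitOfPreserves (Over.forget S) (isLimit_sCone N hN W)

instance isAffineHom_AMonS_hom (S : Scheme.{u}) (N' : Type) [AddCommMonoid N'] :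
    IsAffineHom (AMonS S N').hom := by
  haveI : IsAffineHom (AMon (ULift.{u} ℤ) N').hom := by
    change IsAffineHom (Spec.map _)
    infer_instance
  exact MorphismProperty.pullback_snd (P := @IsAffineHom) _ _ this

theorem isAffine_tensor_left (N' : Type) [AddCommMonoid N'] (W : Over S) [IsAffine W.left] :
    IsAffine (AMonS S N' ⊗ W).left := by
  haveI : IsAffineHom (pullback.snd (AMonS S N').hom W.hom) :=
    MorphismProperty.pullback_snd (P := @IsAffineHom) _ _ inferInstance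
  exact isAffine_of_isAffineHom (pullback.snd (AMonS S N').hom W.hom)

theorem isAffineHom_whiskerRight_left {A B : Over S} (φ : A ⟶ B) [IsAffineHom φ.left]
    (W : Over S) : IsAffineHom (φ ▷ W).left :=
  MorphismProperty.of_isPullback (P := @IsAffineHom) (isPullback_whiskerRight_left φ W) ‹_›

/-- the structure maps of the diagram -/
noncomputable def sT (W : Over S) :
    sDiagram N hN W ⋙ Over.forget S ⟶ (Functor.const Jᵒᵖ).obj S where
  app j := ((sDiagram N hN W).obj j).hom
  naturality i j f := by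
    simp only [Functor.const_obj_obj, Functor.const_obj_map, Category.comp_id]
    exact Over.w ((sDiagram N hN W).map f)

include hN in
theorem exists_factor (X : Over S) [LocallyOfFinitePresentation X.hom] (W : Over S)
    [IsAffine W.left] (φ : AMonS S ↥(⨆ j, N j) ⊗ W ⟶ X) :
    ∃ (i : J) (ψ : AMonS S ↥(N i) ⊗ W ⟶ X),
      (AMonS.map S (AddSubmonoid.inclusion (le_iSup N i)) ▷ W) ≫ ψ = φ := by
  haveI : ∀ {i j : Jᵒᵖ} (f : i ⟶ j), IsAffineHom ((sDiagram N hN W ⋙ Over.forget S).map f) := by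
    intro i j f
    change IsAffineHom (AMonS.map S (AddSubmonoid.inclusion (hN (leOfHom f.unop))) ▷ W).left
    exact isAffineHom_whiskerRight_left _ W
  haveI : ∀ i, IsAffine ((sDiagram N hN W ⋙ Over.forget S).obj i) := by
    intro i
    change IsAffine (AMonS S ↥(N i.unop) ⊗ W).left
    exact isAffine_tensor_left _ W
  obtain ⟨i, g, hg1, hg2⟩ := Scheme.exists_π_app_comp_eq_of_locallyOfFinitePresentation
    (sDiagram N hN W ⋙ Over.forget S) (sT N hN W) X.hom _ (isLimit_forget_sCone N hN W) φ.left (by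
      ext j : 2
      simp only [NatTrans.comp_app, Functor.const_map_app]
      change ((sCone N hN W).π.app j).left ≫ ((sDiagram N hN W).obj j).hom = _
      rw [Over.w]
      exact (Over.w φ).symm)
  refine ⟨i.unop, Over.homMk g hg2, ?_⟩
  ext : 1
  exact hg1

include hN in
theorem exists_eq_of_eq (X : Over S) [LocallyOfFiniteType X.hom] (W : Over S)
    [IsAffine W.left] (i : J) (p q : AMonS S ↥(N i) ⊗ W ⟶ X)
    (h : (AMonS.map S (AddSubmonoid.inclusion (le_iSup N i)) ▷ W) ≫ p =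
      (AMonS.map S (AddSubmonoid.inclusion (le_iSup N i)) ▷ W) ≫ q) :
    ∃ (k : J) (hik : i ≤ k), (AMonS.map S (AddSubmonoid.inclusion (hN hik)) ▷ W) ≫ p =
      (AMonS.map S (AddSubmonoid.inclusion (hN hik)) ▷ W) ≫ q := by
  haveI : ∀ {i j : Jᵒᵖ} (f : i ⟶ j), IsAffineHom ((sDiagram N hN W ⋙ Over.forget S).map f) := by
    intro i j f
    change IsAffineHom (AMonS.map S (AddSubmonoid.inclusion (hN (leOfHom f.unop))) ▷ W).left
    exact isAffineHom_whiskerRight_left _ W
  haveI : ∀ i, IsAffine ((sDiagram N hN W ⋙ Over.forget S).obj i) := by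
    intro i
    change IsAffine (AMonS S ↥(N i.unop) ⊗ W).left
    exact isAffine_tensor_left _ W
  obtain ⟨k, hik, hk⟩ := Scheme.exists_hom_comp_eq_comp_of_locallyOfFiniteType
    (sDiagram N hN W ⋙ Over.forget S) (sT N hN W) X.hom _ (isLimit_forget_sCone N hN W)
    (i := Opposite.op i) p.left q.left (Over.w p).symm (Over.w q).symm
    (congrArg (fun m => m.left) h)
  refine ⟨k.unop, leOfHom hik.unop, ?_⟩
  ext : 1
  exact hk

theorem isEquivariant_AMonS_map_inclusion (S : Scheme.{u}) {N₁ N₂ : AddSubmonoid M} (h : N₁ ≤ N₂) :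
    IsEquivariant (subAct S M N₂) (subAct S M N₁) (AMonS.map S (AddSubmonoid.inclusion h)) :=
  MonAct.isEquivariant_restrict_regular _ _ _ (by rw [← AMonS.map_comp]; rfl)

theorem AMonS_map_inclusion_comp (S : Scheme.{u}) {N₁ N₂ N₃ : AddSubmonoid M} (h₁ : N₁ ≤ N₂)
    (h₂ : N₂ ≤ N₃) :
    AMonS.map S (AddSubmonoid.inclusion h₂) ≫ AMonS.map S (AddSubmonoid.inclusion h₁) =
      AMonS.map S (AddSubmonoid.inclusion (h₁.trans h₂)) := by
  rw [← AMonS.map_comp]
  rfl

include hN in
theorem main_u (X : Over S) [LocallyOfFinitePresentation X.hom]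
    (a : MonAct (AMonS S M) X) (T : Over S) [IsAffine T.left]
    (φ : (attr a (⨆ i, N i)).obj (Opposite.op T)) :
    ∃ (i : J) (ψ : (attr a (N i)).obj (Opposite.op T)),
      (attrMap a (le_iSup N i)).app (Opposite.op T) ψ = φ := by
  obtain ⟨i, ψ₀, hψ₀⟩ := exists_factor N hN X T φ.1
  let p : AMonS S M ⊗ (AMonS S ↥(N i) ⊗ T) ⟶ X :=
    ((subAct S M (N i)).prod (trivial (AMonS S M) T)).act ≫ ψ₀
  let q : AMonS S M ⊗ (AMonS S ↥(N i) ⊗ T) ⟶ X := (AMonS S M ◁ ψ₀) ≫ a.act
  have hpq : (AMonS S M ◁ (AMonS.map S (AddSubmonoid.inclusion (le_iSup N i)) ▷ T)) ≫ p =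
      (AMonS S M ◁ (AMonS.map S (AddSubmonoid.inclusion (le_iSup N i)) ▷ T)) ≫ q := by
    have e1 := isEquivariant_whiskerRight
      (isEquivariant_AMonS_map_inclusion S (le_iSup N i)) T
    have e2 := φ.2
    unfold IsEquivariant at e1 e2
    change _ ≫ _ ≫ ψ₀ = _ ≫ _ ≫ a.act
    rw [← Category.assoc, ← e1, Category.assoc, hψ₀, e2, ← hψ₀,
      MonoidalCategory.whiskerLeft_comp, Category.assoc]
  have hpq' : (AMonS.map S (AddSubmonoid.inclusion (le_iSup N i)) ▷ (AMonS S M ⊗ T)) ≫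
        (swp (AMonS S M) (AMonS S ↥(N i)) T ≫ p) =
      (AMonS.map S (AddSubmonoid.inclusion (le_iSup N i)) ▷ (AMonS S M ⊗ T)) ≫
        (swp (AMonS S M) (AMonS S ↥(N i)) T ≫ q) := by
    rw [reassoc_of% (swp_natural (AMonS S M)
        (AMonS.map S (AddSubmonoid.inclusion (le_iSup N i))) T),
      reassoc_of% (swp_natural (AMonS S M)
        (AMonS.map S (AddSubmonoid.inclusion (le_iSup N i))) T), hpq]
  haveI : IsAffine (AMonS S M ⊗ T).left := isAffine_tensor_left M T
  obtain ⟨k, hik, hk⟩ := exists_eq_of_eq N hN X (AMonS S M ⊗ T) i _ _ hpq'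
  rw [reassoc_of% (swp_natural (AMonS S M) (AMonS.map S (AddSubmonoid.inclusion (hN hik))) T),
    reassoc_of% (swp_natural (AMonS S M) (AMonS.map S (AddSubmonoid.inclusion (hN hik))) T)] at hk
  have hk' : (AMonS S M ◁ (AMonS.map S (AddSubmonoid.inclusion (hN hik)) ▷ T)) ≫ p =
      (AMonS S M ◁ (AMonS.map S (AddSubmonoid.inclusion (hN hik)) ▷ T)) ≫ q := by
    have := congrArg (fun z => swp (AMonS S ↥(N k)) (AMonS S M) T ≫ z) hk
    simpa only [reassoc_of% (swp_swp (AMonS S M) (AMonS S ↥(N k)) T)] using this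
  refine ⟨k, ⟨(AMonS.map S (AddSubmonoid.inclusion (hN hik)) ▷ T) ≫ ψ₀, ?_⟩, ?_⟩
  · have e3 := isEquivariant_whiskerRight
      (isEquivariant_AMonS_map_inclusion S (hN hik)) T
    unfold IsEquivariant at e3 ⊢
    rw [reassoc_of% e3, MonoidalCategory.whiskerLeft_comp, Category.assoc]
    exact hk'
  · apply Subtype.ext
    change (AMonS.map S (AddSubmonoid.inclusion (le_iSup N k)) ▷ T) ≫
      (AMonS.map S (AddSubmonoid.inclusion (hN hik)) ▷ T) ≫ ψ₀ = φ.1
    rw [← Category.assoc, ← MonoidalCategory.comp_whiskerRight, AMonS_map_inclusion_comp]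
    exact hψ₀

include hN in
theorem main_gen (X : Over S) [LocallyOfFinitePresentation X.hom]
    (a : MonAct (AMonS S M) X) (T : Over S) [IsAffine T.left]
    (L : AddSubmonoid M) (hL : L = ⨆ j, N j)
    (φ : (attr a L).obj (Opposite.op T)) :
    ∃ (i : J) (h : N i ≤ L) (ψ : (attr a (N i)).obj (Opposite.op T)),
      (attrMap a h).app (Opposite.op T) ψ = φ := by
  subst hL
  obtain ⟨i, ψ, h⟩ := main_u N hN X a T φ
  exact ⟨i, le_iSup N i, ψ, h⟩

end main

theorem s18290 (S : Scheme.{u}) (M : Type) [AddCommMonoid M]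
    (X : Over S) [LocallyOfFinitePresentation X.hom]
    (a : Magnet.MonAct (Magnet.AMonS S M) X) {J : Type} [Preorder J] [IsDirected J (· ≤ ·)]
    [Nonempty J]
    (N : J → AddSubmonoid M) (hN : Monotone N) (T : Over S) [IsAffine T.left]
    (φ : (Magnet.attr a (⨆ i, N i)).obj (Opposite.op T)) :
    ∃ (i : J) (ψ : (Magnet.attr a (N i)).obj (Opposite.op T)),
      (Magnet.attrMap a (le_iSup N i)).app (Opposite.op T) ψ = φ := by
  haveI : IsDirected (ULift.{u} J) (· ≤ ·) := ⟨fun x y => by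
    obtain ⟨c, hc1, hc2⟩ := exists_ge_ge x.down y.down
    exact ⟨⟨c⟩, hc1, hc2⟩⟩
  obtain ⟨i, h, ψ, hψ⟩ := main_gen (J := ULift.{u} J) (fun j => N j.down)
    (fun x y hxy => hN hxy) X a T (⨆ i, N i)
    (Equiv.ulift.{u}.iSup_comp (g := N)).symm φ
  exact ⟨i.down, ψ, hψ⟩

end Groth.Agent.Lib.Helper9.Mag
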