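import Mathlib
set_option autoImplicit false
set_option linter.style.haveILetI false
set_option linter.unusedSectionVars false
universe u v w
open CategoryTheory

namespace Groth.Agent.Lib.Helper9.Mag

section free
variable (R : Type u) [CommRing R] {G : Type v} {H : Type w} [CommGroup G] [CommGroup H]
  (ι : H →* G)

/-- the ring map `R[H] → R[G]` induced by `ι`, spelled as in `AMon.map_left` -/
noncomputable def mdHom : MonoidAlgebra R H →+* MonoidAlgebra R G :=
  (MonoidAlgebra.mapDomainBialgHom R ι).toAlgHom.toRingHom

theorem mdHom_apply (x : MonoidAlgebra R H) : mdHom R ι x = MonoidAlgebra.mapDomain ι x := rfl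

theorem mdHom_single (h : H) (r : R) :
    mdHom R ι (MonoidAlgebra.single h r) = MonoidAlgebra.single (ι h) r :=
  MonoidAlgebra.mapDomain_single

variable {ι}

theorem coeff_mdHom (hι : Function.Injective ι) (x : MonoidAlgebra R H) (h : H) :
    (mdHom R ι x).coeff (ι h) = x.coeff h := by
  rw [mdHom_apply, MonoidAlgebra.mapDomain]
  exact Finsupp.mapDomain_apply hι _ _

theorem coeff_mdHom_of_notMem (x : MonoidAlgebra R H) (g : G) (hg : g ∉ ι.range) :
    (mdHom R ι x).coeff g = 0 := by
  rw [mdHom_apply, MonoidAlgebra.mapDomain]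
  refine Finsupp.mapDomain_of_notMem_range _ _ ?_
  intro h
  exact hg (by simpa using h)

/-- `R[G]` is free over `R[H]` for an injective homomorphism of commutative groups -/
theorem free_mdHom (hι : Function.Injective ι) :
    letI := (mdHom R ι).toAlgebra
    Module.Free (MonoidAlgebra R H) (MonoidAlgebra R G) := by
  letI := (mdHom R ι).toAlgebra
  have smul_def : ∀ (a : MonoidAlgebra R H) (f : MonoidAlgebra R G), a • f = mdHom R ι a * f :=
    fun a f => rfl
  let s : G ⧸ ι.range → G := Quotient.out
  have hs : ∀ c, (QuotientGroup.mk (s c) : G ⧸ ι.range) = c := fun c => Quotient.out_eq c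
  let v : G ⧸ ι.range → MonoidAlgebra R G := fun c => MonoidAlgebra.single (s c) 1
  have hli : LinearIndependent (MonoidAlgebra R H) v := by
    rw [linearIndependent_iff']
    intro t g hg c₀ hc₀
    apply MonoidAlgebra.ext
    ext h
    have := congrArg (fun f => MonoidAlgebra.coeff f (ι h * s c₀)) hg
    simp only [MonoidAlgebra.coeff_sum, Finsupp.coe_finsetSum, Finset.sum_apply,
      MonoidAlgebra.coeff_zero, Finsupp.coe_zero, Pi.zero_apply] at this
    rw [Finset.sum_eq_single c₀] at this
    · rw [smul_def, MonoidAlgebra.coeff_mul_single_apply, _root_.mul_one, mul_inv_cancel_right,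
        coeff_mdHom R hι] at this
      exact this
    · intro c _ hc
      rw [smul_def, MonoidAlgebra.coeff_mul_single_apply, _root_.mul_one]
      refine coeff_mdHom_of_notMem R _ _ ?_
      intro hmem
      apply hc
      have h1 : s c₀ * (s c)⁻¹ ∈ ι.range := by
        have : s c₀ * (s c)⁻¹ = (ι h)⁻¹ * (ι h * s c₀ * (s c)⁻¹) := by group
        rw [this]
        exact ι.range.mul_mem (ι.range.inv_mem ⟨h, rfl⟩) hmem
      rw [← hs c, ← hs c₀]
      rw [QuotientGroup.eq]
      have : (s c)⁻¹ * s c₀ = s c₀ * (s c)⁻¹ := mul_comm _ _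
      rw [this]
      exact h1
    · intro h'
      exact (h' hc₀).elim
  have hsp : ⊤ ≤ Submodule.span (MonoidAlgebra R H) (Set.range v) := by
    intro f _
    clear ‹f ∈ (⊤ : Submodule (MonoidAlgebra R H) (MonoidAlgebra R G))›
    induction f using MonoidAlgebra.induction_linear with
    | zero => exact Submodule.zero_mem _
    | add x y hx hy => exact Submodule.add_mem _ hx hy
    | single g r =>
      have hmem : g * (s (QuotientGroup.mk g))⁻¹ ∈ ι.range := by
        have := hs (QuotientGroup.mk g)
        rw [QuotientGroup.eq] at this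
        have e : g * (s (QuotientGroup.mk g))⁻¹ = (s (QuotientGroup.mk g))⁻¹ * g := mul_comm _ _
        rw [e]
        exact this
      obtain ⟨h, hh⟩ := hmem
      have : MonoidAlgebra.single g r =
          (MonoidAlgebra.single h r : MonoidAlgebra R H) • v (QuotientGroup.mk g) := by
        rw [smul_def, mdHom_single, MonoidAlgebra.single_mul_single, _root_.mul_one, hh,
          inv_mul_cancel_right]
      rw [this]
      exact Submodule.smul_mem _ _ (Submodule.subset_span ⟨_, rfl⟩)
  exact Module.Free.of_basis (Module.Basis.mk hli hsp)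

theorem flat_mdHom (hι : Function.Injective ι) : (mdHom R ι).Flat := by
  letI := (mdHom R ι).toAlgebra
  haveI := free_mdHom R hι
  change Module.Flat (MonoidAlgebra R H) (MonoidAlgebra R G)
  infer_instance

end free

end Groth.Agent.Lib.Helper9.Mag
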