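import Groth.Agent.Lib.Helper9.TopLim
set_option autoImplicit false
set_option linter.style.haveILetI false
set_option linter.unusedSectionVars false
universe u v w
open CategoryTheory CategoryTheory.Limits AlgebraicGeometry TopologicalSpace Opposite

namespace Groth.Agent.Lib.Helper9.MaxLim

/-- every point of a quasi-sober T0 space has a maximal generization -/
lemma exists_maximal_specializes {α : Type*} [TopologicalSpace α] [QuasiSober α] [T0Space α]
    (x : α) : ∃ m : α, (∀ z : α, z ⤳ m → z = m) ∧ m ⤳ x := by
  obtain ⟨m, hm⟩ := QuasiSober.sober (isIrreducible_irreducibleComponent (x := x))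
    isClosed_irreducibleComponent
  have hm' : closure {m} = irreducibleComponent x := hm
  refine ⟨m, ?_, ?_⟩
  · intro z hz
    have h1 : closure {m} ⊆ closure {z} := by
      apply closure_minimal _ isClosed_closure
      rw [Set.singleton_subset_iff]
      exact specializes_iff_mem_closure.1 hz
    have h2 : closure {z} ⊆ irreducibleComponent x :=
      (irreducibleComponent_mem_irreducibleComponents x).2 (isIrreducible_singleton.closure)
        (hm' ▸ h1)
    have h3 : closure {z} = closure {m} := le_antisymm (hm' ▸ h2) h1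
    have h4 : Inseparable z m := inseparable_iff_closure_eq.2 h3
    exact h4.eq
  · rw [specializes_iff_mem_closure, hm']
    exact mem_irreducibleComponent

section main

variable {I : Type u} [SmallCategory I] [IsCofiltered I] (D : I ⥤ Scheme.{u})
  (c : Cone D) (hc : IsLimit c) [∀ {i j : I} (f : i ⟶ j), IsAffineHom (D.map f)]

/-- a point is maximal -/
def IsMax {X : Scheme.{u}} (s : X) : Prop := ∀ z : X, z ⤳ s → z = s

include hc in
lemma isMax_of_forall (s : c.pt) (h : ∀ i, IsMax ((c.π.app i) s)) : IsMax s := by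
  intro z hz
  apply TopLim.injective_cmp D c hc
  apply Subtype.ext
  funext i
  change (c.π.app i) z = (c.π.app i) s
  exact h i _ (hz.map (c.π.app i).continuous)

include hc in
/-- specialization in the limit is detected stagewise -/
lemma specializes_of_forall (m s : c.pt) (h : ∀ i, (c.π.app i) m ⤳ (c.π.app i) s) : m ⤳ s := by
  rw [specializes_iff_forall_open]
  intro U hU hsU
  obtain ⟨_, ⟨i, V, hV, rfl⟩, hsV, hVU⟩ :=
    (Opens.isBasis_iff_nbhd.mp (isBasis_preimage_isAffineOpen D c hc))
      (show s ∈ (⟨U, hU⟩ : c.pt.Opens) from hsU)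
  apply hVU
  exact (h i).mem_open V.isOpen hsV

include hc in
theorem isMax_stage (hfin : ∀ i : I, {s : ↥(D.obj i) | IsMax s}.Finite)
    (hsys : ∀ (i j : I) (g : i ⟶ j) (s : ↥(D.obj i)), IsMax s → IsMax ((D.map g) s))
    (s : c.pt) (hs : IsMax s) (i : I) : IsMax ((c.π.app i) s) := by
  let D' : Over i ⥤ Scheme.{u} := Over.forget i ⋙ D
  have hD' : ∀ {j k : Over i} (f : j ⟶ k), IsAffineHom (D'.map f) := fun f =>
    inferInstanceAs (IsAffineHom (D.map f.left))
  let c' : Cone D' := c.whisker (Over.forget i)
  have hc' : IsLimit c' := (Functor.Initial.isLimitWhiskerEquiv (Over.forget i) c).symm hc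
  let p : ∀ j : Over i, c.pt ⟶ D.obj j.left := fun j => c.π.app j.left
  have hp : ∀ {j k : Over i} (f : j ⟶ k), p j ≫ D.map f.left = p k := fun f => c.w f.left
  let M : Over i ⥤ Type u :=
    { obj := fun j => {m : D.obj j.left // IsMax m ∧ m ⤳ (p j) s}
      map := fun {j k} f => TypeCat.ofHom (fun m => ⟨(D.map f.left) m.1, hsys _ _ _ _ m.2.1, by
        have h1 := m.2.2.map (D.map f.left).continuous
        have h2 : (D.map f.left) ((p j) s) = (p k) s := by
          rw [← Scheme.Hom.comp_apply, hp]
        rw [← h2]; exact h1⟩)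
      map_id := fun j => by
        ext m
        change (D.map (𝟙 j : j ⟶ j).left) m.1 = m.1
        simp
      map_comp := fun {j k l} f g => by
        ext m
        change (D.map (f ≫ g).left) m.1 = (D.map g.left) ((D.map f.left) m.1)
        simp }
  have hMfin : ∀ j, Finite (M.obj j) := fun j =>
    ((hfin j.left).subset (fun m (hm : IsMax m ∧ m ⤳ (p j) s) => hm.1)).to_subtype
  have hMne : ∀ j, Nonempty (M.obj j) := fun j => by
    obtain ⟨m, hm1, hm2⟩ := exists_maximal_specializes ((p j) s)
    exact ⟨⟨m, hm1, hm2⟩⟩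
  obtain ⟨u, hu⟩ := nonempty_sections_of_finite_cofiltered_system M
  have hu' : ∀ {j k : Over i} (f : j ⟶ k), (D.map f.left) (u j).1 = (u k).1 := fun f =>
    congrArg Subtype.val (hu f)
  let pt : (TopCat.limitCone (D' ⋙ Scheme.forgetToTop)).pt :=
    ⟨fun j => (u j).1, fun {j k} f => hu' f⟩
  obtain ⟨m, hm⟩ := TopLim.surjective_cmp D' c' hc' pt
  have hm' : ∀ j : Over i, (p j) m = (u j).1 := fun j =>
    congrArg (fun v => v.val j) hm
  have hms : m ⤳ s := by
    apply specializes_of_forall D' c' hc'
    intro j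
    change (p j) m ⤳ (p j) s
    rw [hm']
    exact (u j).2.2
  have hmeq : m = s := hs m hms
  have h1 := hm' (Over.mk (𝟙 i))
  rw [hmeq] at h1
  change IsMax ((p (Over.mk (𝟙 i))) s)
  rw [h1]
  exact (u (Over.mk (𝟙 i))).2.1

end main

end Groth.Agent.Lib.Helper9.MaxLim
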