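import Groth.Agent.Lib.Helper9.MaxLim
set_option autoImplicit false
set_option linter.style.haveILetI false
set_option linter.unusedSectionVars false
universe u v w
open CategoryTheory CategoryTheory.Limits AlgebraicGeometry TopologicalSpace Opposite

namespace Groth.Agent.Lib.Helper9.MaxLim

lemma dense_of_forall_isMax_mem {X : Scheme.{u}} (V : X.Opens) (h : ∀ m : X, IsMax m → m ∈ V) :
    Dense (V : Set X) := by
  rw [dense_iff_inter_open]
  rintro U hU ⟨x, hx⟩
  obtain ⟨m, hm1, hm2⟩ := exists_maximal_specializes x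
  exact ⟨m, hm2.mem_open hU hx, h m hm1⟩

lemma isMax_mem_of_dense {X : Scheme.{u}} (hfin : {s : X | IsMax s}.Finite) (V : X.Opens)
    (hV : Dense (V : Set X)) (m : X) (hm : IsMax m) : m ∈ V := by
  classical
  -- the union of the closures of the other maximal points
  let Z : Set X := ⋃ m' ∈ {s : X | IsMax s ∧ s ≠ m}, closure {m'}
  have hZ : IsClosed Z := by
    apply Set.Finite.isClosed_biUnion (hfin.subset fun s hs => hs.1)
    intro m' _
    exact isClosed_closure
  have hmZ : m ∉ Z := by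
    simp only [Z, Set.mem_iUnion, not_exists]
    rintro m' ⟨hm'1, hm'2⟩ hmem
    exact hm'2 (hm m' (specializes_iff_mem_closure.2 hmem))
  obtain ⟨y, hy1, hy2⟩ := (dense_iff_inter_open.1 hV) Zᶜ hZ.isOpen_compl ⟨m, hmZ⟩
  obtain ⟨m', hm'1, hm'2⟩ := exists_maximal_specializes y
  have : m' = m := by
    by_contra hne
    apply hy1
    simp only [Z, Set.mem_iUnion]
    exact ⟨m', ⟨hm'1, hne⟩, specializes_iff_mem_closure.1 hm'2⟩
  subst this
  exact hm'2.mem_open V.isOpen hy2

section main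

variable {I : Type u} [SmallCategory I] [IsCofiltered I] (D : I ⥤ Scheme.{u})
  (c : Cone D) (hc : IsLimit c) [∀ {i j : I} (f : i ⟶ j), IsAffineHom (D.map f)]
  (hfin : ∀ i : I, {s : ↥(D.obj i) | IsMax s}.Finite)
  (hsys : ∀ (i j : I) (g : i ⟶ j) (s : ↥(D.obj i)), IsMax s → IsMax ((D.map g) s))

include hfin hsys in
omit [IsCofiltered I] [∀ {i j : I} (f : i ⟶ j), IsAffineHom (D.map f)] in
theorem dense_stage (i₀ : I) (V₀ : (D.obj i₀).Opens) (hV : Dense (V₀ : Set ↥(D.obj i₀)))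
    (i : I) (g : i ⟶ i₀) : Dense (((D.map g) ⁻¹ᵁ V₀ : (D.obj i).Opens) : Set ↥(D.obj i)) := by
  apply dense_of_forall_isMax_mem
  intro m hm
  exact isMax_mem_of_dense (hfin i₀) V₀ hV _ (hsys _ _ g m hm)

include hc hfin hsys in
theorem dense_limit (i₀ : I) (V₀ : (D.obj i₀).Opens) (hV : Dense (V₀ : Set ↥(D.obj i₀))) :
    Dense (((c.π.app i₀) ⁻¹ᵁ V₀ : c.pt.Opens) : Set ↥c.pt) := by
  apply dense_of_forall_isMax_mem
  intro m hm
  exact isMax_mem_of_dense (hfin i₀) V₀ hV _ (isMax_stage D c hc hfin hsys m hm i₀)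

include hc hfin hsys in
theorem exists_dense_stage (i₀ : I) (V₀ : (D.obj i₀).Opens)
    (hV : Dense (((c.π.app i₀) ⁻¹ᵁ V₀ : c.pt.Opens) : Set ↥c.pt))
    (hcfin : {s : ↥c.pt | IsMax s}.Finite) :
    ∃ (i : I) (g : i ⟶ i₀), Dense (((D.map g) ⁻¹ᵁ V₀ : (D.obj i).Opens) : Set ↥(D.obj i)) := by
  by_contra hcon
  push Not at hcon
  let D' : Over i₀ ⥤ Scheme.{u} := Over.forget i₀ ⋙ D
  have hD' : ∀ {j k : Over i₀} (f : j ⟶ k), IsAffineHom (D'.map f) := fun f =>
    inferInstanceAs (IsAffineHom (D.map f.left))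
  let c' : Cone D' := c.whisker (Over.forget i₀)
  have hc' : IsLimit c' := (Functor.Initial.isLimitWhiskerEquiv (Over.forget i₀) c).symm hc
  let p : ∀ j : Over i₀, c.pt ⟶ D.obj j.left := fun j => c.π.app j.left
  let B : Over i₀ ⥤ Type u :=
    { obj := fun j => {m : D.obj j.left // IsMax m ∧ (D.map j.hom) m ∉ V₀}
      map := fun {j k} f => TypeCat.ofHom (fun m => ⟨(D.map f.left) m.1, hsys _ _ _ _ m.2.1, by
        have h2 : (D.map k.hom) ((D.map f.left) m.1) = (D.map j.hom) m.1 := by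
          rw [← Scheme.Hom.comp_apply, ← D.map_comp, Over.w f]
        rw [h2]; exact m.2.2⟩)
      map_id := fun j => by
        ext m
        change (D.map (𝟙 j : j ⟶ j).left) m.1 = m.1
        simp
      map_comp := fun {j k l} f g => by
        ext m
        change (D.map (f ≫ g).left) m.1 = (D.map g.left) ((D.map f.left) m.1)
        simp }
  have hBfin : ∀ j, Finite (B.obj j) := fun j =>
    ((hfin j.left).subset (fun m (hm : IsMax m ∧ (D.map j.hom) m ∉ V₀) => hm.1)).to_subtype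
  have hBne : ∀ j, Nonempty (B.obj j) := fun j => by
    by_contra hne
    rw [not_nonempty_iff] at hne
    apply hcon j.left j.hom
    apply dense_of_forall_isMax_mem
    intro m hm
    by_contra hmem
    exact hne.elim ⟨m, hm, hmem⟩
  obtain ⟨u, hu⟩ := nonempty_sections_of_finite_cofiltered_system B
  have hu' : ∀ {j k : Over i₀} (f : j ⟶ k), (D.map f.left) (u j).1 = (u k).1 := fun f =>
    congrArg Subtype.val (hu f)
  let pt : (TopCat.limitCone (D' ⋙ Scheme.forgetToTop)).pt :=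
    ⟨fun j => (u j).1, fun {j k} f => hu' f⟩
  obtain ⟨b, hb⟩ := TopLim.surjective_cmp D' c' hc' pt
  have hb' : ∀ j : Over i₀, (p j) b = (u j).1 := fun j =>
    congrArg (fun v => v.val j) hb
  have hbmax : IsMax b := by
    apply isMax_of_forall D' c' hc'
    intro j
    change IsMax ((p j) b)
    rw [hb']
    exact (u j).2.1
  have hbV : b ∈ (c.π.app i₀) ⁻¹ᵁ V₀ := isMax_mem_of_dense hcfin _ hV b hbmax
  have h1 := hb' (Over.mk (𝟙 i₀))
  have h2 := (u (Over.mk (𝟙 i₀))).2.2
  apply h2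
  rw [← h1]
  change (D.map (𝟙 i₀)) ((c.π.app i₀) b) ∈ V₀
  rw [D.map_id]
  exact hbV

end main

end Groth.Agent.Lib.Helper9.MaxLim
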