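import Mathlib
import Groth.Prelude.Def_FEt
import Groth.Agent.Lib.Helper9.MilnorSq6

set_option autoImplicit false
set_option linter.style.haveILetI false
set_option linter.unusedSectionVars false
universe u v w
open CategoryTheory CategoryTheory.Limits AlgebraicGeometry TopologicalSpace Opposite Topology

namespace Groth.Agent.Lib.Helper9.MilnorSq

open Groth.Agent.Lib.Helper9.PushLoc Groth.Agent.Lib.Helper9.RingPB Groth.Agent.Lib.Helper9.OILoc
open Groth.Agent.Lib.Helper9.JointSurj Groth.Agent.Lib.Helper9.Ferrand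

theorem s1186 {Z X Y W : Scheme.{u}} (i : Z ⟶ X) [IsClosedImmersion i] (j : Z ⟶ Y)
    [IsIntegralHom j]
    (h3 : ∀ y : Y, ∃ U : X.Opens, IsAffineOpen U ∧ ∀ z : Z, j.base z = y → i.base z ∈ U)
    (a : X ⟶ W) (b : Y ⟶ W) (hpo : IsPushout i j a b)
    (U : FEt.Cat X) (V : FEt.Cat Y) (e : (FEt.restrict i).obj U ≅ (FEt.restrict j).obj V) :
    ∃ T : FEt.Cat W, Nonempty ((FEt.restrict a).obj T ≅ U) ∧
      Nonempty ((FEt.restrict b).obj T ≅ V) := by
  haveI : IsFinite U.hom := U.prop.1
  haveI : Etale U.hom := U.prop.2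
  haveI : IsFinite V.hom := V.prop.1
  haveI : Etale V.hom := V.prop.2
  have haff : ∀ y : Y, ∃ U₀ : X.Opens, IsAffineOpen U₀ ∧ j ⁻¹' {y} ⊆ i ⁻¹' (U₀ : Set X) := by
    intro y
    obtain ⟨U₀, hU₀, h⟩ := h3 y
    exact ⟨U₀, hU₀, fun z hz => h z hz⟩
  have hcov := hcov_of_haff i j haff
  haveI : IsIntegralHom a := isIntegralHom_of_isPushout i j hcov hpo
  haveI : IsClosedImmersion b := isClosedImmersion_of_isPushout i j hcov hpo
  let i' : pullback U.hom i ⟶ U.left := pullback.fst U.hom i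
  let c : pullback U.hom i ⟶ Z := pullback.snd U.hom i
  let φ : pullback U.hom i ⟶ pullback V.hom j := e.hom.left
  have hφ : φ ≫ pullback.snd V.hom j = c := MorphismProperty.Over.w e.hom
  haveI : IsIso φ := ⟨⟨e.inv.left, by
    have := congrArg (fun t => t.left) e.hom_inv_id
    exact this, by
    have := congrArg (fun t => t.left) e.inv_hom_id
    exact this⟩⟩
  let j' : pullback U.hom i ⟶ V.left := φ ≫ pullback.fst V.hom j
  have hX : IsPullback i' c U.hom i := IsPullback.of_hasPullback U.hom i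
  have hY : IsPullback j' c V.hom j := by
    refine IsPullback.of_iso (IsPullback.of_hasPullback V.hom j) (asIso φ).symm (Iso.refl _)
      (Iso.refl _) (Iso.refl _) ?_ ?_ ?_ ?_
    · simp [j']
    · simp [← hφ]
    · simp
    · simp
  haveI : IsClosedImmersion i' :=
    MorphismProperty.pullback_fst (P := @IsClosedImmersion) _ _ inferInstance
  haveI : IsIntegralHom (pullback.fst V.hom j) :=
    MorphismProperty.pullback_fst (P := @IsIntegralHom) _ _ inferInstance
  haveI : IsIntegralHom j' := by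
    change IsIntegralHom (φ ≫ pullback.fst V.hom j)
    infer_instance
  have haff' : ∀ v : V.left, ∃ U₁ : U.left.Opens, IsAffineOpen U₁ ∧
      j' ⁻¹' {v} ⊆ i' ⁻¹' (U₁ : Set U.left) := by
    intro v
    obtain ⟨U₀, hU₀, h⟩ := h3 (V.hom v)
    refine ⟨U.hom ⁻¹ᵁ U₀, hU₀.preimage U.hom, fun z' hz' => ?_⟩
    have h1 : j (c z') = V.hom v := by
      rw [← Scheme.Hom.comp_apply, ← hY.w, Scheme.Hom.comp_apply]
      exact congrArg _ hz'
    have h2 := h (c z') h1
    change U.hom (i' z') ∈ U₀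
    rw [← Scheme.Hom.comp_apply, hX.w, Scheme.Hom.comp_apply]
    exact h2
  have hcov' := hcov_of_haff i' j' haff'
  have hP' := Ferrand.isPushout i' j' hcov'
  have w' : i' ≫ U.hom ≫ a = j' ≫ V.hom ≫ b := by
    rw [← Category.assoc, hX.w, Category.assoc, hpo.w, ← Category.assoc, ← hY.w, Category.assoc]
  let hT : Po i' j' ⟶ W := hP'.desc (U.hom ≫ a) (V.hom ≫ b) w'
  have ha : mapA i' j' hcov' ≫ hT = U.hom ≫ a := hP'.inl_desc _ _ _
  have hb : mapB i' j' hcov' ≫ hT = V.hom ≫ b := hP'.inr_desc _ _ _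
  haveI := isAffineHom_mapA i' j' hcov'
  haveI := isAffineHom_mapB i' j' hcov'
  have hfin : IsFinite hT := isFinite_desc i j a b i' j' hcov' U.hom V.hom c hT hpo hX hY ha hb
  have het : Etale hT := etale_desc i j a b i' j' hcov' U.hom V.hom c hT hpo hX hY ha hb
  have hL := isPullback_left i j a b i' j' (mapA i' j' hcov') (mapB i' j' hcov') U.hom V.hom c hT
    hpo hP' hX hY ha hb
  have hR := isPullback_right i j a b i' j' (mapA i' j' hcov') (mapB i' j' hcov') U.hom V.hom c hT
    hpo hP' hX hY ha hb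
  let T : FEt.Cat W := MorphismProperty.Over.mk ⊤ hT ⟨hfin, het⟩
  refine ⟨T, ⟨?_⟩, ⟨?_⟩⟩
  · exact MorphismProperty.Over.isoMk hL.isoPullback.symm (by
      change hL.isoPullback.inv ≫ U.hom = pullback.snd hT a
      rw [Iso.inv_comp_eq]
      exact (hL.isoPullback_hom_snd).symm)
  · exact MorphismProperty.Over.isoMk hR.isoPullback.symm (by
      change hR.isoPullback.inv ≫ V.hom = pullback.snd hT b
      rw [Iso.inv_comp_eq]
      exact (hR.isoPullback_hom_snd).symm)

end Groth.Agent.Lib.Helper9.MilnorSq
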