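import Mathlib
import Groth.Prelude.Def_W4c6modpairsegaMP
import Groth.Agent.Lib.Helper9.MProd4

set_option autoImplicit false
universe u
open CategoryTheory CategoryTheory.Limits AlgebraicGeometry TopologicalSpace

namespace Groth.Agent.Lib.Helper9.MinComp

open Groth.Agent.Lib.Helper29.EffCart Groth.Agent.Lib.Helper9.AdmCoprod
  Groth.Agent.Lib.Helper9.MProd Groth.Agent.Lib.Helper9.ColonE

section Alg
variable {R : Type*} [CommRing R]

lemma isUnit_of_span_eq (a b c : R) (ha : a ∈ nonZeroDivisors R) (h : a = c * b)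
    (hspan : Ideal.span {a} = Ideal.span {b}) : IsUnit c := by
  have hb : b ∈ Ideal.span {a} := hspan ▸ Ideal.mem_span_singleton_self b
  obtain ⟨m, hm⟩ := Ideal.mem_span_singleton'.1 hb
  have h1 : (c * m - 1) * a = 0 := by
    rw [sub_mul, one_mul, mul_assoc, hm, ← h, sub_self]
  have h2 := sub_eq_zero.1 ((mem_nonZeroDivisors_iff_right.1 ha) _ h1)
  exact IsUnit.of_mul_eq_one m h2

lemma nzd_of_span_eq (t a : R) (ht : t ∈ nonZeroDivisors R)
    (h : Ideal.span {a} = Ideal.span {t}) : a ∈ nonZeroDivisors R := by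
  have h1 : t ∈ Ideal.span {a} := h ▸ Ideal.mem_span_singleton_self t
  obtain ⟨b, hb⟩ := Ideal.mem_span_singleton'.1 h1
  rw [mem_nonZeroDivisors_iff_right] at ht ⊢
  intro r hr
  apply ht
  rw [← hb, mul_comm b a, ← mul_assoc, hr, zero_mul]

lemma span_eq_of_isUnit_mul (b c : R) (hc : IsUnit c) :
    Ideal.span {c * b} = Ideal.span {b} := by
  obtain ⟨u, rfl⟩ := hc
  apply le_antisymm
  · rw [Ideal.span_singleton_le_iff_mem, Ideal.mem_span_singleton']
    exact ⟨u, rfl⟩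
  · rw [Ideal.span_singleton_le_iff_mem, Ideal.mem_span_singleton']
    exact ⟨↑u⁻¹, by rw [← mul_assoc, Units.inv_mul, one_mul]⟩

end Alg

variable {Y : Scheme.{u}}

/-- Common affine neighbourhood where an effective Cartier ideal `J` and a locally principal
ideal `K' ≥ J` are principal, with the quotient section. -/
lemma exists_common (J K' : Y.IdealSheafData) (hJ : BlowUp.IsEffCartierIdeal J)
    (hK : IsLocPrincipal K') (hle : J ≤ K') (y : Y) :
    ∃ W : Y.affineOpens, y ∈ W.1 ∧ ∃ k' c : Γ(Y, W.1), c * k' ∈ nonZeroDivisors Γ(Y, W.1) ∧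
      J.ideal W = Ideal.span {c * k'} ∧ K'.ideal W = Ideal.span {k'} := by
  obtain ⟨W₁, hxW₁, t₁, ht₁, hI₁⟩ := hJ y
  obtain ⟨W₂, hxW₂, t₂, hI₂⟩ := hK y
  obtain ⟨f, g, hfg, hxf⟩ := exists_basicOpen_le_affine_inter W₁.2 W₂.2 y ⟨hxW₁, hxW₂⟩
  obtain ⟨t₁', ht₁', hI₁'⟩ := principal_nzd_basicOpen J W₁ t₁ ht₁ hI₁ f
  have p₂ : ∃ t₂' : Γ(Y, (Y.affineBasicOpen g).1),
      K'.ideal (Y.affineBasicOpen g) = Ideal.span {t₂'} := by
    refine ⟨(Y.presheaf.map (homOfLE (Y.basicOpen_le g)).op).hom t₂, ?_⟩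
    rw [← K'.map_ideal_basicOpen W₂ g, hI₂, Ideal.map_span, Set.image_singleton]
    rfl
  have heq : Y.affineBasicOpen f = Y.affineBasicOpen g := Subtype.ext hfg
  rw [← heq] at p₂
  obtain ⟨t₂', hI₂'⟩ := p₂
  have : t₁' ∈ Ideal.span {t₂'} :=
    hI₂' ▸ hle _ (hI₁' ▸ Ideal.mem_span_singleton_self t₁')
  obtain ⟨c, rfl⟩ := Ideal.mem_span_singleton'.1 this
  exact ⟨Y.affineBasicOpen f, hxf, t₂', c, ht₁', hI₁', hI₂'⟩


/-- The locus where `J = K'`. -/
def eqLocus (J K' : Y.IdealSheafData) : Y.Opens :=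
  ⨆ W : {W : Y.affineOpens // J.ideal W = K'.ideal W}, W.1.1

lemma basicOpen_le_eqLocus (J K' : Y.IdealSheafData) (W : Y.affineOpens) (k' c : Γ(Y, W.1))
    (hJ : J.ideal W = Ideal.span {c * k'}) (hK : K'.ideal W = Ideal.span {k'}) :
    Y.basicOpen c ≤ eqLocus J K' := by
  refine le_iSup_of_le ⟨Y.affineBasicOpen c, ?_⟩ le_rfl
  rw [← J.map_ideal_basicOpen W c, ← K'.map_ideal_basicOpen W c, hJ, hK, Ideal.map_span,
    Ideal.map_span, Set.image_singleton, Set.image_singleton, map_mul]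
  exact span_eq_of_isUnit_mul _ _ (RingedSpace.isUnit_res_basicOpen _ c)

lemma eqLocus_inf_le (J K' : Y.IdealSheafData) (W₀ : Y.affineOpens) (k' c : Γ(Y, W₀.1))
    (hnzd : c * k' ∈ nonZeroDivisors Γ(Y, W₀.1))
    (hJ : J.ideal W₀ = Ideal.span {c * k'}) (hK : K'.ideal W₀ = Ideal.span {k'}) :
    eqLocus J K' ⊓ W₀.1 ≤ Y.basicOpen c := by
  rintro y ⟨hyU, hyW₀⟩
  obtain ⟨⟨W, hW⟩, hyW⟩ := Opens.mem_iSup.1 hyU
  obtain ⟨p, q, hpq, hyp⟩ := exists_basicOpen_le_affine_inter W₀.2 W.2 y ⟨hyW₀, hyW⟩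
  have hB : J.ideal (Y.affineBasicOpen p) = K'.ideal (Y.affineBasicOpen p) := by
    have h1 : J.ideal (Y.affineBasicOpen q) = K'.ideal (Y.affineBasicOpen q) := by
      rw [← J.map_ideal_basicOpen W q, ← K'.map_ideal_basicOpen W q, hW]
    have heq : Y.affineBasicOpen p = Y.affineBasicOpen q := Subtype.ext hpq
    rw [heq]; exact h1
  rw [← J.map_ideal_basicOpen W₀ p, ← K'.map_ideal_basicOpen W₀ p, hJ, hK, Ideal.map_span,
    Ideal.map_span, Set.image_singleton, Set.image_singleton] at hB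
  have inst := W₀.2.isLocalization_basicOpen p
  have hmap : (Y.presheaf.map (homOfLE (Y.basicOpen_le p)).op).hom = algebraMap _ _ := rfl
  have hn : (Y.presheaf.map (homOfLE (Y.basicOpen_le p)).op).hom (c * k') ∈
      nonZeroDivisors Γ(Y, Y.basicOpen p) := by
    rw [hmap]
    exact IsLocalization.map_nonZeroDivisors_le (Submonoid.powers p) _ ⟨_, hnzd, rfl⟩
  have hu : IsUnit ((Y.presheaf.map (homOfLE (Y.basicOpen_le p)).op).hom c) :=
    isUnit_of_span_eq _ _ _ hn (map_mul _ _ _) hB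
  have h1 : Y.basicOpen ((Y.presheaf.map (homOfLE (Y.basicOpen_le p)).op).hom c) =
      Y.basicOpen p := Y.basicOpen_of_isUnit hu
  have h2 := Y.basicOpen_res c (homOfLE (Y.basicOpen_le p)).op
  have h3 : y ∈ Y.basicOpen ((Y.presheaf.map (homOfLE (Y.basicOpen_le p)).op).hom c) := by
    rw [h1]; exact hyp
  rw [h2] at h3
  exact h3.2

lemma eqLocus_inf_eq (J K' : Y.IdealSheafData) (W₀ : Y.affineOpens) (k' c : Γ(Y, W₀.1))
    (hnzd : c * k' ∈ nonZeroDivisors Γ(Y, W₀.1))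
    (hJ : J.ideal W₀ = Ideal.span {c * k'}) (hK : K'.ideal W₀ = Ideal.span {k'}) :
    eqLocus J K' ⊓ W₀.1 = Y.basicOpen c :=
  le_antisymm (eqLocus_inf_le J K' W₀ k' c hnzd hJ hK)
    (le_inf (basicOpen_le_eqLocus J K' W₀ k' c hJ hK) (Y.basicOpen_le c))

lemma quasiCompact_eqLocus_ι (J K' : Y.IdealSheafData) (hJ : BlowUp.IsEffCartierIdeal J)
    (hK : IsLocPrincipal K') (hle : J ≤ K') : QuasiCompact (eqLocus J K').ι := by
  choose W hyW k' c hnzd hJW hKW using exists_common J K' hJ hK hle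
  have hcov : ⨆ y, ((W y : Y.affineOpens) : Y.Opens) = ⊤ := by
    rw [eq_top_iff]
    intro y _
    exact Opens.mem_iSup.2 ⟨y, hyW y⟩
  rw [HasAffineProperty.iff_of_iSup_eq_top (P := @QuasiCompact) W hcov]
  intro y
  change CompactSpace ↥((eqLocus J K').ι ⁻¹ᵁ (W y).1)
  refine (isCompact_iff_compactSpace (s := (((eqLocus J K').ι ⁻¹ᵁ (W y).1 :
    (eqLocus J K').toScheme.Opens) : Set (eqLocus J K').toScheme))).1 ?_
  rw [(eqLocus J K').ι.isEmbedding.isCompact_iff]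
  have : (eqLocus J K').ι '' (((eqLocus J K').ι ⁻¹ᵁ (W y).1 : (eqLocus J K').toScheme.Opens) :
      Set (eqLocus J K').toScheme) = (Y.basicOpen (c y) : Set Y) := by
    rw [← eqLocus_inf_eq J K' (W y) (k' y) (c y) (hnzd y) (hJW y) (hKW y)]
    ext z
    constructor
    · rintro ⟨u, hu, rfl⟩
      exact ⟨u.2, hu⟩
    · rintro ⟨h1, h2⟩
      exact ⟨⟨z, h1⟩, h2, rfl⟩
  rw [this]
  exact ((W y).2.basicOpen (c y)).isCompact


lemma range_subset_eqLocus {X : Scheme.{u}} (I : X.IdealSheafData)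
    (hI : BlowUp.IsEffCartierIdeal I) (J K' : Y.IdealSheafData)
    (hJ : BlowUp.IsEffCartierIdeal J) (hK : IsLocPrincipal K') (hle : J ≤ K') (f : X ⟶ Y)
    (h1 : I = J.comap f) (h2 : I = K'.comap f) :
    Set.range f ⊆ (eqLocus J K' : Set Y) := by
  rintro _ ⟨x, rfl⟩
  obtain ⟨W₀, hyW₀, k', c, hnzd, hJW, hKW⟩ := exists_common J K' hJ hK hle (f x)
  apply basicOpen_le_eqLocus J K' W₀ k' c hJW hKW
  obtain ⟨V, hxV, hVle, t, ht, hIV⟩ :=
    exists_affine_principal_nzd_le I hI x (f ⁻¹ᵁ W₀.1) hyW₀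
  have e1 : Ideal.span {(f.appLE W₀.1 V.1 hVle).hom (c * k')} = Ideal.span {t} := by
    rw [← hIV]
    conv_rhs => rw [h1]
    rw [ideal_comap_eq_map J f W₀ V hVle, hJW, Ideal.map_span, Set.image_singleton]
  have e2 : Ideal.span {(f.appLE W₀.1 V.1 hVle).hom k'} = Ideal.span {t} := by
    rw [← hIV]
    conv_rhs => rw [h2]
    rw [ideal_comap_eq_map K' f W₀ V hVle, hKW, Ideal.map_span, Set.image_singleton]
  have hn : (f.appLE W₀.1 V.1 hVle).hom (c * k') ∈ nonZeroDivisors Γ(X, V.1) :=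
    nzd_of_span_eq t _ ht e1
  have hu : IsUnit ((f.appLE W₀.1 V.1 hVle).hom c) :=
    isUnit_of_span_eq _ _ _ hn (map_mul _ _ _) (e1.trans e2.symm)
  have h3 : X.basicOpen ((f.appLE W₀.1 V.1 hVle).hom c) = V.1 := X.basicOpen_of_isUnit hu
  have h4 := Scheme.basicOpen_appLE f V.1 W₀.1 hVle c
  have h5 : x ∈ X.basicOpen ((f.appLE W₀.1 V.1 hVle).hom c) := by rw [h3]; exact hxV
  rw [h4] at h5
  exact h5.2

lemma comap_eqLocus_ι (J K' : Y.IdealSheafData) :
    J.comap (eqLocus J K').ι = K'.comap (eqLocus J K').ι := by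
  refine Scheme.IdealSheafData.ext_of_iSup_eq_top
    (ι := Σ W : {W : Y.affineOpens // J.ideal W = K'.ideal W},
      {W' : (eqLocus J K').toScheme.affineOpens // W'.1 ≤ (eqLocus J K').ι ⁻¹ᵁ W.1.1})
    (fun p => p.2.1) ?_ ?_
  · rw [eq_top_iff]
    intro u _
    obtain ⟨W, huW⟩ := Opens.mem_iSup.1 u.2
    obtain ⟨_, ⟨W', hW', rfl⟩, huW', hle⟩ :=
      (eqLocus J K').toScheme.isBasis_affineOpens.exists_subset_of_mem_open
        (show u ∈ (((eqLocus J K').ι ⁻¹ᵁ W.1.1 : (eqLocus J K').toScheme.Opens) : Set _)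
          from huW) ((eqLocus J K').ι ⁻¹ᵁ W.1.1).isOpen
    exact Opens.mem_iSup.2 ⟨⟨W, ⟨⟨W', hW'⟩, hle⟩⟩, huW'⟩
  · rintro ⟨W, W', hle⟩
    rw [ideal_comap_eq_map J (eqLocus J K').ι W.1 W' hle,
      ideal_comap_eq_map K' (eqLocus J K').ι W.1 W' hle, W.2]

theorem main {X Y Z : Scheme.{u}}
    (I : X.IdealSheafData) (J : Y.IdealSheafData) (K : Z.IdealSheafData)
    (hI : BlowUp.IsEffCartierIdeal I) (hJ : BlowUp.IsEffCartierIdeal J)
    (hK : BlowUp.IsEffCartierIdeal K) (f : X ⟶ Y) (g : Y ⟶ Z)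
    (hf : ModPair.IsAmbient I J f) (hg : ModPair.IsAmbient J K g)
    (hfg : ModPair.IsMinimal I K (f ≫ g)) :
    ModPair.IsMinimal I J f ∧
      ∃ U : Y.Opens, QuasiCompact U.ι ∧ Set.range f.base ⊆ (U : Set Y) ∧
        ModPair.IsMinimal (J.comap U.ι) K (U.ι ≫ g) := by
  have hfg' : I = K.comap (f ≫ g) := hfg
  have h2 : I = (K.comap g).comap f := by rw [← Scheme.IdealSheafData.comap_comp]; exact hfg'
  have h1 : I = J.comap f :=
    le_antisymm hf (by rw [h2]; exact Scheme.IdealSheafData.comap_mono f hg)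
  refine ⟨h1, eqLocus J (K.comap g),
    quasiCompact_eqLocus_ι J _ hJ (isLocPrincipal_comap K hK g) hg,
    range_subset_eqLocus I hI J _ hJ (isLocPrincipal_comap K hK g) hg f h1 h2, ?_⟩
  change J.comap _ = K.comap (_ ≫ g)
  rw [Scheme.IdealSheafData.comap_comp]
  exact comap_eqLocus_ι J (K.comap g)

end Groth.Agent.Lib.Helper9.MinComp
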