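import Groth.Agent.S9697
import Mathlib.AlgebraicGeometry.Fiber

namespace Groth.Agent.Lib.Helper9.MonoFib

open CategoryTheory CategoryTheory.Limits AlgebraicGeometry

universe u

set_option backward.isDefEq.respectTransparency.types false in
theorem mono_of_unramified_of_surjective_diagonal {X Y : Scheme.{u}} (f : X ⟶ Y)
    [LocallyOfFiniteType f] [FormallyUnramified f] [Surjective (pullback.diagonal f)] : Mono f := by
  rw [← pullback.isIso_diagonal_iff]
  have : IsOpenImmersion (pullback.diagonal f) := inferInstance
  exact (isIso_iff_isOpenImmersion_and_surjective _).mpr ⟨inferInstance, inferInstance⟩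

set_option backward.isDefEq.respectTransparency.types false in
theorem mono_of_forall_mono_fiber {X Y : Scheme.{u}} (f : X ⟶ Y) [LocallyOfFiniteType f]
    (h : ∀ y : Y, Mono (f.fiberToSpecResidueField y)) : Mono f := by
  -- unramified
  haveI : FormallyUnramified f := by
    have key : ∀ x : X, ∃ U : X.Opens, x ∈ U ∧ FormallyUnramified (U.ι ≫ f) := by
      intro x
      have h1 := (Groth.Agent.S9697.result f (Y.fromSpecResidueField (f x)) (f.asFiber x)).mp ?_
      · obtain ⟨U, hxU, hU⟩ := h1
        refine ⟨U, ?_, hU⟩
        have h2 : (pullback.fst f (Y.fromSpecResidueField (f x))).base (f.asFiber x) = x :=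
          f.fiberι_asFiber x
        rw [← h2]
        exact hxU
      · refine ⟨⊤, trivial, ?_⟩
        haveI : Mono (pullback.snd f (Y.fromSpecResidueField (f x))) := h (f x)
        haveI : IsIso (pullback.diagonal (pullback.snd f (Y.fromSpecResidueField (f x)))) :=
          (pullback.isIso_diagonal_iff _).mpr inferInstance
        haveI : FormallyUnramified (pullback.snd f (Y.fromSpecResidueField (f x))) := inferInstance
        infer_instance
    choose U hxU hU using key
    refine IsZariskiLocalAtSource.of_iSup_eq_top (P := @FormallyUnramified) U ?_ hU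
    rw [eq_top_iff]
    intro x _
    rw [TopologicalSpace.Opens.mem_iSup]
    exact ⟨x, hxU x⟩
  -- universally injective
  haveI : Surjective (pullback.diagonal f) := by
    have h2 : ∀ (K : Type u) [Field K], Function.Injective (fun g : Spec (.of K) ⟶ X ↦ g ≫ f) := by
      intro K _ g₁ g₂ hg
      dsimp only at hg
      let e := Scheme.SpecToEquivOfField K Y
      let y : Y := (e (g₁ ≫ f)).1
      let φ : Y.residueField y ⟶ .of K := (e (g₁ ≫ f)).2
      have h1 : Spec.map φ ≫ Y.fromSpecResidueField y = g₁ ≫ f := e.symm_apply_apply (g₁ ≫ f)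
      let g₁' : Spec (.of K) ⟶ f.fiber y := pullback.lift g₁ (Spec.map φ) h1.symm
      let g₂' : Spec (.of K) ⟶ f.fiber y := pullback.lift g₂ (Spec.map φ) (by rw [h1, hg])
      haveI := h y
      have h3 : g₁' = g₂' := by
        rw [← cancel_mono (f.fiberToSpecResidueField y)]
        have e1 : g₁' ≫ f.fiberToSpecResidueField y = Spec.map φ := pullback.lift_snd _ _ _
        have e2 : g₂' ≫ f.fiberToSpecResidueField y = Spec.map φ := pullback.lift_snd _ _ _
        rw [e1, e2]
      have h4 : g₁' ≫ pullback.fst _ _ = g₁ := pullback.lift_fst _ _ _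
      have h5 : g₂' ≫ pullback.fst _ _ = g₂ := pullback.lift_fst _ _ _
      rw [← h4, ← h5, h3]
    exact ((tfae_universallyInjective f).out 1 3).mp h2
  exact mono_of_unramified_of_surjective_diagonal f

end Groth.Agent.Lib.Helper9.MonoFib
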