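import Groth.Prelude.Def_W4c1hilbpnTgt
import Mathlib.RingTheory.Noetherian.Basic
import Mathlib.RingTheory.Finiteness.Basic
import Mathlib.RingTheory.Noetherian.Orzech
import Mathlib.RingTheory.Artinian.Ring

set_option autoImplicit false
universe u v
open W4c1hilbpn MvPolynomial

namespace Groth.Agent.Lib.Helper9

variable {σ : Type v} {k : Type u} [Field k]

/-- For a monomial ideal of finite colength only finitely many monomials lie outside it. -/
theorem finite_compl_exps (I : Ideal (MvPolynomial σ k)) (hI : IsMonomial I)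
    [Module.Finite k (MvPolynomial σ k ⧸ I)] : (exps I)ᶜ.Finite := by
  classical
  let v : ((exps I)ᶜ : Set (σ →₀ ℕ)) → MvPolynomial σ k ⧸ I := fun β =>
    Ideal.Quotient.mk I (monomial (β : σ →₀ ℕ) (1 : k))
  have hli : LinearIndependent k v := by
    rw [linearIndependent_iff']
    intro s g hsum β hβ
    by_contra hne
    set p : MvPolynomial σ k := ∑ β' ∈ s, monomial (β' : σ →₀ ℕ) (g β') with hp
    have hpI : p ∈ I := by
      rw [← Ideal.Quotient.eq_zero_iff_mem, hp, map_sum, ← hsum]
      refine Finset.sum_congr rfl fun β' _ => ?_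
      show _ = g β' • Ideal.Quotient.mk I (monomial (β' : σ →₀ ℕ) (1 : k))
      have h1 : monomial (β' : σ →₀ ℕ) (g β') = g β' • monomial (β' : σ →₀ ℕ) (1 : k) := by
        rw [smul_monomial, smul_eq_mul, mul_one]
      rw [h1]
      rfl
    have hcoeff : coeff (β : σ →₀ ℕ) p = g β := by
      rw [hp, coeff_sum]
      simp only [coeff_monomial]
      rw [Finset.sum_eq_single β]
      · simp
      · intro β' _ hne'
        rw [if_neg]
        intro h
        exact hne' (Subtype.ext h)
      · intro h
        exact absurd hβ h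
    have hsupp : (β : σ →₀ ℕ) ∈ p.support := by
      rw [mem_support_iff, hcoeff]
      exact hne
    exact β.2 (hI p hpI _ hsupp)
  have : IsNoetherian k (MvPolynomial σ k ⧸ I) := isNoetherian_of_isNoetherianRing_of_finite k _
  have : Finite ((exps I)ᶜ : Set (σ →₀ ℕ)) := hli.finite_of_isNoetherian
  exact Set.toFinite _

end Groth.Agent.Lib.Helper9
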