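import Groth.Prelude.Def_W4c5qllcourbesmultMultCrv
import Mathlib.RingTheory.AdjoinRoot
import Mathlib.LinearAlgebra.FreeModule.PID
import Mathlib.Algebra.Module.Projective

/-!
# `R[X]/(X^n)` as a Frobenius algebra over `R`: extension of linear forms
-/

set_option autoImplicit false
universe u v

namespace Groth.Agent.Lib.Helper9.MultCrvLib

open Polynomial MultCrv

variable (R : Type u) [CommRing R] (n : ℕ)

/-- The coefficient of `z^(n-1)`. -/
noncomputable def tau (hn : 1 ≤ n) : Rn R n →ₗ[R] R :=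
  (((Ideal.span {(X : R[X]) ^ n}).restrictScalars R).liftQ (Polynomial.lcoeff R (n - 1)) (by
    intro p hp
    have hp' : p ∈ Ideal.span {(X : R[X]) ^ n} := hp
    rw [Ideal.mem_span_singleton] at hp'
    obtain ⟨q, rfl⟩ := hp'
    rw [LinearMap.mem_ker, Polynomial.lcoeff_apply, Polynomial.coeff_X_pow_mul']
    rw [if_neg (by omega)])) ∘ₗ
    (Submodule.Quotient.restrictScalarsEquiv R (Ideal.span {(X : R[X]) ^ n})).symm.toLinearMap

theorem tau_mk (hn : 1 ≤ n) (p : R[X]) :
    tau R n hn (Ideal.Quotient.mk (Ideal.span {(X : R[X]) ^ n}) p) = p.coeff (n - 1) := by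
  rfl

theorem z_pow_n : z R n ^ n = 0 := by
  rw [← map_pow]
  exact Ideal.Quotient.eq_zero_iff_mem.mpr (Ideal.mem_span_singleton_self _)

theorem mk_eq_sum (p : R[X]) :
    Ideal.Quotient.mk (Ideal.span {(X : R[X]) ^ n}) p =
      ∑ j ∈ Finset.range n, algebraMap R (Rn R n) (p.coeff j) * z R n ^ j := by
  have h1 : ∀ j, algebraMap R (Rn R n) (p.coeff j) * z R n ^ j =
      Ideal.Quotient.mk (Ideal.span {(X : R[X]) ^ n}) (C (p.coeff j) * X ^ j) := by
    intro j
    rw [map_mul, map_pow]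
    rfl
  simp_rw [h1]
  rw [← map_sum, ← sub_eq_zero, ← map_sub, Ideal.Quotient.eq_zero_iff_mem,
    Ideal.mem_span_singleton, Polynomial.X_pow_dvd_iff]
  intro d hd
  rw [Polynomial.coeff_sub, Polynomial.finset_sum_coeff]
  simp only [Polynomial.coeff_C_mul_X_pow]
  rw [Finset.sum_ite_eq (Finset.range n) d]
  simp [hd]

theorem eq_sum_tau (hn : 1 ≤ n) (a : Rn R n) :
    a = ∑ j ∈ Finset.range n,
      algebraMap R (Rn R n) (tau R n hn (z R n ^ (n - 1 - j) * a)) * z R n ^ j := by
  obtain ⟨p, rfl⟩ := Ideal.Quotient.mk_surjective a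
  conv_lhs => rw [mk_eq_sum]
  apply Finset.sum_congr rfl
  intro j hj
  have hj' : j < n := Finset.mem_range.mp hj
  have h2 : z R n ^ (n - 1 - j) * Ideal.Quotient.mk (Ideal.span {(X : R[X]) ^ n}) p =
      Ideal.Quotient.mk (Ideal.span {(X : R[X]) ^ n}) (X ^ (n - 1 - j) * p) := by
    rw [map_mul, map_pow]
  rw [h2, tau_mk, Polynomial.coeff_X_pow_mul', if_pos (by omega)]
  congr 3
  omega

theorem adjoin_z : Algebra.adjoin R ({z R n} : Set (Rn R n)) = ⊤ :=
  AdjoinRoot.adjoinRoot_eq_top (f := (X : R[X]) ^ n)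

section psi
variable {R}
variable {M : Type v} [AddCommGroup M] [Module (Rn R n) M] [Module R M]
  [IsScalarTower R (Rn R n) M]

/-- The `A`-linear form attached to an `R`-linear form (as a function). -/
noncomputable def psiFun (l : M →ₗ[R] R) (m : M) : Rn R n :=
  ∑ j ∈ Finset.range n, algebraMap R (Rn R n) (l (z R n ^ (n - 1 - j) • m)) * z R n ^ j

theorem psiFun_add (l : M →ₗ[R] R) (m m' : M) :
    psiFun n l (m + m') = psiFun n l m + psiFun n l m' := by
  unfold psiFun
  rw [← Finset.sum_add_distrib]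
  apply Finset.sum_congr rfl
  intro j _
  rw [smul_add, map_add, map_add, add_mul]

theorem psiFun_smulR (l : M →ₗ[R] R) (r : R) (m : M) :
    psiFun n l (r • m) = algebraMap R (Rn R n) r * psiFun n l m := by
  unfold psiFun
  rw [Finset.mul_sum]
  apply Finset.sum_congr rfl
  intro j _
  rw [smul_comm, map_smul, smul_eq_mul, map_mul, mul_assoc]

theorem psiFun_z (hn : 1 ≤ n) (l : M →ₗ[R] R) (m : M) :
    psiFun n l (z R n • m) = z R n * psiFun n l m := by
  obtain ⟨k, rfl⟩ : ∃ k, n = k + 1 := ⟨n - 1, by omega⟩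
  unfold psiFun
  rw [Finset.mul_sum, Finset.sum_range_succ', Finset.sum_range_succ]
  have h0 : z R (k + 1) ^ (k + 1 - 1 - 0) • z R (k + 1) • m = 0 := by
    rw [smul_smul, ← pow_succ]
    have : k + 1 - 1 - 0 + 1 = k + 1 := by omega
    rw [this, z_pow_n]
    exact zero_smul (Rn R (k + 1)) m
  have h1 : z R (k + 1) * (algebraMap R (Rn R (k + 1)) (l (z R (k + 1) ^ (k + 1 - 1 - k) • m)) *
      z R (k + 1) ^ k) = 0 := by
    rw [mul_left_comm, ← pow_succ', z_pow_n, mul_zero]
  rw [h0, h1, map_zero, map_zero, zero_mul, add_zero, add_zero]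
  apply Finset.sum_congr rfl
  intro j hj
  have hj' : j < k := Finset.mem_range.mp hj
  rw [smul_smul, ← pow_succ, pow_succ' (z R (k + 1)) j, mul_left_comm]
  have e : k + 1 - 1 - (j + 1) + 1 = k + 1 - 1 - j := by omega
  rw [e]

/-- The `A`-linear form attached to an `R`-linear form. -/
noncomputable def psi (hn : 1 ≤ n) (l : M →ₗ[R] R) : M →ₗ[Rn R n] Rn R n where
  toFun := psiFun n l
  map_add' := psiFun_add n l
  map_smul' := by
    intro a m
    have hS : a ∈ (⊤ : Subalgebra R (Rn R n)) := Algebra.mem_top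
    rw [← adjoin_z R n] at hS
    simp only [RingHom.id_apply, smul_eq_mul]
    induction hS using Algebra.adjoin_induction generalizing m with
    | mem x hx =>
      rw [Set.mem_singleton_iff] at hx
      subst hx
      exact psiFun_z n hn l m
    | algebraMap r =>
      rw [algebraMap_smul]
      exact psiFun_smulR n l r m
    | add x y _ _ hx hy =>
      rw [add_smul, psiFun_add, hx, hy, add_mul]
    | mul x y _ _ hx hy =>
      rw [mul_smul, hx, hy, mul_assoc]

theorem psi_apply (hn : 1 ≤ n) (l : M →ₗ[R] R) (m : M) :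
    psi n hn l m = ∑ j ∈ Finset.range n,
      algebraMap R (Rn R n) (l (z R n ^ (n - 1 - j) • m)) * z R n ^ j := rfl

end psi

end Groth.Agent.Lib.Helper9.MultCrvLib
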