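import Groth.Agent.Lib.Helper9.MultCrv1

/-!
# Extension of `A`-linear forms along maps with `R`-torsion-free cokernel, `A = R[X]/(X^n)`
-/

set_option autoImplicit false
universe u v

namespace Groth.Agent.Lib.Helper9.MultCrvLib

open Polynomial MultCrv

variable (R : Type u) [CommRing R] (n : ℕ)

instance finite_Rn : Module.Finite R (Rn R n) :=
  (AdjoinRoot.powerBasis' (monic_X_pow (R := R) n)).finite

instance free_Rn : Module.Free R (Rn R n) :=
  Module.Free.of_basis (AdjoinRoot.powerBasis' (monic_X_pow (R := R) n)).basis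

variable {R n}

theorem exists_extension [IsDomain R] [IsPrincipalIdealRing R] (hn : 1 ≤ n)
    {M' M M'' : Type v} [AddCommGroup M'] [Module (Rn R n) M']
    [AddCommGroup M] [Module (Rn R n) M] [Module R M] [IsScalarTower R (Rn R n) M]
    [AddCommGroup M''] [Module (Rn R n) M''] [Module R M''] [IsScalarTower R (Rn R n) M'']
    [Module.Finite (Rn R n) M''] [Module.IsTorsionFree R M'']
    (f : M' →ₗ[Rn R n] M) (g : M →ₗ[Rn R n] M'') (hf : Function.Injective f)
    (hg : Function.Surjective g) (hfg : LinearMap.range f = LinearMap.ker g)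
    (φ : M' →ₗ[Rn R n] Rn R n) : ∃ ψ : M →ₗ[Rn R n] Rn R n, ψ ∘ₗ f = φ := by
  letI : Module R M' := Module.compHom M' (algebraMap R (Rn R n))
  haveI : IsScalarTower R (Rn R n) M' := ⟨fun r a m => by
    have h1 : r • a = algebraMap R (Rn R n) r * a := Algebra.smul_def r a
    rw [h1, mul_smul]
    rfl⟩
  haveI : Module.Finite R M'' := Module.Finite.trans (Rn R n) M''
  haveI : Module.Free R M'' := Module.free_of_finite_type_torsion_free'
  obtain ⟨s, hs⟩ := Module.projective_lifting_property (g.restrictScalars R)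
    (LinearMap.id : M'' →ₗ[R] M'') hg
  have hs' : ∀ x, g (s x) = x := fun x => LinearMap.congr_fun hs x
  let fR : M' →ₗ[R] M := f.restrictScalars R
  let e : M →ₗ[R] M := LinearMap.id - s ∘ₗ (g.restrictScalars R)
  have he : ∀ m, e m ∈ LinearMap.range fR := by
    intro m
    have h1 : e m ∈ LinearMap.ker g := by
      rw [LinearMap.mem_ker]
      change g (m - s (g m)) = 0
      rw [map_sub, hs', sub_self]
    rw [← hfg] at h1
    obtain ⟨m', hm'⟩ := h1
    exact ⟨m', hm'⟩
  let ρ : M →ₗ[R] M' :=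
    (LinearEquiv.ofInjective fR hf).symm.toLinearMap ∘ₗ e.codRestrict (LinearMap.range fR) he
  have hρ : ∀ m', ρ (f m') = m' := by
    intro m'
    change (LinearEquiv.ofInjective fR hf).symm ⟨e (f m'), he (f m')⟩ = m'
    rw [LinearEquiv.symm_apply_eq]
    apply Subtype.ext
    change f m' - s (g (f m')) = f m'
    have : g (f m') = 0 := by
      rw [← LinearMap.mem_ker, ← hfg]
      exact ⟨m', rfl⟩
    rw [this, map_zero, sub_zero]
  let l : M →ₗ[R] R := tau R n hn ∘ₗ (φ.restrictScalars R) ∘ₗ ρ
  refine ⟨psi n hn l, ?_⟩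
  ext m'
  rw [LinearMap.comp_apply, psi_apply]
  conv_rhs => rw [eq_sum_tau R n hn (φ m')]
  apply Finset.sum_congr rfl
  intro j _
  congr 2
  change tau R n hn (φ (ρ (z R n ^ (n - 1 - j) • f m'))) = _
  rw [← map_smul, hρ, map_smul, smul_eq_mul]

end Groth.Agent.Lib.Helper9.MultCrvLib
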