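import Groth.Agent.Lib.Helper9.MultCrv2
import Mathlib.Algebra.Category.ModuleCat.Ext.HasExt
import Mathlib.Algebra.Homology.DerivedCategory.Ext.ExactSequences
import Mathlib.Algebra.Homology.DerivedCategory.Ext.EnoughProjectives
import Mathlib.Algebra.Homology.ShortComplex.ModuleCat
import Mathlib.Algebra.Category.ModuleCat.Projective

/-!
# Vanishing of `Ext^i_A(M, A)` for `A = R[X]/(X^n)`
-/

set_option autoImplicit false
universe u

namespace Groth.Agent.Lib.Helper9.MultCrvLib

open CategoryTheory MultCrv Abelian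

variable {R : Type u} [CommRing R] [IsDomain R] [IsPrincipalIdealRing R] {n : ℕ}

/-- Dimension shifting: every class in `Ext^{i+1}(M, Y)` comes from `Ext^i(ker π, Y)` for a
presentation `π : A^m → M`. -/
theorem exists_of_presentation {M : Type u} [AddCommGroup M] [Module (Rn R n) M] {m : ℕ}
    (π : (Fin m → Rn R n) →ₗ[Rn R n] M) (hπ : Function.Surjective π)
    (Y : ModuleCat.{u} (Rn R n)) (i : ℕ) (x : Ext (ModuleCat.of (Rn R n) M) Y (i + 1)) :
    ∃ x₁ : Ext (ModuleCat.of (Rn R n) (LinearMap.ker π)) Y i,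
      (LinearMap.shortExact_shortComplexKer hπ).extClass.comp x₁ (add_comm 1 i) = x := by
  haveI : Projective (ModuleCat.of (Rn R n) (Fin m → Rn R n)) :=
    (IsProjective.iff_projective (Fin m → Rn R n)).mp inferInstance
  exact Ext.contravariant_sequence_exact₃ (LinearMap.shortExact_shortComplexKer hπ) Y x
    (Ext.eq_zero_of_projective _) (add_comm 1 i)

theorem ext_succ_subsingleton (hn : 1 ≤ n) (i : ℕ) :
    ∀ (M : Type u) [AddCommGroup M] [Module (Rn R n) M] [Module R M]
      [IsScalarTower R (Rn R n) M] [Module.Finite (Rn R n) M] [Module.IsTorsionFree R M],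
      Subsingleton (Ext (ModuleCat.of (Rn R n) M) (ModuleCat.of (Rn R n) (Rn R n)) (i + 1)) := by
  induction i with
  | zero =>
    intro M _ _ _ _ _ _
    obtain ⟨m, π, hπ⟩ := Module.Finite.exists_fin' (Rn R n) M
    refine subsingleton_of_forall_eq 0 (fun x => ?_)
    obtain ⟨x₁, rfl⟩ := exists_of_presentation π hπ _ 0 x
    obtain ⟨φ, rfl⟩ := (Ext.mk₀_bijective _ _).2 x₁
    obtain ⟨ψ, hψ⟩ := exists_extension hn (LinearMap.ker π).subtype π
      (LinearMap.ker π).injective_subtype hπ (by rw [Submodule.range_subtype]) φ.hom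
    have h1 : Ext.mk₀ φ = (Ext.mk₀ (π.shortComplexKer).f).comp (Ext.mk₀ (ModuleCat.ofHom ψ))
        (zero_add 0) := by
      rw [Ext.mk₀_comp_mk₀]
      congr 1
      ext1
      exact hψ.symm
    rw [h1]
    exact (LinearMap.shortExact_shortComplexKer hπ).extClass_comp_assoc _
  | succ i ih =>
    intro M _ _ _ _ _ _
    obtain ⟨m, π, hπ⟩ := Module.Finite.exists_fin' (Rn R n) M
    refine subsingleton_of_forall_eq 0 (fun x => ?_)
    obtain ⟨x₁, rfl⟩ := exists_of_presentation π hπ _ (i + 1) x
    haveI : Module.IsTorsionFree R (LinearMap.ker π) :=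
      Function.Injective.moduleIsTorsionFree (LinearMap.ker π).subtype
        (LinearMap.ker π).injective_subtype (fun _ _ => rfl)
    haveI := ih (LinearMap.ker π)
    rw [Subsingleton.elim x₁ 0, Ext.comp_zero]

theorem ext_succ_succ_subsingleton (hn : 1 ≤ n) (i : ℕ)
    (M : Type u) [AddCommGroup M] [Module (Rn R n) M] [Module.Finite (Rn R n) M] :
    Subsingleton (Ext (ModuleCat.of (Rn R n) M) (ModuleCat.of (Rn R n) (Rn R n)) (i + 1 + 1)) := by
  obtain ⟨m, π, hπ⟩ := Module.Finite.exists_fin' (Rn R n) M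
  refine subsingleton_of_forall_eq 0 (fun x => ?_)
  obtain ⟨x₁, rfl⟩ := exists_of_presentation π hπ _ (i + 1) x
  haveI : Module.IsTorsionFree R (LinearMap.ker π) :=
    Function.Injective.moduleIsTorsionFree (LinearMap.ker π).subtype
      (LinearMap.ker π).injective_subtype (fun _ _ => rfl)
  haveI := ext_succ_subsingleton (R := R) hn i (LinearMap.ker π)
  rw [Subsingleton.elim x₁ 0, Ext.comp_zero]

end Groth.Agent.Lib.Helper9.MultCrvLib
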