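import Groth.Agent.Lib.Helper9.MultCrv3

/-!
# `Ext^1_A(M, A) = 0` forces `M` to be `R`-torsion-free, `A = R[X]/(X^n)`
-/

set_option autoImplicit false
universe u v

namespace Groth.Agent.Lib.Helper9.MultCrvLib

open CategoryTheory MultCrv Abelian Polynomial

section tau
variable {R : Type u} [CommRing R] {n : ℕ}

theorem tau_z_pow (hn : 1 ≤ n) (j : ℕ) :
    tau R n hn (z R n ^ j) = if j = n - 1 then 1 else 0 := by
  rw [← map_pow, tau_mk, Polynomial.coeff_X_pow]
  by_cases h : j = n - 1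
  · rw [if_pos h, if_pos h.symm]
  · rw [if_neg h, if_neg (fun h' => h h'.symm)]

theorem tau_psi (hn : 1 ≤ n) {M : Type v} [AddCommGroup M] [Module (Rn R n) M] [Module R M]
    [IsScalarTower R (Rn R n) M] (l : M →ₗ[R] R) (m : M) :
    tau R n hn (psi n hn l m) = l m := by
  rw [psi_apply, map_sum]
  have h1 : ∀ j ∈ Finset.range n,
      tau R n hn (algebraMap R (Rn R n) (l (z R n ^ (n - 1 - j) • m)) * z R n ^ j) =
        if j = n - 1 then l (z R n ^ (n - 1 - j) • m) else 0 := by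
    intro j _
    rw [← Algebra.smul_def, map_smul, tau_z_pow, smul_eq_mul, mul_ite, mul_one, mul_zero]
  rw [Finset.sum_congr rfl h1, Finset.sum_ite_eq' (Finset.range n) (n - 1),
    if_pos (Finset.mem_range.mpr (by omega)), Nat.sub_self, pow_zero, one_smul]

end tau

variable {R : Type u} [CommRing R] [IsDomain R] [IsPrincipalIdealRing R] {n : ℕ}

theorem isTorsionFree_of_ext_one (hn : 1 ≤ n) (M : Type u) [AddCommGroup M] [Module (Rn R n) M]
    [Module R M] [IsScalarTower R (Rn R n) M] [Module.Finite (Rn R n) M]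
    (h : Subsingleton (Ext (ModuleCat.of (Rn R n) M) (ModuleCat.of (Rn R n) (Rn R n)) 1)) :
    Module.IsTorsionFree R M := by
  obtain ⟨m, π, hπ⟩ := Module.Finite.exists_fin' (Rn R n) M
  haveI : Module.IsTorsionFree R (LinearMap.ker π) :=
    Function.Injective.moduleIsTorsionFree (LinearMap.ker π).subtype
      (LinearMap.ker π).injective_subtype (fun _ _ => rfl)
  haveI : Module.Finite R (LinearMap.ker π) := Module.Finite.trans (Rn R n) _
  -- every `A`-linear form on the kernel extends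
  have hext : ∀ φ : LinearMap.ker π →ₗ[Rn R n] Rn R n,
      ∃ Φ : (Fin m → Rn R n) →ₗ[Rn R n] Rn R n, Φ ∘ₗ (LinearMap.ker π).subtype = φ := by
    intro φ
    have hS := LinearMap.shortExact_shortComplexKer hπ
    obtain ⟨x₂, hx₂⟩ := Ext.contravariant_sequence_exact₁ hS (ModuleCat.of (Rn R n) (Rn R n))
      (Ext.mk₀ (ModuleCat.ofHom φ)) (add_comm 1 0 ▸ rfl : 1 + 0 = 1) (Subsingleton.elim _ _)
    obtain ⟨Φ, rfl⟩ := (Ext.mk₀_bijective _ _).2 x₂
    rw [Ext.mk₀_comp_mk₀] at hx₂
    have := (Ext.mk₀_bijective _ _).1 hx₂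
    refine ⟨Φ.hom, ?_⟩
    have h2 := congrArg ModuleCat.Hom.hom this
    exact h2
  obtain ⟨d, b⟩ := Module.basisOfFiniteTypeTorsionFree' (R := R) (M := LinearMap.ker π)
  choose Φ hΦ using fun i => hext (psi n hn (b.coord i))
  constructor
  intro r hr m₁ m₂ hm
  rw [← sub_eq_zero]
  obtain ⟨f, hf⟩ := hπ (m₁ - m₂)
  have hrf : r • f ∈ LinearMap.ker π := by
    rw [LinearMap.mem_ker, LinearMap.map_smul_of_tower, hf, smul_sub]
    exact sub_eq_zero.mpr hm
  have hcoord : ∀ i, b.coord i ⟨r • f, hrf⟩ = r * tau R n hn (Φ i f) := by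
    intro i
    rw [← tau_psi hn (b.coord i) ⟨r • f, hrf⟩, ← hΦ i, LinearMap.comp_apply]
    change tau R n hn (Φ i (r • f)) = _
    rw [LinearMap.map_smul_of_tower, map_smul, smul_eq_mul]
  have hk : (⟨r • f, hrf⟩ : LinearMap.ker π) = r • ∑ i, tau R n hn (Φ i f) • b i := by
    rw [← b.sum_repr ⟨r • f, hrf⟩, Finset.smul_sum]
    apply Finset.sum_congr rfl
    intro i _
    have : b.repr ⟨r • f, hrf⟩ i = b.coord i ⟨r • f, hrf⟩ := rfl
    rw [this, hcoord, mul_smul]
  have hk' : r • f = r • ((∑ i, tau R n hn (Φ i f) • b i : LinearMap.ker π) : Fin m → Rn R n) := by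
    have := congrArg (Subtype.val) hk
    exact this
  have hreg : IsSMulRegular (Fin m → Rn R n) r := Module.IsTorsionFree.isSMulRegular hr
  have hfk : f = ((∑ i, tau R n hn (Φ i f) • b i : LinearMap.ker π) : Fin m → Rn R n) := hreg hk'
  rw [← hf, hfk]
  exact (∑ i, tau R n hn (Φ i f) • b i : LinearMap.ker π).2

end Groth.Agent.Lib.Helper9.MultCrvLib
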