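import Groth.Agent.Lib.Helper9.MultCrv4

/-!
# A free submodule of a torsion-free module over `A = R[X]/(X^n)` with cokernel killed by `z^(n-1)`
-/

set_option autoImplicit false
universe u v

namespace Groth.Agent.Lib.Helper9.MultCrvLib

open MultCrv Polynomial

section coeff
variable {R : Type u} [CommRing R] {n : ℕ}

/-- An element acts on `z`-torsion through its constant coefficient. -/
theorem smul_eq_of_z_smul_eq_zero (hn : 1 ≤ n) {M : Type v} [AddCommGroup M]
    [Module (Rn R n) M] [Module R M] [IsScalarTower R (Rn R n) M] (a : Rn R n) (c : M)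
    (hc : z R n • c = 0) : a • c = tau R n hn (z R n ^ (n - 1) * a) • c := by
  obtain ⟨k, rfl⟩ : ∃ k, n = k + 1 := ⟨n - 1, by omega⟩
  conv_lhs => rw [eq_sum_tau R (k + 1) hn a]
  rw [Finset.sum_smul, Finset.sum_range_succ']
  have h0 : ∀ j ∈ Finset.range k,
      (algebraMap R (Rn R (k + 1)) (tau R (k + 1) hn (z R (k + 1) ^ (k + 1 - 1 - (j + 1)) * a)) *
        z R (k + 1) ^ (j + 1)) • c = 0 := by
    intro j _
    rw [pow_succ (z R (k + 1)) j, ← mul_assoc, mul_smul, hc, smul_zero]
  rw [Finset.sum_eq_zero h0, zero_add, pow_zero, mul_one, algebraMap_smul]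
  rfl

theorem exists_eq_z_mul (hn : 1 ≤ n) (a : Rn R n) (ha : tau R n hn (z R n ^ (n - 1) * a) = 0) :
    ∃ a' : Rn R n, a = z R n * a' := by
  obtain ⟨k, rfl⟩ : ∃ k, n = k + 1 := ⟨n - 1, by omega⟩
  refine ⟨∑ j ∈ Finset.range k, algebraMap R (Rn R (k + 1))
    (tau R (k + 1) hn (z R (k + 1) ^ (k + 1 - 1 - (j + 1)) * a)) * z R (k + 1) ^ j, ?_⟩
  conv_lhs => rw [eq_sum_tau R (k + 1) hn a]
  rw [Finset.sum_range_succ', Finset.mul_sum]
  have : k + 1 - 1 - 0 = k + 1 - 1 := by omega
  rw [this, ha, map_zero, zero_mul, add_zero]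
  apply Finset.sum_congr rfl
  intro j _
  rw [pow_succ' (z R (k + 1)) j]
  ring

end coeff

variable {R : Type u} [CommRing R] [IsDomain R] [IsPrincipalIdealRing R] {n : ℕ}

/-- For a finitely generated `R`-torsion-free `A`-module `M` there is an injective map from a free
module whose cokernel is killed by `z^(n-1)`. -/
theorem exists_free_sub (hn : 1 ≤ n) (M : Type u) [AddCommGroup M] [Module (Rn R n) M]
    [Module R M] [IsScalarTower R (Rn R n) M] [Module.Finite (Rn R n) M]
    [Module.IsTorsionFree R M] :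
    ∃ (d : ℕ) (ι : (Fin d → Rn R n) →ₗ[Rn R n] M), Function.Injective ι ∧
      ∀ m : M, ∃ l : Fin d → Rn R n, z R n ^ (n - 1) • (m - ι l) = 0 := by
  let μ : M →ₗ[Rn R n] M := (z R n ^ (n - 1)) • LinearMap.id
  have hμ : ∀ m, μ m = z R n ^ (n - 1) • m := fun m => rfl
  haveI : Module.IsTorsionFree R (LinearMap.range μ) :=
    Function.Injective.moduleIsTorsionFree (LinearMap.range μ).subtype
      (LinearMap.range μ).injective_subtype (fun _ _ => rfl)
  haveI : Module.Finite R M := Module.Finite.trans (Rn R n) M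
  haveI : Module.Finite (Rn R n) (LinearMap.range μ) := inferInstance
  haveI : Module.Finite R (LinearMap.range μ) := Module.Finite.trans (Rn R n) _
  obtain ⟨d, b⟩ := Module.basisOfFiniteTypeTorsionFree' (R := R) (M := LinearMap.range μ)
  have hb : ∀ i, ∃ m : M, μ m = (b i : M) := fun i => (b i).2
  choose m₀ hm₀ using hb
  have hzb : ∀ i, z R n • (b i : M) = 0 := by
    intro i
    rw [← hm₀ i, hμ, smul_smul, ← pow_succ']
    have : n - 1 + 1 = n := by omega
    rw [this, z_pow_n]
    exact zero_smul (Rn R n) (m₀ i)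
  have hli : LinearIndependent R (fun i => (b i : M)) :=
    b.linearIndependent.map' ((LinearMap.range μ).subtype.restrictScalars R)
      (LinearMap.ker_eq_bot.mpr (LinearMap.range μ).injective_subtype)
  let ι : (Fin d → Rn R n) →ₗ[Rn R n] M := Fintype.linearCombination (Rn R n) m₀
  have hι : ∀ a, ι a = ∑ i, a i • m₀ i := fun a => rfl
  have hμι : ∀ a : Fin d → Rn R n, μ (ι a) = ∑ i, tau R n hn (z R n ^ (n - 1) * a i) • (b i : M) := by
    intro a
    rw [hι, map_sum]
    apply Finset.sum_congr rfl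
    intro i _
    rw [map_smul, hm₀, smul_eq_of_z_smul_eq_zero hn (a i) _ (hzb i)]
  refine ⟨d, ι, ?_, ?_⟩
  · -- injectivity
    have key : ∀ k, k ≤ n → ∀ a : Fin d → Rn R n, ι a = 0 →
        ∃ a' : Fin d → Rn R n, a = z R n ^ k • a' := by
      intro k
      induction k with
      | zero => exact fun _ a _ => ⟨a, by rw [pow_zero, one_smul]⟩
      | succ k ih =>
        intro hk a ha
        obtain ⟨a', rfl⟩ := ih (by omega) a ha
        have h1 : μ (ι a') = 0 := by
          rw [hμ]
          have : n - 1 = (n - 1 - k) + k := by omega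
          rw [this, pow_add, mul_smul, ← map_smul, ha, smul_zero]
        rw [hμι] at h1
        have h2 := Fintype.linearIndependent_iff.mp hli _ h1
        choose a'' ha'' using fun i => exists_eq_z_mul hn (a' i) (h2 i)
        refine ⟨a'', ?_⟩
        funext i
        change z R n ^ k * a' i = z R n ^ (k + 1) * a'' i
        rw [ha'' i, pow_succ (z R n) k, mul_assoc]
    rw [injective_iff_map_eq_zero]
    intro a ha
    obtain ⟨a', rfl⟩ := key n le_rfl a ha
    rw [z_pow_n]
    exact zero_smul (Rn R n) a'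
  · intro m
    have hmem : μ m ∈ LinearMap.range μ := ⟨m, rfl⟩
    refine ⟨fun i => algebraMap R (Rn R n) (b.repr ⟨μ m, hmem⟩ i), ?_⟩
    rw [smul_sub, sub_eq_zero, ← hμ, ← hμ, hι, map_sum]
    have h3 : (⟨μ m, hmem⟩ : LinearMap.range μ) = ∑ i, b.repr ⟨μ m, hmem⟩ i • b i :=
      (b.sum_repr _).symm
    have h4 : μ m = ∑ i, b.repr ⟨μ m, hmem⟩ i • (b i : M) := by
      calc μ m = ((∑ i, b.repr ⟨μ m, hmem⟩ i • b i : LinearMap.range μ) : M) :=
            congrArg Subtype.val h3
        _ = _ := by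
            rw [AddSubmonoidClass.coe_finset_sum]
            rfl
    conv_lhs => rw [h4]
    apply Finset.sum_congr rfl
    intro i _
    rw [algebraMap_smul, LinearMap.map_smul_of_tower, hm₀]

end Groth.Agent.Lib.Helper9.MultCrvLib
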