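import Groth.Agent.Lib.Helper9.MultCrv5
import Mathlib.Algebra.Homology.DerivedCategory.Ext.Linear

/-!
# `z^(n-1)` kills `Ext^i_A(M, N)` for torsion-free `M`, `A = R[X]/(X^n)`
-/

set_option autoImplicit false
set_option linter.style.haveILetI false
universe u

namespace Groth.Agent.Lib.Helper9.MultCrvLib

open CategoryTheory MultCrv Abelian

section general
variable {A : Type u} [CommRing A]

theorem smul_ext_eq_zero_of_smul_id {X Y : ModuleCat.{u} A} (r : A) (hr : r • 𝟙 X = 0) {i : ℕ}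
    (y : Ext X Y i) : r • y = 0 := by
  have h : r • y = (Ext.mk₀ (r • 𝟙 X)).comp y (zero_add i) := by
    rw [Ext.mk₀_smul, Ext.smul_comp, Ext.mk₀_id_comp]
  rw [h, hr, Ext.mk₀_zero, Ext.zero_comp]

end general

variable {R : Type u} [CommRing R] [IsDomain R] [IsPrincipalIdealRing R] {n : ℕ}

theorem zpow_smul_ext_one_eq_zero (hn : 1 ≤ n) (M : Type u) [AddCommGroup M] [Module (Rn R n) M]
    [Module R M] [IsScalarTower R (Rn R n) M] [Module.Finite (Rn R n) M]
    [Module.IsTorsionFree R M] (N : ModuleCat.{u} (Rn R n))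
    (x : Ext (ModuleCat.of (Rn R n) M) N 1) : (z R n ^ (n - 1)) • x = 0 := by
  obtain ⟨d, ι, hι, hQ⟩ := exists_free_sub (R := R) hn M
  let S : ShortComplex (ModuleCat.{u} (Rn R n)) :=
    ShortComplex.mk (ModuleCat.ofHom ι) (ModuleCat.ofHom (LinearMap.range ι).mkQ) (by
      apply ModuleCat.hom_ext
      apply LinearMap.ext
      intro a
      change (LinearMap.range ι).mkQ (ι a) = 0
      rw [Submodule.mkQ_apply, Submodule.Quotient.mk_eq_zero]
      exact ⟨a, rfl⟩)
  have hS : S.ShortExact := ModuleCat.shortComplex_shortExact S (by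
      intro m
      change (LinearMap.range ι).mkQ m = 0 ↔ m ∈ Set.range ι
      rw [Submodule.mkQ_apply, Submodule.Quotient.mk_eq_zero]
      rfl) hι (Submodule.mkQ_surjective _)
  haveI : Projective S.X₁ := (IsProjective.iff_projective (Fin d → Rn R n)).mp inferInstance
  obtain ⟨y, rfl⟩ := Ext.contravariant_sequence_exact₂ hS N x (Ext.eq_zero_of_projective _)
  rw [← Ext.comp_smul, smul_ext_eq_zero_of_smul_id (z R n ^ (n - 1)) ?_ y, Ext.comp_zero]
  apply ModuleCat.hom_ext
  apply LinearMap.ext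
  intro q
  obtain ⟨m, rfl⟩ := Submodule.mkQ_surjective _ q
  obtain ⟨l, hl⟩ := hQ m
  change z R n ^ (n - 1) • (LinearMap.range ι).mkQ m = 0
  rw [← map_smul, Submodule.mkQ_apply, Submodule.Quotient.mk_eq_zero]
  refine ⟨z R n ^ (n - 1) • l, ?_⟩
  rw [map_smul]
  rw [smul_sub, sub_eq_zero] at hl
  exact hl.symm

theorem zpow_smul_ext_succ_eq_zero (hn : 1 ≤ n) (i : ℕ) :
    ∀ (M : Type u) [AddCommGroup M] [Module (Rn R n) M]
      [Module R M] [IsScalarTower R (Rn R n) M] [Module.Finite (Rn R n) M]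
      [Module.IsTorsionFree R M] (N : ModuleCat.{u} (Rn R n))
      (x : Ext (ModuleCat.of (Rn R n) M) N (i + 1)), (z R n ^ (n - 1)) • x = 0 := by
  induction i with
  | zero =>
    intro M _ _ _ _ _ _ N x
    exact zpow_smul_ext_one_eq_zero (R := R) hn M N x
  | succ i ih =>
    intro M _ _ _ _ _ _ N x
    obtain ⟨m, π, hπ⟩ := Module.Finite.exists_fin' (Rn R n) M
    obtain ⟨x₁, rfl⟩ := exists_of_presentation π hπ N (i + 1) x
    haveI : Module.IsTorsionFree R (LinearMap.ker π) :=
      Function.Injective.moduleIsTorsionFree (LinearMap.ker π).subtype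
        (LinearMap.ker π).injective_subtype (fun _ _ => rfl)
    rw [← Ext.comp_smul, ih (LinearMap.ker π) N x₁, Ext.comp_zero]

theorem zpow_smul_ext_succ_succ_eq_zero (hn : 1 ≤ n) (i : ℕ)
    (M : Type u) [AddCommGroup M] [Module (Rn R n) M] [Module.Finite (Rn R n) M]
    (N : ModuleCat.{u} (Rn R n))
    (x : Ext (ModuleCat.of (Rn R n) M) N (i + 1 + 1)) : (z R n ^ (n - 1)) • x = 0 := by
  obtain ⟨m, π, hπ⟩ := Module.Finite.exists_fin' (Rn R n) M
  obtain ⟨x₁, rfl⟩ := exists_of_presentation π hπ N (i + 1) x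
  haveI : Module.IsTorsionFree R (LinearMap.ker π) :=
    Function.Injective.moduleIsTorsionFree (LinearMap.ker π).subtype
      (LinearMap.ker π).injective_subtype (fun _ _ => rfl)
  rw [← Ext.comp_smul, zpow_smul_ext_succ_eq_zero (R := R) hn i (LinearMap.ker π) N x₁,
    Ext.comp_zero]

end Groth.Agent.Lib.Helper9.MultCrvLib
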