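import Groth.Agent.Lib.Helper9.MultCrv4
import Mathlib.LinearAlgebra.Dual.Lemmas

/-!
# Reflexive modules over `A = R[X]/(X^n)` are the `R`-torsion-free ones
-/

set_option autoImplicit false
set_option linter.style.haveILetI false
universe u v

namespace Groth.Agent.Lib.Helper9.MultCrvLib

open MultCrv Polynomial

section duality
variable {R : Type u} [CommRing R] {n : ℕ}

theorem eq_of_tau_eq (hn : 1 ≤ n) {a a' : Rn R n}
    (h : ∀ k, tau R n hn (z R n ^ k * a) = tau R n hn (z R n ^ k * a')) : a = a' := by
  rw [eq_sum_tau R n hn a, eq_sum_tau R n hn a']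
  apply Finset.sum_congr rfl
  intro j _
  rw [h]

variable {M : Type v} [AddCommGroup M] [Module (Rn R n) M] [Module R M]
  [IsScalarTower R (Rn R n) M]

theorem psi_tau_comp (hn : 1 ≤ n) (χ : M →ₗ[Rn R n] Rn R n) :
    psi n hn (tau R n hn ∘ₗ χ.restrictScalars R) = χ := by
  ext m
  rw [psi_apply]
  conv_rhs => rw [eq_sum_tau R n hn (χ m)]
  apply Finset.sum_congr rfl
  intro j _
  congr 2
  change tau R n hn (χ (z R n ^ (n - 1 - j) • m)) = _
  rw [map_smul, smul_eq_mul]

/-- `psi` as an `R`-linear map in the form. -/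
noncomputable def psiL (hn : 1 ≤ n) : (M →ₗ[R] R) →ₗ[R] (M →ₗ[Rn R n] Rn R n) where
  toFun := psi n hn
  map_add' l l' := by
    ext m
    rw [LinearMap.add_apply, psi_apply, psi_apply, psi_apply, ← Finset.sum_add_distrib]
    apply Finset.sum_congr rfl
    intro j _
    rw [LinearMap.add_apply, map_add, add_mul]
  map_smul' r l := by
    ext m
    rw [RingHom.id_apply, LinearMap.smul_apply, psi_apply, psi_apply, Finset.smul_sum]
    apply Finset.sum_congr rfl
    intro j _
    rw [LinearMap.smul_apply, smul_eq_mul, map_mul]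
    have h1 : ∀ x : Rn R n, r • x = algebraMap R (Rn R n) r * x := fun x => Algebra.smul_def r x
    rw [h1, mul_assoc]

theorem psiL_apply (hn : 1 ≤ n) (l : M →ₗ[R] R) : psiL (M := M) hn l = psi n hn l := rfl

end duality

variable {R : Type u} [CommRing R] [IsDomain R] [IsPrincipalIdealRing R] {n : ℕ}

theorem isReflexive_iff (hn : 1 ≤ n) (M : Type u) [AddCommGroup M] [Module (Rn R n) M]
    [Module R M] [IsScalarTower R (Rn R n) M] [Module.Finite (Rn R n) M] :
    Module.IsReflexive (Rn R n) M ↔ Module.IsTorsionFree R M := by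
  constructor
  · intro h
    constructor
    intro r hr m₁ m₂ hm
    apply (Module.bijective_dual_eval (Rn R n) M).1
    ext φ
    change φ m₁ = φ m₂
    have hreg : IsSMulRegular (Rn R n) r := Module.IsTorsionFree.isSMulRegular hr
    apply hreg
    change r • φ m₁ = r • φ m₂
    rw [← LinearMap.map_smul_of_tower, ← LinearMap.map_smul_of_tower]
    exact congrArg φ hm
  · intro h
    haveI : Module.Finite R M := Module.Finite.trans (Rn R n) M
    haveI : Module.Free R M := Module.free_of_finite_type_torsion_free'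
    constructor
    constructor
    · rw [injective_iff_map_eq_zero]
      intro m hm
      rw [← Module.forall_dual_apply_eq_zero_iff R m]
      intro l
      have h1 : psi n hn l m = 0 := LinearMap.congr_fun hm (psi n hn l)
      rw [← tau_psi hn l m, h1, map_zero]
    · intro Θ
      let θ : Module.Dual R (Module.Dual R M) :=
        tau R n hn ∘ₗ (Θ.restrictScalars R) ∘ₗ psiL (M := M) hn
      obtain ⟨m, hm⟩ := (Module.bijective_dual_eval R M).2 θ
      have hm' : ∀ l : M →ₗ[R] R, l m = tau R n hn (Θ (psi n hn l)) := fun l =>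
        LinearMap.congr_fun hm l
      refine ⟨m, ?_⟩
      ext φ
      change φ m = Θ φ
      apply eq_of_tau_eq hn
      intro k
      have h2 : z R n ^ k * Θ φ = Θ (z R n ^ k • φ) := by rw [map_smul, smul_eq_mul]
      rw [h2, ← psi_tau_comp (R := R) hn (z R n ^ k • φ), ← hm']
      rfl

end Groth.Agent.Lib.Helper9.MultCrvLib
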