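import Mathlib
import Groth.Prelude.Def_FlatCA

set_option linter.style.haveILetI false
set_option linter.unusedSectionVars false

universe u

namespace Groth.Agent.Lib.Helper9.NilLimit

section alg

variable {A : Type u} [CommRing A] (A' : ℕ → Type u) [∀ n, CommRing (A' n)]
    (φ : ∀ n, A' (n + 1) →+* A' n) (π : ∀ n, A →+* A' n) (hlim : FlatCA.IsRingLimit A A' φ π)
    (hsurj : ∀ n, Function.Surjective (φ n)) (hnil : ∀ n, ∀ x ∈ RingHom.ker (φ n), IsNilpotent x)

/-- a surjective ring map with nil kernel reflects units -/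
theorem isUnit_of_map_isUnit {R S : Type*} [CommRing R] [CommRing S] (f : R →+* S)
    (hf : Function.Surjective f) (hk : ∀ x ∈ RingHom.ker f, IsNilpotent x) (x : R)
    (hx : IsUnit (f x)) : IsUnit x := by
  obtain ⟨u, hu⟩ := hx
  obtain ⟨y, hy⟩ := hf (↑u⁻¹ : S)
  have h1 : x * y - 1 ∈ RingHom.ker f := by
    rw [RingHom.mem_ker, map_sub, map_mul, map_one, hy, ← hu, Units.mul_inv, sub_self]
  have h2 : IsUnit (x * y) := by
    have := (hk _ h1).isUnit_add_one
    rwa [sub_add_cancel] at this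
  exact isUnit_of_mul_isUnit_left h2

include hlim hsurj hnil in
theorem isUnit_of_pi_zero (a : A) (ha : IsUnit (π 0 a)) : IsUnit a := by
  obtain ⟨hcomp, hinj, hex⟩ := hlim
  have hu : ∀ n, IsUnit (π n a) := by
    intro n
    induction n with
    | zero => exact ha
    | succ n ih =>
      apply isUnit_of_map_isUnit (φ n) (hsurj n) (hnil n)
      have : φ n (π (n + 1) a) = π n a := by rw [← hcomp n]; rfl
      rw [this]; exact ih
  obtain ⟨b, hb⟩ := hex (fun n => ((hu n).unit⁻¹ : (A' n)ˣ)) (by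
    intro n
    have h1 : φ n (π (n + 1) a) = π n a := by rw [← hcomp n]; rfl
    have h2 : φ n (↑((hu (n + 1)).unit⁻¹) : A' (n + 1)) * π n a = 1 := by
      rw [← h1, ← map_mul, IsUnit.val_inv_mul, map_one]
    have h3 : (↑((hu n).unit⁻¹) : A' n) * π n a = 1 := IsUnit.val_inv_mul (hu n)
    calc φ n ↑((hu (n + 1)).unit⁻¹) = φ n ↑((hu (n + 1)).unit⁻¹) * (π n a * ↑((hu n).unit⁻¹)) := by
          rw [IsUnit.mul_val_inv, mul_one]
      _ = (φ n ↑((hu (n + 1)).unit⁻¹) * π n a) * ↑((hu n).unit⁻¹) := by ring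
      _ = ↑((hu n).unit⁻¹) := by rw [h2, one_mul])
  have hab : a * b = 1 := by
    apply hinj
    intro n
    rw [map_mul, hb n, map_one, IsUnit.mul_val_inv]
  exact IsUnit.of_mul_eq_one _ hab

include hlim hsurj in
theorem pi_zero_surjective : Function.Surjective (π 0) := by
  obtain ⟨hcomp, hinj, hex⟩ := hlim
  intro x₀
  let x : ∀ n, A' n := fun n => Nat.rec x₀ (fun n xn => (hsurj n xn).choose) n
  obtain ⟨a, ha⟩ := hex x (fun n => (hsurj n (x n)).choose_spec)
  exact ⟨a, ha 0⟩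

include hlim hsurj hnil in
/-- an open subset of `Spec A` containing the image of `Spec A₀` is everything -/
theorem eq_top_of_range_subset (U : TopologicalSpace.Opens (PrimeSpectrum A))
    (hU : Set.range (PrimeSpectrum.comap (π 0)) ⊆ (U : Set (PrimeSpectrum A))) : U = ⊤ := by
  obtain ⟨J, hJ⟩ := (PrimeSpectrum.isClosed_iff_zeroLocus_ideal _).mp U.isOpen.isClosed_compl
  have hsurj0 := pi_zero_surjective A' φ π hlim hsurj
  have h1 : J.map (π 0) = ⊤ := by
    by_contra hne
    obtain ⟨M, hM, hJM⟩ := Ideal.exists_le_maximal _ hne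
    have hmem : PrimeSpectrum.comap (π 0) ⟨M, hM.isPrime⟩ ∈ (U : Set (PrimeSpectrum A)) :=
      hU ⟨_, rfl⟩
    have hmem' : PrimeSpectrum.comap (π 0) ⟨M, hM.isPrime⟩ ∈ ((U : Set (PrimeSpectrum A)))ᶜ := by
      rw [hJ, PrimeSpectrum.mem_zeroLocus]
      intro j hj
      exact hJM (Ideal.mem_map_of_mem _ hj)
    exact hmem' hmem
  have h2 : (1 : A' 0) ∈ J.map (π 0) := by rw [h1]; trivial
  rw [Ideal.map, ← Ideal.map, Ideal.mem_map_iff_of_surjective _ hsurj0] at h2
  obtain ⟨j, hj, hj1⟩ := h2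
  have hju : IsUnit j := isUnit_of_pi_zero A' φ π hlim hsurj hnil j (by rw [hj1]; exact isUnit_one)
  have hJtop : J = ⊤ := Ideal.eq_top_of_isUnit_mem _ hj hju
  rw [hJtop] at hJ
  have : ((U : Set (PrimeSpectrum A)))ᶜ = ∅ := by rw [hJ]; simp
  ext x
  simp only [TopologicalSpace.Opens.coe_top, Set.mem_univ, iff_true]
  by_contra hx
  have : x ∈ ((U : Set (PrimeSpectrum A)))ᶜ := hx
  simp_all

include hlim in
/-- the universal property of the limit for ring maps -/
theorem exists_lift {B : Type u} [CommRing B] (β : ∀ n, B →+* A' n)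
    (hβ : ∀ n, (φ n).comp (β (n + 1)) = β n) :
    ∃ γ : B →+* A, ∀ n, (π n).comp γ = β n := by
  obtain ⟨hcomp, hinj, hex⟩ := hlim
  have hex' : ∀ b : B, ∃ a : A, ∀ n, π n a = β n b := fun b =>
    hex (fun n => β n b) (fun n => by rw [← hβ n]; rfl)
  choose γ hγ using hex'
  refine ⟨{ toFun := γ, map_one' := ?_, map_mul' := ?_, map_zero' := ?_, map_add' := ?_ }, ?_⟩
  · apply hinj; intro n; rw [hγ, map_one, map_one]
  · intro x y; apply hinj; intro n; rw [hγ, map_mul, map_mul, hγ, hγ]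
  · apply hinj; intro n; rw [hγ, map_zero, map_zero]
  · intro x y; apply hinj; intro n; rw [hγ, map_add, map_add, hγ, hγ]
  · intro n; ext b; exact hγ b n

end alg

end Groth.Agent.Lib.Helper9.NilLimit
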