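import Mathlib
import Groth.Prelude.Def_FlatCA
import Groth.Agent.Lib.Helper9.NilLimit1

set_option linter.style.haveILetI false
set_option linter.unusedSectionVars false

universe u

namespace Groth.Agent.Lib.Helper9.NilLimit

open CategoryTheory AlgebraicGeometry


/-- a compact subset of a scheme is contained in a quasi-compact open -/
theorem exists_compact_open_of_isCompact (T : Scheme.{u}) (Z : Set T) (hZ : IsCompact Z) :
    ∃ W : T.Opens, Z ⊆ (W : Set T) ∧ IsCompact (W : Set T) := by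
  have hU : ∀ x : T, ∃ U : T.Opens, IsAffineOpen U ∧ x ∈ U := by
    intro x
    obtain ⟨_, ⟨V, hV, rfl⟩, hxV, -⟩ := T.isBasis_affineOpens.exists_subset_of_mem_open
      (Set.mem_univ x) isOpen_univ
    exact ⟨V, hV, hxV⟩
  choose U hUaff hxU using hU
  obtain ⟨s, hs⟩ := hZ.elim_finite_subcover (fun x : T => ((U x : T.Opens) : Set T))
    (fun x => (U x).isOpen) (fun z _ => Set.mem_iUnion.mpr ⟨z, hxU z⟩)
  refine ⟨⨆ x ∈ s, U x, ?_, ?_⟩
  · intro z hz
    have := hs hz
    simp only [Set.mem_iUnion] at this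
    obtain ⟨x, hxs, hzx⟩ := this
    simp only [TopologicalSpace.Opens.coe_iSup, Set.mem_iUnion]
    exact ⟨x, hxs, hzx⟩
  · simp only [TopologicalSpace.Opens.coe_iSup]
    exact s.isCompact_biUnion (fun x _ => (hUaff x).isCompact)


section main

variable {A : Type u} [CommRing A] (A' : ℕ → Type u) [∀ n, CommRing (A' n)]
    (φ : ∀ n, A' (n + 1) →+* A' n) (π : ∀ n, A →+* A' n) (hlim : FlatCA.IsRingLimit A A' φ π)
    (hsurj : ∀ n, Function.Surjective (φ n)) (hnil : ∀ n, ∀ x ∈ RingHom.ker (φ n), IsNilpotent x)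

include hsurj hnil in
theorem comap_phi_surjective (n : ℕ) : Function.Surjective (PrimeSpectrum.comap (φ n)) := by
  intro x
  have h1 : Set.range (PrimeSpectrum.comap (φ n)) = PrimeSpectrum.zeroLocus (RingHom.ker (φ n)) :=
    range_comap_of_surjective _ _ (hsurj n)
  have h2 : x ∈ Set.range (PrimeSpectrum.comap (φ n)) := by
    rw [h1, PrimeSpectrum.mem_zeroLocus]
    intro k hk
    obtain ⟨m, hm⟩ := hnil n k hk
    exact x.2.mem_of_pow_mem m (by rw [hm]; exact Ideal.zero_mem _)
  exact h2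

include hsurj hnil in
theorem specMap_phi_surjective (n : ℕ) :
    Function.Surjective (Spec.map (CommRingCat.ofHom (φ n))).base :=
  comap_phi_surjective A' φ hsurj hnil n

include hlim hsurj hnil in
theorem isIso_of_sections {T : Scheme.{u}} (h : T ⟶ Spec (CommRingCat.of A)) [Mono h]
    [LocallyOfFiniteType h]
    (hsec : ∀ n, ∃ g : Spec (CommRingCat.of (A' n)) ⟶ T,
      g ≫ h = Spec.map (CommRingCat.ofHom (π n))) : IsIso h := by
  have hcomp := hlim.1
  choose g hg using hsec
  -- compatibility of the sections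
  have hgg : ∀ n, Spec.map (CommRingCat.ofHom (φ n)) ≫ g (n + 1) = g n := by
    intro n
    rw [← cancel_mono h, Category.assoc, hg, hg, ← Spec.map_comp, ← CommRingCat.ofHom_comp, hcomp]
  -- all sections have the same image
  have hrange : ∀ n, Set.range (g n).base = Set.range (g 0).base := by
    intro n
    induction n with
    | zero => rfl
    | succ n ih =>
      rw [← ih, ← hgg n]
      simp only [Scheme.Hom.comp_base, TopCat.hom_comp, ContinuousMap.coe_comp]
      rw [Set.range_comp, (specMap_phi_surjective A' φ hsurj hnil n).range_eq, Set.image_univ]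
  -- a quasi-compact open containing the image
  obtain ⟨W, hZW, hWc⟩ := exists_compact_open_of_isCompact T (Set.range (g 0).base)
    (isCompact_range (g 0).continuous)
  haveI : CompactSpace W := isCompact_iff_compactSpace.mp hWc
  -- lift the sections to `W`
  have hgW : ∀ n, Set.range (g n).base ⊆ Set.range W.ι.base := by
    intro n
    rw [hrange n, Scheme.Opens.range_ι]
    exact hZW
  let g' : ∀ n, Spec (CommRingCat.of (A' n)) ⟶ W := fun n => IsOpenImmersion.lift W.ι (g n) (hgW n)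
  have hg' : ∀ n, g' n ≫ W.ι = g n := fun n => IsOpenImmersion.lift_fac _ _ _
  -- Zariski's main theorem
  obtain ⟨hW, hhW⟩ : ∃ hW : (W : Scheme.{u}) ⟶ Spec (CommRingCat.of A), hW = W.ι ≫ h := ⟨_, rfl⟩
  haveI : Mono hW := by rw [hhW]; infer_instance
  haveI : LocallyOfFiniteType hW := by rw [hhW]; infer_instance
  haveI : QuasiCompact hW := inferInstance
  haveI : IsAffine hW.normalization := isAffine_of_isAffineHom hW.fromNormalization
  obtain ⟨B, e, -⟩ : ∃ (B : CommRingCat.{u}) (e : hW.normalization ≅ Spec B), True :=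
    ⟨_, hW.normalization.isoSpec, trivial⟩
  obtain ⟨j, hj⟩ : ∃ j : (W : Scheme.{u}) ⟶ Spec B, j = hW.toNormalization ≫ e.hom := ⟨_, rfl⟩
  haveI : IsOpenImmersion j := by rw [hj]; infer_instance
  obtain ⟨α, hα⟩ : ∃ α : CommRingCat.of A ⟶ B, Spec.map α = e.inv ≫ hW.fromNormalization :=
    ⟨Spec.preimage _, Spec.map_preimage _⟩
  have hjα : j ≫ Spec.map α = hW := by
    rw [hj, hα, Category.assoc, Iso.hom_inv_id_assoc, Scheme.Hom.toNormalization_fromNormalization]
  -- ring maps `B → A' n`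
  have hβ : ∀ n, ∃ β : B ⟶ CommRingCat.of (A' n), Spec.map β = g' n ≫ j :=
    fun n => ⟨Spec.preimage _, Spec.map_preimage _⟩
  choose β hβ using hβ
  have hg'g' : ∀ n, Spec.map (CommRingCat.ofHom (φ n)) ≫ g' (n + 1) = g' n := by
    intro n
    rw [← cancel_mono W.ι, Category.assoc, hg', hg', hgg]
  have hβcomp : ∀ n, (φ n).comp (β (n + 1)).hom = (β n).hom := by
    intro n
    have h1 : Spec.map (β (n + 1) ≫ CommRingCat.ofHom (φ n)) = Spec.map (β n) := by
      rw [Spec.map_comp, hβ, hβ, ← Category.assoc, hg'g']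
    have h2 := Spec.map_injective h1
    exact congrArg CommRingCat.Hom.hom h2
  obtain ⟨γ, hγ⟩ := exists_lift A' φ π hlim (fun n => (β n).hom) hβcomp
  have hαβ : ∀ n, α ≫ β n = CommRingCat.ofHom (π n) := by
    intro n
    apply Spec.map_injective
    rw [Spec.map_comp, hβ, Category.assoc, hjα, hhW, ← Category.assoc, hg', hg]
  have hαγ : α ≫ CommRingCat.ofHom γ = 𝟙 _ := by
    ext a
    apply hlim.2.1
    intro n
    have h1 : π n (γ (α.hom a)) = (β n).hom (α.hom a) := congrArg (fun ψ => ψ (α.hom a)) (hγ n)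
    have h2 : (β n).hom (α.hom a) = π n a := congrArg (fun ψ => ψ.hom a) (hαβ n)
    exact h1.trans h2
  -- the section `Spec A → Spec B` lands in `W`
  obtain ⟨σ', hσ'⟩ : ∃ σ' : Spec (CommRingCat.of A) ⟶ Spec B, σ' = Spec.map (CommRingCat.ofHom γ) :=
    ⟨_, rfl⟩
  have hσ'α : σ' ≫ Spec.map α = 𝟙 _ := by
    rw [hσ', ← Spec.map_comp, hαγ, Spec.map_id]
  have hU : σ' ⁻¹ᵁ j.opensRange = ⊤ := by
    apply eq_top_of_range_subset A' φ π hlim hsurj hnil
    rintro _ ⟨x, rfl⟩
    change σ' (Spec.map (CommRingCat.ofHom (π 0)) x) ∈ j.opensRange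
    have h1 : Spec.map (CommRingCat.ofHom (π 0)) ≫ σ' = g' 0 ≫ j := by
      rw [hσ', ← Spec.map_comp, ← hβ]
      congr 1
      ext b
      exact (congrArg (fun ψ => ψ b) (hγ 0))
    have h2 : σ' (Spec.map (CommRingCat.ofHom (π 0)) x) = j (g' 0 x) := by
      rw [← Scheme.Hom.comp_apply, h1, Scheme.Hom.comp_apply]
    rw [h2]
    exact ⟨_, rfl⟩
  have hσrange : Set.range σ'.base ⊆ Set.range j.base := by
    rintro _ ⟨x, rfl⟩
    have : x ∈ σ' ⁻¹ᵁ j.opensRange := by rw [hU]; trivial
    exact this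
  let σ : Spec (CommRingCat.of A) ⟶ W := IsOpenImmersion.lift j σ' hσrange
  have hσ : σ ≫ j = σ' := IsOpenImmersion.lift_fac _ _ _
  have hsec' : (σ ≫ W.ι) ≫ h = 𝟙 _ := by
    rw [Category.assoc, ← hhW, ← hjα, ← Category.assoc, hσ, hσ'α]
  haveI : IsSplitEpi h := ⟨⟨σ ≫ W.ι, hsec'⟩⟩
  exact isIso_of_mono_of_isSplitEpi h

end main

end Groth.Agent.Lib.Helper9.NilLimit
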