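import Mathlib
import Groth.Prelude.Def_W4c5algebraiztannakaNis

set_option backward.isDefEq.respectTransparency false
set_option maxHeartbeats 800000
set_option autoImplicit false
set_option linter.unusedSectionVars false
set_option linter.unusedVariables false
universe u
open CategoryTheory CategoryTheory.Limits AlgebraicGeometry Opposite Topology
open W4c5algebraiztannaka

namespace Groth.Agent.Lib.Helper9.Nis

/-- base change of a Nisnevich cover of bounded length -/
theorem isNisCoverLen_baseChange {U Y Y' : Scheme.{u}} (f : U ⟶ Y) (g : Y' ⟶ Y) (m : ℕ)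
    (h : IsNisCoverLen f m) : IsNisCoverLen (pullback.snd f g) m := by
  obtain ⟨Z, hZ0, hZl, hZm, hZc, hZs⟩ := h.flag
  haveI := h.etale
  refine ⟨inferInstance, fun k => (fun y : Y' => g y) ⁻¹' Z k, ?_, ?_, ?_, ?_, ?_⟩
  · show (fun y : Y' => g y) ⁻¹' Z 0 = ∅
    rw [hZ0, Set.preimage_empty]
  · show (fun y : Y' => g y) ⁻¹' Z (Fin.last m) = Set.univ
    rw [hZl, Set.preimage_univ]
  · exact fun a b hab => Set.preimage_mono (hZm hab)
  · exact fun k => ⟨(hZc k).1.preimage g.continuous, g.isConstructible_preimage (hZc k).2⟩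
  · intro k
    obtain ⟨T, γ, s, hγ, hrange, hs⟩ := hZs k
    haveI := hγ
    haveI : IsImmersion (pullback.snd γ g) :=
      MorphismProperty.pullback_snd (P := @IsImmersion) γ g inferInstance
    refine ⟨pullback γ g, pullback.snd γ g,
      pullback.lift (pullback.fst γ g ≫ s) (pullback.snd γ g) ?_, inferInstance, ?_, ?_⟩
    · rw [Category.assoc, hs, pullback.condition]
    · show Set.range (pullback.snd γ g) = _
      rw [Scheme.Pullback.range_snd, ← Set.preimage_sdiff, ← hrange]
    · exact pullback.lift_snd _ _ _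

/-- a finite cover by quasi-compact opens is a Nisnevich cover of bounded length -/
theorem isNisCoverLen_sigma_opens {X : Scheme.{u}} [QuasiSeparatedSpace X] (m : ℕ)
    (O : Fin m → X.Opens) (hOc : ∀ i, IsCompact (O i : Set X)) (hO : ⨆ i, O i = ⊤) :
    IsNisCoverLen (Sigma.desc (fun i => (O i).ι)) m := by
  classical
  -- `P l` is the union of the `O i` with `l ≤ i`
  let P : ℕ → Set X := fun l => ⋃ i : {i : Fin m // l ≤ i.1}, (O i.1 : Set X)
  have hPopen : ∀ l, IsOpen (P l) := fun l => isOpen_iUnion fun i => (O i.1).isOpen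
  have hPc : ∀ l, IsCompact (P l) := fun l => isCompact_iUnion fun i => hOc i.1
  have hP0 : P 0 = Set.univ := by
    have : (⨆ i, O i : X.Opens) = ⊤ := hO
    ext x
    simp only [P, Set.mem_iUnion, Set.mem_univ, iff_true]
    have hx : x ∈ (⨆ i, O i : X.Opens) := by rw [this]; trivial
    obtain ⟨i, hi⟩ := TopologicalSpace.Opens.mem_iSup.1 hx
    exact ⟨⟨i, Nat.zero_le _⟩, hi⟩
  have hPm : P m = ∅ := by
    ext x
    simp only [P, Set.mem_iUnion, Set.mem_empty_iff_false, iff_false, not_exists]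
    rintro ⟨i, hi⟩ -
    exact absurd i.2 (not_lt.2 hi)
  have hPanti : ∀ a b, a ≤ b → P b ⊆ P a := fun a b hab => by
    intro x hx
    simp only [P, Set.mem_iUnion] at hx ⊢
    obtain ⟨⟨i, hi⟩, hxi⟩ := hx
    exact ⟨⟨i, hab.trans hi⟩, hxi⟩
  have hPsucc : ∀ (l : Fin m), P l.1 = (O l : Set X) ∪ P (l.1 + 1) := fun l => by
    ext x
    simp only [P, Set.mem_iUnion, Set.mem_union]
    constructor
    · rintro ⟨⟨i, hi⟩, hxi⟩
      rcases Nat.eq_or_lt_of_le hi with h | h
      · left
        have : l = i := Fin.ext h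
        rw [this]; exact hxi
      · exact Or.inr ⟨⟨i, h⟩, hxi⟩
    · rintro (hx | ⟨⟨i, hi⟩, hxi⟩)
      · exact ⟨⟨l, le_rfl⟩, hx⟩
      · exact ⟨⟨i, (Nat.le_succ _).trans hi⟩, hxi⟩
  refine ⟨?_, fun l => (P l.1)ᶜ, ?_, ?_, ?_, ?_, ?_⟩
  · exact IsZariskiLocalAtSource.sigmaDesc (P := @Etale) (fun i => inferInstance)
  · show (P 0)ᶜ = ∅
    rw [hP0, Set.compl_univ]
  · show (P m)ᶜ = Set.univ
    rw [hPm, Set.compl_empty]
  · exact fun a b hab => Set.compl_subset_compl.2 (hPanti _ _ hab)
  · exact fun l => ⟨(hPopen _).isClosed_compl, ((hPc _).isConstructible (hPopen _)).compl⟩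
  · intro l
    -- the stratum is `O l \ P (l+1)`, closed in `O l`
    have hstr : (P (l.succ : Fin (m + 1)).1)ᶜ \ (P (l.castSucc : Fin (m + 1)).1)ᶜ =
        (O l : Set X) \ P (l.1 + 1) := by
      show (P (l.1 + 1))ᶜ \ (P l.1)ᶜ = _
      rw [hPsucc l]
      ext x
      constructor
      · rintro ⟨h1, h2⟩
        have h2' : x ∈ (O l : Set X) ∪ P (l.1 + 1) := by
          by_contra hc
          exact h2 hc
        rcases h2' with h | h
        · exact ⟨h, h1⟩
        · exact absurd h h1
      · rintro ⟨h1, h2⟩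
        exact ⟨h2, fun h => h (Or.inl h1)⟩
    rw [hstr]
    -- the closed subset of `O l`
    let C : Set (O l).toScheme := (fun x => (O l).ι x) ⁻¹' (P (l.1 + 1))ᶜ
    have hC : IsClosed C := (hPopen _).isClosed_compl.preimage (O l).ι.continuous
    let I := Scheme.IdealSheafData.vanishingIdeal ⟨C, hC⟩
    have hrange : Set.range I.subschemeι = C := by
      rw [Scheme.IdealSheafData.range_subschemeι, Scheme.IdealSheafData.coe_support_vanishingIdeal]
      rfl
    refine ⟨I.subscheme, I.subschemeι ≫ (O l).ι, I.subschemeι ≫ Sigma.ι (fun i => (O i).toScheme) l,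
      inferInstance, ?_, ?_⟩
    · show Set.range (I.subschemeι ≫ (O l).ι) = _
      rw [Scheme.Hom.comp_base, TopCat.coe_comp, Set.range_comp, hrange]
      ext x
      constructor
      · rintro ⟨y, hy, rfl⟩
        exact ⟨y.2, hy⟩
      · rintro ⟨hx1, hx2⟩
        exact ⟨⟨x, hx1⟩, hx2, rfl⟩
    · rw [Category.assoc, Sigma.ι_desc]

end Groth.Agent.Lib.Helper9.Nis
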