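import Groth.Agent.Lib.Helper9.UAC1

set_option backward.isDefEq.respectTransparency false
set_option autoImplicit false
set_option linter.unusedSectionVars false
set_option linter.unusedVariables false
universe u
open CategoryTheory CategoryTheory.Limits AlgebraicGeometry Opposite

namespace Groth.Agent.Lib.Helper9.UAC

/-- pieces of a fibre product over opens mapping into a common affine open are affine -/
theorem isAffineOpen_piece {W Y T : Scheme.{u}} (j : W ⟶ Y) (g : T ⟶ Y)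
    (V : Y.Opens) (hV : IsAffineOpen V) (A : W.Opens) (hA : IsAffineOpen A) (hAV : A ≤ j ⁻¹ᵁ V)
    (D : T.Opens) (hD : IsAffineOpen D) (hDV : D ≤ g ⁻¹ᵁ V) :
    IsAffineOpen ((pullback.fst j g) ⁻¹ᵁ A ⊓ (pullback.snd j g) ⁻¹ᵁ D) := by
  haveI : IsAffine V.toScheme := hV
  haveI : IsAffine A.toScheme := hA
  haveI : IsAffine D.toScheme := hD
  have h1 : Set.range (A.ι ≫ j) ⊆ Set.range V.ι := by
    rw [Scheme.Opens.range_ι]
    rintro _ ⟨x, rfl⟩
    rw [Scheme.Hom.comp_apply]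
    exact hAV x.2
  have h2 : Set.range (D.ι ≫ g) ⊆ Set.range V.ι := by
    rw [Scheme.Opens.range_ι]
    rintro _ ⟨x, rfl⟩
    rw [Scheme.Hom.comp_apply]
    exact hDV x.2
  let jA : A.toScheme ⟶ V.toScheme := IsOpenImmersion.lift V.ι (A.ι ≫ j) h1
  let gD : D.toScheme ⟶ V.toScheme := IsOpenImmersion.lift V.ι (D.ι ≫ g) h2
  have e1 : jA ≫ V.ι = A.ι ≫ j := IsOpenImmersion.lift_fac _ _ _
  have e2 : gD ≫ V.ι = D.ι ≫ g := IsOpenImmersion.lift_fac _ _ _
  let φ : pullback jA gD ⟶ pullback j g := pullback.map jA gD j g A.ι D.ι V.ι e1 e2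
  haveI : IsOpenImmersion φ := inferInstance
  have hr : φ.opensRange = (pullback.fst j g) ⁻¹ᵁ A ⊓ (pullback.snd j g) ⁻¹ᵁ D := by
    apply TopologicalSpace.Opens.ext
    show Set.range φ = _
    rw [Scheme.Pullback.range_map]
    simp only [Scheme.Opens.range_ι]
    rfl
  rw [← hr]
  exact isAffineOpen_opensRange φ

theorem main {W Y : Scheme.{u}} (j : W ⟶ Y) [CompactSpace Y] [QuasiCompact j] :
    ∃ m : ℕ, ∀ (B : CommRingCat.{u}) (g : Spec B ⟶ Y),
      ∃ U : Fin m → (pullback j g).Opens, (∀ k, IsAffineOpen (U k)) ∧ ⨆ k, U k = ⊤ := by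
  classical
  let 𝒰 := Y.affineCover.finiteSubcover
  let V : 𝒰.I₀ → Y.Opens := fun i => (𝒰.f i).opensRange
  have hVaff : ∀ i, IsAffineOpen (V i) := fun i => isAffineOpen_opensRange _
  have hVtop : ⨆ i, V i = ⊤ := 𝒰.iSup_opensRange
  have hs : ∀ i, ∃ s : Set W.affineOpens, s.Finite ∧ j ⁻¹ᵁ V i = ⨆ A ∈ s, (A : W.Opens) := fun i =>
    isCompact_iff_finite_and_eq_biUnion_affineOpens.1
      (QuasiCompact.isCompact_preimage (f := j) _ (V i).isOpen (hVaff i).isCompact)
  choose s hsfin hsV using hs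
  haveI : ∀ i, Finite (s i) := fun i => (hsfin i).to_subtype
  let I := Σ i : 𝒰.I₀, s i
  haveI : Finite I := inferInstance
  let e : I ≃ Fin (Nat.card I) := Finite.equivFin I
  refine ⟨Nat.card I, fun B g => ?_⟩
  let G : 𝒰.I₀ → TopologicalSpace.Opens (PrimeSpectrum B) := fun i => g ⁻¹ᵁ V i
  have hG : ⨆ i, G i = ⊤ := by
    apply TopologicalSpace.Opens.ext
    ext p
    simp only [TopologicalSpace.Opens.coe_iSup, Set.mem_iUnion, TopologicalSpace.Opens.coe_top,
      Set.mem_univ, iff_true]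
    have : g p ∈ (⨆ i, V i : Y.Opens) := by rw [hVtop]; trivial
    obtain ⟨i, hi⟩ := TopologicalSpace.Opens.mem_iSup.1 this
    exact ⟨i, hi⟩
  obtain ⟨b, hbG, hb⟩ := exists_basicOpen_refinement G hG
  let D : 𝒰.I₀ → (Spec B).Opens := fun i => PrimeSpectrum.basicOpen (b i)
  have hDaff : ∀ i, IsAffineOpen (D i) := fun i => by
    have := (isAffineOpen_top (Spec B)).basicOpen ((Scheme.ΓSpecIso B).inv (b i))
    rwa [basicOpen_eq_of_affine] at this
  have hDtop : ∀ p : PrimeSpectrum B, ∃ i, p ∈ D i := by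
    intro p
    have := PrimeSpectrum.iSup_basicOpen_eq_top_iff.2 hb
    have hp : p ∈ (⨆ i, PrimeSpectrum.basicOpen (b i) : TopologicalSpace.Opens _) := by
      rw [this]; trivial
    exact TopologicalSpace.Opens.mem_iSup.1 hp
  refine ⟨fun k => (pullback.fst j g) ⁻¹ᵁ ((e.symm k).2 : W.affineOpens).1 ⊓
    (pullback.snd j g) ⁻¹ᵁ D (e.symm k).1, fun k => ?_, ?_⟩
  · refine isAffineOpen_piece j g (V (e.symm k).1) (hVaff _) _ ((e.symm k).2 : W.affineOpens).2 ?_
      _ (hDaff _) (hbG _)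
    rw [hsV]
    exact le_iSup₂ (f := fun (A : W.affineOpens) (_ : A ∈ s (e.symm k).1) => (A : W.Opens))
      ((e.symm k).2 : W.affineOpens) (e.symm k).2.2
  · apply TopologicalSpace.Opens.ext
    ext z
    simp only [TopologicalSpace.Opens.coe_iSup, Set.mem_iUnion, TopologicalSpace.Opens.coe_top,
      Set.mem_univ, iff_true]
    obtain ⟨i, hi⟩ := hDtop (pullback.snd j g z)
    have hz : pullback.fst j g z ∈ j ⁻¹ᵁ V i := by
      show j (pullback.fst j g z) ∈ V i
      rw [← Scheme.Hom.comp_apply, pullback.condition, Scheme.Hom.comp_apply]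
      exact hbG i hi
    rw [hsV] at hz
    obtain ⟨A, hz'⟩ := TopologicalSpace.Opens.mem_iSup.1 hz
    obtain ⟨hA, hzA⟩ := TopologicalSpace.Opens.mem_iSup.1 hz'
    refine ⟨e ⟨i, ⟨A, hA⟩⟩, ?_⟩
    rw [Equiv.symm_apply_apply]
    exact ⟨hzA, hi⟩

end Groth.Agent.Lib.Helper9.UAC
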