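import Groth.Agent.Lib.Helper9.NisD
import Groth.Agent.Lib.Helper9.UAC2
import Groth.Agent.Lib.Helper23.Nis.Comp

set_option backward.isDefEq.respectTransparency false
set_option maxHeartbeats 800000
set_option autoImplicit false
set_option linter.unusedSectionVars false
set_option linter.unusedVariables false
universe u
open CategoryTheory CategoryTheory.Limits AlgebraicGeometry Opposite Topology
open W4c5algebraiztannaka

namespace Groth.Agent.Lib.Helper9.Nis

theorem exists_uniform_affine_nisCover {U Y : Scheme.{u}} [IsAffine U]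
    [CompactSpace Y] [QuasiSeparatedSpace Y] (f : U ⟶ Y) (m' : ℕ)
    (hf : IsNisCoverLen f m') :
    ∃ m : ℕ, ∀ (B : CommRingCat.{u}) (g : Spec B ⟶ Y),
      ∃ (V : Scheme.{u}) (_ : IsAffine V) (v : V ⟶ Spec B) (w : V ⟶ U),
        IsNisCoverLen v m ∧ w ≫ f = v ≫ g := by
  haveI : QuasiCompact f := quasiCompact_of_compactSpace f
  obtain ⟨m₀, hm₀⟩ := Groth.Agent.Lib.Helper9.UAC.main f
  refine ⟨m₀ * m', fun B g => ?_⟩
  obtain ⟨O, hOaff, hOtop⟩ := hm₀ B g
  haveI : ∀ k, IsAffine (O k).toScheme := fun k => hOaff k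
  haveI : QuasiSeparatedSpace ↥(pullback f g : Scheme.{u}) := by
    haveI : QuasiSeparated (pullback.snd f g) := by
      haveI : QuasiSeparated f := inferInstance
      infer_instance
    exact quasiSeparatedSpace_of_quasiSeparated (pullback.snd f g)
  have hc : IsNisCoverLen (Sigma.desc (fun k => (O k).ι)) m₀ :=
    isNisCoverLen_sigma_opens m₀ O (fun k => (hOaff k).isCompact) hOtop
  have hb : IsNisCoverLen (pullback.snd f g) m' := isNisCoverLen_baseChange f g m' hf
  refine ⟨∐ fun k => (O k).toScheme, inferInstance,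
    Sigma.desc (fun k => (O k).ι) ≫ pullback.snd f g,
    Sigma.desc (fun k => (O k).ι) ≫ pullback.fst f g, ?_, ?_⟩
  · exact Groth.Agent.Lib.Helper23.Nis.isNisCoverLen_comp _ _ m₀ m' hc hb
  · rw [Category.assoc, Category.assoc, pullback.condition]

end Groth.Agent.Lib.Helper9.Nis
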