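import Groth.Agent.Lib.Helper9.OIRed
import Groth.Agent.Lib.Helper9.MaxLim
set_option autoImplicit false
set_option linter.style.haveILetI false
set_option linter.unusedSectionVars false
universe u v w
open CategoryTheory CategoryTheory.Limits AlgebraicGeometry TopologicalSpace Opposite

namespace Groth.Agent.Lib.Helper9.OILim

open MaxLim (exists_maximal_specializes)

/-- a Noetherian scheme has finitely many maximal points -/
lemma finite_isMax (X : Scheme.{u}) [IsNoetherian X] : {m : X | MaxLim.IsMax m}.Finite := by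
  have hfin : (irreducibleComponents X).Finite := NoetherianSpace.finite_irreducibleComponents
  apply Set.Finite.of_finite_image (f := fun m : X => closure {m}) (hfin.subset ?_) ?_
  · rintro _ ⟨m, hm, rfl⟩
    refine ⟨isIrreducible_singleton.closure, fun Z hZ hle => ?_⟩
    obtain ⟨z, hz⟩ := QuasiSober.sober hZ.closure isClosed_closure
    have hz' : closure {z} = closure Z := hz
    have h1 : z ⤳ m := by
      rw [specializes_iff_mem_closure, hz']
      exact subset_closure (hle (subset_closure rfl))
    have h2 : z = m := hm z h1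
    subst h2
    intro w hw
    change w ∈ closure {z}
    rw [hz']
    exact subset_closure hw
  · intro m _ m' _ h
    exact (inseparable_iff_closure_eq.2 h).eq

variable {I : Type u} [SmallCategory I] [IsCofiltered I] (D : I ⥤ Scheme.{u})
  (c : Cone D) (hc : IsLimit c) [∀ {i j : I} (f : i ⟶ j), IsAffineHom (D.map f)]
  (hoi : ∀ (i j : I) (φ : i ⟶ j), IsOpenImmersion (D.map φ))

include hc hoi in
theorem irreducibleSpace_of_stages (i : I)
    (hirr : ∀ j : Over i, IrreducibleSpace (D.obj j.left)) : IrreducibleSpace c.pt := by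
  have := hirr (Over.mk (𝟙 i))
  have : IrreducibleSpace (D.obj i) := hirr (Over.mk (𝟙 i))
  let η : D.obj i := genericPoint (D.obj i)
  have hη : η ∈ Set.range (c.π.app i) := by
    apply mem_range_π D c hc hoi i η
    intro j
    have := hirr j
    have := hoi j.left i j.hom
    obtain ⟨y⟩ := (hirr j).toNonempty
    exact (genericPoint_specializes ((D.map j.hom) y)).mem_open
      (D.map j.hom).isOpenEmbedding.isOpen_range ⟨y, rfl⟩
  obtain ⟨ξ, hξ⟩ := hη
  have hind := isInducing_π D c hc hoi i
  have hgen : ∀ x : c.pt, ξ ⤳ x := by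
    intro x
    rw [← hind.specializes_iff, hξ]
    exact genericPoint_specializes _
  rw [irreducibleSpace_def]
  have h1 : (Set.univ : Set c.pt) = closure {ξ} := by
    ext x
    simp only [Set.mem_univ, true_iff]
    exact specializes_iff_mem_closure.1 (hgen x)
  change IsIrreducible (Set.univ : Set _)
  rw [h1]
  exact isIrreducible_singleton.closure

include hc hoi in
theorem isIntegral_of_stages (i : I) (h : ∀ (j : I) (_ : j ⟶ i), IsIntegral (D.obj j)) :
    IsIntegral c.pt := by
  have := h i (𝟙 i)
  have h1 : IsReduced c.pt := isReduced_of_stage D c hc hoi i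
  have h2 : IrreducibleSpace c.pt := irreducibleSpace_of_stages D c hc hoi i
    (fun j => by have := h j.left j.hom; infer_instance)
  exact isIntegral_of_irreducibleSpace_of_isReduced c.pt

include hc hoi in
theorem exists_irreducible_stage (i₀ : I) [IsNoetherian (D.obj i₀)] [IrreducibleSpace c.pt] :
    ∃ i : Over i₀, ∀ (j : I) (_ : j ⟶ i.left), IrreducibleSpace (D.obj j) := by
  classical
  let ξ : c.pt := genericPoint c.pt
  let p : c.pt ⟶ D.obj i₀ := c.π.app i₀
  let t : D.obj i₀ := p ξ
  have hfin := finite_isMax (D.obj i₀)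
  let Mbad : Set (D.obj i₀) := {m | MaxLim.IsMax m ∧ m ∉ Set.range p}
  have hbadfin : Mbad.Finite := hfin.subset fun m hm => hm.1
  have key : ∀ m ∈ Mbad, ∃ j : Over i₀, m ∉ Set.range (D.map j.hom) := by
    intro m hm
    by_contra hcon
    push Not at hcon
    exact hm.2 (mem_range_π D c hc hoi i₀ m hcon)
  choose jj hjj using key
  let O : Finset (Over i₀) := hbadfin.toFinset.attach.image
    (fun m => jj m.1 (hbadfin.mem_toFinset.1 m.2))
  obtain ⟨i, hi⟩ := IsCofiltered.inf_objs_exists O
  refine ⟨i, fun j g => ?_⟩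
  let f : D.obj j ⟶ D.obj i₀ := D.map (g ≫ i.hom)
  have hfoi : IsOpenImmersion f := hoi j i₀ (g ≫ i.hom)
  let q : c.pt ⟶ D.obj j := c.π.app j
  have hqf : q ≫ f = p := c.w (g ≫ i.hom)
  have hgen : ∀ y : D.obj j, q ξ ⤳ y := by
    intro y
    obtain ⟨m, hm1, hm2⟩ := exists_maximal_specializes (f y)
    have hmf : m ∈ Set.range f := hm2.mem_open f.isOpenEmbedding.isOpen_range ⟨y, rfl⟩
    have hmp : m ∈ Set.range p := by
      by_contra hcon
      have hbad : m ∈ Mbad := ⟨hm1, hcon⟩
      have hmem : jj m hbad ∈ O := by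
        simp only [O, Finset.mem_image, Finset.mem_attach, true_and]
        exact ⟨⟨m, hbadfin.mem_toFinset.2 hbad⟩, rfl⟩
      obtain ⟨h⟩ := hi hmem
      apply hjj m hbad
      obtain ⟨z, hz⟩ := hmf
      refine ⟨(D.map (g ≫ h.left)) z, ?_⟩
      rw [← Scheme.Hom.comp_apply, ← D.map_comp, Category.assoc, Over.w h]
      exact hz
    obtain ⟨x, hx⟩ := hmp
    have h1 : t ⤳ m := by
      rw [← hx]
      exact (genericPoint_specializes x).map p.continuous
    have h2 : t = m := hm1 t h1
    have h3 : f (q ξ) = t := by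
      rw [← Scheme.Hom.comp_apply, hqf]
    rw [← f.isOpenEmbedding.isInducing.specializes_iff, h3, h2]
    exact hm2
  rw [irreducibleSpace_def]
  have h1 : (Set.univ : Set (D.obj j)) = closure {q ξ} := by
    ext x
    simp only [Set.mem_univ, true_iff]
    exact specializes_iff_mem_closure.1 (hgen x)
  change IsIrreducible (Set.univ : Set _)
  rw [h1]
  exact isIrreducible_singleton.closure

include hc hoi in
theorem isIntegral_iff (i₀ : I) [IsNoetherian (D.obj i₀)] :
    IsIntegral c.pt ↔ ∃ (i : I) (_ : i ⟶ i₀), ∀ (j : I) (_ : j ⟶ i), IsIntegral (D.obj j) := by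
  constructor
  · intro h
    have hN : ∀ U : (D.obj i₀).affineOpens, (nilradical Γ(D.obj i₀, U)).FG := by
      intro U
      have := IsLocallyNoetherian.component_noetherian (X := D.obj i₀) U
      exact (isNoetherianRing_iff_ideal_fg _).1 this _
    obtain ⟨i₁, a₁, h₁⟩ := exists_isReduced_stage D c hc hoi i₀ hN
    obtain ⟨i₂, h₂⟩ := exists_irreducible_stage D c hc hoi i₀
    let k : Over i₀ := IsCofiltered.min (Over.mk a₁) i₂
    let b₁ : k ⟶ Over.mk a₁ := IsCofiltered.minToLeft _ _
    let b₂ : k ⟶ i₂ := IsCofiltered.minToRight _ _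
    refine ⟨k.left, k.hom, fun j g => ?_⟩
    have := h₁ j (g ≫ b₁.left)
    have := h₂ j (g ≫ b₂.left)
    exact isIntegral_of_irreducibleSpace_of_isReduced (D.obj j)
  · rintro ⟨i, -, h⟩
    exact isIntegral_of_stages D c hc hoi i h

end Groth.Agent.Lib.Helper9.OILim
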