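import Groth.Agent.Lib.Helper9.TopLim
set_option autoImplicit false
set_option linter.style.haveILetI false
set_option linter.unusedSectionVars false
universe u v w
open CategoryTheory CategoryTheory.Limits AlgebraicGeometry TopologicalSpace Opposite

namespace Groth.Agent.Lib.Helper9.OILim

variable {I : Type u} [SmallCategory I] [IsCofiltered I] (D : I ⥤ Scheme.{u})
  (c : Cone D) (hc : IsLimit c) [∀ {i j : I} (f : i ⟶ j), IsAffineHom (D.map f)]

include hc in
lemma ext_point (x y : c.pt) (h : ∀ i, c.π.app i x = c.π.app i y) : x = y := by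
  apply TopLim.injective_cmp D c hc
  apply Subtype.ext
  funext i
  exact h i

include hc in
lemma exists_point (u : ∀ i, D.obj i) (hu : ∀ {i j : I} (f : i ⟶ j), D.map f (u i) = u j) :
    ∃ x : c.pt, ∀ i, c.π.app i x = u i := by
  obtain ⟨x, hx⟩ := TopLim.surjective_cmp D c hc ⟨u, fun f => hu f⟩
  refine ⟨x, fun i => ?_⟩
  have := congrArg (fun w => w.val i) hx
  exact this

/-- the restriction of the diagram to `Over i` -/
abbrev DO (i : I) : Over i ⥤ Scheme.{u} := Over.forget i ⋙ D

instance (i : I) {j k : Over i} (f : j ⟶ k) : IsAffineHom ((DO D i).map f) :=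
  inferInstanceAs (IsAffineHom (D.map f.left))

abbrev cO (i : I) : Cone (DO D i) := c.whisker (Over.forget i)

noncomputable def hcO (i : I) : IsLimit (cO D c i) :=
  (Functor.Initial.isLimitWhiskerEquiv (Over.forget i) c).symm hc

variable (hoi : ∀ (i j : I) (φ : i ⟶ j), IsOpenImmersion (D.map φ))

include hc hoi in
lemma injective_π (i : I) : Function.Injective (c.π.app i) := by
  intro x y hxy
  apply ext_point D c hc
  intro j
  let k := IsCofiltered.min i j
  let a : k ⟶ i := IsCofiltered.minToLeft i j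
  let b : k ⟶ j := IsCofiltered.minToRight i j
  have hwa : ∀ w : c.pt, (D.map a) ((c.π.app k) w) = (c.π.app i) w := fun w => by
    rw [← Scheme.Hom.comp_apply, c.w]
  have hwb : ∀ w : c.pt, (D.map b) ((c.π.app k) w) = (c.π.app j) w := fun w => by
    rw [← Scheme.Hom.comp_apply, c.w]
  have := hoi k i a
  have h1 : (c.π.app k) x = (c.π.app k) y := by
    apply (D.map a).isOpenEmbedding.injective
    rw [hwa, hwa, hxy]
  rw [← hwb, ← hwb, h1]

include hc hoi in
lemma mono_π (i : I) : Mono (c.π.app i) := by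
  constructor
  intro Z f g hfg
  apply hc.hom_ext
  intro j
  let k := IsCofiltered.min i j
  let a : k ⟶ i := IsCofiltered.minToLeft i j
  let b : k ⟶ j := IsCofiltered.minToRight i j
  have := hoi k i a
  have h1 : f ≫ c.π.app k = g ≫ c.π.app k := by
    rw [← cancel_mono (D.map a), Category.assoc, Category.assoc, c.w, hfg]
  rw [← c.w b, reassoc_of% h1]

include hc hoi in
lemma isInducing_π (i : I) : Topology.IsInducing (c.π.app i) := by
  constructor
  apply le_antisymm
  · exact (c.π.app i).continuous.le_induced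
  · intro U hU
    have hB := isBasis_preimage_isAffineOpen D c hc
    rw [isOpen_induced_iff]
    have key : ∀ x ∈ U, ∃ W : Set (D.obj i),
        IsOpen W ∧ (c.π.app i) ⁻¹' W ⊆ U ∧ x ∈ (c.π.app i) ⁻¹' W := by
      intro x hxU
      obtain ⟨_, ⟨j, V, hV, rfl⟩, hxV, hVU⟩ :=
        (Opens.isBasis_iff_nbhd.mp hB) (show x ∈ (⟨U, hU⟩ : c.pt.Opens) from hxU)
      let k := IsCofiltered.min i j
      let a : k ⟶ i := IsCofiltered.minToLeft i j
      let b : k ⟶ j := IsCofiltered.minToRight i j
      have hwa : ∀ w : c.pt, (D.map a) ((c.π.app k) w) = (c.π.app i) w := fun w => by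
        rw [← Scheme.Hom.comp_apply, c.w]
      have hwb : ∀ w : c.pt, (D.map b) ((c.π.app k) w) = (c.π.app j) w := fun w => by
        rw [← Scheme.Hom.comp_apply, c.w]
      have := hoi k i a
      refine ⟨(D.map a) '' ((D.map b) ⁻¹' (V : Set (D.obj j))), ?_, ?_, ?_⟩
      · exact (D.map a).isOpenEmbedding.isOpenMap _ (V.isOpen.preimage (D.map b).continuous)
      · rintro z ⟨w, hw, hwz⟩
        apply hVU
        change (c.π.app j) z ∈ V
        rw [← hwa] at hwz
        have := (D.map a).isOpenEmbedding.injective hwz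
        rw [← hwb, ← this]
        exact hw
      · refine ⟨(c.π.app k) x, ?_, hwa x⟩
        change (D.map b) ((c.π.app k) x) ∈ V
        rw [hwb]; exact hxV
    choose W hWo hWU hxW using key
    refine ⟨⋃ x : U, W x.1 x.2, isOpen_iUnion fun x => hWo x.1 x.2, ?_⟩
    ext z
    simp only [Set.preimage_iUnion, Set.mem_iUnion]
    constructor
    · rintro ⟨x, hz⟩
      exact hWU x.1 x.2 hz
    · intro hz
      exact ⟨⟨z, hz⟩, hxW z hz⟩

include hc hoi in
lemma isEmbedding_π (i : I) : Topology.IsEmbedding (c.π.app i) :=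
  ⟨isInducing_π D c hc hoi i, injective_π D c hc hoi i⟩

include hc hoi in
lemma mem_range_π (i : I) (t : D.obj i) (ht : ∀ j : Over i, t ∈ Set.range (D.map j.hom)) :
    t ∈ Set.range (c.π.app i) := by
  choose u hu using ht
  have hinj : ∀ j : Over i, Function.Injective (D.map j.hom) := fun j => by
    have := hoi j.left i j.hom
    exact (D.map j.hom).isOpenEmbedding.injective
  obtain ⟨x, hx⟩ := exists_point (DO D i) (cO D c i) (hcO D c hc i) u (by
    intro j k f
    apply hinj k
    rw [hu k]
    change (D.map k.hom) ((D.map f.left) (u j)) = t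
    rw [← Scheme.Hom.comp_apply, ← D.map_comp, Over.w f, hu j])
  refine ⟨x, ?_⟩
  have h1 := hx (Over.mk (𝟙 i))
  have h2 := hu (Over.mk (𝟙 i))
  change (c.π.app i) x = u (Over.mk (𝟙 i)) at h1
  rw [h1]
  change (D.map (𝟙 i)) (u (Over.mk (𝟙 i))) = t at h2
  rw [D.map_id] at h2
  exact h2

omit [IsCofiltered I] [∀ {i j : I} (f : i ⟶ j), IsAffineHom (D.map f)] in
lemma range_π_subset (i : I) (j : Over i) :
    Set.range (c.π.app i) ⊆ Set.range (D.map j.hom) := by
  rintro _ ⟨x, rfl⟩
  exact ⟨c.π.app j.left x, by rw [← Scheme.Hom.comp_apply, c.w]⟩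

lemma exists_of_closedPoint_eq {X : Scheme.{u}} {R : CommRingCat.{u}} [IsLocalRing R]
    (f : Spec R ⟶ X) (x : X) (h : f (IsLocalRing.closedPoint R) = x) :
    ∃ ψ : X.presheaf.stalk x ⟶ R, Spec.map ψ ≫ X.fromSpecStalk x = f := by
  subst h
  exact ⟨_, Scheme.Spec_stalkClosedPointTo_fromSpecStalk f⟩

include hc hoi in
theorem isIso_stalkMap (i : I) (s : c.pt) : IsIso ((c.π.app i).stalkMap s) := by
  let p : c.pt ⟶ D.obj i := c.π.app i
  let t : D.obj i := p s
  let A : CommRingCat.{u} := (D.obj i).presheaf.stalk t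
  let B : CommRingCat.{u} := c.pt.presheaf.stalk s
  let φ : A ⟶ B := p.stalkMap s
  let α : Spec A ⟶ D.obj i := (D.obj i).fromSpecStalk t
  let β : Spec B ⟶ c.pt := c.pt.fromSpecStalk s
  have hφ : Spec.map φ ≫ α = β ≫ p := Scheme.SpecMap_stalkMap_fromSpecStalk (f := p) (x := s)
  have hmono : Mono p := mono_π D c hc hoi i
  -- lifts of α through the open immersions
  have hrange : ∀ j : Over i, Set.range α ⊆ Set.range (D.map j.hom) := by
    intro j
    have := hoi j.left i j.hom
    rw [Scheme.range_fromSpecStalk]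
    intro y (hy : y ⤳ t)
    have hopen : IsOpen (Set.range (D.map j.hom)) := (D.map j.hom).isOpenEmbedding.isOpen_range
    exact hy.mem_open hopen (range_π_subset D c i j ⟨s, rfl⟩)
  have hoi' : ∀ j : Over i, IsOpenImmersion (D.map j.hom) := fun j => hoi j.left i j.hom
  let l : ∀ j : Over i, Spec A ⟶ D.obj j.left := fun j =>
    IsOpenImmersion.lift (D.map j.hom) α (hrange j)
  have hl : ∀ j : Over i, l j ≫ D.map j.hom = α := fun j =>
    IsOpenImmersion.lift_fac (D.map j.hom) α (hrange j)
  let cone : Cone (DO D i) :=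
    { pt := Spec A
      π := { app := fun j => l j
             naturality := by
              intro j k f
              simp only [Functor.const_obj_obj, Functor.const_obj_map, Category.id_comp]
              change l k = l j ≫ D.map f.left
              rw [← cancel_mono (D.map k.hom), hl k]
              change α = (l j ≫ D.map f.left) ≫ D.map k.hom
              rw [Category.assoc, ← D.map_comp, Over.w f, hl j] } }
  let σ : Spec A ⟶ c.pt := (hcO D c hc i).lift cone
  have hσ : σ ≫ p = α := by
    have h1 : σ ≫ (cO D c i).π.app (Over.mk (𝟙 i)) = l (Over.mk (𝟙 i)) :=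
      (hcO D c hc i).fac cone (Over.mk (𝟙 i))
    have h2 : l (Over.mk (𝟙 i)) = α := by
      have h3 := hl (Over.mk (𝟙 i))
      have h4 : D.map (Over.mk (𝟙 i)).hom = 𝟙 _ := D.map_id i
      rw [h4] at h3
      exact h3
    rw [← h2, ← h1]
    rfl
  have hβ : β = Spec.map φ ≫ σ := by
    rw [← cancel_mono p, Category.assoc, hσ, hφ]
  have hcl : σ (IsLocalRing.closedPoint A) = s := by
    apply injective_π D c hc hoi i
    change p (σ (IsLocalRing.closedPoint A)) = p s
    rw [← Scheme.Hom.comp_apply, hσ]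
    exact Scheme.fromSpecStalk_closedPoint
  obtain ⟨ψ, hψ⟩ := exists_of_closedPoint_eq σ s hcl
  have h1 : ψ ≫ φ = 𝟙 B := by
    apply Spec.map_injective
    rw [Spec.map_comp, Spec.map_id, ← cancel_mono β, Category.assoc, Category.id_comp]
    change Spec.map φ ≫ Spec.map ψ ≫ c.pt.fromSpecStalk s = β
    rw [hψ, ← hβ]
  have h2 : φ ≫ ψ = 𝟙 A := by
    apply Spec.map_injective
    rw [Spec.map_comp, Spec.map_id, ← cancel_mono α, Category.assoc, Category.id_comp, hφ]
    change Spec.map ψ ≫ c.pt.fromSpecStalk s ≫ p = α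
    rw [reassoc_of% hψ, hσ]
  exact ⟨ψ, h2, h1⟩

include hc hoi in
theorem main (i : I) :
    Topology.IsEmbedding ⇑(c.π.app i) ∧ ∀ s : c.pt, IsIso ((c.π.app i).stalkMap s) :=
  ⟨isEmbedding_π D c hc hoi i, isIso_stalkMap D c hc hoi i⟩

end Groth.Agent.Lib.Helper9.OILim
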