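import Groth.Agent.Lib.Helper9.OILim
set_option autoImplicit false
set_option linter.style.haveILetI false
set_option linter.unusedSectionVars false
universe u v w
open CategoryTheory CategoryTheory.Limits AlgebraicGeometry TopologicalSpace Opposite

namespace Groth.Agent.Lib.Helper9.OILim

/-- a localization killing a generating set of the nilradical is reduced -/
lemma isReduced_of_isLocalization {R T : Type*} [CommRing R] [CommRing T] [Algebra R T]
    (M : Submonoid R) [IsLocalization M T] (G : Set R) (hG : Ideal.span G = nilradical R)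
    (h0 : ∀ a ∈ G, algebraMap R T a = 0) : IsReduced T := by
  constructor
  intro x hx
  obtain ⟨r, s, rfl⟩ := IsLocalization.exists_mk'_eq M x
  obtain ⟨n, hn⟩ := hx
  rw [← IsLocalization.mk'_pow, IsLocalization.mk'_eq_zero_iff] at hn
  obtain ⟨m, hm⟩ := hn
  have h1 : ((m : R) * r) ^ (n + 1) = 0 := by
    rw [mul_pow, pow_succ r, pow_succ (m : R)]
    calc (m : R) ^ n * m * (r ^ n * r) = (m : R) ^ n * r * ((m : R) * r ^ n) := by ring
      _ = 0 := by rw [hm, mul_zero]
  have h2 : (m : R) * r ∈ nilradical R := mem_nilradical.2 ⟨n + 1, h1⟩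
  rw [← hG] at h2
  have h3 : Ideal.span G ≤ RingHom.ker (algebraMap R T) := by
    rw [Ideal.span_le]
    intro a ha
    exact h0 a ha
  have h4 : algebraMap R T ((m : R) * r) = 0 := h3 h2
  rw [IsLocalization.map_eq_zero_iff M] at h4
  obtain ⟨m', hm'⟩ := h4
  rw [IsLocalization.mk'_eq_zero_iff]
  exact ⟨m' * m, by rw [Submonoid.coe_mul, mul_assoc]; exact hm'⟩

lemma app_eq_zero_of_comp {X Y Z : Scheme.{u}} (f : X ⟶ Y) (g : Y ⟶ Z) (φ : X ⟶ Z)
    (hφ : φ = f ≫ g) (U : Z.Opens) (a : Γ(Z, U)) (h : g.app U a = 0) : φ.app U a = 0 := by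
  subst hφ
  rw [Scheme.Hom.comp_app]
  change (f.app (g ⁻¹ᵁ U)) ((g.app U) a) = 0
  rw [h, map_zero]

/-- the stalk of the source of an open immersion is reduced if a generating set of the nilradical
of an affine open neighbourhood of the image dies -/
lemma isReduced_stalk_of_app_eq_zero {X Y : Scheme.{u}} (f : X ⟶ Y) [IsOpenImmersion f] (x : X)
    (U : Y.Opens) (hU : IsAffineOpen U) (hx : f x ∈ U) (G : Set Γ(Y, U))
    (hG : Ideal.span G = nilradical Γ(Y, U)) (h0 : ∀ a ∈ G, f.app U a = 0) :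
    _root_.IsReduced (X.presheaf.stalk x) := by
  letI := Y.presheaf.algebra_section_stalk ⟨f x, hx⟩
  haveI := hU.isLocalization_stalk ⟨f x, hx⟩
  have hinj : Function.Injective (f.stalkMap x).hom :=
    ((ConcreteCategory.isIso_iff_bijective (f.stalkMap x)).1 inferInstance).1
  have h1 : _root_.IsReduced (Y.presheaf.stalk (f x)) := by
    apply isReduced_of_isLocalization (R := Γ(Y, U)) (hU.primeIdealOf ⟨f x, hx⟩).asIdeal.primeCompl
      G hG
    intro a ha
    change Y.presheaf.germ U (f x) hx a = 0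
    apply hinj
    rw [map_zero]
    change f.stalkMap x (Y.presheaf.germ U (f x) hx a) = 0
    rw [Scheme.Hom.germ_stalkMap_apply, h0 a ha, map_zero]
  exact isReduced_of_injective (inv (f.stalkMap x)).hom
    ((ConcreteCategory.isIso_iff_bijective (inv (f.stalkMap x))).1 inferInstance).1

variable {I : Type u} [SmallCategory I] [IsCofiltered I] (D : I ⥤ Scheme.{u})
  (c : Cone D) (hc : IsLimit c) [∀ {i j : I} (f : i ⟶ j), IsAffineHom (D.map f)]
  (hoi : ∀ (i j : I) (φ : i ⟶ j), IsOpenImmersion (D.map φ))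

include hc hoi in
theorem isReduced_of_stage (i : I) [IsReduced (D.obj i)] : IsReduced c.pt := by
  apply +allowSynthFailures isReduced_of_isReduced_stalk
  intro s
  have := isIso_stalkMap D c hc hoi i s
  exact isReduced_of_injective (inv ((c.π.app i).stalkMap s)).hom
    ((ConcreteCategory.isIso_iff_bijective (inv ((c.π.app i).stalkMap s))).1 inferInstance).1

include hc hoi in
theorem exists_isReduced_stage (i₀ : I) [CompactSpace (D.obj i₀)]
    (hN : ∀ U : (D.obj i₀).affineOpens, (nilradical Γ(D.obj i₀, U)).FG) [IsReduced c.pt] :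
    ∃ (i : I) (_ : i ⟶ i₀), ∀ (j : I) (_ : j ⟶ i), IsReduced (D.obj j) := by
  classical
  obtain ⟨S, hSfin, hScov⟩ :=
    (isCompact_and_isOpen_iff_finite_and_eq_biUnion_affineOpens (X := D.obj i₀)
      (U := Set.univ)).1 ⟨isCompact_univ, isOpen_univ⟩
  choose G hG using hN
  have key : ∀ (U : (D.obj i₀).affineOpens) (a : Γ(D.obj i₀, U)), a ∈ G U →
      ∃ j : Over i₀, (D.map j.hom).app U a = 0 := by
    intro U a ha
    have h1 : a ∈ nilradical Γ(D.obj i₀, U) := by
      rw [← hG U]; exact Ideal.subset_span ha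
    let p : c.pt ⟶ D.obj i₀ := c.π.app i₀
    have h2 : IsNilpotent (p.app U a) := (mem_nilradical.1 h1).map _
    have h3 : p.app U a = 0 := h2.eq_zero
    obtain ⟨j, f, hj⟩ := exists_app_map_eq_zero_of_isLimit D c hc U.2.isCompact a h3
    exact ⟨Over.mk f, hj⟩
  choose jj hjj using key
  let O : Finset (Over i₀) := hSfin.toFinset.biUnion
    (fun U => (G U).attach.image (fun a => jj U a.1 a.2))
  obtain ⟨i, hi⟩ := IsCofiltered.inf_objs_exists O
  refine ⟨i.left, i.hom, fun j g => ?_⟩
  have := hoi j i₀ (g ≫ i.hom)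
  apply +allowSynthFailures isReduced_of_isReduced_stalk
  intro x
  have hx : (D.map (g ≫ i.hom)) x ∈ (Set.univ : Set (D.obj i₀)) := Set.mem_univ _
  rw [hScov] at hx
  simp only [Set.mem_iUnion] at hx
  obtain ⟨U, hUS, hxU⟩ := hx
  apply isReduced_stalk_of_app_eq_zero (D.map (g ≫ i.hom)) x U.1 U.2 hxU (G U : Set _) (hG U)
  intro a ha
  have hmem : jj U a ha ∈ O := by
    simp only [O, Finset.mem_biUnion, Finset.mem_image, Finset.mem_attach, true_and]
    exact ⟨U, hSfin.mem_toFinset.2 hUS, ⟨a, ha⟩, rfl⟩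
  obtain ⟨h⟩ := hi hmem
  apply app_eq_zero_of_comp (D.map (g ≫ h.left)) (D.map (jj U a ha).hom) _ _ U.1 a (hjj U a ha)
  rw [← D.map_comp, Category.assoc, Over.w h]

include hc hoi in
theorem isReduced_iff (i₀ : I) [CompactSpace (D.obj i₀)]
    (hN : ∀ U : (D.obj i₀).affineOpens, (nilradical Γ(D.obj i₀, U)).FG) :
    IsReduced c.pt ↔ ∃ (i : I) (_ : i ⟶ i₀), ∀ (j : I) (_ : j ⟶ i), IsReduced (D.obj j) := by
  constructor
  · intro h
    exact exists_isReduced_stage D c hc hoi i₀ hN
  · rintro ⟨i, -, h⟩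
    have := h i (𝟙 i)
    exact isReduced_of_stage D c hc hoi i

end Groth.Agent.Lib.Helper9.OILim
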