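import Mathlib.CategoryTheory.Localization.CalculusOfFractions
import Mathlib.CategoryTheory.Comma.Over.Basic
import Mathlib.CategoryTheory.ObjectProperty.FullSubcategory

set_option autoImplicit false
universe v₁ v₂ v₃ u₁ u₂ u₃
open CategoryTheory

namespace Groth.Agent.Lib.Helper9.OverLocSub

variable {C : Type u₁} [Category.{v₁} C]

section Inst

variable (W : MorphismProperty C) [W.HasRightCalculusOfFractions] (S : C)
  (P : ObjectProperty (Over S))

/-- the class of morphisms of the full subcategory of the slice whose underlying morphism is in `W` -/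
abbrev WP : MorphismProperty P.FullSubcategory :=
  (W.inverseImage (Over.forget S)).inverseImage P.ι

variable {W S P}

theorem hasRightCalculus (hP : ∀ {a' a : Over S} (s : a' ⟶ a), W s.left → P a → P a') :
    (WP W S P).HasRightCalculusOfFractions where
  exists_rightFraction a b φ := by
    obtain ⟨ψ, hψ⟩ := (MorphismProperty.LeftFraction.mk (W := W) φ.f.hom.left φ.s.hom.left
      φ.hs).exists_rightFraction
    have hw : ψ.f ≫ b.obj.hom = ψ.s ≫ a.obj.hom := by
      rw [← Over.w φ.s.hom, ← Over.w φ.f.hom]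
      rw [← Category.assoc, ← Category.assoc]
      exact congrArg (· ≫ _) hψ.symm
    let a' : Over S := Over.mk (ψ.s ≫ a.obj.hom)
    let s' : a' ⟶ a.obj := Over.homMk ψ.s rfl
    have ha' : P a' := hP s' ψ.hs a.property
    refine ⟨MorphismProperty.RightFraction.mk (X' := ⟨a', ha'⟩) (ObjectProperty.homMk s') ψ.hs
      (ObjectProperty.homMk (Over.homMk ψ.f hw)), ?_⟩
    apply ObjectProperty.hom_ext
    ext
    exact hψ
  ext a b b' f₁ f₂ s hs h := by
    have h' : f₁.hom.left ≫ s.hom.left = f₂.hom.left ≫ s.hom.left := by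
      rw [← Over.comp_left, ← Over.comp_left, ← ObjectProperty.FullSubcategory.comp_hom,
        ← ObjectProperty.FullSubcategory.comp_hom, h]
    obtain ⟨X', t, ht, hh⟩ :=
      MorphismProperty.HasRightCalculusOfFractions.ext f₁.hom.left f₂.hom.left s.hom.left hs h'
    let a' : Over S := Over.mk (t ≫ a.obj.hom)
    let t' : a' ⟶ a.obj := Over.homMk t rfl
    have ha' : P a' := hP t' ht a.property
    refine ⟨⟨a', ha'⟩, ObjectProperty.homMk t', ht, ?_⟩
    apply ObjectProperty.hom_ext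
    ext
    exact hh

end Inst

section Main

variable {D : Type u₂} [Category.{v₂} D] {E : Type u₃} [Category.{v₃} E]

lemma Φ_map_L' {S : C} {P : ObjectProperty (Over S)} (L : C ⥤ D) (L' : P.FullSubcategory ⥤ E)
    (Φ : E ⥤ Over (L.obj S)) (e : L' ⋙ Φ ≅ P.ι ⋙ Over.post L) {x y : P.FullSubcategory}
    (h : x ⟶ y) :
    Φ.map (L'.map h) = (e.app x).hom ≫ (Over.post L).map h.hom ≫ (e.app y).inv := by
  have := e.hom.naturality h
  simp only [Functor.comp_map] at this
  rw [← Category.assoc, Iso.app_hom]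
  change _ = (e.hom.app x ≫ (Over.post L).map (P.ι.map h)) ≫ _
  rw [← this, Category.assoc]
  simp

variable (W : MorphismProperty C) [W.HasRightCalculusOfFractions] {S : C}
  {P : ObjectProperty (Over S)}
  (hP : ∀ {a' a : Over S} (s : a' ⟶ a), W s.left → P a → P a')
  (L : C ⥤ D) [L.IsLocalization W] (L' : P.FullSubcategory ⥤ E) [L'.IsLocalization (WP W S P)]
  (Φ : E ⥤ Over (L.obj S)) (e : L' ⋙ Φ ≅ P.ι ⋙ Over.post L)

include hP L e in
/-- (A): `Φ ∘ L'` detects equality of images under `L'` -/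
lemma L'_map_eq_of_Φ {x y : P.FullSubcategory} (g g' : x ⟶ y)
    (h : Φ.map (L'.map g) = Φ.map (L'.map g')) : L'.map g = L'.map g' := by
  rw [Φ_map_L' L L' Φ e, Φ_map_L' L L' Φ e] at h
  have h1 : (Over.post L).map g.hom = (Over.post L).map g'.hom := by
    have := congrArg (fun k => (e.app x).inv ≫ k ≫ (e.app y).hom) h
    simpa using this
  have h2 : L.map g.hom.left = L.map g'.hom.left := congrArg (fun k => k.left) h1
  obtain ⟨X', t, ht, hh⟩ := (MorphismProperty.map_eq_iff_precomp L W g.hom.left g'.hom.left).1 h2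
  let a' : Over S := Over.mk (t ≫ x.obj.hom)
  let t₀ : a' ⟶ x.obj := Over.homMk t rfl
  have ha' : P a' := hP t₀ ht x.property
  let t' : (⟨a', ha'⟩ : P.FullSubcategory) ⟶ x := ObjectProperty.homMk t₀
  have ht' : WP W S P t' := ht
  have h3 : t' ≫ g = t' ≫ g' := by
    apply ObjectProperty.hom_ext
    ext
    exact hh
  haveI : IsIso (L'.map t') := Localization.inverts L' (WP W S P) t' ht'
  rw [← cancel_epi (L'.map t'), ← L'.map_comp, ← L'.map_comp, h3]

include hP in
lemma exists_fraction {a b : P.FullSubcategory} (f : L'.obj a ⟶ L'.obj b) :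
    ∃ (a' : P.FullSubcategory) (s : a' ⟶ a) (_ : WP W S P s) (g : a' ⟶ b),
      L'.map s ≫ f = L'.map g := by
  haveI := hasRightCalculus (W := W) (S := S) (P := P) hP
  obtain ⟨φ, hφ⟩ := Localization.exists_rightFraction L' (WP W S P) f
  refine ⟨_, φ.s, φ.hs, φ.f, ?_⟩
  rw [hφ]
  exact φ.map_s_comp_map L' _

include hP L e in
lemma faithful_aux {a b : P.FullSubcategory} (f₁ f₂ : L'.obj a ⟶ L'.obj b)
    (h : Φ.map f₁ = Φ.map f₂) : f₁ = f₂ := by
  haveI := hasRightCalculus (W := W) (S := S) (P := P) hP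
  obtain ⟨a₁, s₁, hs₁, g₁, h₁⟩ := exists_fraction W hP L' f₁
  obtain ⟨a₃, s₃, hs₃, g₃, h₃⟩ := exists_fraction W hP L' (L'.map s₁ ≫ f₂)
  have hs : WP W S P (s₃ ≫ s₁) := (WP W S P).comp_mem _ _ hs₃ hs₁
  haveI : IsIso (L'.map (s₃ ≫ s₁)) := Localization.inverts L' (WP W S P) _ hs
  have e1 : L'.map (s₃ ≫ s₁) ≫ f₂ = L'.map g₃ := by
    rw [L'.map_comp, Category.assoc, h₃]
  have e2 : L'.map (s₃ ≫ s₁) ≫ f₁ = L'.map (s₃ ≫ g₁) := by
    rw [L'.map_comp, Category.assoc, h₁, ← L'.map_comp]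
  have e3 : Φ.map (L'.map g₃) = Φ.map (L'.map (s₃ ≫ g₁)) := by
    rw [← e1, ← e2, Φ.map_comp, Φ.map_comp, h]
  have e4 := L'_map_eq_of_Φ W hP L L' Φ e _ _ e3
  rw [← cancel_epi (L'.map (s₃ ≫ s₁)), e1, e2, e4]

include hP L e in
lemma full_aux {a b : P.FullSubcategory} (g : Φ.obj (L'.obj a) ⟶ Φ.obj (L'.obj b)) :
    ∃ f : L'.obj a ⟶ L'.obj b, Φ.map f = g := by
  let g' : (Over.post L).obj a.obj ⟶ (Over.post L).obj b.obj := (e.app a).inv ≫ g ≫ (e.app b).hom
  let gl : L.obj a.obj.left ⟶ L.obj b.obj.left := g'.left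
  obtain ⟨φ, hφ⟩ := Localization.exists_rightFraction L W gl
  have h1 : L.map φ.s ≫ gl = L.map φ.f := by
    rw [hφ]; exact φ.map_s_comp_map L _
  have hw : gl ≫ L.map b.obj.hom = L.map a.obj.hom := Over.w g'
  have h2 : L.map (φ.f ≫ b.obj.hom) = L.map (φ.s ≫ a.obj.hom) := by
    rw [L.map_comp, L.map_comp, ← h1, Category.assoc, hw]
  obtain ⟨X'', t, ht, hh⟩ := (MorphismProperty.map_eq_iff_precomp L W _ _).1 h2
  let a₀ : Over S := Over.mk (t ≫ φ.s ≫ a.obj.hom)
  let s₀ : a₀ ⟶ a.obj := Over.homMk (t ≫ φ.s) (by simp [a₀])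
  have hs₀ : W s₀.left := W.comp_mem _ _ ht φ.hs
  have ha₀ : P a₀ := hP s₀ hs₀ a.property
  let a'' : P.FullSubcategory := ⟨a₀, ha₀⟩
  let s'' : a'' ⟶ a := ObjectProperty.homMk s₀
  let f'' : a'' ⟶ b := ObjectProperty.homMk (Over.homMk (t ≫ φ.f) (by rw [Category.assoc]; exact hh))
  have hs'' : WP W S P s'' := hs₀
  haveI : IsIso (L'.map s'') := Localization.inverts L' (WP W S P) s'' hs''
  have h3 : (Over.post L).map f''.hom = (Over.post L).map s''.hom ≫ g' := by
    ext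
    show L.map (t ≫ φ.f) = L.map (t ≫ φ.s) ≫ gl
    rw [L.map_comp, L.map_comp, Category.assoc, h1]
  refine ⟨inv (L'.map s'') ≫ L'.map f'', ?_⟩
  haveI : IsIso (Φ.map (L'.map s'')) := inferInstance
  rw [← cancel_epi (Φ.map (L'.map s'')), ← Φ.map_comp, IsIso.hom_inv_id_assoc,
    Φ_map_L' L L' Φ e, Φ_map_L' L L' Φ e, h3]
  simp [g']

include hP L e in
theorem full_and_faithful : Φ.Full ∧ Φ.Faithful := by
  haveI := hasRightCalculus (W := W) (S := S) (P := P) hP
  haveI : L'.EssSurj := Localization.essSurj L' (WP W S P)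
  refine ⟨⟨fun {X Y} g => ?_⟩, ⟨fun {X Y} f₁ f₂ h => ?_⟩⟩
  · let iX := L'.objObjPreimageIso X
    let iY := L'.objObjPreimageIso Y
    obtain ⟨f, hf⟩ := full_aux W hP L L' Φ e (Φ.map iX.hom ≫ g ≫ Φ.map iY.inv)
    refine ⟨iX.inv ≫ f ≫ iY.hom, ?_⟩
    rw [Φ.map_comp, Φ.map_comp, hf]
    simp only [Category.assoc, ← Φ.map_comp, Iso.inv_hom_id, Φ.map_id, Category.comp_id]
    rw [← Category.assoc, ← Φ.map_comp, Iso.inv_hom_id, Φ.map_id, Category.id_comp]
  · let iX := L'.objObjPreimageIso X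
    let iY := L'.objObjPreimageIso Y
    have := faithful_aux W hP L L' Φ e (iX.hom ≫ f₁ ≫ iY.inv) (iX.hom ≫ f₂ ≫ iY.inv)
      (by simp only [Φ.map_comp, h])
    rwa [cancel_epi, cancel_mono] at this

end Main

end Groth.Agent.Lib.Helper9.OverLocSub
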