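import Mathlib.Algebra.CharP.Lemmas
import Mathlib.RingTheory.IntegralClosure.IsIntegral.Basic
import Mathlib.RingTheory.Finiteness.Basic

/-!
# The subring of `p`-radicial elements over a subring
-/

set_option autoImplicit false
set_option linter.style.haveILetI false

namespace Groth.Agent.Lib.Helper9.PRad

variable {B : Type*} [CommRing B] (R : Subring B) (p : ℕ)

/-- `b` is `p`-radicial over `R`: some `p^n b` and `b^(p^n)` lie in `R`. -/
def IsPRad (b : B) : Prop := ∃ n : ℕ, (p ^ n : B) * b ∈ R ∧ b ^ (p ^ n) ∈ R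

variable {R p}

theorem mono {b : B} {n N : ℕ} (hN : n ≤ N) (h1 : (p ^ n : B) * b ∈ R) (h2 : b ^ (p ^ n) ∈ R) :
    (p ^ N : B) * b ∈ R ∧ b ^ (p ^ N) ∈ R := by
  obtain ⟨d, rfl⟩ := Nat.exists_eq_add_of_le hN
  constructor
  · have : (p ^ (n + d) : B) * b = (p : B) ^ d * ((p ^ n : B) * b) := by ring
    rw [this]
    exact Subring.mul_mem _ (Subring.pow_mem _ (natCast_mem R p) _) h1
  · rw [pow_add, pow_mul]
    exact Subring.pow_mem _ h2 _

theorem isPRad_of_mem {b : B} (hb : b ∈ R) : IsPRad R p b :=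
  ⟨0, by simpa using hb, by simpa using hb⟩

theorem isPRad_mul {b c : B} (hb : IsPRad R p b) (hc : IsPRad R p c) : IsPRad R p (b * c) := by
  obtain ⟨n₁, hb1, hb2⟩ := hb
  obtain ⟨n₂, hc1, hc2⟩ := hc
  obtain ⟨hb1', hb2'⟩ := mono (le_max_left n₁ n₂) hb1 hb2
  obtain ⟨hc1', hc2'⟩ := mono (le_max_right n₁ n₂) hc1 hc2
  set n := max n₁ n₂
  refine ⟨n + n, ?_, ?_⟩
  · have : (p ^ (n + n) : B) * (b * c) = ((p ^ n : B) * b) * ((p ^ n : B) * c) := by ring
    rw [this]
    exact Subring.mul_mem _ hb1' hc1'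
  · rw [mul_pow]
    exact Subring.mul_mem _ (mono (Nat.le_add_right n n) hb1' hb2').2
      (mono (Nat.le_add_right n n) hc1' hc2').2

theorem isPRad_neg {b : B} (hb : IsPRad R p b) : IsPRad R p (-b) := by
  have : -b = (-1 : B) * b := by ring
  rw [this]
  exact isPRad_mul (isPRad_of_mem (Subring.neg_mem _ (Subring.one_mem _))) hb


/-- A uniform power of `p` multiplying a finitely generated submodule into `R`. -/
theorem exists_pow_mul_mem_of_fg (hpow : ∀ b : B, ∃ k : ℕ, (p ^ k : B) * b ∈ R)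
    (N : Submodule R B) (hN : N.FG) : ∃ M : ℕ, ∀ s ∈ N, (p ^ M : B) * s ∈ R := by
  classical
  obtain ⟨G, hG⟩ := hN
  choose k hk using hpow
  refine ⟨G.sup k, ?_⟩
  let N' : Submodule R B :=
    { carrier := {s | (p ^ G.sup k : B) * s ∈ R}
      add_mem' := fun {x y} hx hy => by
        change (p ^ G.sup k : B) * (x + y) ∈ R
        rw [mul_add]
        exact Subring.add_mem _ hx hy
      zero_mem' := by
        change (p ^ G.sup k : B) * 0 ∈ R
        rw [mul_zero]
        exact Subring.zero_mem _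
      smul_mem' := fun r x hx => by
        change (p ^ G.sup k : B) * ((r : B) * x) ∈ R
        rw [mul_left_comm]
        exact Subring.mul_mem _ r.2 hx }
  have hGN : (G : Set B) ⊆ N' := by
    intro g hg
    change (p ^ G.sup k : B) * g ∈ R
    obtain ⟨d, hd⟩ := Nat.exists_eq_add_of_le (Finset.le_sup (f := k) hg)
    rw [hd, pow_add, mul_right_comm]
    exact Subring.mul_mem _ (hk g) (Subring.pow_mem _ (natCast_mem R p) _)
  intro s hs
  have : N ≤ N' := hG ▸ Submodule.span_le.mpr hGN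
  exact this hs

theorem isPRad_add (hp : p.Prime) (hpow : ∀ b : B, ∃ k : ℕ, (p ^ k : B) * b ∈ R) {b c : B}
    (hb : IsPRad R p b) (hc : IsPRad R p c) : IsPRad R p (b + c) := by
  obtain ⟨n₁, hb1, hb2⟩ := hb
  obtain ⟨n₂, hc1, hc2⟩ := hc
  obtain ⟨hb1', hb2'⟩ := mono (le_max_left n₁ n₂) hb1 hb2
  obtain ⟨hc1', hc2'⟩ := mono (le_max_right n₁ n₂) hc1 hc2
  set n := max n₁ n₂
  have hppos : 0 < p ^ n := Nat.pos_of_ne_zero (pow_ne_zero _ hp.ne_zero)
  have hbint : IsIntegral R b := by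
    apply IsIntegral.of_pow hppos
    exact (isIntegral_algebraMap (R := R) (x := ⟨_, hb2'⟩))
  have hcint : IsIntegral R c := by
    apply IsIntegral.of_pow hppos
    exact (isIntegral_algebraMap (R := R) (x := ⟨_, hc2'⟩))
  set S : Subalgebra R B := Algebra.adjoin R {b, c} with hS
  have hfg : S.toSubmodule.FG := by
    apply fg_adjoin_of_finite (Set.toFinite _)
    intro x hx
    rcases hx with rfl | rfl
    exacts [hbint, hcint]
  obtain ⟨M, hM⟩ := exists_pow_mul_mem_of_fg hpow S.toSubmodule hfg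
  have hbS : b ∈ S := Algebra.subset_adjoin (by simp)
  have hcS : c ∈ S := Algebra.subset_adjoin (by simp)
  have hRS : ∀ r ∈ R, r ∈ S := fun r hr => S.algebraMap_mem ⟨r, hr⟩
  have key : ∀ m : ℕ, ∃ a ∈ R, ∃ z ∈ S, (b + c) ^ (p ^ (n + m)) = a + (p ^ (m + 1) : B) * z := by
    intro m
    induction m with
    | zero =>
      obtain ⟨r, hr⟩ := exists_add_pow_prime_pow_eq hp (⟨b, hbS⟩ : S) ⟨c, hcS⟩ n
      have hr' := congrArg Subtype.val hr
      simp only [Subalgebra.coe_add, Subalgebra.coe_pow, Subalgebra.coe_mul,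
        SubringClass.coe_natCast] at hr'
      refine ⟨b ^ p ^ n + c ^ p ^ n, Subring.add_mem _ hb2' hc2', b * c * r,
        S.mul_mem (S.mul_mem hbS hcS) r.2, ?_⟩
      rw [Nat.add_zero, hr']
      ring
    | succ m ih =>
      obtain ⟨a, ha, z, hz, h⟩ := ih
      obtain ⟨r, hr⟩ := exists_add_pow_prime_eq hp (⟨a, hRS a ha⟩ : S)
        ⟨(p ^ (m + 1) : B) * z, S.mul_mem (S.pow_mem (natCast_mem S p) _) hz⟩
      have hr' := congrArg Subtype.val hr
      simp only [Subalgebra.coe_add, Subalgebra.coe_pow, Subalgebra.coe_mul,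
        SubringClass.coe_natCast] at hr'
      have h2 : m + 2 ≤ (m + 1) * p := by
        have := hp.two_le
        nlinarith
      obtain ⟨d, hd⟩ := Nat.exists_eq_add_of_le h2
      refine ⟨a ^ p, Subring.pow_mem _ ha _, (p : B) ^ d * z ^ p + a * z * r,
        S.add_mem (S.mul_mem (S.pow_mem (natCast_mem S p) _) (S.pow_mem hz _))
          (S.mul_mem (S.mul_mem (hRS a ha) hz) r.2), ?_⟩
      have h3 : (b + c) ^ p ^ (n + (m + 1)) = ((b + c) ^ p ^ (n + m)) ^ p := by
        rw [← pow_mul, ← pow_succ]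
        rfl
      rw [h3, h, hr', mul_pow, ← pow_mul, hd]
      ring
  obtain ⟨a, ha, z, hz, h⟩ := key M
  have hfin2 : (b + c) ^ p ^ (n + M) ∈ R := by
    rw [h]
    refine Subring.add_mem _ ha ?_
    rw [pow_succ, mul_right_comm]
    exact Subring.mul_mem _ (hM z hz) (natCast_mem R p)
  have hfin1 : (p ^ (n + M) : B) * (b + c) ∈ R := by
    rw [mul_add]
    exact Subring.add_mem _ (mono (Nat.le_add_right n M) hb1' hb2').1
      (mono (Nat.le_add_right n M) hc1' hc2').1
  exact ⟨n + M, hfin1, hfin2⟩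

end Groth.Agent.Lib.Helper9.PRad
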