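import Groth.Agent.Lib.Helper9.PRad
import Groth.Agent.Lib.Helper9.Towers3

/-!
# Stacks 0CNE: universal homeomorphisms that are isomorphisms away from `p`
-/

set_option autoImplicit false
set_option linter.style.haveILetI false
universe u
open CategoryTheory AlgebraicGeometry

namespace Groth.Agent.Lib.Helper9.PRad

open Groth.Agent.Lib.Helper9.UnivHomeoRing Groth.Agent.Lib.Helper9.Conductor
  Groth.Agent.Lib.Helper9.Towers

section
variable {B : Type*} [CommRing B] {R : Subring B} {p : ℕ}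

theorem mono_mul {b : B} {n N : ℕ} (hN : n ≤ N) (h1 : (p ^ n : B) * b ∈ R) :
    (p ^ N : B) * b ∈ R := by
  obtain ⟨d, rfl⟩ := Nat.exists_eq_add_of_le hN
  have : (p ^ (n + d) : B) * b = (p : B) ^ d * ((p ^ n : B) * b) := by ring
  rw [this]
  exact Subring.mul_mem _ (Subring.pow_mem _ (natCast_mem R p) _) h1

theorem mono_pow {b : B} {n N : ℕ} (hN : n ≤ N) (h2 : b ^ (p ^ n) ∈ R) : b ^ (p ^ N) ∈ R := by
  obtain ⟨d, rfl⟩ := Nat.exists_eq_add_of_le hN
  rw [pow_add, pow_mul]
  exact Subring.pow_mem _ h2 _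

/-- The subring of `p`-radicial elements. -/
def pRadSubring (R : Subring B) (p : ℕ) (hp : p.Prime)
    (hpow : ∀ b : B, ∃ k : ℕ, (p ^ k : B) * b ∈ R) : Subring B where
  carrier := {b | IsPRad R p b}
  mul_mem' := isPRad_mul
  one_mem' := isPRad_of_mem (Subring.one_mem _)
  add_mem' := isPRad_add hp hpow
  zero_mem' := isPRad_of_mem (Subring.zero_mem _)
  neg_mem' := isPRad_neg

theorem pow_mem_of_sq_cube (T : Subring B) {x : B} (h2 : x ^ 2 ∈ T) (h3 : x ^ 3 ∈ T) :
    ∀ m : ℕ, 2 ≤ m → x ^ m ∈ T := by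
  intro m
  induction m using Nat.strong_induction_on with
  | _ m ih =>
    intro hm
    rcases Nat.lt_or_ge m 4 with h4 | h4
    · interval_cases m
      exacts [h2, h3]
    · have : x ^ m = x ^ (m - 2) * x ^ 2 := by rw [← pow_add, Nat.sub_add_cancel (by omega)]
      rw [this]
      exact Subring.mul_mem _ (ih (m - 2) (by omega) (by omega)) h2

end

/-- Stacks 0CNE, the hard direction. -/
theorem forall_isPRad_of_isUnivHomeo {A B : Type u} [CommRing A] [CommRing B] (φ : A →+* B)
    (p : ℕ) (hp : p.Prime) (hpow : ∀ b : B, ∃ k : ℕ, (p ^ k : B) * b ∈ φ.range)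
    (hU : FlatMor.IsUnivHomeo (Spec.map (CommRingCat.ofHom φ))) (b : B) :
    IsPRad φ.range p b := by
  by_contra hb
  set T : Subring B := pRadSubring φ.range p hp hpow with hT
  have hmemT : ∀ x : B, x ∈ T ↔ IsPRad φ.range p x := fun x => Iff.rfl
  have hRT : ∀ x ∈ φ.range, x ∈ T := fun x hx => isPRad_of_mem hx
  let φT : A →+* T := φ.codRestrict T (fun a => hRT _ ⟨a, rfl⟩)
  have hcomp : T.subtype.comp φT = φ := rfl
  have hUι := isUnivHomeo_snd_of_comp φT T.subtype Subtype.val_injective (hcomp ▸ hU)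
  have hrange : ∀ x : B, x ∈ T.subtype.range ↔ x ∈ T := by
    intro x
    constructor
    · rintro ⟨t, rfl⟩
      exact t.2
    · intro hx
      exact ⟨⟨x, hx⟩, rfl⟩
  have hns : ¬ Function.Surjective T.subtype := by
    intro hs
    obtain ⟨t, ht⟩ := hs b
    exact hb (ht ▸ t.2)
  by_cases hnsc : NoSqCube T.subtype
  · obtain ⟨ℓ, x, hℓ, hx, h1, h2⟩ := exists_prime_elt hns hUι hnsc
    rw [hrange] at hx h1 h2
    apply hx
    obtain ⟨k, hk⟩ := hpow x
    by_cases hℓp : ℓ = p
    · subst hℓp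
      obtain ⟨n', -, hn'⟩ := h2
      rw [← pow_mul, ← pow_succ'] at hn'
      exact ⟨max k (n' + 1), mono_mul (le_max_left _ _) hk, mono_pow (le_max_right _ _) hn'⟩
    · have hcop : IsCoprime (ℓ : ℤ) ((p ^ k : ℕ) : ℤ) := by
        rw [Nat.isCoprime_iff_coprime]
        exact Nat.Coprime.pow_right _ ((Nat.coprime_primes hℓ hp).mpr hℓp)
      obtain ⟨u, v, huv⟩ := hcop
      have hx' : x = (u : B) * ((ℓ : B) * x) + (v : B) * ((p ^ k : B) * x) := by
        have h3 : (u : B) * (ℓ : B) + (v : B) * (p : B) ^ k = 1 := by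
          have h4 := congrArg (fun t : ℤ => (t : B)) huv
          push_cast at h4
          exact h4
        calc x = 1 * x := (one_mul x).symm
          _ = ((u : B) * (ℓ : B) + (v : B) * (p : B) ^ k) * x := by rw [h3]
          _ = _ := by ring
      rw [hx']
      exact Subring.add_mem _ (Subring.mul_mem _ (intCast_mem T u) h1)
        (Subring.mul_mem _ (intCast_mem T v) (hRT _ hk))
  · unfold NoSqCube at hnsc
    push Not at hnsc
    obtain ⟨x, hx, h2, h3⟩ := hnsc
    rw [hrange] at hx h2 h3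
    apply hx
    obtain ⟨k, hk⟩ := hpow x
    have hq : 2 ≤ p ^ (k + 1) := by
      calc 2 ≤ p := hp.two_le
        _ = p ^ 1 := (pow_one p).symm
        _ ≤ p ^ (k + 1) := Nat.pow_le_pow_right hp.pos (by omega)
    obtain ⟨n', h1', h2'⟩ := pow_mem_of_sq_cube T h2 h3 _ hq
    refine ⟨k + 1 + n', ?_, ?_⟩
    · exact mono_mul (by omega) hk
    · rw [pow_add, pow_mul]
      exact h2'

end Groth.Agent.Lib.Helper9.PRad
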