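import Groth.Agent.Lib.Helper9.PRad2
import Mathlib.Algebra.CharP.Reduced

/-!
# Stacks 0CNE: the easy direction and the statement
-/

set_option autoImplicit false
set_option linter.style.haveILetI false
universe u
open CategoryTheory AlgebraicGeometry

namespace Groth.Agent.Lib.Helper9.PRad

open Groth.Agent.Lib.Helper9.UnivHomeoRing

variable {A B : Type u} [CommRing A] [CommRing B] (φ : A →+* B)

theorem ker_nilpotent_of_isUnivHomeo
    (hU : FlatMor.IsUnivHomeo (Spec.map (CommRingCat.ofHom φ))) :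
    ∀ a ∈ RingHom.ker φ, IsNilpotent a := by
  obtain ⟨-, hsurj, -⟩ := (isUnivHomeo_SpecMap_iff' φ).mp hU
  intro a ha
  rw [nilpotent_iff_mem_prime]
  intro P hP
  obtain ⟨Q, hQ⟩ := hsurj ⟨P, hP⟩
  have h1 : a ∈ (PrimeSpectrum.comap φ Q).asIdeal := by
    change φ a ∈ Q.asIdeal
    rw [(RingHom.mem_ker).mp ha]
    exact Q.asIdeal.zero_mem
  rw [hQ] at h1
  exact h1

/-- In a field, an element is determined by a `p`-power multiple and a `p`-power power. -/
theorem eq_of_pow_mul_eq_of_pow_pow_eq {K : Type*} [Field K] {p : ℕ} (hp : p.Prime) (n : ℕ)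
    {x y : K} (h1 : (p : K) ^ n * x = (p : K) ^ n * y) (h2 : x ^ p ^ n = y ^ p ^ n) : x = y := by
  by_cases hpK : (p : K) = 0
  · haveI : Fact p.Prime := ⟨hp⟩
    haveI : CharP K p := (CharP.charP_iff_prime_eq_zero hp).mpr hpK
    exact iterateFrobenius_inj K p n h2
  · exact mul_left_cancel₀ (pow_ne_zero n hpK) h1

theorem isUnivHomeo_of_isPRad (p : ℕ) (hp : p.Prime)
    (hker : ∀ a ∈ RingHom.ker φ, IsNilpotent a) (hrad : ∀ b : B, IsPRad φ.range p b) :
    FlatMor.IsUnivHomeo (Spec.map (CommRingCat.ofHom φ)) := by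
  rw [isUnivHomeo_SpecMap_iff']
  have hint : φ.IsIntegral := by
    intro b
    obtain ⟨n, -, a, ha⟩ := hrad b
    letI := φ.toAlgebra
    have h1 : IsIntegral A (b ^ p ^ n) := by
      rw [← ha]
      exact isIntegral_algebraMap
    exact IsIntegral.of_pow (Nat.pos_of_ne_zero (pow_ne_zero _ hp.ne_zero)) h1
  refine ⟨hint, ?_, ?_⟩
  · intro c
    letI := φ.toAlgebra
    haveI : Algebra.IsIntegral A B := ⟨hint⟩
    have hker' : (⊥ : Ideal B).comap (algebraMap A B) ≤ c.asIdeal := by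
      intro x hx
      have h0 : x ∈ RingHom.ker φ := hx
      obtain ⟨m, hm⟩ := hker x h0
      exact c.isPrime.mem_of_pow_mem m (hm ▸ c.asIdeal.zero_mem)
    obtain ⟨q, -, hq_prime, hq⟩ :=
      Ideal.exists_ideal_over_prime_of_isIntegral c.asIdeal (⊥ : Ideal B) hker'
    exact ⟨⟨q, hq_prime⟩, PrimeSpectrum.ext hq⟩
  · intro K _ g₁ g₂ h12
    refine RingHom.ext fun b => ?_
    obtain ⟨n, ⟨a₁, ha₁⟩, a₂, ha₂⟩ := hrad b
    have e : ∀ a : A, g₁ (φ a) = g₂ (φ a) := fun a => congrArg (fun ψ : A →+* K => ψ a) h12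
    apply eq_of_pow_mul_eq_of_pow_pow_eq hp n
    · have := e a₁
      rwa [ha₁, map_mul, map_mul, map_pow, map_pow, map_natCast, map_natCast] at this
    · have := e a₂
      rwa [ha₂, map_pow, map_pow] at this

/-- Stacks 0CNE. -/
theorem isUnivHomeo_iff_of_awayMap_surjective (p : ℕ) (hp : p.Prime)
    (h : Function.Surjective (Localization.awayMap φ (p : A))) :
    FlatMor.IsUnivHomeo (Spec.map (CommRingCat.ofHom φ)) ↔
      (∀ a ∈ RingHom.ker φ, IsNilpotent a) ∧ ∀ b : B, IsPRad φ.range p b := by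
  constructor
  · intro hU
    refine ⟨ker_nilpotent_of_isUnivHomeo φ hU, forall_isPRad_of_isUnivHomeo φ p hp ?_ hU⟩
    intro b
    obtain ⟨a, m, ham⟩ := (Localization.awayMap_surjective_iff.mp h) b
    refine ⟨m, a, ?_⟩
    rw [ham, map_natCast]
  · rintro ⟨h1, h2⟩
    exact isUnivHomeo_of_isPRad φ p hp h1 h2

end Groth.Agent.Lib.Helper9.PRad
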