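import Groth.Prelude.Def_Frob
import Groth.Prelude.Def_Flat
import Mathlib.AlgebraicGeometry.Morphisms.Integral
import Mathlib.AlgebraicGeometry.Morphisms.UniversallyInjective
import Mathlib.AlgebraicGeometry.Morphisms.Flat

/-! Frobenius basics (helper9). `epi_of_surjective_of_app_injective` is copied from
`Lib/Helper27/SchemeEpi` (helper27) to avoid `import Mathlib`. -/

universe u

open CategoryTheory CategoryTheory.Limits AlgebraicGeometry TopologicalSpace

namespace Groth.Agent.Lib.Helper9.Perf

theorem epi_of_surjective_of_app_injective {X Y : Scheme.{u}} (f : X ⟶ Y)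
    (hs : Function.Surjective f.base) (hinj : ∀ V : Y.Opens, Function.Injective (f.app V).hom) :
    Epi f := by
  constructor
  intro Z g₁ g₂ h
  have hb : g₁.base = g₂.base := by
    have h1 : f.base ≫ g₁.base = f.base ≫ g₂.base := by
      rw [← Scheme.Hom.comp_base, h, Scheme.Hom.comp_base]
    have : Epi f.base := (TopCat.epi_iff_surjective _).2 hs
    exact (cancel_epi f.base).1 h1
  refine Scheme.Hom.ext hb ?_
  intro U
  have hW : g₁ ⁻¹ᵁ U = g₂ ⁻¹ᵁ U := congr((Opens.map $hb).obj U)
  have hcongr : ∀ (k₁ k₂ : X ⟶ Z) (hk : k₁ = k₂) (V : X.Opens) (e : V ≤ k₁ ⁻¹ᵁ U),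
      k₁.appLE U V e = k₂.appLE U V (hk ▸ e) := by
    intro k₁ k₂ hk V e
    subst hk
    rfl
  have : Mono (f.app (g₂ ⁻¹ᵁ U)) := ConcreteCategory.mono_of_injective _ (hinj _)
  rw [← cancel_mono (f.app (g₂ ⁻¹ᵁ U))]
  rw [Category.assoc, Scheme.Hom.app_eq_appLE (f := f), Scheme.Hom.map_appLE]
  exact (Scheme.Hom.comp_appLE f g₁ U _ _).symm.trans
    ((hcongr _ _ h _ _).trans (Scheme.Hom.comp_appLE f g₂ U _ _))

/-- integral + universally injective + surjective ⇒ universal homeomorphism. -/
theorem isUnivHomeo_of_integral {X Y : Scheme.{u}} (f : X ⟶ Y) [IsIntegralHom f]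
    [UniversallyInjective f] [Surjective f] : FlatMor.IsUnivHomeo f := by
  intro X' Y' i₁ i₂ f' sq
  have h1 : IsIntegralHom f' := MorphismProperty.of_isPullback sq.flip ‹_›
  have h2 : UniversallyInjective f' := MorphismProperty.of_isPullback sq.flip ‹_›
  have h3 : Surjective f' := MorphismProperty.of_isPullback sq.flip ‹_›
  change IsHomeomorph f'.base
  rw [isHomeomorph_iff_continuous_isClosedMap_bijective]
  exact ⟨f'.continuous, f'.isClosedMap, f'.injective, f'.surjective⟩

variable (p : ℕ) [Fact p.Prime]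

instance isAffineHom_frob (X : Scheme.{u}) [FrobSch.IsCharP X p] :
    IsAffineHom (FrobSch.frob X p) where
  isAffine_preimage _ hU := hU

instance isIntegralHom_frob (X : Scheme.{u}) [FrobSch.IsCharP X p] :
    IsIntegralHom (FrobSch.frob X p) where
  isIntegral_app U hU := by
    intro s
    let _ := ((FrobSch.frob X p).app U).hom.toAlgebra
    refine IsIntegral.of_pow (n := p) (Fact.out : p.Prime).pos ?_
    have : s ^ p = ((FrobSch.frob X p).app U).hom s := rfl
    rw [this]
    exact ((FrobSch.frob X p).app U).hom.isIntegralElem_map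

instance surjective_frob (X : Scheme.{u}) [FrobSch.IsCharP X p] :
    Surjective (FrobSch.frob X p) := ⟨fun x => ⟨x, rfl⟩⟩

theorem epi_frob_of_isReduced (Y : Scheme.{u}) [FrobSch.IsCharP Y p]
    [IsReduced Y] : Epi (FrobSch.frob Y p) := by
  apply epi_of_surjective_of_app_injective
  · intro y
    exact ⟨y, rfl⟩
  · intro V s t hst
    have h1 : ((FrobSch.frob Y p).app V).hom (s - t) = 0 := by
      rw [map_sub, hst, sub_self]
    have h2 : (s - t) ^ p = 0 := h1
    have h3 : s - t = 0 := by
      have hn : IsNilpotent (s - t) := ⟨p, h2⟩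
      exact hn.eq_zero
    exact sub_eq_zero.1 h3

instance universallyInjective_frob (X : Scheme.{u}) [FrobSch.IsCharP X p] :
    UniversallyInjective (FrobSch.frob X p) := by
  refine ((tfae_universallyInjective (FrobSch.frob X p)).out 0 1).mpr ?_
  intro K _ g₁ g₂ h
  dsimp only at h
  have : FrobSch.IsCharP (Spec (.of K)) p := FrobSch.IsCharP.of_hom g₁ p
  have := epi_frob_of_isReduced p (Spec (.of K))
  rw [← FrobSch.frob_comp, ← FrobSch.frob_comp] at h
  exact (cancel_epi _).1 h

theorem isUnivHomeo_frob (X : Scheme.{u}) [FrobSch.IsCharP X p] :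
    FlatMor.IsUnivHomeo (FrobSch.frob X p) := isUnivHomeo_of_integral _

theorem purelyInseparable_of_universallyInjective {X Y : Scheme.{u}} (f : X ⟶ Y)
    [UniversallyInjective f] (x : X) : (f.residueFieldMap x).hom.IsPurelyInseparable :=
  by
    have h := ((tfae_universallyInjective f).out 0 2).mp ‹_›
    exact h.2 x

end Groth.Agent.Lib.Helper9.Perf
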