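import Groth.Agent.Lib.Helper9.Perf9

universe u

open CategoryTheory CategoryTheory.Limits AlgebraicGeometry TopologicalSpace

namespace Groth.Agent.Lib.Helper9.Perf

variable (p : ℕ) [Fact p.Prime]

/-- Localisation of a morphism of perfections over an open immersion `j : V ⟶ Y`: the base
change `XP ×_{YP} (YP ×_Y V) ⟶ X ×_Y V` is again a perfection, compatibly. -/
theorem isPerfection_pullback_lift {X Y XP YP V : Scheme.{u}}
    [FrobSch.IsCharP XP p] [FrobSch.IsCharP YP p]
    (πX : XP ⟶ X) (πY : YP ⟶ Y) (hX : FrobSch.IsPerfection πX p)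
    (f : X ⟶ Y) (fP : XP ⟶ YP) (w : fP ≫ πY = πX ≫ f) (j : V ⟶ Y) [IsOpenImmersion j]
    [FrobSch.IsCharP (pullback fP (pullback.fst πY j)) p] :
    ∃ πXi : pullback fP (pullback.fst πY j) ⟶ pullback f j,
      FrobSch.IsPerfection πXi p ∧
      πXi ≫ pullback.snd f j = pullback.snd fP (pullback.fst πY j) ≫ pullback.snd πY j ∧
      πXi ≫ pullback.fst f j = pullback.fst fP (pullback.fst πY j) ≫ πX := by
  have hc : (pullback.fst fP (pullback.fst πY j) ≫ πX) ≫ f =
      (pullback.snd fP (pullback.fst πY j) ≫ pullback.snd πY j) ≫ j := by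
    rw [Category.assoc, ← w, pullback.condition_assoc, Category.assoc, pullback.condition]
  let πXi : pullback fP (pullback.fst πY j) ⟶ pullback f j := pullback.lift _ _ hc
  have h1 : πXi ≫ pullback.fst f j = pullback.fst fP (pullback.fst πY j) ≫ πX :=
    pullback.lift_fst _ _ _
  have h2 : πXi ≫ pullback.snd f j =
      pullback.snd fP (pullback.fst πY j) ≫ pullback.snd πY j := pullback.lift_snd _ _ _
  refine ⟨πXi, ?_, h2, h1⟩
  have big : IsPullback (pullback.fst fP (pullback.fst πY j))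
      (pullback.snd fP (pullback.fst πY j) ≫ pullback.snd πY j) (fP ≫ πY) j :=
    (IsPullback.of_hasPullback fP (pullback.fst πY j)).paste_vert
      (IsPullback.of_hasPullback πY j)
  rw [w] at big
  have big' : IsPullback (pullback.fst fP (pullback.fst πY j)) (πXi ≫ pullback.snd f j)
      (πX ≫ f) j := by rw [h2]; exact big
  have sq : IsPullback (pullback.fst fP (pullback.fst πY j)) πXi πX (pullback.fst f j) :=
    IsPullback.of_bot big' h1.symm (IsPullback.of_hasPullback f j)
  exact isPerfection_of_isPullback_of_isOpenImmersion p πX (pullback.fst f j) _ _ sq hX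

theorem isClosedImmersion_of_isPerfection {X Y XP YP : Scheme.{u}}
    [FrobSch.IsCharP X p] [FrobSch.IsCharP Y p] [FrobSch.IsCharP XP p] [FrobSch.IsCharP YP p]
    (πX : XP ⟶ X) (πY : YP ⟶ Y) (hX : FrobSch.IsPerfection πX p)
    (hY : FrobSch.IsPerfection πY p)
    (f : X ⟶ Y) (fP : XP ⟶ YP) (w : fP ≫ πY = πX ≫ f) [IsClosedImmersion f] :
    IsClosedImmersion fP := by
  rw [IsZariskiLocalAtTarget.iff_of_openCover (P := @IsClosedImmersion)
    (Y.affineCover.pullback₁ πY)]
  intro i
  let 𝒰 := Y.affineCover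
  change IsClosedImmersion (pullback.snd fP (pullback.fst πY (𝒰.f i)))
  haveI : FrobSch.IsCharP (pullback fP (pullback.fst πY (𝒰.f i))) p :=
    FrobSch.IsCharP.of_hom (pullback.fst _ _) p
  haveI : FrobSch.IsCharP (pullback πY (𝒰.f i)) p := FrobSch.IsCharP.of_hom (pullback.fst _ _) p
  haveI : FrobSch.IsCharP (𝒰.X i) p := FrobSch.IsCharP.of_hom (𝒰.f i) p
  haveI : FrobSch.IsCharP (pullback f (𝒰.f i)) p := FrobSch.IsCharP.of_hom (pullback.fst _ _) p
  have hj : IsOpenImmersion (𝒰.f i) := 𝒰.map_prop i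
  have hA : IsAffine (𝒰.X i) := Scheme.isAffine_affineCover Y i
  obtain ⟨πXi, hπXi, h2, -⟩ := isPerfection_pullback_lift p πX πY hX f fP w (𝒰.f i)
  have hYi : FrobSch.IsPerfection (pullback.snd πY (𝒰.f i)) p :=
    isPerfection_of_isPullback_of_isOpenImmersion p πY (𝒰.f i) _ _
      (IsPullback.of_hasPullback _ _) hY
  exact isClosedImmersion_of_isPerfection_of_isAffine p (pullback.snd f (𝒰.f i)) πXi
    (pullback.snd πY (𝒰.f i)) hπXi hYi _ h2.symm

end Groth.Agent.Lib.Helper9.Perf
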