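import Groth.Agent.Lib.Helper9.Perf10
import Mathlib.AlgebraicGeometry.Morphisms.Separated

universe u

open CategoryTheory CategoryTheory.Limits AlgebraicGeometry TopologicalSpace

namespace Groth.Agent.Lib.Helper9.Perf

variable (p : ℕ) [Fact p.Prime]

/-- A fibre product of perfect schemes is perfect. -/
theorem isPerfect_pullback {A B C : Scheme.{u}} (a : A ⟶ C) (b : B ⟶ C)
    [FrobSch.IsCharP A p] [FrobSch.IsCharP B p] [FrobSch.IsCharP C p]
    [FrobSch.IsCharP (pullback a b) p]
    (hA : FrobSch.IsPerfect A p) (hB : FrobSch.IsPerfect B p) (hC : FrobSch.IsPerfect C p) :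
    FrobSch.IsPerfect (pullback a b) p := by
  have : IsIso (FrobSch.frob A p) := hA
  have : IsIso (FrobSch.frob B p) := hB
  have : IsIso (FrobSch.frob C p) := hC
  have h : FrobSch.frob (pullback a b) p =
      pullback.map a b a b (FrobSch.frob A p) (FrobSch.frob B p) (FrobSch.frob C p)
        (FrobSch.frob_comp p a).symm (FrobSch.frob_comp p b).symm := by
    apply pullback.hom_ext
    · rw [FrobSch.frob_comp, pullback.lift_fst]
    · rw [FrobSch.frob_comp, pullback.lift_snd]
  change IsIso (FrobSch.frob (pullback a b) p)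
  rw [h]
  infer_instance

/-- The fibre square of a morphism of perfections is a perfection. -/
theorem isPerfection_pullback_map {X Y XP YP : Scheme.{u}}
    [FrobSch.IsCharP XP p] [FrobSch.IsCharP YP p]
    (πX : XP ⟶ X) (πY : YP ⟶ Y) (hX : FrobSch.IsPerfection πX p)
    (hY : FrobSch.IsPerfection πY p)
    (f : X ⟶ Y) (fP : XP ⟶ YP) (w : fP ≫ πY = πX ≫ f)
    [FrobSch.IsCharP (pullback fP fP) p] :
    FrobSch.IsPerfection (pullback.map fP fP f f πX πX πY w w) p := by
  refine ⟨isPerfect_pullback p fP fP hX.1 hX.1 hY.1, ?_⟩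
  intro T _ hT
  constructor
  · intro a b hab
    dsimp only at hab
    apply pullback.hom_ext
    · apply isPerfection_hom_ext p πX hX hT
      have := congrArg (· ≫ pullback.fst f f) hab
      simpa only [Category.assoc, pullback.lift_fst] using this
    · apply isPerfection_hom_ext p πX hX hT
      have := congrArg (· ≫ pullback.snd f f) hab
      simpa only [Category.assoc, pullback.lift_snd] using this
  · intro g
    obtain ⟨a', ha'⟩ := (hX.2 T hT).2 (g ≫ pullback.fst f f)
    obtain ⟨b', hb'⟩ := (hX.2 T hT).2 (g ≫ pullback.snd f f)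
    dsimp only at ha' hb'
    have hc : a' ≫ fP = b' ≫ fP := by
      apply isPerfection_hom_ext p πY hY hT
      rw [Category.assoc, Category.assoc, w, reassoc_of% ha', reassoc_of% hb',
        pullback.condition]
    refine ⟨pullback.lift a' b' hc, ?_⟩
    dsimp only
    apply pullback.hom_ext
    · rw [Category.assoc, pullback.lift_fst, pullback.lift_fst_assoc, ha']
    · rw [Category.assoc, pullback.lift_snd, pullback.lift_snd_assoc, hb']

theorem diagonal_comp_pullback_map {X Y XP YP : Scheme.{u}}
    (πX : XP ⟶ X) (πY : YP ⟶ Y) (f : X ⟶ Y) (fP : XP ⟶ YP) (w : fP ≫ πY = πX ≫ f) :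
    pullback.diagonal fP ≫ pullback.map fP fP f f πX πX πY w w = πX ≫ pullback.diagonal f := by
  apply pullback.hom_ext
  · rw [Category.assoc, Category.assoc, pullback.lift_fst, pullback.diagonal_fst_assoc,
      pullback.diagonal_fst, Category.comp_id]
  · rw [Category.assoc, Category.assoc, pullback.lift_snd, pullback.diagonal_snd_assoc,
      pullback.diagonal_snd, Category.comp_id]

end Groth.Agent.Lib.Helper9.Perf
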