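import Groth.Agent.Lib.Helper9.Perf11
import Groth.Agent.S0415

universe u

open CategoryTheory CategoryTheory.Limits AlgebraicGeometry TopologicalSpace

namespace Groth.Agent.Lib.Helper9.Perf

theorem isHomeomorph_of_comp_left {A B C : Type*} [TopologicalSpace A] [TopologicalSpace B]
    [TopologicalSpace C] {g : A → B} {h : B → C} (hg : IsHomeomorph g)
    (hgh : IsHomeomorph (h ∘ g)) : IsHomeomorph h := by
  let e₁ := hg.homeomorph g
  let e₂ := hgh.homeomorph (h ∘ g)
  have : h = e₂ ∘ e₁.symm := by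
    funext b
    obtain ⟨a, rfl⟩ := hg.surjective b
    have h1 : e₁.symm (g a) = a := e₁.symm_apply_apply a
    simp only [Function.comp_apply, h1]
    rfl
  rw [this]
  exact (e₁.symm.trans e₂).isHomeomorph

/-- Left cancellation for universal homeomorphisms. -/
theorem isUnivHomeo_of_comp_left {A B C : Scheme.{u}} (g : A ⟶ B) (h : B ⟶ C)
    (hgh : FlatMor.IsUnivHomeo (g ≫ h)) (hg : FlatMor.IsUnivHomeo g) : FlatMor.IsUnivHomeo h := by
  intro B' C' i₁ i₂ h' sq
  have sq2 : IsPullback (pullback.snd g i₁) (pullback.fst g i₁) i₁ g :=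
    (IsPullback.of_hasPullback g i₁).flip
  have h1 : IsHomeomorph (pullback.snd g i₁).base := hg _ _ _ sq2
  have sq3 : IsPullback (pullback.snd g i₁ ≫ h') (pullback.fst g i₁) i₂ (g ≫ h) :=
    sq2.paste_horiz sq
  have h2 : IsHomeomorph (pullback.snd g i₁ ≫ h').base := hgh _ _ _ sq3
  change IsHomeomorph h'.base
  refine isHomeomorph_of_comp_left h1 ?_
  rw [Scheme.Hom.comp_base, TopCat.coe_comp] at h2
  exact h2

end Groth.Agent.Lib.Helper9.Perf
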