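import Groth.Agent.Lib.Helper9.Perf13
import Mathlib.RingTheory.Flat.EquationalCriterion
import Mathlib.RingTheory.RingHom.Flat

universe u

open CategoryTheory CategoryTheory.Limits AlgebraicGeometry TopologicalSpace

namespace Groth.Agent.Lib.Helper9.Perf

variable (p : ℕ) [Fact p.Prime]

section ring
variable (A : Type u) [CommRing A] [CharP A p]

/-- The `n`-th level map `A → A^perf`, `a ↦ a^{1/p^n}`. -/
noncomputable def lvl (n : ℕ) : A →+* PerfectClosure A p :=
  ((iterateFrobeniusEquiv (PerfectClosure A p) p n).symm : PerfectClosure A p →+* _).comp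
    (PerfectClosure.of A p)

theorem lvl_pow (n : ℕ) (a : A) : (lvl p A n a) ^ p ^ n = PerfectClosure.of A p a := by
  change iterateFrobeniusEquiv (PerfectClosure A p) p n
    ((iterateFrobeniusEquiv (PerfectClosure A p) p n).symm (PerfectClosure.of A p a)) = _
  rw [RingEquiv.apply_symm_apply]

theorem pow_injective (n : ℕ) : Function.Injective (fun x : PerfectClosure A p => x ^ p ^ n) :=
  (iterateFrobeniusEquiv (PerfectClosure A p) p n).injective

theorem exists_lvl (x : PerfectClosure A p) : ∃ n a, x = lvl p A n a := by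
  induction x using PerfectClosure.induction_on with
  | _ x =>
    obtain ⟨n, a⟩ := x
    refine ⟨n, a, ?_⟩
    apply pow_injective p A n
    dsimp only
    rw [lvl_pow, ← PerfectClosure.iterate_frobenius_mk A p n a, iterate_frobenius]

theorem lvl_add (n m : ℕ) (a : A) : lvl p A n a = lvl p A (n + m) (a ^ p ^ m) := by
  apply pow_injective p A (n + m)
  dsimp only
  rw [lvl_pow, map_pow, pow_add, pow_mul, lvl_pow]

theorem exists_pow_eq_zero_of_lvl_eq_zero (n : ℕ) (a : A) (h : lvl p A n a = 0) :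
    ∃ m, a ^ p ^ m = 0 := by
  have h1 : PerfectClosure.of A p a = 0 := by
    rw [← lvl_pow p A n a, h, zero_pow (pow_ne_zero _ (Fact.out : p.Prime).ne_zero)]
  have h2 := ker_of_le_nilradical p A ((RingHom.mem_ker).mpr h1)
  rw [mem_nilradical] at h2
  obtain ⟨k, hk⟩ := h2
  refine ⟨k, pow_eq_zero_of_le ?_ hk⟩
  exact (Nat.lt_pow_self (Fact.out : p.Prime).one_lt).le

theorem exists_lvl_family {l : ℕ} (x : Fin l → PerfectClosure A p) :
    ∃ n, ∃ x' : Fin l → A, ∀ i, x i = lvl p A n (x' i) := by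
  choose n a h using fun i => exists_lvl p A (x i)
  obtain ⟨N, hN⟩ : ∃ N, ∀ i, n i ≤ N := ⟨_, fun i => Finset.le_sup (Finset.mem_univ i)⟩
  refine ⟨N, fun i => (a i) ^ p ^ (N - n i), fun i => ?_⟩
  rw [h i]
  have e := lvl_add p A (n i) (N - n i) (a i)
  rwa [Nat.add_sub_cancel' (hN i)] at e

end ring


section flat
variable (A B : Type u) [CommRing A] [CommRing B] [CharP A p] [CharP B p]
  (φ : A →+* B) (ψ : PerfectClosure A p →+* PerfectClosure B p)
  (h : ψ.comp (PerfectClosure.of A p) = (PerfectClosure.of B p).comp φ)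
include h

theorem map_lvl (n : ℕ) (a : A) : ψ (lvl p A n a) = lvl p B n (φ a) := by
  apply pow_injective p B n
  dsimp only
  rw [← map_pow, lvl_pow, lvl_pow]
  exact congrArg (fun g : A →+* PerfectClosure B p => g a) h

theorem flat_of_comp_of (hφ : φ.Flat) : ψ.Flat := by
  unfold RingHom.Flat at hφ ⊢
  letI := φ.toAlgebra
  letI := ψ.toAlgebra
  apply Module.Flat.of_forall_isTrivialRelation
  intro l f x hfx
  obtain ⟨n₁, f', hf'⟩ := exists_lvl_family p A f
  obtain ⟨n₂, x', hx'⟩ := exists_lvl_family p B x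
  have hsum : lvl p B (n₁ + n₂) (∑ i, φ (f' i ^ p ^ n₂) * (x' i ^ p ^ n₁)) = 0 := by
    rw [map_sum, ← hfx]
    refine Finset.sum_congr rfl fun i _ => ?_
    rw [map_mul, ← map_lvl p A B φ ψ h, ← lvl_add, add_comm n₁ n₂, ← lvl_add, ← hf', ← hx',
      Algebra.smul_def]
    rfl
  obtain ⟨m, hm⟩ := exists_pow_eq_zero_of_lvl_eq_zero p B _ _ hsum
  rw [sum_pow_char_pow] at hm
  have hrel : ∑ i, (f' i ^ p ^ n₂) ^ p ^ m • ((x' i ^ p ^ n₁) ^ p ^ m) = 0 := by
    rw [← hm]
    refine Finset.sum_congr rfl fun i _ => ?_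
    rw [Algebra.smul_def, mul_pow, ← map_pow]
    rfl
  obtain ⟨k, a, y, hxy, hfa⟩ := Module.Flat.isTrivialRelation_of_sum_smul_eq_zero hrel
  replace hxy : ∀ i, (x' i ^ p ^ n₁) ^ p ^ m = ∑ j, a i j • y j := hxy
  replace hfa : ∀ j, ∑ i, (f' i ^ p ^ n₂) ^ p ^ m * a i j = 0 := hfa
  refine ⟨k, fun i j => lvl p A (n₁ + n₂ + m) (a i j), fun j => lvl p B (n₁ + n₂ + m) (y j),
    fun i => ?_, fun j => ?_⟩
  · have e1 : x i = lvl p B (n₁ + n₂ + m) ((x' i ^ p ^ n₁) ^ p ^ m) := by
      rw [hx', ← lvl_add, add_comm n₁ n₂, ← lvl_add]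
    dsimp only
    rw [e1, hxy i, map_sum]
    refine Finset.sum_congr rfl fun j _ => ?_
    rw [Algebra.smul_def, Algebra.smul_def, map_mul]
    exact congrArg (· * _) (map_lvl p A B φ ψ h _ (a i j)).symm
  · have e2 : ∀ i, f i = lvl p A (n₁ + n₂ + m) ((f' i ^ p ^ n₂) ^ p ^ m) := fun i => by
      rw [hf', ← lvl_add, ← lvl_add]
    dsimp only
    simp_rw [e2, ← map_mul, ← map_sum, hfa j, map_zero]

end flat

end Groth.Agent.Lib.Helper9.Perf
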