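import Groth.Agent.Lib.Helper9.Perf14

universe u

open CategoryTheory CategoryTheory.Limits AlgebraicGeometry TopologicalSpace

namespace Groth.Agent.Lib.Helper9.Perf

variable (p : ℕ) [Fact p.Prime]

/-- Affine case: the perfection of a flat morphism of affine schemes is flat. -/
theorem flat_of_isPerfection_of_isAffine {W V WP VP : Scheme.{u}} [IsAffine V] [IsAffine W]
    (g : W ⟶ V) [Flat g]
    [FrobSch.IsCharP W p] [FrobSch.IsCharP V p] [FrobSch.IsCharP WP p] [FrobSch.IsCharP VP p]
    (πW : WP ⟶ W) (πV : VP ⟶ V) (hW : FrobSch.IsPerfection πW p)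
    (hV : FrobSch.IsPerfection πV p) (r : WP ⟶ VP) (w : r ≫ πV = πW ≫ g) :
    Flat r := by
  have hflat : g.appTop.hom.Flat := (HasRingHomProperty.iff_of_isAffine (P := @Flat)).mp ‹_›
  let A : CommRingCat.{u} := Γ(V, ⊤)
  let B : CommRingCat.{u} := Γ(W, ⊤)
  rcases subsingleton_or_nontrivial B with hs | hn
  · have : IsEmpty (Spec B) := inferInstanceAs (IsEmpty (PrimeSpectrum B))
    have : IsEmpty W := Function.isEmpty W.isoSpec.hom
    have : IsEmpty WP := Function.isEmpty πW
    infer_instance
  · have hnA : Nontrivial A := (g.appTop.hom).domain_nontrivial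
    have hpA : (p : A) = 0 := FrobSch.IsCharP.natCast_eq_zero
    have hpB : (p : B) = 0 := FrobSch.IsCharP.natCast_eq_zero
    haveI : CharP A p := (CharP.charP_iff_prime_eq_zero Fact.out).2 hpA
    haveI : CharP B p := (CharP.charP_iff_prime_eq_zero Fact.out).2 hpB
    obtain ⟨eV, heV⟩ := exists_iso_of_isPerfection p _ _
      (isPerfection_comp_iso p πV hV V.isoSpec.hom) (isPerfection_SpecMap_of p A)
    obtain ⟨eW, heW⟩ := exists_iso_of_isPerfection p _ _
      (isPerfection_comp_iso p πW hW W.isoSpec.hom) (isPerfection_SpecMap_of p B)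
    let ψ : CommRingCat.of (PerfectClosure A p) ⟶ CommRingCat.of (PerfectClosure B p) :=
      Spec.preimage (eW.inv ≫ r ≫ eV.hom)
    have hψ' : Spec.map ψ = eW.inv ≫ r ≫ eV.hom := Spec.map_preimage _
    have hψ : CommRingCat.ofHom (PerfectClosure.of A p) ≫ ψ =
        g.appTop ≫ CommRingCat.ofHom (PerfectClosure.of B p) := by
      apply Spec.map_injective
      rw [Spec.map_comp, Spec.map_comp, hψ']
      have h1 : Spec.map (CommRingCat.ofHom (PerfectClosure.of B p)) =
          eW.inv ≫ πW ≫ W.isoSpec.hom := by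
        rw [← heW, Iso.inv_hom_id_assoc]
      rw [h1]
      simp only [Category.assoc]
      rw [heV, reassoc_of% w, Scheme.isoSpec_hom_naturality]
    have hfψ : ψ.hom.Flat := by
      refine flat_of_comp_of p A B g.appTop.hom ψ.hom ?_ hflat
      have := congrArg CommRingCat.Hom.hom hψ
      exact this
    have hci : Flat (Spec.map ψ) := (HasRingHomProperty.Spec_iff (P := @Flat)).mpr hfψ
    have hq : r = eW.hom ≫ Spec.map ψ ≫ eV.inv := by
      rw [hψ']
      simp
    rw [hq]
    infer_instance

end Groth.Agent.Lib.Helper9.Perf
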