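import Groth.Agent.Lib.Helper9.Perf15

universe u

open CategoryTheory CategoryTheory.Limits AlgebraicGeometry TopologicalSpace

namespace Groth.Agent.Lib.Helper9.Perf

variable (p : ℕ) [Fact p.Prime]

set_option backward.isDefEq.respectTransparency.types false in
/-- Affine target: the perfection of a flat morphism to an affine scheme is flat. -/
theorem flat_of_isPerfection_of_isAffine_target {Xi V XPi YPi : Scheme.{u}} [IsAffine V]
    (fi : Xi ⟶ V) [Flat fi]
    [FrobSch.IsCharP Xi p] [FrobSch.IsCharP V p] [FrobSch.IsCharP XPi p] [FrobSch.IsCharP YPi p]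
    (πX : XPi ⟶ Xi) (πY : YPi ⟶ V) (hX : FrobSch.IsPerfection πX p)
    (hY : FrobSch.IsPerfection πY p) (q : XPi ⟶ YPi) (w : q ≫ πY = πX ≫ fi) :
    Flat q := by
  rw [IsZariskiLocalAtSource.iff_of_openCover (P := @Flat) (Xi.affineCover.pullback₁ πX)]
  intro k
  let 𝒲 := Xi.affineCover
  change Flat (pullback.fst πX (𝒲.f k) ≫ q)
  have hj : IsOpenImmersion (𝒲.f k) := 𝒲.map_prop k
  have hA : IsAffine (𝒲.X k) := Scheme.isAffine_affineCover Xi k
  haveI : FrobSch.IsCharP (pullback πX (𝒲.f k)) p := FrobSch.IsCharP.of_hom (pullback.fst _ _) p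
  haveI : FrobSch.IsCharP (𝒲.X k) p := FrobSch.IsCharP.of_hom (𝒲.f k) p
  have hW : FrobSch.IsPerfection (pullback.snd πX (𝒲.f k)) p :=
    isPerfection_of_isPullback_of_isOpenImmersion p πX (𝒲.f k) _ _
      (IsPullback.of_hasPullback _ _) hX
  refine flat_of_isPerfection_of_isAffine p (𝒲.f k ≫ fi) (pullback.snd πX (𝒲.f k)) πY hW hY _ ?_
  rw [Category.assoc, w, pullback.condition_assoc]

set_option backward.isDefEq.respectTransparency.types false in
theorem flat_of_isPerfection {X Y XP YP : Scheme.{u}}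
    [FrobSch.IsCharP X p] [FrobSch.IsCharP Y p] [FrobSch.IsCharP XP p] [FrobSch.IsCharP YP p]
    (πX : XP ⟶ X) (πY : YP ⟶ Y) (hX : FrobSch.IsPerfection πX p)
    (hY : FrobSch.IsPerfection πY p)
    (f : X ⟶ Y) (fP : XP ⟶ YP) (w : fP ≫ πY = πX ≫ f) [Flat f] :
    Flat fP := by
  rw [IsZariskiLocalAtTarget.iff_of_openCover (P := @Flat) (Y.affineCover.pullback₁ πY)]
  intro i
  let 𝒰 := Y.affineCover
  change Flat (pullback.snd fP (pullback.fst πY (𝒰.f i)))
  haveI : FrobSch.IsCharP (pullback fP (pullback.fst πY (𝒰.f i))) p :=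
    FrobSch.IsCharP.of_hom (pullback.fst _ _) p
  haveI : FrobSch.IsCharP (pullback πY (𝒰.f i)) p := FrobSch.IsCharP.of_hom (pullback.fst _ _) p
  haveI : FrobSch.IsCharP (𝒰.X i) p := FrobSch.IsCharP.of_hom (𝒰.f i) p
  haveI : FrobSch.IsCharP (pullback f (𝒰.f i)) p := FrobSch.IsCharP.of_hom (pullback.fst _ _) p
  have hj : IsOpenImmersion (𝒰.f i) := 𝒰.map_prop i
  have hA : IsAffine (𝒰.X i) := Scheme.isAffine_affineCover Y i
  obtain ⟨πXi, hπXi, h2, -⟩ := isPerfection_pullback_lift p πX πY hX f fP w (𝒰.f i)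
  have hYi : FrobSch.IsPerfection (pullback.snd πY (𝒰.f i)) p :=
    isPerfection_of_isPullback_of_isOpenImmersion p πY (𝒰.f i) _ _
      (IsPullback.of_hasPullback _ _) hY
  exact flat_of_isPerfection_of_isAffine_target p (pullback.snd f (𝒰.f i)) πXi
    (pullback.snd πY (𝒰.f i)) hπXi hYi _ h2.symm

theorem surjective_of_isPerfection_of_surjective {X Y XP YP : Scheme.{u}}
    [FrobSch.IsCharP X p] [FrobSch.IsCharP Y p] [FrobSch.IsCharP XP p] [FrobSch.IsCharP YP p]
    (πX : XP ⟶ X) (πY : YP ⟶ Y) (hX : FrobSch.IsPerfection πX p)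
    (hY : FrobSch.IsPerfection πY p)
    (f : X ⟶ Y) (fP : XP ⟶ YP) (w : fP ≫ πY = πX ≫ f) [Surjective f] :
    Surjective fP := by
  have sX := surjective_of_isPerfection p πX hX
  have iY := universallyInjective_of_isPerfection p πY hY
  refine ⟨fun y' => ?_⟩
  obtain ⟨x, hx⟩ := f.surjective (πY y')
  obtain ⟨x', rfl⟩ := sX.surj x
  refine ⟨x', ?_⟩
  apply πY.injective
  rw [← hx, ← Scheme.Hom.comp_apply, w, Scheme.Hom.comp_apply]

end Groth.Agent.Lib.Helper9.Perf
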