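import Groth.Agent.Lib.Helper9.Perf1
import Mathlib.FieldTheory.PerfectClosure
import Mathlib.AlgebraicGeometry.Morphisms.IsIso

universe u

open CategoryTheory CategoryTheory.Limits AlgebraicGeometry TopologicalSpace

namespace Groth.Agent.Lib.Helper9.Perf

variable (p : ℕ) [Fact p.Prime]

/-- Global sections of a perfect scheme: the `p`-power map is bijective. -/
theorem bijective_pow_Γ (Y : Scheme.{u}) [FrobSch.IsCharP Y p] (hY : FrobSch.IsPerfect Y p) :
    Function.Bijective (fun s : Γ(Y, ⊤) => s ^ p) := by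
  have : IsIso (FrobSch.frob Y p) := hY
  have h2 : IsIso (FrobSch.frob Y p).appTop :=
    inferInstanceAs (IsIso ((FrobSch.frob Y p).app ⊤))
  exact (ConcreteCategory.isIso_iff_bijective _).mp h2

set_option backward.isDefEq.respectTransparency false in
theorem isIso_of_isAffine_of_appTop {X Y : Scheme.{u}} (f : X ⟶ Y) [IsAffine Y] [IsAffine X]
    (h : Function.Bijective f.appTop) : IsIso f := by
  have h' : IsIso f.appTop := (ConcreteCategory.isIso_iff_bijective _).mpr h
  exact (HasAffineProperty.iff_of_isAffine (P := MorphismProperty.isomorphisms Scheme.{u})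
    (f := f)).mpr ⟨inferInstance, h'⟩

/-- The spectrum of a ring with bijective `p`-power map is a perfect scheme. -/
theorem isPerfect_Spec (L : CommRingCat.{u}) [FrobSch.IsCharP (Spec L) p]
    (hL : Function.Bijective (fun s : L => s ^ p)) : FrobSch.IsPerfect (Spec L) p := by
  change IsIso (FrobSch.frob (Spec L) p)
  refine isIso_of_isAffine_of_appTop _ ?_
  let e := (Scheme.ΓSpecIso L).commRingCatIsoToRingEquiv
  have : (fun s : Γ(Spec L, ⊤) => s ^ p) = e.symm ∘ (fun s : L => s ^ p) ∘ e := by
    funext s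
    simp only [Function.comp_apply, map_pow, RingEquiv.symm_apply_apply]
  change Function.Bijective (fun s : Γ(Spec L, ⊤) => s ^ p)
  rw [this]
  exact e.symm.bijective.comp (hL.comp e.bijective)


/-- Morphisms to an affine scheme are ring maps out of its ring. -/
noncomputable def toRing {Y : Scheme.{u}} {R : CommRingCat.{u}} (g : Y ⟶ Spec R) : R ⟶ Γ(Y, ⊤) :=
  (Scheme.ΓSpecIso R).inv ≫ g.appTop

theorem toRing_injective {Y : Scheme.{u}} {R : CommRingCat.{u}} :
    Function.Injective (toRing (Y := Y) (R := R)) := by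
  intro g₁ g₂ h
  have := (ΓSpec.adjunction.homEquiv Y (Opposite.op R)).symm.injective
  apply this
  exact Opposite.unop_injective h

theorem toRing_surjective {Y : Scheme.{u}} {R : CommRingCat.{u}} :
    Function.Surjective (toRing (Y := Y) (R := R)) := by
  intro φ
  refine ⟨(ΓSpec.adjunction.homEquiv Y (Opposite.op R)) φ.op, ?_⟩
  exact ΓSpecIso_inv_ΓSpec_adjunction_homEquiv φ

theorem toRing_comp_SpecMap {Y : Scheme.{u}} {R R' : CommRingCat.{u}} (ψ : R ⟶ R')
    (g : Y ⟶ Spec R') : toRing (g ≫ Spec.map ψ) = ψ ≫ toRing g := by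
  unfold toRing
  rw [Scheme.Hom.comp_appTop, ← Category.assoc, ← Scheme.ΓSpecIso_inv_naturality, Category.assoc]

theorem bijective_comp_SpecMap {Y : Scheme.{u}} {R R' : CommRingCat.{u}} (ψ : R ⟶ R')
    (h : Function.Bijective (fun φ : R' ⟶ Γ(Y, ⊤) => ψ ≫ φ)) :
    Function.Bijective (fun g : Y ⟶ Spec R' => g ≫ Spec.map ψ) := by
  constructor
  · intro g₁ g₂ hg
    apply toRing_injective
    apply h.1
    dsimp only at hg ⊢
    rw [← toRing_comp_SpecMap, ← toRing_comp_SpecMap, hg]
  · intro g
    obtain ⟨φ, hφ⟩ := h.2 (toRing g)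
    obtain ⟨g', rfl⟩ := toRing_surjective φ
    refine ⟨g', ?_⟩
    apply toRing_injective
    dsimp only at hφ ⊢
    rw [toRing_comp_SpecMap, hφ]


theorem bijective_comp_of_perfectClosure (K : Type u) [CommRing K] [CharP K p]
    (L : CommRingCat.{u}) (hp : (p : L) = 0) (hL : Function.Bijective (fun s : L => s ^ p)) :
    Function.Bijective (fun φ : CommRingCat.of (PerfectClosure K p) ⟶ L =>
      CommRingCat.ofHom (PerfectClosure.of K p) ≫ φ) := by
  rcases subsingleton_or_nontrivial L with hs | hn
  · have hsub : ∀ R : CommRingCat.{u}, Subsingleton (R ⟶ L) := fun R =>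
      ⟨fun a b => CommRingCat.hom_ext (RingHom.ext fun x => Subsingleton.elim _ _)⟩
    have hne : Nonempty (CommRingCat.of (PerfectClosure K p) ⟶ L) :=
      ⟨CommRingCat.ofHom
        { toFun := fun _ => 0
          map_one' := Subsingleton.elim _ _
          map_mul' := fun _ _ => Subsingleton.elim _ _
          map_zero' := rfl
          map_add' := fun _ _ => Subsingleton.elim _ _ }⟩
    refine ⟨fun a b _ => (hsub _).elim a b, fun φ => ?_⟩
    obtain ⟨φ'⟩ := hne
    exact ⟨φ', (hsub _).elim _ _⟩
  · haveI : CharP L p := (CharP.charP_iff_prime_eq_zero Fact.out).2 hp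
    haveI : PerfectRing L p := ⟨hL⟩
    let e := PerfectClosure.lift K p L
    constructor
    · intro a b hab
      dsimp only at hab
      apply CommRingCat.hom_ext
      apply e.symm.injective
      have := congrArg CommRingCat.Hom.hom hab
      exact this
    · intro φ
      refine ⟨CommRingCat.ofHom (e φ.hom), ?_⟩
      apply CommRingCat.hom_ext
      exact e.symm_apply_apply φ.hom

theorem isPerfection_SpecMap_of (K : Type u) [CommRing K] [CharP K p] :
    FrobSch.IsPerfection (Spec.map (CommRingCat.ofHom (PerfectClosure.of K p))) p := by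
  refine ⟨isPerfect_Spec p _ ?_, ?_⟩
  · exact bijective_frobenius (PerfectClosure K p) p
  · intro Y _ hY
    apply bijective_comp_SpecMap
    exact bijective_comp_of_perfectClosure p K _ (FrobSch.natCast_eq_zero_app Y p ⊤)
      (bijective_pow_Γ p Y hY)

end Groth.Agent.Lib.Helper9.Perf
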