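import Groth.Agent.Lib.Helper9.Perf3

universe u

open CategoryTheory CategoryTheory.Limits AlgebraicGeometry TopologicalSpace

namespace Groth.Agent.Lib.Helper9.Perf

variable (p : ℕ) [Fact p.Prime]

/-- The inverse of Frobenius on a perfect scheme fixes points. -/
theorem inv_frob_apply (X : Scheme.{u}) [FrobSch.IsCharP X p] [IsIso (FrobSch.frob X p)] (x : X) :
    (inv (FrobSch.frob X p)) x = x := by
  have h : (inv (FrobSch.frob X p) ≫ FrobSch.frob X p) x = x := by
    rw [IsIso.inv_hom_id]; rfl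
  rw [Scheme.Hom.comp_apply] at h
  exact h

/-- An open subscheme of a perfect scheme is perfect. -/
theorem isPerfect_of_isOpenImmersion {V X : Scheme.{u}} (j : V ⟶ X) [IsOpenImmersion j]
    [FrobSch.IsCharP X p] [FrobSch.IsCharP V p] (hX : FrobSch.IsPerfect X p) :
    FrobSch.IsPerfect V p := by
  have : IsIso (FrobSch.frob X p) := hX
  have hr : Set.range (j ≫ inv (FrobSch.frob X p)).base ⊆ Set.range j.base := by
    rintro _ ⟨v, rfl⟩
    refine ⟨v, ?_⟩
    rw [Scheme.Hom.comp_base, TopCat.comp_app]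
    exact (inv_frob_apply p X (j v)).symm
  let h : V ⟶ V := IsOpenImmersion.lift j (j ≫ inv (FrobSch.frob X p)) hr
  have hh : h ≫ j = j ≫ inv (FrobSch.frob X p) := IsOpenImmersion.lift_fac _ _ _
  refine ⟨h, ?_, ?_⟩
  · rw [← cancel_mono j, Category.assoc, hh, FrobSch.frob_comp_assoc, IsIso.hom_inv_id,
      Category.comp_id, Category.id_comp]
  · rw [← cancel_mono j, Category.assoc, FrobSch.frob_comp, reassoc_of% hh, IsIso.inv_hom_id,
      Category.comp_id, Category.id_comp]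

/-- Base change of a perfection along an open immersion is a perfection. -/
theorem isPerfection_of_isPullback_of_isOpenImmersion {X' X U V : Scheme.{u}}
    (π : X' ⟶ X) (j : U ⟶ X) [IsOpenImmersion j] (j' : V ⟶ X') (π' : V ⟶ U)
    (sq : IsPullback j' π' π j) [FrobSch.IsCharP X' p] [FrobSch.IsCharP V p]
    (hπ : FrobSch.IsPerfection π p) : FrobSch.IsPerfection π' p := by
  have : IsOpenImmersion j' := MorphismProperty.of_isPullback sq.flip ‹_›
  refine ⟨isPerfect_of_isOpenImmersion p j' hπ.1, ?_⟩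
  intro T _ hT
  constructor
  · intro a b hab
    dsimp only at hab
    apply sq.hom_ext
    · apply (hπ.2 T hT).1
      dsimp only
      rw [Category.assoc, Category.assoc, sq.w, reassoc_of% hab]
    · exact hab
  · intro g
    obtain ⟨g', hg'⟩ := (hπ.2 T hT).2 (g ≫ j)
    dsimp only at hg'
    exact ⟨sq.lift g' g hg', sq.lift_snd _ _ _⟩

/-- Uniqueness of perfections. -/
theorem exists_iso_of_isPerfection {X₁ X₂ X : Scheme.{u}} (π₁ : X₁ ⟶ X) (π₂ : X₂ ⟶ X)
    [FrobSch.IsCharP X₁ p] [FrobSch.IsCharP X₂ p]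
    (h₁ : FrobSch.IsPerfection π₁ p) (h₂ : FrobSch.IsPerfection π₂ p) :
    ∃ e : X₁ ≅ X₂, e.hom ≫ π₂ = π₁ := by
  obtain ⟨a, ha⟩ := (h₂.2 X₁ h₁.1).2 π₁
  obtain ⟨b, hb⟩ := (h₁.2 X₂ h₂.1).2 π₂
  dsimp only at ha hb
  refine ⟨⟨a, b, ?_, ?_⟩, ha⟩
  · apply (h₁.2 X₁ h₁.1).1
    dsimp only
    rw [Category.assoc, hb, ha, Category.id_comp]
  · apply (h₂.2 X₂ h₂.1).1
    dsimp only
    rw [Category.assoc, ha, hb, Category.id_comp]

/-- Lifts through a perfection are unique. -/
theorem isPerfection_hom_ext {X' X T : Scheme.{u}} (π : X' ⟶ X) [FrobSch.IsCharP X' p]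
    (hπ : FrobSch.IsPerfection π p) [FrobSch.IsCharP T p] (hT : FrobSch.IsPerfect T p)
    {a b : T ⟶ X'} (h : a ≫ π = b ≫ π) : a = b :=
  (hπ.2 T hT).1 h

theorem isPerfection_comp_iso {X' X Z : Scheme.{u}} (π : X' ⟶ X) [FrobSch.IsCharP X' p]
    (hπ : FrobSch.IsPerfection π p) (e : X ⟶ Z) [IsIso e] : FrobSch.IsPerfection (π ≫ e) p := by
  refine ⟨hπ.1, fun T _ hT => ⟨?_, ?_⟩⟩
  · intro a b hab
    dsimp only at hab
    apply (hπ.2 T hT).1
    dsimp only
    rwa [← Category.assoc, ← Category.assoc, cancel_mono] at hab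
  · intro g
    obtain ⟨g', hg'⟩ := (hπ.2 T hT).2 (g ≫ inv e)
    dsimp only at hg'
    refine ⟨g', ?_⟩
    dsimp only
    rw [← Category.assoc, hg', Category.assoc, IsIso.inv_hom_id, Category.comp_id]

end Groth.Agent.Lib.Helper9.Perf
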