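import Groth.Agent.Lib.Helper9.Perf4
import Mathlib.RingTheory.Spectrum.Prime.Homeomorph

universe u

open CategoryTheory CategoryTheory.Limits AlgebraicGeometry TopologicalSpace

namespace Groth.Agent.Lib.Helper9.Perf

variable (p : ℕ) [Fact p.Prime]

/-- Local-to-global principle for perfections: a property local on the target which holds for
`Spec (PerfectClosure K p) ⟶ Spec K` holds for every perfection. -/
theorem of_isPerfection (P : MorphismProperty Scheme.{u}) [IsZariskiLocalAtTarget P]
    [P.ContainsIdentities]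
    (hP : ∀ (K : Type u) [CommRing K] [CharP K p],
      P (Spec.map (CommRingCat.ofHom (PerfectClosure.of K p))))
    {X' X : Scheme.{u}} (π : X' ⟶ X) [FrobSch.IsCharP X p] [FrobSch.IsCharP X' p]
    (hπ : FrobSch.IsPerfection π p) : P π := by
  rw [IsZariskiLocalAtTarget.iff_of_openCover (P := P) X.affineCover]
  intro i
  let 𝒰 := X.affineCover
  change P (pullback.snd π (𝒰.f i))
  haveI : FrobSch.IsCharP (pullback π (𝒰.f i)) p := FrobSch.IsCharP.of_hom (pullback.fst _ _) p
  haveI : FrobSch.IsCharP (𝒰.X i) p := FrobSch.IsCharP.of_hom (𝒰.f i) p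
  have h1 : FrobSch.IsPerfection (pullback.snd π (𝒰.f i)) p :=
    isPerfection_of_isPullback_of_isOpenImmersion p π (𝒰.f i) _ _ (IsPullback.of_hasPullback _ _) hπ
  let A : CommRingCat.{u} := Γ(𝒰.X i, ⊤)
  rcases subsingleton_or_nontrivial A with hs | hn
  · have : IsEmpty (Spec A) := inferInstanceAs (IsEmpty (PrimeSpectrum A))
    have : IsEmpty (𝒰.X i) := Function.isEmpty (𝒰.X i).isoSpec.hom
    have : IsIso (pullback.snd π (𝒰.f i)) := isIso_of_isEmpty _
    exact P.of_isIso _
  · have hp0 : (p : A) = 0 := FrobSch.IsCharP.natCast_eq_zero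
    haveI : CharP A p := (CharP.charP_iff_prime_eq_zero Fact.out).2 hp0
    have h2 := isPerfection_comp_iso p _ h1 (𝒰.X i).isoSpec.hom
    obtain ⟨e, he⟩ := exists_iso_of_isPerfection p _ _ h2 (isPerfection_SpecMap_of p A)
    have h3 : pullback.snd π (𝒰.f i) =
        e.hom ≫ Spec.map (CommRingCat.ofHom (PerfectClosure.of A p)) ≫ (𝒰.X i).isoSpec.inv := by
      rw [reassoc_of% he, Iso.hom_inv_id, Category.comp_id]
    rw [h3, P.cancel_left_of_respectsIso, P.cancel_right_of_respectsIso]
    exact hP A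

end Groth.Agent.Lib.Helper9.Perf
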