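import Groth.Agent.Lib.Helper9.Perf5

universe u

open CategoryTheory CategoryTheory.Limits AlgebraicGeometry TopologicalSpace

namespace Groth.Agent.Lib.Helper9.Perf

variable (p : ℕ) [Fact p.Prime]

section ring
variable (K : Type u) [CommRing K] [CharP K p]

theorem exists_pow_mem_range_of (x : PerfectClosure K p) :
    ∃ n > 0, x ^ n ∈ (PerfectClosure.of K p).range := by
  induction x using PerfectClosure.induction_on with
  | _ x =>
    obtain ⟨n, a⟩ := x
    refine ⟨p ^ n, pow_pos (Fact.out : p.Prime).pos n, a, ?_⟩
    rw [← PerfectClosure.iterate_frobenius_mk K p n a, iterate_frobenius]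

theorem ker_of_le_nilradical : RingHom.ker (PerfectClosure.of K p) ≤ nilradical K := by
  intro a ha
  rw [RingHom.mem_ker, PerfectClosure.of_apply, ← PerfectClosure.mk_zero,
    PerfectClosure.mk_eq_iff] at ha
  obtain ⟨z, hz⟩ := ha
  rw [mem_nilradical]
  refine ⟨p ^ z, ?_⟩
  simpa [iterate_frobenius, zero_pow (pow_ne_zero _ (Fact.out : p.Prime).ne_zero)] using hz

theorem isIntegral_of : (PerfectClosure.of K p).IsIntegral := by
  intro x
  obtain ⟨n, hn, a, ha⟩ := exists_pow_mem_range_of p K x
  let _ := (PerfectClosure.of K p).toAlgebra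
  refine IsIntegral.of_pow hn ?_
  rw [← ha]
  exact (PerfectClosure.of K p).isIntegralElem_map

instance isIntegralHom_SpecMap_of :
    IsIntegralHom (Spec.map (CommRingCat.ofHom (PerfectClosure.of K p))) :=
  IsIntegralHom.SpecMap_iff.mpr (isIntegral_of p K)

instance surjective_SpecMap_of :
    Surjective (Spec.map (CommRingCat.ofHom (PerfectClosure.of K p))) := by
  have := PrimeSpectrum.isHomeomorph_comap (PerfectClosure.of K p)
    (exists_pow_mem_range_of p K) (ker_of_le_nilradical p K)
  exact ⟨this.surjective⟩

end ring

section scheme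
variable {X' X : Scheme.{u}} (π : X' ⟶ X) [FrobSch.IsCharP X p] [FrobSch.IsCharP X' p]
  (hπ : FrobSch.IsPerfection π p)
include hπ

set_option backward.isDefEq.respectTransparency.types false in
theorem isIntegralHom_of_isPerfection : IsIntegralHom π :=
  of_isPerfection p @IsIntegralHom (fun K _ _ => inferInstance) π hπ

set_option backward.isDefEq.respectTransparency.types false in
theorem surjective_of_isPerfection : Surjective π :=
  of_isPerfection p @Surjective.{u} (fun K _ _ => inferInstance) π hπ

end scheme

end Groth.Agent.Lib.Helper9.Perf
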