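import Groth.Agent.Lib.Helper9.Perf7
import Mathlib.AlgebraicGeometry.Morphisms.QuasiCompact

universe u

open CategoryTheory CategoryTheory.Limits AlgebraicGeometry TopologicalSpace

namespace Groth.Agent.Lib.Helper9.Perf

theorem isCompact_preimage_of_isHomeomorph {A B : Type*} [TopologicalSpace A] [TopologicalSpace B]
    {f : A → B} (hf : IsHomeomorph f) {s : Set B} (hs : IsCompact s) : IsCompact (f ⁻¹' s) :=
  ((hf.homeomorph f).isCompact_preimage (s := s)).mpr hs

/-- Quasi-compactness transfers along a commutative square whose vertical maps are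
homeomorphisms. -/
theorem quasiCompact_iff_of_isHomeomorph {X Y XP YP : Scheme.{u}} (πX : XP ⟶ X) (πY : YP ⟶ Y)
    (hX : IsHomeomorph πX.base) (hY : IsHomeomorph πY.base)
    (f : X ⟶ Y) (fP : XP ⟶ YP) (w : fP ≫ πY = πX ≫ f) :
    QuasiCompact f ↔ QuasiCompact fP := by
  have hw : ∀ x, πY (fP x) = f (πX x) := fun x => by
    rw [← Scheme.Hom.comp_apply, w, Scheme.Hom.comp_apply]
  constructor
  · intro hf
    refine ⟨fun U' hU' hc => ?_⟩
    have h1 : IsCompact (f ⁻¹' (πY '' U')) :=
      hf.isCompact_preimage _ (hY.isOpenMap _ hU') (hc.image πY.continuous)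
    have h2 : fP ⁻¹' U' = πX ⁻¹' (f ⁻¹' (πY '' U')) := by
      ext x
      simp only [Set.mem_preimage, Set.mem_image]
      constructor
      · intro hx; exact ⟨fP x, hx, hw x⟩
      · rintro ⟨y, hy, hyx⟩
        rw [← hw x] at hyx
        rwa [← hY.injective hyx]
    rw [h2]
    exact isCompact_preimage_of_isHomeomorph hX h1
  · intro hf
    refine ⟨fun U hU hc => ?_⟩
    have h1 : IsCompact (fP ⁻¹' (πY ⁻¹' U)) :=
      hf.isCompact_preimage _ (hU.preimage πY.continuous) (isCompact_preimage_of_isHomeomorph hY hc)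
    have h2 : f ⁻¹' U = πX '' (fP ⁻¹' (πY ⁻¹' U)) := by
      ext x
      simp only [Set.mem_preimage, Set.mem_image]
      constructor
      · intro hx
        obtain ⟨x', rfl⟩ := hX.surjective x
        exact ⟨x', by rwa [hw], rfl⟩
      · rintro ⟨x', hx', rfl⟩
        rwa [← hw]
    rw [h2]
    exact h1.image πX.continuous

end Groth.Agent.Lib.Helper9.Perf
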