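import Groth.Agent.Lib.Helper9.Perf8
import Mathlib.AlgebraicGeometry.Morphisms.ClosedImmersion

universe u

open CategoryTheory CategoryTheory.Limits AlgebraicGeometry TopologicalSpace

namespace Groth.Agent.Lib.Helper9.Perf

variable (p : ℕ) [Fact p.Prime]

/-- A ring map between perfect closures covering a surjection is surjective. -/
theorem surjective_of_comp_of (A B : Type u) [CommRing A] [CommRing B] [CharP A p] [CharP B p]
    (φ : A →+* B) (hφ : Function.Surjective φ)
    (ψ : PerfectClosure A p →+* PerfectClosure B p)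
    (h : ψ.comp (PerfectClosure.of A p) = (PerfectClosure.of B p).comp φ) :
    Function.Surjective ψ := by
  intro b'
  induction b' using PerfectClosure.induction_on with
  | _ x =>
    obtain ⟨n, b⟩ := x
    obtain ⟨a, rfl⟩ := hφ b
    refine ⟨PerfectClosure.mk A p (n, a), ?_⟩
    apply (frobenius_inj (PerfectClosure B p) p).iterate n
    rw [← RingHom.map_iterate_frobenius, PerfectClosure.iterate_frobenius_mk,
      PerfectClosure.iterate_frobenius_mk]
    exact congrArg (fun g : A →+* PerfectClosure B p => g a) h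

theorem isClosedImmersion_of_isEmpty {X Y : Scheme.{u}} (f : X ⟶ Y) [IsEmpty X] :
    IsClosedImmersion f := by
  apply IsClosedImmersion.of_isPreimmersion
  have : Set.range f.base = ∅ := Set.range_eq_empty _
  rw [this]
  exact isClosed_empty


/-- Affine case: the perfection of a closed immersion into an affine scheme is a closed
immersion. -/
theorem isClosedImmersion_of_isPerfection_of_isAffine {Xi V XPi YPi : Scheme.{u}} [IsAffine V]
    (fi : Xi ⟶ V) [IsClosedImmersion fi]
    [FrobSch.IsCharP Xi p] [FrobSch.IsCharP V p] [FrobSch.IsCharP XPi p] [FrobSch.IsCharP YPi p]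
    (πX : XPi ⟶ Xi) (πY : YPi ⟶ V) (hX : FrobSch.IsPerfection πX p)
    (hY : FrobSch.IsPerfection πY p) (q : XPi ⟶ YPi) (w : q ≫ πY = πX ≫ fi) :
    IsClosedImmersion q := by
  obtain ⟨hXi, hsurj⟩ := IsClosedImmersion.isAffine_surjective_of_isAffine fi
  let A : CommRingCat.{u} := Γ(V, ⊤)
  let B : CommRingCat.{u} := Γ(Xi, ⊤)
  rcases subsingleton_or_nontrivial B with hs | hn
  · have : IsEmpty (Spec B) := inferInstanceAs (IsEmpty (PrimeSpectrum B))
    have : IsEmpty Xi := Function.isEmpty Xi.isoSpec.hom
    have : IsEmpty XPi := Function.isEmpty πX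
    exact isClosedImmersion_of_isEmpty q
  · have hnA : Nontrivial A := (fi.appTop.hom).domain_nontrivial
    have hpA : (p : A) = 0 := FrobSch.IsCharP.natCast_eq_zero
    have hpB : (p : B) = 0 := FrobSch.IsCharP.natCast_eq_zero
    haveI : CharP A p := (CharP.charP_iff_prime_eq_zero Fact.out).2 hpA
    haveI : CharP B p := (CharP.charP_iff_prime_eq_zero Fact.out).2 hpB
    obtain ⟨eY, heY⟩ := exists_iso_of_isPerfection p _ _
      (isPerfection_comp_iso p πY hY V.isoSpec.hom) (isPerfection_SpecMap_of p A)
    obtain ⟨eX, heX⟩ := exists_iso_of_isPerfection p _ _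
      (isPerfection_comp_iso p πX hX Xi.isoSpec.hom) (isPerfection_SpecMap_of p B)
    let ψ : CommRingCat.of (PerfectClosure A p) ⟶ CommRingCat.of (PerfectClosure B p) :=
      Spec.preimage (eX.inv ≫ q ≫ eY.hom)
    have hψ' : Spec.map ψ = eX.inv ≫ q ≫ eY.hom := Spec.map_preimage _
    have hψ : CommRingCat.ofHom (PerfectClosure.of A p) ≫ ψ =
        fi.appTop ≫ CommRingCat.ofHom (PerfectClosure.of B p) := by
      apply Spec.map_injective
      rw [Spec.map_comp, Spec.map_comp, hψ']
      have h1 : Spec.map (CommRingCat.ofHom (PerfectClosure.of B p)) =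
          eX.inv ≫ πX ≫ Xi.isoSpec.hom := by
        rw [← heX, Iso.inv_hom_id_assoc]
      rw [h1]
      simp only [Category.assoc]
      rw [heY, reassoc_of% w, Scheme.isoSpec_hom_naturality]
    have hsψ : Function.Surjective ψ.hom := by
      refine surjective_of_comp_of p A B fi.appTop.hom hsurj ψ.hom ?_
      have := congrArg CommRingCat.Hom.hom hψ
      exact this
    have hci : IsClosedImmersion (Spec.map ψ) := IsClosedImmersion.spec_of_surjective ψ hsψ
    have hq : q = eX.hom ≫ Spec.map ψ ≫ eY.inv := by
      rw [hψ']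
      simp
    rw [hq]
    infer_instance

end Groth.Agent.Lib.Helper9.Perf
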