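import Groth.Agent.Lib.Helper9.PRad3
import Mathlib.FieldTheory.IsPerfectClosure

/-!
# Universal homeomorphisms in characteristic `p` and perfect closures (Stacks 0CNF)
-/

set_option autoImplicit false
set_option linter.style.haveILetI false
universe u
open CategoryTheory AlgebraicGeometry

namespace Groth.Agent.Lib.Helper9.PRad

section perf

variable (p : ℕ) [Fact p.Prime] {A B A' B' : Type*} [CommRing A] [CommRing B] [CommRing A']
  [CommRing B'] [CharP A p] [CharP B p] [CharP A' p] [CharP B' p] [PerfectRing A' p]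
  [PerfectRing B' p] (φ : A →+* B) (i : A →+* A') (j : B →+* B') [IsPerfectClosure i p]
  [IsPerfectClosure j p] (φ' : A' →+* B') (hφ : φ'.comp i = j.comp φ)

omit [CharP A p] in
include hφ in
theorem bijective_iff_ker_nil_and_pow_mem :
    Function.Bijective φ' ↔
      (∀ a ∈ RingHom.ker φ, IsNilpotent a) ∧ ∀ b : B, ∃ (n : ℕ) (a : A), φ a = b ^ p ^ n := by
  have hp : p.Prime := Fact.out
  have hsq : ∀ a : A, φ' (i a) = j (φ a) := fun a =>
    congrArg (fun ψ : A →+* B' => ψ a) hφ
  have hredA' : ∀ (x : A') (n : ℕ), x ^ p ^ n = 0 → x = 0 := by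
    intro x n hx
    have := (bijective_iterateFrobenius A' p n).1
    apply this
    rw [iterateFrobenius_def, iterateFrobenius_def, hx, zero_pow (pow_ne_zero _ hp.ne_zero)]
  constructor
  · intro hbij
    constructor
    · intro a ha
      have h1 : φ' (i a) = 0 := by rw [hsq, (RingHom.mem_ker).mp ha, map_zero]
      have h2 : i a = 0 := hbij.1 (h1.trans (map_zero φ').symm)
      have h3 : a ∈ pNilradical A p := IsPRadical.ker_le i p ((RingHom.mem_ker).mpr h2)
      exact pNilradical_le_nilradical h3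
    · intro b
      obtain ⟨a', ha'⟩ := hbij.2 (j b)
      obtain ⟨n, a, ha⟩ := IsPRadical.pow_mem i p a'
      have h1 : j (φ a - b ^ p ^ n) = 0 := by
        rw [map_sub, ← hsq, ha, map_pow, ha', map_pow, sub_self]
      have h2 : φ a - b ^ p ^ n ∈ pNilradical B p :=
        IsPRadical.ker_le j p ((RingHom.mem_ker).mpr h1)
      obtain ⟨m, hm⟩ := sub_mem_pNilradical_iff_pow_expChar_pow_eq.mp h2
      refine ⟨n + m, a ^ p ^ m, ?_⟩
      rw [map_pow, hm, ← pow_mul, ← pow_add]
  · rintro ⟨hker, hpow⟩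
    constructor
    · rw [injective_iff_map_eq_zero]
      intro a' ha'
      obtain ⟨n, a, ha⟩ := IsPRadical.pow_mem i p a'
      have h1 : j (φ a) = 0 := by rw [← hsq, ha, map_pow, ha', zero_pow (pow_ne_zero _ hp.ne_zero)]
      have h2 : φ a ∈ pNilradical B p := IsPRadical.ker_le j p ((RingHom.mem_ker).mpr h1)
      obtain ⟨m, hm⟩ := mem_pNilradical.mp h2
      have h3 : a ^ p ^ m ∈ RingHom.ker φ := by rw [RingHom.mem_ker, map_pow, hm]
      obtain ⟨k, hk⟩ := hker _ h3
      have h4 : IsNilpotent (i a) := ⟨p ^ m * k, by rw [← map_pow, pow_mul, hk, map_zero]⟩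
      have h5 : i a = 0 := by
        obtain ⟨k', hk'⟩ := h4
        apply hredA' (i a) k'
        obtain ⟨d, hd⟩ := Nat.exists_eq_add_of_le (Nat.lt_pow_self hp.one_lt (n := k')).le
        rw [hd, pow_add, hk', zero_mul]
      apply hredA' a' n
      rw [← ha, h5]
    · intro b'
      obtain ⟨n, b, hb⟩ := IsPRadical.pow_mem j p b'
      obtain ⟨m, a, ha⟩ := hpow b
      obtain ⟨a'', ha''⟩ := (bijective_iterateFrobenius A' p (n + m)).2 (i a)
      rw [iterateFrobenius_def] at ha''
      refine ⟨a'', ?_⟩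
      apply (bijective_iterateFrobenius B' p (n + m)).1
      rw [iterateFrobenius_def, iterateFrobenius_def, ← map_pow, ha'', hsq, ha, map_pow, hb,
        ← pow_mul, ← pow_add]

end perf

/-- Stacks 0CNF. -/
theorem isUnivHomeo_iff_of_charP {A B : Type u} [CommRing A] [CommRing B] (p : ℕ) [Fact p.Prime]
    [CharP A p] (φ : A →+* B) :
    FlatMor.IsUnivHomeo (Spec.map (CommRingCat.ofHom φ)) ↔
      (∀ a ∈ RingHom.ker φ, IsNilpotent a) ∧ ∀ b : B, ∃ (n : ℕ) (a : A), φ a = b ^ p ^ n := by
  have hp : p.Prime := Fact.out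
  have hpA : (p : A) = 0 := CharP.cast_eq_zero A p
  have hpB : (p : B) = 0 := by rw [← map_natCast φ, hpA, map_zero]
  have hsurj : Function.Surjective (Localization.awayMap φ (p : A)) := by
    rw [Localization.awayMap_surjective_iff]
    intro b
    exact ⟨0, 1, by rw [hpA, map_zero, pow_one, zero_mul]⟩
  rw [isUnivHomeo_iff_of_awayMap_surjective φ p hp hsurj]
  refine and_congr_right fun _ => forall_congr' fun b => ?_
  constructor
  · rintro ⟨n, -, a, ha⟩
    exact ⟨n, a, ha⟩
  · rintro ⟨n, a, ha⟩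
    refine ⟨n + 1, ?_, mono_pow (Nat.le_succ n) ⟨a, ha⟩⟩
    rw [hpB, pow_succ, mul_zero, zero_mul]
    exact Subring.zero_mem _

end Groth.Agent.Lib.Helper9.PRad
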