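import Groth.Agent.Lib.Helper9.PhSheaf2

set_option autoImplicit false
universe u w
open CategoryTheory CategoryTheory.Limits AlgebraicGeometry TopologicalSpace

namespace Groth.Agent.Lib.Helper9.PhCov

theorem isProper_coprodDesc {A B T : Scheme.{u}} (f : A ⟶ T) (g : B ⟶ T) [IsProper f] [IsProper g] :
    IsProper (coprod.desc f g) := by
  have h1 : coprod.desc f g = coprod.map f g ≫ coprod.desc (𝟙 T) (𝟙 T) := by
    ext <;> simp
  rw [h1]
  haveI : IsProper (coprod.map f g) :=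
    IsZariskiLocalAtTarget.coprodMap (P := @IsProper) f g inferInstance inferInstance
  haveI : IsFinite (coprod.desc (𝟙 T) (𝟙 T)) := inferInstance
  infer_instance

/-- finite affine cover of the preimage of an affine open under a quasi-compact morphism -/
lemma exists_finite_affine_cover_preimage {A T : Scheme.{u}} (f : A ⟶ T) [QuasiCompact f]
    (U : T.affineOpens) :
    ∃ (n : ℕ) (idx : Fin n → A.affineOpens) (hle : ∀ k, (idx k).1 ≤ f ⁻¹ᵁ U.1),
      ∀ x : (f ⁻¹ᵁ U.1 : Scheme.{u}), ∃ k, x ∈ Set.range (A.homOfLE (hle k)) := by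
  classical
  have hc : IsCompact (f ⁻¹ᵁ U.1 : Set A) := f.isCompact_preimage U.2.isCompact
  obtain ⟨s, hs, e⟩ := isCompact_iff_finite_and_eq_biUnion_affineOpens.mp hc
  let n := hs.toFinset.card
  let idx : Fin n → A.affineOpens := fun k => (hs.toFinset.equivFin.symm k).1
  have hidx : ∀ k, idx k ∈ s := fun k => hs.mem_toFinset.mp (hs.toFinset.equivFin.symm k).2
  have hle : ∀ k, (idx k).1 ≤ f ⁻¹ᵁ U.1 := by
    intro k x hx
    change x ∈ f ⁻¹ᵁ U.1
    rw [e]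
    exact Opens.mem_iSup.mpr ⟨idx k, Opens.mem_iSup.mpr ⟨hidx k, hx⟩⟩
  refine ⟨n, idx, hle, fun x => ?_⟩
  obtain ⟨x₀, hx₀⟩ : ∃ x₀ : A, x₀ = (f ⁻¹ᵁ U.1).ι x := ⟨_, rfl⟩
  have hx : x₀ ∈ ⨆ i ∈ s, (i : A.Opens) := by
    rw [← e, hx₀]
    have : (f ⁻¹ᵁ U.1).ι x ∈ Set.range (f ⁻¹ᵁ U.1).ι := ⟨x, rfl⟩
    rwa [Scheme.Opens.range_ι] at this
  obtain ⟨V, hV'⟩ := Opens.mem_iSup.mp hx
  obtain ⟨hVs, hV⟩ := Opens.mem_iSup.mp hV'
  let k : Fin n := hs.toFinset.equivFin ⟨V, hs.mem_toFinset.mpr hVs⟩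
  have hk : idx k = V := by simp [idx, k]
  refine ⟨k, ⟨⟨x₀, by rw [hk]; exact hV⟩, ?_⟩⟩
  apply (f ⁻¹ᵁ U.1).ι.isOpenEmbedding.injective
  rw [← hx₀]
  change (A.homOfLE (hle k) ≫ (f ⁻¹ᵁ U.1).ι) _ = x₀
  rw [Scheme.homOfLE_ι]
  rfl

/-- Two proper jointly surjective members make a family (of locally finite type morphisms) a ph
covering. -/
theorem isPhCover_of_two_proper {T : Scheme.{u}} (E : PreZeroHypercover.{w} T)
    (hft : ∀ i, LocallyOfFiniteType (E.f i)) (j₀ j₁ : E.I₀)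
    [IsProper (E.f j₀)] [IsProper (E.f j₁)]
    (hsurj : ∀ t : T, t ∈ Set.range (E.f j₀) ∨ t ∈ Set.range (E.f j₁)) : HTop.IsPhCover E := by
  classical
  refine ⟨hft, ?_⟩
  intro U
  set f := E.f j₀ with hf
  set g := E.f j₁ with hg
  obtain ⟨nA, idxA, hleA, hcovA⟩ := exists_finite_affine_cover_preimage f U
  obtain ⟨nB, idxB, hleB, hcovB⟩ := exists_finite_affine_cover_preimage g U
  let F : PreZeroHypercover.{0} (U.1 : Scheme.{u}) :=
    { I₀ := Fin nA ⊕ Fin nB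
      X := fun k => Sum.rec (fun k => ((idxA k).1 : Scheme.{u})) (fun k => ((idxB k).1 : Scheme.{u})) k
      f := fun k => Sum.rec (motive := fun k => (Sum.rec (fun k => ((idxA k).1 : Scheme.{u}))
          (fun k => ((idxB k).1 : Scheme.{u})) k : Scheme.{u}) ⟶ (U.1 : Scheme.{u}))
        (fun k => (E.X j₀).homOfLE (hleA k) ≫ (f ∣_ U.1))
        (fun k => (E.X j₁).homOfLE (hleB k) ≫ (g ∣_ U.1)) k }
  haveI : IsProper (f ∣_ U.1) := IsZariskiLocalAtTarget.restrict ‹IsProper f› U.1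
  haveI : IsProper (g ∣_ U.1) := IsZariskiLocalAtTarget.restrict ‹IsProper g› U.1
  refine ⟨F, ⟨U.2, inferInstanceAs (Finite (Fin nA ⊕ Fin nB)), ?_, ?_⟩, ?_⟩
  · rintro (k | k)
    · exact (idxA k).2
    · exact (idxB k).2
  · refine ⟨(f ⁻¹ᵁ U.1 : Scheme.{u}) ⨿ (g ⁻¹ᵁ U.1 : Scheme.{u}),
      coprod.desc (f ∣_ U.1) (g ∣_ U.1),
      fun k => Sum.rec (motive := fun k => F.X k ⟶ (f ⁻¹ᵁ U.1 : Scheme.{u}) ⨿ (g ⁻¹ᵁ U.1 : Scheme.{u}))
        (fun k => (E.X j₀).homOfLE (hleA k) ≫ coprod.inl)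
        (fun k => (E.X j₁).homOfLE (hleB k) ≫ coprod.inr) k,
      isProper_coprodDesc _ _, ?_, ?_, ?_, ?_⟩
    · -- surjective
      refine ⟨fun u => ?_⟩
      rcases hsurj u.1 with ⟨a, ha⟩ | ⟨b, hb⟩
      · have haU : a ∈ f ⁻¹ᵁ U.1 := by
          change f a ∈ U.1; rw [ha]; exact u.2
        refine ⟨(coprod.inl : (f ⁻¹ᵁ U.1 : Scheme.{u}) ⟶ _) ⟨a, haU⟩, ?_⟩
        rw [← Scheme.Hom.comp_apply, coprod.inl_desc]
        apply U.1.ι.isOpenEmbedding.injective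
        rw [← Scheme.Hom.comp_apply, morphismRestrict_ι, Scheme.Hom.comp_apply]
        exact ha
      · have hbU : b ∈ g ⁻¹ᵁ U.1 := by
          change g b ∈ U.1; rw [hb]; exact u.2
        refine ⟨(coprod.inr : (g ⁻¹ᵁ U.1 : Scheme.{u}) ⟶ _) ⟨b, hbU⟩, ?_⟩
        rw [← Scheme.Hom.comp_apply, coprod.inr_desc]
        apply U.1.ι.isOpenEmbedding.injective
        rw [← Scheme.Hom.comp_apply, morphismRestrict_ι, Scheme.Hom.comp_apply]
        exact hb
    · rintro (k | k)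
      · change IsOpenImmersion ((E.X j₀).homOfLE (hleA k) ≫ coprod.inl)
        infer_instance
      · change IsOpenImmersion ((E.X j₁).homOfLE (hleB k) ≫ coprod.inr)
        infer_instance
    · rintro (k | k)
      · change ((E.X j₀).homOfLE (hleA k) ≫ coprod.inl) ≫ coprod.desc _ _ = _
        rw [Category.assoc, coprod.inl_desc]
      · change ((E.X j₁).homOfLE (hleB k) ≫ coprod.inr) ≫ coprod.desc _ _ = _
        rw [Category.assoc, coprod.inr_desc]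
    · intro x
      obtain ⟨(a | b), rfl⟩ := (coprodMk _ _).surjective x
      · obtain ⟨k, y, hy⟩ := hcovA a
        refine ⟨Sum.inl k, y, ?_⟩
        change ((E.X j₀).homOfLE (hleA k) ≫ coprod.inl) y = _
        rw [Scheme.Hom.comp_apply, hy, coprodMk_inl]
      · obtain ⟨k, y, hy⟩ := hcovB b
        refine ⟨Sum.inr k, y, ?_⟩
        change ((E.X j₁).homOfLE (hleB k) ≫ coprod.inr) y = _
        rw [Scheme.Hom.comp_apply, hy, coprodMk_inr]
  · rintro (k | k)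
    · refine ⟨j₀, (idxA k).1.ι, ?_⟩
      change _ = ((E.X j₀).homOfLE (hleA k) ≫ (f ∣_ U.1)) ≫ U.1.ι
      rw [Category.assoc, morphismRestrict_ι, ← Category.assoc, Scheme.homOfLE_ι]
    · refine ⟨j₁, (idxB k).1.ι, ?_⟩
      change _ = ((E.X j₁).homOfLE (hleB k) ≫ (g ∣_ U.1)) ≫ U.1.ι
      rw [Category.assoc, morphismRestrict_ι, ← Category.assoc, Scheme.homOfLE_ι]

end Groth.Agent.Lib.Helper9.PhCov
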