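import Groth.Agent.Lib.Helper9.PhCov1
import Groth.Agent.Lib.Helper9.BlowProper8
import Groth.Agent.Lib.Helper9.HSheaf6

set_option autoImplicit false
universe u w
open CategoryTheory CategoryTheory.Limits AlgebraicGeometry TopologicalSpace Opposite

namespace Groth.Agent.Lib.Helper9.PhCov

open Groth.Agent.Lib.Helper9.VCov

theorem isFiniteTypeIdeal_ker_of_lfp {Z X : Scheme.{u}} (i : Z ⟶ X) [IsClosedImmersion i]
    [LocallyOfFinitePresentation i] : BlowUp.IsFiniteTypeIdeal i.ker := by
  intro U
  rw [Scheme.Hom.ker_apply]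
  have haff : IsAffineOpen (i ⁻¹ᵁ U.1) := U.2.preimage i
  have hsurj : Function.Surjective (i.app U.1).hom := i.app_surjective U.1 U.2
  have hfp : (i.app U.1).hom.FinitePresentation := by
    have := HasRingHomProperty.appLE (P := @LocallyOfFinitePresentation) i inferInstance U
      ⟨i ⁻¹ᵁ U.1, haff⟩ le_rfl
    rwa [← Scheme.Hom.app_eq_appLE] at this
  set φ := (i.app U.1).hom with hφ
  letI : Algebra Γ(X, U.1) Γ(Z, i ⁻¹ᵁ U.1) := φ.toAlgebra
  haveI : Algebra.FinitePresentation Γ(X, U.1) Γ(Z, i ⁻¹ᵁ U.1) := hfp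
  have h := Algebra.FinitePresentation.ker_fG_of_surjective
    (Algebra.ofId Γ(X, U.1) Γ(Z, i ⁻¹ᵁ U.1)) hsurj
  exact h

theorem isProper_of_isBlowUp_ker {Z X X' : Scheme.{u}} (i : Z ⟶ X) [IsClosedImmersion i]
    [LocallyOfFinitePresentation i] (b : X' ⟶ X) (hb : BlowUp.IsBlowUp b i.ker) : IsProper b :=
  Groth.Agent.Lib.Helper9.BlowProper.isProper_of_isBlowUp hb (isFiniteTypeIdeal_ker_of_lfp i)

end Groth.Agent.Lib.Helper9.PhCov

namespace Groth.Agent.Lib.Helper9.PhCov

open Groth.Agent.Lib.Helper9.VCov MorphismProperty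

/-- compatibility of a section over `X` with itself along `f`, given agreement over `E` (ph). -/
theorem compat_self_ph (S : Scheme.{u}) (F : HTop.ShPh S)
    {E Z X Y : Over S} (e : E ⟶ X) (π : E ⟶ Z) (f : X ⟶ Y) (i : Z ⟶ Y)
    [IsProper f.left] [IsClosedImmersion i.left]
    (hsq : IsPullback e.left π.left f.left i.left)
    (U : Y.left.Opens) (hU : (U : Set Y.left) = (Set.range i.left.base)ᶜ)
    (hiso : IsIso (f.left ∣_ U))
    (t : F.obj.obj (op Z)) (s' : F.obj.obj (op X)) (hts : F.obj.map π.op t = F.obj.map e.op s')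
    {W : Over S} (g1 g2 : W ⟶ X) (hg : g1 ≫ f = g2 ≫ f) :
    F.obj.map g1.op s' = F.obj.map g2.op s' := by
  have hF : Presieve.IsSheaf (HTop.phPrecoverage.toGrothendieck.over S) F.obj :=
    (isSheaf_iff_isSheaf_of_type _ _).mp F.property
  have hab : g1.left ≫ f.left = g2.left ≫ f.left := by
    rw [← Over.comp_left, ← Over.comp_left, hg]
  let C₁ : Over S := Over.mk (eqι f.left g1.left g2.left hab ≫ W.hom)
  let c₁ : C₁ ⟶ W := Over.homMk (eqι f.left g1.left g2.left hab) rfl
  let C₂ : Over S := Over.mk (pullback.fst (g1.left ≫ f.left) i.left ≫ W.hom)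
  let c₂ : C₂ ⟶ W := Over.homMk (pullback.fst (g1.left ≫ f.left) i.left) rfl
  let Zf : Bool → Over S := fun j => Bool.rec C₂ C₁ j
  let gf : ∀ j, Zf j ⟶ W := fun j => Bool.rec (motive := fun j => Zf j ⟶ W) c₂ c₁ j
  let E₀ : PreZeroHypercover.{0} W.left := ⟨Bool, fun j => (Zf j).left, fun j => (gf j).left⟩
  have hci : ∀ j, IsClosedImmersion (E₀.f j) := by
    intro j
    cases j
    · change IsClosedImmersion (pullback.fst (g1.left ≫ f.left) i.left)
      infer_instance
    · change IsClosedImmersion (eqι f.left g1.left g2.left hab)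
      infer_instance
  have hcov : HTop.IsPhCover E₀ := by
    haveI := hci false
    haveI := hci true
    apply isPhCover_of_two_proper E₀ (fun j => by haveI := hci j; infer_instance) false true
    intro w
    rcases closed_cover_surjective f.left i.left g1.left g2.left hab U hU w with h | h
    · exact Or.inr h
    · exact Or.inl h
  have hmem : Presieve.ofArrows (fun j => (Zf j).left) (fun j => (gf j).left) ∈
      HTop.phPrecoverage W.left := (HTop.presieve₀_mem_phPrecoverage_iff E₀).mpr hcov
  have hsep := (isSheafFor_ofArrows_over S F.obj hF Zf gf hmem).isSeparatedFor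
  apply hsep.ext
  rintro V m ⟨j⟩
  cases j
  · change F.obj.map c₂.op (F.obj.map g1.op s') = F.obj.map c₂.op (F.obj.map g2.op s')
    have hc1 : (pullback.fst (g1.left ≫ f.left) i.left ≫ g1.left) ≫ f.left =
        pullback.snd (g1.left ≫ f.left) i.left ≫ i.left := by
      rw [Category.assoc, pullback.condition]
    have hc2 : (pullback.fst (g1.left ≫ f.left) i.left ≫ g2.left) ≫ f.left =
        pullback.snd (g1.left ≫ f.left) i.left ≫ i.left := by
      rw [Category.assoc, ← hab, pullback.condition]
    let l1 : C₂ ⟶ E := Over.homMk (hsq.lift _ _ hc1) (by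
      rw [← Over.w e, ← Category.assoc, hsq.lift_fst, Category.assoc, Over.w g1]
      rfl)
    let l2 : C₂ ⟶ E := Over.homMk (hsq.lift _ _ hc2) (by
      rw [← Over.w e, ← Category.assoc, hsq.lift_fst, Category.assoc, Over.w g2]
      rfl)
    have e1 : c₂ ≫ g1 = l1 ≫ e := by
      apply Over.OverMorphism.ext
      simp only [Over.comp_left, c₂, l1, Over.homMk_left]
      rw [hsq.lift_fst]
    have e2 : c₂ ≫ g2 = l2 ≫ e := by
      apply Over.OverMorphism.ext
      simp only [Over.comp_left, c₂, l2, Over.homMk_left]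
      rw [hsq.lift_fst]
    have e3 : l1 ≫ π = l2 ≫ π := by
      apply Over.OverMorphism.ext
      simp only [Over.comp_left, l1, l2, Over.homMk_left]
      rw [hsq.lift_snd, hsq.lift_snd]
    rw [← Functor.map_comp_apply, ← Functor.map_comp_apply, ← op_comp, ← op_comp,
      e1, e2, op_comp, op_comp, Functor.map_comp_apply, Functor.map_comp_apply,
      ← hts, ← Functor.map_comp_apply, ← Functor.map_comp_apply, ← op_comp,
      ← op_comp, e3]
  · change F.obj.map c₁.op (F.obj.map g1.op s') = F.obj.map c₁.op (F.obj.map g2.op s')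
    have e1 : c₁ ≫ g1 = c₁ ≫ g2 := by
      apply Over.OverMorphism.ext
      simp only [Over.comp_left, c₁, Over.homMk_left]
      exact eqι_comp f.left g1.left g2.left hab
    rw [← Functor.map_comp_apply, ← Functor.map_comp_apply, ← op_comp, ← op_comp,
      e1]

/-- compatibility across `f` and `i` (any presheaf). -/
theorem compat_cross_ph (S : Scheme.{u}) (F : HTop.ShPh S)
    {E Z X Y : Over S} (e : E ⟶ X) (π : E ⟶ Z) (f : X ⟶ Y) (i : Z ⟶ Y)
    (hsq : IsPullback e.left π.left f.left i.left)
    (t : F.obj.obj (op Z)) (s' : F.obj.obj (op X)) (hts : F.obj.map π.op t = F.obj.map e.op s')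
    {W : Over S} (g1 : W ⟶ X) (g2 : W ⟶ Z) (hg : g1 ≫ f = g2 ≫ i) :
    F.obj.map g1.op s' = F.obj.map g2.op t := by
  have hab : g1.left ≫ f.left = g2.left ≫ i.left := by
    rw [← Over.comp_left, ← Over.comp_left, hg]
  let l : W ⟶ E := Over.homMk (hsq.lift _ _ hab) (by
    rw [← Over.w e, ← Category.assoc, hsq.lift_fst, Over.w g1])
  have e1 : l ≫ e = g1 := by
    apply Over.OverMorphism.ext
    simp only [Over.comp_left, l, Over.homMk_left]
    rw [hsq.lift_fst]
  have e2 : l ≫ π = g2 := by
    apply Over.OverMorphism.ext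
    simp only [Over.comp_left, l, Over.homMk_left]
    rw [hsq.lift_snd]
  rw [← e1, ← e2, op_comp, op_comp, Functor.map_comp_apply, Functor.map_comp_apply, hts]

/-- The cartesian square of sections for a ph sheaf. -/
theorem phSheaf_sections_cartesian' (S : Scheme.{u}) (F : HTop.ShPh S)
    {E Z X Y : Over S} (e : E ⟶ X) (π : E ⟶ Z) (f : X ⟶ Y) (i : Z ⟶ Y)
    [IsProper f.left] [IsClosedImmersion i.left]
    (hsq : IsPullback e.left π.left f.left i.left)
    (U : Y.left.Opens) (hU : (U : Set Y.left) = (Set.range i.left.base)ᶜ)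
    (hiso : IsIso (f.left ∣_ U))
    (t : F.obj.obj (op Z)) (s' : F.obj.obj (op X)) (hts : F.obj.map π.op t = F.obj.map e.op s') :
    ∃! s : F.obj.obj (op Y), F.obj.map i.op s = t ∧ F.obj.map f.op s = s' := by
  have hF : Presieve.IsSheaf (HTop.phPrecoverage.toGrothendieck.over S) F.obj :=
    (isSheaf_iff_isSheaf_of_type _ _).mp F.property
  let Zf : Bool → Over S := fun j => Bool.rec Z X j
  let gf : ∀ j, Zf j ⟶ Y := fun j => Bool.rec (motive := fun j => Zf j ⟶ Y) i f j
  let E₀ : PreZeroHypercover.{0} Y.left := ⟨Bool, fun j => (Zf j).left, fun j => (gf j).left⟩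
  have hpr : ∀ j, IsProper (E₀.f j) := by
    intro j
    cases j
    · change IsProper i.left
      infer_instance
    · change IsProper f.left
      infer_instance
  have hcov : HTop.IsPhCover E₀ := by
    haveI := hpr false
    haveI := hpr true
    apply isPhCover_of_two_proper E₀ (fun j => by haveI := hpr j; infer_instance) false true
    intro y
    by_cases hy : y ∈ Set.range i.left.base
    · exact Or.inl hy
    · right
      have hyU : y ∈ U := by
        change y ∈ (U : Set Y.left)
        rw [hU]; exact hy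
      have hsurj := (ConcreteCategory.bijective_of_isIso (f.left ∣_ U).base).2 ⟨y, hyU⟩
      obtain ⟨x, hx⟩ := hsurj
      refine ⟨(f.left ⁻¹ᵁ U).ι x, ?_⟩
      change (f.left) ((f.left ⁻¹ᵁ U).ι x) = y
      rw [← Scheme.Hom.comp_apply, ← morphismRestrict_ι, Scheme.Hom.comp_apply]
      change U.ι ((f.left ∣_ U).base x) = y
      rw [hx]
      rfl
  have hmem : Presieve.ofArrows (fun j => (Zf j).left) (fun j => (gf j).left) ∈
      HTop.phPrecoverage Y.left := (HTop.presieve₀_mem_phPrecoverage_iff E₀).mpr hcov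
  have hsh := isSheafFor_ofArrows_over S F.obj hF Zf gf hmem
  rw [Presieve.isSheafFor_arrows_iff] at hsh
  let x : ∀ j, F.obj.obj (op (Zf j)) := fun j =>
    Bool.rec (motive := fun j => F.obj.obj (op (Zf j))) t s' j
  have hcompat : Presieve.Arrows.Compatible F.obj gf x := by
    intro j k W g1 g2 hg
    cases j <;> cases k
    · -- both through i
      have : g1 = g2 := by
        apply Over.OverMorphism.ext
        have h1 : g1.left ≫ i.left = g2.left ≫ i.left := by
          rw [← Over.comp_left, ← Over.comp_left]; exact congrArg CommaMorphism.left hg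
        exact (cancel_mono i.left).1 h1
      rw [this]
    · exact (compat_cross_ph S F e π f i hsq t s' hts g2 g1 hg.symm).symm
    · exact compat_cross_ph S F e π f i hsq t s' hts g1 g2 hg
    · exact compat_self_ph S F e π f i hsq U hU hiso t s' hts g1 g2 hg
  obtain ⟨s, hs, hsu⟩ := hsh x hcompat
  refine ⟨s, ⟨hs false, hs true⟩, fun s₂ hs₂ => hsu s₂ (fun j => ?_)⟩
  cases j
  · exact hs₂.1
  · exact hs₂.2

end Groth.Agent.Lib.Helper9.PhCov
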