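import Groth.Agent.Lib.Helper9.VSheaf2

namespace Groth.Agent.Lib.Helper9.VCov

open CategoryTheory CategoryTheory.Limits AlgebraicGeometry TopologicalSpace IsLocalRing

universe u w w' v

section

variable (F : Scheme.{u}ᵒᵖ ⥤ Type v) (hzar : Presieve.IsSheaf Scheme.zariskiTopology F)

include hzar in
theorem isSheafFor_pullback_of_univ {U T : Scheme.{u}} (f : U ⟶ T)
    (hf : ∀ {Y : Scheme.{u}} (g : Y ⟶ T),
      Presieve.IsSheafFor F (Presieve.singleton (pullback.snd f g)))
    (S : Sieve T)
    (hS2 : S.pullback f ∈ Scheme.zariskiTopology U) {Y : Scheme.{u}} (g : Y ⟶ T) :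
    Presieve.IsSheafFor F (S.pullback g).arrows := by
  have hR : ∀ {Y : Scheme.{u}} (g : Y ⟶ T), Presieve.IsSheafFor F
      ((Sieve.generate (Presieve.singleton f)).pullback g).arrows := by
    intro Y g
    rw [← Sieve.pullbackArrows_comm, Presieve.pullback_singleton,
      ← Presieve.isSheafFor_iff_generate]
    exact hf g
  apply Presieve.isSheafFor_trans F ((Sieve.generate (Presieve.singleton f)).pullback g)
    (S.pullback g) (hR g)
  · intro Z k _
    rw [← Sieve.pullback_comp]
    exact (hR _).isSeparatedFor
  · intro Z k hk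
    rw [← Sieve.pullback_comp]
    obtain ⟨W, l, f', hf', hl⟩ := hk
    cases hf'
    rw [← hl, Sieve.pullback_comp]
    exact hzar _ (Scheme.zariskiTopology.pullback_stable l hS2)

variable (hprop : ∀ (U V : Scheme.{u}) (f : V ⟶ U), IsProper f → Surjective f →
      Presieve.IsSheafFor F (Presieve.singleton f))

include hzar hprop in
theorem isSheafFor_pullback_of_isStandardPh {T Y : Scheme.{u}} (g : Y ⟶ T)
    (E : PreZeroHypercover.{w} T) (hE : HTop.IsStandardPh E) :
    Presieve.IsSheafFor F ((Sieve.generate E.presieve₀).pullback g).arrows := by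
  obtain ⟨U, f, ι, hp, hs, hι, hf, hcov⟩ := hE.exists_proper
  apply isSheafFor_pullback_of_univ F hzar f
  · intro Y g
    exact hprop _ _ _ inferInstance inferInstance
  · have h1 : Presieve.ofArrows E.X ι ∈ Scheme.precoverage @IsOpenImmersion U := by
      rw [Scheme.ofArrows_mem_precoverage_iff]
      exact ⟨hcov, hι⟩
    have h2 := Precoverage.generate_mem_toGrothendieck h1
    refine Scheme.zariskiTopology.superset_covering ?_ h2
    rw [Sieve.generate_le_iff]
    rintro Z k ⟨j⟩
    change (Sieve.generate E.presieve₀) (ι j ≫ f)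
    rw [hf j]
    exact Sieve.le_generate _ _ _ ⟨j⟩

include hzar hprop in
theorem isSheafFor_pullback_of_isPhCover {T Z : Scheme.{u}} [IsAffine Z] (h : Z ⟶ T)
    [IsOpenImmersion h] (E : PreZeroHypercover.{w} T) (hE : HTop.IsPhCover E) :
    Presieve.IsSheafFor F ((Sieve.generate E.presieve₀).pullback h).arrows := by
  obtain ⟨G, hG, hGE⟩ := hE.2 ⟨h.opensRange, isAffineOpen_opensRange h⟩
  let e : Z ≅ (h.opensRange : Scheme.{u}) := h.isoOpensRange
  have he : e.hom ≫ h.opensRange.ι = h := h.isoOpensRange_hom_ι
  have hle : (Sieve.generate G.presieve₀).pullback e.hom ≤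
      (Sieve.generate E.presieve₀).pullback h := by
    rintro Y k ⟨W, a, b, ⟨l⟩, hab⟩
    obtain ⟨i, k', hk'⟩ := hGE l
    change (Sieve.generate E.presieve₀) (k ≫ h)
    have : k ≫ h = (a ≫ k') ≫ E.f i := by
      calc k ≫ h = k ≫ e.hom ≫ h.opensRange.ι := by rw [he]
        _ = (a ≫ G.f l) ≫ h.opensRange.ι := by rw [← Category.assoc, hab]
        _ = (a ≫ k') ≫ E.f i := by
          rw [Category.assoc, Category.assoc]
          exact congrArg (a ≫ ·) hk'.symm
    rw [this]
    exact Sieve.downward_closed _ (Sieve.le_generate _ _ _ ⟨i⟩) _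
  apply Presieve.isSheafFor_subsieve_aux (S := (Sieve.generate G.presieve₀).pullback e.hom) F hle
  · exact isSheafFor_pullback_of_isStandardPh F hzar hprop e.hom G hG
  · intro Y f _
    rw [← Sieve.pullback_comp]
    exact (isSheafFor_pullback_of_isStandardPh F hzar hprop _ G hG).isSeparatedFor

include hzar hprop in
/-- S7501 -/
theorem isPhSheaf_of_zariski_of_proper_surjective : HTop.IsPhSheaf F := by
  intro T R hR
  rw [HTop.phPrecoverage, PreZeroHypercoverFamily.mem_precoverage_iff] at hR
  obtain ⟨E, hE, rfl⟩ := hR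
  refine T.affineOneHypercover.isSheafFor_of_pullback hzar (fun i => ?_) (fun i j k => ?_)
  · haveI := affX T i
    haveI : IsOpenImmersion (T.affineOneHypercover.f i) := T.affineCover.map_prop i
    exact isSheafFor_pullback_of_isPhCover F hzar hprop _ E hE
  · haveI := affY T i j k
    haveI : IsOpenImmersion (T.affineOneHypercover.p₁ k ≫ T.affineOneHypercover.f i) := by
      haveI : IsOpenImmersion (T.affineOneHypercover.f i) := T.affineCover.map_prop i
      haveI : IsOpenImmersion (T.affineCover.f i) := T.affineCover.map_prop i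
      haveI : IsOpenImmersion (T.affineCover.f j) := T.affineCover.map_prop j
      haveI h3 : IsOpenImmersion
          ((pullback (T.affineCover.f i) (T.affineCover.f j)).affineCover.f k) :=
        (pullback (T.affineCover.f i) (T.affineCover.f j)).affineCover.map_prop k
      haveI : IsOpenImmersion (T.affineOneHypercover.p₁ k) := by
        change IsOpenImmersion
          ((pullback (T.affineCover.f i) (T.affineCover.f j)).affineCover.f k ≫
            pullback.fst _ _)
        infer_instance
      infer_instance
    exact (isSheafFor_pullback_of_isPhCover F hzar hprop _ E hE).isSeparatedFor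

end

end Groth.Agent.Lib.Helper9.VCov
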