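import Mathlib

set_option autoImplicit false
set_option linter.unusedSectionVars false
set_option linter.unusedVariables false
universe u

namespace Groth.Agent.Lib.Helper9.PiLoc

variable {ι : Type u} (A : ι → Type u) [∀ i, CommRing (A i)]

/-- the submonoid of `Π A_i` of families of powers of the components of `β` -/
def powSub (β : ∀ i, A i) : Submonoid (∀ i, A i) where
  carrier := {s | ∃ N : ι → ℕ, s = fun i => β i ^ N i}
  one_mem' := ⟨fun _ => 0, by ext i; simp⟩
  mul_mem' := by
    rintro _ _ ⟨N, rfl⟩ ⟨M, rfl⟩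
    exact ⟨fun i => N i + M i, by ext i; simp [pow_add]⟩

theorem mem_powSub (β : ∀ i, A i) (s : ∀ i, A i) :
    s ∈ powSub A β ↔ ∃ N : ι → ℕ, s = fun i => β i ^ N i := Iff.rfl

/-- the product of the localizations -/
abbrev L (β : ∀ i, A i) : Type u := ∀ i, Localization.Away (β i)

/-- the canonical ring hom -/
noncomputable def φ (β : ∀ i, A i) : (∀ i, A i) →+* L A β :=
  RingHom.pi fun i => (algebraMap (A i) (Localization.Away (β i))).comp (Pi.evalRingHom A i)

theorem φ_apply (β : ∀ i, A i) (a : ∀ i, A i) (i : ι) :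
    φ A β a i = algebraMap (A i) (Localization.Away (β i)) (a i) := rfl

theorem isLocalization (β : ∀ i, A i) :
    @IsLocalization _ _ (powSub A β) (L A β) _ (φ A β).toAlgebra := by
  letI := (φ A β).toAlgebra
  rw [isLocalization_iff]
  refine ⟨?_, ?_, ?_⟩
  · rintro ⟨_, N, rfl⟩
    rw [Pi.isUnit_iff]
    intro i
    show IsUnit (algebraMap (A i) (Localization.Away (β i)) (β i ^ N i))
    rw [map_pow]
    exact (IsLocalization.Away.algebraMap_isUnit (β i)).pow _
  · intro z
    have h := fun i => IsLocalization.Away.surj (β i) (z i)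
    choose N a ha using h
    refine ⟨⟨a, ⟨fun i => β i ^ N i, N, rfl⟩⟩, ?_⟩
    ext i
    show z i * algebraMap (A i) (Localization.Away (β i)) (β i ^ N i) = algebraMap _ _ (a i)
    rw [map_pow]
    exact ha i
  · intro x y hxy
    have h : ∀ i, ∃ n : ℕ, β i ^ n * x i = β i ^ n * y i := fun i =>
      IsLocalization.Away.exists_of_eq (β i) (S := Localization.Away (β i)) (congrFun hxy i)
    choose N hN using h
    exact ⟨⟨fun i => β i ^ N i, N, rfl⟩, funext fun i => hN i⟩


/-- ring homs out of the product of localizations are determined on `Π A_i` -/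
theorem hom_ext (β : ∀ i, A i) {T : Type*} [CommRing T] {γ γ' : L A β →+* T}
    (h : γ.comp (φ A β) = γ'.comp (φ A β)) : γ = γ' := by
  letI := (φ A β).toAlgebra
  haveI := isLocalization A β
  exact IsLocalization.ringHom_ext (powSub A β) h

/-- the universal property -/
theorem exists_lift (β : ∀ i, A i) {T : Type*} [CommRing T] (ψ : (∀ i, A i) →+* T)
    (hψ : ∀ N : ι → ℕ, IsUnit (ψ fun i => β i ^ N i)) :
    ∃ θ : L A β →+* T, θ.comp (φ A β) = ψ := by
  letI := (φ A β).toAlgebra
  haveI := isLocalization A β
  refine ⟨IsLocalization.lift (M := powSub A β) (g := ψ) ?_, IsLocalization.lift_comp _⟩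
  rintro ⟨_, N, rfl⟩
  exact hψ N

theorem isUnit_φ_pow (β : ∀ i, A i) (N : ι → ℕ) : IsUnit (φ A β fun i => β i ^ N i) := by
  letI := (φ A β).toAlgebra
  haveI := isLocalization A β
  exact IsLocalization.map_units (L A β) (⟨_, N, rfl⟩ : powSub A β)

theorem flat (β : ∀ i, A i) : (φ A β).Flat := by
  letI := (φ A β).toAlgebra
  haveI := isLocalization A β
  exact IsLocalization.flat (L A β) (powSub A β)

/-- the image of `Spec` -/
theorem range_comap (β : ∀ i, A i) :
    Set.range (PrimeSpectrum.comap (φ A β)) =
      {p | Disjoint (powSub A β : Set (∀ i, A i)) p.asIdeal} := by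
  letI := (φ A β).toAlgebra
  haveI := isLocalization A β
  exact PrimeSpectrum.localization_comap_range (L A β) (powSub A β)

/-- the componentwise restriction maps between products of localizations -/
noncomputable def restr (β δ : ∀ i, A i)
    (h : ∀ i, IsUnit (algebraMap (A i) (Localization.Away (δ i)) (β i))) : L A β →+* L A δ :=
  RingHom.pi fun i => (IsLocalization.Away.lift (β i) (h i)).comp
    (Pi.evalRingHom (fun i => Localization.Away (β i)) i)

theorem restr_apply (β δ : ∀ i, A i)
    (h : ∀ i, IsUnit (algebraMap (A i) (Localization.Away (δ i)) (β i))) (z : L A β) (i : ι) :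
    restr A β δ h z i = IsLocalization.Away.lift (β i) (h i) (z i) := rfl

theorem restr_comp_φ (β δ : ∀ i, A i)
    (h : ∀ i, IsUnit (algebraMap (A i) (Localization.Away (δ i)) (β i))) :
    (restr A β δ h).comp (φ A β) = φ A δ := by
  ext a i
  show IsLocalization.Away.lift (β i) (h i) (algebraMap _ _ (a i)) = algebraMap _ _ (a i)
  exact IsLocalization.Away.lift_eq (β i) (h i) (a i)

/-- finitely many families generating the unit ideal componentwise: the spectra cover -/
theorem exists_disjoint {J : Type*} [Finite J] (β : J → ∀ i, A i)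
    (hβ : ∀ i, Ideal.span (Set.range fun j => β j i) = ⊤) (p : Ideal (∀ i, A i)) [p.IsPrime] :
    ∃ j, Disjoint (powSub A (β j) : Set (∀ i, A i)) p := by
  classical
  by_contra hcon
  push Not at hcon
  have h1 : ∀ j, ∃ N : ι → ℕ, (fun i => β j i ^ N i) ∈ p := by
    intro j
    obtain ⟨s, hs1, hs2⟩ := Set.not_disjoint_iff.1 (hcon j)
    obtain ⟨N, rfl⟩ := hs1
    exact ⟨N, hs2⟩
  choose N hN using h1
  have h2 : Ideal.span (Set.range fun j => (fun i => β j i ^ N j i : ∀ i, A i)) = ⊤ := by
    apply AlgebraicGeometry.Ideal.span_eq_top_of_span_image_evalRingHom _ (Set.finite_range _)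
    intro i
    rw [← Set.range_comp]
    show Ideal.span (Set.range fun j => β j i ^ N j i) = ⊤
    -- powers of generators of the unit ideal generate the unit ideal
    have h3 := Ideal.span_range_pow_eq_top (Set.range fun j => β j i) (hβ i)
      (fun x => N (Classical.choose x.2) i)
    refine top_unique (h3.ge.trans (Ideal.span_mono ?_))
    rintro _ ⟨x, rfl⟩
    refine ⟨Classical.choose x.2, ?_⟩
    have hx : β (Classical.choose x.2) i = x.1 := Classical.choose_spec x.2
    show β (Classical.choose x.2) i ^ N (Classical.choose x.2) i =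
      x.1 ^ N (Classical.choose x.2) i
    rw [hx]
  have h4 : Ideal.span (Set.range fun j => (fun i => β j i ^ N j i : ∀ i, A i)) ≤ p := by
    rw [Ideal.span_le]
    rintro _ ⟨j, rfl⟩
    exact hN j
  rw [h2] at h4
  exact (Ideal.IsPrime.ne_top ‹p.IsPrime›) (top_unique h4)

end Groth.Agent.Lib.Helper9.PiLoc
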