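import Groth.Prelude.Def_W4c1etcurveeff2TopGrp
import Mathlib.GroupTheory.FiniteAbelian.Duality
import Mathlib.GroupTheory.FiniteAbelian.Basic
import Mathlib.Topology.Algebra.Group.ClosedSubgroup
import Mathlib.GroupTheory.Abelianization.Defs

universe u
open W4c1etcurveeff2
open scoped commutatorElement

namespace Groth.Agent.Lib.Helper9.PowComm

section basic
variable (n : ℕ) [NeZero n]

lemma Z_pow (z : Multiplicative (ZMod n)) : z ^ n = 1 := by
  apply Multiplicative.toAdd.injective
  rw [toAdd_pow, toAdd_one, nsmul_eq_mul, ZMod.natCast_self, zero_mul]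

instance hasEnough : HasEnoughRootsOfUnity (Multiplicative (ZMod n)) n where
  prim := by
    refine ⟨Multiplicative.ofAdd (1 : ZMod n), ?_⟩
    have h := IsPrimitiveRoot.orderOf (Multiplicative.ofAdd (1 : ZMod n))
    rwa [orderOf_ofAdd_eq_addOrderOf, ZMod.addOrderOf_one] at h
  cyc := by
    have : IsCyclic (Multiplicative (ZMod n))ˣ :=
      isCyclic_of_surjective (toUnits (G := Multiplicative (ZMod n))).toMonoidHom
        (toUnits (G := Multiplicative (ZMod n))).surjective
    infer_instance

end basic

section top
variable {G : Type u} [Group G] [TopologicalSpace G] [IsTopologicalGroup G] (n : ℕ) [NeZero n]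

lemma le_powCommClosure :
    Subgroup.closure (Set.range fun g : G => g ^ n) ⊔ commutator G ≤ powCommClosure G n :=
  Subgroup.le_topologicalClosure _

lemma normal_of_commutator_le (H : Subgroup G) (h : commutator G ≤ H) : H.Normal := by
  constructor
  intro x hx g
  have h1 : ⁅g, x⁆ ∈ H := h (Subgroup.commutator_mem_commutator (Subgroup.mem_top g) (Subgroup.mem_top x))
  have h2 : g * x * g⁻¹ = ⁅g, x⁆ * x := by rw [commutatorElement_def]; group
  rw [h2]
  exact H.mul_mem h1 hx

instance normal_powCommClosure : (powCommClosure G n).Normal := by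
  have : (Subgroup.closure (Set.range fun g : G => g ^ n) ⊔ commutator G).Normal :=
    normal_of_commutator_le _ le_sup_right
  exact Subgroup.is_normal_topologicalClosure _

lemma isClosed_powCommClosure : IsClosed (powCommClosure G n : Set G) :=
  Subgroup.isClosed_topologicalClosure _

lemma pow_mem_powCommClosure (g : G) : g ^ n ∈ powCommClosure G n :=
  le_powCommClosure n (Subgroup.mem_sup_left (Subgroup.subset_closure ⟨g, rfl⟩))

lemma commutator_mem_powCommClosure (g h : G) : ⁅g, h⁆ ∈ powCommClosure G n :=
  le_powCommClosure n (Subgroup.mem_sup_right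
    (Subgroup.commutator_mem_commutator (Subgroup.mem_top g) (Subgroup.mem_top h)))

lemma powCommClosure_le_of_closed (H : Subgroup G) (hH : IsClosed (H : Set G))
    (hpow : ∀ g : G, g ^ n ∈ H) (hcomm : commutator G ≤ H) : powCommClosure G n ≤ H := by
  refine Subgroup.topologicalClosure_minimal _ (sup_le ?_ hcomm) hH
  rw [Subgroup.closure_le]
  rintro _ ⟨g, rfl⟩
  exact hpow g

lemma powCommClosure_le_ker (χ : G →* Multiplicative (ZMod n))
    (hχ : IsOpen ((χ.ker : Subgroup G) : Set G)) : powCommClosure G n ≤ χ.ker := by
  apply powCommClosure_le_of_closed n _ (Subgroup.isClosed_of_isOpen _ hχ)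
  · intro g
    rw [MonoidHom.mem_ker, map_pow, Z_pow]
  · exact Abelianization.commutator_subset_ker χ

lemma quot_pow (q : G ⧸ powCommClosure G n) : q ^ n = 1 := by
  induction q using QuotientGroup.induction_on with
  | H g =>
    rw [← QuotientGroup.mk_pow]
    exact (QuotientGroup.eq_one_iff _).mpr (pow_mem_powCommClosure n g)

lemma quot_comm (a b : G ⧸ powCommClosure G n) : a * b = b * a := by
  induction a using QuotientGroup.induction_on with
  | H a =>
    induction b using QuotientGroup.induction_on with
    | H b =>
      rw [← QuotientGroup.mk_mul, ← QuotientGroup.mk_mul, QuotientGroup.eq]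
      have : (a * b)⁻¹ * (b * a) = ⁅b⁻¹, a⁻¹⁆ := by rw [commutatorElement_def]; group
      rw [this]
      exact commutator_mem_powCommClosure n _ _

/-- the quotient by the closed subgroup generated by powers and commutators, as a commutative group -/
@[reducible] def quotCommGroup : CommGroup (G ⧸ powCommClosure G n) :=
  { (inferInstance : Group (G ⧸ powCommClosure G n)) with mul_comm := quot_comm n }

lemma finite_quotient (s : Finset G)
    (hs : Dense ((Subgroup.closure (s : Set G) : Subgroup G) : Set G)) :
    Finite (G ⧸ powCommClosure G n) := by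
  let _ := quotCommGroup (G := G) n
  let Q₀ : Subgroup (G ⧸ powCommClosure G n) :=
    (Subgroup.closure (s : Set G)).map (QuotientGroup.mk' (powCommClosure G n))
  have hfg : Q₀.FG := by
    rw [Subgroup.fg_iff]
    exact ⟨(QuotientGroup.mk' (powCommClosure G n)) '' (s : Set G),
      (MonoidHom.map_closure _ _).symm, (Finset.finite_toSet s).image _⟩
  have : Group.FG Q₀ := (Group.fg_iff_subgroup_fg Q₀).mpr hfg
  have htors : IsMulTorsion Q₀ := by
    intro q
    rw [isOfFinOrder_iff_pow_eq_one]
    refine ⟨n, Nat.pos_of_ne_zero (NeZero.ne n), ?_⟩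
    apply Subtype.ext
    rw [Subgroup.coe_pow, Subgroup.coe_one]
    exact quot_pow n _
  have hfin : Finite Q₀ := CommGroup.finite_of_fg_isMulTorsion Q₀ htors
  have hfin' : (Q₀ : Set (G ⧸ powCommClosure G n)).Finite := Set.toFinite _
  let M : Subgroup G := Q₀.comap (QuotientGroup.mk' (powCommClosure G n))
  have hM : (M : Set G) = ⋃ q ∈ (Q₀ : Set (G ⧸ powCommClosure G n)),
      (QuotientGroup.mk' (powCommClosure G n)) ⁻¹' {q} := by
    ext x
    simp [M]
  have hMclosed : IsClosed (M : Set G) := by
    rw [hM]
    refine hfin'.isClosed_biUnion (fun q _ => ?_)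
    induction q using QuotientGroup.induction_on with
    | H g =>
      have : (QuotientGroup.mk' (powCommClosure G n)) ⁻¹' {(g : G ⧸ powCommClosure G n)} =
          (fun x => g⁻¹ * x) ⁻¹' (powCommClosure G n : Set G) := by
        ext x
        simp only [Set.mem_preimage, Set.mem_singleton_iff, QuotientGroup.mk'_apply, SetLike.mem_coe]
        rw [eq_comm, QuotientGroup.eq]
      rw [this]
      exact (isClosed_powCommClosure n).preimage (continuous_const.mul continuous_id)
  have hMtop : (M : Set G) = Set.univ := by
    have hd : Dense (M : Set G) := hs.mono (Subgroup.le_comap_map _ _)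
    rw [← hMclosed.closure_eq]
    exact hd.closure_eq
  have hQtop : (Q₀ : Set (G ⧸ powCommClosure G n)) = Set.univ := by
    ext q
    simp only [Set.mem_univ, iff_true]
    induction q using QuotientGroup.induction_on with
    | H g =>
      have : g ∈ (M : Set G) := by rw [hMtop]; trivial
      exact this
  rw [← Set.finite_univ_iff, ← hQtop]
  exact hfin'

lemma isOpen_powCommClosure (s : Finset G)
    (hs : Dense ((Subgroup.closure (s : Set G) : Subgroup G) : Set G)) :
    IsOpen (powCommClosure G n : Set G) := by
  have := finite_quotient n s hs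
  have : (powCommClosure G n).FiniteIndex := Subgroup.finiteIndex_of_finite_quotient
  exact Subgroup.isOpen_of_isClosed_of_finiteIndex _ (isClosed_powCommClosure n)

/-- character of `G` attached to a unit-valued character of the quotient -/
def liftChar (φ : (G ⧸ powCommClosure G n) →* (Multiplicative (ZMod n))ˣ) :
    G →* Multiplicative (ZMod n) :=
  ((toUnits (G := Multiplicative (ZMod n))).symm.toMonoidHom.comp φ).comp
    (QuotientGroup.mk' (powCommClosure G n))

lemma liftChar_apply (φ : (G ⧸ powCommClosure G n) →* (Multiplicative (ZMod n))ˣ) (g : G) :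
    liftChar n φ g = (toUnits (G := Multiplicative (ZMod n))).symm (φ (g : G ⧸ powCommClosure G n)) :=
  rfl

lemma isOpen_ker_liftChar (hopen : IsOpen (powCommClosure G n : Set G))
    (φ : (G ⧸ powCommClosure G n) →* (Multiplicative (ZMod n))ˣ) :
    IsOpen (((liftChar n φ).ker : Subgroup G) : Set G) := by
  refine Subgroup.isOpen_mono ?_ hopen
  intro g hg
  rw [MonoidHom.mem_ker, liftChar_apply, (QuotientGroup.eq_one_iff g).mpr hg, map_one, map_one]

lemma hasEnough_exponent [Finite (G ⧸ powCommClosure G n)] :
    HasEnoughRootsOfUnity (Multiplicative (ZMod n)) (Monoid.exponent (G ⧸ powCommClosure G n)) :=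
  HasEnoughRootsOfUnity.of_dvd _ (Monoid.exponent_dvd_of_forall_pow_eq_one (quot_pow n))

theorem mem_iff (s : Finset G)
    (hs : Dense ((Subgroup.closure (s : Set G) : Subgroup G) : Set G)) (g : G) :
    g ∈ powCommClosure G n ↔
      ∀ χ : G →* Multiplicative (ZMod n), IsOpen ((χ.ker : Subgroup G) : Set G) → χ g = 1 := by
  constructor
  · intro hg χ hχ
    exact powCommClosure_le_ker n χ hχ hg
  · intro h
    by_contra hg
    have hfin := finite_quotient n s hs
    let _ := quotCommGroup (G := G) n
    have := hasEnough_exponent (G := G) n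
    have ha : (g : G ⧸ powCommClosure G n) ≠ 1 := fun h1 => hg ((QuotientGroup.eq_one_iff g).mp h1)
    obtain ⟨φ, hφ⟩ := CommGroup.exists_apply_ne_one_of_hasEnoughRootsOfUnity
      (G ⧸ powCommClosure G n) (Multiplicative (ZMod n)) ha
    have h1 := h (liftChar n φ) (isOpen_ker_liftChar n (isOpen_powCommClosure n s hs) φ)
    rw [liftChar_apply] at h1
    apply hφ
    have := congrArg (toUnits (G := Multiplicative (ZMod n))) h1
    rwa [MulEquiv.apply_symm_apply, map_one] at this

theorem exists_eval (s : Finset G)
    (hs : Dense ((Subgroup.closure (s : Set G) : Subgroup G) : Set G))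
    (F : ContChar G n →* Multiplicative (ZMod n)) :
    ∃ g : G, ∀ χ : ContChar G n, F χ = (χ.1 : G →* Multiplicative (ZMod n)) g := by
  have hfin := finite_quotient n s hs
  have hopen := isOpen_powCommClosure n s hs
  let _ := quotCommGroup (G := G) n
  have := hasEnough_exponent (G := G) n
  let L : ((G ⧸ powCommClosure G n) →* (Multiplicative (ZMod n))ˣ) →* ContChar G n :=
    { toFun := fun φ => ⟨liftChar n φ, isOpen_ker_liftChar n hopen φ⟩
      map_one' := by
        apply Subtype.ext
        ext g
        simp [liftChar_apply]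
      map_mul' := fun φ ψ => by
        apply Subtype.ext
        ext g
        simp [liftChar_apply] }
  let η : ((G ⧸ powCommClosure G n) →* (Multiplicative (ZMod n))ˣ) →* (Multiplicative (ZMod n))ˣ :=
    (toUnits (G := Multiplicative (ZMod n))).toMonoidHom.comp (F.comp L)
  obtain ⟨g, hg⟩ := QuotientGroup.mk_surjective
    (CommGroup.monoidHomMonoidHomEquiv (G ⧸ powCommClosure G n) (Multiplicative (ZMod n)) η)
  refine ⟨g, fun χ => ?_⟩
  let φχ : (G ⧸ powCommClosure G n) →* (Multiplicative (ZMod n))ˣ :=
    (toUnits (G := Multiplicative (ZMod n))).toMonoidHom.comp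
      (QuotientGroup.lift (powCommClosure G n) χ.1 (powCommClosure_le_ker n χ.1 χ.2))
  have hL : L φχ = χ := by
    apply Subtype.ext
    ext x
    show liftChar n φχ x = χ.1 x
    rw [liftChar_apply]
    simp [φχ]
  have h1 := CommGroup.apply_monoidHomMonoidHomEquiv (G := G ⧸ powCommClosure G n)
    (M := Multiplicative (ZMod n)) φχ η
  rw [← hg] at h1
  have h2 : η φχ = toUnits (F χ) := by
    show toUnits (F (L φχ)) = _
    rw [hL]
  have h3 : φχ (g : G ⧸ powCommClosure G n) = toUnits (χ.1 g) := by
    simp [φχ]
  rw [h2, h3] at h1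
  exact ((toUnits (G := Multiplicative (ZMod n))).injective h1).symm

/-- evaluation of continuous characters at a group element -/
def evalHom : G →* (ContChar G n →* Multiplicative (ZMod n)) where
  toFun g :=
    { toFun := fun χ => χ.1 g
      map_one' := rfl
      map_mul' := fun _ _ => rfl }
  map_one' := by
    ext χ
    exact map_one χ.1
  map_mul' a b := by
    ext χ
    exact map_mul χ.1 a b

lemma evalHom_apply (g : G) (χ : ContChar G n) : evalHom n g χ = χ.1 g := rfl

lemma ker_evalHom (s : Finset G)
    (hs : Dense ((Subgroup.closure (s : Set G) : Subgroup G) : Set G)) :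
    (evalHom (G := G) n).ker = powCommClosure G n := by
  ext g
  rw [MonoidHom.mem_ker, mem_iff n s hs]
  constructor
  · intro h χ hχ
    have := congrArg (fun f => f ⟨χ, hχ⟩) h
    exact this
  · intro h
    ext χ
    exact h χ.1 χ.2

lemma evalHom_surjective (s : Finset G)
    (hs : Dense ((Subgroup.closure (s : Set G) : Subgroup G) : Set G)) :
    Function.Surjective (evalHom (G := G) n) := by
  intro F
  obtain ⟨g, hg⟩ := exists_eval n s hs F
  refine ⟨g, ?_⟩
  ext χ
  exact (hg χ).symm

lemma map_mem (s : Finset G)
    (hs : Dense ((Subgroup.closure (s : Set G) : Subgroup G) : Set G))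
    (φ : G →* G) (hφ : Continuous φ) {g : G} (hg : g ∈ powCommClosure G n) :
    φ g ∈ powCommClosure G n := by
  rw [mem_iff n s hs]
  intro χ hχ
  have hopen : IsOpen (((χ.comp φ).ker : Subgroup G) : Set G) := by
    have : ((χ.comp φ).ker : Set G) = φ ⁻¹' (χ.ker : Set G) := by
      ext x
      simp [MonoidHom.mem_ker]
    rw [this]
    exact hχ.preimage hφ
  exact (mem_iff n s hs g).mp hg (χ.comp φ) hopen

theorem map_eq (s : Finset G)
    (hs : Dense ((Subgroup.closure (s : Set G) : Subgroup G) : Set G))
    (φ : G ≃* G) (h1 : Continuous φ) (h2 : Continuous φ.symm) :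
    (powCommClosure G n).map φ.toMonoidHom = powCommClosure G n := by
  apply le_antisymm
  · rintro _ ⟨g, hg, rfl⟩
    exact map_mem n s hs φ.toMonoidHom h1 hg
  · intro x hx
    refine ⟨φ.symm x, map_mem n s hs φ.symm.toMonoidHom h2 hx, ?_⟩
    exact φ.apply_symm_apply x

theorem eq_of_quotient_equiv (s : Finset G)
    (hs : Dense ((Subgroup.closure (s : Set G) : Subgroup G) : Set G))
    (H : Subgroup G) [H.Normal] (hH : IsClosed (H : Set G))
    (e : Nonempty (G ⧸ H ≃* (ContChar G n →* Multiplicative (ZMod n)))) :
    H = powCommClosure G n := by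
  obtain ⟨e⟩ := e
  let ψ : G →* (ContChar G n →* Multiplicative (ZMod n)) :=
    e.toMonoidHom.comp (QuotientGroup.mk' H)
  have hker : ψ.ker = H := by
    ext g
    rw [MonoidHom.mem_ker]
    show e (g : G ⧸ H) = 1 ↔ _
    rw [map_eq_one_iff e e.injective, QuotientGroup.eq_one_iff]
  have hle : powCommClosure G n ≤ H := by
    apply powCommClosure_le_of_closed n H hH
    · intro g
      rw [← hker, MonoidHom.mem_ker, map_pow]
      ext χ
      rw [MonoidHom.pow_apply, Z_pow, MonoidHom.one_apply]
    · rw [← hker]
      exact Abelianization.commutator_subset_ker ψ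
  have hfin := finite_quotient n s hs
  have hfi : (powCommClosure G n).FiniteIndex := Subgroup.finiteIndex_of_finite_quotient
  have hS : (powCommClosure G n).index =
      Nat.card (ContChar G n →* Multiplicative (ZMod n)) := by
    rw [Subgroup.index_eq_card]
    exact Nat.card_congr
      ((QuotientGroup.quotientMulEquivOfEq (ker_evalHom n s hs)).symm.trans
        (QuotientGroup.quotientKerEquivOfSurjective (evalHom (G := G) n)
          (evalHom_surjective n s hs))).toEquiv
  have hHi : H.index = Nat.card (ContChar G n →* Multiplicative (ZMod n)) := by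
    rw [Subgroup.index_eq_card]
    exact Nat.card_congr e.toEquiv
  have h3 := Subgroup.relIndex_mul_index hle
  rw [hS, hHi] at h3
  have hne : Nat.card (ContChar G n →* Multiplicative (ZMod n)) ≠ 0 := by
    rw [← hS]
    exact Subgroup.FiniteIndex.index_ne_zero
  have h4 : (powCommClosure G n).relIndex H = 1 := by
    have := Nat.eq_of_mul_eq_mul_right (Nat.pos_of_ne_zero hne) (h3.trans (one_mul _).symm)
    exact this
  exact le_antisymm (Subgroup.relIndex_eq_one.mp h4) hle

end top

end Groth.Agent.Lib.Helper9.PowComm
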