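import Mathlib.AlgebraicGeometry.ResidueField
import Mathlib.AlgebraicGeometry.Morphisms.UnderlyingMap
import Mathlib.CategoryTheory.Limits.Shapes.Products
import Groth.Agent.Lib.Helper9.FieldAmalg

set_option autoImplicit false
set_option linter.style.haveILetI false
set_option linter.unusedSectionVars false
universe u v w
open CategoryTheory CategoryTheory.Limits AlgebraicGeometry TopologicalSpace Opposite

namespace Groth.Agent.Lib.Helper9.ProdSurj

/-- Bundled version of the common extension of a family of field extensions. -/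
theorem exists_common_extension (κ : CommRingCat.{u}) (hκ : IsField κ) {I : Type u}
    (L : I → CommRingCat.{u}) (hL : ∀ i, IsField (L i)) (φ : ∀ i, κ ⟶ L i) :
    ∃ (K : Type u) (_ : Field K) (β : κ ⟶ CommRingCat.of K) (α : ∀ i, L i ⟶ CommRingCat.of K),
      ∀ i, φ i ≫ α i = β := by
  letI : Field κ := hκ.toField
  letI : ∀ i, Field (L i) := fun i => (hL i).toField
  obtain ⟨K, _, β0, α0, h0⟩ := FieldAmalg.exists_common_extension' κ
    (fun i => L i) (fun i => (φ i).hom)
  refine ⟨K, inferInstance, CommRingCat.ofHom β0, fun i => CommRingCat.ofHom (α0 i), fun i => ?_⟩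
  apply CommRingCat.hom_ext
  rw [CommRingCat.hom_comp]
  exact h0 i

/-- The residue field extension at a point over `s`. -/
noncomputable def resMap {S T : Scheme.{u}} (f : T ⟶ S) {s : S} {t : T} (ht : f t = s) :
    S.residueField s ⟶ T.residueField t :=
  (S.residueFieldCongr ht.symm).hom ≫ f.residueFieldMap t

theorem SpecMap_resMap {S T : Scheme.{u}} (f : T ⟶ S) {s : S} {t : T} (ht : f t = s) :
    Spec.map (resMap f ht) ≫ S.fromSpecResidueField s = T.fromSpecResidueField t ≫ f := by
  subst ht
  simp [resMap]

theorem exists_field {S : Scheme.{u}} {I : Type u} (T : I → Over S) (s : S)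
    (t : ∀ i, (T i).left) (ht : ∀ i, (T i).hom (t i) = s) :
    ∃ (K : Type u) (_ : Field K) (b : Spec (.of K) ⟶ S) (a : ∀ i, Spec (.of K) ⟶ (T i).left),
      (∀ i, a i ≫ (T i).hom = b) ∧ ∀ x, b x = s := by
  have hκ : IsField (S.residueField s) := Field.toIsField _
  have hL : ∀ i, IsField ((T i).left.residueField (t i)) := fun i => Field.toIsField _
  let φ : ∀ i, S.residueField s ⟶ (T i).left.residueField (t i) := fun i => resMap (T i).hom (ht i)
  obtain ⟨K, _, β, α, h1⟩ := exists_common_extension (S.residueField s) hκ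
    (fun i => (T i).left.residueField (t i)) hL φ
  refine ⟨K, inferInstance, Spec.map β ≫ S.fromSpecResidueField s,
    fun i => Spec.map (α i) ≫ (T i).left.fromSpecResidueField (t i), fun i => ?_, fun x => ?_⟩
  · have h2 := h1 i
    have h3 := SpecMap_resMap (T i).hom (ht i)
    rw [Category.assoc, ← h3, ← Spec.map_comp_assoc]
    exact congrArg (fun z => Spec.map z ≫ S.fromSpecResidueField s) h2
  · rw [Scheme.Hom.comp_apply]
    exact Scheme.fromSpecResidueField_apply _ _

theorem main {S : Scheme.{u}} {I : Type u} (T : I → Over S) (hT : ∀ i, Surjective (T i).hom)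
    (c : Fan T) (hc : IsLimit c) : Surjective c.pt.hom := by
  refine ⟨fun s => ?_⟩
  choose t ht using fun i => (hT i).surj s
  obtain ⟨K, _, b, a, hab, hb⟩ := exists_field T s t ht
  let m : Over.mk b ⟶ c.pt := Fan.IsLimit.lift hc (fun i => Over.homMk (a i) (hab i))
  have hm : m.left ≫ c.pt.hom = b := Over.w m
  let pt : Spec (.of K) := IsLocalRing.closedPoint K
  refine ⟨m.left pt, ?_⟩
  have h2 : c.pt.hom (m.left pt) = b pt := congrArg (fun z : Spec (.of K) ⟶ S => z pt) hm
  rw [h2]
  exact hb pt

end Groth.Agent.Lib.Helper9.ProdSurj
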