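import Mathlib
set_option autoImplicit false
universe u
open CategoryTheory CategoryTheory.Limits AlgebraicGeometry Topology

namespace Groth.Agent.Lib.Helper9.ProfAlg


theorem surjectiveOnStalks_of_profinite (k : Type u) [Field k] (A : Type u) [CommRing A] [Algebra k A]
    (hA : ∀ s : Finset A, ∃ (B : Subalgebra k A) (n : ℕ), (↑s : Set A) ⊆ (B : Set A) ∧
      Nonempty (B ≃ₐ[k] (Fin n → k))) :
    (algebraMap k A).SurjectiveOnStalks := by
  intro P hP
  rw [RingHom.surjective_localRingHom_iff]
  intro s
  obtain ⟨B, n, hsB, ⟨e⟩⟩ := hA {s}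
  have hs : s ∈ B := hsB (by simp)
  -- the element of k^n
  set v : Fin n → k := e ⟨s, hs⟩ with hv
  -- idempotents
  let ε : Fin n → A := fun i => ((e.symm (Pi.single i 1) : B) : A)
  have hsum : ∑ i, ε i = 1 := by
    have : (∑ i, (Pi.single i (1 : k) : Fin n → k)) = 1 := by
      ext j; simp [Finset.sum_apply, Pi.single_apply]
    have h2 := congrArg (fun x => ((e.symm x : B) : A)) this
    simpa [ε, map_sum] using h2
  -- some ε j ∉ P
  obtain ⟨j, hj⟩ : ∃ j, ε j ∉ P := by
    by_contra hcon
    push Not at hcon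
    have : (1 : A) ∈ P := by
      rw [← hsum]; exact Ideal.sum_mem _ (fun i _ => hcon i)
    exact hP.ne_top ((Ideal.eq_top_iff_one _).mpr this)
  refine ⟨v j, 1, ε j, hj, ?_, ?_⟩
  · simpa using (Ideal.ne_top_iff_one P).mp hP.ne_top
  · -- ε j * s = ε j * v j
    have h3 : (Pi.single j (1 : k) : Fin n → k) * v = Pi.single j 1 * algebraMap k (Fin n → k) (v j) := by
      ext i
      by_cases hij : i = j
      · subst hij; simp
      · simp [Pi.single_apply, hij]
    have h4 := congrArg (fun x => ((e.symm x : B) : A)) h3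
    simp only [map_mul, hv, AlgEquiv.symm_apply_apply, AlgEquiv.commutes] at h4
    simpa [ε, mul_comm] using h4



theorem isHomeomorph_pullback_of_surjectiveOnStalks {X Y S : Scheme.{u}} (f : X ⟶ S) (g : Y ⟶ S)
    [SurjectiveOnStalks f] [Subsingleton S] :
    IsHomeomorph (fun p : ↑(pullback f g) => (pullback.fst f g p, pullback.snd f g p)) := by
  have hemb := SurjectiveOnStalks.isEmbedding_pullback g f
  -- swap
  have h2 : IsEmbedding (fun p : ↑(pullback f g) => (pullback.fst f g p, pullback.snd f g p)) := by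
    have h3 := ((Homeomorph.prodComm _ _).isEmbedding.comp hemb).comp
      (Scheme.homeoOfIso (pullbackSymmetry f g)).isEmbedding
    convert h3 using 1
    ext1 p
    simp only [Function.comp_apply, Scheme.homeoOfIso_apply, Homeomorph.coe_prodComm, Prod.swap_prod_mk]
    ext
    · simp [← Scheme.Hom.comp_apply]
    · simp [← Scheme.Hom.comp_apply]
  have hsurj : Function.Surjective
      (fun p : ↑(pullback f g) => (pullback.fst f g p, pullback.snd f g p)) := by
    rintro ⟨x, y⟩
    obtain ⟨z, hz1, hz2⟩ := Scheme.Pullback.exists_preimage_pullback (f := f) (g := g) x y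
      (Subsingleton.elim _ _)
    exact ⟨z, by simp [hz1, hz2]⟩
  exact isHomeomorph_iff_isEmbedding_surjective.mpr ⟨h2, hsurj⟩


theorem isHomeomorph_pullback_prod_of_profinite_algebra (k : Type u) [Field k] (A : Type u) [CommRing A]
    [Algebra k A] (hA : ∀ s : Finset A, ∃ (B : Subalgebra k A) (n : ℕ), (↑s : Set A) ⊆ (B : Set A) ∧
      Nonempty (B ≃ₐ[k] (Fin n → k))) (X : Scheme.{u}) (f : X ⟶ Spec (CommRingCat.of k)) :
    IsHomeomorph (fun p : ↑(pullback (Spec.map (CommRingCat.ofHom (algebraMap k A))) f) =>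
      (pullback.fst (Spec.map (CommRingCat.ofHom (algebraMap k A))) f p,
        pullback.snd (Spec.map (CommRingCat.ofHom (algebraMap k A))) f p)) := by
  haveI : SurjectiveOnStalks (Spec.map (CommRingCat.ofHom (algebraMap k A))) := by
    rw [HasRingHomProperty.Spec_iff (P := @SurjectiveOnStalks)]
    exact surjectiveOnStalks_of_profinite k A hA
  haveI : Subsingleton ↥(Spec (CommRingCat.of k)) :=
    inferInstanceAs (Subsingleton (PrimeSpectrum k))
  exact isHomeomorph_pullback_of_surjectiveOnStalks _ _

end Groth.Agent.Lib.Helper9.ProfAlg
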