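import Mathlib

set_option autoImplicit false
set_option linter.style.haveILetI false
set_option linter.unusedSectionVars false
universe u
open CategoryTheory CategoryTheory.Limits AlgebraicGeometry TopologicalSpace

namespace Groth.Agent.Lib.Helper9.ProperFac

/-- if `f` factors through the open `U` via `k`, then `f ∣_ U` is `k` up to an isomorphism -/
theorem morphismRestrict_eq_of_fac {X Y : Scheme.{u}} (f : X ⟶ Y) (U : Y.Opens) (k : X ⟶ U)
    (hk : k ≫ U.ι = f) : IsIso (f ⁻¹ᵁ U).ι ∧ f ∣_ U = (f ⁻¹ᵁ U).ι ≫ k := by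
  have htop : f ⁻¹ᵁ U = ⊤ := by
    rw [← hk]
    ext x
    simp
  refine ⟨?_, ?_⟩
  · apply isIso_of_isOpenImmersion_of_opensRange_eq_top
    rw [Scheme.Opens.opensRange_ι, htop]
  · rw [← cancel_mono U.ι, morphismRestrict_ι, Category.assoc, hk]

theorem isProper_restrict_iff_of_fac {X Y : Scheme.{u}} (f : X ⟶ Y) (U : Y.Opens) (k : X ⟶ U)
    (hk : k ≫ U.ι = f) : IsProper (f ∣_ U) ↔ IsProper k := by
  obtain ⟨hiso, heq⟩ := morphismRestrict_eq_of_fac f U k hk
  rw [heq]
  exact MorphismProperty.cancel_left_of_respectsIso @IsProper _ _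

theorem main3460 {X Y : Scheme.{u}} (f : X ⟶ Y) :
    (∃ (Z : Scheme.{u}) (g : X ⟶ Z) (h : Z ⟶ Y), IsProper g ∧ IsImmersion h ∧ g ≫ h = f) ↔
      ∀ x : X, ∃ U : Y.Opens, f.base x ∈ U ∧ IsProper (f ∣_ U) := by
  constructor
  · rintro ⟨Z, g, h, hg, hh, rfl⟩ x
    refine ⟨h.coborderRange, ?_, ?_⟩
    · have : (g ≫ h) x = h.coborderRange.ι (h.liftCoborder (g x)) := by
        rw [← Scheme.Hom.comp_apply, h.liftCoborder_ι, Scheme.Hom.comp_apply]
      change (g ≫ h) x ∈ h.coborderRange
      rw [this]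
      exact (h.liftCoborder (g x)).2
    · rw [isProper_restrict_iff_of_fac (g ≫ h) h.coborderRange (g ≫ h.liftCoborder)
        (by rw [Category.assoc, h.liftCoborder_ι])]
      infer_instance
  · intro H
    choose V hV hVp using H
    let W : Y.Opens := ⨆ x, V x
    have hrange : Set.range f ⊆ Set.range W.ι := by
      rintro _ ⟨x, rfl⟩
      rw [Scheme.Opens.range_ι]
      exact Opens.mem_iSup.2 ⟨x, hV x⟩
    let g : X ⟶ W := IsOpenImmersion.lift W.ι f hrange
    have hg : g ≫ W.ι = f := IsOpenImmersion.lift_fac _ _ _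
    refine ⟨W, g, W.ι, ?_, inferInstance, hg⟩
    rw [← isProper_restrict_iff_of_fac f W g hg]
    -- local on the target
    let U : X → W.toScheme.Opens := fun x => W.ι ⁻¹ᵁ V x
    have hU : iSup U = ⊤ := by
      rw [← Scheme.Hom.preimage_iSup, Scheme.Opens.ι_preimage_self]
    have himg : ∀ x, W.ι ''ᵁ U x = V x := by
      intro x
      rw [Scheme.Hom.image_preimage_eq_opensRange_inf, Scheme.Opens.opensRange_ι, inf_eq_right]
      exact le_iSup V x
    rw [IsZariskiLocalAtTarget.iff_of_iSup_eq_top (P := @IsProper) _ hU]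
    intro x
    rw [MorphismProperty.arrow_mk_iso_iff (P := @IsProper) (morphismRestrictRestrict _ _ _),
      MorphismProperty.arrow_mk_iso_iff (P := @IsProper) (morphismRestrictEq _ (himg x))]
    exact hVp x

end Groth.Agent.Lib.Helper9.ProperFac
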