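import Mathlib.AlgebraicGeometry.ZariskisMainTheorem
import Mathlib.AlgebraicGeometry.Morphisms.UniversallyInjective
import Mathlib.AlgebraicGeometry.Morphisms.FormallyUnramified
import Mathlib.FieldTheory.IsAlgClosed.AlgebraicClosure

namespace Groth.Agent.Lib.Helper9.ProperMono

open CategoryTheory CategoryTheory.Limits AlgebraicGeometry

universe u

set_option backward.isDefEq.respectTransparency.types false in
theorem surjective_diagonal_of_injective_algClosed {X Y : Scheme.{u}} (f : X ⟶ Y)
    (hinj : ∀ (Ω : Type u) [Field Ω] [IsAlgClosed Ω],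
      Function.Injective (fun g : Spec (CommRingCat.of Ω) ⟶ X => g ≫ f)) :
    Surjective (pullback.diagonal f) := by
  rw [surjective_iff]
  intro z
  let Ω := AlgebraicClosure ((pullback f f).residueField z)
  let ψ : Spec (CommRingCat.of Ω) ⟶ Spec ((pullback f f).residueField z) :=
    Spec.map (CommRingCat.ofHom (algebraMap ((pullback f f).residueField z) Ω))
  let φ := ψ ≫ (pullback f f).fromSpecResidueField z
  have hφ₁ : φ ≫ pullback.fst f f = φ ≫ pullback.snd f f :=
    hinj Ω (by simp [pullback.condition])
  have hφ₂ : φ = (φ ≫ pullback.fst f f) ≫ pullback.diagonal f := by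
    apply pullback.hom_ext
    · simp
    · simp [hφ₁]
  obtain ⟨w⟩ : Nonempty (Spec (CommRingCat.of Ω)) := inferInstance
  refine ⟨(φ ≫ pullback.fst f f) w, ?_⟩
  rw [← Scheme.Hom.comp_apply, ← hφ₂]
  change (pullback f f).fromSpecResidueField z (ψ w) = z
  exact Scheme.fromSpecResidueField_apply _ _

set_option backward.isDefEq.respectTransparency.types false in
theorem isClosedImmersion_of_isProper_of_injective_algClosed {X Y : Scheme.{u}} (f : X ⟶ Y)
    [IsProper f] [FormallyUnramified f]
    (hinj : ∀ (Ω : Type u) [Field Ω] [IsAlgClosed Ω],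
      Function.Injective (fun g : Spec (CommRingCat.of Ω) ⟶ X => g ≫ f)) :
    IsClosedImmersion f := by
  haveI : Surjective (pullback.diagonal f) := surjective_diagonal_of_injective_algClosed f hinj
  haveI : IsOpenImmersion (pullback.diagonal f) := inferInstance
  haveI : IsIso (pullback.diagonal f) :=
    (isIso_iff_isOpenImmersion_and_surjective _).mpr ⟨inferInstance, inferInstance⟩
  haveI : Mono f := (pullback.isIso_diagonal_iff f).mp inferInstance
  exact (IsClosedImmersion.iff_isProper_and_mono f).mpr ⟨inferInstance, inferInstance⟩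

end Groth.Agent.Lib.Helper9.ProperMono
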