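import Groth.Prelude.Def_ClSub2
import Mathlib.AlgebraicGeometry.Morphisms.Proper
import Mathlib.AlgebraicGeometry.PullbackCarrier
import Mathlib.AlgebraicGeometry.IdealSheaf.Functorial

namespace Groth.Agent.Lib.Helper9.ProperOver

open CategoryTheory CategoryTheory.Limits AlgebraicGeometry TopologicalSpace MorphismProperty

universe v u

variable {T S : Scheme.{u}} (h : T ⟶ S) {ι : Type v} [Finite ι] (T' : ι → Scheme.{u})
  (ρ : ∀ i, T' i ⟶ T)

theorem universallyClosed_of_finite_cover [∀ i, UniversallyClosed (ρ i ≫ h)]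
    (hsurj : ∀ t : T, ∃ i, t ∈ Set.range (ρ i).base) : UniversallyClosed h := by
  constructor
  intro X' Y' i₁ i₂ f' sq
  have hcl : ∀ i, IsClosedMap (pullback.fst i₁ (ρ i) ≫ f').base := by
    intro i
    have top := (IsPullback.of_hasPullback i₁ (ρ i)).flip
    have bot := sq.flip
    have big := (top.paste_vert bot).flip
    exact (inferInstance : UniversallyClosed (ρ i ≫ h)).universally_isClosedMap _ _ _ big
  show IsClosedMap f'.base
  intro C hC
  have : f'.base '' C = ⋃ i, (pullback.fst i₁ (ρ i) ≫ f').base ''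
      ((pullback.fst i₁ (ρ i)).base ⁻¹' C) := by
    ext y
    constructor
    · rintro ⟨c, hc, rfl⟩
      obtain ⟨i, t', ht'⟩ := hsurj (i₁.base c)
      obtain ⟨p, hp1, hp2⟩ := Scheme.Pullback.exists_preimage_pullback (f := i₁) (g := ρ i) c t'
        ht'.symm
      refine Set.mem_iUnion.mpr ⟨i, p, ?_, ?_⟩
      · show (pullback.fst i₁ (ρ i)).base p ∈ C
        have hp1' : (pullback.fst i₁ (ρ i)).base p = c := hp1
        rw [hp1']; exact hc
      · have hp1' : (pullback.fst i₁ (ρ i)).base p = c := hp1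
        show f'.base ((pullback.fst i₁ (ρ i)).base p) = f'.base c
        rw [hp1']
    · intro hy
      obtain ⟨i, p, hp, rfl⟩ := Set.mem_iUnion.mp hy
      exact ⟨_, hp, rfl⟩
  rw [this]
  exact isClosed_iUnion_of_finite fun i => hcl i _ (hC.preimage (Scheme.Hom.continuous _))

theorem isSeparated_of_finite_cover [∀ i, UniversallyClosed (ρ i)] [∀ i, IsSeparated (ρ i ≫ h)]
    (hsurj : ∀ t : T, ∃ i, t ∈ Set.range (ρ i).base) : IsSeparated h := by
  rw [isSeparated_iff]
  refine IsClosedImmersion.of_isPreimmersion _ ?_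
  let m : ∀ i, pullback (ρ i ≫ h) (ρ i ≫ h) ⟶ pullback h h := fun i =>
    pullback.map (ρ i ≫ h) (ρ i ≫ h) h h (ρ i) (ρ i) (𝟙 S)
      ((Category.comp_id _).trans rfl) ((Category.comp_id _).trans rfl)
  have hm : ∀ i, UniversallyClosed (m i) := fun i =>
    MorphismProperty.pullbackMap (P := @UniversallyClosed) inferInstance inferInstance rfl rfl
  have hcomm : ∀ i, pullback.diagonal (ρ i ≫ h) ≫ m i = ρ i ≫ pullback.diagonal h := by
    intro i
    apply pullback.hom_ext
    · rw [Category.assoc, Category.assoc, pullback.diagonal_fst, Category.comp_id]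
      show pullback.diagonal (ρ i ≫ h) ≫ pullback.map _ _ _ _ _ _ _ _ _ ≫ pullback.fst h h = ρ i
      rw [pullback.lift_fst, pullback.diagonal_fst_assoc]
    · rw [Category.assoc, Category.assoc, pullback.diagonal_snd, Category.comp_id]
      show pullback.diagonal (ρ i ≫ h) ≫ pullback.map _ _ _ _ _ _ _ _ _ ≫ pullback.snd h h = ρ i
      rw [pullback.lift_snd, pullback.diagonal_snd_assoc]
  have key : Set.range (pullback.diagonal h).base =
      ⋃ i, (m i).base '' Set.range (pullback.diagonal (ρ i ≫ h)).base := by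
    ext y
    constructor
    · rintro ⟨t, rfl⟩
      obtain ⟨i, t', rfl⟩ := hsurj t
      refine Set.mem_iUnion.mpr ⟨i, _, ⟨t', rfl⟩, ?_⟩
      exact congrArg (fun φ : T' i ⟶ pullback h h => φ.base t') (hcomm i)
    · intro hy
      obtain ⟨i, _, ⟨t', rfl⟩, rfl⟩ := Set.mem_iUnion.mp hy
      exact ⟨(ρ i).base t', (congrArg (fun φ : T' i ⟶ pullback h h => φ.base t') (hcomm i)).symm⟩
  rw [key]
  refine isClosed_iUnion_of_finite fun i => ?_
  have := hm i
  have : IsClosedImmersion (pullback.diagonal (ρ i ≫ h)) := IsSeparated.isClosedImmersion_diagonal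
  exact (m i).isClosedMap _ (pullback.diagonal (ρ i ≫ h)).isClosedEmbedding.isClosed_range

theorem isProper_of_finite_cover [LocallyOfFiniteType h] [∀ i, UniversallyClosed (ρ i)]
    [∀ i, IsProper (ρ i ≫ h)]
    (hsurj : ∀ t : T, ∃ i, t ∈ Set.range (ρ i).base) : IsProper h := by
  have := universallyClosed_of_finite_cover h T' ρ hsurj
  have := isSeparated_of_finite_cover h T' ρ hsurj
  exact {}

end Groth.Agent.Lib.Helper9.ProperOver
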