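import Mathlib
import Groth.Prelude.Def_W4c1hilbchowincPtFun

set_option linter.style.haveILetI false
set_option linter.unusedSectionVars false

universe u

namespace Groth.Agent.Lib.Helper9.PtFunNormal

open CategoryTheory AlgebraicGeometry W4c1hilbchowinc

section sch

variable {A : Type u} [CommRing A]

/-- evaluation of elements of `A` at a point of `Spec A` -/
noncomputable def ev (η : Spec (CommRingCat.of A)) :
    A →+* (Spec (CommRingCat.of A)).residueField η :=
  ((Scheme.ΓSpecIso (CommRingCat.of A)).inv ≫ (Spec (CommRingCat.of A)).Γevaluation η).hom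

theorem ev_apply (η : Spec (CommRingCat.of A)) (a : A) :
    ev η a = (Spec (CommRingCat.of A)).Γevaluation η
      ((Scheme.ΓSpecIso (CommRingCat.of A)).inv a) := rfl

theorem ev_eq (η : Spec (CommRingCat.of A)) (a : A) :
    ev η a = (Scheme.Spec.residueFieldIso (CommRingCat.of A) η).inv
      (algebraMap A η.asIdeal.ResidueField a) := by
  have h := Scheme.Spec.algebraMap_residueFieldIso_inv (CommRingCat.of A) η
  have h2 := congrArg (fun φ => φ.hom a) h
  exact h2.symm

theorem ev_eq_zero_iff (η : Spec (CommRingCat.of A)) (a : A) :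
    ev η a = 0 ↔ a ∈ η.asIdeal := by
  rw [ev_eq]
  exact (map_eq_zero (Scheme.Spec.residueFieldIso (CommRingCat.of A) η).inv.hom).trans
    Ideal.algebraMap_residueField_eq_zero

theorem exists_frac (η : Spec (CommRingCat.of A)) (x : (Spec (CommRingCat.of A)).residueField η) :
    ∃ a s : A, s ∉ η.asIdeal ∧ x * ev η s = ev η a := by
  obtain ⟨b, c, hc, hbc⟩ := IsFractionRing.div_surjective (A := A ⧸ η.asIdeal)
    ((Scheme.Spec.residueFieldIso (CommRingCat.of A) η).hom x)
  obtain ⟨a, rfl⟩ := Ideal.Quotient.mk_surjective b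
  obtain ⟨s, rfl⟩ := Ideal.Quotient.mk_surjective c
  have hs : s ∉ η.asIdeal := by
    intro h
    have : Ideal.Quotient.mk η.asIdeal s = 0 := Ideal.Quotient.eq_zero_iff_mem.mpr h
    exact nonZeroDivisors.ne_zero hc this
  refine ⟨a, s, hs, ?_⟩
  rw [Ideal.algebraMap_quotient_residueField_mk, Ideal.algebraMap_quotient_residueField_mk] at hbc
  have hs0 : algebraMap A η.asIdeal.ResidueField s ≠ 0 := by
    rw [Ne, Ideal.algebraMap_residueField_eq_zero]; exact hs
  rw [div_eq_iff hs0] at hbc
  have h3 := congrArg (Scheme.Spec.residueFieldIso (CommRingCat.of A) η).inv.hom hbc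
  rw [map_mul] at h3
  rw [ev_eq, ev_eq]
  rw [h3]
  congr 1
  exact (Iso.hom_inv_id_apply (Scheme.Spec.residueFieldIso (CommRingCat.of A) η) x).symm

end sch

end Groth.Agent.Lib.Helper9.PtFunNormal
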