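import Mathlib
import Groth.Prelude.Def_W4c1hilbchowincPtFun
import Groth.Agent.Lib.Helper9.PtFunNormal2

set_option linter.style.haveILetI false
set_option linter.unusedSectionVars false

universe u

namespace Groth.Agent.Lib.Helper9.PtFunNormal

open CategoryTheory AlgebraicGeometry W4c1hilbchowinc

section sch

/-- evaluation at a point with zero ideal is injective -/
theorem eq_zero_of_Γevaluation_eq_zero {R : Type u} [CommRing R] (ξ : Spec (CommRingCat.of R))
    (hξ : ξ.asIdeal = ⊥) (z : Γ(Spec (CommRingCat.of R), ⊤))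
    (hz : (Spec (CommRingCat.of R)).Γevaluation ξ z = 0) : z = 0 := by
  have h1 : ev ξ ((Scheme.ΓSpecIso (CommRingCat.of R)).hom z) = 0 := by
    rw [ev_apply]
    have : (Scheme.ΓSpecIso (CommRingCat.of R)).inv ((Scheme.ΓSpecIso (CommRingCat.of R)).hom z) = z :=
      Iso.hom_inv_id_apply (Scheme.ΓSpecIso (CommRingCat.of R)) z
    rw [this]; exact hz
  rw [ev_eq_zero_iff, hξ, Ideal.mem_bot] at h1
  have h2 := congrArg (Scheme.ΓSpecIso (CommRingCat.of R)).inv.hom h1
  rw [map_zero] at h2
  rw [← h2]
  exact (Iso.hom_inv_id_apply (Scheme.ΓSpecIso (CommRingCat.of R)) z).symm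

/-- if a pointwise function pulled back to a domain `R` is algebraic and agrees with a section at the
generic point, then it agrees with the section at all points -/
theorem lemmaK {X : Scheme.{u}} (f : PtFun X) (a : Γ(X, ⊤)) (R : Type u) [CommRing R]
    (g : Spec (CommRingCat.of R) ⟶ X) (hf : (f.pullback g).IsAlgebraic)
    (ξ s : Spec (CommRingCat.of R)) (hξ : ξ.asIdeal = ⊥)
    (h : f (g ξ) = X.Γevaluation (g ξ) a) : f (g s) = X.Γevaluation (g s) a := by
  obtain ⟨r, hr⟩ := hf
  have h1 : (Spec (CommRingCat.of R)).Γevaluation ξ r = g.residueFieldMap ξ (f (g ξ)) :=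
    congrFun hr ξ
  rw [h, Scheme.Γevaluation_naturality_apply] at h1
  have h2 : r = g.appTop a := by
    have := eq_zero_of_Γevaluation_eq_zero ξ hξ (r - g.appTop a) (by rw [map_sub, h1, sub_self])
    exact sub_eq_zero.mp this
  have h3 : (Spec (CommRingCat.of R)).Γevaluation s r = g.residueFieldMap s (f (g s)) :=
    congrFun hr s
  rw [h2, ← Scheme.Γevaluation_naturality_apply] at h3
  exact ((g.residueFieldMap s).hom.injective h3).symm

end sch

end Groth.Agent.Lib.Helper9.PtFunNormal
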