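import Mathlib
import Groth.Prelude.Def_W4c1hilbchowincPtFun
import Groth.Agent.Lib.Helper9.PtFunNormal2
import Groth.Agent.Lib.Helper9.PtFunNormal3
import Groth.Agent.Lib.Helper12.CohenExistA

set_option linter.style.haveILetI false
set_option linter.unusedSectionVars false

universe u

namespace Groth.Agent.Lib.Helper9.PtFunComplete

open CategoryTheory AlgebraicGeometry W4c1hilbchowinc Groth.Agent.Lib.Helper9.PtFunNormal

theorem pullback_comp {X Y Z : Scheme.{u}} (c : Z ⟶ Y) (g : Y ⟶ X) (f : PtFun X) :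
    f.pullback (c ≫ g) = (f.pullback g).pullback c := by
  funext z
  change (c ≫ g).residueFieldMap z (f ((c ≫ g) z)) =
    c.residueFieldMap z (g.residueFieldMap (c z) (f (g (c z))))
  rw [Scheme.residueFieldMap_comp]
  rfl

theorem ofSection_appTop {X Y : Scheme.{u}} (g : Y ⟶ X) (a : Γ(X, ⊤)) :
    PtFun.ofSection Y (g.appTop a) = (PtFun.ofSection X a).pullback g := by
  funext z
  exact (Scheme.Γevaluation_naturality_apply g z a).symm

/-- transporting values along an equality of points -/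
theorem exists_transport {X Y : Scheme.{u}} (F : PtFun X) (c : Y ⟶ X) (z : Y) (w : X)
    (h : c z = w) : ∃ θ : X.residueField w →+* Y.residueField z,
      θ (F w) = c.residueFieldMap z (F (c z)) ∧
      ∀ a : Γ(X, ⊤), θ (X.Γevaluation w a) = Y.Γevaluation z (c.appTop a) := by
  subst h
  exact ⟨(c.residueFieldMap z).hom, rfl, fun a => Scheme.Γevaluation_naturality_apply _ _ _⟩

section descend

variable {R Λ : Type u} [CommRing R] [IsDomain R] [ValuationRing R]
  [CommRing Λ] [IsDomain Λ] [IsLocalRing Λ] (φ : R →+* Λ) (hinj : Function.Injective φ)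
  [IsLocalHom φ]

theorem appTop_specMap (a : R) :
    (Spec.map (CommRingCat.ofHom φ)).appTop ((Scheme.ΓSpecIso (CommRingCat.of R)).inv a) =
      (Scheme.ΓSpecIso (CommRingCat.of Λ)).inv (φ a) := by
  have h := Scheme.ΓSpecIso_inv_naturality (CommRingCat.ofHom φ)
  exact (congrArg (fun ψ => ψ.hom a) h).symm

include hinj in
/-- a pointwise function on the spectrum of a valuation ring whose pullback to a dominating local
domain is algebraic is algebraic, provided every prime is zero or maximal -/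
theorem isAlgebraic_of_pullback (hdim : ∀ z : PrimeSpectrum R, z.asIdeal = ⊥ ∨
      z.asIdeal = IsLocalRing.maximalIdeal R)
    (F : PtFun (Spec (CommRingCat.of R)))
    (hF : (F.pullback (Spec.map (CommRingCat.ofHom φ))).IsAlgebraic) : F.IsAlgebraic := by
  set c := Spec.map (CommRingCat.ofHom φ) with hc
  let ξ : Spec (CommRingCat.of R) := (⟨⊥, Ideal.isPrime_bot⟩ : PrimeSpectrum R)
  let ξ' : Spec (CommRingCat.of Λ) := (⟨⊥, Ideal.isPrime_bot⟩ : PrimeSpectrum Λ)
  have hξ : c ξ' = ξ := by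
    apply PrimeSpectrum.ext
    ext a
    change φ a ∈ (⊥ : Ideal Λ) ↔ a ∈ (⊥ : Ideal R)
    rw [Ideal.mem_bot, Ideal.mem_bot, map_eq_zero_iff φ hinj]
  have hs : c (IsLocalRing.closedPoint Λ) = IsLocalRing.closedPoint R := by
    apply PrimeSpectrum.ext
    exact IsLocalRing.maximalIdeal_comap φ
  obtain ⟨r', hr'⟩ := hF
  obtain ⟨r₀', hr₀'⟩ : ∃ r₀' : Λ, (Scheme.ΓSpecIso (CommRingCat.of Λ)).inv r₀' = r' :=
    ⟨(Scheme.ΓSpecIso (CommRingCat.of Λ)).hom r',
      Iso.hom_inv_id_apply (Scheme.ΓSpecIso (CommRingCat.of Λ)) r'⟩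
  obtain ⟨θ, hθ1, hθ2⟩ := exists_transport F c ξ' ξ hξ
  have hθev : ∀ a : R, θ (ev ξ a) = ev ξ' (φ a) := by
    intro a
    rw [ev_apply, hθ2, hc, appTop_specMap, ← ev_apply]
  have h1 : ev ξ' r₀' = θ (F ξ) := by
    rw [hθ1, ev_apply, hr₀']
    exact congrFun hr' ξ'
  -- the generic value comes from `R`
  obtain ⟨r, hr⟩ : ∃ r : R, ev ξ r = F ξ := by
    obtain ⟨a₀, s₀, hs₀, hx⟩ := exists_frac ξ (F ξ)
    have hs0 : s₀ ≠ 0 := fun h => hs₀ (by rw [h]; exact Ideal.zero_mem _)
    have hevs0 : ev ξ s₀ ≠ 0 := fun h => hs₀ ((ev_eq_zero_iff ξ s₀).mp h)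
    obtain ⟨d, hd | hd⟩ := ValuationRing.cond s₀ a₀
    · refine ⟨d, ?_⟩
      have : F ξ * ev ξ s₀ = ev ξ d * ev ξ s₀ := by rw [hx, ← hd, map_mul, mul_comm]
      exact (mul_right_cancel₀ hevs0 this).symm
    · by_cases hdu : IsUnit d
      · obtain ⟨u, rfl⟩ := hdu
        refine ⟨(↑u⁻¹ : R), ?_⟩
        have h2 : a₀ = s₀ * (↑u⁻¹ : R) := by rw [← hd, mul_assoc, Units.mul_inv, mul_one]
        have : F ξ * ev ξ s₀ = ev ξ (↑u⁻¹ : R) * ev ξ s₀ := by rw [hx, h2, map_mul, mul_comm]
        exact (mul_right_cancel₀ hevs0 this).symm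
      · exfalso
        have ha0 : a₀ ≠ 0 := by
          intro h; apply hs0; rw [← hd, h, zero_mul]
        have heva0 : ev ξ a₀ ≠ 0 := fun h => ha0 (by
          have := (ev_eq_zero_iff ξ a₀).mp h
          exact (Ideal.mem_bot.mp this))
        have h2 : F ξ * ev ξ d = 1 := by
          have : (F ξ * ev ξ d) * ev ξ a₀ = 1 * ev ξ a₀ := by
            calc (F ξ * ev ξ d) * ev ξ a₀ = F ξ * ev ξ (a₀ * d) := by rw [map_mul]; ring
              _ = ev ξ a₀ := by rw [hd, hx]
              _ = 1 * ev ξ a₀ := (one_mul _).symm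
          exact mul_right_cancel₀ heva0 this
        have h3 : ev ξ' (r₀' * φ d - 1) = 0 := by
          rw [map_sub, map_mul, map_one, h1, ← hθev, ← map_mul, h2, map_one, sub_self]
        have h4 : r₀' * φ d = 1 := by
          have := (ev_eq_zero_iff ξ' _).mp h3
          exact sub_eq_zero.mp (Ideal.mem_bot.mp this)
        have h5 : IsUnit (φ d) := IsUnit.of_mul_eq_one _ (by rw [mul_comm]; exact h4)
        exact hdu (isUnit_of_map_unit φ d h5)
  refine ⟨(Scheme.ΓSpecIso (CommRingCat.of R)).inv r, funext fun z => ?_⟩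
  change (Spec (CommRingCat.of R)).Γevaluation z ((Scheme.ΓSpecIso (CommRingCat.of R)).inv r) = F z
  rcases hdim z with hz | hz
  · have : z = ξ := PrimeSpectrum.ext hz
    rw [this]; exact hr
  · have hzs : z = IsLocalRing.closedPoint R := PrimeSpectrum.ext hz
    have hgen : ∀ w : Spec (CommRingCat.of R), w = ξ →
        F w = (Spec (CommRingCat.of R)).Γevaluation w
          ((Scheme.ΓSpecIso (CommRingCat.of R)).inv r) := by
      rintro w rfl
      exact hr.symm
    have hK := lemmaK F ((Scheme.ΓSpecIso (CommRingCat.of R)).inv r) Λ c ⟨r', hr'⟩ ξ'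
      (IsLocalRing.closedPoint Λ) rfl (hgen _ hξ)
    rw [hs] at hK
    rw [hzs]
    exact hK.symm

end descend

/-- variation along complete discrete valuation rings implies variation along all discrete
valuation rings -/
theorem variesAlongDVR_of_complete {X : Scheme.{u}} (f : PtFun X)
    (hf : f.VariesAlongCompleteDVR) : f.VariesAlongDVR := by
  intro R _ _ _ g
  obtain ⟨π, hπ⟩ := IsDiscreteValuationRing.exists_irreducible R
  have hmax : IsLocalRing.maximalIdeal R = Ideal.span {π} := hπ.maximalIdeal_eq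
  have hreg : π ∈ nonZeroDivisors R := mem_nonZeroDivisors_of_ne_zero hπ.ne_zero
  obtain ⟨Λ, iΛ, iAlg, iDom, iDVR, hcomp, hmaxΛ, hflat, -⟩ :=
    Groth.Agent.Lib.Helper12.CohenExist.exists_complete_dvr R π hmax hreg
      (IsLocalRing.ResidueField R)
  have hπΛ : algebraMap R Λ π ≠ 0 := by
    intro h
    rw [h] at hmaxΛ
    apply IsDiscreteValuationRing.not_a_field Λ
    rw [hmaxΛ]; simp
  have hinj : Function.Injective (algebraMap R Λ) := by
    rw [injective_iff_map_eq_zero]
    intro r hr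
    by_contra hr0
    obtain ⟨n, u, hru⟩ := IsDiscreteValuationRing.eq_unit_mul_pow_irreducible hr0 hπ
    rw [hru, map_mul, map_pow] at hr
    rcases mul_eq_zero.mp hr with h | h
    · exact (u.isUnit.map (algebraMap R Λ)).ne_zero h
    · exact hπΛ (pow_eq_zero_iff'.mp h).1
  haveI : IsLocalHom (algebraMap R Λ) := by
    constructor
    intro a ha
    by_contra hau
    have h1 : a ∈ IsLocalRing.maximalIdeal R := (IsLocalRing.mem_maximalIdeal a).mpr hau
    rw [hmax, Ideal.mem_span_singleton] at h1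
    obtain ⟨b, rfl⟩ := h1
    have h2 : algebraMap R Λ (π * b) ∈ IsLocalRing.maximalIdeal Λ := by
      rw [hmaxΛ, map_mul]
      exact Ideal.mul_mem_right _ _ (Ideal.mem_span_singleton_self _)
    exact (IsLocalRing.mem_maximalIdeal _).mp h2 ha
  have hdim : ∀ z : PrimeSpectrum R, z.asIdeal = ⊥ ∨ z.asIdeal = IsLocalRing.maximalIdeal R := by
    intro z
    by_cases hz : z.asIdeal = ⊥
    · exact Or.inl hz
    · right
      have : z.asIdeal.IsMaximal := Ring.DimensionLEOne.maximalOfPrime hz z.2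
      exact IsLocalRing.eq_maximalIdeal this
  have h1 := hf Λ (Spec.map (CommRingCat.ofHom (algebraMap R Λ)) ≫ g)
  rw [pullback_comp] at h1
  exact isAlgebraic_of_pullback (algebraMap R Λ) hinj hdim _ h1

end Groth.Agent.Lib.Helper9.PtFunComplete
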