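import Mathlib

set_option linter.style.haveILetI false
set_option linter.unusedSectionVars false

universe u

namespace Groth.Agent.Lib.Helper9.PtFunComplete

open CategoryTheory AlgebraicGeometry

section alg

variable (A : Type u) [CommRing A]

local notation "Q" => FractionRing A
local notation "B" => integralClosure A (FractionRing A)

theorem algebraMap_mem_nonZeroDivisors {s : A} (hs : s ∈ nonZeroDivisors A) :
    algebraMap A B s ∈ nonZeroDivisors B := by
  rw [mem_nonZeroDivisors_iff_right]
  intro b hb
  have h1 : (b : Q) * algebraMap A Q s = 0 := by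
    have := congrArg (fun z : B => (z : Q)) hb
    simpa using this
  have hu : IsUnit (algebraMap A Q s) := IsLocalization.map_units Q (⟨s, hs⟩ : nonZeroDivisors A)
  have h2 : (b : Q) = 0 := by
    have := congrArg (· * (↑hu.unit⁻¹ : Q)) h1
    simpa [mul_assoc] using this
  exact Subtype.ext h2

instance isFractionRing_integralClosure : IsFractionRing B Q := by
  refine (isLocalization_iff (nonZeroDivisors B) Q).mpr ⟨?_, ?_, ?_⟩
  · rintro ⟨b, hb⟩
    obtain ⟨a, s, has⟩ := IsLocalization.exists_mk'_eq (nonZeroDivisors A) (b : Q)
    have ha : a ∈ nonZeroDivisors A := by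
      rw [mem_nonZeroDivisors_iff_right]
      intro a' ha'
      have h1 : (b : Q) * algebraMap A Q a' = 0 := by
        rw [← has, mul_comm, IsLocalization.mul_mk'_eq_mk'_of_mul, ha']
        exact IsLocalization.mk'_zero _
      have h2 : b * algebraMap A B a' = 0 := Subtype.ext h1
      have h3 : algebraMap A B a' = 0 := by
        rw [mul_comm] at h2
        exact (mem_nonZeroDivisors_iff_right.mp hb) _ h2
      have h4 : algebraMap A Q a' = 0 := congrArg (fun z : B => (z : Q)) h3
      exact (IsLocalization.injective Q le_rfl) (by rw [h4, map_zero])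
    change IsUnit (b : Q)
    rw [← has]
    exact IsUnit.of_mul_eq_one _
      (IsLocalization.mk'_mul_mk'_eq_one (S := Q) (⟨a, ha⟩ : nonZeroDivisors A) s)
  · intro q
    obtain ⟨a, s, rfl⟩ := IsLocalization.exists_mk'_eq (nonZeroDivisors A) q
    refine ⟨(algebraMap A B a, ⟨algebraMap A B s, algebraMap_mem_nonZeroDivisors A s.2⟩), ?_⟩
    change IsLocalization.mk' Q a s * algebraMap A Q s = algebraMap A Q a
    exact IsLocalization.mk'_spec _ _ _
  · intro x y hxy
    exact ⟨1, by rw [Subtype.ext hxy]⟩

theorem isIntegrallyClosed_integralClosure : IsIntegrallyClosed B :=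
  (isIntegrallyClosed_iff_isIntegrallyClosedIn Q).mpr inferInstance

theorem isReduced_integralClosure [IsReduced A] : IsReduced B :=
  isReduced_of_injective (algebraMap B Q) Subtype.val_injective

theorem isNoetherianRing_integralClosure [IsNoetherianRing A] (hfin : Module.Finite A B) :
    IsNoetherianRing B :=
  Algebra.FiniteType.isNoetherianRing A B

theorem algebraMap_injective : Function.Injective (algebraMap A B) := by
  intro x y hxy
  have : algebraMap A Q x = algebraMap A Q y := congrArg (fun z : B => (z : Q)) hxy
  exact IsLocalization.injective Q le_rfl this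

/-- the normalization morphism -/
noncomputable def nu : Spec (CommRingCat.of B) ⟶ Spec (CommRingCat.of A) :=
  Spec.map (CommRingCat.ofHom (algebraMap A B))

theorem nu_isFinite (hfin : Module.Finite A B) : IsFinite (nu A) := by
  rw [nu, IsFinite.SpecMap_iff]
  exact RingHom.finite_algebraMap.mpr hfin

theorem nu_surjective : Surjective (nu A) := by
  constructor
  intro P
  haveI : P.asIdeal.IsPrime := P.2
  obtain ⟨Q', -, hQ', hQ''⟩ := Ideal.exists_ideal_over_prime_of_isIntegral (S := B) P.asIdeal
    (⊥ : Ideal B) (by
      rw [← RingHom.ker_eq_comap_bot,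
        (RingHom.injective_iff_ker_eq_bot _).mp (algebraMap_injective A)]
      exact bot_le)
  exact ⟨(⟨Q', hQ'⟩ : PrimeSpectrum B), PrimeSpectrum.ext hQ''⟩

end alg

end Groth.Agent.Lib.Helper9.PtFunComplete
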