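import Mathlib
import Groth.Agent.Lib.Helper13.DvrDominate
import Groth.Agent.Lib.helper10.NormalTotal

set_option linter.style.haveILetI false
set_option linter.unusedSectionVars false

universe u

namespace Groth.Agent.Lib.Helper9.PtFunNormal

open Groth.Agent.Lib.Helper13.Dvr

section alg

variable {A : Type u} [CommRing A] [IsReduced A] [IsNoetherianRing A] [IsIntegrallyClosed A]

theorem loc_normal (P : Ideal A) [P.IsPrime] :
    IsDomain (Localization.AtPrime P) ∧ IsIntegrallyClosed (Localization.AtPrime P) :=
  Groth.Agent.Lib.helper10.NormalTotal.backward (minimalPrimes.finite_of_isNoetherianRing A)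
    (inferInstanceAs (IsIntegrallyClosed A)) P

variable (P : Ideal A) [P.IsPrime] (p : Ideal A) (hp : p ∈ minimalPrimes A) (hpP : p ≤ P)
variable {L : Type u} [Field L] (ev : A →+* L) (hker : ∀ a, ev a = 0 ↔ a ∈ p)
  (hfrac : ∀ x : L, ∃ a s : A, s ∉ p ∧ x * ev s = ev a)

include hpP hker in
theorem isUnit_ev (y : P.primeCompl) : IsUnit (ev y) := by
  refine IsUnit.mk0 _ ?_
  intro h
  exact y.2 (hpP ((hker _).mp h))

/-- the induced map from the localization at `P` to `L` -/
noncomputable def psi : Localization.AtPrime P →+* L :=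
  IsLocalization.lift (M := P.primeCompl) (g := ev) (isUnit_ev P p hpP ev hker)

@[simp] theorem psi_algebraMap (a : A) :
    psi P p hpP ev hker (algebraMap A (Localization.AtPrime P) a) = ev a :=
  IsLocalization.lift_eq _ _

include hp hpP in
theorem algebraMap_eq_zero_of_mem {a : A} (ha : a ∈ p) :
    algebraMap A (Localization.AtPrime P) a = 0 := by
  haveI := (loc_normal P).1
  have hprime : (RingHom.ker (algebraMap A (Localization.AtPrime P))).IsPrime :=
    RingHom.ker_isPrime _
  have hle : RingHom.ker (algebraMap A (Localization.AtPrime P)) ≤ p := by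
    intro b hb
    rw [RingHom.mem_ker, IsLocalization.map_eq_zero_iff P.primeCompl] at hb
    obtain ⟨t, ht⟩ := hb
    have h1 : (t : A) * b ∈ p := by rw [ht]; exact p.zero_mem
    rcases hp.1.1.mem_or_mem h1 with h2 | h2
    · exact absurd (hpP h2) t.2
    · exact h2
  exact hp.2 ⟨hprime, bot_le⟩ hle ha

include hp in
theorem psi_injective : Function.Injective (psi P p hpP ev hker) := by
  haveI := (loc_normal P).1
  rw [injective_iff_map_eq_zero]
  intro z hz
  obtain ⟨a, s, rfl⟩ := IsLocalization.exists_mk'_eq P.primeCompl z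
  have h1 : psi P p hpP ev hker (IsLocalization.mk' _ a s) * ev s = ev a := by
    rw [← psi_algebraMap P p hpP ev hker (s : A), ← map_mul, IsLocalization.mk'_spec,
      psi_algebraMap]
  rw [hz, zero_mul] at h1
  have ha : a ∈ p := (hker a).mp h1.symm
  rw [IsLocalization.mk'_eq_zero_iff]
  have := algebraMap_eq_zero_of_mem P p hp hpP ha
  rw [IsLocalization.map_eq_zero_iff P.primeCompl] at this
  exact this

include hfrac in
theorem closure_range_psi :
    Subfield.closure (Set.range (psi P p hpP ev hker) ∪ ((∅ : Finset L) : Set L)) = ⊤ := by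
  rw [eq_top_iff]
  intro x _
  obtain ⟨a, s, hs, hx⟩ := hfrac x
  have hs0 : ev s ≠ 0 := fun h => hs ((hker s).mp h)
  have hx' : x = ev a / ev s := by rw [eq_div_iff hs0]; exact hx
  rw [hx']
  refine Subfield.div_mem _ (Subfield.subset_closure (Or.inl ⟨algebraMap _ _ a, ?_⟩))
    (Subfield.subset_closure (Or.inl ⟨algebraMap _ _ s, ?_⟩)) <;> simp

include hp hpP hker hfrac in
/-- an element of `L` lying in every discrete valuation ring of `L` containing the image of
`A_P` is a fraction with denominator outside `P` -/
theorem exists_frac_of_forall_dvr (x : L)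
    (hx : ∀ R : ValuationSubring L, IsDiscreteValuationRing R →
      (∀ a : A, ev a ∈ R) → x ∈ R) :
    ∃ a s : A, s ∉ P ∧ x * ev s = ev a := by
  haveI := (loc_normal P).1
  haveI := (loc_normal P).2
  letI : Algebra (Localization.AtPrime P) L := (psi P p hpP ev hker).toAlgebra
  have hinj : Function.Injective (algebraMap (Localization.AtPrime P) L) :=
    psi_injective P p hp hpP ev hker
  haveI : FaithfulSMul (Localization.AtPrime P) L :=
    (faithfulSMul_iff_algebraMap_injective _ _).mpr hinj
  haveI : IsFractionRing (Localization.AtPrime P) L := by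
    refine IsFractionRing.of_field _ _ ?_
    intro z
    obtain ⟨a, s, hs, hz⟩ := hfrac z
    have hs0 : ev s ≠ 0 := fun h => hs ((hker s).mp h)
    refine ⟨algebraMap _ _ a, algebraMap _ _ s, ?_⟩
    change z = psi P p hpP ev hker _ / psi P p hpP ev hker _
    rw [psi_algebraMap, psi_algebraMap, eq_div_iff hs0]
    exact hz
  have hint : IsIntegral (Localization.AtPrime P) x := by
    by_contra hni
    obtain ⟨R, hR, hAR, hxR⟩ := exists_dvr_notMem_of_not_isIntegral (Localization.AtPrime P)
      (∅ : Finset L) (closure_range_psi P p hpP ev hker hfrac) x hni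
    refine hxR (hx R hR ?_)
    intro a
    have := hAR (algebraMap A _ a)
    change psi P p hpP ev hker _ ∈ R at this
    rwa [psi_algebraMap] at this
  obtain ⟨z, hz⟩ := IsIntegrallyClosed.algebraMap_eq_of_integral hint
  obtain ⟨a, s, rfl⟩ := IsLocalization.exists_mk'_eq P.primeCompl z
  refine ⟨a, s, s.2, ?_⟩
  rw [← hz]
  change psi P p hpP ev hker _ * _ = _
  rw [← psi_algebraMap P p hpP ev hker (s : A), ← map_mul, IsLocalization.mk'_spec,
    psi_algebraMap]

include hp hpP hker hfrac in
/-- a discrete valuation ring of `L` dominating `A_P` -/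
theorem exists_dvr_center (hne : P ≠ p) :
    ∃ R : ValuationSubring L, IsDiscreteValuationRing R ∧ (∀ a : A, ev a ∈ R) ∧
      ∀ a : A, R.valuation (ev a) < 1 ↔ a ∈ P := by
  haveI := (loc_normal P).1
  have hinj := psi_injective P p hp hpP ev hker
  have hk : RingHom.ker (psi P p hpP ev hker) ≠
      IsLocalRing.maximalIdeal (Localization.AtPrime P) := by
    intro h
    apply hne
    refine le_antisymm ?_ hpP
    intro a ha
    have h1 : algebraMap A (Localization.AtPrime P) a ∈
        IsLocalRing.maximalIdeal (Localization.AtPrime P) := by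
      rw [← Localization.AtPrime.map_eq_maximalIdeal]
      exact Ideal.mem_map_of_mem _ ha
    rw [← h, RingHom.mem_ker, psi_algebraMap] at h1
    exact (hker a).mp h1
  obtain ⟨R, hR, hAR, hlt⟩ := exists_dvr_dominating_ringHom (Localization.AtPrime P)
    (psi P p hpP ev hker) hk (∅ : Finset L) (closure_range_psi P p hpP ev hker hfrac)
  have hmem : ∀ a : A, ev a ∈ R := fun a => by
    have := hAR (algebraMap A _ a)
    rwa [psi_algebraMap] at this
  refine ⟨R, hR, hmem, fun a => ⟨?_, ?_⟩⟩
  · intro hlt1
    by_contra haP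
    have hu : IsUnit (algebraMap A (Localization.AtPrime P) a) :=
      IsLocalization.map_units _ (⟨a, haP⟩ : P.primeCompl)
    obtain ⟨u, hu⟩ := hu
    have h1 : psi P p hpP ev hker (↑u) * psi P p hpP ev hker (↑u⁻¹) = 1 := by
      rw [← map_mul, Units.mul_inv, map_one]
    rw [hu, psi_algebraMap] at h1
    have h2 : R.valuation (psi P p hpP ev hker (↑u⁻¹)) ≤ 1 :=
      (R.valuation_le_one_iff _).mpr (hAR _)
    have h3 : R.valuation (ev a) * R.valuation (psi P p hpP ev hker (↑u⁻¹)) = 1 := by
      rw [← map_mul, h1, map_one]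
    have h4 : R.valuation (ev a) * R.valuation (psi P p hpP ev hker (↑u⁻¹)) < 1 :=
      mul_lt_one_of_lt_of_le hlt1 h2
    exact absurd h3 (ne_of_lt h4)
  · intro haP
    have h1 : algebraMap A (Localization.AtPrime P) a ∈
        IsLocalRing.maximalIdeal (Localization.AtPrime P) := by
      rw [← Localization.AtPrime.map_eq_maximalIdeal]
      exact Ideal.mem_map_of_mem _ haP
    have := hlt _ h1
    rwa [psi_algebraMap] at this

end alg

end Groth.Agent.Lib.Helper9.PtFunNormal
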