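import Mathlib
import Groth.Prelude.Def_W4c1hilbchowincPtFun
import Groth.Agent.Lib.Helper9.PtFunNormal2
import Groth.Agent.Lib.Helper9.PtFunNormal3

set_option linter.style.haveILetI false
set_option linter.unusedSectionVars false

universe u

namespace Groth.Agent.Lib.Helper9.PtFunNormal

open CategoryTheory AlgebraicGeometry W4c1hilbchowinc

section sch

variable {A : Type u} [CommRing A] (η : Spec (CommRingCat.of A))
  (R : ValuationSubring ((Spec (CommRingCat.of A)).residueField η))
  (hR : ∀ a : A, ev η a ∈ R)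

/-- the map `A → R` -/
noncomputable def gam : A →+* R := (ev η).codRestrict R hR

@[simp] theorem gam_coe (a : A) : ((gam η R hR a : R) : (Spec (CommRingCat.of A)).residueField η) = ev η a := rfl

/-- the morphism `Spec R → Spec A` -/
noncomputable def gmor : Spec (CommRingCat.of R) ⟶ Spec (CommRingCat.of A) :=
  Spec.map (CommRingCat.ofHom (gam η R hR))

/-- the generic point of `Spec R` -/
noncomputable def xi : Spec (CommRingCat.of R) := (⟨⊥, Ideal.isPrime_bot⟩ : PrimeSpectrum R)

theorem xi_asIdeal : (xi η R).asIdeal = ⊥ := rfl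

theorem gmor_xi : gmor η R hR (xi η R) = η := by
  apply PrimeSpectrum.ext
  ext a
  change gam η R hR a ∈ (⊥ : Ideal R) ↔ a ∈ η.asIdeal
  rw [Ideal.mem_bot, ← ev_eq_zero_iff, ← gam_coe η R hR a]
  exact ⟨fun h => by rw [h]; rfl, fun h => Subtype.ext h⟩

theorem gmor_closedPoint (P : Ideal A) [P.IsPrime]
    (hP : ∀ a : A, R.valuation (ev η a) < 1 ↔ a ∈ P) :
    (gmor η R hR (IsLocalRing.closedPoint R)).asIdeal = P := by
  ext a
  change gam η R hR a ∈ IsLocalRing.maximalIdeal R ↔ a ∈ P
  rw [ValuationSubring.valuation_lt_one_iff, gam_coe, hP]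

theorem appTop_gmor (a : A) :
    (gmor η R hR).appTop ((Scheme.ΓSpecIso (CommRingCat.of A)).inv a) =
      (Scheme.ΓSpecIso (CommRingCat.of R)).inv (gam η R hR a) := by
  have h := Scheme.ΓSpecIso_inv_naturality (CommRingCat.ofHom (gam η R hR))
  exact (congrArg (fun φ => φ.hom a) h).symm

include hR in
/-- a pointwise function varying along discrete valuation rings has generic value in every discrete
valuation ring of the residue field containing the image of `A` -/
theorem mem_of_variesAlongDVR (f : PtFun (Spec (CommRingCat.of A))) (hf : f.VariesAlongDVR)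
    [IsDiscreteValuationRing R] : f η ∈ R := by
  obtain ⟨r, hr⟩ := hf R (gmor η R hR)
  obtain ⟨a₀, s₀, hs₀, hx⟩ := exists_frac η (f η)
  have hs0 : ev η s₀ ≠ 0 := fun h => hs₀ ((ev_eq_zero_iff η s₀).mp h)
  -- transport along `g ξ = η`
  obtain ⟨θ, hθ1, hθ2⟩ : ∃ θ : (Spec (CommRingCat.of A)).residueField η →+*
      (Spec (CommRingCat.of R)).residueField (xi η R),
      θ (f η) = (gmor η R hR).residueFieldMap (xi η R) (f (gmor η R hR (xi η R))) ∧
      ∀ a : Γ(Spec (CommRingCat.of A), ⊤), θ ((Spec (CommRingCat.of A)).Γevaluation η a) =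
        (Spec (CommRingCat.of R)).Γevaluation (xi η R) ((gmor η R hR).appTop a) := by
    have key : ∀ (y : Spec (CommRingCat.of A)) (hy : gmor η R hR (xi η R) = y),
        ∃ θ : (Spec (CommRingCat.of A)).residueField y →+*
          (Spec (CommRingCat.of R)).residueField (xi η R),
        θ (f y) = (gmor η R hR).residueFieldMap (xi η R) (f (gmor η R hR (xi η R))) ∧
        ∀ a : Γ(Spec (CommRingCat.of A), ⊤), θ ((Spec (CommRingCat.of A)).Γevaluation y a) =
          (Spec (CommRingCat.of R)).Γevaluation (xi η R) ((gmor η R hR).appTop a) := by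
      rintro y rfl
      exact ⟨((gmor η R hR).residueFieldMap (xi η R)).hom, rfl,
        fun a => Scheme.Γevaluation_naturality_apply _ _ _⟩
    exact key η (gmor_xi η R hR)
  have h1 : (Spec (CommRingCat.of R)).Γevaluation (xi η R) r = θ (f η) := by
    rw [hθ1]; exact congrFun hr (xi η R)
  have hθev : ∀ a : A, θ (ev η a) = (Spec (CommRingCat.of R)).Γevaluation (xi η R)
      ((Scheme.ΓSpecIso (CommRingCat.of R)).inv (gam η R hR a)) := by
    intro a
    rw [ev_apply, hθ2, appTop_gmor]
  -- the section `r` as an element of `R`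
  obtain ⟨r₀, hr₀⟩ : ∃ r₀ : R, (Scheme.ΓSpecIso (CommRingCat.of R)).inv r₀ = r :=
    ⟨(Scheme.ΓSpecIso (CommRingCat.of R)).hom r,
      Iso.hom_inv_id_apply (Scheme.ΓSpecIso (CommRingCat.of R)) r⟩
  have h2 : r₀ * gam η R hR s₀ = gam η R hR a₀ := by
    have h3 : (Scheme.ΓSpecIso (CommRingCat.of R)).inv (r₀ * gam η R hR s₀ - gam η R hR a₀) = 0 := by
      apply eq_zero_of_Γevaluation_eq_zero (xi η R) (xi_asIdeal η R)
      rw [map_sub, map_mul, map_sub, map_mul, hr₀, h1, ← hθev, ← hθev, ← map_mul, hx, sub_self]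
    have h4 := congrArg (Scheme.ΓSpecIso (CommRingCat.of R)).hom.hom h3
    rw [map_zero] at h4
    have h5 : (Scheme.ΓSpecIso (CommRingCat.of R)).hom
        ((Scheme.ΓSpecIso (CommRingCat.of R)).inv (r₀ * gam η R hR s₀ - gam η R hR a₀)) =
        r₀ * gam η R hR s₀ - gam η R hR a₀ :=
      Iso.inv_hom_id_apply (Scheme.ΓSpecIso (CommRingCat.of R)) _
    exact sub_eq_zero.mp (h5.symm.trans h4)
  have h6 : (r₀ : (Spec (CommRingCat.of A)).residueField η) * ev η s₀ = ev η a₀ := by
    have := congrArg (fun z : R => (z : (Spec (CommRingCat.of A)).residueField η)) h2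
    simpa using this
  have h7 : (r₀ : (Spec (CommRingCat.of A)).residueField η) = f η :=
    mul_right_cancel₀ hs0 (h6.trans hx.symm)
  rw [← h7]
  exact r₀.2

end sch

end Groth.Agent.Lib.Helper9.PtFunNormal
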