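import Mathlib
import Groth.Prelude.Def_W4c1hilbchowincPtFun
import Groth.Agent.Lib.Helper9.PtFunNormal1
import Groth.Agent.Lib.Helper9.PtFunNormal2
import Groth.Agent.Lib.Helper9.PtFunNormal3
import Groth.Agent.Lib.Helper9.PtFunNormal4

set_option linter.style.haveILetI false
set_option linter.unusedSectionVars false

universe u

namespace Groth.Agent.Lib.Helper9.PtFunNormal

open CategoryTheory AlgebraicGeometry W4c1hilbchowinc

section assembly

variable {A : Type u} [CommRing A] [IsReduced A] [IsNoetherianRing A] [IsIntegrallyClosed A]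

/-- below a prime of a ring all of whose localizations are domains there is only one minimal prime -/
theorem minimalPrime_unique (P : Ideal A) [P.IsPrime] (p q : Ideal A) (hp : p ∈ minimalPrimes A)
    (hq : q ∈ minimalPrimes A) (hpP : p ≤ P) (hqP : q ≤ P) : p = q := by
  have hle : p ≤ q := by
    intro a ha
    have h0 := algebraMap_eq_zero_of_mem P p hp hpP ha
    rw [IsLocalization.map_eq_zero_iff P.primeCompl] at h0
    obtain ⟨t, ht⟩ := h0
    have h1 : (t : A) * a ∈ q := by rw [ht]; exact q.zero_mem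
    rcases hq.1.1.mem_or_mem h1 with h2 | h2
    · exact absurd (hqP h2) t.2
    · exact h2
  exact le_antisymm hle (hq.2 ⟨hp.1.1, bot_le⟩ hle)

variable (f : PtFun (Spec (CommRingCat.of A))) (hf : f.VariesAlongDVR)

include hf in
theorem exists_local_frac (η : Spec (CommRingCat.of A)) (hη : η.asIdeal ∈ minimalPrimes A)
    (P : Ideal A) [P.IsPrime] (hηP : η.asIdeal ≤ P) :
    ∃ a s : A, s ∉ P ∧ f η * ev η s = ev η a :=
  exists_frac_of_forall_dvr P η.asIdeal hη hηP (ev η) (ev_eq_zero_iff η) (exists_frac η) (f η)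
    (fun R hR hAR => by haveI := hR; exact mem_of_variesAlongDVR η R hAR f hf)

/-- the ideal of denominators of the pointwise function at the generic points -/
def denomIdeal : Ideal A where
  carrier := {b | ∃ a : A, ∀ η : Spec (CommRingCat.of A), η.asIdeal ∈ minimalPrimes A →
    ev η a = ev η b * f η}
  zero_mem' := ⟨0, fun η _ => by simp⟩
  add_mem' := by
    rintro b b' ⟨a, ha⟩ ⟨a', ha'⟩
    exact ⟨a + a', fun η hη => by rw [map_add, map_add, ha η hη, ha' η hη, add_mul]⟩
  smul_mem' := by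
    rintro c b ⟨a, ha⟩
    exact ⟨c * a, fun η hη => by rw [smul_eq_mul, map_mul, map_mul, ha η hη, mul_assoc]⟩

include hf in
theorem denomIdeal_eq_top : denomIdeal f = ⊤ := by
  classical
  by_contra hne
  obtain ⟨P, hPmax, hIP⟩ := Ideal.exists_le_maximal _ hne
  haveI hPprime : P.IsPrime := hPmax.isPrime
  obtain ⟨p, hp, hpP⟩ := Ideal.exists_minimalPrimes_le (bot_le : (⊥ : Ideal A) ≤ P)
  haveI : p.IsPrime := hp.1.1
  let η₀ : Spec (CommRingCat.of A) := (⟨p, hp.1.1⟩ : PrimeSpectrum A)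
  obtain ⟨a₀, s₀, hs₀, h0⟩ := exists_local_frac f hf η₀ hp P hpP
  -- an element outside `P` lying in all other minimal primes
  have hfin : (minimalPrimes A).Finite := minimalPrimes.finite_of_isNoetherianRing A
  obtain ⟨t, htP, ht⟩ : ∃ t : A, t ∉ P ∧ ∀ q ∈ minimalPrimes A, q ≠ p → t ∈ q := by
    have hnot : ¬ ((hfin.toFinset.erase p).inf id ≤ P) := by
      intro hle
      obtain ⟨q, hqS, hqP⟩ := (Ideal.IsPrime.inf_le' hPprime).mp hle
      rw [Finset.mem_erase, Set.Finite.mem_toFinset] at hqS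
      exact hqS.1 (minimalPrime_unique P p q hp hqS.2 hpP hqP).symm
    obtain ⟨t, htJ, htP⟩ := SetLike.not_le_iff_exists.mp hnot
    refine ⟨t, htP, fun q hq hqp => ?_⟩
    have := (Finset.inf_le (f := id) (Finset.mem_erase.mpr ⟨hqp, (Set.Finite.mem_toFinset hfin).mpr hq⟩)) htJ
    exact this
  have hmem : s₀ * t ∈ denomIdeal f := by
    refine ⟨a₀ * t, fun η hη => ?_⟩
    by_cases hηp : η.asIdeal = p
    · have : η = η₀ := PrimeSpectrum.ext hηp
      subst this
      rw [map_mul, map_mul, ← h0]; ring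
    · have h1 : ev η t = 0 := (ev_eq_zero_iff η t).mpr (ht _ hη hηp)
      rw [map_mul, map_mul, h1]; ring
  rcases hPprime.mem_or_mem (hIP hmem) with h | h
  · exact hs₀ h
  · exact htP h

include hf in
theorem exists_generic : ∃ a : A, ∀ η : Spec (CommRingCat.of A), η.asIdeal ∈ minimalPrimes A →
    ev η a = f η := by
  have h1 : (1 : A) ∈ denomIdeal f := by rw [denomIdeal_eq_top f hf]; trivial
  obtain ⟨a, ha⟩ := h1
  exact ⟨a, fun η hη => by rw [ha η hη, map_one, one_mul]⟩

include hf in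
theorem exists_section : ∃ a : A, ∀ y : Spec (CommRingCat.of A), ev y a = f y := by
  obtain ⟨a, ha⟩ := exists_generic f hf
  refine ⟨a, fun y => ?_⟩
  haveI hPprime : y.asIdeal.IsPrime := y.2
  obtain ⟨p, hp, hpP⟩ := Ideal.exists_minimalPrimes_le (bot_le : (⊥ : Ideal A) ≤ y.asIdeal)
  haveI : p.IsPrime := hp.1.1
  let η₀ : Spec (CommRingCat.of A) := (⟨p, hp.1.1⟩ : PrimeSpectrum A)
  by_cases hne : y.asIdeal = p
  · have : y = η₀ := PrimeSpectrum.ext hne
    rw [this]
    exact ha η₀ hp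
  · obtain ⟨R, hR, hAR, hval⟩ := exists_dvr_center y.asIdeal p hp hpP (ev η₀) (ev_eq_zero_iff η₀)
      (exists_frac η₀) hne
    haveI := hR
    have hgen : ∀ z : Spec (CommRingCat.of A), z = η₀ →
        f z = (Spec (CommRingCat.of A)).Γevaluation z
          ((Scheme.ΓSpecIso (CommRingCat.of A)).inv a) := by
      rintro z rfl
      exact (ha _ hp).symm
    have hK := lemmaK f ((Scheme.ΓSpecIso (CommRingCat.of A)).inv a) R (gmor η₀ R hAR)
      (hf R (gmor η₀ R hAR)) (xi η₀ R) (IsLocalRing.closedPoint R) (xi_asIdeal η₀ R)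
      (hgen _ (gmor_xi η₀ R hAR))
    have hy : gmor η₀ R hAR (IsLocalRing.closedPoint R) = y :=
      PrimeSpectrum.ext (gmor_closedPoint η₀ R hAR y.asIdeal hval)
    rw [hy] at hK
    exact hK.symm

include hf in
theorem main : ∃! a : Γ(Spec (CommRingCat.of A), ⊤),
    PtFun.ofSection (Spec (CommRingCat.of A)) a = f := by
  obtain ⟨a, ha⟩ := exists_section f hf
  refine ⟨(Scheme.ΓSpecIso (CommRingCat.of A)).inv a, funext fun y => ha y, ?_⟩
  intro a' ha'
  have h1 : ∀ y : Spec (CommRingCat.of A), (Spec (CommRingCat.of A)).Γevaluation y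
      (a' - (Scheme.ΓSpecIso (CommRingCat.of A)).inv a) = 0 := by
    intro y
    rw [map_sub, sub_eq_zero]
    exact (congrFun ha' y).trans (ha y).symm
  obtain ⟨z, hz⟩ : ∃ z : A, (Scheme.ΓSpecIso (CommRingCat.of A)).inv z =
      a' - (Scheme.ΓSpecIso (CommRingCat.of A)).inv a :=
    ⟨(Scheme.ΓSpecIso (CommRingCat.of A)).hom _,
      Iso.hom_inv_id_apply (Scheme.ΓSpecIso (CommRingCat.of A)) _⟩
  have hz0 : z = 0 := by
    apply IsReduced.eq_zero
    rw [nilpotent_iff_mem_prime]
    intro J hJ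
    have := h1 (⟨J, hJ⟩ : PrimeSpectrum A)
    rw [← hz] at this
    exact (ev_eq_zero_iff (⟨J, hJ⟩ : PrimeSpectrum A) z).mp this
  rw [hz0, map_zero] at hz
  exact (sub_eq_zero.mp hz.symm)

end assembly

end Groth.Agent.Lib.Helper9.PtFunNormal
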