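import Mathlib
import Groth.Agent.Lib.Helper9.SN1

set_option autoImplicit false
set_option linter.style.haveILetI false
universe u
open CategoryTheory AlgebraicGeometry Limits TensorProduct

namespace Groth.Agent.Lib.Helper9.SN

open Groth.Agent.Lib.Helper9.UnivHomeoRing

/-- Field lemma: an element with `a ⊗ 1 = 1 ⊗ a` in `L ⊗[K] L` comes from `K`. -/
theorem mem_range_of_tmul_eq {K L : Type*} [Field K] [Field L] [Algebra K L] (a : L)
    (h : a ⊗ₜ[K] (1 : L) = (1 : L) ⊗ₜ[K] a) : a ∈ Set.range (algebraMap K L) := by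
  obtain ⟨lam, hlam⟩ := LinearMap.exists_leftInverse_of_injective (Algebra.linearMap K L)
    (LinearMap.ker_eq_bot.mpr (algebraMap K L).injective)
  have h1 : lam 1 = 1 := by
    have := congr($hlam 1)
    simpa using this
  have := congr((TensorProduct.lid K L) ((lam.rTensor L) $h))
  simp only [LinearMap.rTensor_tmul, TensorProduct.lid_tmul, h1, one_smul] at this
  exact ⟨lam a, by rw [Algebra.algebraMap_eq_smul_one]; exact this⟩

theorem fromSpecResidueField_appTop {Y : Scheme.{u}} (y : Y) :
    (Y.fromSpecResidueField y).appTop =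
      Y.Γevaluation y ≫ (Scheme.ΓSpecIso (Y.residueField y)).inv := by
  rw [Scheme.fromSpecResidueField, Scheme.Hom.comp_appTop, Scheme.fromSpecStalk_appTop]
  simp only [Category.assoc]
  have h1 : (Spec (Y.presheaf.stalk y)).presheaf.map (homOfLE (le_top : (⊤ : (Spec (Y.presheaf.stalk y)).Opens) ≤ ⊤)).op = 𝟙 _ := by
    rw [← (Spec (Y.presheaf.stalk y)).presheaf.map_id]; rfl
  rw [h1, Category.id_comp, ← Scheme.ΓSpecIso_inv_naturality]
  rfl


theorem mem_range_of_appTop_eq {X Y : Scheme.{u}} (π : Y ⟶ X) (s : Γ(Y, ⊤))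
    (hs : (pullback.fst π π).appTop s = (pullback.snd π π).appTop s)
    (K L : Type u) [Field K] [Field L] [Algebra K L] (a : Spec (.of L) ⟶ Y) (b : Spec (.of K) ⟶ X)
    (hab : a ≫ π = Spec.map (CommRingCat.ofHom (algebraMap K L)) ≫ b) :
    (Scheme.ΓSpecIso (.of L)).hom (a.appTop s) ∈ Set.range (algebraMap K L) := by
  let i₁ : CommRingCat.of L ⟶ CommRingCat.of (L ⊗[K] L) :=
    CommRingCat.ofHom (Algebra.TensorProduct.includeLeftRingHom)
  let i₂ : CommRingCat.of L ⟶ CommRingCat.of (L ⊗[K] L) :=
    CommRingCat.ofHom (Algebra.TensorProduct.includeRight (R := K) (A := L) (B := L)).toRingHom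
  have hi : CommRingCat.ofHom (algebraMap K L) ≫ i₁ = CommRingCat.ofHom (algebraMap K L) ≫ i₂ := by
    ext c
    change (algebraMap K L c) ⊗ₜ[K] (1 : L) = (1 : L) ⊗ₜ[K] (algebraMap K L c)
    rw [Algebra.algebraMap_eq_smul_one, TensorProduct.smul_tmul]
  have he : (Spec.map i₁ ≫ a) ≫ π = (Spec.map i₂ ≫ a) ≫ π := by
    simp only [Category.assoc, hab]
    rw [← Spec.map_comp_assoc, ← Spec.map_comp_assoc, hi]
  have h1 : (Spec.map i₁ ≫ a).appTop s = (Spec.map i₂ ≫ a).appTop s := by
    have := congr((pullback.lift _ _ he).appTop $hs)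
    rw [← CommRingCat.comp_apply, ← Scheme.Hom.comp_appTop, ← CommRingCat.comp_apply,
      ← Scheme.Hom.comp_appTop, pullback.lift_fst, pullback.lift_snd] at this
    exact this
  simp only [Scheme.Hom.comp_appTop, CommRingCat.comp_apply] at h1
  have h2 := congr((Scheme.ΓSpecIso (CommRingCat.of (L ⊗[K] L))).hom $h1)
  have nat₁ : (Scheme.ΓSpecIso (CommRingCat.of (L ⊗[K] L))).hom ((Spec.map i₁).appTop (a.appTop s)) =
      i₁ ((Scheme.ΓSpecIso (.of L)).hom (a.appTop s)) :=
    congr($(Scheme.ΓSpecIso_naturality i₁) (a.appTop s))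
  have nat₂ : (Scheme.ΓSpecIso (CommRingCat.of (L ⊗[K] L))).hom ((Spec.map i₂).appTop (a.appTop s)) =
      i₂ ((Scheme.ΓSpecIso (.of L)).hom (a.appTop s)) :=
    congr($(Scheme.ΓSpecIso_naturality i₂) (a.appTop s))
  rw [nat₁, nat₂] at h2
  exact mem_range_of_tmul_eq (K := K) (L := L) _ h2

theorem Γevaluation_mem_range {X Y : Scheme.{u}} (π : Y ⟶ X) (s : Γ(Y, ⊤))
    (hs : (pullback.fst π π).appTop s = (pullback.snd π π).appTop s) (y : Y) :
    ∃ c : X.residueField (π y), π.residueFieldMap y c = Y.Γevaluation y s := by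
  letI : Algebra (X.residueField (π y)) (Y.residueField y) := (π.residueFieldMap y).hom.toAlgebra
  have := mem_range_of_appTop_eq π s hs (X.residueField (π y)) (Y.residueField y)
    (Y.fromSpecResidueField y) (X.fromSpecResidueField (π y))
    (Scheme.Hom.SpecMap_residueFieldMap_fromSpecResidueField π y).symm
  obtain ⟨c, hc⟩ := this
  refine ⟨c, hc.trans ?_⟩
  rw [fromSpecResidueField_appTop]
  exact congr($(Iso.inv_hom_id (Scheme.ΓSpecIso (Y.residueField y))) (Y.Γevaluation y s))


/-- Variant of `exists_lift_of_pointwise` for a universally closed morphism. -/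
theorem exists_lift_of_pointwise' {T X Y : Scheme.{u}} (hT : HTop.IsSeminormal T) (f : X ⟶ Y)
    [UniversallyClosed f] [UniversallyInjective f] (g : T ⟶ Y)
    (hlift : ∀ t : T, ∃ l : Spec (T.residueField t) ⟶ X, l ≫ f = T.fromSpecResidueField t ≫ g) :
    ∃ h : T ⟶ X, h ≫ f = g := by
  have hFL : FieldLift (pullback.snd f g) := by
    intro K _ a
    obtain ⟨l, hl⟩ := hlift (a (IsLocalRing.closedPoint K))
    have ha : Spec.map (Scheme.descResidueField (Scheme.stalkClosedPointTo a)) ≫
        T.fromSpecResidueField _ = a :=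
      Scheme.descResidueField_stalkClosedPointTo_fromSpecResidueField K T a
    refine ⟨pullback.lift (Spec.map (Scheme.descResidueField (Scheme.stalkClosedPointTo a)) ≫ l) a
      (by rw [Category.assoc, hl, ← Category.assoc, ha]), pullback.lift_snd _ _ _⟩
  have hsurj : Surjective (pullback.snd f g) := ⟨fun t => by
    obtain ⟨c, hc⟩ := hFL (T.residueField t) (T.fromSpecResidueField t)
    refine ⟨c (IsLocalRing.closedPoint _), ?_⟩
    have := congr($(hc).base (IsLocalRing.closedPoint (T.residueField t)))
    simpa using this⟩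
  have hUI : UniversallyInjective (pullback.snd f g) :=
    MorphismProperty.pullback_snd (P := @UniversallyInjective) f g inferInstance
  have hUC : UniversallyClosed (pullback.snd f g) :=
    MorphismProperty.pullback_snd (P := @UniversallyClosed) f g inferInstance
  have hUH : FlatMor.IsUnivHomeo (pullback.snd f g) :=
    (isUnivHomeo_iff _).2 ⟨hUC, hUI, hsurj⟩
  have hRI := residueFieldsIso_of_fieldLift (pullback.snd f g) (pullback.snd f g).injective hFL
  have hr1 : FlatMor.IsUnivHomeo (redι (pullback f g) ≫ pullback.snd f g) :=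
    MorphismProperty.comp_mem _ _ _ (isUnivHomeo_redι _) hUH
  have hr2 : HTop.ResidueFieldsIso (redι (pullback f g) ≫ pullback.snd f g) :=
    residueFieldsIso_comp _ _ (residueFieldsIso_redι _) hRI
  have hr : IsIso (redι (pullback f g) ≫ pullback.snd f g) :=
    isIso_of_isSeminormal _ hr1 hr2 hT
  refine ⟨inv (redι (pullback f g) ≫ pullback.snd f g) ≫ redι _ ≫ pullback.fst f g, ?_⟩
  simp only [Category.assoc, pullback.condition]
  rw [← Category.assoc (redι _), IsIso.inv_hom_id_assoc]

section descend

variable {X Y : Scheme.{u}} (π : Y ⟶ X) (s : Γ(Y, ⊤))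

/-- The graph morphism of a function into the affine line over `X`. -/
noncomputable def gr : Y ⟶ AffineSpace PUnit.{u + 1} X := AffineSpace.homOfVector π (fun _ => s)

theorem gr_over : gr π s ≫ (AffineSpace PUnit.{u + 1} X ↘ X) = π :=
  AffineSpace.homOfVector_over _ _

theorem gr_coord : (gr π s).appTop (AffineSpace.coord X PUnit.unit) = s :=
  AffineSpace.homOfVector_appTop_coord _ _ _

/-- The projection from the image of the graph to `X`. -/
noncomputable abbrev zeta : (gr π s).image ⟶ X :=
  (gr π s).imageι ≫ (AffineSpace PUnit.{u + 1} X ↘ X)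

theorem toImage_zeta : (gr π s).toImage ≫ zeta π s = π := by
  simp [zeta, gr_over]

variable [IsProper π]

instance : IsProper (gr π s) := by
  have : IsProper (gr π s ≫ (AffineSpace PUnit.{u + 1} X ↘ X)) := by rw [gr_over]; infer_instance
  exact MorphismProperty.of_postcomp (W := @IsProper) (W' := @IsSeparated) (gr π s)
    (AffineSpace PUnit.{u + 1} X ↘ X) inferInstance this

instance : IsProper (gr π s).toImage := by
  have : IsProper ((gr π s).toImage ≫ (gr π s).imageι) := by
    rw [Scheme.Hom.toImage_imageι]; infer_instance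
  exact MorphismProperty.of_postcomp (W := @IsProper) (W' := @IsSeparated) (gr π s).toImage
    (gr π s).imageι inferInstance this

instance : Surjective (gr π s).toImage := inferInstance

variable [Surjective π]

instance : UniversallyClosed (zeta π s) := by
  have : UniversallyClosed ((gr π s).toImage ≫ zeta π s) := by
    rw [toImage_zeta]; infer_instance
  exact UniversallyClosed.of_comp_surjective (gr π s).toImage (zeta π s)


include s in
theorem universallyInjective_zeta
    (hs : (pullback.fst π π).appTop s = (pullback.snd π π).appTop s) :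
    UniversallyInjective (zeta π s) := by
  rw [UniversallyInjective.iff_diagonal]
  have e₁ : π = (gr π s).toImage ≫ zeta π s := (toImage_zeta π s).symm
  have hm : Surjective (pullback.map π π (zeta π s) (zeta π s) (gr π s).toImage (gr π s).toImage
      (𝟙 X) ((Category.comp_id _).trans e₁) ((Category.comp_id _).trans e₁)) :=
    MorphismProperty.pullbackMap (P := @Surjective) inferInstance inferInstance e₁ e₁
  set m := pullback.map π π (zeta π s) (zeta π s) (gr π s).toImage (gr π s).toImage
      (𝟙 X) ((Category.comp_id _).trans e₁) ((Category.comp_id _).trans e₁) with hm_def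
  have h1 : m ≫ pullback.fst _ _ = pullback.fst π π ≫ (gr π s).toImage := pullback.lift_fst _ _ _
  have h2 : m ≫ pullback.snd _ _ = pullback.snd π π ≫ (gr π s).toImage := pullback.lift_snd _ _ _
  have hq : pullback.fst π π ≫ gr π s = pullback.snd π π ≫ gr π s := by
    apply AffineSpace.hom_ext
    · simp only [Category.assoc, gr_over, pullback.condition]
    · intro i
      cases i
      rw [Scheme.Hom.comp_appTop, Scheme.Hom.comp_appTop, CommRingCat.comp_apply,
        CommRingCat.comp_apply, gr_coord, hs]
  have h12 : m ≫ pullback.fst (zeta π s) (zeta π s) = m ≫ pullback.snd (zeta π s) (zeta π s) := by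
    rw [← cancel_mono (gr π s).imageι, Category.assoc, Category.assoc, reassoc_of% h1,
      reassoc_of% h2]
    simpa using hq
  have hfac : m = (m ≫ pullback.fst (zeta π s) (zeta π s)) ≫ pullback.diagonal (zeta π s) := by
    apply pullback.hom_ext
    · simp
    · simp [h12]
  refine ⟨fun w => ?_⟩
  obtain ⟨v, rfl⟩ := hm.surj w
  refine ⟨(m ≫ pullback.fst (zeta π s) (zeta π s)) v, ?_⟩
  conv_rhs => rw [hfac]
  rfl


include s in
theorem exists_pointLift
    (hs : (pullback.fst π π).appTop s = (pullback.snd π π).appTop s) (x : X) :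
    ∃ l : Spec (X.residueField x) ⟶ (gr π s).image,
      l ≫ zeta π s = X.fromSpecResidueField x ≫ 𝟙 X := by
  obtain ⟨y, rfl⟩ := π.surjective x
  obtain ⟨c, hc⟩ := Γevaluation_mem_range π s hs y
  let l₀ : Spec (X.residueField (π y)) ⟶ AffineSpace PUnit.{u + 1} X :=
    AffineSpace.homOfVector (X.fromSpecResidueField (π y))
      (fun _ => (Scheme.ΓSpecIso (X.residueField (π y))).inv c)
  have hl₀ : Spec.map (π.residueFieldMap y) ≫ l₀ = Y.fromSpecResidueField y ≫ gr π s := by
    apply AffineSpace.hom_ext
    · simp only [l₀, Category.assoc, AffineSpace.homOfVector_over, gr_over,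
        Scheme.Hom.SpecMap_residueFieldMap_fromSpecResidueField]
    · intro i
      cases i
      rw [Scheme.Hom.comp_appTop, Scheme.Hom.comp_appTop, CommRingCat.comp_apply,
        CommRingCat.comp_apply, gr_coord, AffineSpace.homOfVector_appTop_coord,
        fromSpecResidueField_appTop, CommRingCat.comp_apply, ← hc]
      exact (congr($(Scheme.ΓSpecIso_inv_naturality (π.residueFieldMap y)) c)).symm
  -- factor `l₀` through the image
  have hcond : Spec.map (π.residueFieldMap y) ≫ l₀ =
      (Y.fromSpecResidueField y ≫ (gr π s).toImage) ≫ (gr π s).imageι := by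
    rw [hl₀, Category.assoc, Scheme.Hom.toImage_imageι]
  let σ : Spec (Y.residueField y) ⟶ pullback l₀ (gr π s).imageι :=
    pullback.lift (Spec.map (π.residueFieldMap y)) (Y.fromSpecResidueField y ≫ (gr π s).toImage) hcond
  have hsurj : Surjective (pullback.fst l₀ (gr π s).imageι) := by
    refine ⟨fun z => ⟨σ (IsLocalRing.closedPoint _), ?_⟩⟩
    exact Subsingleton.elim _ _
  have : IsIso (pullback.fst l₀ (gr π s).imageι) := isIso_of_isClosedImmersion_of_surjective _
  refine ⟨inv (pullback.fst l₀ (gr π s).imageι) ≫ pullback.snd l₀ (gr π s).imageι, ?_⟩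
  rw [Category.assoc, ← Category.assoc (pullback.snd _ _), ← pullback.condition, Category.assoc,
    IsIso.inv_hom_id_assoc, Category.comp_id]
  exact AffineSpace.homOfVector_over _ _


omit [IsProper π] in
theorem appTop_injective_of_surjective [IsReduced X] (t t' : Γ(X, ⊤))
    (h : π.appTop t = π.appTop t') : t = t' := by
  rw [← sub_eq_zero]
  apply eq_zero_of_basicOpen_eq_bot
  rw [eq_bot_iff]
  intro x hx
  obtain ⟨y, rfl⟩ := π.surjective x
  have hy : y ∈ π ⁻¹ᵁ X.basicOpen (t - t') := hx
  rw [Scheme.preimage_basicOpen_top, map_sub, h, sub_self, Scheme.basicOpen_zero] at hy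
  exact hy

include s in
theorem existsUnique_descend [IsReduced Y] (hX : HTop.IsSeminormal X)
    (hs : (pullback.fst π π).appTop s = (pullback.snd π π).appTop s) :
    ∃! t : Γ(X, ⊤), π.appTop t = s := by
  have hXred : IsReduced X := isReduced_of_isSeminormal hX
  have hUI := universallyInjective_zeta π s hs
  obtain ⟨h, hh⟩ := exists_lift_of_pointwise' hX (zeta π s) (𝟙 X) (exists_pointLift π s hs)
  have hπh : π ≫ h = (gr π s).toImage := by
    apply eq_of_comp_eq_of_universallyInjective (zeta π s)
    rw [Category.assoc, hh, Category.comp_id, toImage_zeta]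
  refine ⟨(h ≫ (gr π s).imageι).appTop (AffineSpace.coord X PUnit.unit), ?_, ?_⟩
  · change π.appTop ((h ≫ (gr π s).imageι).appTop (AffineSpace.coord X PUnit.unit)) = s
    rw [← CommRingCat.comp_apply, ← Scheme.Hom.comp_appTop, ← Category.assoc, hπh,
      Scheme.Hom.toImage_imageι, gr_coord]
  · intro t' ht'
    apply appTop_injective_of_surjective π
    rw [ht', ← CommRingCat.comp_apply, ← Scheme.Hom.comp_appTop, ← Category.assoc, hπh,
      Scheme.Hom.toImage_imageι, gr_coord]

end descend

end Groth.Agent.Lib.Helper9.SN
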