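import Mathlib
import Groth.Agent.Lib.Helper9.SN3

set_option autoImplicit false
set_option linter.style.haveILetI false
universe u
open CategoryTheory AlgebraicGeometry Limits TensorProduct

namespace Groth.Agent.Lib.Helper9.SN

open Groth.Agent.Lib.Helper9.UnivHomeoRing

section descend'

variable {X Y : Scheme.{u}} (π : Y ⟶ X) (s : Γ(Y, ⊤)) [IsProper π] [Surjective π]

include s in
theorem universallyInjective_zeta'
    (hs : (redι (pullback π π) ≫ pullback.fst π π).appTop s =
      (redι (pullback π π) ≫ pullback.snd π π).appTop s) :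
    UniversallyInjective (zeta π s) := by
  rw [UniversallyInjective.iff_diagonal]
  have e₁ : π = (gr π s).toImage ≫ zeta π s := (toImage_zeta π s).symm
  have hm₀ : Surjective (pullback.map π π (zeta π s) (zeta π s) (gr π s).toImage (gr π s).toImage
      (𝟙 X) ((Category.comp_id _).trans e₁) ((Category.comp_id _).trans e₁)) :=
    MorphismProperty.pullbackMap (P := @Surjective) inferInstance inferInstance e₁ e₁
  set m₀ := pullback.map π π (zeta π s) (zeta π s) (gr π s).toImage (gr π s).toImage
      (𝟙 X) ((Category.comp_id _).trans e₁) ((Category.comp_id _).trans e₁) with hm_def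
  obtain ⟨m, hmm⟩ : ∃ m, m = redι (pullback π π) ≫ m₀ := ⟨_, rfl⟩
  have hm : Surjective m := by rw [hmm]; infer_instance
  have h1 : m ≫ pullback.fst _ _ = (redι (pullback π π) ≫ pullback.fst π π) ≫ (gr π s).toImage := by
    rw [hmm, Category.assoc, Category.assoc]; congr 1; exact pullback.lift_fst _ _ _
  have h2 : m ≫ pullback.snd _ _ = (redι (pullback π π) ≫ pullback.snd π π) ≫ (gr π s).toImage := by
    rw [hmm, Category.assoc, Category.assoc]; congr 1; exact pullback.lift_snd _ _ _
  have hq : (redι (pullback π π) ≫ pullback.fst π π) ≫ gr π s =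
      (redι (pullback π π) ≫ pullback.snd π π) ≫ gr π s := by
    apply AffineSpace.hom_ext
    · simp only [Category.assoc, gr_over, pullback.condition]
    · intro i
      cases i
      have key : ∀ p : red (pullback π π) ⟶ Y,
          (p ≫ gr π s).appTop (AffineSpace.coord X PUnit.unit) = p.appTop s := by
        intro p
        rw [Scheme.Hom.comp_appTop, CommRingCat.comp_apply, gr_coord]
      rw [key, key, hs]
  have h12 : m ≫ pullback.fst (zeta π s) (zeta π s) = m ≫ pullback.snd (zeta π s) (zeta π s) := by
    rw [← cancel_mono (gr π s).imageι, Category.assoc, Category.assoc, reassoc_of% h1,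
      reassoc_of% h2]
    simpa using hq
  have hfac : m = (m ≫ pullback.fst (zeta π s) (zeta π s)) ≫ pullback.diagonal (zeta π s) := by
    apply pullback.hom_ext
    · simp
    · simp [h12]
  refine ⟨fun w => ?_⟩
  obtain ⟨v, rfl⟩ := hm.surj w
  refine ⟨(m ≫ pullback.fst (zeta π s) (zeta π s)) v, ?_⟩
  conv_rhs => rw [hfac]
  rfl

include s in
theorem exists_pointLift'
    (hpt : ∀ y : Y, ∃ c : X.residueField (π y), π.residueFieldMap y c = Y.Γevaluation y s) (x : X) :
    ∃ l : Spec (X.residueField x) ⟶ (gr π s).image,
      l ≫ zeta π s = X.fromSpecResidueField x ≫ 𝟙 X := by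
  obtain ⟨y, rfl⟩ := π.surjective x
  obtain ⟨c, hc⟩ := hpt y
  let l₀ : Spec (X.residueField (π y)) ⟶ AffineSpace PUnit.{u + 1} X :=
    AffineSpace.homOfVector (X.fromSpecResidueField (π y))
      (fun _ => (Scheme.ΓSpecIso (X.residueField (π y))).inv c)
  have hl₀ : Spec.map (π.residueFieldMap y) ≫ l₀ = Y.fromSpecResidueField y ≫ gr π s := by
    apply AffineSpace.hom_ext
    · simp only [l₀, Category.assoc, AffineSpace.homOfVector_over, gr_over,
        Scheme.Hom.SpecMap_residueFieldMap_fromSpecResidueField]
    · intro i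
      cases i
      rw [Scheme.Hom.comp_appTop, Scheme.Hom.comp_appTop, CommRingCat.comp_apply,
        CommRingCat.comp_apply, gr_coord, AffineSpace.homOfVector_appTop_coord,
        fromSpecResidueField_appTop, CommRingCat.comp_apply, ← hc]
      exact (congr($(Scheme.ΓSpecIso_inv_naturality (π.residueFieldMap y)) c)).symm
  have hcond : Spec.map (π.residueFieldMap y) ≫ l₀ =
      (Y.fromSpecResidueField y ≫ (gr π s).toImage) ≫ (gr π s).imageι := by
    rw [hl₀, Category.assoc, Scheme.Hom.toImage_imageι]
  let σ : Spec (Y.residueField y) ⟶ pullback l₀ (gr π s).imageι :=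
    pullback.lift (Spec.map (π.residueFieldMap y)) (Y.fromSpecResidueField y ≫ (gr π s).toImage) hcond
  have hsurj : Surjective (pullback.fst l₀ (gr π s).imageι) := by
    refine ⟨fun z => ⟨σ (IsLocalRing.closedPoint _), ?_⟩⟩
    exact Subsingleton.elim _ _
  have : IsIso (pullback.fst l₀ (gr π s).imageι) := isIso_of_isClosedImmersion_of_surjective _
  refine ⟨inv (pullback.fst l₀ (gr π s).imageι) ≫ pullback.snd l₀ (gr π s).imageι, ?_⟩
  rw [Category.assoc, ← Category.assoc (pullback.snd _ _), ← pullback.condition, Category.assoc,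
    IsIso.inv_hom_id_assoc, Category.comp_id]
  exact AffineSpace.homOfVector_over _ _

include s in
/-- descent of a section along a proper surjective morphism to a seminormal scheme, from pointwise
hypotheses -/
theorem existsUnique_descend' [IsReduced Y] (hX : HTop.IsSeminormal X)
    (hpt : ∀ y : Y, ∃ c : X.residueField (π y), π.residueFieldMap y c = Y.Γevaluation y s)
    (hs : (redι (pullback π π) ≫ pullback.fst π π).appTop s =
      (redι (pullback π π) ≫ pullback.snd π π).appTop s) :
    ∃! t : Γ(X, ⊤), π.appTop t = s := by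
  have hXred : IsReduced X := isReduced_of_isSeminormal hX
  have hUI := universallyInjective_zeta' π s hs
  obtain ⟨h, hh⟩ := exists_lift_of_pointwise' hX (zeta π s) (𝟙 X) (exists_pointLift' π s hpt)
  have hπh : π ≫ h = (gr π s).toImage := by
    apply eq_of_comp_eq_of_universallyInjective (zeta π s)
    rw [Category.assoc, hh, Category.comp_id, toImage_zeta]
  refine ⟨(h ≫ (gr π s).imageι).appTop (AffineSpace.coord X PUnit.unit), ?_, ?_⟩
  · change π.appTop ((h ≫ (gr π s).imageι).appTop (AffineSpace.coord X PUnit.unit)) = s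
    rw [← CommRingCat.comp_apply, ← Scheme.Hom.comp_appTop, ← Category.assoc, hπh,
      Scheme.Hom.toImage_imageι, gr_coord]
  · intro t' ht'
    apply appTop_injective_of_surjective π
    rw [ht', ← CommRingCat.comp_apply, ← Scheme.Hom.comp_appTop, ← Category.assoc, hπh,
      Scheme.Hom.toImage_imageι, gr_coord]

end descend'

end Groth.Agent.Lib.Helper9.SN
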