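import Mathlib
import Groth.Prelude.Def_W4c1hilbchowincPtFun
import Groth.Prelude.Def_HTop2
import Groth.Agent.Lib.Helper9.PtFunNormal5
import Groth.Agent.Lib.Helper9.PtFunComplete1
import Groth.Agent.Lib.Helper9.PtFunComplete2
import Groth.Agent.Lib.Helper9.SN4
import Groth.Agent.Lib.Helper9.SNLocal

set_option linter.style.haveILetI false
set_option linter.unusedSectionVars false

universe u

namespace Groth.Agent.Lib.Helper9.PtFunComplete

open CategoryTheory AlgebraicGeometry Limits W4c1hilbchowinc Groth.Agent.Lib.Helper9.PtFunNormal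
open Groth.Agent.Lib.Helper9.SN

/-- on a reduced scheme, a global section is determined by its values -/
theorem eq_of_ofSection_eq {W : Scheme.{u}} [IsReduced W] (a b : Γ(W, ⊤))
    (h : PtFun.ofSection W a = PtFun.ofSection W b) : a = b := by
  rw [← sub_eq_zero]
  apply eq_zero_of_basicOpen_eq_bot
  rw [eq_bot_iff]
  intro x hx
  have h1 : W.Γevaluation x (a - b) = 0 := by
    rw [map_sub, sub_eq_zero]; exact congrFun h x
  exact ((W.evaluation_eq_zero_iff_notMem_basicOpen x (Set.mem_univ x) (a - b)).mp h1) hx

theorem isSeminormal_spec (A : Type u) [CommRing A] (hA : HTop.IsSeminormalRing A) :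
    HTop.IsSeminormal (Spec (CommRingCat.of A)) := by
  intro x
  have hU : (⊤ : (Spec (CommRingCat.of A)).Opens) ∈ (Spec (CommRingCat.of A)).affineOpens :=
    isAffineOpen_top _
  refine ⟨⟨⊤, hU⟩, trivial, ?_⟩
  exact Groth.Agent.Lib.Helper9.SNLocal.isSeminormalRing_of_ringEquiv
    (Scheme.ΓSpecIso (CommRingCat.of A)).symm.commRingCatIsoToRingEquiv hA

theorem main (A : Type u) [CommRing A] [IsNoetherianRing A] (hA : HTop.IsSeminormalRing A)
    (hfin : Module.Finite A (integralClosure A (FractionRing A)))
    (f : PtFun (Spec (CommRingCat.of A))) (hf : f.VariesAlongCompleteDVR) :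
    ∃! a : Γ(Spec (CommRingCat.of A), ⊤), PtFun.ofSection (Spec (CommRingCat.of A)) a = f := by
  haveI hred : IsReduced A := Groth.Agent.Lib.Helper9.SNLocal.isReduced_of_isSeminormalRing hA
  haveI : IsReduced (integralClosure A (FractionRing A)) := isReduced_integralClosure A
  haveI : IsNoetherianRing (integralClosure A (FractionRing A)) :=
    isNoetherianRing_integralClosure A hfin
  haveI : IsIntegrallyClosed (integralClosure A (FractionRing A)) :=
    isIntegrallyClosed_integralClosure A
  have hfD : f.VariesAlongDVR := variesAlongDVR_of_complete f hf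
  have hfB : (f.pullback (nu A)).VariesAlongDVR := by
    intro R _ _ _ g
    rw [← pullback_comp]
    exact hfD R (g ≫ nu A)
  obtain ⟨b, hb, -⟩ := PtFunNormal.main (f.pullback (nu A)) hfB
  haveI : IsFinite (nu A) := nu_isFinite A hfin
  haveI : Surjective (nu A) := nu_surjective A
  haveI : IsReduced (Spec (CommRingCat.of (integralClosure A (FractionRing A)))) := inferInstance
  have hpt : ∀ y, ∃ c : (Spec (CommRingCat.of A)).residueField (nu A y),
      (nu A).residueFieldMap y c = (Spec _).Γevaluation y b :=
    fun y => ⟨f (nu A y), (congrFun hb y).symm⟩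
  have hs : (redι (pullback (nu A) (nu A)) ≫ pullback.fst (nu A) (nu A)).appTop b =
      (redι (pullback (nu A) (nu A)) ≫ pullback.snd (nu A) (nu A)).appTop b := by
    apply eq_of_ofSection_eq
    rw [ofSection_appTop, ofSection_appTop, hb, ← pullback_comp, ← pullback_comp]
    congr 1
    simp only [Category.assoc, pullback.condition]
  obtain ⟨t, ht, -⟩ := existsUnique_descend' (nu A) b (isSeminormal_spec A hA) hpt hs
  have hval : PtFun.ofSection (Spec (CommRingCat.of A)) t = f := by
    funext P
    obtain ⟨Q', rfl⟩ := (nu A).surjective P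
    have h1 : (nu A).residueFieldMap Q' ((Spec (CommRingCat.of A)).Γevaluation (nu A Q') t) =
        (nu A).residueFieldMap Q' (f (nu A Q')) := by
      rw [Scheme.Γevaluation_naturality_apply, ht]
      exact congrFun hb Q'
    exact ((nu A).residueFieldMap Q').hom.injective h1
  refine ⟨t, hval, fun t' ht' => ?_⟩
  haveI : IsReduced (Spec (CommRingCat.of A)) := inferInstance
  exact eq_of_ofSection_eq t' t (ht'.trans hval.symm)

end Groth.Agent.Lib.Helper9.PtFunComplete
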