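import Mathlib
import Groth.Prelude.Def_W4c1hilbchowincPtFun
import Groth.Prelude.Def_HTop2
import Groth.Agent.Lib.Helper9.PtFunNormal2

set_option linter.style.haveILetI false
set_option linter.unusedSectionVars false

universe u

namespace Groth.Agent.Lib.Helper9.PtFunSN

open CategoryTheory AlgebraicGeometry W4c1hilbchowinc Groth.Agent.Lib.Helper9.PtFunNormal

theorem field_aux {K : Type*} [Field K] (x y : K) (h : x ^ 3 = y ^ 2) :
    (y / x) ^ 2 = x ∧ (y / x) ^ 3 = y := by
  by_cases hx : x = 0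
  · subst hx
    have hy : y = 0 := by
      have : y ^ 2 = 0 := by rw [← h]; ring
      exact pow_eq_zero_iff (two_ne_zero) |>.mp this
    subst hy
    simp
  · constructor
    · rw [div_pow, ← h]; field_simp
    · rw [div_pow, div_eq_iff (pow_ne_zero 3 hx), h]; ring

theorem field_uniq {K : Type*} [Field K] (u v : K) (h2 : u ^ 2 = v ^ 2) (h3 : u ^ 3 = v ^ 3) :
    u = v := by
  by_cases hv : v = 0
  · subst hv
    have : u ^ 2 = 0 := by rw [h2]; ring
    exact pow_eq_zero_iff (two_ne_zero) |>.mp this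
  · have hu : u ≠ 0 := by
      intro hu; subst hu
      apply hv
      have : v ^ 2 = 0 := by rw [← h2]; ring
      exact pow_eq_zero_iff (two_ne_zero) |>.mp this
    have h4 : u * u ^ 2 = v * u ^ 2 := by
      calc u * u ^ 2 = u ^ 3 := by ring
        _ = v ^ 3 := h3
        _ = v * v ^ 2 := by ring
        _ = v * u ^ 2 := by rw [h2]
    exact mul_right_cancel₀ (pow_ne_zero 2 hu) h4

/-- in an integrally closed domain, `x^3 = y^2` has a solution `r^2 = x`, `r^3 = y` -/
theorem exists_root {R : Type*} [CommRing R] [IsDomain R] [IsIntegrallyClosed R] (x y : R)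
    (h : x ^ 3 = y ^ 2) : ∃ r : R, r ^ 2 = x ∧ r ^ 3 = y := by
  have hK : (algebraMap R (FractionRing R) x) ^ 3 = (algebraMap R (FractionRing R) y) ^ 2 := by
    rw [← map_pow, ← map_pow, h]
  obtain ⟨h2, h3⟩ := field_aux _ _ hK
  have hint : IsIntegral R ((algebraMap R (FractionRing R) y / algebraMap R (FractionRing R) x) ^ 2) := by
    rw [h2]; exact isIntegral_algebraMap
  obtain ⟨r, hr⟩ := IsIntegrallyClosed.exists_algebraMap_eq_of_isIntegral_pow (by norm_num) hint
  refine ⟨r, ?_, ?_⟩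
  · apply IsFractionRing.injective R (FractionRing R)
    rw [map_pow, hr, h2]
  · apply IsFractionRing.injective R (FractionRing R)
    rw [map_pow, hr, h3]

section main

variable {A : Type u} [CommRing A]

/-- the pointwise function `y / x` -/
noncomputable def quot (x y : A) : PtFun (Spec (CommRingCat.of A)) :=
  fun P => ev P y / ev P x

theorem quot_sq (x y : A) (h : x ^ 3 = y ^ 2) (P : Spec (CommRingCat.of A)) :
    quot x y P ^ 2 = ev P x ∧ quot x y P ^ 3 = ev P y :=
  field_aux _ _ (by rw [← map_pow, ← map_pow, h])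

theorem quot_variesAlongDVR (x y : A) (h : x ^ 3 = y ^ 2) : (quot x y).VariesAlongDVR := by
  intro R _ _ _ g
  obtain ⟨x', hx'⟩ : ∃ x' : R, (Scheme.ΓSpecIso (CommRingCat.of R)).inv x' =
      g.appTop ((Scheme.ΓSpecIso (CommRingCat.of A)).inv x) :=
    ⟨(Scheme.ΓSpecIso (CommRingCat.of R)).hom _,
      Iso.hom_inv_id_apply (Scheme.ΓSpecIso (CommRingCat.of R)) _⟩
  obtain ⟨y', hy'⟩ : ∃ y' : R, (Scheme.ΓSpecIso (CommRingCat.of R)).inv y' =
      g.appTop ((Scheme.ΓSpecIso (CommRingCat.of A)).inv y) :=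
    ⟨(Scheme.ΓSpecIso (CommRingCat.of R)).hom _,
      Iso.hom_inv_id_apply (Scheme.ΓSpecIso (CommRingCat.of R)) _⟩
  have hxy' : x' ^ 3 = y' ^ 2 := by
    have hinj : Function.Injective (Scheme.ΓSpecIso (CommRingCat.of R)).inv.hom :=
      (Scheme.ΓSpecIso (CommRingCat.of R)).symm.commRingCatIsoToRingEquiv.injective
    apply hinj
    change (Scheme.ΓSpecIso (CommRingCat.of R)).inv (x' ^ 3) =
      (Scheme.ΓSpecIso (CommRingCat.of R)).inv (y' ^ 2)
    rw [map_pow, map_pow, hx', hy', ← map_pow, ← map_pow, ← map_pow, ← map_pow, h]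
  obtain ⟨r, hr2, hr3⟩ := exists_root x' y' hxy'
  refine ⟨(Scheme.ΓSpecIso (CommRingCat.of R)).inv r, funext fun z => ?_⟩
  change (Spec (CommRingCat.of R)).Γevaluation z ((Scheme.ΓSpecIso (CommRingCat.of R)).inv r) =
    g.residueFieldMap z (quot x y (g z))
  have hq := quot_sq x y h (g z)
  apply field_uniq
  · rw [← map_pow, ← map_pow, ← map_pow, hr2, hx', hq.1, ev_apply,
      Scheme.Γevaluation_naturality_apply]
  · rw [← map_pow, ← map_pow, ← map_pow, hr3, hy', hq.2, ev_apply,
      Scheme.Γevaluation_naturality_apply]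

theorem eq_zero_of_forall_ev [IsReduced A] (z : A) (hz : ∀ P : Spec (CommRingCat.of A), ev P z = 0) :
    z = 0 := by
  apply IsReduced.eq_zero
  rw [nilpotent_iff_mem_prime]
  intro J hJ
  exact (ev_eq_zero_iff (⟨J, hJ⟩ : PrimeSpectrum A) z).mp (hz _)

theorem main [IsReduced A]
    (h : ∀ f : PtFun (Spec (CommRingCat.of A)), f.VariesAlongDVR →
      ∃! a : Γ(Spec (CommRingCat.of A), ⊤), PtFun.ofSection (Spec (CommRingCat.of A)) a = f)
    (x y : A) (hxy : x ^ 3 = y ^ 2) : ∃! a : A, x = a ^ 2 ∧ y = a ^ 3 := by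
  obtain ⟨a₀, ha₀, huniq⟩ := h (quot x y) (quot_variesAlongDVR x y hxy)
  obtain ⟨a, ha⟩ : ∃ a : A, (Scheme.ΓSpecIso (CommRingCat.of A)).inv a = a₀ :=
    ⟨(Scheme.ΓSpecIso (CommRingCat.of A)).hom _,
      Iso.hom_inv_id_apply (Scheme.ΓSpecIso (CommRingCat.of A)) _⟩
  have hev : ∀ P : Spec (CommRingCat.of A), ev P a = quot x y P := by
    intro P
    rw [ev_apply, ha]
    exact congrFun ha₀ P
  refine ⟨a, ⟨?_, ?_⟩, ?_⟩
  · have := eq_zero_of_forall_ev (x - a ^ 2) (fun P => by
      rw [map_sub, map_pow, hev, (quot_sq x y hxy P).1, sub_self])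
    exact sub_eq_zero.mp this
  · have := eq_zero_of_forall_ev (y - a ^ 3) (fun P => by
      rw [map_sub, map_pow, hev, (quot_sq x y hxy P).2, sub_self])
    exact sub_eq_zero.mp this
  · rintro a' ⟨h2, h3⟩
    have hev' : ∀ P : Spec (CommRingCat.of A), ev P a' = quot x y P := by
      intro P
      apply field_uniq
      · rw [← map_pow, ← h2, (quot_sq x y hxy P).1]
      · rw [← map_pow, ← h3, (quot_sq x y hxy P).2]
    have h4 := huniq ((Scheme.ΓSpecIso (CommRingCat.of A)).inv a') (funext fun P => hev' P)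
    have hinj : Function.Injective (Scheme.ΓSpecIso (CommRingCat.of A)).inv.hom :=
      (Scheme.ΓSpecIso (CommRingCat.of A)).symm.commRingCatIsoToRingEquiv.injective
    exact hinj (h4.trans ha.symm)

end main

end Groth.Agent.Lib.Helper9.PtFunSN
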