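import Mathlib
import Groth.Prelude.Def_FEt
import Groth.Agent.Lib.Helper9.FEtFaithful
set_option backward.isDefEq.respectTransparency false
set_option maxHeartbeats 800000
set_option autoImplicit false
set_option linter.unusedSectionVars false
set_option linter.unusedVariables false
universe u
open CategoryTheory CategoryTheory.Limits AlgebraicGeometry Opposite TopologicalSpace

namespace Groth.Agent.Lib.Helper9.PunctFaith

/-- Krull: in a Noetherian local ring, over a prime `p` with `dim A/p ≥ 2` and `f ∈ m \ p` there is a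
non-maximal prime containing `p` and `f`. -/
theorem exists_prime_of_dim (A : Type u) [CommRing A] [IsNoetherianRing A] [IsLocalRing A] (f : A)
    (hf : f ∈ IsLocalRing.maximalIdeal A) (p : Ideal A) [hp : p.IsPrime] (hfp : f ∉ p)
    (hdim : (2 : WithBot ℕ∞) ≤ ringKrullDim (A ⧸ p)) :
    ∃ q : Ideal A, q.IsPrime ∧ p ≤ q ∧ f ∈ q ∧ q ≠ IsLocalRing.maximalIdeal A := by
  let mk := Ideal.Quotient.mk p
  have hmks : Function.Surjective mk := Ideal.Quotient.mk_surjective
  haveI : Nontrivial (A ⧸ p) := Ideal.Quotient.nontrivial_iff.mpr hp.ne_top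
  haveI : IsLocalRing (A ⧸ p) := IsLocalRing.of_surjective' mk hmks
  have hfbar : mk f ∈ IsLocalRing.maximalIdeal (A ⧸ p) := by
    rw [IsLocalRing.mem_maximalIdeal, mem_nonunits_iff]
    intro hu
    have : IsUnit f := by
      by_contra hnu
      have hmem : f ∈ IsLocalRing.maximalIdeal A := hf
      -- units lift along local surjections
      have hloc : IsLocalHom mk := IsLocalHom.of_surjective mk hmks
      exact hnu (hloc.map_nonunit f hu)
    exact (IsLocalRing.mem_maximalIdeal f).1 hf this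
  have hne : Ideal.span {mk f} ≠ ⊤ := by
    intro h
    have : Ideal.span {mk f} ≤ IsLocalRing.maximalIdeal (A ⧸ p) :=
      (Ideal.span_singleton_le_iff_mem _).2 hfbar
    rw [h] at this
    exact (IsLocalRing.maximalIdeal.isMaximal (A ⧸ p)).ne_top (top_le_iff.1 this)
  obtain ⟨qb, hqb⟩ := Ideal.nonempty_minimalPrimes hne
  haveI hqbp : qb.IsPrime := hqb.1.1
  have hht : qb.height ≤ 1 := Ideal.height_le_one_of_isPrincipal_of_mem_minimalPrimes _ _ hqb
  have hqbne : qb ≠ IsLocalRing.maximalIdeal (A ⧸ p) := by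
    intro h
    have h1 : (IsLocalRing.maximalIdeal (A ⧸ p)).height = ringKrullDim (A ⧸ p) :=
      IsLocalRing.maximalIdeal_height_eq_ringKrullDim
    rw [← h] at h1
    have h2 : (2 : WithBot ℕ∞) ≤ (qb.height : WithBot ℕ∞) := by rw [h1]; exact hdim
    have h3 : (2 : ℕ∞) ≤ qb.height := WithBot.coe_le_coe.mp h2
    have h4 := h3.trans hht
    exact absurd h4 (by decide)
  refine ⟨qb.comap mk, inferInstance, ?_, ?_, ?_⟩
  · intro a ha
    rw [Ideal.mem_comap]
    have : mk a = 0 := Ideal.Quotient.eq_zero_iff_mem.2 ha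
    rw [this]; exact zero_mem _
  · rw [Ideal.mem_comap]
    exact hqb.1.2 (Ideal.subset_span rfl)
  · intro h
    apply hqbne
    apply le_antisymm (IsLocalRing.le_maximalIdeal hqbp.ne_top)
    intro x hx
    obtain ⟨a, rfl⟩ := hmks x
    have ha : a ∈ IsLocalRing.maximalIdeal A := by
      rw [IsLocalRing.mem_maximalIdeal, mem_nonunits_iff]
      intro hu
      exact (IsLocalRing.mem_maximalIdeal _).1 hx (hu.map mk)
    rw [← h, Ideal.mem_comap] at ha
    exact ha


open CategoryTheory.Limits in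
theorem main (A : Type u) [CommRing A] [IsNoetherianRing A] [IsLocalRing A] (f : A) (hf : f ∈ IsLocalRing.maximalIdeal A)
    (U' : (Spec (CommRingCat.of A)).Opens) (hU' : U' ≤ FEt.puncturedSpec A)
    (u' : pullback (FEt.puncturedSpec A).ι (Spec.map (CommRingCat.ofHom (Ideal.Quotient.mk (Ideal.span {f})))) ⟶ (U' : Scheme.{u})) (hu' : u' ≫ U'.ι = (pullback.fst (FEt.puncturedSpec A).ι (Spec.map (CommRingCat.ofHom (Ideal.Quotient.mk (Ideal.span {f})))) ≫ (FEt.puncturedSpec A).ι))
    (hdim : ∀ p : PrimeSpectrum A, p.asIdeal ∈ minimalPrimes A → p ∈ U' → f ∉ p.asIdeal →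
      (2 : WithBot ℕ∞) ≤ ringKrullDim (A ⧸ p.asIdeal)) :
    (FEt.restrict u').Faithful := by
  apply FEtFaithful.faithful_restrict_of
  intro Acov E hE hsub
  by_contra hne
  obtain ⟨a₀, ha₀⟩ : ∃ a, a ∉ E := by
    by_contra h
    push Not at h
    exact hne (Set.eq_univ_of_forall h)
  haveI : IsFinite Acov.hom := Acov.prop.1
  haveI : Etale Acov.hom := Acov.prop.2
  set D : Set ↥(U' : Scheme.{u}) := Acov.hom.base '' Eᶜ with hD
  have hDo : IsOpen D := Acov.hom.isOpenMap _ hE.compl.isOpen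
  have hDc : IsClosed D := Acov.hom.isClosedMap _ hE.compl.isClosed
  have hDr : ∀ y ∈ D, y ∉ Set.range u'.base := by
    rintro _ ⟨a, ha, rfl⟩ hy
    exact ha (hsub hy)
  -- points of `V(f)` away from the closed point come from `u'`
  have hrange : ∀ Q : PrimeSpectrum A, f ∈ Q.asIdeal → Q ≠ IsLocalRing.closedPoint A →
      ∃ z, U'.ι.base (u'.base z) = Q := by
    intro Q hfQ hQ
    let j := (FEt.puncturedSpec A).ι
    let s := Spec.map (CommRingCat.ofHom (Ideal.Quotient.mk (Ideal.span {f})))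
    have h1 : (Q : ↥(Spec (CommRingCat.of A))) ∈ Set.range j.base := by
      rw [Scheme.Opens.range_ι]
      exact hQ
    have h2 : (Q : ↥(Spec (CommRingCat.of A))) ∈ Set.range s.base := by
      have : Set.range s.base = PrimeSpectrum.zeroLocus (RingHom.ker (Ideal.Quotient.mk (Ideal.span {f}))) :=
        _root_.range_comap_of_surjective _ _ Ideal.Quotient.mk_surjective
      rw [this, Ideal.mk_ker]
      intro x hx
      rw [SetLike.mem_coe, Ideal.mem_span_singleton'] at hx
      obtain ⟨c, rfl⟩ := hx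
      exact Ideal.mul_mem_left _ _ hfQ
    obtain ⟨x, hx⟩ := h1
    obtain ⟨y, hy⟩ := h2
    obtain ⟨z, hz1, hz2⟩ := Scheme.Pullback.exists_preimage_pullback x y (hx.trans hy.symm)
    refine ⟨z, ?_⟩
    rw [← Scheme.Hom.comp_apply, hu', Scheme.Hom.comp_apply, hz1, hx]
  -- the point
  set x : ↥(U' : Scheme.{u}) := Acov.hom.base a₀ with hx
  have hxD : x ∈ D := ⟨a₀, ha₀, rfl⟩
  let P : PrimeSpectrum A := U'.ι.base x
  obtain ⟨p, hpmin, hpP⟩ := Ideal.exists_minimalPrimes_le (bot_le : (⊥ : Ideal A) ≤ P.asIdeal)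
  haveI hpp : p.IsPrime := hpmin.1.1
  let pp : PrimeSpectrum A := ⟨p, hpp⟩
  have hsp : pp ⤳ P := (PrimeSpectrum.le_iff_specializes pp P).1 hpP
  have hPU : P ∈ U' := x.2
  have hppU : pp ∈ U' := hsp.mem_open U'.2 hPU
  let p' : ↥(U' : Scheme.{u}) := ⟨pp, hppU⟩
  have hsp' : p' ⤳ x := (subtype_specializes_iff (p := fun y => y ∈ U') p' x).2 hsp
  have hp'D : p' ∈ D := hsp'.mem_open hDo hxD
  by_cases hfp : f ∈ p
  · have hne' : pp ≠ IsLocalRing.closedPoint A := hU' hppU
    obtain ⟨z, hz⟩ := hrange pp hfp hne'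
    have : u'.base z = p' := U'.ι.injective (by rw [hz]; rfl)
    exact hDr p' hp'D ⟨z, this⟩
  · have hd := hdim pp hpmin hppU hfp
    obtain ⟨q, hqp, hpq, hfq, hqm⟩ := exists_prime_of_dim A f hf p hfp hd
    let qq : PrimeSpectrum A := ⟨q, hqp⟩
    have hqq : qq ≠ IsLocalRing.closedPoint A := by
      intro h
      exact hqm (congrArg PrimeSpectrum.asIdeal h)
    obtain ⟨z, hz⟩ := hrange qq hfq hqq
    have hsq : pp ⤳ qq := (PrimeSpectrum.le_iff_specializes pp qq).1 hpq
    have hsq' : p' ⤳ u'.base z := by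
      apply (subtype_specializes_iff (p := fun y => y ∈ U') p' (u'.base z)).2
      have : (Subtype.val (u'.base z) : PrimeSpectrum A) = qq := hz
      rw [this]
      exact hsq
    have hzD : u'.base z ∈ D := hsq'.mem_closed hDc hp'D
    exact hDr _ hzD ⟨z, rfl⟩

end Groth.Agent.Lib.Helper9.PunctFaith
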