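import Mathlib
import Groth.Agent.Lib.Helper13.GluePullback

set_option backward.isDefEq.respectTransparency false
set_option maxHeartbeats 800000
set_option autoImplicit false
set_option linter.unusedSectionVars false
set_option linter.unusedVariables false
universe u
open CategoryTheory CategoryTheory.Limits AlgebraicGeometry Opposite TopologicalSpace

namespace Groth.Agent.Lib.Helper9.PurExt

open Groth.Agent.Lib.Helper13.LimModel

theorem isPullback_of_comp_mono {C : Type*} [Category C] {P X Y Z W : C} {a : P ⟶ X} {b : P ⟶ Y}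
    {c : X ⟶ Z} {d : Y ⟶ Z} (m : Z ⟶ W) [Mono m] (h : IsPullback a b (c ≫ m) (d ≫ m)) :
    IsPullback a b c d := by
  have w : a ≫ c = b ≫ d := by
    rw [← cancel_mono m, Category.assoc, Category.assoc]; exact h.w
  refine ⟨⟨w⟩, ⟨PullbackCone.IsLimit.mk w
    (fun s => h.lift s.fst s.snd (by rw [← Category.assoc, s.condition, Category.assoc]))
    (fun s => h.lift_fst _ _ _) (fun s => h.lift_snd _ _ _)
    (fun s m' h1 h2 => h.hom_ext (by rw [h1, h.lift_fst]) (by rw [h2, h.lift_snd]))⟩⟩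

theorem range_fst_of_isPullback {P X Y Z : Scheme.{u}} {a : P ⟶ X} {b : P ⟶ Y} {f : X ⟶ Z}
    {g : Y ⟶ Z} (h : IsPullback a b f g) : Set.range a = f ⁻¹' Set.range g := by
  rw [← Scheme.Pullback.range_fst, ← h.isoPullback_hom_fst]
  ext x
  constructor
  · rintro ⟨y, rfl⟩
    exact ⟨h.isoPullback.hom y, rfl⟩
  · rintro ⟨y, rfl⟩
    refine ⟨h.isoPullback.inv y, ?_⟩
    rw [← Scheme.Hom.comp_apply, ← Category.assoc, Iso.inv_hom_id, Category.id_comp]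

/-- In a Noetherian quasi-sober T0 space every nonempty closed set has a point with no proper
generization inside the set. -/
theorem exists_maximal_point {X : Type*} [TopologicalSpace X] [NoetherianSpace X] [QuasiSober X]
    [T0Space X] (Z : Set X) (hZ : IsClosed Z) (hne : Z.Nonempty) :
    ∃ x ∈ Z, ∀ y ∈ Z, y ⤳ x → y = x := by
  obtain ⟨S, hSfin, hSclosed, hSirr, hZeq⟩ :=
    NoetherianSpace.exists_finite_set_isClosed_irreducible hZ
  have hSne : S.Nonempty := by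
    by_contra h
    rw [Set.not_nonempty_iff_eq_empty] at h
    rw [h, Set.sUnion_empty] at hZeq
    rw [hZeq] at hne
    exact Set.not_nonempty_empty hne
  obtain ⟨t, htS, htmax⟩ := hSfin.exists_maximal hSne
  have htirr := hSirr t htS
  obtain ⟨x, hx⟩ := QuasiSober.sober htirr (hSclosed t htS)
  have hxt : x ∈ t := hx.mem
  refine ⟨x, ?_, ?_⟩
  · rw [hZeq]; exact Set.mem_sUnion.mpr ⟨t, htS, hxt⟩
  · intro y hy hyx
    rw [hZeq] at hy
    obtain ⟨t', ht'S, hyt'⟩ := Set.mem_sUnion.mp hy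
    have hxt' : x ∈ t' := hyx.mem_closed (hSclosed t' ht'S) hyt'
    have htt' : t ≤ t' := by
      intro z hz
      have : z ∈ closure ({x} : Set X) := by rw [hx.def]; exact hz
      exact (closure_minimal (Set.singleton_subset_iff.mpr hxt') (hSclosed t' ht'S)) this
    have : t' ≤ t := htmax ht'S htt'
    have hyt : y ∈ t := this hyt'
    have hxy : x ⤳ y := by
      rw [specializes_iff_mem_closure, hx.def]; exact hyt
    exact (hxy.antisymm hyx).eq.symm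

section glue

variable {X U₁ U₂ Y₁ Y₂ Z : Scheme.{u}} (j₁ : U₁ ⟶ X) (j₂ : U₂ ⟶ X)
  [IsOpenImmersion j₁] [IsOpenImmersion j₂]
  (p₁ : Y₁ ⟶ U₁) (p₂ : Y₂ ⟶ U₂) (ι₁ : Z ⟶ Y₁) (ι₂ : Z ⟶ Y₂)
  [IsOpenImmersion ι₁] [IsOpenImmersion ι₂]
  (H₁ : IsPullback ι₁ (ι₂ ≫ p₂) (p₁ ≫ j₁) j₂) (H₂ : IsPullback ι₂ (ι₁ ≫ p₁) (p₂ ≫ j₂) j₁)

/-- the structure map of the glued scheme -/
noncomputable def gluedHom : pushout ι₁ ι₂ ⟶ X :=
  pushout.desc (p₁ ≫ j₁) (p₂ ≫ j₂) (by simpa using H₁.w)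

include H₂ in
theorem isPullback_inl :
    IsPullback (pushout.inl ι₁ ι₂) p₁ (gluedHom j₁ j₂ p₁ p₂ ι₁ ι₂ H₁) j₁ := by
  refine (IsOpenImmersion.isPullback p₁ (pushout.inl ι₁ ι₂) j₁ (gluedHom j₁ j₂ p₁ p₂ ι₁ ι₂ H₁)
    (by unfold gluedHom; rw [pushout.inl_desc]) ?_).flip
  apply Opens.ext
  ext y
  simp only [Scheme.Hom.coe_preimage, Scheme.Hom.coe_opensRange, Set.mem_preimage]
  constructor
  · intro hy
    rcases inl_inr_jointly_surjective ι₁ ι₂ y with hy1 | ⟨y₂, rfl⟩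
    · exact hy1
    · have e : (gluedHom j₁ j₂ p₁ p₂ ι₁ ι₂ H₁) ((pushout.inr ι₁ ι₂) y₂) = (p₂ ≫ j₂) y₂ := by
        rw [← Scheme.Hom.comp_apply]; unfold gluedHom; rw [pushout.inr_desc]
      rw [e] at hy
      have : y₂ ∈ Set.range ι₂ := by
        rw [range_fst_of_isPullback H₂]; exact hy
      obtain ⟨z, rfl⟩ := this
      refine ⟨ι₁ z, ?_⟩
      rw [← Scheme.Hom.comp_apply, ← Scheme.Hom.comp_apply, pushout.condition]
  · rintro ⟨y₁, rfl⟩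
    refine ⟨p₁ y₁, ?_⟩
    rw [← Scheme.Hom.comp_apply, ← Scheme.Hom.comp_apply]
    unfold gluedHom; rw [pushout.inl_desc]

include H₂ in
theorem isPullback_inr :
    IsPullback (pushout.inr ι₁ ι₂) p₂ (gluedHom j₁ j₂ p₁ p₂ ι₁ ι₂ H₁) j₂ := by
  refine (IsOpenImmersion.isPullback p₂ (pushout.inr ι₁ ι₂) j₂ (gluedHom j₁ j₂ p₁ p₂ ι₁ ι₂ H₁)
    (by unfold gluedHom; rw [pushout.inr_desc]) ?_).flip
  apply Opens.ext
  ext y
  simp only [Scheme.Hom.coe_preimage, Scheme.Hom.coe_opensRange, Set.mem_preimage]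
  constructor
  · intro hy
    rcases inl_inr_jointly_surjective ι₁ ι₂ y with ⟨y₁, rfl⟩ | hy2
    · have e : (gluedHom j₁ j₂ p₁ p₂ ι₁ ι₂ H₁) ((pushout.inl ι₁ ι₂) y₁) = (p₁ ≫ j₁) y₁ := by
        rw [← Scheme.Hom.comp_apply]; unfold gluedHom; rw [pushout.inl_desc]
      rw [e] at hy
      have : y₁ ∈ Set.range ι₁ := by
        rw [range_fst_of_isPullback H₁]; exact hy
      obtain ⟨z, rfl⟩ := this
      refine ⟨ι₂ z, ?_⟩
      rw [← Scheme.Hom.comp_apply, ← Scheme.Hom.comp_apply, pushout.condition]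
    · exact hy2
  · rintro ⟨y₂, rfl⟩
    refine ⟨p₂ y₂, ?_⟩
    rw [← Scheme.Hom.comp_apply, ← Scheme.Hom.comp_apply]
    unfold gluedHom; rw [pushout.inr_desc]

include H₁ H₂ in
/-- Gluing two morphisms with a Zariski-local property over two opens of the base. -/
theorem exists_glued (U₁₂ : X.Opens)
    (hU : (U₁₂ : Set X) = Set.range j₁ ∪ Set.range j₂)
    (j₁' : U₁ ⟶ (U₁₂ : Scheme.{u})) (j₂' : U₂ ⟶ (U₁₂ : Scheme.{u}))
    (hj₁ : j₁' ≫ U₁₂.ι = j₁) (hj₂ : j₂' ≫ U₁₂.ι = j₂) :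
    ∃ (Y : Scheme.{u}) (q' : Y ⟶ (U₁₂ : Scheme.{u})) (i₁ : Y₁ ⟶ Y) (i₂ : Y₂ ⟶ Y),
      (∀ (P : MorphismProperty Scheme.{u}) [IsZariskiLocalAtTarget P], P p₁ → P p₂ → P q') ∧
        IsPullback i₁ p₁ q' j₁' ∧ IsPullback i₂ p₂ q' j₂' := by
  let q := gluedHom j₁ j₂ p₁ p₂ ι₁ ι₂ H₁
  have hq1 : pushout.inl ι₁ ι₂ ≫ q = p₁ ≫ j₁ := by
    change _ ≫ gluedHom j₁ j₂ p₁ p₂ ι₁ ι₂ H₁ = _; unfold gluedHom; rw [pushout.inl_desc]
  have hq2 : pushout.inr ι₁ ι₂ ≫ q = p₂ ≫ j₂ := by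
    change _ ≫ gluedHom j₁ j₂ p₁ p₂ ι₁ ι₂ H₁ = _; unfold gluedHom; rw [pushout.inr_desc]
  have hrange : Set.range q ⊆ Set.range U₁₂.ι := by
    rw [Scheme.Opens.range_ι, hU]
    rintro _ ⟨y, rfl⟩
    rcases inl_inr_jointly_surjective ι₁ ι₂ y with ⟨y₁, rfl⟩ | ⟨y₂, rfl⟩
    · left
      refine ⟨p₁ y₁, ?_⟩
      rw [← Scheme.Hom.comp_apply, ← Scheme.Hom.comp_apply, hq1]
    · right
      refine ⟨p₂ y₂, ?_⟩
      rw [← Scheme.Hom.comp_apply, ← Scheme.Hom.comp_apply, hq2]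
  let q' : pushout ι₁ ι₂ ⟶ (U₁₂ : Scheme.{u}) := IsOpenImmersion.lift U₁₂.ι q hrange
  have hq' : q' ≫ U₁₂.ι = q := IsOpenImmersion.lift_fac _ _ _
  haveI : IsOpenImmersion (j₁' ≫ U₁₂.ι) := by rw [hj₁]; infer_instance
  haveI : IsOpenImmersion (j₂' ≫ U₁₂.ι) := by rw [hj₂]; infer_instance
  haveI : IsOpenImmersion j₁' := IsOpenImmersion.of_comp j₁' U₁₂.ι
  haveI : IsOpenImmersion j₂' := IsOpenImmersion.of_comp j₂' U₁₂.ι
  have pb1 : IsPullback (pushout.inl ι₁ ι₂) p₁ q' j₁' := by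
    apply isPullback_of_comp_mono U₁₂.ι
    rw [hq', hj₁]
    exact isPullback_inl j₁ j₂ p₁ p₂ ι₁ ι₂ H₁ H₂
  have pb2 : IsPullback (pushout.inr ι₁ ι₂) p₂ q' j₂' := by
    apply isPullback_of_comp_mono U₁₂.ι
    rw [hq', hj₂]
    exact isPullback_inr j₁ j₂ p₁ p₂ ι₁ ι₂ H₁ H₂
  have hcov : ∀ x : (U₁₂ : Scheme.{u}), x ∈ Set.range j₁' ∨ x ∈ Set.range j₂' := by
    intro x
    have hx : (U₁₂.ι x) ∈ Set.range j₁ ∪ Set.range j₂ := by
      rw [← hU]; exact x.2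
    rcases hx with ⟨y, hy⟩ | ⟨y, hy⟩
    · left
      refine ⟨y, U₁₂.ι.isOpenEmbedding.injective ?_⟩
      rw [← Scheme.Hom.comp_apply, hj₁, hy]
    · right
      refine ⟨y, U₁₂.ι.isOpenEmbedding.injective ?_⟩
      rw [← Scheme.Hom.comp_apply, hj₂, hy]
  refine ⟨pushout ι₁ ι₂, q', pushout.inl ι₁ ι₂, pushout.inr ι₁ ι₂, ?_, pb1, pb2⟩
  intro P _ hp₁ hp₂
  rw [IsZariskiLocalAtTarget.iff_of_openCover (P := P) (coverOfTwo j₁' j₂' hcov)]
  rintro (_ | _)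
  · change P (pullback.snd q' j₂')
    rw [← pb2.isoPullback_inv_snd]
    exact (P.cancel_left_of_respectsIso _ _).mpr hp₂
  · change P (pullback.snd q' j₁')
    rw [← pb1.isoPullback_inv_snd]
    exact (P.cancel_left_of_respectsIso _ _).mpr hp₁

end glue

end Groth.Agent.Lib.Helper9.PurExt
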