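import Mathlib
import Groth.Agent.Lib.Helper13.LimModel
import Groth.Agent.S12073

set_option backward.isDefEq.respectTransparency false
set_option maxHeartbeats 1600000
set_option autoImplicit false
set_option linter.unusedSectionVars false
set_option linter.unusedVariables false
universe u
open CategoryTheory CategoryTheory.Limits AlgebraicGeometry Opposite TopologicalSpace

namespace Groth.Agent.Lib.Helper9.PurExt

open Groth.Agent.Lib.Helper13.LimModel

section L

variable {I : Type u} [SmallCategory I] [IsCofiltered I] (D : I ⥤ Scheme.{u}) (c : Cone D)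
  (hc : IsLimit c) [∀ (i j : I) (f : i ⟶ j), IsAffineHom (D.map f)]
  [∀ i, CompactSpace (D.obj i)] [∀ i, QuasiSeparatedSpace (D.obj i)]
  {X : Scheme.{u}} (str : ∀ i, D.obj i ⟶ X) [∀ i, IsOpenImmersion (str i)]
  (hstr : ∀ {i k : I} (ψ : k ⟶ i), D.map ψ ≫ str i = str k)
  (φ : c.pt ⟶ X) (hφ : ∀ i, c.π.app i ≫ str i = φ)
  {U' : Scheme.{u}} (j : U' ⟶ X) [IsOpenImmersion j] [QuasiCompact j]
  {Y' : Scheme.{u}} (p' : Y' ⟶ U') [IsFinite p'] [Etale p']
  {P : Scheme.{u}} (r : P ⟶ U') (ιP : P ⟶ c.pt) (hP : IsPullback r ιP j φ)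
  (W : FEt.Cat c.pt)
  (e₀ : pullback W.hom ιP ≅ pullback p' r)
  (he₀ : e₀.hom ≫ pullback.snd p' r = pullback.snd W.hom ιP)

include hc hstr hφ hP he₀ in
theorem exists_stage :
    ∃ (k : I) (Wk : Scheme.{u}) (w : Wk ⟶ D.obj k) (_ : IsFinite w) (_ : Etale w)
      (Z : Scheme.{u}) (ι₁ : Z ⟶ Y') (ι₂ : Z ⟶ Wk),
      IsPullback ι₁ (ι₂ ≫ w) (p' ≫ j) (str k) ∧ IsPullback ι₂ (ι₁ ≫ p') (w ≫ str k) j := by
  obtain ⟨i, Wi, ⟨θ⟩⟩ := (Groth.Agent.S12073.result D c hc).1 W
  have hWi : IsFinite Wi.hom ∧ Etale Wi.hom := Wi.prop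
  have hW : IsFinite W.hom ∧ Etale W.hom := W.prop
  let wi : Wi.left ⟶ D.obj i := Wi.hom
  let wW : W.left ⟶ c.pt := W.hom
  haveI : IsFinite wi := hWi.1
  haveI : Etale wi := hWi.2
  haveI : IsFinite wW := hW.1
  haveI : Etale wW := hW.2
  let π := c.π.app i
  -- the iso θ on underlying schemes
  let θl : pullback wi π ≅ W.left :=
    (MorphismProperty.Over.forget FEt.prop ⊤ c.pt ⋙ Over.forget c.pt).mapIso θ
  have hθl : θl.hom ≫ wW = pullback.snd wi π := Over.w θ.hom.hom
  have hθl' : θl.inv ≫ pullback.snd wi π = wW := by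
    rw [← hθl, Iso.inv_hom_id_assoc]
  -- the stage-i trace of U'
  let a : pullback (str i) j ⟶ D.obj i := pullback.fst (str i) j
  let b : pullback (str i) j ⟶ U' := pullback.snd (str i) j
  have hab : a ≫ str i = b ≫ j := pullback.condition
  have sqT : IsPullback a b (str i) j := IsPullback.of_hasPullback _ _
  let ρ : P ⟶ pullback (str i) j := pullback.lift (ιP ≫ π) r (by
    rw [Category.assoc, hφ i]; exact hP.w.symm)
  have hρa : ρ ≫ a = ιP ≫ π := pullback.lift_fst _ _ _
  have hρb : ρ ≫ b = r := pullback.lift_snd _ _ _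
  have F2 : IsPullback ρ ιP a π := by
    refine IsPullback.of_right ?_ hρa sqT.flip
    rw [hρb, hφ i]; exact hP
  -- model 1
  let g₁ : pullback wW ιP ⟶ pullback wi a :=
    pullback.lift (pullback.fst wW ιP ≫ θl.inv ≫ pullback.fst wi π) (pullback.snd wW ιP ≫ ρ) (by
      rw [Category.assoc, Category.assoc, pullback.condition, ← Category.assoc θl.inv, hθl',
        ← Category.assoc, pullback.condition, Category.assoc, Category.assoc, hρa])
  have hg₁1 : g₁ ≫ pullback.fst wi a = pullback.fst wW ιP ≫ θl.inv ≫ pullback.fst wi π :=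
    pullback.lift_fst _ _ _
  have hg₁2 : g₁ ≫ pullback.snd wi a = pullback.snd wW ιP ≫ ρ := pullback.lift_snd _ _ _
  have sqβ : IsPullback (θl.inv ≫ pullback.fst wi π) wW wi π := by
    have h1 : IsPullback θl.inv wW (pullback.snd wi π) (𝟙 c.pt) :=
      IsPullback.of_horiz_isIso ⟨by rw [hθl', Category.comp_id]⟩
    have := h1.paste_horiz (IsPullback.of_hasPullback wi π)
    rwa [Category.id_comp] at this
  have top₁ : IsPullback g₁ (pullback.snd wW ιP) (pullback.snd wi a) ρ := by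
    refine IsPullback.of_right ?_ hg₁2 (IsPullback.of_hasPullback wi a)
    rw [hg₁1, hρa]
    exact (IsPullback.of_hasPullback wW ιP).paste_horiz sqβ
  have pb₁ : IsPullback g₁ (pullback.snd wW ιP ≫ ιP) (pullback.snd wi a ≫ a) π :=
    top₁.paste_vert F2
  let M₁ : ModelAt D c i (pullback.snd wW ιP ≫ ιP) :=
    { Z₀ := pullback wi a
      h₀ := pullback.snd wi a ≫ a
      g := g₁
      lfp := inferInstance
      qc := inferInstance
      qs := inferInstance
      pb := pb₁ }
  -- model 2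
  let g₂ : pullback p' r ⟶ pullback p' b :=
    pullback.lift (pullback.fst p' r) (pullback.snd p' r ≫ ρ) (by
      rw [Category.assoc, hρb, pullback.condition])
  have hg₂1 : g₂ ≫ pullback.fst p' b = pullback.fst p' r := pullback.lift_fst _ _ _
  have hg₂2 : g₂ ≫ pullback.snd p' b = pullback.snd p' r ≫ ρ := pullback.lift_snd _ _ _
  have top₂ : IsPullback g₂ (pullback.snd p' r) (pullback.snd p' b) ρ := by
    refine IsPullback.of_right ?_ hg₂2 (IsPullback.of_hasPullback p' b)
    rw [hg₂1, hρb]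
    exact IsPullback.of_hasPullback p' r
  have pb₂ : IsPullback g₂ (pullback.snd p' r ≫ ιP) (pullback.snd p' b ≫ a) π :=
    top₂.paste_vert F2
  let M₂ : ModelAt D c i (pullback.snd p' r ≫ ιP) :=
    { Z₀ := pullback p' b
      h₀ := pullback.snd p' b ≫ a
      g := g₂
      lfp := inferInstance
      qc := inferInstance
      qs := inferInstance
      pb := pb₂ }
  have he : e₀.hom ≫ (pullback.snd p' r ≫ ιP) = pullback.snd wW ιP ≫ ιP := by
    rw [← Category.assoc, he₀]
  obtain ⟨k, ψ, ε, hε, -⟩ := ModelAt.exists_iso hc M₁ M₂ e₀.hom he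
  change pullback (pullback.snd wi a ≫ a) (D.map ψ) ≅ pullback (pullback.snd p' b ≫ a) (D.map ψ)
    at ε
  change ε.hom ≫ pullback.snd (pullback.snd p' b ≫ a) (D.map ψ) =
    pullback.snd (pullback.snd wi a ≫ a) (D.map ψ) at hε
  let h₁ : pullback wi a ⟶ D.obj i := pullback.snd wi a ≫ a
  let h₂ : pullback p' b ⟶ D.obj i := pullback.snd p' b ≫ a
  let w : pullback wi (D.map ψ) ⟶ D.obj k := pullback.snd wi (D.map ψ)
  let ι₂ : pullback h₁ (D.map ψ) ⟶ pullback wi (D.map ψ) :=
    pullback.lift (pullback.fst h₁ (D.map ψ) ≫ pullback.fst wi a) (pullback.snd h₁ (D.map ψ)) (by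
      rw [Category.assoc, pullback.condition, ← pullback.condition (f := h₁) (g := D.map ψ)])
  have hι₂1 : ι₂ ≫ pullback.fst wi (D.map ψ) = pullback.fst h₁ (D.map ψ) ≫ pullback.fst wi a :=
    pullback.lift_fst _ _ _
  have hι₂2 : ι₂ ≫ w = pullback.snd h₁ (D.map ψ) := pullback.lift_snd _ _ _
  let ι₁ : pullback h₁ (D.map ψ) ⟶ Y' :=
    ε.hom ≫ pullback.fst h₂ (D.map ψ) ≫ pullback.fst p' b
  -- H₁
  have base₁ : IsPullback (pullback.fst h₂ (D.map ψ) ≫ pullback.fst p' b)
      (pullback.snd h₂ (D.map ψ)) (p' ≫ j) (str k) := by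
    have h23 : IsPullback (pullback.fst p' b) h₂ (p' ≫ j) (str i) :=
      (IsPullback.of_hasPullback p' b).paste_vert sqT.flip
    have := (IsPullback.of_hasPullback h₂ (D.map ψ)).paste_horiz h23
    rwa [hstr ψ] at this
  have H₁ : IsPullback ι₁ (ι₂ ≫ w) (p' ≫ j) (str k) := by
    rw [hι₂2, ← hε]
    exact IsPullback.of_iso base₁ ε.symm (Iso.refl _) (Iso.refl _) (Iso.refl _)
      (by simp [ι₁]) (by rw [Iso.refl_hom, Category.comp_id, Iso.symm_hom, Iso.inv_hom_id_assoc])
      (by simp) (by simp)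
  -- H₂
  have S1 : IsPullback ι₂ (pullback.fst h₁ (D.map ψ)) (pullback.fst wi (D.map ψ))
      (pullback.fst wi a) := by
    refine IsPullback.of_right ?_ hι₂1 (IsPullback.of_hasPullback wi (D.map ψ)).flip
    rw [hι₂2, pullback.condition]
    exact (IsPullback.of_hasPullback h₁ (D.map ψ)).flip
  have star : IsPullback (pullback.fst wi a) (pullback.snd wi a ≫ b) (wi ≫ str i) j :=
    (IsPullback.of_hasPullback wi a).paste_vert sqT
  have H₂' : IsPullback ι₂ (pullback.fst h₁ (D.map ψ) ≫ pullback.snd wi a ≫ b)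
      (pullback.fst wi (D.map ψ) ≫ wi ≫ str i) j :=
    (S1.flip.paste_horiz star.flip).flip
  have e1 : pullback.fst wi (D.map ψ) ≫ wi ≫ str i = w ≫ str k := by
    rw [← Category.assoc, pullback.condition, Category.assoc, hstr ψ]
  have e2 : pullback.fst h₁ (D.map ψ) ≫ pullback.snd wi a ≫ b = ι₁ ≫ p' := by
    rw [← cancel_mono j]
    have c1 : pullback.fst h₁ (D.map ψ) ≫ pullback.snd wi a ≫ a =
        pullback.snd h₁ (D.map ψ) ≫ D.map ψ := pullback.condition
    have l1 : (pullback.fst h₁ (D.map ψ) ≫ pullback.snd wi a ≫ b) ≫ j =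
        pullback.snd h₁ (D.map ψ) ≫ str k := by
      calc (pullback.fst h₁ (D.map ψ) ≫ pullback.snd wi a ≫ b) ≫ j
          = (pullback.fst h₁ (D.map ψ) ≫ pullback.snd wi a ≫ a) ≫ str i := by
            simp only [Category.assoc, hab]
        _ = pullback.snd h₁ (D.map ψ) ≫ str k := by rw [c1, Category.assoc, hstr ψ]
    have l2 : (ι₁ ≫ p') ≫ j = pullback.snd h₁ (D.map ψ) ≫ str k := by
      rw [Category.assoc, H₁.w, hι₂2]
    rw [l1, l2]
  rw [e1, e2] at H₂'
  refine ⟨k, pullback wi (D.map ψ), w, inferInstance, inferInstance, pullback h₁ (D.map ψ), ι₁, ι₂,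
    H₁, H₂'⟩

end L

end Groth.Agent.Lib.Helper9.PurExt
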