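import Mathlib
import Groth.Agent.Lib.Helper25.LocTower
import Groth.Agent.Lib.Helper9.PurExt1
import Groth.Agent.Lib.Helper9.PurExt2

set_option backward.isDefEq.respectTransparency false
set_option maxHeartbeats 1600000
set_option autoImplicit false
set_option linter.unusedSectionVars false
set_option linter.unusedVariables false
set_option linter.style.haveILetI false
universe u
open CategoryTheory CategoryTheory.Limits AlgebraicGeometry Opposite TopologicalSpace

namespace Groth.Agent.Lib.Helper9.PurExt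

open Groth.Agent.Lib.Helper25.LocTower

section setup
/- copied from helper25's `StalkInv` (setup section), to avoid its heavy imports -/

variable {S : Scheme.{u}} (s : S) {U : S.Opens} (hU : IsAffineOpen U) (hsU : s ∈ U)

/-- the stalk as an algebra over the sections on an affine neighbourhood -/
@[reducible] noncomputable def germAlg : Algebra Γ(S, U) (S.presheaf.stalk s) :=
  (S.presheaf.germ U s hsU).hom.toAlgebra

/-- the multiplicative set of functions not vanishing at `s` -/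
noncomputable abbrev Mp : Submonoid Γ(S, U) := (hU.primeIdealOf ⟨s, hsU⟩).asIdeal.primeCompl

theorem isLoc : letI := germAlg s hsU
    IsLocalization (Mp s hU hsU) (S.presheaf.stalk s) :=
  hU.isLocalization_stalk ⟨s, hsU⟩

/-- structure map of a stage to `S` -/
noncomputable def stageStr (T : (Finset (Mp s hU hsU))ᵒᵖ) :
    (specDiag Γ(S, U) (Mp s hU hsU)).obj T ⟶ S :=
  specStr Γ(S, U) (Mp s hU hsU) T ≫ hU.fromSpec

instance (T : (Finset (Mp s hU hsU))ᵒᵖ) : IsOpenImmersion (stageStr s hU hsU T) := by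
  unfold stageStr
  infer_instance

lemma stageStr_map {T T' : (Finset (Mp s hU hsU))ᵒᵖ} (φ : T ⟶ T') :
    (specDiag Γ(S, U) (Mp s hU hsU)).map φ ≫ stageStr s hU hsU T' = stageStr s hU hsU T := by
  unfold stageStr
  rw [← Category.assoc, specDiag_map_str]

/-- the limit cone -/
noncomputable def cone : Cone (specDiag Γ(S, U) (Mp s hU hsU)) :=
  letI := germAlg s hsU
  haveI := isLoc s hU hsU
  specCone Γ(S, U) (Mp s hU hsU) (S.presheaf.stalk s)

/-- it is a limit cone -/
noncomputable def isLimit : IsLimit (cone s hU hsU) :=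
  letI := germAlg s hsU
  haveI := isLoc s hU hsU
  specIsLimit Γ(S, U) (Mp s hU hsU) (S.presheaf.stalk s)

/-- the cone legs, with source written as `Spec` of the stalk -/
noncomputable def leg (T : (Finset (Mp s hU hsU))ᵒᵖ) :
    Spec (S.presheaf.stalk s) ⟶ (specDiag Γ(S, U) (Mp s hU hsU)).obj T :=
  (cone s hU hsU).π.app T

lemma leg_stageStr (T : (Finset (Mp s hU hsU))ᵒᵖ) :
    leg s hU hsU T ≫ stageStr s hU hsU T = S.fromSpecStalk s := by
  letI := germAlg s hsU
  haveI := isLoc s hU hsU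
  have h1 : leg s hU hsU T ≫ specStr Γ(S, U) (Mp s hU hsU) T =
      Spec.map (S.presheaf.germ U s hsU) :=
    specCone_π_str Γ(S, U) (Mp s hU hsU) (S.presheaf.stalk s) T
  calc leg s hU hsU T ≫ stageStr s hU hsU T
      = (leg s hU hsU T ≫ specStr Γ(S, U) (Mp s hU hsU) T) ≫ hU.fromSpec :=
        (Category.assoc _ _ _).symm
    _ = Spec.map (S.presheaf.germ U s hsU) ≫ hU.fromSpec := by rw [h1]
    _ = S.fromSpecStalk s := hU.fromSpecStalk_eq_fromSpecStalk hsU

lemma mem_opensRange_stageStr (T : (Finset (Mp s hU hsU))ᵒᵖ) :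
    s ∈ (stageStr s hU hsU T).opensRange := by
  refine ⟨leg s hU hsU T (IsLocalRing.closedPoint (S.presheaf.stalk s)), ?_⟩
  rw [← Scheme.Hom.comp_apply, leg_stageStr]
  exact Scheme.fromSpecStalk_closedPoint

end setup

section step

variable {X : Scheme.{u}} [IsLocallyNoetherian X] (U' : X.Opens) (x : X) (hx : x ∉ U')
  (hgen : ∀ y : X, y ⤳ x → y ≠ x → y ∈ U')

include hx hgen in
/-- the preimage of `U'` in `Spec 𝒪_{X,x}` is the punctured spectrum -/
theorem preimage_eq_punctured :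
    (X.fromSpecStalk x) ⁻¹ᵁ U' = FEt.puncturedSpec (X.presheaf.stalk x) := by
  apply Opens.ext
  ext s
  change (X.fromSpecStalk x) s ∈ U' ↔ s ∈ ({IsLocalRing.closedPoint (X.presheaf.stalk x)}ᶜ : Set _)
  rw [Set.mem_compl_iff, Set.mem_singleton_iff]
  constructor
  · intro hs h
    rw [h, Scheme.fromSpecStalk_closedPoint] at hs
    exact hx hs
  · intro hs
    apply hgen
    · have : (X.fromSpecStalk x) s ∈ Set.range (X.fromSpecStalk x) := ⟨s, rfl⟩
      rw [Scheme.range_fromSpecStalk] at this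
      exact this
    · intro h
      apply hs
      have hinj : Function.Injective (X.fromSpecStalk x) :=
        (X.fromSpecStalk x).isEmbedding.injective
      apply hinj
      rw [h, Scheme.fromSpecStalk_closedPoint]

include hx hgen in
set_option maxHeartbeats 3200000 in
/-- one extension step -/
theorem exists_extension_step (hpur : FEt.PurityHolds (X.presheaf.stalk x))
    {Y' : Scheme.{u}} (p' : Y' ⟶ (U' : Scheme.{u})) [IsFinite p'] [Etale p'] :
    ∃ (U'' : X.Opens) (hU : U' ≤ U'') (_ : x ∈ U'') (Y'' : Scheme.{u})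
      (p'' : Y'' ⟶ (U'' : Scheme.{u})) (_ : IsFinite p'') (_ : Etale p'') (i' : Y' ⟶ Y''),
      IsPullback i' p' p'' (X.homOfLE hU) := by
  obtain ⟨_, ⟨N₀, hN₀, rfl⟩, hxN₀, -⟩ :=
    X.isBasis_affineOpens.exists_subset_of_mem_open (Set.mem_univ x) isOpen_univ
  have hN₀' : IsAffineOpen N₀ := hN₀
  let D := specDiag Γ(X, N₀) (Mp x hN₀' hxN₀)
  let c := cone x hN₀' hxN₀
  have hc : IsLimit c := isLimit x hN₀' hxN₀
  let φ : c.pt ⟶ X := X.fromSpecStalk x
  let P : (Spec (CommRingCat.of (X.presheaf.stalk x))).Opens :=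
    FEt.puncturedSpec (X.presheaf.stalk x)
  have hpre : φ ⁻¹ᵁ U' = P := preimage_eq_punctured U' x hx hgen
  let ιP : (P : Scheme.{u}) ⟶ c.pt := P.ι
  have hrange : Set.range (ιP ≫ φ) ⊆ Set.range U'.ι := by
    rintro _ ⟨s, rfl⟩
    rw [Scheme.Opens.range_ι]
    have hs : (ιP s) ∈ φ ⁻¹ᵁ U' := by rw [hpre]; exact s.2
    exact hs
  let r : (P : Scheme.{u}) ⟶ (U' : Scheme.{u}) := IsOpenImmersion.lift U'.ι (ιP ≫ φ) hrange
  have hr : r ≫ U'.ι = ιP ≫ φ := IsOpenImmersion.lift_fac _ _ _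
  have hP : IsPullback r ιP U'.ι φ := by
    refine IsOpenImmersion.isPullback r ιP U'.ι φ hr.symm ?_
    rw [Scheme.Opens.opensRange_ι, hpre]
    exact (Scheme.Opens.opensRange_ι P).symm
  -- purity
  let VP : FEt.Cat (P : Scheme.{u}) :=
    MorphismProperty.Over.mk ⊤ (pullback.snd p' r) ⟨inferInstance, inferInstance⟩
  haveI : (FEt.restrict P.ι).EssSurj := hpur
  let W : FEt.Cat c.pt := (FEt.restrict P.ι).objPreimage VP
  let e : (FEt.restrict P.ι).obj W ≅ VP := (FEt.restrict P.ι).objObjPreimageIso VP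
  let e₀ : pullback W.hom ιP ≅ pullback p' r :=
    (MorphismProperty.Over.forget FEt.prop ⊤ (P : Scheme.{u}) ⋙ Over.forget _).mapIso e
  have he₀ : e₀.hom ≫ pullback.snd p' r = pullback.snd W.hom ιP := Over.w e.hom.hom
  haveI : ∀ i, CompactSpace (D.obj i) := fun i => inferInstance
  haveI : ∀ i, QuasiSeparatedSpace (D.obj i) := fun i => inferInstance
  haveI : ∀ (i j : (Finset (Mp x hN₀' hxN₀))ᵒᵖ) (f : i ⟶ j), IsAffineHom (D.map f) :=
    fun i j f => inferInstance
  obtain ⟨k, Wk, w, hw1, hw2, Z, ι₁, ι₂, H₁, H₂⟩ :=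
    exists_stage D c hc (stageStr x hN₀' hxN₀) (fun ψ => stageStr_map x hN₀' hxN₀ ψ) φ
      (fun i => leg_stageStr x hN₀' hxN₀ i) U'.ι p' r ιP hP W e₀ he₀
  let n : D.obj k ⟶ X := stageStr x hN₀' hxN₀ k
  haveI : IsOpenImmersion ι₁ :=
    MorphismProperty.of_isPullback (P := @IsOpenImmersion) H₁.flip inferInstance
  haveI : IsOpenImmersion ι₂ :=
    MorphismProperty.of_isPullback (P := @IsOpenImmersion) H₂.flip inferInstance
  let U₁₂ : X.Opens := U' ⊔ n.opensRange
  have hU : (U₁₂ : Set X) = Set.range U'.ι ∪ Set.range n := by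
    rw [Scheme.Opens.range_ι]; rfl
  have hnr : Set.range n ⊆ Set.range U₁₂.ι := by
    rw [Scheme.Opens.range_ι, hU]; exact Set.subset_union_right
  let j₂' : D.obj k ⟶ (U₁₂ : Scheme.{u}) := IsOpenImmersion.lift U₁₂.ι n hnr
  have hj₂ : j₂' ≫ U₁₂.ι = n := IsOpenImmersion.lift_fac _ _ _
  have hle : U' ≤ U₁₂ := le_sup_left
  obtain ⟨Y, q', i₁, i₂, hPq, pb1, pb2⟩ := exists_glued U'.ι n p' w ι₁ ι₂ H₁ H₂ U₁₂ hU
    (X.homOfLE hle) j₂' (X.homOfLE_ι hle) hj₂
  refine ⟨U₁₂, hle, ?_, Y, q', hPq @IsFinite inferInstance hw1, hPq @Etale inferInstance hw2,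
    i₁, pb1⟩
  exact Or.inr (mem_opensRange_stageStr x hN₀' hxN₀ k)

end step

theorem isPullback_comp_mono {C : Type*} [Category C] {P X Y Z W : C} {a : P ⟶ X} {b : P ⟶ Y}
    {c : X ⟶ Z} {d : Y ⟶ Z} (m : Z ⟶ W) [Mono m] (h : IsPullback a b c d) :
    IsPullback a b (c ≫ m) (d ≫ m) := by
  have w : a ≫ c ≫ m = b ≫ d ≫ m := by
    rw [← Category.assoc, h.w, Category.assoc]
  refine ⟨⟨w⟩, ⟨PullbackCone.IsLimit.mk w
    (fun s => h.lift s.fst s.snd (by
      rw [← cancel_mono m, Category.assoc, Category.assoc]; exact s.condition))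
    (fun s => h.lift_fst _ _ _) (fun s => h.lift_snd _ _ _)
    (fun s m' h1 h2 => h.hom_ext (by rw [h1, h.lift_fst]) (by rw [h2, h.lift_snd]))⟩⟩

set_option maxHeartbeats 3200000 in
/-- Purity at the points of the complement gives essential surjectivity of restriction. -/
theorem essSurj_of_purity {X : Scheme.{u}} [IsNoetherian X] (U : X.Opens)
    (h : ∀ x : X, x ∉ U → FEt.PurityHolds (X.presheaf.stalk x)) :
    (FEt.restrict U.ι).EssSurj := by
  refine ⟨fun V => ?_⟩
  have hV : IsFinite V.hom ∧ Etale V.hom := V.prop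
  let p : V.left ⟶ (U : Scheme.{u}) := V.hom
  haveI : IsFinite p := hV.1
  haveI : Etale p := hV.2
  let 𝒮 : Set X.Opens := {U' | ∃ (hU : U ≤ U') (Y' : Scheme.{u}) (p' : Y' ⟶ (U' : Scheme.{u}))
    (_ : IsFinite p') (_ : Etale p') (i : V.left ⟶ Y'), IsPullback i p p' (X.homOfLE hU)}
  have hne : 𝒮.Nonempty := by
    refine ⟨U, le_refl U, V.left, p, inferInstance, inferInstance, 𝟙 _, ?_⟩
    rw [X.homOfLE_rfl]
    exact IsPullback.of_horiz_isIso ⟨by simp⟩
  haveI : WellFoundedGT X.Opens := inferInstanceAs (NoetherianSpace X)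
  obtain ⟨U', hU'mem, hmax⟩ := WellFounded.has_min (wellFounded_gt (α := X.Opens)) 𝒮 hne
  obtain ⟨hUU', Y', p', hp'1, hp'2, i, pb⟩ := hU'mem
  by_cases htop : U' = ⊤
  · subst htop
    let q : Y' ⟶ X := p' ≫ (⊤ : X.Opens).ι
    haveI : IsIso (⊤ : X.Opens).ι := inferInstanceAs (IsIso X.topIso.hom)
    haveI : IsFinite q := inferInstance
    haveI : Etale q := inferInstance
    let Wobj : FEt.Cat X := MorphismProperty.Over.mk ⊤ q ⟨inferInstance, inferInstance⟩
    have sq : IsPullback i p q U.ι := by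
      have := isPullback_comp_mono (⊤ : X.Opens).ι pb
      rwa [X.homOfLE_ι] at this
    refine ⟨Wobj, ⟨?_⟩⟩
    refine MorphismProperty.Over.isoMk sq.isoPullback.symm ?_
    exact sq.isoPullback_inv_snd
  · exfalso
    have hZne : ((U' : Set X)ᶜ).Nonempty := by
      rw [Set.nonempty_compl]
      intro hh
      exact htop (Opens.ext hh)
    obtain ⟨x, hxZ, hxmax⟩ := exists_maximal_point ((U' : Set X)ᶜ) U'.isOpen.isClosed_compl hZne
    have hx : x ∉ U' := hxZ
    have hgen : ∀ y : X, y ⤳ x → y ≠ x → y ∈ U' := by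
      intro y hyx hne
      by_contra hy
      exact hne (hxmax y hy hyx)
    have hpur : FEt.PurityHolds (X.presheaf.stalk x) := h x (fun hxU => hx (hUU' hxU))
    obtain ⟨U'', hU'', hxU'', Y'', p'', hp''1, hp''2, i', pb'⟩ :=
      exists_extension_step U' x hx hgen hpur p'
    have hmem : U'' ∈ 𝒮 := by
      refine ⟨hUU'.trans hU'', Y'', p'', hp''1, hp''2, i ≫ i', ?_⟩
      have := pb.paste_horiz pb'
      rwa [X.homOfLE_homOfLE] at this
    apply hmax U'' hmem
    refine lt_of_le_of_ne hU'' ?_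
    rintro rfl
    exact hx hxU''

end Groth.Agent.Lib.Helper9.PurExt
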