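import Groth.Agent.Lib.Helper9.DescSub5
import Mathlib.AlgebraicGeometry.QuasiAffine

set_option backward.isDefEq.respectTransparency false
set_option autoImplicit false
set_option linter.unusedSectionVars false
set_option linter.unusedVariables false
universe u
open CategoryTheory CategoryTheory.Limits AlgebraicGeometry Opposite

namespace Groth.Agent.Lib.Helper9.QAff

theorem appLE_top_top {X Y : Scheme.{u}} (f : X ⟶ Y) (h : (⊤ : X.Opens) ≤ f ⁻¹ᵁ ⊤) :
    f.appLE ⊤ ⊤ h = f.appTop := by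
  simp [Scheme.Hom.appLE]

/-- flat base change for global sections, as a pullback square of affinizations -/
theorem isPullback_affinization {V S E W : Scheme.{u}} [IsAffine S] [IsAffine E] [CompactSpace V]
    [QuasiSeparatedSpace V] (a : V ⟶ S) (e : E ⟶ S) [Flat e] (pr₁ : W ⟶ V) (pr₂ : W ⟶ E)
    (H : IsPullback pr₁ pr₂ a e) :
    IsPullback (Spec.map pr₁.appTop) (Spec.map pr₂.appTop) (Spec.map a.appTop)
      (Spec.map e.appTop) := by
  apply isPullback_SpecMap_of_isPushout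
  have h1 : (⊤ : E.Opens) ≤ e ⁻¹ᵁ ⊤ := le_rfl
  have h2 : (⊤ : V.Opens) ≤ a ⁻¹ᵁ ⊤ := le_rfl
  have h3 : (⊤ : W.Opens) = pr₁ ⁻¹ᵁ ⊤ ⊓ pr₂ ⁻¹ᵁ ⊤ := by simp
  have := isIso_pushoutSection_of_isQuasiSeparated_of_flat_right H h1 h2 h3
    (isAffineOpen_top S) (isAffineOpen_top E) isCompact_univ isQuasiSeparated_univ
  have hp := (isIso_pushoutSection_iff H h1 h2 h3).1 this
  simpa only [appLE_top_top] using hp

/-- affinization of a scheme -/
noncomputable abbrev Aff (W : Scheme.{u}) : Scheme.{u} := Spec Γ(W, ⊤)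

/-- affinization of a morphism -/
noncomputable abbrev affm {W W' : Scheme.{u}} (f : W ⟶ W') : Aff W ⟶ Aff W' := Spec.map f.appTop

theorem affm_comp {W W' W'' : Scheme.{u}} (f : W ⟶ W') (g : W' ⟶ W'') :
    affm (f ≫ g) = affm f ≫ affm g := by
  unfold affm
  rw [← Spec.map_comp]
  rfl

theorem affm_id (W : Scheme.{u}) : affm (𝟙 W) = 𝟙 (Aff W) := by
  unfold affm
  simp

theorem η_affm {W W' : Scheme.{u}} (f : W ⟶ W') : W.toSpecΓ ≫ affm f = f ≫ W'.toSpecΓ :=
  (Scheme.toSpecΓ_naturality f).symm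

/-- the morphism from the affinization to an affine scheme induced by a morphism -/
noncomputable def affMap {W Z : Scheme.{u}} [IsAffine Z] (f : W ⟶ Z) : Aff W ⟶ Z :=
  affm f ≫ Z.isoSpec.inv

theorem η_affMap {W Z : Scheme.{u}} [IsAffine Z] (f : W ⟶ Z) : W.toSpecΓ ≫ affMap f = f := by
  unfold affMap
  rw [← Category.assoc, η_affm, Category.assoc, Scheme.toSpecΓ_isoSpec_inv, Category.comp_id]

theorem affm_affMap {W W' Z : Scheme.{u}} [IsAffine Z] (g : W ⟶ W') (f : W' ⟶ Z) :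
    affm g ≫ affMap f = affMap (g ≫ f) := by
  unfold affMap
  rw [← Category.assoc, ← affm_comp]

theorem affMap_comp {W Z Z' : Scheme.{u}} [IsAffine Z] [IsAffine Z'] (f : W ⟶ Z) (h : Z ⟶ Z') :
    affMap f ≫ h = affMap (f ≫ h) := by
  unfold affMap
  rw [affm_comp, Category.assoc, Category.assoc, Scheme.isoSpec_inv_naturality]

/-- morphisms from an affinization to an affine scheme are determined on the original scheme -/
theorem aff_hom_ext {W Z : Scheme.{u}} [IsAffine Z] {a b : Aff W ⟶ Z}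
    (h : W.toSpecΓ ≫ a = W.toSpecΓ ≫ b) : a = b := by
  have h1 : affm (W.toSpecΓ ≫ a) = affm (W.toSpecΓ ≫ b) := by rw [h]
  rw [affm_comp, affm_comp] at h1
  haveI : IsIso (affm W.toSpecΓ) := by
    unfold affm
    haveI : IsIso W.toSpecΓ.appTop := by
      rw [Scheme.toSpecΓ_appTop]; infer_instance
    infer_instance
  have h2 : affm a = affm b := (cancel_epi _).1 h1
  have h3 : a ≫ Z.toSpecΓ = b ≫ Z.toSpecΓ := by
    rw [← η_affm, ← η_affm, h2]
  exact (cancel_mono _).1 h3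

theorem affMap_η {W Z : Scheme.{u}} [IsAffine Z] (a : Aff W ⟶ Z) : affMap (W.toSpecΓ ≫ a) = a :=
  aff_hom_ext (η_affMap _)

/-- flat base change: the affinization of `V ×_S X` is `Aff V ×_S X` -/
theorem isPullback_aff {V S X W : Scheme.{u}} [IsAffine S] [IsAffine X] [CompactSpace V]
    [QuasiSeparatedSpace V] (a : V ⟶ S) (p : X ⟶ S) [Flat p] (pr₁ : W ⟶ V) (pr₂ : W ⟶ X)
    (H : IsPullback pr₁ pr₂ a p) :
    IsPullback (affm pr₁) (affMap pr₂) (affMap a) p := by
  refine IsPullback.of_iso (isPullback_affinization a p pr₁ pr₂ H) (Iso.refl _) (Iso.refl _)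
    X.isoSpec.symm S.isoSpec.symm ?_ ?_ ?_ ?_
  · simp
  · simp [affMap]
  · simp [affMap]
  · exact Scheme.isoSpec_inv_naturality p

end Groth.Agent.Lib.Helper9.QAff
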