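import Groth.Agent.Lib.Helper9.LimClosed1
set_option autoImplicit false
set_option linter.style.haveILetI false
set_option linter.unusedSectionVars false
universe u v
open CategoryTheory CategoryTheory.Limits AlgebraicGeometry TopologicalSpace

namespace Groth.Agent.Lib.Helper9.QAffImm

open Groth.Agent.Lib.Helper9.LimClosed

lemma isImmersion_ι_comp_congr {X S : Scheme.{u}} (f : X ⟶ S) {U U' : X.Opens} (e : U = U')
    (h : IsImmersion (U.ι ≫ f)) : IsImmersion (U'.ι ≫ f) := by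
  subst e; exact h

/-- A morphism whose range is covered by opens `V i` of the target such that the restrictions
`f⁻¹ (V i) ⟶ S` are immersions is an immersion. -/
lemma isImmersion_of_cover_range {X S : Scheme.{u}} (f : X ⟶ S) {ι : Type v} (V : ι → S.Opens)
    (hcov : Set.range f ⊆ ⋃ i, (V i : Set S)) (h : ∀ i, IsImmersion ((f ⁻¹ᵁ V i).ι ≫ f)) :
    IsImmersion f := by
  set Ω : S.Opens := ⨆ i, V i with hΩ
  have hr : Set.range f ⊆ Set.range Ω.ι := by
    rw [Scheme.Opens.range_ι]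
    intro x hx
    obtain ⟨i, hi⟩ := Set.mem_iUnion.1 (hcov hx)
    exact Opens.mem_iSup.2 ⟨i, hi⟩
  set f' : X ⟶ Ω.toScheme := IsOpenImmersion.lift Ω.ι f hr with hf'def
  have hf' : f' ≫ Ω.ι = f := IsOpenImmersion.lift_fac _ _ _
  suffices hs : IsImmersion f' by
    rw [← hf']; infer_instance
  have hU : ⨆ i, Ω.ι ⁻¹ᵁ V i = ⊤ := by
    apply top_le_iff.1
    intro x _
    obtain ⟨i, hi⟩ := Opens.mem_iSup.1 x.2
    exact Opens.mem_iSup.2 ⟨i, hi⟩
  rw [IsZariskiLocalAtTarget.iff_of_iSup_eq_top (P := @IsImmersion) (fun i => Ω.ι ⁻¹ᵁ V i) hU]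
  intro i
  have e1 : f' ⁻¹ᵁ (Ω.ι ⁻¹ᵁ V i) = f ⁻¹ᵁ V i := by
    rw [← Scheme.Hom.comp_preimage, hf']
  have h2 : IsImmersion ((f' ∣_ (Ω.ι ⁻¹ᵁ V i)) ≫ (Ω.ι ⁻¹ᵁ V i).ι ≫ Ω.ι) := by
    rw [← Category.assoc, morphismRestrict_ι, Category.assoc, hf']
    exact isImmersion_ι_comp_congr f e1.symm (h i)
  exact IsImmersion.of_comp _ ((Ω.ι ⁻¹ᵁ V i).ι ≫ Ω.ι)


section box

variable {X S : Scheme.{u}} (π : X ⟶ S) {n : Type u} (v : n → Γ(X, ⊤)) (k₀ : n) (V : S.Opens)

/-- the box open of affine space -/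
noncomputable def boxW : (𝔸(n; S)).Opens :=
  (𝔸(n; S) ↘ S) ⁻¹ᵁ V ⊓ (𝔸(n; S)).basicOpen (AffineSpace.coord S k₀)

lemma preimage_boxW (h : X.basicOpen (v k₀) ≤ π ⁻¹ᵁ V) :
    (AffineSpace.homOfVector π v) ⁻¹ᵁ boxW (S := S) k₀ V = X.basicOpen (v k₀) := by
  unfold boxW
  rw [Scheme.Hom.preimage_inf, ← Scheme.Hom.comp_preimage, AffineSpace.homOfVector_over,
    Scheme.preimage_basicOpen_top, AffineSpace.homOfVector_appTop_coord]
  exact inf_eq_right.2 h

lemma isAffineOpen_boxW (hV : IsAffineOpen V) : IsAffineOpen (boxW (n := n) (S := S) k₀ V) := by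
  have h1 : IsAffineOpen ((𝔸(n; S) ↘ S) ⁻¹ᵁ V) := hV.preimage _
  have h2 := h1.basicOpen ((𝔸(n; S)).presheaf.map (homOfLE le_top).op (AffineSpace.coord S k₀))
  rwa [Scheme.basicOpen_res] at h2

/-- restriction of a global section to an open -/
noncomputable abbrev resTop (X : Scheme.{u}) (U : X.Opens) : Γ(X, ⊤) ⟶ Γ(X, U) :=
  X.presheaf.map (homOfLE (le_top : U ≤ ⊤)).op

lemma surjective_appLE_boxW (h : X.basicOpen (v k₀) ≤ π ⁻¹ᵁ V)
    (hgen : ∀ T : Subring Γ(X, X.basicOpen (v k₀)),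
      Set.range (π.appLE V (X.basicOpen (v k₀)) h).hom ⊆ T →
      (∀ k, (resTop X (X.basicOpen (v k₀))).hom (v k) ∈ T) →
      (∀ z, z * (resTop X (X.basicOpen (v k₀))).hom (v k₀) = 1 → z ∈ T) → T = ⊤) :
    Function.Surjective ((AffineSpace.homOfVector π v).appLE (boxW (S := S) k₀ V)
      (X.basicOpen (v k₀)) (preimage_boxW π v k₀ V h).ge).hom := by
  set i := AffineSpace.homOfVector π v with hi
  set ρ := i.appLE (boxW (S := S) k₀ V) (X.basicOpen (v k₀)) (preimage_boxW π v k₀ V h).ge with hρ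
  have key : ρ.hom.range = ⊤ := by
    apply hgen
    · rintro _ ⟨a, rfl⟩
      have h1 : (𝔸(n; S) ↘ S).appLE V (boxW (S := S) k₀ V) inf_le_left ≫ ρ =
          π.appLE V (X.basicOpen (v k₀)) h := by
        rw [hρ, Scheme.Hom.appLE_comp_appLE]
        exact appLE_congr_hom (AffineSpace.homOfVector_over π v) _ _ _
      exact ⟨((𝔸(n; S) ↘ S).appLE V (boxW (S := S) k₀ V) inf_le_left).hom a,
        congrArg (fun φ => φ.hom a) h1⟩
    · intro k
      have h1 : resTop _ (boxW (S := S) k₀ V) ≫ ρ = i.appTop ≫ resTop X (X.basicOpen (v k₀)) := by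
        rw [hρ, Scheme.Hom.map_appLE]
        rfl
      refine ⟨(resTop _ (boxW (S := S) k₀ V)).hom (AffineSpace.coord S k), ?_⟩
      have h2 := congrArg (fun φ => φ.hom (AffineSpace.coord S k)) h1
      simp only [CommRingCat.hom_comp, RingHom.comp_apply] at h2
      rw [h2, hi]
      exact congrArg _ (AffineSpace.homOfVector_appTop_coord π v k)
    · intro z hz
      -- the coordinate `k₀` restricted to the box is a unit
      have hu : IsUnit ((resTop _ (boxW (S := S) k₀ V)).hom (AffineSpace.coord S k₀)) := by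
        have h3 := RingedSpace.isUnit_res_basicOpen (𝔸(n; S)).toRingedSpace
          (AffineSpace.coord S k₀)
        have h4 : (resTop _ (boxW (S := S) k₀ V)).hom (AffineSpace.coord S k₀) =
            ((𝔸(n; S)).presheaf.map (homOfLE (inf_le_right :
              boxW (S := S) k₀ V ≤ (𝔸(n; S)).basicOpen (AffineSpace.coord S k₀))).op).hom
            (((𝔸(n; S)).presheaf.map (homOfLE ((𝔸(n; S)).basicOpen_le
              (AffineSpace.coord S k₀))).op).hom (AffineSpace.coord S k₀)) := by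
          rw [← CommRingCat.comp_apply, ← Functor.map_comp]
          rfl
        rw [h4]
        exact h3.map _
      obtain ⟨w, hw⟩ := hu.exists_left_inv
      have h1 : resTop _ (boxW (S := S) k₀ V) ≫ ρ = i.appTop ≫ resTop X (X.basicOpen (v k₀)) := by
        rw [hρ, Scheme.Hom.map_appLE]
        rfl
      have h2 : ρ.hom ((resTop _ (boxW (S := S) k₀ V)).hom (AffineSpace.coord S k₀)) =
          (resTop X (X.basicOpen (v k₀))).hom (v k₀) := by
        have h2 := congrArg (fun φ => φ.hom (AffineSpace.coord S k₀)) h1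
        simp only [CommRingCat.hom_comp, RingHom.comp_apply] at h2
        rw [h2, hi]
        exact congrArg _ (AffineSpace.homOfVector_appTop_coord π v k₀)
      refine ⟨w, ?_⟩
      have h5 : ρ.hom w * (resTop X (X.basicOpen (v k₀))).hom (v k₀) = 1 := by
        rw [← h2, ← map_mul, hw, map_one]
      -- uniqueness of inverses
      calc ρ.hom w = ρ.hom w * ((resTop X (X.basicOpen (v k₀))).hom (v k₀) * z) := by
            rw [mul_comm _ z, hz, mul_one]
        _ = z := by rw [← mul_assoc, h5, one_mul]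
  intro b
  have : b ∈ ρ.hom.range := by rw [key]; trivial
  exact this


lemma isImmersion_restrict_boxW (hV : IsAffineOpen V) (hf : IsAffineOpen (X.basicOpen (v k₀)))
    (h : X.basicOpen (v k₀) ≤ π ⁻¹ᵁ V)
    (hgen : ∀ T : Subring Γ(X, X.basicOpen (v k₀)),
      Set.range (π.appLE V (X.basicOpen (v k₀)) h).hom ⊆ T →
      (∀ k, (resTop X (X.basicOpen (v k₀))).hom (v k) ∈ T) →
      (∀ z, z * (resTop X (X.basicOpen (v k₀))).hom (v k₀) = 1 → z ∈ T) → T = ⊤) :
    IsImmersion (((AffineSpace.homOfVector π v) ⁻¹ᵁ boxW (S := S) k₀ V).ι ≫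
      AffineSpace.homOfVector π v) := by
  set i := AffineSpace.homOfVector π v with hi
  have hpre := preimage_boxW π v k₀ V h
  have hci : IsClosedImmersion (i ∣_ boxW (S := S) k₀ V) := by
    apply isClosedImmersion_morphismRestrict_of_surjective i _ (isAffineOpen_boxW k₀ V hV)
    · rw [hpre]; exact hf
    · rw [Scheme.Hom.app_eq_appLE]
      exact (Scheme.Hom.appLE_congr i (U := boxW (S := S) k₀ V) (V := X.basicOpen (v k₀))
        hpre.ge rfl hpre.symm (fun φ => Function.Surjective φ)).1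
        (surjective_appLE_boxW π v k₀ V h hgen)
  rw [← morphismRestrict_ι]
  infer_instance

lemma hgen_of_data (fx : Γ(X, ⊤)) (hfx : v k₀ = fx) (hle : X.basicOpen fx ≤ π ⁻¹ᵁ V)
    (h : X.basicOpen (v k₀) ≤ π ⁻¹ᵁ V)
    (B : Finset Γ(X, X.basicOpen fx))
    (hB : ∀ T' : Subring Γ(X, X.basicOpen fx),
      Set.range (π.appLE V (X.basicOpen fx) hle).hom ⊆ T' →
      (B : Set Γ(X, X.basicOpen fx)) ⊆ T' → T' = ⊤)
    (hnum : ∀ b ∈ B, ∃ (k : n) (N : ℕ), b * ((resTop X (X.basicOpen fx)).hom fx) ^ N =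
      (resTop X (X.basicOpen fx)).hom (v k)) :
    ∀ T : Subring Γ(X, X.basicOpen (v k₀)),
      Set.range (π.appLE V (X.basicOpen (v k₀)) h).hom ⊆ T →
      (∀ k, (resTop X (X.basicOpen (v k₀))).hom (v k) ∈ T) →
      (∀ z, z * (resTop X (X.basicOpen (v k₀))).hom (v k₀) = 1 → z ∈ T) → T = ⊤ := by
  subst hfx
  intro T h1 h2 h3
  apply hB T h1
  intro b hb
  obtain ⟨k, N, hk⟩ := hnum b hb
  have hu : IsUnit ((resTop X (X.basicOpen (v k₀))).hom (v k₀)) :=
    RingedSpace.isUnit_res_basicOpen X.toRingedSpace (v k₀)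
  obtain ⟨z, hz⟩ := hu.exists_left_inv
  have hzT : z ∈ T := h3 z hz
  have hb' : b = (resTop X (X.basicOpen (v k₀))).hom (v k) * z ^ N := by
    calc b = b * (((resTop X (X.basicOpen (v k₀))).hom (v k₀)) ^ N * z ^ N) := by
          rw [← mul_pow, mul_comm _ z, hz, one_pow, mul_one]
      _ = (resTop X (X.basicOpen (v k₀))).hom (v k) * z ^ N := by rw [← mul_assoc, hk]
  rw [hb']
  exact mul_mem (h2 k) (pow_mem hzT N)

end box

/-- A quasi-affine scheme locally of finite type over `S` admits an immersion into some `𝔸ⁿ_S`. -/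
theorem exists_immersion {X S : Scheme.{u}} (π : X ⟶ S) [LocallyOfFiniteType π]
    [X.IsQuasiAffine] :
    ∃ (n : ℕ) (i : X ⟶ 𝔸(ULift.{u} (Fin n); S)),
      IsImmersion i ∧ i ≫ (𝔸(ULift.{u} (Fin n); S) ↘ S) = π := by
  classical
  -- local data
  have hloc : ∀ x : X, ∃ (f : Γ(X, ⊤)) (V : S.Opens), IsAffineOpen V ∧
      IsAffineOpen (X.basicOpen f) ∧ x ∈ X.basicOpen f ∧ X.basicOpen f ≤ π ⁻¹ᵁ V := by
    intro x
    obtain ⟨_, ⟨V, hV, rfl⟩, hxV, -⟩ := S.isBasis_affineOpens.exists_subset_of_mem_open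
      (Set.mem_univ (π x)) isOpen_univ
    obtain ⟨_, ⟨r, hr, rfl⟩, hxr, hle⟩ := (Opens.isBasis_iff_nbhd.mp
      (Scheme.IsQuasiAffine.isBasis_basicOpen X)) (show x ∈ π ⁻¹ᵁ V from hxV)
    exact ⟨r, V, hV, hr, hxr, hle⟩
  choose f V hV hf hxf hfV using hloc
  obtain ⟨T, hT⟩ := isCompact_univ.elim_finite_subcover (fun x => (X.basicOpen (f x) : Set X))
    (fun x => (X.basicOpen (f x)).isOpen) (fun x _ => Set.mem_iUnion.2 ⟨x, hxf x⟩)
  -- generators
  have hgenx : ∀ x : X, ∃ B : Finset Γ(X, X.basicOpen (f x)),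
      ∀ T' : Subring Γ(X, X.basicOpen (f x)),
        Set.range (π.appLE (V x) (X.basicOpen (f x)) (hfV x)).hom ⊆ T' →
        (B : Set Γ(X, X.basicOpen (f x))) ⊆ T' → T' = ⊤ := by
    intro x
    have hft := HasRingHomProperty.appLE (P := @LocallyOfFiniteType) π inferInstance
      ⟨V x, hV x⟩ ⟨X.basicOpen (f x), hf x⟩ (hfV x)
    letI : Algebra Γ(S, V x) Γ(X, X.basicOpen (f x)) :=
      (π.appLE (V x) (X.basicOpen (f x)) (hfV x)).hom.toAlgebra
    have hft' : Algebra.FiniteType Γ(S, V x) Γ(X, X.basicOpen (f x)) := hft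
    obtain ⟨B, hB⟩ := (Algebra.FiniteType.out :
      (⊤ : Subalgebra Γ(S, V x) Γ(X, X.basicOpen (f x))).FG)
    refine ⟨B, fun T' h1 h2 => ?_⟩
    let T'' : Subalgebra Γ(S, V x) Γ(X, X.basicOpen (f x)) :=
      { toSubsemiring := T'.toSubsemiring
        algebraMap_mem' := fun a => h1 ⟨a, rfl⟩ }
    have h3 : T'' = ⊤ := by
      apply top_le_iff.1
      rw [← hB]
      exact Algebra.adjoin_le h2
    apply top_le_iff.1
    intro b _
    have : b ∈ T'' := by rw [h3]; trivial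
    exact this
  choose B hB using hgenx
  -- numerators
  have hnum : ∀ (x : X) (b : Γ(X, X.basicOpen (f x))), ∃ (g : Γ(X, ⊤)) (N : ℕ),
      b * ((resTop X (X.basicOpen (f x))).hom (f x)) ^ N =
        (resTop X (X.basicOpen (f x))).hom g := by
    intro x b
    have hloc := isLocalization_basicOpen_of_qcqs (X := X) (U := ⊤) isCompact_univ
      isQuasiSeparated_univ (f x)
    obtain ⟨⟨g, ⟨_, N, rfl⟩⟩, hg⟩ := IsLocalization.surj (Submonoid.powers (f x)) b
    refine ⟨g, N, ?_⟩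
    simp only [map_pow] at hg
    exact hg
  choose g N hgN using hnum
  -- the index type
  let ι₀ : Type u := ↥T ⊕ (Σ x : ↥T, ↥(B x.1))
  let n : ℕ := Fintype.card ι₀
  let e : ι₀ ≃ Fin n := Fintype.equivFin ι₀
  let vv : ι₀ → Γ(X, ⊤) := fun k => match k with
    | Sum.inl x => f x.1
    | Sum.inr ⟨x, b⟩ => g x.1 b.1
  let v : ULift.{u} (Fin n) → Γ(X, ⊤) := fun k => vv (e.symm k.down)
  let kk : ι₀ → ULift.{u} (Fin n) := fun k => ⟨e k⟩
  have hvkk : ∀ k, v (kk k) = vv k := fun k => by simp [v, kk]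
  refine ⟨n, AffineSpace.homOfVector π v, ?_, AffineSpace.homOfVector_over π v⟩
  have hk₀ : ∀ x : ↥T, v (kk (Sum.inl x)) = f x.1 := fun x => hvkk _
  apply isImmersion_of_cover_range _ (fun x : ↥T => boxW (S := S) (kk (Sum.inl x)) (V x.1))
  · rintro _ ⟨p, rfl⟩
    have hp := hT (Set.mem_univ p)
    simp only [Set.mem_iUnion] at hp
    obtain ⟨x, hxT, hpx⟩ := hp
    refine Set.mem_iUnion.2 ⟨⟨x, hxT⟩, ?_⟩
    have h1 : p ∈ (AffineSpace.homOfVector π v) ⁻¹ᵁ boxW (S := S) (kk (Sum.inl ⟨x, hxT⟩)) (V x) := by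
      rw [preimage_boxW π v _ _ (by rw [hk₀]; exact hfV x), hk₀]
      exact hpx
    exact h1
  · intro x
    have hfx : X.basicOpen (v (kk (Sum.inl x))) ≤ π ⁻¹ᵁ V x.1 := by rw [hk₀]; exact hfV x.1
    apply isImmersion_restrict_boxW π v (kk (Sum.inl x)) (V x.1) (hV x.1)
      (by rw [hk₀]; exact hf x.1) hfx
    apply hgen_of_data π v (kk (Sum.inl x)) (V x.1) (f x.1) (hk₀ x) (hfV x.1) hfx (B x.1)
      (hB x.1)
    intro b hb
    exact ⟨kk (Sum.inr ⟨x, ⟨b, hb⟩⟩), N x.1 b, by rw [hvkk]; exact hgN x.1 b⟩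

end Groth.Agent.Lib.Helper9.QAffImm
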