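import Mathlib
import Groth.Prelude.Def_Grpd
import Groth.Agent.Lib.Helper3.GrpdPt

set_option backward.isDefEq.respectTransparency false
set_option maxHeartbeats 800000
set_option autoImplicit false
set_option linter.unusedSectionVars false
set_option linter.unusedVariables false
universe u
open CategoryTheory CategoryTheory.Limits AlgebraicGeometry Opposite

namespace Groth.Agent.Lib.Helper9.QS

open Grpd Groth.Agent.Lib.Helper3.GrpdSub Groth.Agent.Lib.Helper3.GP

section ind

variable {S : Scheme.{u}} (G : GroupoidScheme S) {U' : Scheme.{u}} (u : U' ⟶ G.U)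

/-- `v : V = R ×_{t,U} U' ⟶ U`, the source map on arrows with target in `U'` -/
noncomputable def v : pullback G.t u ⟶ G.U := pullback.fst G.t u ≫ G.s

/-- arrows with source and target in `U'` -/
noncomputable def R' : Scheme.{u} := pullback (v G u) u

/-- the underlying arrow -/
noncomputable def ρ : R' G u ⟶ G.R := pullback.fst (v G u) u ≫ pullback.fst G.t u

/-- the target map of the induced groupoid -/
noncomputable def t' : R' G u ⟶ U' := pullback.fst (v G u) u ≫ pullback.snd G.t u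

/-- the source map of the induced groupoid -/
noncomputable def s' : R' G u ⟶ U' := pullback.snd (v G u) u

@[reassoc]
theorem ρ_t : ρ G u ≫ G.t = t' G u ≫ u := by
  rw [ρ, t', Category.assoc, Category.assoc, pullback.condition]

@[reassoc]
theorem ρ_s : ρ G u ≫ G.s = s' G u ≫ u := by
  rw [ρ, s', Category.assoc, ← pullback.condition]
  rfl

/-- a point of `V` -/
noncomputable def mkV {T : Scheme.{u}} (r : T ⟶ G.R) (a : T ⟶ U') (ha : r ≫ G.t = a ≫ u) :
    T ⟶ pullback G.t u := pullback.lift r a ha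

@[reassoc (attr := simp)]
theorem mkV_fst {T : Scheme.{u}} (r : T ⟶ G.R) (a : T ⟶ U') (ha : r ≫ G.t = a ≫ u) :
    mkV G u r a ha ≫ pullback.fst G.t u = r := pullback.lift_fst _ _ _

@[reassoc (attr := simp)]
theorem mkV_snd {T : Scheme.{u}} (r : T ⟶ G.R) (a : T ⟶ U') (ha : r ≫ G.t = a ≫ u) :
    mkV G u r a ha ≫ pullback.snd G.t u = a := pullback.lift_snd _ _ _

@[reassoc (attr := simp)]
theorem mkV_v {T : Scheme.{u}} (r : T ⟶ G.R) (a : T ⟶ U') (ha : r ≫ G.t = a ≫ u) :
    mkV G u r a ha ≫ v G u = r ≫ G.s := by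
  rw [v, ← Category.assoc, mkV_fst]

/-- a point of `R'` -/
noncomputable def mk {T : Scheme.{u}} (r : T ⟶ G.R) (a b : T ⟶ U') (ha : r ≫ G.t = a ≫ u)
    (hb : r ≫ G.s = b ≫ u) : T ⟶ R' G u :=
  pullback.lift (mkV G u r a ha) b (by rw [mkV_v, hb])

@[reassoc (attr := simp)]
theorem mk_ρ {T : Scheme.{u}} (r : T ⟶ G.R) (a b : T ⟶ U') (ha : r ≫ G.t = a ≫ u)
    (hb : r ≫ G.s = b ≫ u) : mk G u r a b ha hb ≫ ρ G u = r := by
  rw [mk, ρ, pullback.lift_fst_assoc, mkV_fst]

@[reassoc (attr := simp)]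
theorem mk_t' {T : Scheme.{u}} (r : T ⟶ G.R) (a b : T ⟶ U') (ha : r ≫ G.t = a ≫ u)
    (hb : r ≫ G.s = b ≫ u) : mk G u r a b ha hb ≫ t' G u = a := by
  rw [mk, t', pullback.lift_fst_assoc, mkV_snd]

@[reassoc (attr := simp)]
theorem mk_s' {T : Scheme.{u}} (r : T ⟶ G.R) (a b : T ⟶ U') (ha : r ≫ G.t = a ≫ u)
    (hb : r ≫ G.s = b ≫ u) : mk G u r a b ha hb ≫ s' G u = b := by
  rw [mk, s', pullback.lift_snd]

variable [Mono u]

instance mono_ρ : Mono (ρ G u) := by
  unfold ρ
  infer_instance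

theorem hom_ext' {T : Scheme.{u}} (x y : T ⟶ R' G u) (h : x ≫ ρ G u = y ≫ ρ G u) : x = y := by
  rwa [cancel_mono] at h

/-- composition of the induced groupoid -/
noncomputable def c' : pullback (s' G u) (t' G u) ⟶ R' G u :=
  mk G u (cmp G (pullback.fst (s' G u) (t' G u) ≫ ρ G u) (pullback.snd (s' G u) (t' G u) ≫ ρ G u))
    (pullback.fst (s' G u) (t' G u) ≫ t' G u) (pullback.snd (s' G u) (t' G u) ≫ s' G u)
    (by
      rw [cmp_t (by rw [Category.assoc, Category.assoc, ρ_s, ρ_t, pullback.condition_assoc]),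
        Category.assoc, Category.assoc, ρ_t])
    (by
      rw [cmp_s (by rw [Category.assoc, Category.assoc, ρ_s, ρ_t, pullback.condition_assoc]),
        Category.assoc, Category.assoc, ρ_s])

theorem ind_hc {T : Scheme.{u}} (α β : T ⟶ R' G u) (h : α ≫ s' G u = β ≫ t' G u) :
    (pullback.lift α β h ≫ c' G u) ≫ ρ G u = cmp G (α ≫ ρ G u) (β ≫ ρ G u) := by
  rw [Category.assoc, c', mk_ρ, precomp_cmp, pullback.lift_fst_assoc, pullback.lift_snd_assoc]
  rw [Category.assoc, Category.assoc, ρ_s, ρ_t, pullback.condition_assoc]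

theorem ρ_comp_s {T : Scheme.{u}} (α β : T ⟶ R' G u) (h : α ≫ s' G u = β ≫ t' G u) :
    (α ≫ ρ G u) ≫ G.s = (β ≫ ρ G u) ≫ G.t := by
  rw [Category.assoc, Category.assoc, ρ_s, ρ_t, ← Category.assoc, ← Category.assoc, h]

/-- the groupoid induced on `U'` by a monomorphism `u : U' ⟶ U` -/
noncomputable def ind : GroupoidScheme S where
  U := U'
  R := R' G u
  pU := u ≫ G.pU
  pR := ρ G u ≫ G.pR
  s := s' G u
  t := t' G u
  e := mk G u (u ≫ G.e) (𝟙 _) (𝟙 _) (by rw [Category.assoc, G.e_t, Category.comp_id, Category.id_comp])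
    (by rw [Category.assoc, G.e_s, Category.comp_id, Category.id_comp])
  i := mk G u (ρ G u ≫ G.i) (s' G u) (t' G u) (by rw [Category.assoc, G.i_t, ρ_s])
    (by rw [Category.assoc, G.i_s, ρ_t])
  c := c' G u
  s_over := by rw [← Category.assoc, ← ρ_s, Category.assoc, G.s_over]
  t_over := by rw [← Category.assoc, ← ρ_t, Category.assoc, G.t_over]
  comp_s := by
    intro T α β h
    rw [Category.assoc, c', mk_s', pullback.lift_snd_assoc]
  comp_t := by
    intro T α β h
    rw [Category.assoc, c', mk_t', pullback.lift_fst_assoc]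
  assoc := by
    intro T α β γ h₁ h₂
    apply hom_ext' G u
    rw [ind_hc, ind_hc, ind_hc, ind_hc]
    exact cmp_assoc (ρ_comp_s G u α β h₁) (ρ_comp_s G u β γ h₂)
  e_s := mk_s' G u _ _ _ _ _
  e_t := mk_t' G u _ _ _ _ _
  comp_e := by
    intro T α
    apply hom_ext' G u
    rw [ind_hc]
    have : (α ≫ s' G u ≫ mk G u (u ≫ G.e) (𝟙 _) (𝟙 _)
        (by rw [Category.assoc, G.e_t, Category.comp_id, Category.id_comp])
        (by rw [Category.assoc, G.e_s, Category.comp_id, Category.id_comp])) ≫ ρ G u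
        = ((α ≫ ρ G u) ≫ G.s) ≫ G.e := by
      simp only [Category.assoc, mk_ρ, ρ_s_assoc]
    rw [this]
    exact cmp_e_right rfl
  e_comp := by
    intro T α
    apply hom_ext' G u
    rw [ind_hc]
    have : (α ≫ t' G u ≫ mk G u (u ≫ G.e) (𝟙 _) (𝟙 _)
        (by rw [Category.assoc, G.e_t, Category.comp_id, Category.id_comp])
        (by rw [Category.assoc, G.e_s, Category.comp_id, Category.id_comp])) ≫ ρ G u
        = ((α ≫ ρ G u) ≫ G.t) ≫ G.e := by
      simp only [Category.assoc, mk_ρ, ρ_t_assoc]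
    rw [this]
    exact cmp_e_left rfl
  i_s := mk_s' G u _ _ _ _ _
  i_t := mk_t' G u _ _ _ _ _
  comp_i := by
    intro T α
    apply hom_ext' G u
    rw [ind_hc]
    simp only [Category.assoc, mk_ρ]
    rw [← Category.assoc α, cmp_i_right]
    simp only [Category.assoc, ρ_t_assoc]
  i_comp := by
    intro T α
    apply hom_ext' G u
    rw [ind_hc]
    simp only [Category.assoc, mk_ρ]
    rw [← Category.assoc α, cmp_i_left]
    simp only [Category.assoc, ρ_s_assoc]

end ind

end Groth.Agent.Lib.Helper9.QS
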