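import Mathlib
import Groth.Prelude.Def_Grpd
import Groth.Agent.Lib.Helper9.QSInd

set_option backward.isDefEq.respectTransparency false
set_option maxHeartbeats 800000
set_option autoImplicit false
set_option linter.unusedSectionVars false
set_option linter.unusedVariables false
universe u
open CategoryTheory CategoryTheory.Limits AlgebraicGeometry Opposite

namespace Groth.Agent.Lib.Helper9.QS

open Grpd Groth.Agent.Lib.Helper3.GrpdSub Groth.Agent.Lib.Helper3.GP

section basic

variable {S : Scheme.{u}} (G : GroupoidScheme S)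

theorem c_t : G.c ≫ G.t = pullback.fst G.s G.t ≫ G.t := by
  have h := G.comp_t (pullback.fst G.s G.t) (pullback.snd G.s G.t) pullback.condition
  have h1 : pullback.lift (pullback.fst G.s G.t) (pullback.snd G.s G.t) pullback.condition
      = 𝟙 _ := by
    apply pullback.hom_ext <;> simp
  rw [h1, Category.id_comp] at h
  exact h

theorem c_s : G.c ≫ G.s = pullback.snd G.s G.t ≫ G.s := by
  have h := G.comp_s (pullback.fst G.s G.t) (pullback.snd G.s G.t) pullback.condition
  have h1 : pullback.lift (pullback.fst G.s G.t) (pullback.snd G.s G.t) pullback.condition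
      = 𝟙 _ := by
    apply pullback.hom_ext <;> simp
  rw [h1, Category.id_comp] at h
  exact h

/-- composition on topological points -/
theorem exists_comp_pt (r₁ r₂ : G.R) (h : G.s r₁ = G.t r₂) :
    ∃ r : G.R, G.t r = G.t r₁ ∧ G.s r = G.s r₂ := by
  obtain ⟨z, hz1, hz2⟩ := Scheme.Pullback.exists_preimage_pullback (f := G.s) (g := G.t) r₁ r₂ h
  refine ⟨G.c z, ?_, ?_⟩
  · rw [← Scheme.Hom.comp_apply, c_t, Scheme.Hom.comp_apply, hz1]
  · rw [← Scheme.Hom.comp_apply, c_s, Scheme.Hom.comp_apply, hz2]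

theorem i_pt_s (r : G.R) : G.s (G.i r) = G.t r := by
  rw [← Scheme.Hom.comp_apply, G.i_s]

theorem i_pt_t (r : G.R) : G.t (G.i r) = G.s r := by
  rw [← Scheme.Hom.comp_apply, G.i_t]

end basic

section facts

variable {S : Scheme.{u}} (G : GroupoidScheme S) {U' : Scheme.{u}} (u : U' ⟶ G.U)

instance [IsFinite (v G u)] : IsFinite (s' G u) := by unfold s'; infer_instance

instance [Flat (v G u)] : Flat (s' G u) := by unfold s'; infer_instance

instance [LocallyOfFinitePresentation (v G u)] : LocallyOfFinitePresentation (s' G u) := by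
  unfold s'; infer_instance

instance [Surjective (v G u)] : Surjective (s' G u) := by unfold s'; infer_instance

theorem ρ_t_pt (r : R' G u) : G.t (ρ G u r) = u (t' G u r) := by
  rw [← Scheme.Hom.comp_apply, ρ_t, Scheme.Hom.comp_apply]

theorem ρ_s_pt (r : R' G u) : G.s (ρ G u r) = u (s' G u r) := by
  rw [← Scheme.Hom.comp_apply, ρ_s, Scheme.Hom.comp_apply]

/-- the orbit hypothesis of the finite locally free quotient theorem, for the induced groupoid -/
theorem ind_hb
    (h2 : ∀ E : Set U', (∀ x ∈ E, ∀ y ∈ E, ∃ r : G.R, G.t.base r = u.base x ∧ G.s.base r = u.base y) →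
      ∃ W : U'.Opens, IsAffineOpen W ∧ E ⊆ (W : Set U')) (x : U') :
    ∃ V : U'.Opens, IsAffineOpen V ∧ (t' G u).base '' ((s' G u).base ⁻¹' {x}) ⊆ (V : Set U') := by
  apply h2
  rintro _ ⟨r₁, hr₁, rfl⟩ _ ⟨r₂, hr₂, rfl⟩
  have h : G.s (ρ G u r₁) = G.t (G.i (ρ G u r₂)) := by
    rw [i_pt_t, ρ_s_pt, ρ_s_pt]
    congr 1
    exact hr₁.trans hr₂.symm
  obtain ⟨r, hr1, hr2⟩ := exists_comp_pt G _ _ h
  refine ⟨r, ?_, ?_⟩
  · rw [hr1, ρ_t_pt]
  · rw [hr2, i_pt_s, ρ_t_pt]

end facts

end Groth.Agent.Lib.Helper9.QS
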