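import Mathlib
import Groth.Prelude.Def_Grpd
import Groth.Agent.Lib.Helper9.QSFacts

set_option backward.isDefEq.respectTransparency false
set_option maxHeartbeats 800000
set_option autoImplicit false
set_option linter.unusedSectionVars false
set_option linter.unusedVariables false
universe u
open CategoryTheory CategoryTheory.Limits AlgebraicGeometry Opposite

namespace Groth.Agent.Lib.Helper9.QS

open Grpd Groth.Agent.Lib.Helper3.GrpdSub Groth.Agent.Lib.Helper3.GP

section desc

variable {S : Scheme.{u}} (G : GroupoidScheme S) {U' : Scheme.{u}} (u : U' ⟶ G.U) [Mono u]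
  {Y : Scheme.{u}} (p' : U' ⟶ Y) (w' : t' G u ≫ p' = s' G u ≫ p')

include w' in
/-- equivalent points of `U'` have the same image in the quotient of the induced groupoid -/
theorem p'_eq_of_arrow {T : Scheme.{u}} (r : T ⟶ G.R) (a b : T ⟶ U') (ha : r ≫ G.t = a ≫ u)
    (hb : r ≫ G.s = b ≫ u) : a ≫ p' = b ≫ p' := by
  have h1 := congrArg (mk G u r a b ha hb ≫ ·) w'
  simp only [mk_t'_assoc, mk_s'_assoc] at h1
  exact h1

include w' in
theorem desc_cond {Z : Scheme.{u}} (g₁ g₂ : Z ⟶ pullback G.t u) (h : g₁ ≫ v G u = g₂ ≫ v G u) :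
    g₁ ≫ pullback.snd G.t u ≫ p' = g₂ ≫ pullback.snd G.t u ≫ p' := by
  have h0 : (g₁ ≫ pullback.fst G.t u) ≫ G.s = (g₂ ≫ pullback.fst G.t u) ≫ G.s := by
    simpa only [v, Category.assoc] using h
  have h1 : (g₁ ≫ pullback.fst G.t u) ≫ G.s = ((g₂ ≫ pullback.fst G.t u) ≫ G.i) ≫ G.t := by
    rw [i_t', h0]
  rw [← Category.assoc, ← Category.assoc]
  refine p'_eq_of_arrow G u p' w'
    (cmp G (g₁ ≫ pullback.fst G.t u) ((g₂ ≫ pullback.fst G.t u) ≫ G.i)) _ _ ?_ ?_
  · rw [cmp_t h1, Category.assoc, Category.assoc, pullback.condition]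
  · rw [cmp_s h1, i_s', Category.assoc, Category.assoc, pullback.condition]

variable [Flat (v G u)] [Surjective (v G u)] [QuasiCompact (v G u)]

/-- the quotient map `U ⟶ Y`, obtained by fpqc descent along `v` -/
noncomputable def p : G.U ⟶ Y :=
  EffectiveEpi.desc (v G u) (pullback.snd G.t u ≫ p') (fun g₁ g₂ h => desc_cond G u p' w' g₁ g₂ h)

@[reassoc]
theorem v_p : v G u ≫ p G u p' w' = pullback.snd G.t u ≫ p' :=
  EffectiveEpi.fac _ _ _

@[reassoc]
theorem u_p : u ≫ p G u p' w' = p' := by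
  have h1 : mkV G u (u ≫ G.e) (𝟙 U') (by rw [e_t', Category.id_comp]) ≫ v G u = u := by
    rw [mkV_v, e_s']
  calc u ≫ p G u p' w' = (mkV G u (u ≫ G.e) (𝟙 U') (by rw [e_t', Category.id_comp]) ≫ v G u) ≫
        p G u p' w' := by rw [h1]
    _ = p' := by rw [Category.assoc, v_p, mkV_snd_assoc, Category.id_comp]

/-- arrows `r` together with an arrow `r₁` into `U'` from the target of `r` -/
theorem epi_snd : Epi (pullback.snd (v G u) G.t) := Flat.epi_of_flat_of_surjective _

theorem t_p : G.t ≫ p G u p' w' = G.s ≫ p G u p' w' := by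
  haveI := epi_snd G u
  rw [← cancel_epi (pullback.snd (v G u) G.t)]
  have hc : (pullback.fst (v G u) G.t ≫ pullback.fst G.t u) ≫ G.s = pullback.snd (v G u) G.t ≫ G.t := by
    rw [Category.assoc, ← pullback.condition]; rfl
  have h1 : pullback.snd (v G u) G.t ≫ G.t ≫ p G u p' w' =
      (pullback.fst (v G u) G.t ≫ pullback.snd G.t u) ≫ p' := by
    rw [← pullback.condition_assoc, v_p, Category.assoc]
  have h2 : pullback.snd (v G u) G.t ≫ G.s ≫ p G u p' w' =
      (pullback.fst (v G u) G.t ≫ pullback.snd G.t u) ≫ p' := by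
    have h3 : mkV G u (cmp G (pullback.fst (v G u) G.t ≫ pullback.fst G.t u) (pullback.snd (v G u) G.t))
        (pullback.fst (v G u) G.t ≫ pullback.snd G.t u)
        (by rw [cmp_t hc, Category.assoc, Category.assoc, pullback.condition]) ≫ v G u =
        pullback.snd (v G u) G.t ≫ G.s := by
      rw [mkV_v, cmp_s hc]
    rw [← Category.assoc, ← h3, Category.assoc, v_p, mkV_snd_assoc]
  rw [h1, h2]

variable (hc' : IsColimit (Cofork.ofπ p' w'))

include hc' in
theorem epi_p' : Epi p' := by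
  have := epi_of_isColimit_cofork hc'
  simpa using this

theorem epi_v : Epi (v G u) := Flat.epi_of_flat_of_surjective _

/-- the descended morphism out of the quotient -/
noncomputable def descY {Z : Scheme.{u}} (f : G.U ⟶ Z) (hf : G.t ≫ f = G.s ≫ f) : Y ⟶ Z :=
  Cofork.IsColimit.desc hc' (u ≫ f) (by
    rw [← ρ_t_assoc, hf, ρ_s_assoc])

theorem p'_descY {Z : Scheme.{u}} (f : G.U ⟶ Z) (hf : G.t ≫ f = G.s ≫ f) :
    p' ≫ descY G u p' w' hc' f hf = u ≫ f :=
  Cofork.IsColimit.π_desc' hc' _ _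

theorem p_descY {Z : Scheme.{u}} (f : G.U ⟶ Z) (hf : G.t ≫ f = G.s ≫ f) :
    p G u p' w' ≫ descY G u p' w' hc' f hf = f := by
  haveI := epi_v G u
  rw [← cancel_epi (v G u), v_p_assoc, p'_descY, ← pullback.condition_assoc, hf, v, Category.assoc]

/-- `p` is a coequalizer of `(t, s)` -/
noncomputable def isColimit_p : IsColimit (Cofork.ofπ (p G u p' w') (t_p G u p' w')) :=
  Cofork.IsColimit.mk _
    (fun c => descY G u p' w' hc' c.π c.condition)
    (fun c => p_descY G u p' w' hc' c.π c.condition)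
    (fun c m hm => by
      haveI := epi_p' G u p' w' hc'
      rw [← cancel_epi p', p'_descY]
      have : p' ≫ m = u ≫ (p G u p' w' ≫ m) := by rw [u_p_assoc]
      rw [this]
      exact congrArg (u ≫ ·) hm)

end desc

end Groth.Agent.Lib.Helper9.QS
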