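import Mathlib
import Groth.Prelude.Def_Grpd
import Groth.Agent.Lib.Helper9.QSDesc
import Groth.Agent.Lib.Helper15.FlatSch

set_option backward.isDefEq.respectTransparency false
set_option maxHeartbeats 800000
set_option autoImplicit false
set_option linter.unusedSectionVars false
set_option linter.unusedVariables false
universe u
open CategoryTheory CategoryTheory.Limits AlgebraicGeometry Opposite

namespace Groth.Agent.Lib.Helper9.QS

open Grpd Groth.Agent.Lib.Helper3.GrpdSub Groth.Agent.Lib.Helper3.GP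

section loc

variable {S : Scheme.{u}} (G : GroupoidScheme S) {U' : Scheme.{u}} (u : U' ⟶ G.U) [Mono u]
  {Y : Scheme.{u}} (p' : U' ⟶ Y) (w' : t' G u ≫ p' = s' G u ≫ p')
  [Flat (v G u)] [Surjective (v G u)] [QuasiCompact (v G u)]

/-- Morita transfer of arrows: from lifts to `V` of `x`, `y` and an arrow of the induced groupoid
between the targets, get an arrow between `x` and `y`. -/
theorem exists_arrow_of_lifts {T : Scheme.{u}} (x y : T ⟶ G.U) (g₁ g₂ : T ⟶ pullback G.t u)
    (h₁ : g₁ ≫ v G u = x) (h₂ : g₂ ≫ v G u = y) (m : T ⟶ R' G u)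
    (hm₁ : m ≫ t' G u = g₁ ≫ pullback.snd G.t u) (hm₂ : m ≫ s' G u = g₂ ≫ pullback.snd G.t u) :
    ∃ r : T ⟶ G.R, r ≫ G.t = x ∧ r ≫ G.s = y := by
  have e1 : (g₁ ≫ pullback.fst G.t u) ≫ G.s = x := by rw [Category.assoc]; exact h₁
  have e2 : (g₂ ≫ pullback.fst G.t u) ≫ G.s = y := by rw [Category.assoc]; exact h₂
  have e3 : (g₁ ≫ pullback.fst G.t u) ≫ G.t = (g₁ ≫ pullback.snd G.t u) ≫ u := by
    rw [Category.assoc, Category.assoc, pullback.condition]
  have e4 : (g₂ ≫ pullback.fst G.t u) ≫ G.t = (g₂ ≫ pullback.snd G.t u) ≫ u := by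
    rw [Category.assoc, Category.assoc, pullback.condition]
  have e5 : (m ≫ ρ G u) ≫ G.t = (g₁ ≫ pullback.snd G.t u) ≫ u := by
    rw [Category.assoc, ρ_t, ← Category.assoc, hm₁]
  have e6 : (m ≫ ρ G u) ≫ G.s = (g₂ ≫ pullback.snd G.t u) ≫ u := by
    rw [Category.assoc, ρ_s, ← Category.assoc, hm₂]
  have c1 : ((g₁ ≫ pullback.fst G.t u) ≫ G.i) ≫ G.s = (m ≫ ρ G u) ≫ G.t := by
    rw [i_s', e3, e5]
  have c2 : cmp G ((g₁ ≫ pullback.fst G.t u) ≫ G.i) (m ≫ ρ G u) ≫ G.s =
      (g₂ ≫ pullback.fst G.t u) ≫ G.t := by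
    rw [cmp_s c1, e6, e4]
  refine ⟨cmp G (cmp G ((g₁ ≫ pullback.fst G.t u) ≫ G.i) (m ≫ ρ G u)) (g₂ ≫ pullback.fst G.t u),
    ?_, ?_⟩
  · rw [cmp_t c2, cmp_t c1, i_t', e1]
  · rw [cmp_s c2, e2]

/-- local existence of arrows between points with the same image in the quotient -/
theorem exists_local_arrow (P : MorphismProperty Scheme.{u})
    (hbc : ∀ {X Y Z : Scheme.{u}} (f : X ⟶ Z) (g : Y ⟶ Z), P g → P (pullback.fst f g))
    (hcomp : ∀ {X Y Z : Scheme.{u}} (f : X ⟶ Y) (g : Y ⟶ Z), P f → P g → P (f ≫ g))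
    (hv : P (v G u))
    (H' : ∀ {T : Scheme.{u}} (a b : T ⟶ U'), a ≫ p' = b ≫ p' →
      ∃ (T' : Scheme.{u}) (π : T' ⟶ T), P π ∧ ∃ m : T' ⟶ R' G u,
        m ≫ t' G u = π ≫ a ∧ m ≫ s' G u = π ≫ b)
    {T : Scheme.{u}} (x y : T ⟶ G.U) (hxy : x ≫ p G u p' w' = y ≫ p G u p' w') :
    ∃ (T' : Scheme.{u}) (π : T' ⟶ T), P π ∧ ∃ r : T' ⟶ G.R,
      r ≫ G.t = π ≫ x ∧ r ≫ G.s = π ≫ y := by
  -- first cover: lift `x`
  let π₁ : pullback x (v G u) ⟶ T := pullback.fst x (v G u)
  let g₁ : pullback x (v G u) ⟶ pullback G.t u := pullback.snd x (v G u)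
  have hg₁ : g₁ ≫ v G u = π₁ ≫ x := pullback.condition.symm
  -- second cover: lift `y`
  let π₂ : pullback (π₁ ≫ y) (v G u) ⟶ pullback x (v G u) := pullback.fst (π₁ ≫ y) (v G u)
  let g₂ : pullback (π₁ ≫ y) (v G u) ⟶ pullback G.t u := pullback.snd (π₁ ≫ y) (v G u)
  have hg₂ : g₂ ≫ v G u = π₂ ≫ π₁ ≫ y := pullback.condition.symm
  have hP₁ : P π₁ := hbc _ _ hv
  have hP₂ : P π₂ := hbc _ _ hv
  have hab : ((π₂ ≫ g₁) ≫ pullback.snd G.t u) ≫ p' = (g₂ ≫ pullback.snd G.t u) ≫ p' := by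
    have e1 : ((π₂ ≫ g₁) ≫ pullback.snd G.t u) ≫ p' = π₂ ≫ (g₁ ≫ v G u) ≫ p G u p' w' := by
      simp only [Category.assoc]; rw [v_p]
    have e2 : (g₂ ≫ pullback.snd G.t u) ≫ p' = (g₂ ≫ v G u) ≫ p G u p' w' := by
      simp only [Category.assoc]; rw [v_p]
    rw [e1, e2, hg₁, hg₂]
    simp only [Category.assoc]
    rw [hxy]
  obtain ⟨T₃, π₃, hP₃, m, hm₁, hm₂⟩ := H' _ _ hab
  refine ⟨T₃, π₃ ≫ π₂ ≫ π₁, hcomp _ _ hP₃ (hcomp _ _ hP₂ hP₁), ?_⟩
  refine exists_arrow_of_lifts G u _ _ (π₃ ≫ π₂ ≫ g₁) (π₃ ≫ g₂) ?_ ?_ m ?_ ?_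
  · simp only [Category.assoc]; rw [hg₁]
  · simp only [Category.assoc]; rw [hg₂]
  · rw [hm₁]; simp only [Category.assoc]
  · rw [hm₂]; simp only [Category.assoc]

end loc

section props

variable {S : Scheme.{u}} (G : GroupoidScheme S) {U' : Scheme.{u}} (u : U' ⟶ G.U) [Mono u]
  {Y : Scheme.{u}} (p' : U' ⟶ Y) (w' : t' G u ≫ p' = s' G u ≫ p')
  [Flat (v G u)] [Surjective (v G u)] [QuasiCompact (v G u)]

theorem surjective_p [Surjective p'] : Surjective (p G u p' w') := by
  haveI : Surjective (u ≫ p G u p' w') := by rw [u_p]; infer_instance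
  exact Surjective.of_comp u _

theorem lift_surjective (hl' : Function.Surjective (pullback.lift (t' G u) (s' G u) w')) :
    Function.Surjective (pullback.lift G.t G.s (t_p G u p' w')) := by
  haveI : Surjective (pullback.lift (t' G u) (s' G u) w') := ⟨hl'⟩
  obtain ⟨T', π, hπ, r, hr1, hr2⟩ := exists_local_arrow G u p' w' @Surjective
    (fun f g hg => by haveI : Surjective g := hg; infer_instance)
    (fun f g hf hg => by haveI : Surjective f := hf; haveI : Surjective g := hg; infer_instance)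
    inferInstance
    (fun {T} a b hab => ⟨pullback (pullback.lift a b hab) (pullback.lift (t' G u) (s' G u) w'),
      pullback.fst _ _, inferInstance, pullback.snd _ _, by
        have := pullback.condition (f := pullback.lift a b hab)
          (g := pullback.lift (t' G u) (s' G u) w')
        have h1 := congrArg (· ≫ pullback.fst p' p') this
        simp only [Category.assoc, pullback.lift_fst] at h1
        exact h1.symm, by
        have := pullback.condition (f := pullback.lift a b hab)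
          (g := pullback.lift (t' G u) (s' G u) w')
        have h1 := congrArg (· ≫ pullback.snd p' p') this
        simp only [Category.assoc, pullback.lift_snd] at h1
        exact h1.symm⟩)
    (pullback.fst (p G u p' w') (p G u p' w')) (pullback.snd (p G u p' w') (p G u p' w'))
    pullback.condition
  have hrπ : r ≫ pullback.lift G.t G.s (t_p G u p' w') = π := by
    apply pullback.hom_ext
    · rw [Category.assoc, pullback.lift_fst, hr1]
    · rw [Category.assoc, pullback.lift_snd, hr2]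
  intro z
  obtain ⟨z', rfl⟩ := hπ.surj z
  exact ⟨r z', by rw [← Scheme.Hom.comp_apply, hrπ]⟩

theorem p_eq_iff (hl' : Function.Surjective (pullback.lift (t' G u) (s' G u) w')) (x y : G.U) :
    p G u p' w' x = p G u p' w' y ↔ ∃ r : G.R, G.t r = x ∧ G.s r = y := by
  constructor
  · intro h
    obtain ⟨z, hz1, hz2⟩ := Scheme.Pullback.exists_preimage_pullback
      (f := p G u p' w') (g := p G u p' w') x y h
    obtain ⟨r, rfl⟩ := lift_surjective G u p' w' hl' z
    refine ⟨r, ?_, ?_⟩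
    · rw [← hz1, ← Scheme.Hom.comp_apply, pullback.lift_fst]
    · rw [← hz2, ← Scheme.Hom.comp_apply, pullback.lift_snd]
  · rintro ⟨r, rfl, rfl⟩
    rw [← Scheme.Hom.comp_apply, ← Scheme.Hom.comp_apply, t_p]

theorem isOpenMap_p (hl' : Function.Surjective (pullback.lift (t' G u) (s' G u) w'))
    (hs' : Function.Surjective p') (hop' : IsOpenMap p') (ht : IsOpenMap G.t) :
    IsOpenMap (p G u p' w') := by
  intro W hW
  have h1 : p G u p' w' '' W = p' '' (p' ⁻¹' (p G u p' w' '' W)) :=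
    (Set.image_preimage_eq _ hs').symm
  rw [h1]
  apply hop'
  have h2 : p' ⁻¹' (p G u p' w' '' W) = u ⁻¹' (G.t '' (G.s ⁻¹' W)) := by
    ext x'
    simp only [Set.mem_preimage, Set.mem_image]
    have hx' : p' x' = p G u p' w' (u x') := by
      rw [← Scheme.Hom.comp_apply, u_p]
    constructor
    · rintro ⟨w, hw, hpw⟩
      rw [hx'] at hpw
      obtain ⟨r, hr1, hr2⟩ := (p_eq_iff G u p' w' hl' _ _).1 hpw.symm
      exact ⟨r, by rw [hr2]; exact hw, hr1⟩
    · rintro ⟨r, hr, hr1⟩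
      refine ⟨G.s r, hr, ?_⟩
      rw [hx', ← hr1]
      exact ((p_eq_iff G u p' w' hl' _ _).2 ⟨r, rfl, rfl⟩).symm
  rw [h2]
  exact (ht _ (hW.preimage G.s.continuous)).preimage u.continuous

theorem universallyClosed_p [UniversallyClosed p'] [UniversallyClosed G.t] :
    UniversallyClosed (p G u p' w') := by
  haveI : UniversallyClosed (v G u ≫ p G u p' w') := by
    rw [v_p]; infer_instance
  exact UniversallyClosed.of_comp_surjective (v G u) _

theorem flat_p [Flat p'] [Flat G.t] : Flat (p G u p' w') := by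
  haveI : Flat (v G u ≫ p G u p' w') := by
    rw [v_p]; infer_instance
  exact Groth.Agent.Lib.Helper15.flat_of_flat_comp_of_surjective_flat (v G u) _

theorem hom_ext_R [Mono G.j] {Z : Scheme.{u}} (c c' : Z ⟶ G.R) (ht : c ≫ G.t = c' ≫ G.t)
    (hs : c ≫ G.s = c' ≫ G.s) : c = c' := by
  rw [← cancel_mono G.j]
  apply pullback.hom_ext
  · simpa [GroupoidScheme.j] using ht
  · simpa [GroupoidScheme.j] using hs

instance mono_j' [Mono G.j] : Mono (ind G u).j := by
  constructor
  intro Z a b hab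
  apply hom_ext' G u
  apply hom_ext_R G
  · have h1 := congrArg (· ≫ pullback.fst _ _) hab
    simp only [Category.assoc, GroupoidScheme.j, pullback.lift_fst] at h1
    rw [Category.assoc, Category.assoc, ρ_t]
    exact congrArg (· ≫ u) h1
  · have h1 := congrArg (· ≫ pullback.snd _ _) hab
    simp only [Category.assoc, GroupoidScheme.j, pullback.lift_snd] at h1
    rw [Category.assoc, Category.assoc, ρ_s]
    exact congrArg (· ≫ u) h1

theorem exists_lift [Mono G.j] (hpb' : IsPullback (t' G u) (s' G u) p' p') {T : Scheme.{u}}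
    (x y : T ⟶ G.U) (hxy : x ≫ p G u p' w' = y ≫ p G u p' w') :
    ∃ r : T ⟶ G.R, r ≫ G.t = x ∧ r ≫ G.s = y := by
  obtain ⟨T', π, ⟨hπ1, hπ2, hπ3⟩, r, hr1, hr2⟩ := exists_local_arrow G u p' w'
    (fun {X Y} f => Flat f ∧ Surjective f ∧ QuasiCompact f)
    (fun f g hg => by
      obtain ⟨h1, h2, h3⟩ := hg
      exact ⟨inferInstance, inferInstance, inferInstance⟩)
    (fun f g hf hg => by
      obtain ⟨h1, h2, h3⟩ := hf
      obtain ⟨h4, h5, h6⟩ := hg
      exact ⟨inferInstance, inferInstance, inferInstance⟩)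
    ⟨inferInstance, inferInstance, inferInstance⟩
    (fun {T} a b hab => ⟨T, 𝟙 T, ⟨inferInstance, inferInstance, inferInstance⟩,
      hpb'.lift a b hab, by rw [hpb'.lift_fst, Category.id_comp],
      by rw [hpb'.lift_snd, Category.id_comp]⟩)
    x y hxy
  haveI := hπ1; haveI := hπ2; haveI := hπ3
  have hd : ∀ {Z : Scheme.{u}} (g₁ g₂ : Z ⟶ T'), g₁ ≫ π = g₂ ≫ π → g₁ ≫ r = g₂ ≫ r := by
    intro Z g₁ g₂ h
    apply hom_ext_R G
    · rw [Category.assoc, Category.assoc, hr1, ← Category.assoc, ← Category.assoc, h]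
    · rw [Category.assoc, Category.assoc, hr2, ← Category.assoc, ← Category.assoc, h]
  haveI : Epi π := Flat.epi_of_flat_of_surjective π
  refine ⟨EffectiveEpi.desc π r hd, ?_, ?_⟩
  · rw [← cancel_epi π, ← Category.assoc, EffectiveEpi.fac, hr1]
  · rw [← cancel_epi π, ← Category.assoc, EffectiveEpi.fac, hr2]

theorem isPullback_p [Mono G.j] (hpb' : IsPullback (t' G u) (s' G u) p' p') :
    IsPullback G.t G.s (p G u p' w') (p G u p' w') := by
  refine ⟨⟨t_p G u p' w'⟩, ⟨PullbackCone.IsLimit.mk _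
    (fun c => (exists_lift G u p' w' hpb' c.fst c.snd c.condition).choose)
    (fun c => (exists_lift G u p' w' hpb' c.fst c.snd c.condition).choose_spec.1)
    (fun c => (exists_lift G u p' w' hpb' c.fst c.snd c.condition).choose_spec.2)
    (fun c m hm1 hm2 => ?_)⟩⟩
  apply hom_ext_R G
  · rw [hm1, (exists_lift G u p' w' hpb' c.fst c.snd c.condition).choose_spec.1]
  · rw [hm2, (exists_lift G u p' w' hpb' c.fst c.snd c.condition).choose_spec.2]

end props

end Groth.Agent.Lib.Helper9.QS
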