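import Groth.Agent.Lib.Helper9.RC1

set_option backward.isDefEq.respectTransparency false
set_option maxHeartbeats 800000
set_option synthInstance.maxHeartbeats 400000
set_option autoImplicit false
set_option linter.unusedSectionVars false
set_option linter.unusedVariables false
universe u
open CategoryTheory CategoryTheory.Limits AlgebraicGeometry Opposite MonoidalCategory CartesianMonoidalCategory

namespace Groth.Agent.Lib.Helper9.RC

open MonObj
open Groth.Agent.Lib.Helper9.GalGrp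
open Groth.Agent.Lib.Helper14

section E

variable {S S' : Scheme.{u}} (f : S' ⟶ S) (G : Over S) [GrpObj G] (Z' : Over S') [GrpObj Z']
  (z' : Z' ⟶ Red.bc f G) [IsMonHom z']
  (hMT : SGA3x.IsMultTypeFT Z')
  (hc : ∀ (X : Over S') (x : X ⟶ Z') (g : X ⟶ Red.bc f G), (x ≫ z') * g = g * (x ≫ z'))
  (hU : ∀ (S'' : Scheme.{u}) (f' : S'' ⟶ S') (H : Over S'') [GrpObj H]
      (v : H ⟶ Red.bc f' (Red.bc f G)) [IsMonHom v], SGA3x.IsMultTypeFT H →
      (∀ (X : Over S'') (x : X ⟶ H) (g : X ⟶ Red.bc f' (Red.bc f G)), (x ≫ v) * g = g * (x ≫ v)) →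
      ∃ w : H ⟶ Red.bc f' Z', w ≫ (Over.pullback f').map z' = v)

include hMT hc hU in
theorem exists_transport {T : Scheme.{u}} (x₀ x₁ : T ⟶ S') (h : x₀ ≫ f = x₁ ≫ f)
    (v : T ⟶ Z'.left) (hv : v ≫ Z'.hom = x₀) :
    ∃ v' : T ⟶ Z'.left, v' ≫ Z'.hom = x₁ ∧
      v' ≫ z'.left ≫ pullback.fst G.hom f = v ≫ z'.left ≫ pullback.fst G.hom f := by
  -- the comparison isomorphism
  let c : Red.bc x₀ (Red.bc f G) ≅ Red.bc x₁ (Red.bc f G) :=
    bcc x₀ f (x₀ ≫ f) rfl G ≪≫ (bcc x₁ f (x₀ ≫ f) h.symm G).symm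
  haveI : IsMonHom c.hom := by
    change IsMonHom ((bcc x₀ f (x₀ ≫ f) rfl G).hom ≫ (bcc x₁ f (x₀ ≫ f) h.symm G).inv)
    infer_instance
  let vH : Red.bc x₀ Z' ⟶ Red.bc x₁ (Red.bc f G) := (Over.pullback x₀).map z' ≫ c.hom
  haveI : IsMonHom vH := by
    change IsMonHom ((Over.pullback x₀).map z' ≫ c.hom)
    infer_instance
  have hMT' : SGA3x.IsMultTypeFT (Red.bc x₀ Z') := MTSplitD.locTriv_bc Z' _ hMT x₀
  have hcen : ∀ (X : Over T) (x : X ⟶ Red.bc x₀ Z') (g : X ⟶ Red.bc x₁ (Red.bc f G)),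
      (x ≫ vH) * g = g * (x ≫ vH) := by
    intro X x g
    have hg : g = (g ≫ c.inv) ≫ c.hom := by simp
    have e1 : x ≫ vH = (x ≫ (Over.pullback x₀).map z') ≫ c.hom := by
      simp [vH]
    rw [e1, hg, ← MonObj.mul_comp, ← MonObj.mul_comp]
    congr 1
    exact central_bc x₀ z' hc X x (g ≫ c.inv)
  obtain ⟨w, hw⟩ := hU T x₁ (Red.bc x₀ Z') vH hMT' hcen
  let σ : T ⟶ (Red.bc x₀ Z').left := pullback.lift v (𝟙 T) (by rw [hv, Category.id_comp])
  refine ⟨σ ≫ w.left ≫ pullback.fst Z'.hom x₁, ?_, ?_⟩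
  · have hw' : w.left ≫ pullback.snd Z'.hom x₁ = pullback.snd Z'.hom x₀ := Over.w w
    rw [Category.assoc, Category.assoc, pullback.condition, reassoc_of% hw']
    simp [σ]
    exact Category.id_comp _
  · have e1 : pullback.fst Z'.hom x₁ ≫ z'.left =
        ((Over.pullback x₁).map z').left ≫ pullback.fst (Red.bc f G).hom x₁ :=
      (MTDescent.pullback_map_left_fst x₁ z').symm
    have e2 : w.left ≫ ((Over.pullback x₁).map z').left = vH.left := by
      rw [← Over.comp_left, hw]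
    have e3 : vH.left = ((Over.pullback x₀).map z').left ≫ c.hom.left := rfl
    have e4 : c.hom.left ≫ pullback.fst (Red.bc f G).hom x₁ ≫ pullback.fst G.hom f =
        pullback.fst (Red.bc f G).hom x₀ ≫ pullback.fst G.hom f := by
      change ((bcc x₀ f (x₀ ≫ f) rfl G).hom ≫ (bcc x₁ f (x₀ ≫ f) h.symm G).inv).left ≫ _ = _
      rw [Over.comp_left, Category.assoc, bcc_inv_left_fst, bcc_hom_left_fst]
    have e5 : ((Over.pullback x₀).map z').left ≫ pullback.fst (Red.bc f G).hom x₀ =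
        pullback.fst Z'.hom x₀ ≫ z'.left := MTDescent.pullback_map_left_fst x₀ z'
    calc (σ ≫ w.left ≫ pullback.fst Z'.hom x₁) ≫ z'.left ≫ pullback.fst G.hom f
        = σ ≫ w.left ≫ (pullback.fst Z'.hom x₁ ≫ z'.left) ≫ pullback.fst G.hom f := by
          simp only [Category.assoc]
      _ = σ ≫ (w.left ≫ ((Over.pullback x₁).map z').left) ≫
            pullback.fst (Red.bc f G).hom x₁ ≫ pullback.fst G.hom f := by
          rw [e1]; simp only [Category.assoc]
      _ = σ ≫ ((Over.pullback x₀).map z').left ≫ c.hom.left ≫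
            pullback.fst (Red.bc f G).hom x₁ ≫ pullback.fst G.hom f := by
          rw [e2, e3]; simp only [Category.assoc]
      _ = σ ≫ (((Over.pullback x₀).map z').left ≫ pullback.fst (Red.bc f G).hom x₀) ≫
            pullback.fst G.hom f := by
          rw [e4]; simp only [Category.assoc]
      _ = v ≫ z'.left ≫ pullback.fst G.hom f := by
          rw [e5]
          simp only [Category.assoc]
          rw [← Category.assoc σ]
          congr 1
          exact pullback.lift_fst _ _ _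

end E

end Groth.Agent.Lib.Helper9.RC
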