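import Groth.Agent.Lib.Helper9.RC2
import Groth.Agent.Lib.Helper9.DescMain2
import Groth.Agent.Lib.Helper9.DescFF1
import Groth.Agent.Lib.Helper4.FpqcCov
import Groth.Agent.Lib.Helper14.MTGlueB

set_option backward.isDefEq.respectTransparency false
set_option maxHeartbeats 800000
set_option synthInstance.maxHeartbeats 400000
set_option autoImplicit false
set_option linter.unusedSectionVars false
set_option linter.unusedVariables false
universe u
open CategoryTheory CategoryTheory.Limits AlgebraicGeometry Opposite MonoidalCategory CartesianMonoidalCategory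

namespace Groth.Agent.Lib.Helper9.RC

open MonObj
open Groth.Agent.Lib.Helper9.GalGrp
open Groth.Agent.Lib.Helper14

theorem mem_fpqc_of_cov {Z Y : Scheme.{u}} (q : Z ⟶ Y) [Flat q] [Surjective q]
    (hcov : ∀ V : Y.Opens, IsAffineOpen V →
      ∃ W : Z.Opens, IsCompact (W : Set Z) ∧ q.base '' (W : Set Z) = (V : Set Y)) :
    Presieve.ofArrows (fun _ : PUnit.{u + 1} => Z) (fun _ => q) ∈ Scheme.fpqcPrecoverage Y := by
  rw [Presieve.ofArrows_pUnit]
  have hqcc := Groth.Agent.Lib.Helper4.FpqcCov.qcc_of_cov q hcov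
  refine ⟨?_, ?_⟩
  · rw [← PreZeroHypercover.presieve₀_singleton.{_, _, 0} q,
      Scheme.presieve₀_mem_qcPrecoverage_iff]
    exact hqcc
  · grind [Scheme.singleton_mem_precoverage_iff]

section DD

variable {S S' : Scheme.{u}} (f : S' ⟶ S) (G : Over S) [GrpObj G] (Z' : Over S') [GrpObj Z']
  (z' : Z' ⟶ Red.bc f G) [IsMonHom z'] [Mono z']
  (hMT : SGA3x.IsMultTypeFT Z')
  (hc : ∀ (X : Over S') (x : X ⟶ Z') (g : X ⟶ Red.bc f G), (x ≫ z') * g = g * (x ≫ z'))
  (hU : ∀ (S'' : Scheme.{u}) (f' : S'' ⟶ S') (H : Over S'') [GrpObj H]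
      (v : H ⟶ Red.bc f' (Red.bc f G)) [IsMonHom v], SGA3x.IsMultTypeFT H →
      (∀ (X : Over S'') (x : X ⟶ H) (g : X ⟶ Red.bc f' (Red.bc f G)), (x ≫ v) * g = g * (x ≫ v)) →
      ∃ w : H ⟶ Red.bc f' Z', w ≫ (Over.pullback f').map z' = v)

omit [GrpObj G] [GrpObj Z'] [IsMonHom z'] in
theorem transport_unique {T : Scheme.{u}} (a b : T ⟶ Z'.left) (hab : a ≫ Z'.hom = b ≫ Z'.hom)
    (hab' : a ≫ z'.left ≫ pullback.fst G.hom f = b ≫ z'.left ≫ pullback.fst G.hom f) : a = b := by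
  rw [← cancel_mono z'.left]
  apply pullback.hom_ext
  · simpa using hab'
  · have : z'.left ≫ pullback.snd G.hom f = Z'.hom := Over.w z'
    rw [Category.assoc, Category.assoc, this, hab]

/-- transport of points along the descent datum -/
noncomputable def tr {T : Scheme.{u}} (x₀ x₁ : T ⟶ S') (h : x₀ ≫ f = x₁ ≫ f)
    (v : Desc.Lifts Z' x₀) : Desc.Lifts Z' x₁ :=
  ⟨(exists_transport f G Z' z' hMT hc hU x₀ x₁ h v.1 v.2).choose,
    (exists_transport f G Z' z' hMT hc hU x₀ x₁ h v.1 v.2).choose_spec.1⟩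

theorem tr_spec {T : Scheme.{u}} (x₀ x₁ : T ⟶ S') (h : x₀ ≫ f = x₁ ≫ f)
    (v : Desc.Lifts Z' x₀) :
    (tr f G Z' z' hMT hc hU x₀ x₁ h v).1 ≫ z'.left ≫ pullback.fst G.hom f =
      v.1 ≫ z'.left ≫ pullback.fst G.hom f :=
  (exists_transport f G Z' z' hMT hc hU x₀ x₁ h v.1 v.2).choose_spec.2

theorem eq_tr {T : Scheme.{u}} (x₀ x₁ : T ⟶ S') (h : x₀ ≫ f = x₁ ≫ f)
    (v : Desc.Lifts Z' x₀) (v' : Desc.Lifts Z' x₁)
    (hv : v'.1 ≫ z'.left ≫ pullback.fst G.hom f = v.1 ≫ z'.left ≫ pullback.fst G.hom f) :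
    v' = tr f G Z' z' hMT hc hU x₀ x₁ h v := by
  apply Subtype.ext
  apply transport_unique f G Z' z'
  · rw [v'.2, (tr f G Z' z' hMT hc hU x₀ x₁ h v).2]
  · rw [hv, tr_spec]

/-- the descent datum on the reductive centre -/
noncomputable def dd : Desc.SchDDFam (fun _ : PUnit.{u + 1} => f) where
  obj _ := Z'
  φ T i j x₀ x₁ h :=
    { toFun := tr f G Z' z' hMT hc hU x₀ x₁ h
      invFun := tr f G Z' z' hMT hc hU x₁ x₀ h.symm
      left_inv := fun v => by
        symm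
        apply Subtype.ext
        apply transport_unique f G Z' z'
        · rw [v.2, (tr f G Z' z' hMT hc hU x₁ x₀ h.symm _).2]
        · rw [tr_spec, tr_spec]
      right_inv := fun v => by
        symm
        apply Subtype.ext
        apply transport_unique f G Z' z'
        · rw [v.2, (tr f G Z' z' hMT hc hU x₀ x₁ h _).2]
        · rw [tr_spec, tr_spec] }
  φ_natural T T' g i j x₀ x₁ h y₀ y₁ hy₀ hy₁ h' v v' hv' := by
    subst hy₀ hy₁
    apply transport_unique f G Z' z'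
    · change (tr f G Z' z' hMT hc hU (g ≫ x₀) (g ≫ x₁) h' v').1 ≫ _ =
        (g ≫ (tr f G Z' z' hMT hc hU x₀ x₁ h v).1) ≫ _
      rw [(tr f G Z' z' hMT hc hU (g ≫ x₀) (g ≫ x₁) h' v').2, Category.assoc,
        (tr f G Z' z' hMT hc hU x₀ x₁ h v).2]
    · change (tr f G Z' z' hMT hc hU (g ≫ x₀) (g ≫ x₁) h' v').1 ≫ _ =
        (g ≫ (tr f G Z' z' hMT hc hU x₀ x₁ h v).1) ≫ _
      rw [tr_spec, Category.assoc, tr_spec, hv', Category.assoc]
  φ_self T i x v := by
    symm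
    apply Subtype.ext
    apply transport_unique f G Z' z'
    · rw [v.2]; exact (tr f G Z' z' hMT hc hU x x rfl v).2.symm
    · exact (tr_spec f G Z' z' hMT hc hU x x rfl v).symm
  φ_comp T i j k x₀ x₁ x₂ h₀₁ h₁₂ v := by
    apply Subtype.ext
    apply transport_unique f G Z' z'
    · change (tr f G Z' z' hMT hc hU x₁ x₂ h₁₂ (tr f G Z' z' hMT hc hU x₀ x₁ h₀₁ v)).1 ≫ _ =
        (tr f G Z' z' hMT hc hU x₀ x₂ (h₀₁.trans h₁₂) v).1 ≫ _
      rw [(tr f G Z' z' hMT hc hU x₁ x₂ h₁₂ _).2, (tr f G Z' z' hMT hc hU x₀ x₂ _ v).2]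
    · change (tr f G Z' z' hMT hc hU x₁ x₂ h₁₂ (tr f G Z' z' hMT hc hU x₀ x₁ h₀₁ v)).1 ≫ _ =
        (tr f G Z' z' hMT hc hU x₀ x₂ (h₀₁.trans h₁₂) v).1 ≫ _
      rw [tr_spec, tr_spec, tr_spec]

/-- the inclusion, as a morphism of descent data -/
noncomputable def ζ : dd f G Z' z' hMT hc hU ⟶ (Desc.toDDFam (fun _ : PUnit.{u + 1} => f)).obj G where
  hom _ := Over.homMk (z'.left ≫ (pullbackSymmetry G.hom f).hom) (by
    have : z'.left ≫ pullback.snd G.hom f = Z'.hom := Over.w z'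
    change (z'.left ≫ (pullbackSymmetry G.hom f).hom) ≫ pullback.fst f G.hom = Z'.hom
    rw [Category.assoc, pullbackSymmetry_hom_comp_fst, this])
  comm T i j x₀ x₁ h v w hw := by
    change (Desc.canMapFam (fun _ : PUnit.{u + 1} => f) G (i := i) (j := j) x₀ x₁ h w).1 =
      ((tr f G Z' z' hMT hc hU x₀ x₁ h v).1 ≫
        (z'.left ≫ (pullbackSymmetry G.hom f).hom) : T ⟶ pullback f G.hom)
    have hw' : w.1 = v.1 ≫ z'.left ≫ (pullbackSymmetry G.hom f).hom := hw
    rw [Desc.canMapFam_val]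
    apply pullback.hom_ext
    · rw [pullback.lift_fst]
      have : z'.left ≫ pullback.snd G.hom f = Z'.hom := Over.w z'
      simp only [Category.assoc, pullbackSymmetry_hom_comp_fst]
      rw [this]
      exact (tr f G Z' z' hMT hc hU x₀ x₁ h v).2.symm
    · rw [pullback.lift_snd, hw']
      simp only [Category.assoc, pullbackSymmetry_hom_comp_snd]
      exact (tr_spec f G Z' z' hMT hc hU x₀ x₁ h v).symm

end DD

end Groth.Agent.Lib.Helper9.RC
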