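import Groth.Agent.Lib.Helper9.RC6
import Groth.Agent.Lib.Helper4.QuotGrp

set_option backward.isDefEq.respectTransparency false
set_option maxHeartbeats 800000
set_option synthInstance.maxHeartbeats 400000
set_option autoImplicit false
set_option linter.unusedSectionVars false
set_option linter.unusedVariables false
universe u
open CategoryTheory CategoryTheory.Limits AlgebraicGeometry Opposite MonoidalCategory CartesianMonoidalCategory

namespace Groth.Agent.Lib.Helper9.RC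

open MonObj
open Groth.Agent.Lib.Helper9.GalGrp
open Groth.Agent.Lib.Helper14
open Groth.Agent.Lib.Helper4.FpqcCov Groth.Agent.Lib.Helper4.QuotGrp

section fin

variable {S S' : Scheme.{u}} (f : S' ⟶ S) [Flat f] [Surjective f]
  (hcov : ∀ V : S.Opens, IsAffineOpen V →
      ∃ W : S'.Opens, IsCompact (W : Set S') ∧ f.base '' (W : Set S') = (V : Set S))
  (G : Over S) [GrpObj G] (Z' : Over S') [GrpObj Z']
  (z' : Z' ⟶ Red.bc f G) [IsMonHom z'] [Mono z']
  (Z₀ : Over S) [GrpObj Z₀] (z : Z₀ ⟶ G) [IsMonHom z] (e : Red.bc f Z₀ ≅ Z')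
  (he : e.hom ≫ z' = (Over.pullback f).map z)

noncomputable local instance instGrpHom3 (G : Over S) [GrpObj G] (A : Over S') :
    Group (A ⟶ (Over.pullback f).obj G) := Hom.group

include he in
theorem isMonHom_e : IsMonHom e.hom :=
  isMonHom_of_comp_mono e.hom z' ((Over.pullback f).map z) he

include he in
theorem central_z (hc : ∀ (X : Over S') (x : X ⟶ Z') (g : X ⟶ Red.bc f G), (x ≫ z') * g = g * (x ≫ z'))
    (X : Over S) (x : X ⟶ Z₀) (g : X ⟶ G) : (x ≫ z) * g = g * (x ≫ z) := by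
  apply MTDescent.hom_ext_of_flat_surj f
  rw [Functor.map_mul, Functor.map_mul, Functor.map_comp, ← he, ← Category.assoc]
  exact hc _ _ _

include he hcov in
theorem multType_Z₀ (hMT : SGA3x.IsMultTypeFT Z') : SGA3x.IsMultTypeFT Z₀ := by
  haveI := isMonHom_e f G Z' z' Z₀ z e he
  obtain ⟨S'', g, hfl, hsj, hcov', hloc⟩ := hMT
  haveI := hfl
  haveI := hsj
  have hcomp : IsCov (g ≫ f) :=
    IsCov.comp ⟨hsj, hfl, hcov'⟩ ⟨‹Surjective f›, ‹Flat f›, hcov⟩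
  refine ⟨S'', g ≫ f, hcomp.2.1, hcomp.1, hcomp.2.2, fun s'' => ?_⟩
  obtain ⟨U, hU, M, iM, hFG, ⟨e₀⟩⟩ := hloc s''
  refine ⟨U, hU, M, iM, hFG, ⟨?_ ≪≫ e₀⟩⟩
  let i1 : Red.bc (U.ι ≫ g ≫ f) Z₀ ≅ Red.bc (U.ι ≫ g) (Red.bc f Z₀) :=
    (bcc (U.ι ≫ g) f (U.ι ≫ g ≫ f) (by simp) Z₀).symm
  let i2 : Red.bc (U.ι ≫ g) (Red.bc f Z₀) ≅ Red.bc (U.ι ≫ g) Z' :=
    (Over.pullback (U.ι ≫ g)).mapIso e
  haveI : IsMonHom (i1 ≪≫ i2).hom := by
    change IsMonHom ((bcc (U.ι ≫ g) f (U.ι ≫ g ≫ f) (by simp) Z₀).inv ≫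
      (Over.pullback (U.ι ≫ g)).map e.hom)
    infer_instance
  exact Grp.mkIso' (i1 ≪≫ i2)

end fin

end Groth.Agent.Lib.Helper9.RC
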