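import Groth.Agent.S18735
import Groth.Agent.Lib.Helper9.MProd6

set_option autoImplicit false
universe u
open CategoryTheory CategoryTheory.Limits AlgebraicGeometry TopologicalSpace

namespace Groth.Agent.Lib.Helper9.RCalc

open Groth.Agent.Lib.Helper29.EffCart Groth.Agent.Lib.Helper9.MProd

/-- two morphisms from a scheme with schematically dense open `U`, equal on `U` and equal after
composing with a separated morphism, are equal. -/
lemma eq_of_eq_on_dense {X Y Z : Scheme.{u}} (f₁ f₂ : X ⟶ Y) (s : Y ⟶ Z) [IsSeparated s]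
    (h : f₁ ≫ s = f₂ ≫ s) (U : X.Opens) (hU : U.ι.ker = ⊥) (hf : U.ι ≫ f₁ = U.ι ≫ f₂) :
    f₁ = f₂ := by
  let XZ : Over Z := Over.mk (f₁ ≫ s)
  let YZ : Over Z := Over.mk s
  let F₁ : XZ ⟶ YZ := Over.homMk f₁ rfl
  let F₂ : XZ ⟶ YZ := Over.homMk f₂ h.symm
  have : IsSeparated YZ.hom := by change IsSeparated s; infer_instance
  let e := (equalizer.ι F₁ F₂).left
  have he : IsClosedImmersion e := inferInstance
  let UZ : Over Z := Over.mk (U.ι ≫ f₁ ≫ s)
  let j : UZ ⟶ XZ := Over.homMk U.ι rfl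
  have hj : j ≫ F₁ = j ≫ F₂ := by
    ext
    exact hf
  let l := equalizer.lift j hj
  have hl : l.left ≫ e = U.ι := by
    have := congrArg (fun φ : UZ ⟶ XZ => φ.left) (equalizer.lift_ι j hj)
    exact this
  have hker : e.ker = ⊥ := by
    have h1 := Groth.Agent.Lib.Helper9.ABlow.ker_le_ker_comp l.left e
    rw [hl, hU] at h1
    exact le_bot_iff.1 h1
  have hiso : IsIso e := by
    refine IsClosedImmersion.isIso_of_ker_eq e (𝟙 X) e (Category.comp_id _) ?_
    rw [hker]
    exact (IsSchemeTheoreticallyDominant.ker_eq_bot (𝟙 X)).symm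
  have h2 : e ≫ f₁ = e ≫ f₂ := by
    have := congrArg (fun φ => CommaMorphism.left φ) (equalizer.condition F₁ F₂)
    exact this
  exact (cancel_epi e).1 h2

end Groth.Agent.Lib.Helper9.RCalc
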