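import Groth.Agent.Lib.Helper9.QAff5
import Groth.Agent.S0117
import Groth.Agent.S2912

set_option backward.isDefEq.respectTransparency false
set_option autoImplicit false
set_option linter.unusedSectionVars false
set_option linter.unusedVariables false
universe u
open CategoryTheory CategoryTheory.Limits AlgebraicGeometry Opposite

namespace Groth.Agent.Lib.Helper9.Rad

section thick

variable {S' S : Scheme.{u}} (g : S' ⟶ S) [UniversallyInjective g]

instance surjective_diagonal : Surjective (pullback.diagonal g) :=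
  (UniversallyInjective.iff_diagonal g).1 inferInstance

instance isClosedImmersion_diagonal : IsClosedImmersion (pullback.diagonal g) := by
  refine .of_isPreimmersion _ ?_
  have : Set.range (pullback.diagonal g) = Set.univ :=
    Set.range_eq_univ.2 (pullback.diagonal g).surjective
  rw [this]; exact isClosed_univ

variable {T : Scheme.{u}} (x₀ x₁ : T ⟶ S') (hx : x₀ ≫ g = x₁ ≫ g)

/-- the closed subscheme of `T`, with the same underlying space, where two points agree -/
noncomputable abbrev T₀ : Scheme.{u} := pullback (pullback.lift x₀ x₁ hx) (pullback.diagonal g)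

/-- its inclusion -/
noncomputable abbrev jT : T₀ g x₀ x₁ hx ⟶ T := pullback.fst (pullback.lift x₀ x₁ hx) (pullback.diagonal g)

instance : IsClosedImmersion (jT g x₀ x₁ hx) := inferInstance
instance : Surjective (jT g x₀ x₁ hx) := inferInstance

theorem jT_eq : jT g x₀ x₁ hx ≫ x₀ = jT g x₀ x₁ hx ≫ x₁ := by
  have c : jT g x₀ x₁ hx ≫ pullback.lift x₀ x₁ hx =
      pullback.snd (pullback.lift x₀ x₁ hx) (pullback.diagonal g) ≫ pullback.diagonal g :=
    pullback.condition
  have c1 := congrArg (· ≫ pullback.fst g g) c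
  have c2 := congrArg (· ≫ pullback.snd g g) c
  simp only [Category.assoc, pullback.lift_fst, pullback.lift_snd, pullback.diagonal_fst,
    pullback.diagonal_snd, Category.comp_id] at c1 c2
  rw [c1, c2]

theorem exists_fac {A : Scheme.{u}} (a : A ⟶ T) (ha : a ≫ x₀ = a ≫ x₁) :
    ∃ k : A ⟶ T₀ g x₀ x₁ hx, k ≫ jT g x₀ x₁ hx = a := by
  refine ⟨pullback.lift a (a ≫ x₀) ?_, pullback.lift_fst _ _ _⟩
  apply pullback.hom_ext
  · simp only [Category.assoc, pullback.lift_fst, pullback.diagonal_fst, Category.comp_id]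
  · simp only [Category.assoc, pullback.lift_snd, pullback.diagonal_snd, Category.comp_id, ha]

end thick

section tr

variable {S' S : Scheme.{u}} (g : S' ⟶ S) [UniversallyInjective g]
  (Y : Over S') [Etale Y.hom]

theorem eq_of_comp_eq {T A : Scheme.{u}} (a : A ⟶ T) [Surjective a] (w w' : T ⟶ Y.left)
    (h1 : w ≫ Y.hom = w' ≫ Y.hom) (h2 : a ≫ w = a ≫ w') : w = w' :=
  Groth.Agent.S0117.W.inj Y.hom a w w' h1 h2

variable {T : Scheme.{u}} (x₀ x₁ : T ⟶ S') (hx : x₀ ≫ g = x₁ ≫ g)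
  (v : T ⟶ Y.left) (hv : v ≫ Y.hom = x₀)

include hv in
theorem exists_trE : ∃ w : T ⟶ Y.left, w ≫ Y.hom = x₁ ∧
    jT g x₀ x₁ hx ≫ w = jT g x₀ x₁ hx ≫ v :=
  Groth.Agent.S0117.W.surj Y.hom x₁ (jT g x₀ x₁ hx) (jT g x₀ x₁ hx ≫ v)
    (by rw [Category.assoc, hv, jT_eq])

/-- transport of a point of an etale scheme along a radicial equivalence -/
noncomputable def trE : T ⟶ Y.left := (exists_trE g Y x₀ x₁ hx v hv).choose

theorem trE_hom : trE g Y x₀ x₁ hx v hv ≫ Y.hom = x₁ :=
  (exists_trE g Y x₀ x₁ hx v hv).choose_spec.1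

theorem jT_trE : jT g x₀ x₁ hx ≫ trE g Y x₀ x₁ hx v hv = jT g x₀ x₁ hx ≫ v :=
  (exists_trE g Y x₀ x₁ hx v hv).choose_spec.2

theorem comp_trE {A : Scheme.{u}} (a : A ⟶ T) (ha : a ≫ x₀ = a ≫ x₁) :
    a ≫ trE g Y x₀ x₁ hx v hv = a ≫ v := by
  obtain ⟨k, rfl⟩ := exists_fac g x₀ x₁ hx a ha
  rw [Category.assoc, jT_trE, Category.assoc]

theorem trE_unique (w : T ⟶ Y.left) (hw : w ≫ Y.hom = x₁) {A : Scheme.{u}} (a : A ⟶ T)
    [Surjective a] (ha : a ≫ x₀ = a ≫ x₁) (h : a ≫ w = a ≫ v) :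
    w = trE g Y x₀ x₁ hx v hv :=
  eq_of_comp_eq Y a _ _ (hw.trans (trE_hom g Y x₀ x₁ hx v hv).symm)
    (h.trans (comp_trE g Y x₀ x₁ hx v hv a ha).symm)

end tr

end Groth.Agent.Lib.Helper9.Rad
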