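import Groth.Agent.Lib.Helper9.Rad1

set_option backward.isDefEq.respectTransparency false
set_option autoImplicit false
set_option linter.unusedSectionVars false
set_option linter.unusedVariables false
universe u
open CategoryTheory CategoryTheory.Limits AlgebraicGeometry Opposite

namespace Groth.Agent.Lib.Helper9.Rad

section dd

variable {S' S : Scheme.{u}} (g : S' ⟶ S) [UniversallyInjective g]
  (Y : Over S') [Etale Y.hom]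

theorem trE_trE {T : Scheme.{u}} (x₀ x₁ x₂ : T ⟶ S') (h₀₁ : x₀ ≫ g = x₁ ≫ g)
    (h₁₂ : x₁ ≫ g = x₂ ≫ g) (v : T ⟶ Y.left) (hv : v ≫ Y.hom = x₀) :
    trE g Y x₁ x₂ h₁₂ (trE g Y x₀ x₁ h₀₁ v hv) (trE_hom g Y x₀ x₁ h₀₁ v hv) =
      trE g Y x₀ x₂ (h₀₁.trans h₁₂) v hv := by
  let a : pullback (jT g x₀ x₁ h₀₁) (jT g x₁ x₂ h₁₂) ⟶ T :=
    pullback.fst (jT g x₀ x₁ h₀₁) (jT g x₁ x₂ h₁₂) ≫ jT g x₀ x₁ h₀₁
  have ha' : a = pullback.snd (jT g x₀ x₁ h₀₁) (jT g x₁ x₂ h₁₂) ≫ jT g x₁ x₂ h₁₂ :=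
    pullback.condition
  haveI : Surjective a := inferInstance
  have e01 : a ≫ x₀ = a ≫ x₁ := by
    change (_ ≫ _) ≫ x₀ = (_ ≫ _) ≫ x₁
    rw [Category.assoc, Category.assoc, jT_eq]
  have e12 : a ≫ x₁ = a ≫ x₂ := by
    rw [ha', Category.assoc, Category.assoc, jT_eq]
  apply trE_unique g Y x₀ x₂ (h₀₁.trans h₁₂) v hv _ (trE_hom _ _ _ _ _ _ _) a (e01.trans e12)
  rw [comp_trE g Y x₁ x₂ h₁₂ _ _ a e12, comp_trE g Y x₀ x₁ h₀₁ v hv a e01]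

theorem trE_self {T : Scheme.{u}} (x : T ⟶ S') (h : x ≫ g = x ≫ g) (v : T ⟶ Y.left)
    (hv : v ≫ Y.hom = x) : trE g Y x x h v hv = v :=
  (trE_unique g Y x x h v hv v hv (𝟙 T) rfl rfl).symm

theorem trE_natural {T T' : Scheme.{u}} (t : T' ⟶ T) (x₀ x₁ : T ⟶ S') (h : x₀ ≫ g = x₁ ≫ g)
    (h' : (t ≫ x₀) ≫ g = (t ≫ x₁) ≫ g) (v : T ⟶ Y.left) (hv : v ≫ Y.hom = x₀)
    (v' : T' ⟶ Y.left) (hv' : v' ≫ Y.hom = t ≫ x₀) (e : v' = t ≫ v) :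
    trE g Y (t ≫ x₀) (t ≫ x₁) h' v' hv' = t ≫ trE g Y x₀ x₁ h v hv := by
  symm
  apply trE_unique g Y (t ≫ x₀) (t ≫ x₁) h' v' hv' _ (by rw [Category.assoc, trE_hom])
    (jT g (t ≫ x₀) (t ≫ x₁) h') (jT_eq g _ _ h')
  have e1 : (jT g (t ≫ x₀) (t ≫ x₁) h' ≫ t) ≫ x₀ = (jT g (t ≫ x₀) (t ≫ x₁) h' ≫ t) ≫ x₁ := by
    rw [Category.assoc, Category.assoc]; exact jT_eq g _ _ h'
  rw [← Category.assoc, comp_trE g Y x₀ x₁ h v hv _ e1, Category.assoc, e]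

/-- the canonical descent datum on an etale scheme relative to a radicial morphism -/
noncomputable def radDD : Desc.SchDD g where
  obj := Y
  φ T x₀ x₁ h :=
    { toFun := fun v => ⟨trE g Y x₀ x₁ h v.1 v.2, trE_hom g Y x₀ x₁ h v.1 v.2⟩
      invFun := fun v => ⟨trE g Y x₁ x₀ h.symm v.1 v.2, trE_hom g Y x₁ x₀ h.symm v.1 v.2⟩
      left_inv := fun v => Subtype.ext (by
        refine (trE_trE g Y x₀ x₁ x₀ h h.symm v.1 v.2).trans ?_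
        exact trE_self g Y x₀ _ v.1 v.2)
      right_inv := fun v => Subtype.ext (by
        refine (trE_trE g Y x₁ x₀ x₁ h.symm h v.1 v.2).trans ?_
        exact trE_self g Y x₁ _ v.1 v.2) }
  φ_natural T T' t x₀ x₁ h h' v v' hv' :=
    trE_natural g Y t x₀ x₁ h h' v.1 v.2 v'.1 v'.2 hv'
  φ_self T x v := Subtype.ext (trE_self g Y x rfl v.1 v.2)
  φ_comp T x₀ x₁ x₂ h₀₁ h₁₂ v := Subtype.ext (trE_trE g Y x₀ x₁ x₂ h₀₁ h₁₂ v.1 v.2)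

end dd

end Groth.Agent.Lib.Helper9.Rad
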