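import Groth.Agent.Lib.Helper9.Rad2
import Groth.Prelude.Def_EtBase

set_option backward.isDefEq.respectTransparency false
set_option autoImplicit false
set_option linter.unusedSectionVars false
set_option linter.unusedVariables false
universe u
open CategoryTheory CategoryTheory.Limits AlgebraicGeometry Opposite

namespace Groth.Agent.Lib.Helper9.Rad

section equiv

variable {S' S : Scheme.{u}} (g : S' ⟶ S) [Flat g] [Surjective g] [QuasiCompact g]
  [UniversallyInjective g]

theorem faithful_bc : (EtCoh.bc g).Faithful := by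
  constructor
  intro X Y φ ψ h
  have hY : Etale Y.hom := Y.prop
  have h1 := congrArg (fun θ => θ.left ≫ pullback.fst Y.hom g) h
  simp only [EtCoh.bc, MorphismProperty.Over.pullback, MorphismProperty.Over.homMk_hom,
    Over.homMk_left, pullback.lift_fst] at h1
  apply MorphismProperty.Over.Hom.ext
  exact Groth.Agent.S0117.W.inj Y.hom (pullback.fst X.hom g) φ.left ψ.left
    (by rw [MorphismProperty.Over.w, MorphismProperty.Over.w]) h1

theorem full_bc : (EtCoh.bc g).Full := by
  constructor
  intro X Y θ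
  have hY : Etale Y.hom := Y.prop
  let a : pullback X.hom g ⟶ pullback Y.hom g := θ.left
  have hθ : a ≫ pullback.snd Y.hom g = pullback.snd X.hom g := MorphismProperty.Over.w θ
  have hc : (a ≫ pullback.fst Y.hom g) ≫ Y.hom = pullback.fst X.hom g ≫ X.hom := by
    rw [Category.assoc, pullback.condition, ← Category.assoc, hθ, ← pullback.condition]
  have key : ∀ {Z : Scheme.{u}} (z₁ z₂ : Z ⟶ pullback X.hom g),
      z₁ ≫ pullback.fst X.hom g = z₂ ≫ pullback.fst X.hom g →
      z₁ ≫ a ≫ pullback.fst Y.hom g = z₂ ≫ a ≫ pullback.fst Y.hom g := by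
    intro Z z₁ z₂ hz
    have hy : (z₁ ≫ pullback.snd X.hom g) ≫ g = (z₂ ≫ pullback.snd X.hom g) ≫ g := by
      rw [Category.assoc, ← pullback.condition, ← Category.assoc, hz, Category.assoc,
        pullback.condition, Category.assoc]
    apply Groth.Agent.S0117.W.inj Y.hom (jT g _ _ hy)
    · have e1 : ∀ z : Z ⟶ pullback X.hom g, (z ≫ a ≫ pullback.fst Y.hom g) ≫ Y.hom =
          (z ≫ pullback.fst X.hom g) ≫ X.hom := fun z => by
        rw [Category.assoc z, hc, Category.assoc]
      rw [e1, e1, hz]
    · have e : jT g _ _ hy ≫ z₁ = jT g _ _ hy ≫ z₂ := by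
        apply pullback.hom_ext
        · rw [Category.assoc, Category.assoc, hz]
        · rw [Category.assoc, Category.assoc]; exact jT_eq g _ _ hy
      rw [← Category.assoc, e, Category.assoc]
  let φ : X.left ⟶ Y.left := EffectiveEpi.desc (pullback.fst X.hom g) (a ≫ pullback.fst Y.hom g) key
  have hφ : pullback.fst X.hom g ≫ φ = a ≫ pullback.fst Y.hom g := EffectiveEpi.fac _ _ key
  have hφ1 : φ ≫ Y.hom = X.hom := by
    rw [← cancel_epi (pullback.fst X.hom g), ← Category.assoc, hφ, hc]
  refine ⟨MorphismProperty.Over.homMk φ hφ1, ?_⟩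
  apply MorphismProperty.Over.Hom.ext
  apply pullback.hom_ext
  · simp only [EtCoh.bc, MorphismProperty.Over.pullback, MorphismProperty.Over.homMk_hom,
      Over.homMk_left, pullback.lift_fst]
    exact hφ
  · simp only [EtCoh.bc, MorphismProperty.Over.pullback, MorphismProperty.Over.homMk_hom,
      Over.homMk_left, pullback.lift_snd]
    exact hθ.symm

theorem essSurj_bc : (EtCoh.bc g).EssSurj := by
  constructor
  intro Y
  haveI : Etale (Over.mk Y.hom).hom := Y.prop
  obtain ⟨U₀, ⟨e⟩⟩ := Groth.Agent.S2912.result g (radDD g (Over.mk Y.hom))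
  have hU : Etale U₀.hom :=
    Groth.Agent.Lib.Helper9.QAff.prop_of_iso g @Etale (radDD g (Over.mk Y.hom)) U₀ e Y.prop
  haveI := Groth.Agent.Lib.Helper9.QAff.isIso_left_of_iso e
  have hw : e.hom.hom.left ≫ Y.hom = pullback.fst g U₀.hom := Over.w e.hom.hom
  have sq : IsPullback (inv e.hom.hom.left ≫ pullback.snd g U₀.hom) Y.hom U₀.hom g := by
    refine IsPullback.of_iso (IsPullback.of_hasPullback g U₀.hom).flip (asIso e.hom.hom.left)
      (Iso.refl _) (Iso.refl _) (Iso.refl _) ?_ ?_ ?_ ?_
    · simp
    · simpa using hw.symm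
    · simp
    · simp
  refine ⟨MorphismProperty.Over.mk ⊤ U₀.hom hU, ⟨?_⟩⟩
  exact MorphismProperty.Over.isoMk sq.isoPullback.symm sq.isoPullback_inv_snd

theorem bc_isEquivalence : (EtCoh.bc g).IsEquivalence := by
  have h1 := faithful_bc g
  have h2 := full_bc g
  have h3 := essSurj_bc g
  exact { }

end equiv

end Groth.Agent.Lib.Helper9.Rad
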