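import Mathlib
import Groth.Agent.Lib.Helper17.NormFLF
import Groth.Agent.Lib.Helper28.QCohPush
import Groth.Agent.Lib.Helper28.QCohConv
import Groth.Agent.Lib.Helper29.FreeIso6
import Groth.Agent.Lib.Helper7.StalkFree

set_option maxHeartbeats 800000
set_option autoImplicit false
set_option linter.style.haveILetI false
set_option linter.unusedSectionVars false
set_option linter.unusedVariables false
universe u
open CategoryTheory CategoryTheory.Limits AlgebraicGeometry Opposite TopologicalSpace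
noncomputable section

/-!
# Bridge between `Scheme.Hom.finrank` and `FlatMod.IsFinLocFreeOfRank` of `π_* O_X`

The local freeness argument follows helper17's `HypEll.isFinLocFreeOfRank_pushforward`
(re-done here pointwise, to avoid the heavy imports of that file).
-/

namespace Groth.Agent.Lib.Helper9.RankBridge

open Groth.Agent.Lib.Helper28 Groth.Agent.Lib.Helper28.QCohLoc Groth.Agent.Lib.Helper17.NormFLF

variable {X Y : Scheme.{u}} (π : X ⟶ Y)

attribute [local instance] Groth.Agent.Lib.Helper17.NormFLF.algApp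

/-- the two module structures on `Γ(X, π⁻¹W)` agree -/
theorem smul_eq (W : Y.Opens) (r : Γ(Y, W)) (s : Γ(X, π ⁻¹ᵁ W)) :
    (r • (show Γ((Scheme.Modules.pushforward π).obj (Coh.structureModule X), W) from s) :
      Γ((Scheme.Modules.pushforward π).obj (Coh.structureModule X), W)) =
    (show Γ((Scheme.Modules.pushforward π).obj (Coh.structureModule X), W) from
      (r • s : Γ(X, π ⁻¹ᵁ W))) := by
  have h1 : (r • s : Γ(X, π ⁻¹ᵁ W)) = algebraMap Γ(Y, W) Γ(X, π ⁻¹ᵁ W) r * s := Algebra.smul_def r s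
  rw [h1, algebraMap_eq]
  rfl

/-- around `y`, the direct image of the structure sheaf is free of rank `π.finrank y`. -/
theorem exists_iso_freeMod [IsFinite π] [Flat π] [LocallyOfFinitePresentation π] (y : Y) :
    ∃ W : Y.Opens, y ∈ W ∧
      Nonempty (((Scheme.Modules.pushforward π).obj (Coh.structureModule X)).restrict W.ι ≅
        FlatMod.freeMod (↑W) (π.finrank y)) := by
  obtain ⟨W, hW, hyW⟩ := exists_good π y
  haveI := hW.2
  haveI : Module.Finite Γ(Y, W) Γ(X, π ⁻¹ᵁ W) := finite_app π hW.1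
  have hfr : Module.finrank Γ(Y, W) Γ(X, π ⁻¹ᵁ W) = π.finrank y := by
    have h1 := Groth.Agent.Lib.Helper18.CycPull.finrank_eq_rankAtStalk π hW.1
      (hW.1.primeIdealOf ⟨y, hyW⟩)
    have h2 := congrFun (Module.rankAtStalk_eq_finrank_of_free (R := Γ(Y, W))
      (M := Γ(X, π ⁻¹ᵁ W))) (hW.1.primeIdealOf ⟨y, hyW⟩)
    have h3 : hW.1.fromSpec (hW.1.primeIdealOf ⟨y, hyW⟩) = y := hW.1.fromSpec_primeIdealOf ⟨y, hyW⟩
    rw [h3, h2] at h1
    exact h1.symm
  set d := π.finrank y with hd
  haveI : Nonempty W := ⟨⟨y, hyW⟩⟩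
  haveI : Nontrivial Γ(Y, W) := Scheme.component_nontrivial Y W
  let b : Module.Basis (Fin d) Γ(Y, W) Γ(X, π ⁻¹ᵁ W) := Module.finBasisOfFinrankEq _ _ hfr
  let E := (Scheme.Modules.pushforward π).obj (Coh.structureModule X)
  haveI : E.IsQuasicoherent := isQuasicoherent_pushforward π _
  let τ : Fin d → Γ(E, W) := fun j => b j
  have hsum : ∀ c : Fin d → Γ(Y, W), (∑ j, c j • τ j : Γ(E, W)) =
      (show Γ(E, W) from (∑ j, c j • b j : Γ(X, π ⁻¹ᵁ W))) := by
    intro c
    have : ∀ j, (c j • τ j : Γ(E, W)) = (show Γ(E, W) from (c j • b j : Γ(X, π ⁻¹ᵁ W))) :=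
      fun j => smul_eq π W (c j) (b j)
    simp only [this]
    rfl
  have hli : LinearIndependent Γ(Y, W) τ := by
    rw [Fintype.linearIndependent_iff]
    intro c hc
    rw [hsum] at hc
    exact Fintype.linearIndependent_iff.1 b.linearIndependent c hc
  have hspan : Submodule.span Γ(Y, W) (Set.range τ) = ⊤ := by
    rw [eq_top_iff]
    intro x _
    rw [Submodule.mem_span_range_iff_exists_fun]
    refine ⟨fun j => b.repr x j, ?_⟩
    rw [hsum]
    exact b.sum_repr x
  have hB := Groth.Agent.Lib.Helper29.FreeIso.isBasisOn_of_basis E hW.1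
    (isLocOn_of_isQuasicoherent E hW.1) τ hli hspan
  exact ⟨W, hyW, hB.nonempty_iso⟩

/-- **finrank ⇒ locally free of that rank** (helper17's `HypEll.isFinLocFreeOfRank_pushforward`). -/
theorem isFinLocFreeOfRank_pushforward [IsFinite π] [Flat π] [LocallyOfFinitePresentation π] (d : ℕ)
    (hd : ∀ y, π.finrank y = d) :
    FlatMod.IsFinLocFreeOfRank d ((Scheme.Modules.pushforward π).obj (Coh.structureModule X)) := by
  intro y
  obtain ⟨W, hyW, h⟩ := exists_iso_freeMod π y
  rw [hd] at h
  exact ⟨W, hyW, h⟩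

/-- **locally free of rank `n` ⇒ finrank = n**. -/
theorem finrank_eq_of_isFinLocFreeOfRank [IsFinite π] [Flat π] [LocallyOfFinitePresentation π]
    (n : ℕ)
    (h : FlatMod.IsFinLocFreeOfRank n
      ((Scheme.Modules.pushforward π).obj (Coh.structureModule X))) (y : Y) :
    π.finrank y = n := by
  obtain ⟨W, hyW, ⟨e⟩⟩ := exists_iso_freeMod π y
  obtain ⟨U, hyU, ⟨e'⟩⟩ := h y
  have h1 := (Groth.Agent.Lib.Helper7.StalkFree.free_stalk_of_iso _ y W hyW _ e).2.2
  have h2 := (Groth.Agent.Lib.Helper7.StalkFree.free_stalk_of_iso _ y U hyU _ e').2.2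
  rw [← h1, h2]

end Groth.Agent.Lib.Helper9.RankBridge
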