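import Mathlib
import Groth.Agent.Lib.Helper9.SplitCov

set_option backward.isDefEq.respectTransparency false
set_option maxHeartbeats 800000
set_option autoImplicit false
set_option linter.unusedSectionVars false
set_option linter.unusedVariables false
universe u
open CategoryTheory CategoryTheory.Limits AlgebraicGeometry Opposite TopologicalSpace

namespace Groth.Agent.Lib.Helper9.RankTower

open Groth.Agent.Lib.Helper9.SplitCov Groth.Agent.Lib.Helper9

/-- the rank of a finite flat morphism with empty source is zero. -/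
theorem finrank_eq_zero_of_isEmpty {Q Y : Scheme.{u}} (f : Q ⟶ Y) [IsEmpty Q] [IsFinite f] [Flat f]
    (y : Y) : f.finrank y = 0 := by
  have hc : IsCompl (𝟙 Q : Q ⟶ Q).opensRange (𝟙 Q : Q ⟶ Q).opensRange := by
    have : ∀ U V : Q.Opens, U = V := fun U V => by
      ext x; exact (IsEmpty.false x).elim
    constructor
    · rw [disjoint_iff]; exact this _ _
    · rw [codisjoint_iff]; exact this _ _
  haveI : IsFinite (𝟙 Q ≫ f) := by rw [Category.id_comp]; infer_instance
  have := RankAdd.finrank_add f (𝟙 Q) (𝟙 Q) hc y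
  simp only [Category.id_comp] at this
  omega

/-- the two legs of a colimit binary cofan of schemes are complementary open immersions. -/
theorem isOpenImmersion_isCompl_of_isColimit {A B P : Scheme.{u}} (a : A ⟶ P) (b : B ⟶ P)
    (hc : IsColimit (BinaryCofan.mk a b)) :
    IsOpenImmersion a ∧ IsOpenImmersion b ∧ ∀ [IsOpenImmersion a] [IsOpenImmersion b],
      IsCompl a.opensRange b.opensRange := by
  let e : A ⨿ B ≅ P := (coprodIsCoprod A B).coconePointUniqueUpToIso hc
  have e1 : coprod.inl ≫ e.hom = a :=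
    (coprodIsCoprod A B).comp_coconePointUniqueUpToIso_hom hc ⟨WalkingPair.left⟩
  have e2 : coprod.inr ≫ e.hom = b :=
    (coprodIsCoprod A B).comp_coconePointUniqueUpToIso_hom hc ⟨WalkingPair.right⟩
  have ia : IsOpenImmersion a := by rw [← e1]; infer_instance
  have ib : IsOpenImmersion b := by rw [← e2]; infer_instance
  refine ⟨ia, ib, ?_⟩
  intro _ _
  have hset : IsCompl (Set.range a) (Set.range b) := by
    have h0 := isCompl_range_inl_inr A B
    have ha : Set.range a = e.hom '' Set.range (coprod.inl : A ⟶ A ⨿ B) := by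
      rw [← Set.range_comp, ← e1]; rfl
    have hb : Set.range b = e.hom '' Set.range (coprod.inr : B ⟶ A ⨿ B) := by
      rw [← Set.range_comp, ← e2]; rfl
    have hbij : Function.Bijective e.hom := (e.hom.homeomorph).bijective
    rw [ha, hb]
    constructor
    · rw [Set.disjoint_iff_inter_eq_empty, ← Set.image_inter hbij.injective,
        Set.disjoint_iff_inter_eq_empty.mp h0.disjoint, Set.image_empty]
    · rw [codisjoint_iff]
      have := codisjoint_iff.mp h0.codisjoint
      change _ ∪ _ = Set.univ at this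
      change _ ∪ _ = Set.univ
      rw [← Set.image_union, this, Set.image_univ]
      exact hbij.surjective.range_eq
  constructor
  · rw [disjoint_iff]
    ext x
    have := Set.disjoint_iff_inter_eq_empty.mp hset.disjoint
    simp only [Opens.coe_inf, Scheme.Hom.coe_opensRange, Opens.coe_bot, this]
  · rw [codisjoint_iff]
    ext x
    have := codisjoint_iff.mp hset.codisjoint
    change _ ∪ _ = Set.univ at this
    simp only [Opens.coe_sup, Scheme.Hom.coe_opensRange, Opens.coe_top, this]

/-- composing finite flat morphisms of constant rank `m` with `p` multiplies the rank by `n`. -/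
def RankMul {P Y : Scheme.{u}} (p : P ⟶ Y) (n : ℕ) : Prop :=
  ∀ (m : ℕ) {Q : Scheme.{u}} (h : Q ⟶ P), IsFinite h → Flat h → (∀ q, h.finrank q = m) →
    ∀ y, (h ≫ p).finrank y = n * m

theorem rankMul_zero {P Y : Scheme.{u}} (p : P ⟶ Y) [IsFinite p] [Flat p] [IsEmpty P] :
    RankMul p 0 := by
  intro m Q h _ _ hm y
  haveI : IsEmpty Q := Function.isEmpty h
  rw [finrank_eq_zero_of_isEmpty, Nat.zero_mul]

theorem rankMul_succ {P P' Y : Scheme.{u}} (p : P ⟶ Y) [IsFinite p] [Flat p] (s₀ : Y ⟶ P)
    (κ : P' ⟶ P) (hc : IsColimit (BinaryCofan.mk s₀ κ)) (hs : s₀ ≫ p = 𝟙 Y)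
    [IsFinite (κ ≫ p)] {n : ℕ} (hn : RankMul (κ ≫ p) n) : RankMul p (n + 1) := by
  intro m Q h _ _ hm y
  obtain ⟨i1, i2, hcompl⟩ := isOpenImmersion_isCompl_of_isColimit s₀ κ hc
  have hcompl := @hcompl i1 i2
  let a := pullback.snd s₀ h
  let b := pullback.snd κ h
  have hab : IsCompl a.opensRange b.opensRange := by
    have e1 : a.opensRange = h ⁻¹ᵁ s₀.opensRange := Scheme.Hom.opensRange_pullbackSnd _ _
    have e2 : b.opensRange = h ⁻¹ᵁ κ.opensRange := Scheme.Hom.opensRange_pullbackSnd _ _
    rw [e1, e2]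
    constructor
    · rw [disjoint_iff, ← Scheme.Hom.preimage_inf, hcompl.inf_eq_bot]; rfl
    · rw [codisjoint_iff, ← Scheme.Hom.preimage_sup, hcompl.sup_eq_top]; rfl
  have ha : a ≫ h ≫ p = pullback.fst s₀ h := by
    rw [← Category.assoc, ← pullback.condition, Category.assoc, hs, Category.comp_id]
  have hb : b ≫ h ≫ p = pullback.fst κ h ≫ κ ≫ p := by
    rw [← Category.assoc, ← pullback.condition, Category.assoc]
  haveI : IsFinite (a ≫ h ≫ p) := by rw [ha]; infer_instance
  haveI : IsFinite (b ≫ h ≫ p) := by rw [hb]; infer_instance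
  have key := RankAdd.finrank_add (h ≫ p) a b hab y
  rw [key]
  have r1 : (a ≫ h ≫ p).finrank y = m := by
    simp only [ha]
    rw [Scheme.Hom.finrank_pullback_fst, hm]
  have r2 : (b ≫ h ≫ p).finrank y = n * m := by
    simp only [hb]
    refine hn m (pullback.fst κ h) inferInstance inferInstance (fun q => ?_) y
    rw [Scheme.Hom.finrank_pullback_fst, hm]
  rw [r1, r2]
  ring


/-- **Splitting with degree control**: a finite étale cover of constant degree `n` is split by a
finite étale surjective cover of constant degree `n!`. -/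
theorem exists_split_factorial (n : ℕ) : ∀ {X S : Scheme.{u}} (φ : X ⟶ S) [IsFinite φ] [Etale φ],
    (∀ s, φ.finrank s = n) →
    ∃ (Y : Scheme.{u}) (ψ : Y ⟶ S), IsFinite ψ ∧ Etale ψ ∧ Surjective ψ ∧
      SplitBy (pullback.snd φ ψ) n ∧ RankMul (pullback.snd φ ψ) n ∧
      (∀ s, ψ.finrank s = n.factorial) := by
  induction n with
  | zero =>
    intro X S φ _ _ hn
    have hX : IsEmpty X := ⟨fun x => by
      have := Scheme.Hom.one_le_finrank_map φ x
      rw [hn] at this
      omega⟩
    haveI : IsEmpty ↥(pullback φ (𝟙 S)) := Function.isEmpty (pullback.fst φ (𝟙 S))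
    refine ⟨S, 𝟙 S, inferInstance, inferInstance, inferInstance, splitBy_zero_of_isEmpty _,
      rankMul_zero _, fun s => ?_⟩
    rw [Scheme.Hom.finrank_eq_one_of_isIso]; rfl
  | succ n ih =>
    intro X S φ _ _ hn
    have hsurj : Surjective φ := by
      rw [← Scheme.Hom.one_le_finrank_iff_surjective]
      intro s
      rw [hn]
      simp
    obtain ⟨Y, ψ', h1, h2, h3, h4, h5, h6⟩ := ih (offDiagSnd φ) (finrank_offDiagSnd φ hn)
    obtain ⟨s₀, κ, ⟨hc⟩, hs, hκ⟩ := exists_decomp φ ψ'
    haveI : IsFinite (κ ≫ pullback.snd φ (ψ' ≫ φ)) := by rw [hκ]; infer_instance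
    have hrm : RankMul (pullback.snd φ (ψ' ≫ φ)) (n + 1) := by
      refine rankMul_succ _ s₀ κ hc hs ?_
      rw [hκ]
      exact h5
    refine ⟨Y, ψ' ≫ φ, inferInstance, inferInstance, inferInstance, ?_, hrm, fun s => ?_⟩
    · refine splitBy_succ _ s₀ κ hc hs ?_
      rw [hκ]
      exact h4
    · obtain ⟨y, rfl⟩ := (ψ' ≫ φ).surjective s
      set ψ := ψ' ≫ φ with hψ
      rw [← Scheme.Hom.finrank_pullback_snd ψ ψ y,
        ← Scheme.Hom.finrank_comp_left_of_isIso (pullbackRightPullbackFstIso φ ψ ψ').hom]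
      have e1 : (pullbackRightPullbackFstIso φ ψ ψ').hom ≫ pullback.snd ψ ψ =
          pullback.snd ψ' (pullback.fst φ ψ) ≫ pullback.snd φ ψ :=
        pullbackRightPullbackFstIso_hom_snd φ ψ ψ'
      simp only [e1]
      rw [hrm n.factorial (pullback.snd ψ' (pullback.fst φ ψ)) inferInstance inferInstance
        (fun q => ?_) y, Nat.factorial_succ]
      rw [Scheme.Hom.finrank_pullback_snd, h6]

end Groth.Agent.Lib.Helper9.RankTower
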