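import Groth.Agent.Lib.Helper9.FlatLim
import Groth.Agent.Lib.Helper22.LimBaseChange
set_option autoImplicit false
set_option linter.style.haveILetI false
set_option linter.unusedSectionVars false
universe u v w
open CategoryTheory CategoryTheory.Limits AlgebraicGeometry TopologicalSpace Opposite

namespace Groth.Agent.Lib.Helper9.RedLim

open Groth.Agent.Lib.Helper22

section surj

variable {I : Type u} [SmallCategory I] [IsCofiltered I] (D : I ⥤ Scheme.{u})
  (c : Cone D) (hc : IsLimit c) [∀ (i j : I) (f : i ⟶ j), IsAffineHom (D.map f)]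

include hc in
/-- the projection from a cofiltered limit with surjective affine transitions is surjective. -/
theorem surjective_π (i : I) (hs : ∀ (j : I) (φ : j ⟶ i), Surjective (D.map φ)) :
    Function.Surjective (c.π.app i) := by
  intro y
  let a : Spec (CommRingCat.of ((D.obj i).residueField y)) ⟶ D.obj i :=
    (D.obj i).fromSpecResidueField y
  have h1 : ∀ {j k : Over i} (f : j ⟶ k), IsAffineHom ((bcDiag D i a).map f) :=
    fun f => inferInstance
  have h2 : ∀ j : Over i, CompactSpace ((bcDiag D i a).obj j) := fun j => inferInstance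
  have h3 : ∀ j : Over i, Nonempty ((bcDiag D i a).obj j) := by
    intro j
    rw [bcDiag_obj]
    have : Surjective (D.map j.hom) := hs _ _
    have hsurj : Surjective (pullback.snd (D.map j.hom) a) := inferInstance
    obtain ⟨z, -⟩ := hsurj.surj (Nonempty.some inferInstance)
    exact ⟨z⟩
  have h4 : Nonempty (bcCone D c i a).pt :=
    Scheme.nonempty_of_isLimit (bcDiag D i a) (bcCone D c i a) (bcIsLimit D hc i a)
  obtain ⟨z⟩ := h4
  rw [bcCone_pt] at z
  refine ⟨(pullback.fst (c.π.app i) a) z, ?_⟩
  rw [← Scheme.Hom.comp_apply, pullback.condition, Scheme.Hom.comp_apply]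
  exact Scheme.fromSpecResidueField_apply _ _

end surj

section red

variable {J : Type u} [SmallCategory J] [IsCofiltered J] (E : J ⥤ Scheme.{u})
  (e : Cone E) (he : IsLimit e) [∀ j, IsAffine (E.obj j)]

include he in
lemma isReduced_of_isAffine (hred : ∀ j, IsReduced (E.obj j)) : IsReduced e.pt := by
  have : IsAffine e.pt := Scheme.isAffine_of_isLimit e he
  have key : _root_.IsReduced Γ(e.pt, ⊤) := by
    constructor
    rintro a ⟨n, hn⟩
    obtain ⟨j, b, rfl⟩ := exists_appTop_π_eq_of_isAffine_of_isLimit E e he a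
    have h0 : (e.π.app j).appTop (b ^ n) = 0 := by rw [map_pow]; exact hn
    obtain ⟨k, f, hk⟩ := exists_appTop_map_eq_zero_of_isAffine_of_isLimit E e he j _ h0
    rw [map_pow] at hk
    have h1 : (E.map f).appTop b = 0 := by
      have : IsNilpotent ((E.map f).appTop b) := ⟨n, hk⟩
      exact this.eq_zero
    have h2 := e.w f
    have h3 : (e.π.app j).appTop b = (e.π.app k).appTop ((E.map f).appTop b) := by
      rw [← h2, Scheme.Hom.comp_appTop]
      rfl
    rw [h3, h1, map_zero]
  exact isReduced_of_isAffine_isReduced e.pt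

end red

section general

variable {I : Type u} [SmallCategory I] [IsCofiltered I] (D : I ⥤ Scheme.{u})
  (c : Cone D) (hc : IsLimit c) [∀ {i j : I} (f : i ⟶ j), IsAffineHom (D.map f)]

include hc in
theorem isReduced_limit (hred : ∀ i, IsReduced (D.obj i)) : IsReduced c.pt := by
  obtain ⟨i⟩ := IsCofiltered.nonempty (C := I)
  have hcov : IsOpenCover (fun U : (D.obj i).affineOpens => c.π.app i ⁻¹ᵁ U.1) := by
    rw [IsOpenCover]
    apply top_le_iff.1
    intro x _
    obtain ⟨_, ⟨V, hV, rfl⟩, hxV, -⟩ := (D.obj i).isBasis_affineOpens.exists_subset_of_mem_open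
      (Set.mem_univ ((c.π.app i) x)) isOpen_univ
    exact Opens.mem_iSup.2 ⟨⟨V, hV⟩, hxV⟩
  have : ∀ U : (D.obj i).affineOpens,
      IsReduced ((c.pt.openCoverOfIsOpenCover _ hcov).X U) := by
    intro U
    have hE : ∀ j : Over i, IsAffine ((opensDiagram D i U.1).obj j) := fun j =>
      U.2.preimage (D.map _)
    have hR : ∀ j : Over i, IsReduced ((opensDiagram D i U.1).obj j) := fun j =>
      inferInstanceAs (IsReduced (D.map j.hom ⁻¹ᵁ U.1).toScheme)
    exact isReduced_of_isAffine (opensDiagram D i U.1) (opensCone D c i U.1)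
      (isLimitOpensCone D c hc i U.1) hR
  exact IsReduced.of_openCover (X := c.pt) (c.pt.openCoverOfIsOpenCover _ hcov)

include hc in
theorem isReduced_stage (i : I) (hfl : ∀ (j : I) (φ : j ⟶ i), Flat (D.map φ))
    (hs : ∀ (j : I) (φ : j ⟶ i), Surjective (D.map φ)) [IsReduced c.pt] :
    IsReduced (D.obj i) := by
  let p : c.pt ⟶ D.obj i := c.π.app i
  have hflat : Flat p := FlatLim.flat_π D c hc i hfl
  have haff : ∀ (i j : I) (f : i ⟶ j), IsAffineHom (D.map f) := fun _ _ f => inferInstance
  have hsurj : Function.Surjective p := surjective_π D c hc i hs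
  have : ∀ y : D.obj i, _root_.IsReduced ((D.obj i).presheaf.stalk y) := by
    intro y
    obtain ⟨x, rfl⟩ := hsurj y
    let φ := (p.stalkMap x).hom
    have hφ : φ.Flat := Flat.stalkMap p x
    have hinj : Function.Injective φ := by
      letI := φ.toAlgebra
      haveI : Module.Flat ((D.obj i).presheaf.stalk (p x)) (c.pt.presheaf.stalk x) := hφ
      haveI : IsLocalHom (algebraMap ((D.obj i).presheaf.stalk (p x))
          (c.pt.presheaf.stalk x)) := inferInstanceAs (IsLocalHom (p.stalkMap x).hom)
      haveI := Module.FaithfullyFlat.of_flat_of_isLocalHom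
        (A := (D.obj i).presheaf.stalk (p x)) (B := c.pt.presheaf.stalk x)
      exact FaithfulSMul.algebraMap_injective _ _
    exact isReduced_of_injective φ hinj
  exact isReduced_of_isReduced_stalk _

end general

end Groth.Agent.Lib.Helper9.RedLim
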