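import Mathlib
import Groth.Agent.Lib.Helper9.SN1
import Groth.Agent.S15941
import Groth.Prelude.Def_Pi1

set_option autoImplicit false
set_option linter.style.haveILetI false
universe u
open CategoryTheory AlgebraicGeometry Limits

namespace Groth.Agent.Lib.Helper9.SN

open Groth.Agent.Lib.Helper9.UnivHomeoRing

theorem isSeminormalRing_of_forall_isLocalization (A : Type u) [CommRing A] [IsReduced A]
    (h : ∀ p : PrimeSpectrum A, ∃ (B : Type u) (_ : CommRing B) (_ : Algebra A B)
      (_ : IsLocalization.AtPrime B p.asIdeal), HTop.IsSeminormalRing B) :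
    HTop.IsSeminormalRing A := by
  intro x y hxy
  suffices hex : ∃ a : A, x = a ^ 2 ∧ y = a ^ 3 by
    obtain ⟨a, ha⟩ := hex
    refine ⟨a, ha, fun b hb => ?_⟩
    exact eq_of_sq_eq_of_cube_eq_of_isReduced (by rw [← hb.1, ← ha.1]) (by rw [← hb.2, ← ha.2])
  let I : Ideal A :=
    { carrier := {c | ∃ a, a ^ 2 = c ^ 2 * x ∧ a ^ 3 = c ^ 3 * y}
      zero_mem' := ⟨0, by simp, by simp⟩
      add_mem' := by
        rintro c₁ c₂ ⟨a₁, h1s, h1c⟩ ⟨a₂, h2s, h2c⟩
        have h12 : a₁ * a₂ = c₁ * c₂ * x := by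
          apply eq_of_sq_eq_of_cube_eq_of_isReduced
          · linear_combination a₂ ^ 2 * h1s + c₁ ^ 2 * x * h2s
          · linear_combination a₂ ^ 3 * h1c + c₁ ^ 3 * y * h2c - c₁ ^ 3 * c₂ ^ 3 * hxy
        have hx2 : x * a₂ = c₂ * y := by
          apply eq_of_sq_eq_of_cube_eq_of_isReduced
          · linear_combination x ^ 2 * h2s + c₂ ^ 2 * hxy
          · linear_combination x ^ 3 * h2c + c₂ ^ 3 * y * hxy
        have hx1 : x * a₁ = c₁ * y := by
          apply eq_of_sq_eq_of_cube_eq_of_isReduced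
          · linear_combination x ^ 2 * h1s + c₁ ^ 2 * hxy
          · linear_combination x ^ 3 * h1c + c₁ ^ 3 * y * hxy
        refine ⟨a₁ + a₂, ?_, ?_⟩
        · linear_combination h1s + h2s + 2 * h12
        · linear_combination h1c + h2c + 3 * (a₂ * h1s + c₁ ^ 2 * hx2) +
            3 * (a₁ * h2s + c₂ ^ 2 * hx1)
      smul_mem' := by
        rintro r c ⟨a, hs, hc⟩
        refine ⟨r * a, ?_, ?_⟩
        · simp only [smul_eq_mul]; linear_combination r ^ 2 * hs
        · simp only [smul_eq_mul]; linear_combination r ^ 3 * hc }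
  have hI : I = ⊤ := by
    by_contra hne
    obtain ⟨m, hm, hIm⟩ := Ideal.exists_le_maximal I hne
    haveI := hm.isPrime
    obtain ⟨B, _, _, _, hB⟩ := h ⟨m, hm.isPrime⟩
    obtain ⟨α, ⟨hα2, hα3⟩, -⟩ := hB (algebraMap A B x) (algebraMap A B y)
      (by rw [← map_pow, ← map_pow, hxy])
    obtain ⟨b, s, rfl⟩ := IsLocalization.exists_mk'_eq m.primeCompl α
    have e2 : algebraMap A B (b ^ 2) = algebraMap A B (s ^ 2 * x) := by
      have := IsLocalization.mk'_spec B b s
      rw [map_pow, map_mul, map_pow, hα2, ← this]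
      ring
    have e3 : algebraMap A B (b ^ 3) = algebraMap A B (s ^ 3 * y) := by
      have := IsLocalization.mk'_spec B b s
      rw [map_pow, map_mul, map_pow, hα3, ← this]
      ring
    obtain ⟨t, ht⟩ := (IsLocalization.eq_iff_exists m.primeCompl B).mp e2
    obtain ⟨t', ht'⟩ := (IsLocalization.eq_iff_exists m.primeCompl B).mp e3
    have hc : (s : A) * t * t' ∈ I := by
      refine ⟨b * t * t', ?_, ?_⟩
      · linear_combination ((t : A) * t' ^ 2) * ht
      · linear_combination ((t : A) ^ 3 * t' ^ 2) * ht'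
    have hcm : (s : A) * t * t' ∈ m := hIm hc
    rcases hm.isPrime.mem_or_mem hcm with h1 | h1
    · rcases hm.isPrime.mem_or_mem h1 with h2 | h2
      · exact s.2 h2
      · exact t.2 h2
    · exact t'.2 h1
  have h1 : (1 : A) ∈ I := hI ▸ Submodule.mem_top
  obtain ⟨a, ha2, ha3⟩ := h1
  exact ⟨a, by simpa using ha2.symm, by simpa using ha3.symm⟩


theorem isSeminormal_of_isNormalScheme (X : Scheme.{u}) (hX : Pi1.IsNormalScheme X) :
    HTop.IsSeminormal X := by
  have : IsReduced X := by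
    have : ∀ x, _root_.IsReduced (X.presheaf.stalk x) := fun x => by
      have := (hX x).1
      infer_instance
    exact isReduced_of_isReduced_stalk X
  intro x
  obtain ⟨_, ⟨U, hU : IsAffineOpen U, rfl⟩, hxU, -⟩ :=
    X.isBasis_affineOpens.exists_subset_of_mem_open (Set.mem_univ x) isOpen_univ
  refine ⟨⟨U, hU⟩, hxU, ?_⟩
  apply isSeminormalRing_of_forall_isLocalization
  intro p
  have hy : hU.fromSpec p ∈ U := by
    have : hU.fromSpec p ∈ Set.range hU.fromSpec := ⟨p, rfl⟩
    rwa [hU.range_fromSpec] at this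
  refine ⟨X.presheaf.stalk (hU.fromSpec p), inferInstance,
    TopCat.Presheaf.algebra_section_stalk X.presheaf ⟨_, hy⟩, hU.isLocalization_stalk' p hy, ?_⟩
  obtain ⟨h1, h2⟩ := hX (hU.fromSpec p)
  exact Groth.Agent.S15941.result _

theorem exists_factor_of_isNormalScheme {S Sn X' : Scheme.{u}} (π : Sn ⟶ S)
    (hn : Pi1.IsNormalScheme Sn) (ν : X' ⟶ S) (hν : HTop.IsSeminormalization ν) :
    ∃ g : Sn ⟶ X', g ≫ ν = π := by
  have hSn := isSeminormal_of_isNormalScheme Sn hn
  obtain ⟨-, hui, hsurj⟩ := (isUnivHomeo_iff ν).1 hν.1.1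
  have hpb := IsPullback.of_hasPullback π ν
  have h1 : FlatMor.IsUnivHomeo (pullback.fst π ν) :=
    MorphismProperty.of_isPullback hpb.flip hν.1.1
  have h2 : HTop.ResidueFieldsIso (pullback.fst π ν) := residueFieldsIso_of_isPullback hpb hν.1.2
  have hr1 : FlatMor.IsUnivHomeo (redι (pullback π ν) ≫ pullback.fst π ν) :=
    MorphismProperty.comp_mem _ _ _ (isUnivHomeo_redι _) h1
  have hr2 : HTop.ResidueFieldsIso (redι (pullback π ν) ≫ pullback.fst π ν) :=
    residueFieldsIso_comp _ _ (residueFieldsIso_redι _) h2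
  have hr : IsIso (redι (pullback π ν) ≫ pullback.fst π ν) :=
    isIso_of_isSeminormal _ hr1 hr2 hSn
  refine ⟨inv (redι (pullback π ν) ≫ pullback.fst π ν) ≫ redι _ ≫ pullback.snd π ν, ?_⟩
  simp only [Category.assoc, ← pullback.condition]
  rw [← Category.assoc (redι _), IsIso.inv_hom_id_assoc]

end Groth.Agent.Lib.Helper9.SN
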