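import Mathlib
import Groth.Agent.Lib.Helper9.SN1

set_option autoImplicit false
set_option linter.style.haveILetI false
universe u
open CategoryTheory AlgebraicGeometry Limits

namespace Groth.Agent.Lib.Helper9.SNFactor

open Groth.Agent.Lib.Helper9.UnivHomeoRing Groth.Agent.Lib.Helper9.SN

theorem finite_of_comp_finite_of_injective {A B C : Type*} [CommRing A] [CommRing B] [CommRing C]
    [IsNoetherianRing A] (φ : A →+* B) (ψ : B →+* C) (h : (ψ.comp φ).Finite)
    (hψ : Function.Injective ψ) : φ.Finite := by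
  letI := φ.toAlgebra
  letI := (ψ.comp φ).toAlgebra
  have hC : Module.Finite A C := h
  have : IsNoetherian A C := isNoetherian_of_isNoetherianRing_of_finite A C
  let l : B →ₗ[A] C :=
    { toFun := ψ
      map_add' := map_add ψ
      map_smul' := fun a b => by
        simp only [Algebra.smul_def, RingHom.algebraMap_toAlgebra, map_mul, RingHom.id_apply]
        rfl }
  exact Module.Finite.of_injective l hψ

theorem surjective_of_integral_of_dense_iso {S Sn : Scheme.{u}} (π : Sn ⟶ S) [IsIntegralHom π]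
    (hbir : ∃ U : S.Opens, Dense (U : Set S) ∧ Dense ((π ⁻¹ᵁ U : Sn.Opens) : Set Sn) ∧
      IsIso (π ∣_ U)) : Surjective π := by
  obtain ⟨U, hU, -, hiso⟩ := hbir
  have hsub : (U : Set S) ⊆ Set.range π := by
    intro x hx
    have hs : Function.Surjective (π ∣_ U) := (π ∣_ U).surjective
    obtain ⟨y, hy⟩ := hs ⟨x, hx⟩
    refine ⟨y.1, ?_⟩
    have := congr(($hy).1)
    simpa [morphismRestrict_base] using this
  have hcl : IsClosed (Set.range π) := π.isClosedMap.isClosed_range
  refine ⟨fun x => ?_⟩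
  have : closure (U : Set S) ⊆ Set.range π := hcl.closure_subset_iff.mpr hsub
  rw [hU.closure_eq] at this
  exact this (Set.mem_univ x)

theorem dominant_finite_of_factor {S Sn X' : Scheme.{u}} [IsNoetherian S] [IsReduced S]
    (π : Sn ⟶ S) [IsIntegralHom π]
    (hbir : ∃ U : S.Opens, Dense (U : Set S) ∧ Dense ((π ⁻¹ᵁ U : Sn.Opens) : Set Sn) ∧
      IsIso (π ∣_ U))
    (ν : X' ⟶ S) (hν : HTop.IsSeminormalization ν) (hX' : HTop.IsSeminormal X')
    (g : Sn ⟶ X') (hg : g ≫ ν = π) :
    (IsSchemeTheoreticallyDominant ν ∧ IsSchemeTheoreticallyDominant g) ∧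
      (IsFinite π → IsFinite ν ∧ IsFinite g) := by
  obtain ⟨hUC, hUI, hνs⟩ := (isUnivHomeo_iff ν).1 hν.1.1
  have hX'red := isReduced_of_isSeminormal hX'
  have hνint : IsIntegralHom ν := ((Groth.Agent.S0415.result ν).1 hν.1.1).1
  have hπs := surjective_of_integral_of_dense_iso π hbir
  have hgs : Surjective g := ⟨fun x' => by
    obtain ⟨y, hy⟩ := hπs.surj (ν x')
    refine ⟨y, ν.injective ?_⟩
    rw [← Scheme.Hom.comp_apply, hg, hy]⟩
  have h1 : IsSchemeTheoreticallyDominant ν := .of_isDominant ν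
  have h2 : IsSchemeTheoreticallyDominant g := .of_isDominant g
  refine ⟨⟨h1, h2⟩, fun hπf => ?_⟩
  have hgνf : IsFinite (g ≫ ν) := hg ▸ hπf
  have hgf : IsFinite g := MorphismProperty.of_postcomp (W := @IsFinite) (W' := @IsSeparated) g ν
    inferInstance hgνf
  refine ⟨?_, hgf⟩
  rw [isFinite_iff]
  refine ⟨inferInstance, fun U hU => ?_⟩
  have hfin := hgνf.finite_app U hU
  rw [Scheme.Hom.comp_app] at hfin
  have hfin' : ((g.app (ν ⁻¹ᵁ U)).hom.comp (ν.app U).hom).Finite := hfin
  have : IsNoetherianRing Γ(S, U) := IsLocallyNoetherian.component_noetherian ⟨U, hU⟩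
  exact finite_of_comp_finite_of_injective _ _ hfin' (g.app_injective _)

end Groth.Agent.Lib.Helper9.SNFactor
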