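import Groth.Agent.Lib.Helper9.Sat3

set_option backward.isDefEq.respectTransparency false
set_option autoImplicit false
set_option linter.unusedSectionVars false
set_option linter.unusedVariables false
universe u
open CategoryTheory CategoryTheory.Limits AlgebraicGeometry Opposite

namespace Groth.Agent.Lib.Helper9.Sat

open Groth.Agent.Lib.Helper9.DescFF Groth.Agent.Lib.Helper9.DescSec
  Groth.Agent.Lib.Helper9.DescMain Groth.Agent.Lib.Helper9.DescAff
  Groth.Agent.Lib.Helper9.DescCoprod Groth.Agent.Lib.Helper9.QAff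

/-- separated, locally quasi-finite and locally of finite type -/
def Plqf : MorphismProperty Scheme.{u} := fun _ _ f =>
  IsSeparated f ∧ LocallyQuasiFinite f ∧ LocallyOfFiniteType f

theorem mem_fpqc_of_fppf {X S : Scheme.{u}} (p : X ⟶ S) [Flat p] [Surjective p]
    [LocallyOfFinitePresentation p] :
    Presieve.ofArrows (fun _ : PUnit.{u + 1} => X) (fun _ => p) ∈ Scheme.fpqcPrecoverage S := by
  rw [Presieve.ofArrows_pUnit]
  exact Scheme.fppfPrecoverage_le_fpqcPrecoverage _ p.singleton_mem_fppfPrecoverage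

/-- the finite affine case -/
theorem isEffective_finite_affine_lqf {S : Scheme.{u}} [IsAffine S] {n : ℕ}
    {W : Fin n → Scheme.{u}} [∀ j, IsAffine (W j)] (g : ∀ j, W j ⟶ S) (hfl : ∀ j, Flat (g j))
    (hfp : ∀ j, LocallyOfFinitePresentation (g j))
    (hs : ∀ s : S, ∃ j, s ∈ Set.range (g j)) (D : Desc.SchDDFam g)
    (hD : ∀ j, Plqf (D.obj j).hom) : D.IsEffective := by
  apply isEffective_of_coprod
  apply effective_of_fam
  haveI : Flat (πc g) := IsZariskiLocalAtSource.sigmaDesc (P := @Flat) hfl
  haveI : LocallyOfFinitePresentation (πc g) :=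
    IsZariskiLocalAtSource.sigmaDesc (P := @LocallyOfFinitePresentation) hfp
  haveI : Surjective (πc g) := ⟨fun s => by
    obtain ⟨j, w, rfl⟩ := hs s
    exact ⟨(Sigma.ι W j) w, by rw [← Scheme.Hom.comp_apply, Sigma.ι_desc]⟩⟩
  refine isEffective_of_indQuasiAffine (πc g) _ (fun O hO => ?_)
  have h1 : IsSeparated (Qc D) :=
    sigmaMap_of_isZariskiLocalAtTarget _ (@IsSeparated) (fun j => (hD j).1)
  have h2 : LocallyQuasiFinite (Qc D) :=
    sigmaMap_of_isZariskiLocalAtTarget _ (@LocallyQuasiFinite) (fun j => (hD j).2.1)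
  have h3 : LocallyOfFiniteType (Qc D) :=
    sigmaMap_of_isZariskiLocalAtTarget _ (@LocallyOfFiniteType) (fun j => (hD j).2.2)
  exact Groth.Agent.Lib.Helper3.QAffDesc.isQuasiAffine_of_lqf (Qc D) inferInstance
    ⟨⟨h1, h2⟩, h3⟩ O.toScheme O.ι inferInstance (isCompact_iff_compactSpace.mp hO)

/-- fppf descent for schemes separated and locally quasi-finite over the members of the covering -/
theorem isEffective_of_lqf {ι : Type u} {S : Scheme.{u}} {U : ι → Scheme.{u}}
    (u : ∀ i, U i ⟶ S) (hu : Presieve.ofArrows U u ∈ Scheme.fpqcPrecoverage S)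
    (hfp : ∀ i, LocallyOfFinitePresentation (u i))
    (D : Desc.SchDDFam u) (hD : ∀ i, Plqf (D.obj i).hom) : D.IsEffective :=
  isEffective_of_fpqc'' Plqf (@LocallyOfFinitePresentation)
    (fun q i _ h => by
      obtain ⟨h1, h2, h3⟩ := h
      exact ⟨inferInstance, inferInstance, inferInstance⟩)
    (fun f i _ h => by
      haveI : LocallyOfFinitePresentation f := h
      exact (inferInstance : LocallyOfFinitePresentation (pullback.snd f i)))
    (fun i f _ h => by
      haveI : LocallyOfFinitePresentation f := h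
      exact (inferInstance : LocallyOfFinitePresentation (i ≫ f)))
    (fun g hfl hfp hs D hD => isEffective_finite_affine_lqf g hfl hfp hs D hD) u hu hfp D hD

/-- fppf descent for separated locally quasi-finite schemes, single morphism -/
theorem effective_of_lqf {X S : Scheme.{u}} (p : X ⟶ S) [Flat p] [Surjective p]
    [LocallyOfFinitePresentation p] (D : Desc.SchDD p) [IsSeparated D.obj.hom]
    [LocallyQuasiFinite D.obj.hom] [LocallyOfFiniteType D.obj.hom] :
    ∃ U : Over S, Nonempty ((Desc.toDD p).obj U ≅ D) := by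
  apply effective_of_fam
  exact isEffective_of_lqf (fun _ : PUnit.{u + 1} => p) (mem_fpqc_of_fppf p) (fun _ => inferInstance)
    _ (fun _ => ⟨‹IsSeparated D.obj.hom›, ‹LocallyQuasiFinite D.obj.hom›,
      ‹LocallyOfFiniteType D.obj.hom›⟩)

end Groth.Agent.Lib.Helper9.Sat
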