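import Groth.Agent.Lib.Helper9.Sat4

set_option backward.isDefEq.respectTransparency false
set_option autoImplicit false
set_option linter.unusedSectionVars false
set_option linter.unusedVariables false
universe u
open CategoryTheory CategoryTheory.Limits AlgebraicGeometry Opposite

namespace Groth.Agent.Lib.Helper9.Sat

open Groth.Agent.Lib.Helper9.DescFF Groth.Agent.Lib.Helper9.DescSec
  Groth.Agent.Lib.Helper9.DescMain Groth.Agent.Lib.Helper9.DescAff
  Groth.Agent.Lib.Helper9.DescCoprod Groth.Agent.Lib.Helper9.QAff

section general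

variable {X S : Scheme.{u}} (p : X ⟶ S) [Flat p] [Surjective p] [IsAffineHom p]
  (D : Desc.SchDDFam (fun _ : PUnit.{u + 1} => p))

/-- a quasi-compact scheme isomorphic to a quasi-affine scheme is quasi-affine -/
theorem isQuasiAffine_of_isIso {A B : Scheme.{u}} (m : A ⟶ B) [IsIso m] [B.IsQuasiAffine] :
    A.IsQuasiAffine := by
  haveI : CompactSpace A := QuasiCompact.compactSpace_of_compactSpace m
  exact isQuasiAffine_of_isOpenImmersion m

/-- the restriction of a descent datum to a stable quasi-affine open lying over an affine open of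
the base is effective -/
theorem isEffective_restrict_of_quasiAffine (O : (V D).Opens) (hO : IsStable D (fun _ => O))
    (S₀ : S.Opens) (hS₀ : IsAffineOpen S₀) (hsupp : ∀ v ∈ O, p ((h D) v) ∈ S₀)
    [O.toScheme.IsQuasiAffine] : (restrictDD hO).IsEffective := by
  have hf : Presieve.ofArrows (fun _ : PUnit.{u + 1} => X) (fun _ => p) ∈
      Scheme.fpqcPrecoverage S := mem_fpqc_of_pUnit p
  refine isEffective_of_support hf (restrictDD hO) S₀ (fun i v => ?_) ?_
  · exact hsupp _ v.2
  · haveI : IsAffine S₀.toScheme := hS₀
    haveI : IsAffine (pullback p S₀.ι) := isAffine_of_isAffineHom (pullback.snd p S₀.ι)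
    -- the object of the pulled-back datum is isomorphic to `O`
    let m : pullback (O.ι ≫ h D) (pullback.fst p S₀.ι) ⟶ O.toScheme :=
      pullback.fst (O.ι ≫ h D) (pullback.fst p S₀.ι)
    haveI : Surjective m := by
      rw [surjective_iff, ← Set.range_eq_univ]
      change Set.range (pullback.fst (O.ι ≫ h D) (pullback.fst p S₀.ι)) = Set.univ
      rw [Scheme.Pullback.range_fst, Scheme.Pullback.range_fst, Scheme.Opens.range_ι]
      ext o
      simp only [Set.mem_preimage, Set.mem_univ, iff_true]
      change p ((O.ι ≫ h D) o) ∈ S₀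
      exact hsupp _ o.2
    haveI : IsIso m := (isIso_iff_isOpenImmersion_and_surjective m).2 ⟨inferInstance, inferInstance⟩
    haveI : ((pullD (p := S₀.ι) (f' := fun _ : PUnit.{u + 1} => pullback.snd p S₀.ι)
        (p' := fun _ => pullback.fst p S₀.ι) (fun _ => pullback.condition)
        (restrictDD hO)).obj PUnit.unit).left.IsQuasiAffine := isQuasiAffine_of_isIso m
    exact isEffective_quasiAffine (pullback.snd p S₀.ι) _

/-- a descent datum covered by stable quasi-affine opens lying over affine opens of the base is
effective -/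
theorem isEffective_of_stable_quasiAffine'
    (H : ∀ v : V D, ∃ (O : (V D).Opens) (S₀ : S.Opens), v ∈ O ∧ IsStable D (fun _ => O) ∧
      IsAffineOpen S₀ ∧ (∀ v' ∈ O, p ((h D) v') ∈ S₀) ∧ O.toScheme.IsQuasiAffine) :
    D.IsEffective := by
  choose O S₀ hvO hO hS₀ hsupp hqa using H
  refine isEffective_of_sub (mem_fpqc_of_pUnit p) (A := ↥(V D))
    (fun v => restrictDD (hO v)) (fun v => restrictι (hO v)) (fun v i => inferInstance)
    (fun v => ?_) (fun i v => ⟨v, ?_⟩)
  · haveI := hqa v
    exact isEffective_restrict_of_quasiAffine p D (O v) (hO v) (S₀ v) (hS₀ v) (hsupp v)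
  · rw [range_restrictι]; exact hvO v

end general

end Groth.Agent.Lib.Helper9.Sat
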