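import Groth.Agent.Lib.Helper9.Sat5

set_option backward.isDefEq.respectTransparency false
set_option autoImplicit false
set_option linter.unusedSectionVars false
set_option linter.unusedVariables false
universe u
open CategoryTheory CategoryTheory.Limits AlgebraicGeometry Opposite

namespace Groth.Agent.Lib.Helper9.Sat

open Groth.Agent.Lib.Helper9.DescFF Groth.Agent.Lib.Helper9.DescSec
  Groth.Agent.Lib.Helper9.DescMain Groth.Agent.Lib.Helper9.DescAff
  Groth.Agent.Lib.Helper9.DescCoprod Groth.Agent.Lib.Helper9.QAff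

section orbit

variable {X S : Scheme.{u}} {p : X ⟶ S} (D : Desc.SchDDFam (fun _ : PUnit.{u + 1} => p))

/-- the source and target of a point of `R` lie over the same point of the base -/
theorem base_t (r : R D) : p ((h D) ((t D) r)) = p ((h D) ((s D) r)) := by
  have e : t D ≫ h D ≫ p = s D ≫ h D ≫ p := by
    rw [← Category.assoc, t_h, ← Category.assoc]; exact (cond D).symm
  have := congrArg (fun f : R D ⟶ S => f r) e
  simpa [Scheme.Hom.comp_apply] using this

theorem base_of_mem_satSet (W : Set (V D)) (S₀ : Set S) (hW : ∀ w ∈ W, p ((h D) w) ∈ S₀)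
    (v' : V D) (hv' : v' ∈ satSet D W) : p ((h D) v') ∈ S₀ := by
  obtain ⟨r, hr, rfl⟩ := hv'
  rw [base_t]
  exact hW _ hr

end orbit

section finite

variable {X S : Scheme.{u}} (p : X ⟶ S) [Flat p] [Surjective p] [IsFinite p] [UniversallyOpen p]
  (D : Desc.SchDDFam (fun _ : PUnit.{u + 1} => p))

theorem finite_satSet_singleton (v : V D) : (satSet D {v}).Finite := by
  haveI : IsFinite (s D) := inferInstance
  exact ((s D).finite_preimage_singleton v).image _

/-- relative to a finite flat universally open surjection, a descent datum all of whose orbits lie in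
affine opens is effective -/
theorem isEffective_of_orbit_affine
    (H : ∀ v : V D, ∃ U : (V D).Opens, IsAffineOpen U ∧ satSet D {v} ⊆ (U : Set (V D))) :
    D.IsEffective := by
  haveI : QuasiCompact p := inferInstance
  refine isEffective_of_stable_quasiAffine' p D (fun v => ?_)
  obtain ⟨U, hU, hvU⟩ := H v
  obtain ⟨S₀, hS₀, hyS₀, -⟩ :=
    exists_isAffineOpen_mem_and_subset (x := p ((h D) v)) (U := ⊤) trivial
  -- the closed set of points with some orbit point outside `U`
  haveI : IsFinite (s D) := inferInstance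
  have hcl : IsClosed (s D '' ((t D ⁻¹' (U : Set (V D)))ᶜ)) :=
    (s D).isClosedMap _ ((U.isOpen.preimage (t D).continuous).isClosed_compl)
  let G : (V D).Opens := ⟨(s D '' ((t D ⁻¹' (U : Set (V D)))ᶜ))ᶜ, hcl.isOpen_compl⟩ ⊓
    ((h D ≫ p) ⁻¹ᵁ S₀)
  have hvG : v ∈ G := by
    refine ⟨?_, hyS₀⟩
    rintro ⟨r, hr, hrv⟩
    exact hr (hvU ⟨r, hrv, rfl⟩)
  obtain ⟨W, hW, hvW, hWG⟩ := exists_isAffineOpen_mem_and_subset (x := v) (U := G) hvG
  have hOU : sat D W ≤ U := by
    rintro _ ⟨r, hr, rfl⟩
    by_contra hcon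
    exact (hWG hr).1 ⟨r, hcon, rfl⟩
  have hqc : CompactSpace (sat D W).toScheme :=
    isCompact_iff_compactSpace.mp (isCompact_sat D W hW.isCompact)
  haveI : IsAffine U.toScheme := hU
  have hqa : (sat D W).toScheme.IsQuasiAffine :=
    isQuasiAffine_of_isOpenImmersion ((V D).homOfLE hOU)
  refine ⟨sat D W, S₀, le_sat D W hvW, isStable_sat D W, hS₀, ?_, hqa⟩
  intro v' hv'
  exact base_of_mem_satSet D _ _ (fun w hw => (hWG hw).2) v' hv'

end finite

end Groth.Agent.Lib.Helper9.Sat
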