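import Groth.Agent.Lib.Helper9.Sat6
import Groth.Agent.Lib.Helper24.Homog.KPoints

set_option backward.isDefEq.respectTransparency false
set_option autoImplicit false
set_option linter.unusedSectionVars false
set_option linter.unusedVariables false
universe u
open CategoryTheory CategoryTheory.Limits AlgebraicGeometry Opposite

namespace Groth.Agent.Lib.Helper9.Sat

open Groth.Agent.Lib.Helper9.DescFF Groth.Agent.Lib.Helper9.DescSec

section count

/-- every point of a scheme finite over an algebraically closed field is the image of a section -/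
theorem exists_section_of_isFinite {k : Type u} [Field k] [IsAlgClosed k] {F : Scheme.{u}}
    (q : F ⟶ Spec (CommRingCat.of k)) [IsFinite q] (z : F) :
    ∃ σ : Spec (CommRingCat.of k) ⟶ F, σ ≫ q = 𝟙 _ ∧ ∀ t, σ t = z := by
  have hsub : Subsingleton ↥(Spec (CommRingCat.of k)) :=
    (inferInstance : Subsingleton (PrimeSpectrum k))
  have hd : _root_.IsDiscrete (q ⁻¹' {q z}) := q.isDiscrete_preimage_singleton (q z)
  have huniv : q ⁻¹' {q z} = Set.univ := by
    ext w; simp only [Set.mem_preimage, Set.mem_singleton_iff, Set.mem_univ, iff_true]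
    exact Subsingleton.elim _ _
  rw [huniv, isDiscrete_univ_iff] at hd
  have hz : IsClosed ({z} : Set F) := isClosed_discrete _
  obtain ⟨y, hy1, hy2⟩ :=
    Groth.Agent.Lib.Helper24.Homog.exists_Kpoint_of_isClosed_singleton (k := k) (K := k) q z hz
  refine ⟨y, ?_, hy2⟩
  rw [hy1, Algebra.algebraMap_self]
  exact Spec.map_id _

/-- the fibre of a finite morphism over the image point of a geometric point has at most as many
points as there are liftings of the geometric point -/
theorem encard_preimage_le {R V : Scheme.{u}} (f : R ⟶ V) [IsFinite f] {k : Type u} [Field k]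
    [IsAlgClosed k] (ν : Spec (CommRingCat.of k) ⟶ V) (v : V) (hν : Set.range ν = {v}) :
    (f ⁻¹' {v}).encard ≤ {ρ : Spec (CommRingCat.of k) ⟶ R | ρ ≫ f = ν}.encard := by
  let q := pullback.fst ν f
  let g := pullback.snd ν f
  haveI : IsFinite q := inferInstance
  have hr : Set.range g = f ⁻¹' {v} := by rw [Scheme.Pullback.range_snd, hν]
  choose σ hσ1 hσ2 using exists_section_of_isFinite q
  have h1 : (f ⁻¹' {v}).encard ≤ (Set.univ : Set ↥(pullback ν f)).encard := by
    rw [← hr, ← Set.image_univ]
    exact Set.encard_image_le _ _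
  refine h1.trans ?_
  refine Set.encard_le_encard_of_injOn (f := fun z => σ z ≫ g) ?_ ?_
  · intro z _
    change (σ z ≫ g) ≫ f = ν
    rw [Category.assoc, ← pullback.condition, ← Category.assoc, hσ1, Category.id_comp]
  · intro z _ z' _ hzz'
    have e : σ z = σ z' := by
      apply pullback.hom_ext
      · rw [hσ1, hσ1]
      · exact hzz'
    have pt : ↥(Spec (CommRingCat.of k)) := (⊥ : PrimeSpectrum k)
    rw [← hσ2 z pt, ← hσ2 z' pt, e]

end count

end Groth.Agent.Lib.Helper9.Sat

namespace Groth.Agent.Lib.Helper9.Sat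

open Groth.Agent.Lib.Helper9.DescFF Groth.Agent.Lib.Helper9.DescSec

section bound

variable {X S : Scheme.{u}} (p : X ⟶ S) (D : Desc.SchDDFam (fun _ : PUnit.{u + 1} => p))

theorem encard_satSet_singleton_le [IsFinite p] (d : ℕ)
    (hfib : ∀ (k : Type u) [Field k] [IsAlgClosed k] (y : Spec (CommRingCat.of k) ⟶ S),
      Set.encard {x : Spec (CommRingCat.of k) ⟶ X | x ≫ p = y} ≤ d) (v : V D) :
    (satSet D {v}).encard ≤ d := by
  let k := AlgebraicClosure ((V D).residueField v)
  let ν : Spec (CommRingCat.of k) ⟶ V D :=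
    Spec.map (CommRingCat.ofHom (algebraMap ((V D).residueField v) k)) ≫
      (V D).fromSpecResidueField v
  have hν : Set.range ν = {v} := by
    ext w
    constructor
    · rintro ⟨t, rfl⟩
      rw [Set.mem_singleton_iff, Scheme.Hom.comp_apply]
      exact Scheme.fromSpecResidueField_apply _ _
    · intro hw
      rw [Set.mem_singleton_iff] at hw
      have pt : ↥(Spec (CommRingCat.of k)) := (⊥ : PrimeSpectrum k)
      refine ⟨pt, ?_⟩
      rw [hw, Scheme.Hom.comp_apply]
      exact Scheme.fromSpecResidueField_apply _ _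
  haveI : IsFinite (s D) := inferInstance
  have h1 : (satSet D {v}).encard ≤ (s D ⁻¹' {v}).encard := Set.encard_image_le _ _
  have h2 := encard_preimage_le (s D) ν v hν
  have h3 : {ρ : Spec (CommRingCat.of k) ⟶ R D | ρ ≫ s D = ν}.encard ≤
      {x : Spec (CommRingCat.of k) ⟶ X | x ≫ p = ν ≫ h D ≫ p}.encard := by
    refine Set.encard_le_encard_of_injOn (f := fun ρ => ρ ≫ pr₂ D) ?_ ?_
    · intro ρ hρ
      change (ρ ≫ pr₂ D) ≫ p = ν ≫ h D ≫ p
      have hρ' : ρ ≫ s D = ν := hρ
      rw [← hρ', Category.assoc, Category.assoc, ← pullback.condition]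
    · intro ρ hρ ρ' hρ' e
      have hρ1 : ρ ≫ s D = ν := hρ
      have hρ2 : ρ' ≫ s D = ν := hρ'
      apply pullback.hom_ext
      · exact hρ1.trans hρ2.symm
      · exact e
  exact h1.trans (h2.trans (h3.trans (hfib k _)))

variable [Flat p] [Surjective p] [IsFinite p] [UniversallyOpen p]

/-- relative to a finite flat universally open surjection with at most `d` geometric points in
each geometric fibre, a descent datum such that any `d` points over a common point of the base lie in
an affine open is effective -/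
theorem isEffective_of_bounded_orbits (d : ℕ) (hd : 0 < d)
    (hfib : ∀ (k : Type u) [Field k] [IsAlgClosed k] (y : Spec (CommRingCat.of k) ⟶ S),
      Set.encard {x : Spec (CommRingCat.of k) ⟶ X | x ≫ p = y} ≤ d)
    (hV : ∀ (y : S) (v : Fin d → V D), (∀ i, p ((h D) (v i)) = y) →
      ∃ U : (V D).Opens, IsAffineOpen U ∧ ∀ i, v i ∈ U) : D.IsEffective := by
  refine isEffective_of_orbit_affine p D (fun v => ?_)
  have hle := encard_satSet_singleton_le p D d hfib v
  have hfin : (satSet D {v}).Finite := Set.finite_of_encard_le_coe hle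
  haveI : Finite ↥(satSet D {v}) := hfin.to_subtype
  haveI : Fintype ↥(satSet D {v}) := Fintype.ofFinite _
  haveI : Nonempty ↥(satSet D {v}) := ⟨⟨v, subset_satSet D _ rfl⟩⟩
  have hcard : Fintype.card ↥(satSet D {v}) ≤ Fintype.card (Fin d) := by
    rw [Fintype.card_fin]
    have h1 : (satSet D {v}).encard = (Fintype.card ↥(satSet D {v}) : ℕ∞) := by
      rw [← Set.toFinset_card, Set.encard_eq_coe_toFinset_card]
    rw [h1] at hle
    exact_mod_cast hle
  obtain ⟨e⟩ := Function.Embedding.nonempty_of_card_le hcard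
  let w : Fin d → V D := fun i => (Function.invFun e i).1
  obtain ⟨U, hU, hwU⟩ := hV (p ((h D) v)) w (fun i =>
    base_of_mem_satSet D {v} {p ((h D) v)}
      (fun w hw => by rw [Set.mem_singleton_iff] at hw; rw [hw]; rfl) _ (Function.invFun e i).2)
  refine ⟨U, hU, fun v' hv' => ?_⟩
  have h2 := hwU (e ⟨v', hv'⟩)
  have h3 : Function.invFun e (e ⟨v', hv'⟩) = ⟨v', hv'⟩ :=
    Function.leftInverse_invFun e.injective _
  change (Function.invFun e (e ⟨v', hv'⟩)).1 ∈ U at h2
  rw [h3] at h2
  exact h2

end bound

end Groth.Agent.Lib.Helper9.Sat
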