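import Mathlib
import Groth.Agent.Lib.Helper20.SpecLim
set_option autoImplicit false
set_option linter.style.haveILetI false
set_option linter.unusedSectionVars false
set_option linter.unusedVariables false
universe u
open CategoryTheory CategoryTheory.Limits Topology TopologicalSpace Set

namespace Groth.Agent.Lib.Helper9.Sbt

open Groth.Agent.Lib.Helper20.SpecLim

section closed
variable {X : Type*} [TopologicalSpace X] [PrespectralSpace X]

/-- the specialization relation is closed for the constructible topology -/
theorem isClosed_setOf_specializes :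
    IsClosed {p : WithConstructibleTopology X × WithConstructibleTopology X |
      p.2.ofTopology ⤳ p.1.ofTopology} := by
  rw [← isOpen_compl_iff, isOpen_iff_forall_mem_open]
  rintro ⟨a, a'⟩ hp
  simp only [mem_compl_iff, mem_ofPred_eq] at hp
  rw [specializes_iff_forall_open] at hp
  push Not at hp
  obtain ⟨U, hU, haU, ha'U⟩ := hp
  obtain ⟨V, ⟨hVo, hVc⟩, haV, hVU⟩ :=
    (PrespectralSpace.isTopologicalBasis (X := X)).exists_subset_of_mem_open haU hU
  refine ⟨(WithTopology.ofTopology ⁻¹' V) ×ˢ (WithTopology.ofTopology ⁻¹' Vᶜ), ?_, ?_, ?_⟩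
  · rintro ⟨b, b'⟩ ⟨hb, hb'⟩ hsp
    simp only [mem_ofPred_eq] at hsp
    exact hb' (hsp.mem_open hVo hb)
  · refine IsOpen.prod ?_ ?_
    · rw [WithTopology.isOpen_iff]
      exact hVc.isOpen_constructibleTopology_of_isOpen hVo
    · rw [WithTopology.isOpen_iff]
      exact IsCompact.isOpen_constructibleTopology_of_isClosed (s := Vᶜ) (by rwa [compl_compl])
        hVo.isClosed_compl
  · exact ⟨haV, fun h => ha'U (hVU h)⟩

end closed

section ttop

variable {J : Type u} [SmallCategory J] [IsCofiltered J]
  (A B : J → Type u) [∀ k, TopologicalSpace (A k)] [∀ k, TopologicalSpace (B k)]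
  [∀ k, CompactSpace (A k)] [∀ k, QuasiSeparatedSpace (A k)] [∀ k, QuasiSober (A k)]
  [∀ k, PrespectralSpace (A k)] [∀ k, T0Space (A k)]
  [∀ k, PrespectralSpace (B k)] [∀ k, T0Space (B k)]
  (r : ∀ k, A k → B k) (hr : ∀ k, IsSpectralMap (r k))
  (ta : ∀ {k k' : J}, (k ⟶ k') → A k → A k')
  (hta : ∀ {k k' : J} (a : k ⟶ k'), IsSpectralMap (ta a))
  (ta_id : ∀ (k : J) (x : A k), ta (𝟙 k) x = x)
  (ta_comp : ∀ {k k' k'' : J} (a : k ⟶ k') (b : k' ⟶ k'') (x : A k),
    ta (a ≫ b) x = ta b (ta a x))
  (tb : ∀ {k k' : J}, (k ⟶ k') → B k → B k')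
  (nat : ∀ {k k' : J} (a : k ⟶ k') (x : A k), r k' (ta a x) = tb a (r k x))
  (y y' : ∀ k, B k) (hy : ∀ {k k' : J} (a : k ⟶ k'), tb a (y k) = y k')
  (hy' : ∀ {k k' : J} (a : k ⟶ k'), tb a (y' k) = y' k')
  (hne : ∀ k, ∃ x x' : A k, x' ⤳ x ∧ r k x = y k ∧ r k x' = y' k)

/-- the closed set of admissible pairs -/
def Ptil (k : J) : Set (WithConstructibleTopology (A k) × WithConstructibleTopology (A k)) :=
  {p | p.2.ofTopology ⤳ p.1.ofTopology ∧ r k p.1.ofTopology = y k ∧ r k p.2.ofTopology = y' k}

include hr in
theorem isClosed_Ptil (k : J) : IsClosed (Ptil A B r y y' k) := by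
  haveI : T2Space (WithConstructibleTopology (B k)) := t2Space_wct
  have h1 : IsClosed {p : WithConstructibleTopology (A k) × WithConstructibleTopology (A k) |
      p.2.ofTopology ⤳ p.1.ofTopology} := isClosed_setOf_specializes
  have h2 : IsClosed {p : WithConstructibleTopology (A k) × WithConstructibleTopology (A k) |
      r k p.1.ofTopology = y k} := by
    have hc : Continuous (fun p : WithConstructibleTopology (A k) ×
        WithConstructibleTopology (A k) => consMap (r k) p.1) :=
      (continuous_consMap (hr k)).comp continuous_fst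
    have := (isClosed_singleton (x := WithTopology.toTopology (constructibleTopology (B k))
      (y k))).preimage hc
    convert this using 1
    ext p
    simp only [mem_ofPred_eq, mem_preimage, mem_singleton_iff, consMap]
    constructor
    · intro h; rw [h]
    · intro h; exact congrArg WithTopology.ofTopology h
  have h3 : IsClosed {p : WithConstructibleTopology (A k) × WithConstructibleTopology (A k) |
      r k p.2.ofTopology = y' k} := by
    have hc : Continuous (fun p : WithConstructibleTopology (A k) ×
        WithConstructibleTopology (A k) => consMap (r k) p.2) :=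
      (continuous_consMap (hr k)).comp continuous_snd
    have := (isClosed_singleton (x := WithTopology.toTopology (constructibleTopology (B k))
      (y' k))).preimage hc
    convert this using 1
    ext p
    simp only [mem_ofPred_eq, mem_preimage, mem_singleton_iff, consMap]
    constructor
    · intro h; rw [h]
    · intro h; exact congrArg WithTopology.ofTopology h
  exact (h1.inter (h2.inter h3))

include hta nat hy hy' in
theorem map_mem_Ptil {k k' : J} (a : k ⟶ k')
    (p : WithConstructibleTopology (A k) × WithConstructibleTopology (A k))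
    (hp : p ∈ Ptil A B r y y' k) :
    (consMap (ta a) p.1, consMap (ta a) p.2) ∈ Ptil A B r y y' k' := by
  obtain ⟨h1, h2, h3⟩ := hp
  refine ⟨?_, ?_, ?_⟩
  · exact h1.map (hta a).toContinuous
  · change r k' (ta a p.1.ofTopology) = y k'
    rw [nat, h2, hy]
  · change r k' (ta a p.2.ofTopology) = y' k'
    rw [nat, h3, hy']

/-- the cofiltered system of admissible pairs -/
noncomputable def G : J ⥤ TopCat.{u} where
  obj k := TopCat.of (Ptil A B r y y' k)
  map {k k'} a := TopCat.ofHom
    { toFun := fun p => ⟨(consMap (ta a) p.1.1, consMap (ta a) p.1.2),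
        map_mem_Ptil A B r ta hta tb nat y y' hy hy' a p.1 p.2⟩
      continuous_toFun := by
        refine Continuous.subtype_mk ?_ _
        exact ((continuous_consMap (hta a)).comp (continuous_fst.comp continuous_subtype_val)).prodMk
          ((continuous_consMap (hta a)).comp (continuous_snd.comp continuous_subtype_val)) }
  map_id k := by
    ext p
    · exact ta_id k p.1.1.ofTopology
    · exact ta_id k p.1.2.ofTopology
  map_comp {k k' k''} a b := by
    ext p
    · exact ta_comp a b p.1.1.ofTopology
    · exact ta_comp a b p.1.2.ofTopology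

include hr hne hta ta_id ta_comp nat hy hy' in
theorem exists_compatible :
    ∃ x x' : ∀ k, A k, (∀ {k k' : J} (a : k ⟶ k'), ta a (x k) = x k') ∧
      (∀ {k k' : J} (a : k ⟶ k'), ta a (x' k) = x' k') ∧
      ∀ k, x' k ⤳ x k ∧ r k (x k) = y k ∧ r k (x' k) = y' k := by
  let F := G A B r ta hta ta_id ta_comp tb nat y y' hy hy'
  haveI : ∀ k, Nonempty (F.obj k) := fun k => by
    obtain ⟨x, x', h1, h2, h3⟩ := hne k
    exact ⟨⟨(WithTopology.toTopology _ x, WithTopology.toTopology _ x'), h1, h2, h3⟩⟩
  haveI : ∀ k, CompactSpace (F.obj k) := fun k =>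
    isCompact_iff_compactSpace.mp (isClosed_Ptil A B r hr y y' k).isCompact
  haveI : ∀ k, T2Space (WithConstructibleTopology (A k)) := fun k => t2Space_wct
  haveI : ∀ k, T2Space (F.obj k) := fun k =>
    inferInstanceAs (T2Space (Ptil A B r y y' k))
  obtain ⟨u, hu⟩ := TopCat.nonempty_limitCone_of_compact_t2_cofiltered_system.{u, u} F
  refine ⟨fun k => (u k).1.1.ofTopology, fun k => (u k).1.2.ofTopology, ?_, ?_, ?_⟩
  · intro k k' a
    have := congrArg (fun q => q.1.1.ofTopology) (hu a)
    exact this
  · intro k k' a
    have := congrArg (fun q => q.1.2.ofTopology) (hu a)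
    exact this
  · intro k
    exact (u k).2

end ttop

end Groth.Agent.Lib.Helper9.Sbt
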