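import Mathlib
set_option autoImplicit false
set_option linter.style.haveILetI false
set_option linter.unusedSectionVars false
universe u v w
open CategoryTheory CategoryTheory.Limits AlgebraicGeometry TopologicalSpace

namespace Groth.Agent.Lib.Helper9.TopLim

section ring

variable {J : Type v} [Category.{w} J] [IsCofiltered J]
  {A : J → Type u} [∀ j, CommRing (A j)] {B : Type u} [CommRing B]
  (φ : ∀ {j k : J}, (j ⟶ k) → (A k →+* A j)) (ι : ∀ j, A j →+* B)
  (hι : ∀ {j k : J} (f : j ⟶ k) (b : A k), ι j (φ f b) = ι k b)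
  (hsurj : ∀ a : B, ∃ (j : J) (b : A j), ι j b = a)
  (hinj : ∀ (j : J) (b : A j), ι j b = 0 → ∃ (k : J) (f : k ⟶ j), φ f b = 0)
  (P : ∀ j, Ideal (A j)) (hPprime : ∀ j, (P j).IsPrime)
  (hP : ∀ {j k : J} (f : j ⟶ k), (P j).comap (φ f) = P k)

include hι hinj hP in
lemma mem_of_ι_eq {j k : J} (b : A j) (b' : A k) (hb' : b' ∈ P k) (h : ι j b = ι k b') :
    b ∈ P j := by
  let l := IsCofiltered.min j k
  let g : l ⟶ j := IsCofiltered.minToLeft j k
  let h' : l ⟶ k := IsCofiltered.minToRight j k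
  have h0 : ι l (φ g b - φ h' b') = 0 := by
    rw [map_sub, hι, hι, h, sub_self]
  obtain ⟨m, t, ht⟩ := hinj l _ h0
  rw [map_sub, sub_eq_zero] at ht
  have h1 : φ h' b' ∈ P l := by
    rw [← hP h'] at hb'
    exact hb'
  have h2 : φ t (φ g b) ∈ P m := by
    rw [ht]
    have : φ h' b' ∈ (P m).comap (φ t) := by rw [hP t]; exact h1
    exact this
  have h3 : φ g b ∈ P l := by
    rw [← hP t]; exact h2
  rw [← hP g]; exact h3

include hι hsurj hinj hPprime hP in
lemma exists_prime : ∃ p : Ideal B, p.IsPrime ∧ ∀ j, p.comap (ι j) = P j := by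
  have hmem := @mem_of_ι_eq J _ _ A _ B _ φ ι hι hinj P hP
  let p : Ideal B :=
    { carrier := {a | ∃ (j : J) (b : A j), b ∈ P j ∧ ι j b = a}
      zero_mem' := by
        obtain ⟨j⟩ := IsCofiltered.nonempty (C := J)
        exact ⟨j, 0, (P j).zero_mem, map_zero _⟩
      add_mem' := by
        rintro a a' ⟨j, b, hb, rfl⟩ ⟨k, b', hb', rfl⟩
        refine ⟨IsCofiltered.min j k, φ (IsCofiltered.minToLeft j k) b +
          φ (IsCofiltered.minToRight j k) b', ?_, ?_⟩
        · refine (P _).add_mem ?_ ?_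
          · rw [← hP (IsCofiltered.minToLeft j k)] at hb; exact hb
          · rw [← hP (IsCofiltered.minToRight j k)] at hb'; exact hb'
        · rw [map_add, hι, hι]
      smul_mem' := by
        rintro r a ⟨j, b, hb, rfl⟩
        obtain ⟨k, s, rfl⟩ := hsurj r
        refine ⟨IsCofiltered.min j k, φ (IsCofiltered.minToRight j k) s *
          φ (IsCofiltered.minToLeft j k) b, ?_, ?_⟩
        · refine (P _).mul_mem_left _ ?_
          rw [← hP (IsCofiltered.minToLeft j k)] at hb; exact hb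
        · rw [map_mul, hι, hι, smul_eq_mul] }
  have hp : ∀ (j : J) (b : A j), ι j b ∈ p → b ∈ P j := by
    rintro j b ⟨k, b', hb', h⟩
    exact hmem b b' hb' h.symm
  refine ⟨p, ?_, ?_⟩
  · constructor
    · intro htop
      obtain ⟨j⟩ := IsCofiltered.nonempty (C := J)
      have h1 : ι j 1 ∈ p := by rw [htop]; trivial
      exact (hPprime j).ne_top ((Ideal.eq_top_iff_one _).mpr (hp j 1 h1))
    · intro a a' haa'
      obtain ⟨j, b, rfl⟩ := hsurj a
      obtain ⟨k, b', rfl⟩ := hsurj a'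
      have h1 : ι (IsCofiltered.min j k) (φ (IsCofiltered.minToLeft j k) b *
          φ (IsCofiltered.minToRight j k) b') ∈ p := by
        rw [map_mul, hι, hι]; exact haa'
      rcases (hPprime _).mem_or_mem (hp _ _ h1) with h2 | h2
      · left
        exact ⟨_, _, h2, hι _ _⟩
      · right
        exact ⟨_, _, h2, hι _ _⟩
  · intro j
    ext b
    constructor
    · intro hb
      exact hp j b hb
    · intro hb
      exact ⟨j, b, hb, rfl⟩

end ring

section affine

variable {J : Type u} [SmallCategory J] [IsCofiltered J] (E : J ⥤ Scheme.{u})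
  (e : Cone E) (he : IsLimit e) [∀ j, IsAffine (E.obj j)]

include he in
lemma exists_point_of_isAffine (v : ∀ j, E.obj j)
    (hv : ∀ {j k : J} (f : j ⟶ k), (E.map f) (v j) = v k) :
    ∃ x : e.pt, ∀ j, (e.π.app j) x = v j := by
  have : IsAffine e.pt := Scheme.isAffine_of_isLimit e he
  let P : ∀ j, Ideal Γ(E.obj j, ⊤) := fun j => ((E.obj j).isoSpec.hom (v j)).asIdeal
  have hPprime : ∀ j, (P j).IsPrime := fun j => ((E.obj j).isoSpec.hom (v j)).isPrime
  have hP : ∀ {j k : J} (f : j ⟶ k), (P j).comap (E.map f).appTop.hom = P k := by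
    intro j k f
    have h1 := Scheme.isoSpec_hom_naturality (E.map f)
    have h2 : (Spec.map (E.map f).appTop) ((E.obj j).isoSpec.hom (v j)) =
        (E.obj k).isoSpec.hom (v k) := by
      rw [← hv f, ← Scheme.Hom.comp_apply, h1, Scheme.Hom.comp_apply]
    have h3 := congrArg PrimeSpectrum.asIdeal h2
    exact h3
  obtain ⟨p, hp, hpP⟩ := @exists_prime J _ _ (fun j => Γ(E.obj j, ⊤)) _ Γ(e.pt, ⊤) _
    (fun {j k} f => (E.map f).appTop.hom) (fun j => (e.π.app j).appTop.hom)
    (fun {j k} f b => by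
      have := e.w f
      rw [← this, Scheme.Hom.comp_appTop]
      rfl)
    (fun a => exists_appTop_π_eq_of_isAffine_of_isLimit E e he a)
    (fun j b hb => exists_appTop_map_eq_zero_of_isAffine_of_isLimit E e he j b hb)
    P hPprime hP
  refine ⟨e.pt.isoSpec.inv ⟨p, hp⟩, fun j => ?_⟩
  apply (E.obj j).isoSpec.hom.homeomorph.injective
  change (E.obj j).isoSpec.hom _ = (E.obj j).isoSpec.hom _
  have hnat : e.pt.isoSpec.hom ≫ Spec.map (e.π.app j).appTop =
      (e.π.app j) ≫ (E.obj j).isoSpec.hom :=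
    Scheme.isoSpec_hom_naturality (X := e.pt) (Y := E.obj j) (e.π.app j)
  have h1 : (E.obj j).isoSpec.hom ((e.π.app j) (e.pt.isoSpec.inv ⟨p, hp⟩)) =
      (Spec.map (e.π.app j).appTop) (e.pt.isoSpec.hom (e.pt.isoSpec.inv ⟨p, hp⟩)) := by
    rw [← Scheme.Hom.comp_apply, ← Scheme.Hom.comp_apply]
    exact congrArg (fun g => g (e.pt.isoSpec.inv ⟨p, hp⟩)) hnat.symm
  rw [h1]
  have h2 : e.pt.isoSpec.hom (e.pt.isoSpec.inv ⟨p, hp⟩) = ⟨p, hp⟩ := by
    rw [← Scheme.Hom.comp_apply, Iso.inv_hom_id]; rfl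
  rw [h2]
  apply PrimeSpectrum.ext
  exact hpP j

end affine

section main

variable {I : Type u} [SmallCategory I] [IsCofiltered I] (D : I ⥤ Scheme.{u})
  (c : Cone D) (hc : IsLimit c) [∀ {i j : I} (f : i ⟶ j), IsAffineHom (D.map f)]

/-- the comparison map to the limit of the underlying spaces -/
noncomputable abbrev cmp : (Scheme.forgetToTop.mapCone c).pt ⟶ (TopCat.limitCone (D ⋙ Scheme.forgetToTop)).pt :=
  (TopCat.limitConeIsLimit (D ⋙ Scheme.forgetToTop)).lift (Scheme.forgetToTop.mapCone c)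

omit [IsCofiltered I] [∀ {i j : I} (f : i ⟶ j), IsAffineHom (D.map f)] in
lemma cmp_apply (x : c.pt) (j : I) : ((cmp D c) x).val j = c.π.app j x := rfl

include hc in
lemma isInducing_cmp : Topology.IsInducing (cmp D c) := by
  constructor
  apply le_antisymm
  · exact (cmp D c).hom.continuous.le_induced
  · intro U hU
    -- U is a union of basic opens
    have hB := isBasis_preimage_isAffineOpen D c hc
    rw [isOpen_induced_iff]
    have key : ∀ x ∈ U, ∃ W : Set ↥(TopCat.limitCone (D ⋙ Scheme.forgetToTop)).pt,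
        IsOpen W ∧ (cmp D c) ⁻¹' W ⊆ U ∧ x ∈ (cmp D c) ⁻¹' W := by
      intro x hxU
      obtain ⟨_, ⟨i, V, hV, rfl⟩, hxV, hVU⟩ :=
        (Opens.isBasis_iff_nbhd.mp hB) (show x ∈ (⟨U, hU⟩ : c.pt.Opens) from hxU)
      refine ⟨(fun u => u.val i) ⁻¹' (V : Set (D.obj i)), ?_, ?_, hxV⟩
      · exact V.isOpen.preimage ((continuous_apply i).comp continuous_subtype_val)
      · intro z hz
        exact hVU hz
    choose W hWo hWU hxW using key
    refine ⟨⋃ x : U, W x.1 x.2, isOpen_iUnion fun x => hWo x.1 x.2, ?_⟩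
    ext z
    simp only [Set.preimage_iUnion, Set.mem_iUnion]
    constructor
    · rintro ⟨x, hz⟩
      exact hWU x.1 x.2 hz
    · intro hz
      exact ⟨⟨z, hz⟩, hxW z hz⟩

include hc in
lemma injective_cmp : Function.Injective (cmp D c) := by
  intro x y hxy
  have hind := isInducing_cmp D c hc
  have h1 : Inseparable x y := by
    rw [← hind.inseparable_iff, hxy]
  have h2 : Inseparable (X := ↥c.pt) x y := h1
  exact h2.eq


include hc in
lemma surjective_cmp : Function.Surjective (cmp D c) := by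
  intro u
  obtain ⟨i₀⟩ := IsCofiltered.nonempty (C := I)
  obtain ⟨_, ⟨U, hU : IsAffineOpen U, rfl⟩, hxU, -⟩ :=
    (D.obj i₀).isBasis_affineOpens.exists_subset_of_mem_open
      (Set.mem_univ (u.val i₀)) isOpen_univ
  have hu : ∀ {i j : I} (f : i ⟶ j), (D.map f) (u.val i) = u.val j := fun f => u.2 f
  have hE (j : Over i₀) : IsAffine ((opensDiagram D i₀ U).obj j) := hU.preimage (D.map _)
  let v : ∀ j : Over i₀, (opensDiagram D i₀ U).obj j := fun j =>
    ⟨u.val j.left, by
      change (D.map j.hom) (u.val j.left) ∈ U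
      rw [hu]; exact hxU⟩
  obtain ⟨x', hx'⟩ := exists_point_of_isAffine (opensDiagram D i₀ U) (opensCone D c i₀ U)
    (isLimitOpensCone D c hc i₀ U) v (by
      intro j k f
      apply Subtype.ext
      change ((D.map f.left).resLE _ _ _ (v j)).1 = u.val k.left
      have := hu f.left
      rw [← this]
      have h1 := Scheme.Hom.resLE_comp_ι (D.map f.left) (U := D.map k.hom ⁻¹ᵁ U)
        (V := D.map j.hom ⁻¹ᵁ U)
        (by rw [← Scheme.Hom.comp_preimage, ← D.map_comp, Over.w f])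
      exact congrArg (fun g => g (v j)) h1)
  refine ⟨(c.π.app i₀ ⁻¹ᵁ U).ι x', ?_⟩
  have key : ∀ j : Over i₀, (c.π.app j.left) ((c.π.app i₀ ⁻¹ᵁ U).ι x') = u.val j.left := by
    intro j
    have h1 := hx' j
    have h2 : ((opensCone D c i₀ U).π.app j) ≫ (D.map j.hom ⁻¹ᵁ U).ι =
        (c.π.app i₀ ⁻¹ᵁ U).ι ≫ c.π.app j.left :=
      Scheme.Hom.resLE_comp_ι (c.π.app j.left) (U := D.map j.hom ⁻¹ᵁ U)
        (V := c.π.app i₀ ⁻¹ᵁ U) (by rw [← Scheme.Hom.comp_preimage, c.w])
    have h3 := congrArg (fun g => g x') h2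
    have h4 := congrArg (fun z => (D.map j.hom ⁻¹ᵁ U).ι z) h1
    exact h3.symm.trans h4
  apply Subtype.ext
  funext i
  change (c.π.app i) ((c.π.app i₀ ⁻¹ᵁ U).ι x') = u.val i
  let k' := IsCofiltered.min i i₀
  have h5 := key (Over.mk (IsCofiltered.minToRight i i₀))
  have h6 : c.π.app k' ≫ D.map (IsCofiltered.minToLeft i i₀) = c.π.app i := c.w _
  rw [← h6, Scheme.Hom.comp_apply]
  erw [h5]
  exact hu _

include hc in
theorem main : Nonempty (IsLimit (Scheme.forgetToTop.mapCone c)) := by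
  have hind := isInducing_cmp D c hc
  have hinj := injective_cmp D c hc
  have hsurj := surjective_cmp D c hc
  have hopen : IsOpenMap (cmp D c) := by
    apply hind.isOpenMap
    rw [hsurj.range_eq]
    exact isOpen_univ
  have hiso : IsIso (cmp D c) :=
    TopCat.isIso_of_bijective_of_isOpenMap (cmp D c) ⟨hinj, hsurj⟩ hopen
  exact ⟨IsLimit.ofPointIso (TopCat.limitConeIsLimit (D ⋙ Scheme.forgetToTop))⟩

end main

end Groth.Agent.Lib.Helper9.TopLim
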