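import Mathlib
import Groth.Prelude.Def_W4c2submetdescSubtr
import Groth.Agent.Lib.Helper9.Sbt1
import Groth.Agent.Lib.Helper9.OILim
import Groth.Agent.Lib.Helper9.TopLim
set_option autoImplicit false
set_option linter.style.haveILetI false
set_option linter.unusedSectionVars false
set_option linter.unusedVariables false
universe u
open CategoryTheory CategoryTheory.Limits AlgebraicGeometry Topology TopologicalSpace Set

namespace Groth.Agent.Lib.Helper9.Sbt

section restrict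
variable {X Y : Scheme.{u}} (f : X ⟶ Y) {U : X.Opens} {V : Y.Opens}

/-- restriction of a morphism to affine opens is a spectral map -/
theorem isSpectralMap_restrict (hU : IsAffineOpen U) (hV : IsAffineOpen V) (h : U ≤ f ⁻¹ᵁ V) :
    IsSpectralMap (fun x : U => (⟨f x.1, h x.2⟩ : V)) := by
  haveI : IsAffine (U : Scheme.{u}) := hU
  haveI : IsAffine (V : Scheme.{u}) := hV
  haveI : QuasiCompact (f.resLE V U h) := inferInstance
  have h1 : IsSpectralMap (f.resLE V U h) := (f.resLE V U h).isSpectralMap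
  have h2 : (fun x : U => (⟨f x.1, h x.2⟩ : V)) = (f.resLE V U h) := by
    funext x
    apply Subtype.ext
    exact (Scheme.Hom.coe_resLE_apply f h x).symm
  rw [h2]
  exact h1

theorem compactSpace_of_isAffineOpen (hU : IsAffineOpen U) : CompactSpace U :=
  isCompact_iff_compactSpace.mp hU.isCompact

theorem quasiSeparatedSpace_of_isAffineOpen (hU : IsAffineOpen U) : QuasiSeparatedSpace U := by
  haveI : IsAffine (U : Scheme.{u}) := hU
  exact inferInstanceAs (QuasiSeparatedSpace (U : Scheme.{u}))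

theorem quasiSober_opens (U : X.Opens) : QuasiSober U :=
  inferInstanceAs (QuasiSober (U : Scheme.{u}))

theorem prespectralSpace_opens (U : X.Opens) : PrespectralSpace U :=
  inferInstanceAs (PrespectralSpace (U : Scheme.{u}))

theorem t0Space_opens (U : X.Opens) : T0Space U :=
  inferInstanceAs (T0Space (U : Scheme.{u}))

end restrict

section spec
variable {I : Type u} [SmallCategory I] [IsCofiltered I] (D : I ⥤ Scheme.{u})
  (c : Cone D) (hc : IsLimit c) [∀ {i j : I} (f : i ⟶ j), IsAffineHom (D.map f)]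

include hc in
theorem specializes_of_forall (x x' : c.pt) (h : ∀ i, c.π.app i x' ⤳ c.π.app i x) : x' ⤳ x := by
  have hind := TopLim.isInducing_cmp D c hc
  rw [← hind.specializes_iff]
  have h2 : ((TopLim.cmp D c) x').val ⤳ ((TopLim.cmp D c) x).val := by
    rw [specializes_pi]
    intro i
    exact h i
  exact (subtype_specializes_iff _ _).mpr h2

end spec

section main
variable {J : Type u} [SmallCategory J] [IsCofiltered J] (E E' : J ⥤ Scheme.{u})
  [∀ {j k : J} (f : j ⟶ k), IsAffineHom (E.map f)]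
  [∀ {j k : J} (f : j ⟶ k), IsAffineHom (E'.map f)]
  (e : Cone E) (he : IsLimit e) (e' : Cone E') (he' : IsLimit e')
  (τ : E ⟶ E') (τi : e.pt ⟶ e'.pt) (hτ : ∀ k, τi ≫ e'.π.app k = e.π.app k ≫ τ.app k)
  (k₁ : J) (H : ∀ (k : J) (a : k ⟶ k₁), Subtr.IsSSubtrusive (τ.app k)) [QuasiCompact (τ.app k₁)]

include he he' hτ H in
theorem isSSubtrusive_limit : Subtr.IsSSubtrusive τi := by
  intro y y' hyy'
  -- points at the stages
  let yk : ∀ k : J, E'.obj k := fun k => e'.π.app k y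
  let yk' : ∀ k : J, E'.obj k := fun k => e'.π.app k y'
  have hyk : ∀ {k k' : J} (a : k ⟶ k'), E'.map a (yk k) = yk k' := fun a => by
    simp only [yk]
    rw [← Scheme.Hom.comp_apply, e'.w a]
  have hyk' : ∀ {k k' : J} (a : k ⟶ k'), E'.map a (yk' k) = yk' k' := fun a => by
    simp only [yk']
    rw [← Scheme.Hom.comp_apply, e'.w a]
  have hsp : ∀ k, yk' k ⤳ yk k := fun k => hyy'.map (e'.π.app k).continuous
  -- affine neighbourhood at the stage `k₁`
  obtain ⟨V, hV, hyV, -⟩ := exists_isAffineOpen_mem_and_subset (X := E'.obj k₁) (x := yk k₁)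
    (U := ⊤) (by simp)
  have hK : IsCompact ((τ.app k₁) ⁻¹ᵁ V : Set (E.obj k₁)) :=
    QuasiCompact.isCompact_preimage (f := τ.app k₁) _ V.isOpen hV.isCompact
  obtain ⟨Ws, hWsfin, hWs⟩ := (isCompact_and_isOpen_iff_finite_and_eq_biUnion_affineOpens).mp
    ⟨hK, ((τ.app k₁) ⁻¹ᵁ V).isOpen⟩
  -- the affine opens at the stages over `k₁`
  let Wk : (E.obj k₁).affineOpens → ∀ k : Over k₁, (E.obj k.left).Opens :=
    fun W k => (E.map k.hom) ⁻¹ᵁ W.1
  let Vk : ∀ k : Over k₁, (E'.obj k.left).Opens := fun k => (E'.map k.hom) ⁻¹ᵁ V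
  have hWk : ∀ W k, IsAffineOpen (Wk W k) := fun W k => W.2.preimage (E.map k.hom)
  have hVk : ∀ k, IsAffineOpen (Vk k) := fun k => hV.preimage (E'.map k.hom)
  have hnat : ∀ {k k' : J} (a : k ⟶ k') (x : E.obj k),
      τ.app k' (E.map a x) = E'.map a (τ.app k x) := fun a x => by
    rw [← Scheme.Hom.comp_apply, ← Scheme.Hom.comp_apply, τ.naturality a]
  have hWV : ∀ W ∈ Ws, ∀ k : Over k₁, Wk W k ≤ (τ.app k.left) ⁻¹ᵁ Vk k := by
    intro W hW k x hx
    have h1 : E.map k.hom x ∈ ((τ.app k₁) ⁻¹ᵁ V : Set (E.obj k₁)) := by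
      rw [hWs]
      exact Set.mem_biUnion hW hx
    change E'.map k.hom (τ.app k.left x) ∈ V
    rw [← hnat]
    exact h1
  have hWmap : ∀ W {k k' : Over k₁} (a : k ⟶ k'), Wk W k ≤ (E.map a.left) ⁻¹ᵁ Wk W k' := by
    intro W k k' a x hx
    change E.map k'.hom (E.map a.left x) ∈ W.1
    rw [← Scheme.Hom.comp_apply, ← E.map_comp, Over.w a]
    exact hx
  have hVmap : ∀ {k k' : Over k₁} (a : k ⟶ k'), Vk k ≤ (E'.map a.left) ⁻¹ᵁ Vk k' := by
    intro k k' a x hx
    change E'.map k'.hom (E'.map a.left x) ∈ V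
    rw [← Scheme.Hom.comp_apply, ← E'.map_comp, Over.w a]
    exact hx
  let Good : (E.obj k₁).affineOpens → Over k₁ → Prop := fun W k =>
    ∃ x x' : E.obj k.left, x ∈ Wk W k ∧ x' ∈ Wk W k ∧ x' ⤳ x ∧
      τ.app k.left x = yk k.left ∧ τ.app k.left x' = yk' k.left
  have claimA : ∀ k : Over k₁, ∃ W ∈ Ws, Good W k := by
    intro k
    obtain ⟨x, x', hxx', hx, hx'⟩ := H k.left k.hom (hsp k.left)
    have h1 : E.map k.hom x ∈ ((τ.app k₁) ⁻¹ᵁ V : Set (E.obj k₁)) := by
      change τ.app k₁ (E.map k.hom x) ∈ V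
      rw [hnat, hx, hyk]
      exact hyV
    rw [hWs] at h1
    obtain ⟨W, hW, hxW⟩ := Set.mem_iUnion₂.mp h1
    exact ⟨W, hW, x, x', hxW, hxx'.mem_open (Wk W k).isOpen hxW, hxx', hx, hx'⟩
  have claimB : ∀ W {k k' : Over k₁} (a : k ⟶ k'), Good W k → Good W k' := by
    rintro W k k' a ⟨x, x', hxW, hx'W, hxx', hx, hx'⟩
    refine ⟨E.map a.left x, E.map a.left x', hWmap W a hxW, hWmap W a hx'W,
      hxx'.map (E.map a.left).continuous, ?_, ?_⟩
    · rw [hnat, hx, hyk]
    · rw [hnat, hx', hyk']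
  have claimC : ∃ W ∈ Ws, ∀ k, Good W k := by
    by_contra hcon
    push Not at hcon
    haveI : Nonempty (Over k₁) := ⟨Over.mk (𝟙 k₁)⟩
    choose! kW hkW using hcon
    classical
    obtain ⟨S, hS⟩ := IsCofiltered.inf_objs_exists (hWsfin.toFinset.image kW)
    obtain ⟨W, hW, hG⟩ := claimA S
    obtain ⟨a⟩ := hS (Finset.mem_image_of_mem kW (hWsfin.mem_toFinset.mpr hW))
    exact hkW W hW (claimB W a hG)
  obtain ⟨W, hW, hGood⟩ := claimC
  -- the topological data
  haveI : ∀ k : Over k₁, CompactSpace (Wk W k) := fun k => compactSpace_of_isAffineOpen (hWk W k)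
  haveI : ∀ k : Over k₁, QuasiSeparatedSpace (Wk W k) :=
    fun k => quasiSeparatedSpace_of_isAffineOpen (hWk W k)
  haveI : ∀ k : Over k₁, QuasiSober (Wk W k) := fun k => quasiSober_opens _
  haveI : ∀ k : Over k₁, PrespectralSpace (Wk W k) := fun k => prespectralSpace_opens _
  haveI : ∀ k : Over k₁, T0Space (Wk W k) := fun k => t0Space_opens _
  haveI : ∀ k : Over k₁, PrespectralSpace (Vk k) := fun k => prespectralSpace_opens _
  haveI : ∀ k : Over k₁, T0Space (Vk k) := fun k => t0Space_opens _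
  have hyVk : ∀ k : Over k₁, yk k.left ∈ Vk k := fun k => by
    change E'.map k.hom (yk k.left) ∈ V
    rw [hyk]; exact hyV
  have hyVk' : ∀ k : Over k₁, yk' k.left ∈ Vk k := fun k =>
    (hsp k.left).mem_open (Vk k).isOpen (hyVk k)
  let rr : ∀ k : Over k₁, Wk W k → Vk k := fun k z => ⟨τ.app k.left z.1, hWV W hW k z.2⟩
  let ta : ∀ {k k' : Over k₁}, (k ⟶ k') → Wk W k → Wk W k' :=
    fun {k k'} a z => ⟨E.map a.left z.1, hWmap W a z.2⟩
  let tb : ∀ {k k' : Over k₁}, (k ⟶ k') → Vk k → Vk k' :=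
    fun {k k'} a z => ⟨E'.map a.left z.1, hVmap a z.2⟩
  have hrr : ∀ k : Over k₁, IsSpectralMap (rr k) :=
    fun k => isSpectralMap_restrict (τ.app k.left) (hWk W k) (hVk k) (hWV W hW k)
  have hta : ∀ {k k' : Over k₁} (a : k ⟶ k'), IsSpectralMap (ta a) :=
    fun {k k'} a => isSpectralMap_restrict (E.map a.left) (hWk W k) (hWk W k') (hWmap W a)
  have ta_id : ∀ (k : Over k₁) (z : Wk W k), ta (𝟙 k) z = z := fun k z => Subtype.ext (by
    change E.map (𝟙 k : k ⟶ k).left z.1 = z.1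
    rw [Over.id_left, E.map_id]; rfl)
  have ta_comp : ∀ {k k' k'' : Over k₁} (a : k ⟶ k') (b : k' ⟶ k'') (z : Wk W k),
      ta (a ≫ b) z = ta b (ta a z) := fun {k k' k''} a b z => Subtype.ext (by
    change E.map (a ≫ b).left z.1 = E.map b.left (E.map a.left z.1)
    rw [Over.comp_left, E.map_comp]; rfl)
  have hnat' : ∀ {k k' : Over k₁} (a : k ⟶ k') (z : Wk W k), rr k' (ta a z) = tb a (rr k z) :=
    fun {k k'} a z => Subtype.ext (hnat a.left z.1)
  let yy : ∀ k : Over k₁, Vk k := fun k => ⟨yk k.left, hyVk k⟩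
  let yy' : ∀ k : Over k₁, Vk k := fun k => ⟨yk' k.left, hyVk' k⟩
  have hyy : ∀ {k k' : Over k₁} (a : k ⟶ k'), tb a (yy k) = yy k' :=
    fun {k k'} a => Subtype.ext (hyk a.left)
  have hyy'' : ∀ {k k' : Over k₁} (a : k ⟶ k'), tb a (yy' k) = yy' k' :=
    fun {k k'} a => Subtype.ext (hyk' a.left)
  have hne : ∀ k : Over k₁, ∃ z z' : Wk W k, z' ⤳ z ∧ rr k z = yy k ∧ rr k z' = yy' k := by
    intro k
    obtain ⟨z, z', hz, hz', hzz', h1, h2⟩ := hGood k
    exact ⟨⟨z, hz⟩, ⟨z', hz'⟩, (subtype_specializes_iff _ _).mpr hzz', Subtype.ext h1,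
      Subtype.ext h2⟩
  obtain ⟨x, x', hx, hx', hxx⟩ := exists_compatible (J := Over k₁)
    (fun k => (Wk W k : Type u)) (fun k => (Vk k : Type u)) rr hrr ta hta ta_id ta_comp tb hnat'
    yy yy' hyy hyy'' hne
  -- points of the limit
  obtain ⟨px, hpx⟩ := OILim.exists_point (OILim.DO E k₁) (OILim.cO E e k₁) (OILim.hcO E e he k₁)
    (fun k => (x k).1) (fun {k k'} a => congrArg Subtype.val (hx a))
  obtain ⟨px', hpx'⟩ := OILim.exists_point (OILim.DO E k₁) (OILim.cO E e k₁) (OILim.hcO E e he k₁)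
    (fun k => (x' k).1) (fun {k k'} a => congrArg Subtype.val (hx' a))
  refine ⟨px, px', ?_, ?_, ?_⟩
  · apply specializes_of_forall (OILim.DO E k₁) (OILim.cO E e k₁) (OILim.hcO E e he k₁)
    intro k
    rw [hpx, hpx']
    exact (subtype_specializes_iff _ _).mp (hxx k).1
  · apply OILim.ext_point (OILim.DO E' k₁) (OILim.cO E' e' k₁) (OILim.hcO E' e' he' k₁)
    intro k
    change e'.π.app k.left (τi px) = e'.π.app k.left y
    rw [← Scheme.Hom.comp_apply, hτ, Scheme.Hom.comp_apply]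
    have h1 : e.π.app k.left px = (x k).1 := hpx k
    rw [h1]
    exact congrArg Subtype.val (hxx k).2.1
  · apply OILim.ext_point (OILim.DO E' k₁) (OILim.cO E' e' k₁) (OILim.hcO E' e' he' k₁)
    intro k
    change e'.π.app k.left (τi px') = e'.π.app k.left y'
    rw [← Scheme.Hom.comp_apply, hτ, Scheme.Hom.comp_apply]
    have h1 : e.π.app k.left px' = (x' k).1 := hpx' k
    rw [h1]
    exact congrArg Subtype.val (hxx k).2.2

end main

end Groth.Agent.Lib.Helper9.Sbt
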