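import Mathlib
import Groth.Prelude.Def_W4c2submetdescSubtr
import Groth.Agent.Lib.Helper9.Sbt2
import Groth.Agent.Lib.Helper22.LimBaseChange
set_option autoImplicit false
set_option linter.style.haveILetI false
set_option linter.unusedSectionVars false
set_option linter.unusedVariables false
universe u
open CategoryTheory CategoryTheory.Limits AlgebraicGeometry Topology TopologicalSpace Set

namespace Groth.Agent.Lib.Helper9.Sbt

open Groth.Agent.Lib.Helper22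

section transfer

theorem isSSubtrusive_of_arrow_iso {X Y X' Y' : Scheme.{u}} (s : X ⟶ Y) (t : X' ⟶ Y')
    (α : X ≅ X') (β : Y ≅ Y') (w : α.hom ≫ t = s ≫ β.hom) (hs : Subtr.IsSSubtrusive s) :
    Subtr.IsSSubtrusive t := by
  intro y y' hyy'
  obtain ⟨x, x', hxx', hx, hx'⟩ := hs (hyy'.map β.inv.continuous)
  refine ⟨α.hom x, α.hom x', hxx'.map α.hom.continuous, ?_, ?_⟩
  · rw [← Scheme.Hom.comp_apply, w, Scheme.Hom.comp_apply, hx, ← Scheme.Hom.comp_apply,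
      Iso.inv_hom_id]; rfl
  · rw [← Scheme.Hom.comp_apply, w, Scheme.Hom.comp_apply, hx', ← Scheme.Hom.comp_apply,
      Iso.inv_hom_id]; rfl

variable {X₀ Y₀ S₀ T : Scheme.{u}} (f₀ : X₀ ⟶ Y₀) (g₀ : Y₀ ⟶ S₀) (s : T ⟶ S₀)

/-- the base change of `f₀` in the form used by `bcDiag` -/
noncomputable def tauOf : pullback s (f₀ ≫ g₀) ⟶ pullback s g₀ :=
  pullback.map s (f₀ ≫ g₀) s g₀ (𝟙 _) f₀ (𝟙 _) (by simp) (by simp)

noncomputable def alphaOf : pullback f₀ (pullback.fst g₀ s) ≅ pullback s (f₀ ≫ g₀) :=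
  pullbackRightPullbackFstIso g₀ s f₀ ≪≫ pullbackSymmetry (f₀ ≫ g₀) s

theorem alpha_tau :
    (alphaOf f₀ g₀ s).hom ≫ tauOf f₀ g₀ s =
      pullback.snd f₀ (pullback.fst g₀ s) ≫ (pullbackSymmetry g₀ s).hom := by
  apply pullback.hom_ext
  · simp only [alphaOf, tauOf, Iso.trans_hom, Category.assoc, pullback.map, pullback.lift_fst,
      pullback.lift_snd, Category.comp_id]
    rw [pullbackSymmetry_hom_comp_fst, pullbackSymmetry_hom_comp_fst,
      pullbackRightPullbackFstIso_hom_snd]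
  · simp only [alphaOf, tauOf, Iso.trans_hom, Category.assoc, pullback.map, pullback.lift_fst,
      pullback.lift_snd, Category.comp_id]
    rw [pullbackSymmetry_hom_comp_snd_assoc, pullbackSymmetry_hom_comp_snd,
      pullbackRightPullbackFstIso_hom_fst_assoc, pullback.condition]

theorem tauOf_natural {T' : Scheme.{u}} (s' : T' ⟶ S₀)
    (m₁ : pullback s' (f₀ ≫ g₀) ⟶ pullback s (f₀ ≫ g₀)) (m₂ : pullback s' g₀ ⟶ pullback s g₀)
    (v : T' ⟶ T)
    (h1f : m₁ ≫ pullback.fst s (f₀ ≫ g₀) = pullback.fst s' (f₀ ≫ g₀) ≫ v)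
    (h1s : m₁ ≫ pullback.snd s (f₀ ≫ g₀) = pullback.snd s' (f₀ ≫ g₀))
    (h2f : m₂ ≫ pullback.fst s g₀ = pullback.fst s' g₀ ≫ v)
    (h2s : m₂ ≫ pullback.snd s g₀ = pullback.snd s' g₀) :
    m₁ ≫ tauOf f₀ g₀ s = tauOf f₀ g₀ s' ≫ m₂ := by
  apply pullback.hom_ext
  · simp only [tauOf, pullback.map, Category.assoc, pullback.lift_fst, Category.comp_id]
    rw [h1f, h2f, pullback.lift_fst_assoc]
  · simp only [tauOf, pullback.map, Category.assoc, pullback.lift_snd]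
    rw [reassoc_of% h1s, h2s, pullback.lift_snd]

end transfer

section mainthm

variable {I : Type u} [SmallCategory I] [IsCofiltered I]
    (D : I ⥤ Scheme.{u}) (c : Limits.Cone D) (hc : Limits.IsLimit c)
    [∀ (i j : I) (a : i ⟶ j), IsAffineHom (D.map a)] (i₀ : I)
    {X₀ Y₀ : Scheme.{u}} (f₀ : X₀ ⟶ Y₀) (g₀ : Y₀ ⟶ D.obj i₀)

/-- the natural transformation between the base-changed diagrams -/
noncomputable def tauNat : bcDiag D i₀ (f₀ ≫ g₀) ⟶ bcDiag D i₀ g₀ where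
  app k := tauOf f₀ g₀ (D.map k.hom)
  naturality j k a :=
    tauOf_natural f₀ g₀ (D.map k.hom) (D.map j.hom) _ _ (D.map a.left)
      (bcDiag_map_fst D i₀ (f₀ ≫ g₀) a) (bcDiag_map_snd D i₀ (f₀ ≫ g₀) a)
      (bcDiag_map_fst D i₀ g₀ a) (bcDiag_map_snd D i₀ g₀ a)

include hc in
theorem isSSubtrusive_limit_of_eventually [QuasiCompact f₀]
    (h : ∃ (i₁ : I) (ψ : i₁ ⟶ i₀), ∀ (i : I) (φ : i ⟶ i₁),
      Subtr.IsSSubtrusive (pullback.snd f₀ (pullback.fst g₀ (D.map (φ ≫ ψ))))) :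
    Subtr.IsSSubtrusive (pullback.snd f₀ (pullback.fst g₀ (c.π.app i₀))) := by
  obtain ⟨i₁, ψ, h⟩ := h
  have inst1 : ∀ {j k : Over i₀} (a : j ⟶ k), IsAffineHom ((bcDiag D i₀ (f₀ ≫ g₀)).map a) :=
    fun a => inferInstance
  have inst2 : ∀ {j k : Over i₀} (a : j ⟶ k), IsAffineHom ((bcDiag D i₀ g₀).map a) :=
    fun a => inferInstance
  -- each `tauOf` is a base change of `f₀`
  have key : ∀ {T : Scheme.{u}} (s : T ⟶ D.obj i₀),
      Subtr.IsSSubtrusive (pullback.snd f₀ (pullback.fst g₀ s)) ↔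
        Subtr.IsSSubtrusive (tauOf f₀ g₀ s) := by
    intro T s
    constructor
    · exact isSSubtrusive_of_arrow_iso _ _ (alphaOf f₀ g₀ s) (pullbackSymmetry g₀ s)
        (alpha_tau f₀ g₀ s)
    · refine isSSubtrusive_of_arrow_iso _ _ (alphaOf f₀ g₀ s).symm (pullbackSymmetry g₀ s).symm ?_
      rw [Iso.symm_hom, Iso.symm_hom, Iso.inv_comp_eq, ← Category.assoc, alpha_tau,
        Category.assoc, Iso.hom_inv_id, Category.comp_id]
  have qc : ∀ {T : Scheme.{u}} (s : T ⟶ D.obj i₀), QuasiCompact (tauOf f₀ g₀ s) := by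
    intro T s
    have h1 : QuasiCompact (pullback.snd f₀ (pullback.fst g₀ s)) := inferInstance
    have h2 : QuasiCompact (pullback.snd f₀ (pullback.fst g₀ s) ≫ (pullbackSymmetry g₀ s).hom) :=
      inferInstance
    rw [← alpha_tau] at h2
    have h3 : QuasiCompact ((alphaOf f₀ g₀ s).inv ≫ (alphaOf f₀ g₀ s).hom ≫ tauOf f₀ g₀ s) :=
      inferInstance
    rwa [Iso.inv_hom_id_assoc] at h3
  rw [key]
  let k₁ : Over i₀ := Over.mk ψ
  have H : ∀ (k : Over i₀) (a : k ⟶ k₁), Subtr.IsSSubtrusive ((tauNat D i₀ f₀ g₀).app k) := by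
    intro k a
    change Subtr.IsSSubtrusive (tauOf f₀ g₀ (D.map k.hom))
    rw [← key]
    have := h k.left a.left
    have hw : a.left ≫ ψ = k.hom := Over.w a
    rwa [hw] at this
  have : QuasiCompact ((tauNat D i₀ f₀ g₀).app k₁) := qc _
  refine isSSubtrusive_limit (bcDiag D i₀ (f₀ ≫ g₀)) (bcDiag D i₀ g₀)
    (bcCone D c i₀ (f₀ ≫ g₀)) (bcIsLimit D hc i₀ (f₀ ≫ g₀))
    (bcCone D c i₀ g₀) (bcIsLimit D hc i₀ g₀) (tauNat D i₀ f₀ g₀) (tauOf f₀ g₀ (c.π.app i₀))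
    ?_ k₁ H
  intro k
  exact (tauOf_natural f₀ g₀ (D.map k.hom) (c.π.app i₀) _ _ (c.π.app k.left)
    (bcCone_π_fst D c i₀ (f₀ ≫ g₀) k) (bcCone_π_snd D c i₀ (f₀ ≫ g₀) k)
    (bcCone_π_fst D c i₀ g₀ k) (bcCone_π_snd D c i₀ g₀ k)).symm

end mainthm

end Groth.Agent.Lib.Helper9.Sbt
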