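import Mathlib
import Groth.Prelude.Def_W4c2submetdescSubtr
import Groth.Agent.Lib.Helper20.SubtrPC
import Groth.Agent.Lib.lead.ChainVal
set_option autoImplicit false
set_option linter.style.haveILetI false
set_option linter.unusedSectionVars false
set_option linter.unusedVariables false
universe u
open CategoryTheory CategoryTheory.Limits AlgebraicGeometry Topology TopologicalSpace Set
open scoped Set.Notation

namespace Groth.Agent.Lib.Helper9.Sbt

open Groth.Agent.Lib.Helper25.PC Groth.Agent.Lib.Helper20.SubtrPC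

section top
variable {X : Scheme.{u}}

/-- spectral structure on an affine open, as a set -/
theorem spectralSpace_of_isAffineOpen' {V : X.Opens} (hV : IsAffineOpen V) :
    SpectralSpace (V : Set X) := by
  have hspec := IsAffineOpen.isSpecOpen hV
  have h1 : CompactSpace (V : Set X) := hspec.compactSpace
  have h2 : QuasiSeparatedSpace (V : Set X) := hspec.quasiSeparatedSpace
  have h3 : QuasiSober (V : Set X) := hspec.quasiSober
  have h4 : PrespectralSpace (V : Set X) := hspec.prespectralSpace
  exact { }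

/-- closed sets are pro-constructible -/
theorem proC_of_isClosed {C : Set X} (hC : IsClosed C) : ProC C := by
  intro V hV
  have := hV.prespectralSpace
  exact Groth.Agent.Lib.Helper20.Spectral.isClosed_cons_of_isClosed
    (hC.preimage continuous_subtype_val)

/-- a locally closed retrocompact subset of a scheme is pro-constructible -/
theorem proC_of_isLocallyClosed_of_isRetrocompact {A : Set X} (hA : IsLocallyClosed A)
    (hr : IsRetrocompact A) : ProC A := by
  apply proC_of_forall_exists
  intro x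
  obtain ⟨V, hV, hxV⟩ := exists_affine_mem x
  have hspec := IsAffineOpen.isSpecOpen hV
  refine ⟨V, hspec, hxV, ?_⟩
  have := spectralSpace_of_isAffineOpen' hV
  -- `B := V ↓∩ A` is compact and locally closed in `V`
  have hBc : IsCompact ((V : Set X) ↓∩ A) := by
    rw [IsEmbedding.subtypeVal.isCompact_iff, Subtype.image_preimage_coe, inter_comm]
    exact hr hV.isCompact V.2
  obtain ⟨W, Z, hW, hZ, hB⟩ := (hA.preimage (continuous_subtype_val (p := (· ∈ (V : Set X)))))
  -- cover `B` by finitely many compact opens inside `W`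
  have hbasis := PrespectralSpace.isTopologicalBasis (X := (V : Set X))
  have key : ∀ b ∈ (V : Set X) ↓∩ A, ∃ O : Set (V : Set X), (IsOpen O ∧ IsCompact O) ∧ b ∈ O ∧
      O ⊆ W := by
    intro b hb
    have hbW : b ∈ W := by rw [hB] at hb; exact hb.1
    exact hbasis.exists_subset_of_mem_open hbW hW
  choose! O hO hbO hOW using key
  obtain ⟨t, hts, hcov⟩ := hBc.elim_nhds_subcover O
    (fun b hb => (hO b hb).1.mem_nhds (hbO b hb))
  have hW'o : IsOpen (⋃ b ∈ t, O b) := isOpen_biUnion fun b hb => (hO b (hts b hb)).1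
  have hW'c : IsCompact (⋃ b ∈ t, O b) := t.isCompact_biUnion fun b hb => (hO b (hts b hb)).2
  have hEq : (V : Set X) ↓∩ A = Z ∩ ⋃ b ∈ t, O b := by
    apply Subset.antisymm
    · intro b hb
      refine ⟨?_, hcov hb⟩
      have hb' := hb
      rw [hB] at hb'
      exact hb'.2
    · rintro b ⟨hbZ, hbO'⟩
      rw [hB]
      refine ⟨?_, hbZ⟩
      obtain ⟨c, hc, hbc⟩ := mem_iUnion₂.mp hbO'
      exact hOW c (hts c hc) hbc
  rw [hEq]
  exact IsPCl.inter (Groth.Agent.Lib.Helper20.Spectral.isClosed_cons_of_isClosed hZ)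
    (isPCl_of_isCompact_isOpen hW'c hW'o)

/-- pro-constructible subsets of a scheme are retrocompact -/
theorem ProC.isRetrocompact {E : Set X} (hE : ProC E) : IsRetrocompact E := by
  intro U hUc hUo
  have key : ∀ x ∈ U, ∃ V : X.Opens, IsAffineOpen V ∧ x ∈ V ∧ (V : Set X) ⊆ U := by
    intro x hx
    obtain ⟨V, hV, hxV, hVU⟩ := exists_isAffineOpen_mem_and_subset (X := X) (x := x)
      (U := ⟨U, hUo⟩) hx
    exact ⟨V, hV, hxV, hVU⟩
  choose! V hV hxV hVU using key
  obtain ⟨t, hts, hcov⟩ := hUc.elim_nhds_subcover (fun x => (V x : Set X))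
    (fun x hx => (V x).2.mem_nhds (hxV x hx))
  have hEq : E ∩ U = ⋃ x ∈ t, (E ∩ (V x : Set X)) := by
    apply Subset.antisymm
    · rintro z ⟨hzE, hzU⟩
      obtain ⟨x, hx, hzx⟩ := mem_iUnion₂.mp (hcov hzU)
      exact mem_iUnion₂.mpr ⟨x, hx, hzE, hzx⟩
    · intro z hz
      obtain ⟨x, hx, hzE, hzx⟩ := mem_iUnion₂.mp hz
      exact ⟨hzE, hVU x (hts x hx) hzx⟩
  rw [hEq]
  apply t.isCompact_biUnion
  intro x hx
  have := spectralSpace_of_isAffineOpen' (hV x (hts x hx))
  have hc : IsCompact ((V x : Set X) ↓∩ E) :=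
    Groth.Agent.Lib.Helper20.Spectral.isCompact_of_isClosed_cons
      (hE _ (IsAffineOpen.isSpecOpen (hV x (hts x hx))))
  rw [IsEmbedding.subtypeVal.isCompact_iff, Subtype.image_preimage_coe, inter_comm] at hc
  exact hc

/-- a pro-constructible subset stable under specialization is closed -/
theorem isClosed_of_proC_of_stable {F : Set X} (hF : ProC F)
    (hs : ∀ ⦃y y₀ : X⦄, y ∈ F → y ⤳ y₀ → y₀ ∈ F) : IsClosed F := by
  rw [← closure_subset_iff_isClosed]
  intro x hx
  obtain ⟨e, he, hex⟩ := exists_specializes_of_proC hF hx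
  exact hs he hex

end top

section main
variable {S' S : Scheme.{u}} (f : S' ⟶ S)

theorem isSSubtrusive_of_univ (hf : Subtr.UnivSSubtrusive f) : Subtr.IsSSubtrusive f :=
  MorphismProperty.universally_le _ _ hf

theorem surjective_of_isSSubtrusive (hf : Subtr.IsSSubtrusive f) : Function.Surjective f := by
  intro y
  obtain ⟨x, x', -, hx, -⟩ := hf (specializes_refl y)
  exact ⟨x, hx⟩

/-- locally closed sets are convex for the specialization order -/
theorem mem_of_isLocallyClosed_of_specializes {X : Type*} [TopologicalSpace X] {A : Set X}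
    (hA : IsLocallyClosed A) {x' x x₀ : X} (h1 : x' ⤳ x) (h2 : x ⤳ x₀) (hx' : x' ∈ A)
    (hx₀ : x₀ ∈ A) : x ∈ A := by
  obtain ⟨W, Z, hW, hZ, rfl⟩ := hA
  exact ⟨h2.mem_open hW hx₀.1, h1.mem_closed hZ hx'.2⟩

/-- Key: if `f` is quasi-compact and universally S-subtrusive and `f ⁻¹ E` is locally closed
and pro-constructible, then `E` is locally closed and pro-constructible. -/
theorem isLocallyClosed_of_preimage [QuasiCompact f] (hf : Subtr.UnivSSubtrusive f) (E : Set S)
    (hA : IsLocallyClosed (f ⁻¹' E)) (hAp : ProC (f ⁻¹' E)) :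
    IsLocallyClosed E ∧ ProC E := by
  have hsub := isSSubtrusive_of_univ f hf
  have hsurj := surjective_of_isSSubtrusive f hsub
  have hE : ProC E := by
    have := ProC.image f hAp
    rwa [image_preimage_eq E hsurj] at this
  refine ⟨?_, hE⟩
  -- the border `F` is the image of the border of `A`
  have hFeq : closure E \ E = f '' (closure (f ⁻¹' E) \ f ⁻¹' E) := by
    apply Subset.antisymm
    · rintro y ⟨hy, hyE⟩
      obtain ⟨e, he, hey⟩ := exists_specializes_of_proC hE hy
      obtain ⟨x, x', hxx, hx, hx'⟩ := hsub hey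
      refine ⟨x, ⟨?_, ?_⟩, hx⟩
      · exact hxx.mem_closed isClosed_closure (subset_closure (by rw [mem_preimage, hx']; exact he))
      · rw [mem_preimage, hx]; exact hyE
    · rintro _ ⟨x, ⟨hx, hxA⟩, rfl⟩
      refine ⟨?_, hxA⟩
      have := image_closure_subset_closure_image f.continuous (mem_image_of_mem f hx)
      rwa [image_preimage_eq E hsurj] at this
  have hAcl : IsClosed (closure (f ⁻¹' E) \ f ⁻¹' E) := by
    have := isLocallyClosed_iff_isOpen_coborder.mp hA
    rw [coborder] at this
    exact isOpen_compl_iff.mp this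
  have hFp : ProC (closure E \ E) := by
    rw [hFeq]
    exact ProC.image f (proC_of_isClosed hAcl)
  have hFs : ∀ ⦃y y₀ : S⦄, y ∈ closure E \ E → y ⤳ y₀ → y₀ ∈ closure E \ E := by
    rintro y y₀ ⟨hy, hyE⟩ hyy₀
    refine ⟨hyy₀.mem_closed isClosed_closure hy, fun hy₀ => hyE ?_⟩
    obtain ⟨e, he, hey⟩ := exists_specializes_of_proC hE hy
    -- lift the chain `e ⤳ y ⤳ y₀`
    obtain ⟨x, hxs, hxy⟩ := Groth.Agent.Lib.lead.ChainVal.S19530 f hf 2 ![e, y, y₀] (by
      intro i j hij
      fin_cases i <;> fin_cases j <;> first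
        | exact specializes_rfl
        | exact hey
        | exact hyy₀
        | exact hey.trans hyy₀
        | (exfalso; revert hij; decide))
    have h0 : f (x 0) = e := hxy 0
    have h1 : f (x 1) = y := hxy 1
    have h2 : f (x 2) = y₀ := hxy 2
    have hmem : x 1 ∈ f ⁻¹' E :=
      mem_of_isLocallyClosed_of_specializes hA (hxs 0 1 (by decide)) (hxs 1 2 (by decide))
        (by rw [mem_preimage, h0]; exact he) (by rw [mem_preimage, h2]; exact hy₀)
    rw [mem_preimage, h1] at hmem
    exact hmem
  have hFc : IsClosed (closure E \ E) := isClosed_of_proC_of_stable hFp hFs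
  rw [isLocallyClosed_iff_isOpen_coborder, coborder]
  exact hFc.isOpen_compl

theorem S14783 [QuasiCompact f] (hf : Subtr.UnivSSubtrusive f) (E : Set S) :
    (IsLocallyClosed E ∧ IsRetrocompact E) ↔
      (IsLocallyClosed (f ⁻¹' E) ∧ IsRetrocompact (f ⁻¹' E)) := by
  constructor
  · rintro ⟨h1, h2⟩
    refine ⟨h1.preimage f.continuous, ?_⟩
    exact ProC.isRetrocompact (ProC.preimage f (proC_of_isLocallyClosed_of_isRetrocompact h1 h2))
  · rintro ⟨h1, h2⟩
    obtain ⟨h3, h4⟩ := isLocallyClosed_of_preimage f hf E h1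
      (proC_of_isLocallyClosed_of_isRetrocompact h1 h2)
    exact ⟨h3, ProC.isRetrocompact h4⟩

end main

end Groth.Agent.Lib.Helper9.Sbt
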