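import Mathlib
import Groth.Prelude.Def_W4c2submetdescSubtr
import Groth.Agent.Lib.Helper9.Sbt4
set_option autoImplicit false
set_option linter.style.haveILetI false
set_option linter.unusedSectionVars false
set_option linter.unusedVariables false
universe u
open CategoryTheory CategoryTheory.Limits AlgebraicGeometry Topology TopologicalSpace Set
open scoped Set.Notation

namespace Groth.Agent.Lib.Helper9.Sbt

open Groth.Agent.Lib.Helper25.PC Groth.Agent.Lib.Helper20.SubtrPC

section main
variable {S' S : Scheme.{u}} (f : S' ⟶ S)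

/-- General form: it suffices to have a pro-constructible `Z ⊇ E` whose preimage lies in the
closure of `f ⁻¹ E`. -/
theorem isLocallyClosed_of_preimage' [QuasiCompact f] (hf : Subtr.UnivSSubtrusive f) (E : Set S)
    (hA : IsLocallyClosed (f ⁻¹' E)) (Z : Set S) (hZ : ProC Z) (hEZ : E ⊆ Z)
    (hZA : f ⁻¹' Z ⊆ closure (f ⁻¹' E)) :
    IsLocallyClosed E := by
  have hsub := isSSubtrusive_of_univ f hf
  have hsurj := surjective_of_isSSubtrusive f hsub
  have hclZ : closure E ⊆ closure Z := closure_mono hEZ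
  have hlift : ∀ y ∈ closure E, ∃ z ∈ Z, z ⤳ y := fun y hy =>
    exists_specializes_of_proC hZ (hclZ hy)
  -- the border `F` is the image of the border of `A`
  have hFeq : closure E \ E = f '' (closure (f ⁻¹' E) \ f ⁻¹' E) := by
    apply Subset.antisymm
    · rintro y ⟨hy, hyE⟩
      obtain ⟨z, hz, hzy⟩ := hlift y hy
      obtain ⟨x, x', hxx, hx, hx'⟩ := hsub hzy
      refine ⟨x, ⟨?_, ?_⟩, hx⟩
      · exact hxx.mem_closed isClosed_closure (hZA (by rw [mem_preimage, hx']; exact hz))
      · rw [mem_preimage, hx]; exact hyE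
    · rintro _ ⟨x, ⟨hx, hxA⟩, rfl⟩
      refine ⟨?_, hxA⟩
      have := image_closure_subset_closure_image f.continuous (mem_image_of_mem f hx)
      rwa [image_preimage_eq E hsurj] at this
  have hAcl : IsClosed (closure (f ⁻¹' E) \ f ⁻¹' E) := by
    have := isLocallyClosed_iff_isOpen_coborder.mp hA
    rw [coborder] at this
    exact isOpen_compl_iff.mp this
  have hFp : ProC (closure E \ E) := by
    rw [hFeq]
    exact ProC.image f (proC_of_isClosed hAcl)
  have hFs : ∀ ⦃y y₀ : S⦄, y ∈ closure E \ E → y ⤳ y₀ → y₀ ∈ closure E \ E := by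
    rintro y y₀ ⟨hy, hyE⟩ hyy₀
    refine ⟨hyy₀.mem_closed isClosed_closure hy, fun hy₀ => hyE ?_⟩
    obtain ⟨z, hz, hzy⟩ := hlift y hy
    -- lift the chain `z ⤳ y ⤳ y₀`
    obtain ⟨x, hxs, hxy⟩ := Groth.Agent.Lib.lead.ChainVal.S19530 f hf 2 ![z, y, y₀] (by
      intro i j hij
      fin_cases i <;> fin_cases j <;> first
        | exact specializes_rfl
        | exact hzy
        | exact hyy₀
        | exact hzy.trans hyy₀
        | (exfalso; revert hij; decide))
    have h0 : f (x 0) = z := hxy 0
    have h1 : f (x 1) = y := hxy 1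
    have h2 : f (x 2) = y₀ := hxy 2
    have hx0 : x 0 ∈ closure (f ⁻¹' E) := hZA (by rw [mem_preimage, h0]; exact hz)
    have hx1 : x 1 ∈ closure (f ⁻¹' E) := (hxs 0 1 (by decide)).mem_closed isClosed_closure hx0
    have hx2 : x 2 ∈ f ⁻¹' E := by rw [mem_preimage, h2]; exact hy₀
    obtain ⟨W, C, hW, hC, hWC⟩ := hA
    have hmem : x 1 ∈ f ⁻¹' E := by
      rw [hWC] at hx2 ⊢
      refine ⟨(hxs 1 2 (by decide)).mem_open hW hx2.1, ?_⟩
      have : closure (f ⁻¹' E) ⊆ C := by
        rw [hWC]
        exact closure_minimal inter_subset_right hC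
      exact this hx1
    rw [mem_preimage, h1] at hmem
    exact hmem
  have hFc : IsClosed (closure E \ E) := isClosed_of_proC_of_stable hFp hFs
  rw [isLocallyClosed_iff_isOpen_coborder, coborder]
  exact hFc.isOpen_compl

/-- open sets are ind-constructible -/
theorem indC_of_isOpen {X : Scheme.{u}} {U : Set X} (hU : IsOpen U) : IndC U := by
  rw [indC_iff_proC_compl]
  exact proC_of_isClosed hU.isClosed_compl

theorem S14784 [LocallyOfFinitePresentation f] [QuasiCompact f]
    (hf : Subtr.UnivSSubtrusive f) (E : Set S) :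
    IsLocallyClosed E ↔ IsLocallyClosed (f ⁻¹' E) := by
  refine ⟨fun h => h.preimage f.continuous, fun hA => ?_⟩
  have hsub := isSSubtrusive_of_univ f hf
  have hsurj := surjective_of_isSSubtrusive f hsub
  refine isLocallyClosed_of_preimage' f hf E hA (f '' (closure (f ⁻¹' E))ᶜ)ᶜ ?_ ?_ ?_
  · rw [proC_iff_indC_compl, compl_compl]
    exact IndC.image f (indC_of_isOpen isClosed_closure.isOpen_compl)
  · rintro y hy ⟨t, ht, rfl⟩
    exact ht (subset_closure hy)
  · intro x hx
    by_contra hxA
    exact hx ⟨x, hxA, rfl⟩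

end main

end Groth.Agent.Lib.Helper9.Sbt
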