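import Groth.Agent.Lib.Helper9.FlatLim
import Groth.Prelude.Def_CInt
set_option autoImplicit false
set_option linter.style.haveILetI false
set_option linter.unusedSectionVars false
universe u v w
open CategoryTheory CategoryTheory.Limits AlgebraicGeometry TopologicalSpace Opposite

namespace Groth.Agent.Lib.Helper9.SchDenseLim

open TensorProduct in
/-- flatness: if `φ` is flat and kills every `a` with `f k * a = 0` for all `k`, then any `t`
killed by all `φ (f k)` is zero -/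
lemma eq_zero_of_flat {A B : Type u} [CommRing A] [CommRing B] (φ : A →+* B) (hφ : φ.Flat)
    {ι : Type v} [Fintype ι] [DecidableEq ι] (f : ι → A)
    (hker : ∀ a : A, (∀ k, f k * a = 0) → φ a = 0) (t : B) (ht : ∀ k, φ (f k) * t = 0) :
    t = 0 := by
  letI := φ.toAlgebra
  haveI : Module.Flat A B := hφ
  let ψ : A →ₗ[A] (ι → A) := LinearMap.pi (fun k => LinearMap.mulLeft A (f k))
  have hψ : ∀ a k, ψ a k = f k * a := fun a k => rfl
  have hex := Module.Flat.lTensor_exact B (LinearMap.exact_subtype_ker_map ψ)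
  have h1 : (ψ.lTensor B) (t ⊗ₜ[A] (1 : A)) = 0 := by
    rw [LinearMap.lTensor_tmul]
    apply (TensorProduct.piScalarRight A A B ι).injective
    rw [map_zero, TensorProduct.piScalarRight_apply, TensorProduct.piScalarRightHom_tmul]
    funext k
    rw [hψ, mul_one, Algebra.smul_def]
    exact ht k
  obtain ⟨y, hy⟩ := (hex _).1 h1
  have h2 : ∀ y : B ⊗[A] (LinearMap.ker ψ),
      (TensorProduct.rid A B) (((LinearMap.ker ψ).subtype.lTensor B) y) = 0 := by
    intro y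
    induction y using TensorProduct.induction_on with
    | zero => simp
    | tmul b κ =>
      rw [LinearMap.lTensor_tmul, TensorProduct.rid_tmul, Submodule.subtype_apply,
        Algebra.smul_def]
      have hκ : ∀ k, f k * (κ : A) = 0 := by
        intro k
        have := congrFun (LinearMap.mem_ker.1 κ.2) k
        exact this
      have : φ (κ : A) = 0 := hker _ hκ
      change φ (κ : A) * b = 0
      rw [this, zero_mul]
    | add x y hx hy => rw [map_add, map_add, hx, hy, add_zero]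
  have h3 := h2 y
  rw [hy, TensorProduct.rid_tmul, one_smul] at h3
  exact h3

section res

variable {X : Scheme.{u}}

/-- restriction of sections -/
abbrev res {V W : X.Opens} (h : W ≤ V) : Γ(X, V) →+* Γ(X, W) := (X.presheaf.map (homOfLE h).op).hom

lemma res_res {V W₁ W₂ : X.Opens} (h₁ : W₁ ≤ V) (h₂ : W₂ ≤ W₁) (a : Γ(X, V)) :
    res h₂ (res h₁ a) = res (h₂.trans h₁) a := by
  change (X.presheaf.map (homOfLE h₁).op ≫ X.presheaf.map (homOfLE h₂).op) a = _
  rw [← Functor.map_comp]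
  rfl

end res

/-- Let `h : Y ⟶ X₀` be flat with `X₀` locally Noetherian, `U₀` open in `X₀`, and suppose `h` kills
the sections (over the members of an affine open cover) which vanish on `U₀`. Then `h⁻¹ U₀` is
schematically dense in `Y`. -/
theorem isSchematicallyDense_preimage {Y X₀ : Scheme.{u}} (h : Y ⟶ X₀) [Flat h]
    [IsLocallyNoetherian X₀] (U₀ : X₀.Opens) (𝒱 : Set X₀.Opens)
    (h𝒱aff : ∀ V ∈ 𝒱, IsAffineOpen V) (h𝒱cov : ∀ x : X₀, ∃ V ∈ 𝒱, x ∈ V)
    (hK : ∀ V ∈ 𝒱, ∀ a : Γ(X₀, V), res (inf_le_left : V ⊓ U₀ ≤ V) a = 0 → h.app V a = 0) :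
    CInt.IsSchematicallyDense (h ⁻¹ᵁ U₀) := by
  classical
  intro V''
  change Function.Injective (res (inf_le_left : V'' ⊓ h ⁻¹ᵁ U₀ ≤ V''))
  rw [injective_iff_map_eq_zero]
  intro s hs
  refine Y.IsSheaf.section_ext fun x hx => ?_
  obtain ⟨V, hV𝒱, hxV⟩ := h𝒱cov (h x)
  have hV : IsAffineOpen V := h𝒱aff V hV𝒱
  obtain ⟨_, ⟨W', hW' : IsAffineOpen W', rfl⟩, hxW', hW'le : W' ≤ V'' ⊓ h ⁻¹ᵁ V⟩ :=
    Y.isBasis_affineOpens.exists_subset_of_mem_open (show x ∈ (V'' ⊓ h ⁻¹ᵁ V : Y.Opens) from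
      ⟨hx, hxV⟩) (V'' ⊓ h ⁻¹ᵁ V).isOpen
  have hW'V'' : W' ≤ V'' := hW'le.trans inf_le_left
  have hle : W' ≤ h ⁻¹ᵁ V := hW'le.trans inf_le_right
  refine ⟨W', hW'V'', hxW', ?_⟩
  change res hW'V'' s = res hW'V'' 0
  rw [map_zero]
  set t : Γ(Y, W') := res hW'V'' s with ht_def
  let φ : Γ(X₀, V) →+* Γ(Y, W') := (h.appLE V W' hle).hom
  have hflat : φ.Flat := h.flat_appLE hV hW' hle
  -- V ⊓ U₀ is quasi-compact, hence a finite union of basic opens
  haveI : IsNoetherianRing Γ(X₀, V) := IsLocallyNoetherian.component_noetherian ⟨V, hV⟩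
  have hNS : NoetherianSpace ((V : Set X₀) : Type u) := noetherianSpace_of_isAffineOpen V hV
  have hcpt : IsCompact ((V ⊓ U₀ : X₀.Opens) : Set X₀) := by
    have h1 : ((V ⊓ U₀ : X₀.Opens) : Set X₀) =
        Subtype.val '' ((Subtype.val : ((V : Set X₀) : Type u) → X₀) ⁻¹' (U₀ : Set X₀)) := by
      ext z
      simp only [Opens.coe_inf, Set.mem_inter_iff, SetLike.mem_coe, Set.mem_image,
        Set.mem_preimage, Subtype.exists, exists_and_right, exists_eq_right]
      constructor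
      · rintro ⟨h1, h2⟩; exact ⟨h1, h2⟩
      · rintro ⟨h1, h2⟩; exact ⟨h1, h2⟩
    rw [h1]
    exact (@NoetherianSpace.isCompact _ _ hNS _).image continuous_subtype_val
  have hex : ∀ z : (V ⊓ U₀ : X₀.Opens), ∃ f : Γ(X₀, V),
      X₀.basicOpen f ≤ V ⊓ U₀ ∧ z.1 ∈ X₀.basicOpen f := fun z =>
    hV.exists_basicOpen_le z z.2.1
  choose ff hff1 hff2 using hex
  obtain ⟨T, hT⟩ := hcpt.elim_finite_subcover (fun z : (V ⊓ U₀ : X₀.Opens) =>
    ((X₀.basicOpen (ff z) : X₀.Opens) : Set X₀)) (fun z => (X₀.basicOpen (ff z)).isOpen)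
    (fun z hz => Set.mem_iUnion.2 ⟨⟨z, hz⟩, hff2 ⟨z, hz⟩⟩)
  -- each φ (ff z) ^ n kills t
  have hkill : ∀ z : (V ⊓ U₀ : X₀.Opens), ∃ n : ℕ, φ (ff z) ^ n * t = 0 := by
    intro z
    apply exists_pow_mul_eq_zero_of_res_basicOpen_eq_zero_of_isAffineOpen Y hW' t (φ (ff z))
    have hb : Y.basicOpen (φ (ff z)) = W' ⊓ h ⁻¹ᵁ (X₀.basicOpen (ff z)) :=
      Scheme.basicOpen_appLE h W' V hle (ff z)
    have hble : Y.basicOpen (φ (ff z)) ≤ V'' ⊓ h ⁻¹ᵁ U₀ := by
      rw [hb]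
      refine le_inf (inf_le_left.trans hW'V'') (inf_le_right.trans ?_)
      intro y hy
      exact ((hff1 z) hy).2
    change res (Y.basicOpen_le (φ (ff z))) t = 0
    rw [ht_def, res_res]
    have : res ((Y.basicOpen_le (φ (ff z))).trans hW'V'') s =
        res hble (res inf_le_left s) := by rw [res_res]
    rw [this, hs, map_zero]
  choose nn hnn using hkill
  let N : ℕ := T.sup nn
  have hkillN : ∀ z ∈ T, φ (ff z ^ N) * t = 0 := by
    intro z hz
    have hle' : nn z ≤ N := Finset.le_sup hz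
    rw [map_pow, ← Nat.sub_add_cancel hle', pow_add, mul_assoc, hnn z, mul_zero]
  -- apply the flatness lemma
  apply eq_zero_of_flat φ hflat (ι := T) (fun z => ff z.1 ^ N) ?_ t (fun z => hkillN z.1 z.2)
  intro a ha
  -- a vanishes on V ⊓ U₀
  have ha0 : res (inf_le_left : V ⊓ U₀ ≤ V) a = 0 := by
    refine X₀.IsSheaf.section_ext fun y hy => ?_
    obtain ⟨z, hzT, hyz⟩ : ∃ z ∈ T, y ∈ X₀.basicOpen (ff z) := by
      have := hT hy
      simp only [Set.mem_iUnion] at this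
      obtain ⟨z, hzT, hyz⟩ := this
      exact ⟨z, hzT, hyz⟩
    refine ⟨X₀.basicOpen (ff z), hff1 z, hyz, ?_⟩
    change res (hff1 z) (res inf_le_left a) = res (hff1 z) 0
    rw [map_zero, res_res]
    have hunit : IsUnit (res (X₀.basicOpen_le (ff z)) (ff z)) :=
      RingedSpace.isUnit_res_basicOpen X₀.toRingedSpace (ff z)
    have h2 : res (X₀.basicOpen_le (ff z)) (ff z ^ N * a) = 0 := by
      rw [ha ⟨z, hzT⟩, map_zero]
    rw [map_mul, map_pow] at h2
    exact (hunit.pow N).mul_right_eq_zero.1 h2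
  have h3 : h.app V a = 0 := hK V hV𝒱 a ha0
  change (h.appLE V W' hle) a = 0
  rw [Scheme.Hom.appLE, CommRingCat.comp_apply, h3, map_zero]

lemma res_app_eq_zero {Y X : Scheme.{u}} (f : Y ⟶ X) (V U : X.Opens) (a : Γ(X, V))
    (ha : res (inf_le_left : V ⊓ U ≤ V) a = 0) :
    res (inf_le_left : f ⁻¹ᵁ V ⊓ f ⁻¹ᵁ U ≤ f ⁻¹ᵁ V) (f.app V a) = 0 := by
  have h1 := f.naturality (homOfLE (inf_le_left : V ⊓ U ≤ V)).op
  have h2 := congrArg (fun g => g.hom a) h1
  simp only [CommRingCat.comp_apply] at h2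
  have ha' : (X.presheaf.map (homOfLE (inf_le_left : V ⊓ U ≤ V)).op) a = 0 := ha
  rw [ha', map_zero] at h2
  exact h2.symm

variable {I : Type u} [SmallCategory I] [IsCofiltered I] (D : I ⥤ Scheme.{u})
  (c : Cone D) (hc : IsLimit c) [∀ {i j : I} (f : i ⟶ j), IsAffineHom (D.map f)]
  (hfl : ∀ (i j : I) (g : i ⟶ j), Flat (D.map g))

include hc hfl in
theorem of_stage [∀ i : I, IsLocallyNoetherian (D.obj i)] (i₀ : I) (U₀ : (D.obj i₀).Opens)
    (i : I) (g : i ⟶ i₀) (hd : CInt.IsSchematicallyDense ((D.map g) ⁻¹ᵁ U₀)) :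
    CInt.IsSchematicallyDense ((c.π.app i₀) ⁻¹ᵁ U₀) := by
  have hflat : Flat (c.π.app i) := FlatLim.flat_π D c hc i (fun j φ => hfl j i φ)
  have h1 : (c.π.app i₀) ⁻¹ᵁ U₀ = (c.π.app i) ⁻¹ᵁ ((D.map g) ⁻¹ᵁ U₀) := by
    rw [← Scheme.Hom.comp_preimage, c.w]
  rw [h1]
  apply isSchematicallyDense_preimage (c.π.app i) ((D.map g) ⁻¹ᵁ U₀)
    {V | IsAffineOpen V} (fun V hV => hV)
  · intro x
    obtain ⟨_, ⟨V, hV, rfl⟩, hxV, -⟩ := (D.obj i).isBasis_affineOpens.exists_subset_of_mem_open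
      (Set.mem_univ x) isOpen_univ
    exact ⟨V, hV, hxV⟩
  · intro V hV a ha
    have : a = 0 := by
      apply hd V
      rw [map_zero]
      exact ha
    rw [this, map_zero]

include hc hfl in
theorem exists_stage [∀ i : I, IsNoetherian (D.obj i)] (i₀ : I) (U₀ : (D.obj i₀).Opens)
    (hd : CInt.IsSchematicallyDense ((c.π.app i₀) ⁻¹ᵁ U₀)) :
    ∃ (i : I) (g : i ⟶ i₀), CInt.IsSchematicallyDense ((D.map g) ⁻¹ᵁ U₀) := by
  classical
  obtain ⟨S, hSfin, hScov⟩ :=
    (isCompact_and_isOpen_iff_finite_and_eq_biUnion_affineOpens (X := D.obj i₀)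
      (U := Set.univ)).1 ⟨isCompact_univ, isOpen_univ⟩
  have hFG : ∀ V : (D.obj i₀).affineOpens,
      (RingHom.ker (res (inf_le_left : V.1 ⊓ U₀ ≤ V.1))).FG := by
    intro V
    have := IsLocallyNoetherian.component_noetherian (X := D.obj i₀) V
    exact (isNoetherianRing_iff_ideal_fg _).1 this _
  choose G hG using hFG
  let p : c.pt ⟶ D.obj i₀ := c.π.app i₀
  have key : ∀ (V : (D.obj i₀).affineOpens) (a : Γ(D.obj i₀, V)), a ∈ G V →
      ∃ j : Over i₀, (D.map j.hom).app V a = 0 := by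
    intro V a ha
    have h1 : a ∈ RingHom.ker (res (inf_le_left : V.1 ⊓ U₀ ≤ V.1)) := by
      rw [← hG V]; exact Ideal.subset_span ha
    have h2 : res (inf_le_left : p ⁻¹ᵁ V.1 ⊓ p ⁻¹ᵁ U₀ ≤ p ⁻¹ᵁ V.1) (p.app V a) = 0 :=
      res_app_eq_zero p V.1 U₀ a h1
    have h3 : p.app V a = 0 := by
      apply hd (p ⁻¹ᵁ V.1)
      rw [map_zero]
      exact h2
    obtain ⟨j, f, hj⟩ := exists_app_map_eq_zero_of_isLimit D c hc V.2.isCompact a h3
    exact ⟨Over.mk f, hj⟩
  choose jj hjj using key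
  let O : Finset (Over i₀) := hSfin.toFinset.biUnion
    (fun U => (G U).attach.image (fun a => jj U a.1 a.2))
  obtain ⟨i, hi⟩ := IsCofiltered.inf_objs_exists O
  refine ⟨i.left, i.hom, ?_⟩
  have := hfl i.left i₀ i.hom
  apply isSchematicallyDense_preimage (D.map i.hom) U₀ ((fun V : (D.obj i₀).affineOpens => V.1) '' S)
  · rintro _ ⟨V, -, rfl⟩
    exact V.2
  · intro x
    have hx : x ∈ (Set.univ : Set (D.obj i₀)) := Set.mem_univ _
    rw [hScov] at hx
    simp only [Set.mem_iUnion] at hx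
    obtain ⟨V, hVS, hxV⟩ := hx
    exact ⟨V.1, ⟨V, hVS, rfl⟩, hxV⟩
  · rintro _ ⟨V, hVS, rfl⟩ a ha
    have h1 : a ∈ Ideal.span (G V : Set Γ(D.obj i₀, V.1)) := by
      rw [hG V]; exact ha
    have h2 : Ideal.span (G V : Set Γ(D.obj i₀, V.1)) ≤ RingHom.ker ((D.map i.hom).app V.1).hom := by
      rw [Ideal.span_le]
      intro b hb
      have hmem : jj V b hb ∈ O := by
        simp only [O, Finset.mem_biUnion, Finset.mem_image, Finset.mem_attach, true_and]
        exact ⟨V, hSfin.mem_toFinset.2 hVS, ⟨b, hb⟩, rfl⟩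
      obtain ⟨h⟩ := hi hmem
      have h3 : (D.map i.hom) = D.map h.left ≫ D.map (jj V b hb).hom := by
        rw [← D.map_comp, Over.w h]
      have h4 : ((D.map h.left ≫ D.map (jj V b hb).hom).app V.1) b = 0 := by
        rw [Scheme.Hom.comp_app]
        change ((D.map h.left).app _) (((D.map (jj V b hb).hom).app V.1) b) = 0
        rw [hjj V b hb, map_zero]
      change ((D.map i.hom).app V.1) b = 0
      have h5 : ∀ (φ : D.obj i.left ⟶ D.obj i₀), φ = D.map h.left ≫ D.map (jj V b hb).hom →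
          (φ.app V.1) b = 0 := by
        intro φ hφ
        subst hφ
        exact h4
      exact h5 _ h3
    exact h2 h1

end Groth.Agent.Lib.Helper9.SchDenseLim
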