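import Mathlib
set_option autoImplicit false
set_option linter.style.haveILetI false
set_option linter.unusedSectionVars false
universe u v
open CategoryTheory CategoryTheory.Limits AlgebraicGeometry TopologicalSpace

namespace Groth.Agent.Lib.Helper9.SepCrit

/-- In a pushout square of commutative rings, the pushout is generated by the two legs. -/
lemma closure_range_eq_top_of_isPushout {R A B P : CommRingCat.{u}} {a : R ⟶ A} {b : R ⟶ B}
    {inl : A ⟶ P} {inr : B ⟶ P} (h : IsPushout a b inl inr) :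
    Subring.closure (Set.range inl.hom ∪ Set.range inr.hom) = ⊤ := by
  set T : Subring P := Subring.closure (Set.range inl.hom ∪ Set.range inr.hom) with hT
  let ι : CommRingCat.of T ⟶ P := CommRingCat.ofHom T.subtype
  let a' : A ⟶ CommRingCat.of T := CommRingCat.ofHom (inl.hom.codRestrict T
    (fun x => Subring.subset_closure (Or.inl ⟨x, rfl⟩)))
  let b' : B ⟶ CommRingCat.of T := CommRingCat.ofHom (inr.hom.codRestrict T
    (fun x => Subring.subset_closure (Or.inr ⟨x, rfl⟩)))
  have ha' : a' ≫ ι = inl := by ext x; rfl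
  have hb' : b' ≫ ι = inr := by ext x; rfl
  have hι : Function.Injective ι.hom := Subtype.val_injective
  have hcomm : a ≫ a' = b ≫ b' := by
    ext x
    have := congrArg (fun φ => φ.hom x) h.w
    exact this
  let ψ : P ⟶ CommRingCat.of T := h.desc a' b' hcomm
  have hψ : ψ ≫ ι = 𝟙 P := by
    apply h.hom_ext
    · rw [← Category.assoc, h.inl_desc, ha', Category.comp_id]
    · rw [← Category.assoc, h.inr_desc, hb', Category.comp_id]
  apply top_le_iff.1
  intro x _
  have hx : ι.hom (ψ.hom x) = x := by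
    have := congrArg (fun φ => φ.hom x) hψ
    exact this
  rw [← hx]
  exact (ψ.hom x).2

lemma surjective_iff_closure_eq_top_of_isPushout {R A B P C : CommRingCat.{u}} {a : R ⟶ A}
    {b : R ⟶ B} {inl : A ⟶ P} {inr : B ⟶ P} (h : IsPushout a b inl inr) (φ : P ⟶ C) :
    Function.Surjective φ.hom ↔
      Subring.closure (Set.range (inl ≫ φ).hom ∪ Set.range (inr ≫ φ).hom) = ⊤ := by
  have h1 : Subring.closure (Set.range (inl ≫ φ).hom ∪ Set.range (inr ≫ φ).hom) =
      φ.hom.range := by
    have h2 : Set.range (inl ≫ φ).hom ∪ Set.range (inr ≫ φ).hom =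
        φ.hom '' (Set.range inl.hom ∪ Set.range inr.hom) := by
      rw [Set.image_union, ← Set.range_comp, ← Set.range_comp]
      rfl
    rw [h2, ← RingHom.map_closure, closure_range_eq_top_of_isPushout h, ← RingHom.range_eq_map]
  rw [h1, RingHom.range_eq_top]


section crit

variable {X Y : Scheme.{u}} (f : X ⟶ Y)

/-- the open immersion `U ×_Y V ⟶ X ×_Y X`. -/
noncomputable abbrev boxMap (U V : X.Opens) :
    pullback (U.ι ≫ f) (V.ι ≫ f) ⟶ pullback f f :=
  pullback.map (U.ι ≫ f) (V.ι ≫ f) f f U.ι V.ι (𝟙 Y) (Category.comp_id _) (Category.comp_id _)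

lemma iSup_opensRange_boxMap {ι : Type v} (U : ι → X.Opens) (hcov : ⨆ i, U i = ⊤) :
    ⨆ p : ι × ι, (boxMap f (U p.1) (U p.2)).opensRange = ⊤ := by
  apply top_le_iff.1
  intro z _
  have h1 : pullback.fst f f z ∈ (⨆ i, U i : X.Opens) := by rw [hcov]; trivial
  have h2 : pullback.snd f f z ∈ (⨆ i, U i : X.Opens) := by rw [hcov]; trivial
  obtain ⟨i, hi⟩ := Opens.mem_iSup.1 h1
  obtain ⟨j, hj⟩ := Opens.mem_iSup.1 h2
  refine Opens.mem_iSup.2 ⟨(i, j), ?_⟩
  change z ∈ Set.range (boxMap f (U i) (U j))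
  rw [Scheme.Pullback.range_map]
  refine ⟨?_, ?_⟩
  · change pullback.fst f f z ∈ Set.range (U i).ι
    rw [Scheme.Opens.range_ι]; exact hi
  · change pullback.snd f f z ∈ Set.range (U j).ι
    rw [Scheme.Opens.range_ι]; exact hj

/-- Separatedness via the base changes of the diagonal to the boxes `U_i ×_Y U_j`. -/
lemma isSeparated_iff_mapDesc {ι : Type v} (U : ι → X.Opens) (hcov : ⨆ i, U i = ⊤) :
    IsSeparated f ↔ ∀ i j, IsClosedImmersion (pullback.mapDesc (U i).ι (U j).ι f) := by
  constructor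
  · intro h i j
    infer_instance
  · intro h
    refine ⟨?_⟩
    rw [IsZariskiLocalAtTarget.iff_of_iSup_eq_top (P := @IsClosedImmersion)
      (fun p : ι × ι => (boxMap f (U p.1) (U p.2)).opensRange) (iSup_opensRange_boxMap f U hcov)]
    intro p
    rw [MorphismProperty.arrow_mk_iso_iff (P := @IsClosedImmersion)
      (morphismRestrictOpensRange _ _)]
    have hpb := pullback_map_diagonal_isPullback (U p.1).ι (U p.2).ι f
    have h3 : pullback.snd (pullback.diagonal f) (boxMap f (U p.1) (U p.2)) =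
        hpb.isoPullback.inv ≫ pullback.mapDesc (U p.1).ι (U p.2).ι f := by
      rw [Iso.eq_inv_comp]
      exact hpb.isoPullback_hom_snd
    rw [h3, MorphismProperty.cancel_left_of_respectsIso (P := @IsClosedImmersion)]
    exact h p.1 p.2


lemma homOfLE_appTop_topIso {U W : X.Opens} (e : W ≤ U) :
    (X.homOfLE e).appTop ≫ W.topIso.hom = U.topIso.hom ≫ X.presheaf.map (homOfLE e).op := by
  rw [Scheme.homOfLE_appTop]
  simp only [Scheme.Opens.topIso_hom]
  erw [← Functor.map_comp, ← Functor.map_comp]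
  rfl

/-- The box criterion for one pair of affine opens. -/
lemma isClosedImmersion_mapDesc_iff [IsAffine Y] {U V : X.Opens} (hU : IsAffineOpen U)
    (hV : IsAffineOpen V) :
    IsClosedImmersion (pullback.mapDesc U.ι V.ι f) ↔ IsAffineOpen (U ⊓ V) ∧
      Subring.closure (Set.range (X.presheaf.map (homOfLE (inf_le_left : U ⊓ V ≤ U)).op).hom ∪
        Set.range (X.presheaf.map (homOfLE (inf_le_right : U ⊓ V ≤ V)).op).hom) = ⊤ := by
  haveI : IsAffine U.toScheme := hU
  haveI : IsAffine V.toScheme := hV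
  let e : (U ⊓ V).toScheme ≅ pullback U.ι V.ι := (isPullback_opens_inf U V).isoPullback
  let θ : (U ⊓ V).toScheme ⟶ pullback (U.ι ≫ f) (V.ι ≫ f) := e.hom ≫ pullback.mapDesc U.ι V.ι f
  have hθ1 : θ ≫ pullback.fst _ _ = X.homOfLE inf_le_left := by
    simp only [θ, e, pullback.mapDesc, Category.assoc]
    rw [pullback.lift_fst, Category.comp_id, IsPullback.isoPullback_hom_fst]
  have hθ2 : θ ≫ pullback.snd _ _ = X.homOfLE inf_le_right := by
    simp only [θ, e, pullback.mapDesc, Category.assoc]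
    rw [pullback.lift_snd, Category.comp_id, IsPullback.isoPullback_hom_snd]
  have h1 : IsClosedImmersion (pullback.mapDesc U.ι V.ι f) ↔ IsClosedImmersion θ :=
    (MorphismProperty.cancel_left_of_respectsIso (P := @IsClosedImmersion) e.hom _).symm
  rw [h1, HasAffineProperty.iff_of_isAffine (P := @IsClosedImmersion)]
  refine and_congr Iff.rfl ?_
  have hpo := isPushout_appTop_of_isPullback
    (IsPullback.of_hasPullback (U.ι ≫ f) (V.ι ≫ f))
  set φ : Γ(pullback (U.ι ≫ f) (V.ι ≫ f), ⊤) ⟶ Γ(X, U ⊓ V) :=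
    θ.appTop ≫ (U ⊓ V).topIso.hom with hφ
  have h2 : Function.Surjective θ.appTop ↔ Function.Surjective φ.hom := by
    rw [hφ, CommRingCat.hom_comp, RingHom.coe_comp]
    exact (Function.Surjective.of_comp_iff' (ConcreteCategory.bijective_of_isIso (U ⊓ V).topIso.hom) _).symm
  rw [h2, surjective_iff_closure_eq_top_of_isPushout hpo φ]
  have h3 : (pullback.fst (U.ι ≫ f) (V.ι ≫ f)).appTop ≫ φ =
      U.topIso.hom ≫ X.presheaf.map (homOfLE (inf_le_left : U ⊓ V ≤ U)).op := by
    rw [hφ, ← Category.assoc, ← Scheme.Hom.comp_appTop, hθ1, homOfLE_appTop_topIso]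
  have h4 : (pullback.snd (U.ι ≫ f) (V.ι ≫ f)).appTop ≫ φ =
      V.topIso.hom ≫ X.presheaf.map (homOfLE (inf_le_right : U ⊓ V ≤ V)).op := by
    rw [hφ, ← Category.assoc, ← Scheme.Hom.comp_appTop, hθ2, homOfLE_appTop_topIso]
  have h5 : Set.range ((pullback.fst (U.ι ≫ f) (V.ι ≫ f)).appTop ≫ φ).hom =
      Set.range (X.presheaf.map (homOfLE (inf_le_left : U ⊓ V ≤ U)).op).hom := by
    rw [h3, CommRingCat.hom_comp, RingHom.coe_comp, Set.range_comp,
      (ConcreteCategory.bijective_of_isIso U.topIso.hom).surjective.range_eq, Set.image_univ]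
  have h6 : Set.range ((pullback.snd (U.ι ≫ f) (V.ι ≫ f)).appTop ≫ φ).hom =
      Set.range (X.presheaf.map (homOfLE (inf_le_right : U ⊓ V ≤ V)).op).hom := by
    rw [h4, CommRingCat.hom_comp, RingHom.coe_comp, Set.range_comp,
      (ConcreteCategory.bijective_of_isIso V.topIso.hom).surjective.range_eq, Set.image_univ]
  rw [h5, h6]

/-- The separatedness criterion via an affine open cover. -/
theorem isSeparated_iff_forall_inter_affine_and_generated [IsAffine Y] {ι : Type v}
    (U : ι → X.Opens) (hU : ∀ i, IsAffineOpen (U i)) (hcov : ⨆ i, U i = ⊤) :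
    IsSeparated f ↔ ∀ i j, IsAffineOpen (U i ⊓ U j) ∧
      Subring.closure (Set.range (X.presheaf.map (homOfLE (inf_le_left : U i ⊓ U j ≤ U i)).op).hom ∪
        Set.range (X.presheaf.map (homOfLE (inf_le_right : U i ⊓ U j ≤ U j)).op).hom) = ⊤ := by
  rw [isSeparated_iff_mapDesc f U hcov]
  exact forall_congr' fun i => forall_congr' fun j =>
    isClosedImmersion_mapDesc_iff f (hU i) (hU j)

end crit

end Groth.Agent.Lib.Helper9.SepCrit
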