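import Groth.Agent.Lib.Helper9.SepCrit
set_option autoImplicit false
set_option linter.style.haveILetI false
set_option linter.unusedSectionVars false
universe u v
open CategoryTheory CategoryTheory.Limits AlgebraicGeometry TopologicalSpace

namespace Groth.Agent.Lib.Helper9.SepLim

/-- The subring of `Γ(X, U ⊓ V)` generated by the restrictions from `U` and from `V`. -/
noncomputable def genSubring (X : Scheme.{u}) (U V : X.Opens) : Subring Γ(X, U ⊓ V) :=
  Subring.closure (Set.range (X.presheaf.map (homOfLE (inf_le_left : U ⊓ V ≤ U)).op).hom ∪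
    Set.range (X.presheaf.map (homOfLE (inf_le_right : U ⊓ V ≤ V)).op).hom)

lemma genSubring_congr {X : Scheme.{u}} {U V U' V' : X.Opens} (hU : U = U') (hV : V = V')
    (h : genSubring X U V = ⊤) : genSubring X U' V' = ⊤ := by
  subst hU; subst hV; exact h

lemma res_left_mem {X : Scheme.{u}} (U V : X.Opens) (x : Γ(X, U)) :
    (X.presheaf.map (homOfLE (inf_le_left : U ⊓ V ≤ U)).op).hom x ∈ genSubring X U V :=
  Subring.subset_closure (Or.inl ⟨x, rfl⟩)

lemma res_right_mem {X : Scheme.{u}} (U V : X.Opens) (x : Γ(X, V)) :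
    (X.presheaf.map (homOfLE (inf_le_right : U ⊓ V ≤ V)).op).hom x ∈ genSubring X U V :=
  Subring.subset_closure (Or.inr ⟨x, rfl⟩)

/-- Functoriality of `genSubring`. -/
lemma appLE_mem_genSubring {X' X : Scheme.{u}} (g : X' ⟶ X) {U V : X.Opens} {U' V' : X'.Opens}
    (hU : U' ≤ g ⁻¹ᵁ U) (hV : V' ≤ g ⁻¹ᵁ V) (y : Γ(X, U ⊓ V)) (hy : y ∈ genSubring X U V) :
    (g.appLE (U ⊓ V) (U' ⊓ V') (inf_le_inf hU hV)).hom y ∈ genSubring X' U' V' := by
  have hle : genSubring X U V ≤
      (genSubring X' U' V').comap (g.appLE (U ⊓ V) (U' ⊓ V') (inf_le_inf hU hV)).hom := by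
    apply Subring.closure_le.2
    rintro _ (⟨x, rfl⟩ | ⟨x, rfl⟩)
    · change (g.appLE (U ⊓ V) (U' ⊓ V') _).hom
        ((X.presheaf.map (homOfLE (inf_le_left : U ⊓ V ≤ U)).op).hom x) ∈ genSubring X' U' V'
      have h1 : X.presheaf.map (homOfLE (inf_le_left : U ⊓ V ≤ U)).op ≫
          g.appLE (U ⊓ V) (U' ⊓ V') (inf_le_inf hU hV) =
          g.appLE U U' hU ≫ X'.presheaf.map (homOfLE (inf_le_left : U' ⊓ V' ≤ U')).op := by
        rw [Scheme.Hom.map_appLE, Scheme.Hom.appLE_map]
      have h2 := congrArg (fun φ => φ.hom x) h1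
      simp only [CommRingCat.hom_comp, RingHom.coe_comp, Function.comp_apply] at h2
      rw [h2]
      exact res_left_mem _ _ _
    · change (g.appLE (U ⊓ V) (U' ⊓ V') _).hom
        ((X.presheaf.map (homOfLE (inf_le_right : U ⊓ V ≤ V)).op).hom x) ∈ genSubring X' U' V'
      have h1 : X.presheaf.map (homOfLE (inf_le_right : U ⊓ V ≤ V)).op ≫
          g.appLE (U ⊓ V) (U' ⊓ V') (inf_le_inf hU hV) =
          g.appLE V V' hV ≫ X'.presheaf.map (homOfLE (inf_le_right : U' ⊓ V' ≤ V')).op := by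
        rw [Scheme.Hom.map_appLE, Scheme.Hom.appLE_map]
      have h2 := congrArg (fun φ => φ.hom x) h1
      simp only [CommRingCat.hom_comp, RingHom.coe_comp, Function.comp_apply] at h2
      rw [h2]
      exact res_right_mem _ _ _
  exact hle hy


lemma morphismRestrict_appTop_topIso {X' X : Scheme.{u}} (g : X' ⟶ X) (W : X.Opens) :
    (g ∣_ W).appTop ≫ (g ⁻¹ᵁ W).topIso.hom = W.topIso.hom ≫ g.app W := by
  rw [morphismRestrict_appTop]
  simp only [Scheme.Opens.topIso_hom]
  erw [Scheme.Hom.naturality, Category.assoc, ← Functor.map_comp]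
  rfl

lemma isPullback_morphismRestrict_homOfLE {X' X : Scheme.{u}} (g : X' ⟶ X) {U W : X.Opens}
    (hWU : W ≤ U) :
    IsPullback (X'.homOfLE (g.preimage_mono hWU)) (g ∣_ W) (g ∣_ U) (X.homOfLE hWU) := by
  have t : IsPullback (g ⁻¹ᵁ U).ι (g ∣_ U) g U.ι := (isPullback_morphismRestrict g U).flip
  have s : IsPullback (X'.homOfLE (g.preimage_mono hWU) ≫ (g ⁻¹ᵁ U).ι) (g ∣_ W) g
      (X.homOfLE hWU ≫ U.ι) := by
    rw [Scheme.homOfLE_ι, Scheme.homOfLE_ι]
    exact (isPullback_morphismRestrict g W).flip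
  refine IsPullback.of_right s ?_ t
  rw [← cancel_mono U.ι, Category.assoc, Category.assoc, morphismRestrict_ι,
    Scheme.homOfLE_ι, Scheme.homOfLE_ι_assoc, morphismRestrict_ι]

/-- For `W ≤ U` affine opens with affine preimages, the sections over `g⁻¹ W` are generated by
the sections over `g⁻¹ U` and the pullbacks of the sections over `W`. -/
lemma closure_preimage_eq_top {X' X : Scheme.{u}} (g : X' ⟶ X) {U W : X.Opens} (hWU : W ≤ U)
    (hU : IsAffineOpen U) (hW : IsAffineOpen W) (hU' : IsAffineOpen (g ⁻¹ᵁ U)) :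
    Subring.closure
      (Set.range (X'.presheaf.map (homOfLE (g.preimage_mono hWU)).op).hom ∪
        Set.range (g.app W).hom) = ⊤ := by
  haveI : IsAffine U.toScheme := hU
  haveI : IsAffine W.toScheme := hW
  haveI : IsAffine (g ⁻¹ᵁ U).toScheme := hU'
  have hpo := isPushout_appTop_of_isPullback (isPullback_morphismRestrict_homOfLE g hWU)
  have hsurj : Function.Surjective (g ⁻¹ᵁ W).topIso.hom.hom :=
    (ConcreteCategory.bijective_of_isIso (g ⁻¹ᵁ W).topIso.hom).surjective
  have h1 := (SepCrit.surjective_iff_closure_eq_top_of_isPushout hpo (g ⁻¹ᵁ W).topIso.hom).1 hsurj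
  rw [SepCrit.homOfLE_appTop_topIso, morphismRestrict_appTop_topIso] at h1
  have h5 : Set.range ((g ⁻¹ᵁ U).topIso.hom ≫
      X'.presheaf.map (homOfLE (g.preimage_mono hWU)).op).hom =
      Set.range (X'.presheaf.map (homOfLE (g.preimage_mono hWU)).op).hom := by
    rw [CommRingCat.hom_comp, RingHom.coe_comp, Set.range_comp,
      (ConcreteCategory.bijective_of_isIso (g ⁻¹ᵁ U).topIso.hom).surjective.range_eq,
      Set.image_univ]
  have h6 : Set.range (W.topIso.hom ≫ g.app W).hom = Set.range (g.app W).hom := by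
    rw [CommRingCat.hom_comp, RingHom.coe_comp, Set.range_comp,
      (ConcreteCategory.bijective_of_isIso W.topIso.hom).surjective.range_eq, Set.image_univ]
  rw [h5, h6] at h1
  exact h1

end Groth.Agent.Lib.Helper9.SepLim
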