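import Groth.Agent.Lib.Helper9.SepLim1
import Groth.Agent.Lib.Helper9.LimClosed3
set_option autoImplicit false
set_option linter.style.haveILetI false
set_option linter.unusedSectionVars false
universe u v
open CategoryTheory CategoryTheory.Limits AlgebraicGeometry TopologicalSpace

namespace Groth.Agent.Lib.Helper9.SepLim

open Groth.Agent.Lib.Helper9.LimClosed

variable {I : Type u} [SmallCategory I] [IsCofiltered I] (D : I ⥤ Scheme.{u})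
  (c : Cone D) (hc : IsLimit c) [∀ {i j : I} (f : i ⟶ j), IsAffineHom (D.map f)]
  (j₁ : I) (a b : (D.obj j₁).Opens)

omit [IsCofiltered I] [∀ {i j : I} (f : i ⟶ j), IsAffineHom (D.map f)] in
lemma π_le {k : I} (u : k ⟶ j₁) : c.π.app j₁ ⁻¹ᵁ a ⊓ c.π.app j₁ ⁻¹ᵁ b ≤
    c.π.app k ⁻¹ᵁ (D.map u ⁻¹ᵁ a ⊓ D.map u ⁻¹ᵁ b) := by
  rw [← c.w u]; exact le_rfl

omit [IsCofiltered I] [∀ {i j : I} (f : i ⟶ j), IsAffineHom (D.map f)] in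
lemma map_le {k k' : I} (u : k ⟶ j₁) (v : k' ⟶ k) (a : (D.obj j₁).Opens) :
    D.map (v ≫ u) ⁻¹ᵁ a ≤ D.map v ⁻¹ᵁ (D.map u ⁻¹ᵁ a) := by
  rw [D.map_comp]; exact le_rfl

/-- `y` (a section of the limit over `π⁻¹a ⊓ π⁻¹b`) comes from an element of the generated
subring at stage `k`. -/
def Wit (y : Γ(c.pt, c.π.app j₁ ⁻¹ᵁ a ⊓ c.π.app j₁ ⁻¹ᵁ b)) (k : I) (u : k ⟶ j₁) : Prop :=
  ∃ yk ∈ genSubring (D.obj k) (D.map u ⁻¹ᵁ a) (D.map u ⁻¹ᵁ b),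
    ((c.π.app k).appLE (D.map u ⁻¹ᵁ a ⊓ D.map u ⁻¹ᵁ b)
      (c.π.app j₁ ⁻¹ᵁ a ⊓ c.π.app j₁ ⁻¹ᵁ b) (π_le D c j₁ a b u)).hom yk = y

omit [IsCofiltered I] [∀ {i j : I} (f : i ⟶ j), IsAffineHom (D.map f)] in
lemma Wit.transport {y : Γ(c.pt, c.π.app j₁ ⁻¹ᵁ a ⊓ c.π.app j₁ ⁻¹ᵁ b)} {k : I} {u : k ⟶ j₁}
    (h : Wit D c j₁ a b y k u) {k' : I} (v : k' ⟶ k) : Wit D c j₁ a b y k' (v ≫ u) := by
  obtain ⟨yk, hyk, hy⟩ := h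
  refine ⟨((D.map v).appLE (D.map u ⁻¹ᵁ a ⊓ D.map u ⁻¹ᵁ b)
    (D.map (v ≫ u) ⁻¹ᵁ a ⊓ D.map (v ≫ u) ⁻¹ᵁ b)
    (inf_le_inf (map_le D j₁ u v a) (map_le D j₁ u v b))).hom yk,
    appLE_mem_genSubring (D.map v) (map_le D j₁ u v a) (map_le D j₁ u v b) yk hyk, ?_⟩
  rw [← hy, ← CommRingCat.comp_apply, Scheme.Hom.appLE_comp_appLE]
  rw [appLE_congr_hom (c.w v)]

omit [IsCofiltered I] [∀ {i j : I} (f : i ⟶ j), IsAffineHom (D.map f)] in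
lemma Wit.congr {y : Γ(c.pt, c.π.app j₁ ⁻¹ᵁ a ⊓ c.π.app j₁ ⁻¹ᵁ b)} {k : I} {u u' : k ⟶ j₁}
    (h : Wit D c j₁ a b y k u) (e : u = u') : Wit D c j₁ a b y k u' := e ▸ h


omit [∀ {i j : I} (f : i ⟶ j), IsAffineHom (D.map f)] in
/-- two witnesses can be brought to a common stage -/
lemma Wit.common {y z : Γ(c.pt, c.π.app j₁ ⁻¹ᵁ a ⊓ c.π.app j₁ ⁻¹ᵁ b)} {k k' : I} {u : k ⟶ j₁}
    {u' : k' ⟶ j₁} (h : Wit D c j₁ a b y k u) (h' : Wit D c j₁ a b z k' u') :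
    ∃ (l : I) (w : l ⟶ j₁), Wit D c j₁ a b y l w ∧ Wit D c j₁ a b z l w := by
  obtain ⟨l, v, v', hv⟩ := IsCofiltered.cospan u u'
  exact ⟨l, v ≫ u, h.transport D c j₁ a b v, (h'.transport D c j₁ a b v').congr D c j₁ a b hv.symm⟩

include hc in
/-- every element of the generated subring of the limit comes from the generated subring of a
finite stage. -/
lemma exists_wit (ha : IsAffineOpen a) (hb : IsAffineOpen b)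
    (y : Γ(c.pt, c.π.app j₁ ⁻¹ᵁ a ⊓ c.π.app j₁ ⁻¹ᵁ b))
    (hy : y ∈ genSubring c.pt (c.π.app j₁ ⁻¹ᵁ a) (c.π.app j₁ ⁻¹ᵁ b)) :
    ∃ (k : I) (u : k ⟶ j₁), Wit D c j₁ a b y k u := by
  unfold genSubring at hy
  induction hy using Subring.closure_induction with
  | mem y hy =>
    rcases hy with ⟨α, rfl⟩ | ⟨α, rfl⟩
    · obtain ⟨k, u, x, hx⟩ := exists_appLE_π_eq D c hc j₁ a ha α
      refine ⟨k, u, ((D.obj k).presheaf.map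
        (homOfLE (inf_le_left : D.map u ⁻¹ᵁ a ⊓ D.map u ⁻¹ᵁ b ≤ D.map u ⁻¹ᵁ a)).op).hom x,
        res_left_mem _ _ _, ?_⟩
      rw [← hx, ← CommRingCat.comp_apply, ← CommRingCat.comp_apply, Scheme.Hom.map_appLE]
      erw [Scheme.Hom.appLE_map]
    · obtain ⟨k, u, x, hx⟩ := exists_appLE_π_eq D c hc j₁ b hb α
      refine ⟨k, u, ((D.obj k).presheaf.map
        (homOfLE (inf_le_right : D.map u ⁻¹ᵁ a ⊓ D.map u ⁻¹ᵁ b ≤ D.map u ⁻¹ᵁ b)).op).hom x,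
        res_right_mem _ _ _, ?_⟩
      rw [← hx, ← CommRingCat.comp_apply, ← CommRingCat.comp_apply, Scheme.Hom.map_appLE]
      erw [Scheme.Hom.appLE_map]
  | zero => exact ⟨j₁, 𝟙 j₁, 0, zero_mem _, map_zero _⟩
  | one => exact ⟨j₁, 𝟙 j₁, 1, one_mem _, map_one _⟩
  | add y z _ _ hy hz =>
    obtain ⟨k, u, h⟩ := hy
    obtain ⟨k', u', h'⟩ := hz
    obtain ⟨l, w, ⟨yl, hyl, hy1⟩, ⟨zl, hzl, hz1⟩⟩ := h.common D c j₁ a b h'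
    exact ⟨l, w, yl + zl, add_mem hyl hzl, by rw [map_add, hy1, hz1]⟩
  | neg y _ hy =>
    obtain ⟨k, u, yk, hyk, hy1⟩ := hy
    exact ⟨k, u, -yk, neg_mem hyk, by rw [map_neg, hy1]⟩
  | mul y z _ _ hy hz =>
    obtain ⟨k, u, h⟩ := hy
    obtain ⟨k', u', h'⟩ := hz
    obtain ⟨l, w, ⟨yl, hyl, hy1⟩, ⟨zl, hzl, hz1⟩⟩ := h.common D c j₁ a b h'
    exact ⟨l, w, yl * zl, mul_mem hyl hzl, by rw [map_mul, hy1, hz1]⟩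


lemma presheaf_map_injective_of_eq {X : Scheme.{u}} {U V : X.Opens} (e : U = V) (h : U ≤ V) :
    Function.Injective (X.presheaf.map (homOfLE h).op).hom := by
  subst e
  intro x y hxy
  have : (homOfLE h) = 𝟙 U := rfl
  rw [this] at hxy
  simpa using hxy

omit [IsCofiltered I] [∀ {i j : I} (f : i ⟶ j), IsAffineHom (D.map f)] in
lemma pre_le {k : I} (u : k ⟶ j₁) :
    D.map u ⁻¹ᵁ a ⊓ D.map u ⁻¹ᵁ b ≤ D.map u ⁻¹ᵁ (a ⊓ b) := le_of_eq rfl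

include hc in
/-- each section over `a ⊓ b` at stage `j₁` lands in the generated subring at a later stage,
provided the generated subring of the limit is everything -/
lemma exists_app_mem_genSubring (ha : IsAffineOpen a) (hb : IsAffineOpen b)
    (hab : IsAffineOpen (a ⊓ b))
    (htop : genSubring c.pt (c.π.app j₁ ⁻¹ᵁ a) (c.π.app j₁ ⁻¹ᵁ b) = ⊤) (g : Γ(D.obj j₁, a ⊓ b)) :
    ∃ (k : I) (u : k ⟶ j₁), ((D.map u).appLE (a ⊓ b) (D.map u ⁻¹ᵁ a ⊓ D.map u ⁻¹ᵁ b)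
      (pre_le D j₁ a b u)).hom g ∈ genSubring (D.obj k) (D.map u ⁻¹ᵁ a) (D.map u ⁻¹ᵁ b) := by
  have hPc : c.π.app j₁ ⁻¹ᵁ a ⊓ c.π.app j₁ ⁻¹ᵁ b ≤ c.π.app j₁ ⁻¹ᵁ (a ⊓ b) := le_of_eq rfl
  let y : Γ(c.pt, c.π.app j₁ ⁻¹ᵁ a ⊓ c.π.app j₁ ⁻¹ᵁ b) :=
    ((c.π.app j₁).appLE (a ⊓ b) (c.π.app j₁ ⁻¹ᵁ a ⊓ c.π.app j₁ ⁻¹ᵁ b) hPc).hom g
  have hy' : y ∈ genSubring c.pt (c.π.app j₁ ⁻¹ᵁ a) (c.π.app j₁ ⁻¹ᵁ b) := by rw [htop]; trivial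
  obtain ⟨k, u, yk, hyk, hyk'⟩ := exists_wit D c hc j₁ a b ha hb y hy'
  have hUc : IsCompact ((D.map u ⁻¹ᵁ a ⊓ D.map u ⁻¹ᵁ b : (D.obj k).Opens) : Set (D.obj k)) :=
    (hab.preimage (D.map u)).isCompact
  have heq : c.π.app k ⁻¹ᵁ (D.map u ⁻¹ᵁ a ⊓ D.map u ⁻¹ᵁ b) =
      c.π.app j₁ ⁻¹ᵁ a ⊓ c.π.app j₁ ⁻¹ᵁ b := by
    rw [← c.w u]; rfl
  have M1 : (D.map u).appLE (a ⊓ b) (D.map u ⁻¹ᵁ a ⊓ D.map u ⁻¹ᵁ b) (pre_le D j₁ a b u) ≫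
      (c.π.app k).appLE (D.map u ⁻¹ᵁ a ⊓ D.map u ⁻¹ᵁ b)
        (c.π.app j₁ ⁻¹ᵁ a ⊓ c.π.app j₁ ⁻¹ᵁ b) (π_le D c j₁ a b u) =
      (c.π.app j₁).appLE (a ⊓ b) (c.π.app j₁ ⁻¹ᵁ a ⊓ c.π.app j₁ ⁻¹ᵁ b) hPc := by
    rw [Scheme.Hom.appLE_comp_appLE, appLE_congr_hom (c.w u)]
  have h1 : ((c.π.app k).appLE (D.map u ⁻¹ᵁ a ⊓ D.map u ⁻¹ᵁ b)
      (c.π.app j₁ ⁻¹ᵁ a ⊓ c.π.app j₁ ⁻¹ᵁ b) (π_le D c j₁ a b u)).hom
      (((D.map u).appLE (a ⊓ b) (D.map u ⁻¹ᵁ a ⊓ D.map u ⁻¹ᵁ b) (pre_le D j₁ a b u)).hom g) = y :=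
    congrArg (fun φ => φ.hom g) M1
  have h2 : ((c.π.app k).app (D.map u ⁻¹ᵁ a ⊓ D.map u ⁻¹ᵁ b)).hom yk =
      ((c.π.app k).app (D.map u ⁻¹ᵁ a ⊓ D.map u ⁻¹ᵁ b)).hom
        (((D.map u).appLE (a ⊓ b) (D.map u ⁻¹ᵁ a ⊓ D.map u ⁻¹ᵁ b) (pre_le D j₁ a b u)).hom g) := by
    apply presheaf_map_injective_of_eq heq.symm (π_le D c j₁ a b u)
    exact hyk'.trans h1.symm
  obtain ⟨k', w, hw⟩ := exists_app_map_eq_map_of_isLimit D c hc hUc yk _ h2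
  refine ⟨k', w ≫ u, ?_⟩
  have M2 : (D.map u).appLE (a ⊓ b) (D.map u ⁻¹ᵁ a ⊓ D.map u ⁻¹ᵁ b) (pre_le D j₁ a b u) ≫
      (D.map w).appLE (D.map u ⁻¹ᵁ a ⊓ D.map u ⁻¹ᵁ b)
        (D.map (w ≫ u) ⁻¹ᵁ a ⊓ D.map (w ≫ u) ⁻¹ᵁ b)
        (inf_le_inf (map_le D j₁ u w a) (map_le D j₁ u w b)) =
      (D.map (w ≫ u)).appLE (a ⊓ b) (D.map (w ≫ u) ⁻¹ᵁ a ⊓ D.map (w ≫ u) ⁻¹ᵁ b)
        (pre_le D j₁ a b (w ≫ u)) := by
    rw [Scheme.Hom.appLE_comp_appLE, ← appLE_congr_hom (D.map_comp w u)]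
  have h4 : ((D.map (w ≫ u)).appLE (a ⊓ b) (D.map (w ≫ u) ⁻¹ᵁ a ⊓ D.map (w ≫ u) ⁻¹ᵁ b)
        (pre_le D j₁ a b (w ≫ u))).hom g =
      ((D.map w).appLE (D.map u ⁻¹ᵁ a ⊓ D.map u ⁻¹ᵁ b)
        (D.map (w ≫ u) ⁻¹ᵁ a ⊓ D.map (w ≫ u) ⁻¹ᵁ b)
        (inf_le_inf (map_le D j₁ u w a) (map_le D j₁ u w b))).hom yk := by
    rw [← M2, CommRingCat.hom_comp, RingHom.comp_apply]
    have h5 : ∀ (x x' : Γ(D.obj k, D.map u ⁻¹ᵁ a ⊓ D.map u ⁻¹ᵁ b)),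
        ((D.map w).app (D.map u ⁻¹ᵁ a ⊓ D.map u ⁻¹ᵁ b)).hom x =
          ((D.map w).app (D.map u ⁻¹ᵁ a ⊓ D.map u ⁻¹ᵁ b)).hom x' →
        ((D.map w).appLE (D.map u ⁻¹ᵁ a ⊓ D.map u ⁻¹ᵁ b)
          (D.map (w ≫ u) ⁻¹ᵁ a ⊓ D.map (w ≫ u) ⁻¹ᵁ b)
          (inf_le_inf (map_le D j₁ u w a) (map_le D j₁ u w b))).hom x =
        ((D.map w).appLE (D.map u ⁻¹ᵁ a ⊓ D.map u ⁻¹ᵁ b)
          (D.map (w ≫ u) ⁻¹ᵁ a ⊓ D.map (w ≫ u) ⁻¹ᵁ b)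
          (inf_le_inf (map_le D j₁ u w a) (map_le D j₁ u w b))).hom x' := by
      intro x x' hxx'
      rw [Scheme.Hom.appLE, CommRingCat.hom_comp, RingHom.comp_apply, RingHom.comp_apply, hxx']
    exact (h5 _ _ hw).symm
  rw [h4]
  exact appLE_mem_genSubring (D.map w) (map_le D j₁ u w a) (map_le D j₁ u w b) yk hyk


omit [IsCofiltered I] [∀ {i j : I} (f : i ⟶ j), IsAffineHom (D.map f)] in
lemma map_le' {k k' : I} (u : k ⟶ j₁) (w : k' ⟶ k) (u' : k' ⟶ j₁) (e : w ≫ u = u')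
    (a : (D.obj j₁).Opens) : D.map u' ⁻¹ᵁ a ≤ D.map w ⁻¹ᵁ (D.map u ⁻¹ᵁ a) := by
  subst e; exact map_le D j₁ u w a

omit [IsCofiltered I] [∀ {i j : I} (f : i ⟶ j), IsAffineHom (D.map f)] in
lemma ρ_comp {k k' : I} (u : k ⟶ j₁) (w : k' ⟶ k) (u' : k' ⟶ j₁) (e : w ≫ u = u') :
    (D.map u).appLE (a ⊓ b) (D.map u ⁻¹ᵁ a ⊓ D.map u ⁻¹ᵁ b) (pre_le D j₁ a b u) ≫
      (D.map w).appLE (D.map u ⁻¹ᵁ a ⊓ D.map u ⁻¹ᵁ b) (D.map u' ⁻¹ᵁ a ⊓ D.map u' ⁻¹ᵁ b)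
        (inf_le_inf (map_le' D j₁ u w u' e a) (map_le' D j₁ u w u' e b)) =
      (D.map u').appLE (a ⊓ b) (D.map u' ⁻¹ᵁ a ⊓ D.map u' ⁻¹ᵁ b) (pre_le D j₁ a b u') := by
  subst e
  rw [Scheme.Hom.appLE_comp_appLE, ← appLE_congr_hom (D.map_comp w u)]

lemma finiteType_res {X : Scheme.{u}} {U W : X.Opens} (hU : IsAffineOpen U) (hW : IsAffineOpen W)
    (hWU : W ≤ U) : (X.presheaf.map (homOfLE hWU).op).hom.FiniteType := by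
  have hft := HasRingHomProperty.appLE (P := @LocallyOfFiniteType) (𝟙 X) inferInstance
    ⟨U, hU⟩ ⟨W, hW⟩ hWU
  have h1 : (𝟙 X : X ⟶ X).appLE U W hWU = X.presheaf.map (homOfLE hWU).op := by
    rw [Scheme.Hom.appLE, Scheme.Hom.id_app]
    exact Category.id_comp _
  rw [← h1]
  exact hft

include hc in
/-- The key per-pair statement: if the sections of the limit over `π⁻¹a ⊓ π⁻¹b` are generated by
those over `π⁻¹a` and `π⁻¹b`, then the same holds at all late enough stages. -/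
theorem exists_genSubring_eq_top (ha : IsAffineOpen a) (hb : IsAffineOpen b)
    (hab : IsAffineOpen (a ⊓ b))
    (htop : genSubring c.pt (c.π.app j₁ ⁻¹ᵁ a) (c.π.app j₁ ⁻¹ᵁ b) = ⊤) :
    ∃ (k : I) (u : k ⟶ j₁), ∀ (k' : I) (v : k' ⟶ k),
      genSubring (D.obj k') (D.map (v ≫ u) ⁻¹ᵁ a) (D.map (v ≫ u) ⁻¹ᵁ b) = ⊤ := by
  classical
  set α := (D.obj j₁).presheaf.map (homOfLE (inf_le_left : a ⊓ b ≤ a)).op with hα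
  have hft : α.hom.FiniteType := finiteType_res ha hab inf_le_left
  letI : Algebra Γ(D.obj j₁, a) Γ(D.obj j₁, a ⊓ b) := α.hom.toAlgebra
  have hft' : Algebra.FiniteType Γ(D.obj j₁, a) Γ(D.obj j₁, a ⊓ b) := hft
  obtain ⟨G, hG⟩ := (Algebra.FiniteType.out : (⊤ : Subalgebra Γ(D.obj j₁, a) Γ(D.obj j₁, a ⊓ b)).FG)
  choose kg ug hg using fun g : Γ(D.obj j₁, a ⊓ b) =>
    exists_app_mem_genSubring D c hc j₁ a b ha hb hab htop g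
  obtain ⟨k, u, w, hw⟩ := IsCofiltered.wideCospan (I := ↥G) (fun g => ug g.1)
  refine ⟨k, u, fun k' v => ?_⟩
  set ρ := (D.map (v ≫ u)).appLE (a ⊓ b) (D.map (v ≫ u) ⁻¹ᵁ a ⊓ D.map (v ≫ u) ⁻¹ᵁ b)
    (pre_le D j₁ a b (v ≫ u)) with hρ
  -- claim 1
  have claim1 : ∀ g ∈ G, ρ.hom g ∈
      genSubring (D.obj k') (D.map (v ≫ u) ⁻¹ᵁ a) (D.map (v ≫ u) ⁻¹ᵁ b) := by
    intro g hgG
    have e : (v ≫ w ⟨g, hgG⟩) ≫ ug g = v ≫ u := by rw [Category.assoc, hw ⟨g, hgG⟩]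
    rw [hρ, ← ρ_comp D j₁ a b (ug g) (v ≫ w ⟨g, hgG⟩) (v ≫ u) e, CommRingCat.hom_comp,
      RingHom.comp_apply]
    exact appLE_mem_genSubring (D.map (v ≫ w ⟨g, hgG⟩)) (map_le' D j₁ _ _ _ e a)
      (map_le' D j₁ _ _ _ e b) _ (hg g)
  -- claim 2
  let T : Subalgebra Γ(D.obj j₁, a) Γ(D.obj j₁, a ⊓ b) :=
    { toSubsemiring := ((genSubring (D.obj k') (D.map (v ≫ u) ⁻¹ᵁ a)
        (D.map (v ≫ u) ⁻¹ᵁ b)).comap ρ.hom).toSubsemiring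
      algebraMap_mem' := fun x => by
        change ρ.hom (α.hom x) ∈ genSubring _ _ _
        have h1 : α ≫ ρ = (D.map (v ≫ u)).app a ≫ (D.obj k').presheaf.map
            (homOfLE (inf_le_left :
              D.map (v ≫ u) ⁻¹ᵁ a ⊓ D.map (v ≫ u) ⁻¹ᵁ b ≤ D.map (v ≫ u) ⁻¹ᵁ a)).op := by
          rw [hα, hρ, Scheme.Hom.map_appLE, Scheme.Hom.app_eq_appLE, Scheme.Hom.appLE_map]
        have h2 : ρ.hom (α.hom x) = ((D.obj k').presheaf.map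
            (homOfLE (inf_le_left :
              D.map (v ≫ u) ⁻¹ᵁ a ⊓ D.map (v ≫ u) ⁻¹ᵁ b ≤ D.map (v ≫ u) ⁻¹ᵁ a)).op).hom
            (((D.map (v ≫ u)).app a).hom x) := congrArg (fun φ => φ.hom x) h1
        rw [h2]
        exact res_left_mem _ _ _ }
  have hGT : (G : Set Γ(D.obj j₁, a ⊓ b)) ⊆ T := fun g hgG => claim1 g hgG
  have hT : T = ⊤ := by
    apply top_le_iff.1
    rw [← hG]
    exact Algebra.adjoin_le hGT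
  have claim2 : ∀ x : Γ(D.obj j₁, a ⊓ b), ρ.hom x ∈
      genSubring (D.obj k') (D.map (v ≫ u) ⁻¹ᵁ a) (D.map (v ≫ u) ⁻¹ᵁ b) := by
    intro x
    have hx : x ∈ T := by rw [hT]; trivial
    exact hx
  -- claim 3
  have h3 : (Subring.closure
      (Set.range ((D.obj k').presheaf.map (homOfLE ((D.map (v ≫ u)).preimage_mono
        (inf_le_left : a ⊓ b ≤ a))).op).hom ∪ Set.range ((D.map (v ≫ u)).app (a ⊓ b)).hom) :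
      Subring Γ(D.obj k', D.map (v ≫ u) ⁻¹ᵁ a ⊓ D.map (v ≫ u) ⁻¹ᵁ b)) = ⊤ :=
    closure_preimage_eq_top (D.map (v ≫ u)) (inf_le_left : a ⊓ b ≤ a) ha hab (ha.preimage _)
  apply top_le_iff.1
  rw [← h3]
  apply Subring.closure_le.2
  rintro _ (⟨x, rfl⟩ | ⟨x, rfl⟩)
  · exact res_left_mem _ _ x
  · have h4 : ρ = (D.map (v ≫ u)).app (a ⊓ b) := Scheme.Hom.appLE_eq_app _
    have := claim2 x
    rw [h4] at this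
    exact this

end Groth.Agent.Lib.Helper9.SepLim
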