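import Groth.Agent.Lib.Helper9.SepLim2
set_option autoImplicit false
set_option linter.style.haveILetI false
set_option linter.unusedSectionVars false
universe u v
open CategoryTheory CategoryTheory.Limits AlgebraicGeometry TopologicalSpace

namespace Groth.Agent.Lib.Helper9.SepLim

open Groth.Agent.Lib.Helper9.LimClosed

variable {I : Type u} [SmallCategory I] [IsCofiltered I] (D : I ⥤ Scheme.{u})
  (c : Cone D) (hc : IsLimit c) [∀ {i j : I} (f : i ⟶ j), IsAffineHom (D.map f)]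
  [∀ i, CompactSpace (D.obj i)] [∀ i, QuasiSeparatedSpace (D.obj i)]
  {S : Scheme.{u}} (t : D ⟶ (Functor.const I).obj S)

include hc in
/-- one pair of affine opens of a stage -/
lemma exists_stage_pair (i₀ : I) (a b : (D.obj i₀).Opens) (ha : IsAffineOpen a)
    (hb : IsAffineOpen b) (hab : IsAffineOpen (c.π.app i₀ ⁻¹ᵁ a ⊓ c.π.app i₀ ⁻¹ᵁ b))
    (htop : genSubring c.pt (c.π.app i₀ ⁻¹ᵁ a) (c.π.app i₀ ⁻¹ᵁ b) = ⊤) :
    ∃ (k : I) (u : k ⟶ i₀), ∀ (k' : I) (v : k' ⟶ k),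
      IsAffineOpen (D.map (v ≫ u) ⁻¹ᵁ a ⊓ D.map (v ≫ u) ⁻¹ᵁ b) ∧
      genSubring (D.obj k') (D.map (v ≫ u) ⁻¹ᵁ a) (D.map (v ≫ u) ⁻¹ᵁ b) = ⊤ := by
  have hWc : IsCompact ((a ⊓ b : (D.obj i₀).Opens) : Set (D.obj i₀)) :=
    QuasiSeparatedSpace.inter_isCompact _ _ a.isOpen ha.isCompact b.isOpen hb.isCompact
  obtain ⟨j₁, u₁, haff⟩ := exists_isAffineOpen_preimage D c hc i₀ (a ⊓ b) hWc hab
  have e1 : ∀ x : (D.obj i₀).Opens, c.π.app i₀ ⁻¹ᵁ x = c.π.app j₁ ⁻¹ᵁ (D.map u₁ ⁻¹ᵁ x) := by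
    intro x
    rw [← Scheme.Hom.comp_preimage, c.w]
  obtain ⟨k, u, hk⟩ := exists_genSubring_eq_top D c hc j₁ (D.map u₁ ⁻¹ᵁ a) (D.map u₁ ⁻¹ᵁ b)
    (ha.preimage _) (hb.preimage _) haff (genSubring_congr (e1 a) (e1 b) htop)
  refine ⟨k, u ≫ u₁, fun k' v => ?_⟩
  have e2 : ∀ x : (D.obj i₀).Opens,
      D.map (v ≫ u) ⁻¹ᵁ (D.map u₁ ⁻¹ᵁ x) = D.map (v ≫ u ≫ u₁) ⁻¹ᵁ x := by
    intro x
    rw [← Scheme.Hom.comp_preimage, ← D.map_comp, Category.assoc]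
  refine ⟨?_, genSubring_congr (e2 a) (e2 b) (hk k' v)⟩
  rw [← e2 a, ← e2 b]
  exact haff.preimage (D.map (v ≫ u))

include hc in
/-- Separatedness over an affine base descends to a finite stage. -/
theorem exists_isSeparated_of_isAffine [IsAffine S] (i₀ : I)
    [IsSeparated (c.π.app i₀ ≫ t.app i₀)] :
    ∃ (i₁ : I) (_ : i₁ ⟶ i₀), ∀ (i : I) (_ : i ⟶ i₁), IsSeparated (t.app i) := by
  classical
  obtain ⟨F, hF⟩ := isCompact_univ.elim_finite_subcover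
    (fun V : (D.obj i₀).affineOpens => (V.1 : Set (D.obj i₀)))
    (fun V => V.1.isOpen) (fun x _ => by
      obtain ⟨_, ⟨V, hV, rfl⟩, hxV, -⟩ :=
        (D.obj i₀).isBasis_affineOpens.exists_subset_of_mem_open (Set.mem_univ x) isOpen_univ
      exact Set.mem_iUnion.2 ⟨⟨V, hV⟩, hxV⟩)
  have hπ : IsAffineHom (c.π.app i₀) := isAffineHom_π_app D c hc i₀
  have hcovF : ∀ {X' : Scheme.{u}} (g : X' ⟶ D.obj i₀), ⨆ a : ↥F, g ⁻¹ᵁ a.1.1 = ⊤ := by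
    intro X' g
    apply top_le_iff.1
    intro x _
    have hx := hF (Set.mem_univ (g x))
    simp only [Set.mem_iUnion] at hx
    obtain ⟨V, hVF, hxV⟩ := hx
    exact Opens.mem_iSup.2 ⟨⟨V, hVF⟩, hxV⟩
  have hlim := (SepCrit.isSeparated_iff_forall_inter_affine_and_generated (Y := S)
    (c.π.app i₀ ≫ t.app i₀) (fun a : ↥F => c.π.app i₀ ⁻¹ᵁ a.1.1)
    (fun a => a.1.2.preimage _) (hcovF _)).1 inferInstance
  choose k u hk using fun p : ↥F × ↥F =>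
    exists_stage_pair D c hc i₀ p.1.1.1 p.2.1.1 p.1.1.2 p.2.1.2 (hlim p.1 p.2).1 (hlim p.1 p.2).2
  obtain ⟨i₁, u₁, w, hw⟩ := IsCofiltered.wideCospan (I := ↥F × ↥F) u
  refine ⟨i₁, u₁, fun i r => ?_⟩
  rw [SepCrit.isSeparated_iff_forall_inter_affine_and_generated (Y := S) (t.app i)
    (fun a : ↥F => D.map (r ≫ u₁) ⁻¹ᵁ a.1.1) (fun a => a.1.2.preimage _) (hcovF _)]
  intro a b
  have h1 := hk (a, b) i (r ≫ w (a, b))
  rw [Category.assoc, hw (a, b)] at h1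
  exact h1

end Groth.Agent.Lib.Helper9.SepLim
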