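import Groth.Prelude.Def_W4stktopologysheavesBas
import Mathlib.Topology.Sets.Opens

namespace Groth.Agent.Lib.Helper9.ShB1

open TopologicalSpace Opposite CategoryTheory

universe u

variable {X : Type u} [TopologicalSpace X] {B : Set (Opens X)}

theorem stalkRel_equivalence (hB : Opens.IsBasis B) (F : ShB.Pre B) (x : X) :
    Equivalence (ShB.StalkRel F x) := by
  refine ⟨fun a => ⟨a.1.1, a.1.2, le_rfl, le_rfl, rfl⟩, ?_, ?_⟩
  · rintro a b ⟨W, hx, ha, hb, h⟩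
    exact ⟨W, hx, hb, ha, h.symm⟩
  · rintro a b c ⟨W₁, hx₁, ha, hb, h₁⟩ ⟨W₂, hx₂, hb', hc, h₂⟩
    obtain ⟨W, hWB, hxW, hW⟩ := (Opens.isBasis_iff_nbhd.mp hB)
      (show x ∈ (W₁ : Opens X) ⊓ (W₂ : Opens X) from ⟨hx₁, hx₂⟩)
    have hW₁ : (W : Opens X) ≤ (W₁ : Opens X) := hW.trans inf_le_left
    have hW₂ : (W : Opens X) ≤ (W₂ : Opens X) := hW.trans inf_le_right
    refine ⟨⟨W, hWB⟩, hxW, hW₁.trans ha, hW₂.trans hc, ?_⟩
    have e1 := congrArg (F.res (U := W₁) (V := ⟨W, hWB⟩) hW₁) h₁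
    have e2 := congrArg (F.res (U := W₂) (V := ⟨W, hWB⟩) hW₂) h₂
    rw [F.res_comp, F.res_comp] at e1 e2
    exact e1.trans e2

theorem germ_eq_iff (hB : Opens.IsBasis B) (F : ShB.Pre B) (x : X) {U V : B}
    (hx : x ∈ (U : Opens X)) (hy : x ∈ (V : Opens X)) (s : F.obj U) (t : F.obj V) :
    ShB.germ F x hx s = ShB.germ F x hy t ↔
      ∃ (W : B) (_ : x ∈ (W : Opens X)) (hU : (W : Opens X) ≤ (U : Opens X))
        (hV : (W : Opens X) ≤ (V : Opens X)), F.res hU s = F.res hV t := by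
  constructor
  · intro h
    have := (stalkRel_equivalence hB F x).eqvGen_iff.mp (Quot.eqvGen_exact h)
    exact this
  · rintro ⟨W, hxW, hU, hV, h⟩
    exact Quot.sound ⟨W, hxW, hU, hV, h⟩

theorem germ_res (F : ShB.Pre B) (x : X) {U V : B} (h : (V : Opens X) ≤ (U : Opens X))
    (hx : x ∈ (V : Opens X)) (s : F.obj U) :
    ShB.germ F x hx (F.res h s) = ShB.germ F x (h hx) s :=
  Quot.sound ⟨V, hx, le_rfl, h, by rw [F.res_id]⟩

theorem stalk_exists_rep (F : ShB.Pre B) (x : X) (a : ShB.Stalk F x) :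
    ∃ (U : B) (hx : x ∈ (U : Opens X)) (s : F.obj U), ShB.germ F x hx s = a := by
  induction a using Quot.ind with
  | _ a => exact ⟨a.1.1, a.1.2, a.2, rfl⟩

end Groth.Agent.Lib.Helper9.ShB1
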