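import Groth.Prelude.Def_W4stktopologysheavesBas
import Groth.Agent.Lib.Helper9.ShB1

namespace Groth.Agent.Lib.Helper9.ShB1

open TopologicalSpace Opposite CategoryTheory

universe u

variable {X : Type u} [TopologicalSpace X] {B : Set (Opens X)}

/-- canonical covering datum from a covering of `U` by members -/
def coverOf (hB : Opens.IsBasis B) (U : B) {ι : Type u} (V : ι → B)
    (hV : ∀ i, (V i : Opens X) ≤ (U : Opens X)) (hcov : (U : Opens X) ≤ ⨆ i, (V i : Opens X)) :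
    ShB.Cover B where
  U := U
  ι := ι
  V := V
  V_le := hV
  V_cover := hcov
  κ i j := {W : B // (W : Opens X) ≤ (V i : Opens X) ∧ (W : Opens X) ≤ (V j : Opens X)}
  W i j k := k.1
  W_le_left i j k := k.2.1
  W_le_right i j k := k.2.2
  W_cover i j := by
    intro x hx
    obtain ⟨W, hWB, hxW, hW⟩ := (Opens.isBasis_iff_nbhd.mp hB) hx
    exact Opens.mem_iSup.mpr ⟨⟨⟨W, hWB⟩, hW.trans inf_le_left, hW.trans inf_le_right⟩, hxW⟩

theorem glue (hB : Opens.IsBasis B) {F : ShB.Pre B} (hF : ShB.IsSheaf F) (U : B) {ι : Type u}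
    (V : ι → B) (hV : ∀ i, (V i : Opens X) ≤ (U : Opens X))
    (hcov : (U : Opens X) ≤ ⨆ i, (V i : Opens X)) (s : ∀ i, F.obj (V i))
    (compat : ∀ (i j : ι) (W : B) (h1 : (W : Opens X) ≤ (V i : Opens X))
      (h2 : (W : Opens X) ≤ (V j : Opens X)), F.res h1 (s i) = F.res h2 (s j)) :
    ∃! t : F.obj U, ∀ i, F.res (hV i) t = s i :=
  hF (coverOf hB U V hV hcov) s (fun i j k => compat i j k.1 k.2.1 k.2.2)

theorem ext_of_cover (hB : Opens.IsBasis B) {F : ShB.Pre B} (hF : ShB.IsSheaf F) (U : B)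
    {ι : Type u} (V : ι → B) (hV : ∀ i, (V i : Opens X) ≤ (U : Opens X))
    (hcov : (U : Opens X) ≤ ⨆ i, (V i : Opens X)) (s t : F.obj U)
    (h : ∀ i, F.res (hV i) s = F.res (hV i) t) : s = t := by
  obtain ⟨t₀, -, huniq⟩ := glue hB hF U V hV hcov (fun i => F.res (hV i) t) (by
    intro i j W h1 h2
    rw [F.res_comp, F.res_comp])
  exact (huniq s h).trans (huniq t fun _ => rfl).symm

theorem eq_of_germ_eq (hB : Opens.IsBasis B) {F : ShB.Pre B} (hF : ShB.IsSheaf F) (U : B)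
    (s t : F.obj U)
    (h : ∀ (x : X) (hx : x ∈ (U : Opens X)), ShB.germ F x hx s = ShB.germ F x hx t) : s = t := by
  have key : ∀ x : (U : Opens X), ∃ (W : B) (_ : x.1 ∈ (W : Opens X))
      (hU : (W : Opens X) ≤ (U : Opens X)), F.res hU s = F.res hU t := by
    intro x
    obtain ⟨W, hxW, hU, hV, hW⟩ := (germ_eq_iff hB F x.1 x.2 x.2 s t).mp (h x.1 x.2)
    exact ⟨W, hxW, hU, hW⟩
  choose W hxW hWU hW using key
  refine ext_of_cover hB hF U W hWU ?_ s t hW
  intro x hx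
  exact Opens.mem_iSup.mpr ⟨⟨x, hx⟩, hxW ⟨x, hx⟩⟩

theorem sections_eq_compatible_germs (hB : Opens.IsBasis B) (F : ShB.Pre B)
    (hF : ShB.IsSheaf F) (U : B) :
    Function.Injective (fun (s : F.obj U) (x : (U : Opens X)) => ShB.germ F x.1 x.2 s) ∧
    ∀ f : ∀ x : (U : Opens X), ShB.Stalk F x.1,
      (∃ s : F.obj U, ∀ x, ShB.germ F x.1 x.2 s = f x) ↔
      ∀ x : (U : Opens X), ∃ (V : B) (hxV : x.1 ∈ (V : Opens X))
        (hVU : (V : Opens X) ≤ (U : Opens X)) (σ : F.obj V),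
        ∀ (y : X) (hy : y ∈ (V : Opens X)), ShB.germ F y hy σ = f ⟨y, hVU hy⟩ := by
  refine ⟨?_, ?_⟩
  · intro s t hst
    refine eq_of_germ_eq hB hF U s t fun x hx => ?_
    exact congrFun hst ⟨x, hx⟩
  · intro f
    constructor
    · rintro ⟨s, hs⟩ x
      exact ⟨U, x.2, le_rfl, s, fun y hy => hs ⟨y, hy⟩⟩
    · intro h
      choose V hxV hVU σ hσ using h
      have compat : ∀ (i j : (U : Opens X)) (W : B) (h1 : (W : Opens X) ≤ (V i : Opens X))
          (h2 : (W : Opens X) ≤ (V j : Opens X)), F.res h1 (σ i) = F.res h2 (σ j) := by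
        intro i j W h1 h2
        refine eq_of_germ_eq hB hF W _ _ fun z hz => ?_
        rw [germ_res, germ_res, hσ i z (h1 hz), hσ j z (h2 hz)]
      obtain ⟨t, ht, -⟩ := glue hB hF U V hVU (by
        intro x hx
        exact Opens.mem_iSup.mpr ⟨⟨x, hx⟩, hxV ⟨x, hx⟩⟩) σ compat
      refine ⟨t, fun x => ?_⟩
      have := hσ x x.1 (hxV x)
      rw [← ht x, germ_res] at this
      exact this

end Groth.Agent.Lib.Helper9.ShB1
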