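import Groth.Prelude.Def_W4stktopologysheavesBas
import Groth.Agent.Lib.Helper9.ShB2
import Mathlib.Topology.Sheaves.LocalPredicate

namespace Groth.Agent.Lib.Helper9.ShB1

open TopologicalSpace Opposite CategoryTheory

universe u

variable {X : Type u} [TopologicalSpace X] {B : Set (Opens X)}

/-- an isomorphism of presheaves on `B` from a sectionwise bijective morphism -/
noncomputable def isoOfBijective {F G : ShB.Pre B} (φ : ShB.Hom F G)
    (h : ∀ U, Function.Bijective (φ.app U)) : ShB.Iso F G where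
  hom := φ
  inv :=
    { app := fun U => (Equiv.ofBijective _ (h U)).symm
      natural := by
        intro U V hVU t
        apply (h V).1
        rw [← φ.natural]
        have e1 : φ.app U ((Equiv.ofBijective _ (h U)).symm t) = t :=
          (Equiv.ofBijective _ (h U)).apply_symm_apply t
        have e2 : φ.app V ((Equiv.ofBijective _ (h V)).symm (G.res hVU t)) = G.res hVU t :=
          (Equiv.ofBijective _ (h V)).apply_symm_apply _
        rw [e1, e2] }
  hom_inv U s := (Equiv.ofBijective _ (h U)).symm_apply_apply s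
  inv_hom U t := (Equiv.ofBijective _ (h U)).apply_symm_apply t

def isoSymm {F G : ShB.Pre B} (e : ShB.Iso F G) : ShB.Iso G F where
  hom := e.inv
  inv := e.hom
  hom_inv := e.inv_hom
  inv_hom := e.hom_inv

/-- the local predicate of compatible germ families -/
def germPred (hB : Opens.IsBasis B) (F : ShB.Pre B) :
    TopCat.LocalPredicate (X := TopCat.of X) (fun x : X => ShB.Stalk F x) where
  pred {U} f := ∀ x : U, ∃ (V : B) (_ : x.1 ∈ (V : Opens X))
    (hVU : (V : Opens X) ≤ U) (σ : F.obj V),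
    ∀ (y : X) (hy : y ∈ (V : Opens X)), ShB.germ F y hy σ = f ⟨y, hVU hy⟩
  res {U U'} i f h x := by
    obtain ⟨V, hxV, hVU, σ, hσ⟩ := h ⟨x.1, i.le x.2⟩
    obtain ⟨W, hWB, hxW, hW⟩ := (Opens.isBasis_iff_nbhd.mp hB)
      (show x.1 ∈ (V : Opens X) ⊓ U from ⟨hxV, x.2⟩)
    have hWV : (⟨W, hWB⟩ : B).1 ≤ (V : Opens X) := hW.trans inf_le_left
    refine ⟨⟨W, hWB⟩, hxW, hW.trans inf_le_right, F.res hWV σ, fun y hy => ?_⟩
    rw [germ_res]
    exact hσ y (hWV hy)
  locality {U} f w x := by
    obtain ⟨V, m, i, hV⟩ := w x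
    obtain ⟨V', hxV', hV'V, σ, hσ⟩ := hV ⟨x.1, m⟩
    exact ⟨V', hxV', hV'V.trans i.le, σ, fun y hy => hσ y hy⟩

/-- the extension of a sheaf on a basis to a sheaf on the whole space -/
noncomputable def ext (hB : Opens.IsBasis B) (F : ShB.Pre B) :
    TopCat.Sheaf (Type u) (TopCat.of X) :=
  TopCat.subsheafToTypes (germPred hB F)

/-- the comparison morphism from `F` to the restriction of its extension -/
noncomputable def toExt (hB : Opens.IsBasis B) (F : ShB.Pre B) :
    ShB.Hom F (ShB.restrict B (ext hB F).presheaf) where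
  app U s := ⟨fun x => ShB.germ F x.1 x.2 s, fun x => ⟨U, x.2, le_rfl, s, fun _ _ => rfl⟩⟩
  natural := by
    intro U V h s
    apply Subtype.ext
    funext x
    exact (germ_res F x.1 h x.2 s).symm

theorem toExt_bijective (hB : Opens.IsBasis B) (F : ShB.Pre B) (hF : ShB.IsSheaf F) (U : B) :
    Function.Bijective ((toExt hB F).app U) := by
  obtain ⟨hinj, hsurj⟩ := sections_eq_compatible_germs hB F hF U
  constructor
  · intro s t hst
    apply hinj
    exact congrArg Subtype.val hst
  · rintro ⟨f, hf⟩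
    obtain ⟨s, hs⟩ := (hsurj f).mpr hf
    exact ⟨s, Subtype.ext (funext hs)⟩

theorem exists_ext (hB : Opens.IsBasis B) (F : ShB.Pre B) (hF : ShB.IsSheaf F) :
    ∃ G : TopCat.Sheaf (Type u) (TopCat.of X),
      Nonempty (ShB.Iso (ShB.restrict B G.presheaf) F) :=
  ⟨ext hB F, ⟨isoSymm (isoOfBijective (toExt hB F) (toExt_bijective hB F hF))⟩⟩

end Groth.Agent.Lib.Helper9.ShB1
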