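import Groth.Prelude.Def_W4stktopologysheavesBas
import Groth.Agent.Lib.Helper9.ShB3
import Mathlib.Topology.Sheaves.SheafCondition.Sites

namespace Groth.Agent.Lib.Helper9.ShB1

open TopologicalSpace Opposite CategoryTheory

universe u

variable {X : Type u} [TopologicalSpace X] {B : Set (Opens X)}

/-- the natural transformation on the induced category attached to a morphism on `B` -/
def natOfHom (P Q : TopCat.Presheaf (Type u) (TopCat.of X))
    (h : ShB.Hom (ShB.restrict B P) (ShB.restrict B Q)) :
    (inducedFunctor (fun U : B => (U : Opens (TopCat.of X)))).op ⋙ P ⟶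
      (inducedFunctor (fun U : B => (U : Opens (TopCat.of X)))).op ⋙ Q where
  app i := TypeCat.ofHom (h.app i.unop)
  naturality i j f := by
    ext x
    exact (h.natural (leOfHom f.unop.hom) x).symm

theorem range_coe_eq (B : Set (Opens X)) :
    Set.range (fun U : B => (U : Opens (TopCat.of X))) = B := Subtype.range_coe

theorem existsUnique_extend (hB : Opens.IsBasis B)
    (P : TopCat.Presheaf (Type u) (TopCat.of X)) (Q : TopCat.Sheaf (Type u) (TopCat.of X))
    (h : ShB.Hom (ShB.restrict B P) (ShB.restrict B Q.presheaf)) :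
    ∃! φ : P ⟶ Q.presheaf, ∀ (U : B) (s : P.obj (op (U : Opens X))),
      φ.app (op (U : Opens X)) s = h.app U s := by
  have hB' : Opens.IsBasis (Set.range (fun U : B => (U : Opens (TopCat.of X)))) := by
    rw [range_coe_eq]; exact hB
  have key : ∀ (U : B) (s : P.obj (op (U : Opens X))),
      (TopCat.Sheaf.restrictHomEquivHom P Q hB' (natOfHom P Q.presheaf h)).app
        (op (U : Opens X)) s = h.app U s := by
    intro U s
    have := TopCat.Sheaf.extend_hom_app P Q hB' (natOfHom P Q.presheaf h) U
    rw [this]
    rfl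
  refine ⟨TopCat.Sheaf.restrictHomEquivHom P Q hB' (natOfHom P Q.presheaf h), key, ?_⟩
  intro ψ hψ
  apply TopCat.Sheaf.hom_ext P Q hB'
  intro U
  ext s
  exact (hψ U s).trans (key U s).symm

end Groth.Agent.Lib.Helper9.ShB1
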