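import Groth.Prelude.Def_W4stktopologysheavesBas
import Groth.Agent.Lib.Helper9.ShB4

namespace Groth.Agent.Lib.Helper9.ShB1

open TopologicalSpace Opposite CategoryTheory

universe u

variable {X : Type u} [TopologicalSpace X] {B : Set (Opens X)}

def homComp {F G H : ShB.Pre B} (f : ShB.Hom F G) (g : ShB.Hom G H) : ShB.Hom F H where
  app U s := g.app U (f.app U s)
  natural h s := by rw [g.natural, f.natural]

theorem existsUnique_iso (hB : Opens.IsBasis B) (F : ShB.Pre B)
    (G G' : TopCat.Sheaf (Type u) (TopCat.of X))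
    (e : ShB.Iso (ShB.restrict B G.presheaf) F) (e' : ShB.Iso (ShB.restrict B G'.presheaf) F) :
    ∃! φ : G ⟶ G', IsIso φ ∧ ∀ (U : B) (s : G.presheaf.obj (op (U : Opens X))),
      e'.hom.app U (φ.1.app (op (U : Opens X)) s) = e.hom.app U s := by
  obtain ⟨φ₀, hφ₀, huniq⟩ := existsUnique_extend hB G.presheaf G' (homComp e.hom e'.inv)
  have hB' : Opens.IsBasis (Set.range (fun U : B => (U : Opens (TopCat.of X)))) := by
    rw [range_coe_eq]; exact hB
  refine ⟨⟨φ₀⟩, ⟨?_, ?_⟩, ?_⟩
  · apply TopCat.Sheaf.isIso_iff_isIso_basis hB'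
    intro U
    rw [isIso_iff_bijective]
    have : ((φ₀.app (op (U : Opens X)) : _ → _)) = fun s => e'.inv.app U (e.hom.app U s) := by
      funext s
      exact hφ₀ U s
    show Function.Bijective (φ₀.app (op (U : Opens X)) : _ → _)
    rw [this]
    constructor
    · intro s t hst
      have h1 : e.hom.app U s = e.hom.app U t :=
        (e'.inv_hom U _).symm.trans ((congrArg (e'.hom.app U) hst).trans (e'.inv_hom U _))
      exact (e.hom_inv U s).symm.trans ((congrArg (e.inv.app U) h1).trans (e.hom_inv U t))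
    · intro t
      refine ⟨e.inv.app U (e'.hom.app U t), ?_⟩
      exact (congrArg (e'.inv.app U) (e.inv_hom U _)).trans (e'.hom_inv U t)
  · intro U s
    have := hφ₀ U s
    show e'.hom.app U (φ₀.app (op (U : Opens X)) s) = _
    rw [this]
    exact e'.inv_hom U _
  · rintro φ' ⟨-, hφ'⟩
    have : φ'.1 = φ₀ := by
      apply huniq
      intro U s
      exact (e'.hom_inv U _).symm.trans (congrArg (e'.inv.app U) (hφ' U s))
    cases φ'
    cases this
    rfl

end Groth.Agent.Lib.Helper9.ShB1
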