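import Mathlib.Topology.Sheaves.SheafCondition.UniqueGluing
import Mathlib.Topology.Sheaves.SheafCondition.Sites

namespace Groth.Agent.Lib.Helper9.ShB6

open TopologicalSpace Opposite CategoryTheory TopCat

universe u

theorem map_map {X : TopCat.{u}} (F : TopCat.Presheaf (Type u) X) {U V W : Opens X}
    (h₁ : V ≤ U) (h₂ : W ≤ V) (s : F.obj (op U)) :
    F.map (homOfLE h₂).op (F.map (homOfLE h₁).op s) = F.map (homOfLE (h₂.trans h₁)).op s := by
  rw [← ConcreteCategory.comp_apply, ← F.map_comp]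
  rfl

theorem map_map' {X : TopCat.{u}} (F : TopCat.Presheaf (Type u) X) {U V W : Opens X}
    (f : V ⟶ U) (g : W ⟶ V) (s : F.obj (op U)) :
    F.map g.op (F.map f.op s) = F.map (homOfLE (g.le.trans f.le)).op s := by
  rw [← ConcreteCategory.comp_apply, ← F.map_comp]
  rfl

theorem existsUnique_of_basis {X : TopCat.{u}} (F : X.Sheaf (Type u)) {B : Set (Opens X)}
    (hB : Opens.IsBasis B) (W : Opens X)
    (t : ∀ U : B, (U : Opens X) ≤ W → F.presheaf.obj (op (U : Opens X)))
    (ht : ∀ (U U' : B) (hU : (U : Opens X) ≤ W) (hU' : (U' : Opens X) ≤ W)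
      (h : (U' : Opens X) ≤ U), F.presheaf.map (homOfLE h).op (t U hU) = t U' hU') :
    ∃! s : F.presheaf.obj (op W), ∀ (U : B) (hU : (U : Opens X) ≤ W),
      F.presheaf.map (homOfLE hU).op s = t U hU := by
  let ι := {U : B // (U : Opens X) ≤ W}
  let Uf : ι → Opens X := fun i => i.1.1
  have hcover : W ≤ iSup Uf := by
    intro x hx
    obtain ⟨U, hUB, hxU, hU⟩ := (Opens.isBasis_iff_nbhd.mp hB) hx
    exact Opens.mem_iSup.mpr ⟨⟨⟨U, hUB⟩, hU⟩, hxU⟩
  have hcompat : TopCat.Presheaf.IsCompatible F.1 Uf (fun i => t i.1 i.2) := by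
    intro i j
    let κ := {U : B // (U : Opens X) ≤ Uf i ⊓ Uf j}
    refine F.eq_of_locally_eq' (fun k : κ => (k.1.1 : Opens X)) (Uf i ⊓ Uf j)
      (fun k => homOfLE k.2) ?_ _ _ ?_
    · intro x hx
      obtain ⟨U, hUB, hxU, hU⟩ := (Opens.isBasis_iff_nbhd.mp hB) hx
      exact Opens.mem_iSup.mpr ⟨⟨⟨U, hUB⟩, hU⟩, hxU⟩
    · intro k
      rw [map_map', map_map']
      rw [ht i.1 k.1 i.2 ((k.2.trans inf_le_left).trans i.2) (k.2.trans inf_le_left),
        ht j.1 k.1 j.2 ((k.2.trans inf_le_left).trans i.2) (k.2.trans inf_le_right)]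
  obtain ⟨s, hs, huniq⟩ := F.existsUnique_gluing' Uf W (fun i => homOfLE i.2) hcover
    (fun i => t i.1 i.2) hcompat
  refine ⟨s, fun U hU => hs ⟨U, hU⟩, fun s' hs' => huniq s' fun i => hs' i.1 i.2⟩


/-- natural transformation on the induced category of a basis from sectionwise maps -/
def natOfMaps {Y : TopCat.{u}} {B : Set (Opens Y)} (P Q : TopCat.Presheaf (Type u) Y)
    (h : ∀ V : B, P.obj (op (V : Opens Y)) → Q.obj (op (V : Opens Y)))
    (hnat : ∀ (V V' : B) (hV : (V' : Opens Y) ≤ V) (s : P.obj (op (V : Opens Y))),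
      Q.map (homOfLE hV).op (h V s) = h V' (P.map (homOfLE hV).op s)) :
    (inducedFunctor (fun U : B => (U : Opens Y))).op ⋙ P ⟶
      (inducedFunctor (fun U : B => (U : Opens Y))).op ⋙ Q where
  app i := TypeCat.ofHom (h i.unop)
  naturality i j f := by
    ext x
    exact (hnat i.unop j.unop (leOfHom f.unop.hom) x).symm

theorem existsUnique_extend' {Y : TopCat.{u}} {B : Set (Opens Y)} (hB : Opens.IsBasis B)
    (P : TopCat.Presheaf (Type u) Y) (Q : TopCat.Sheaf (Type u) Y)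
    (h : ∀ V : B, P.obj (op (V : Opens Y)) → Q.presheaf.obj (op (V : Opens Y)))
    (hnat : ∀ (V V' : B) (hV : (V' : Opens Y) ≤ V) (s : P.obj (op (V : Opens Y))),
      Q.presheaf.map (homOfLE hV).op (h V s) = h V' (P.map (homOfLE hV).op s)) :
    ∃! φ : P ⟶ Q.presheaf, ∀ (V : B) (s : P.obj (op (V : Opens Y))),
      φ.app (op (V : Opens Y)) s = h V s := by
  have hB' : Opens.IsBasis (Set.range (fun U : B => (U : Opens Y))) := by
    rw [Subtype.range_coe]; exact hB
  have key : ∀ (U : B) (s : P.obj (op (U : Opens Y))),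
      (TopCat.Sheaf.restrictHomEquivHom P Q hB' (natOfMaps P Q.presheaf h hnat)).app
        (op (U : Opens Y)) s = h U s := by
    intro U s
    have := TopCat.Sheaf.extend_hom_app P Q hB' (natOfMaps P Q.presheaf h hnat) U
    rw [this]
    rfl
  refine ⟨TopCat.Sheaf.restrictHomEquivHom P Q hB' (natOfMaps P Q.presheaf h hnat), key, ?_⟩
  intro ψ hψ
  apply TopCat.Sheaf.hom_ext P Q hB'
  intro U
  ext s
  exact (hψ U s).trans (key U s).symm

end Groth.Agent.Lib.Helper9.ShB6
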