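import Mathlib.AlgebraicGeometry.SpreadingOut
import Mathlib.AlgebraicGeometry.Morphisms.FiniteType

set_option autoImplicit false
set_option linter.style.haveILetI false
set_option linter.unusedSectionVars false
universe u v w
open CategoryTheory CategoryTheory.Limits AlgebraicGeometry TopologicalSpace Opposite Topology

namespace Groth.Agent.Lib.Helper9.SpreadUniq

variable {X Y S : Scheme.{u}}

theorem ι_comp_eq_of_appLE_eq (g₁ g₂ : X ⟶ Y) {W : Y.Opens} (hW : IsAffineOpen W)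
    {N : X.Opens} (hN : IsAffineOpen N) (e₁ : N ≤ g₁ ⁻¹ᵁ W) (e₂ : N ≤ g₂ ⁻¹ᵁ W)
    (h : g₁.appLE W N e₁ = g₂.appLE W N e₂) : N.ι ≫ g₁ = N.ι ≫ g₂ := by
  have h1 := IsAffineOpen.SpecMap_appLE_fromSpec g₁ hW hN e₁
  have h2 := IsAffineOpen.SpecMap_appLE_fromSpec g₂ hW hN e₂
  rw [h] at h1
  have h3 : hN.fromSpec ≫ g₁ = hN.fromSpec ≫ g₂ := h1.symm.trans h2
  rw [← hN.isoSpec_hom_fromSpec, Category.assoc, Category.assoc, h3]

theorem appLE_germ_eq (f g : X ⟶ Y) {x : X} (e : f x = g x)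
    (H : f.stalkMap x =
      Y.presheaf.stalkSpecializes (Inseparable.of_eq e.symm).specializes ≫ g.stalkMap x)
    {W : Y.Opens} {N : X.Opens} (e₁ : N ≤ f ⁻¹ᵁ W) (e₂ : N ≤ g ⁻¹ᵁ W) (hxN : x ∈ N) :
    f.appLE W N e₁ ≫ X.presheaf.germ N x hxN = g.appLE W N e₂ ≫ X.presheaf.germ N x hxN := by
  simp only [Scheme.Hom.appLE, Category.assoc, X.presheaf.germ_res', ← Scheme.Hom.germ_stalkMap, H]
  simp only [TopCat.Presheaf.germ_stalkSpecializes_assoc, Scheme.Hom.germ_stalkMap]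

theorem stalkMap_eq_of_fromSpecStalk_comp_eq (f g : X ⟶ Y) {x : X}
    (e : X.fromSpecStalk x ≫ f = X.fromSpecStalk x ≫ g) :
    ∃ (e' : f x = g x), f.stalkMap x =
      Y.presheaf.stalkSpecializes (Inseparable.of_eq e'.symm).specializes ≫ g.stalkMap x := by
  have e' : f x = g x := by simpa using congr($e (IsLocalRing.closedPoint _))
  refine ⟨e', ?_⟩
  apply Spec.map_injective
  rw [← cancel_mono (Y.fromSpecStalk _)]
  simpa [Scheme.SpecMap_stalkSpecializes_fromSpecStalk]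

/-- Two `S`-morphisms into a scheme locally of finite type over `S` which agree on the stalk at
`x` agree on a neighbourhood of `x` (no germ-injectivity needed). -/
theorem spread_out_unique_of_locallyOfFiniteType (sX : X ⟶ S) (sY : Y ⟶ S)
    [LocallyOfFiniteType sY] {x : X} (f g : X ⟶ Y) (hf : f ≫ sY = sX) (hg : g ≫ sY = sX)
    (e : f x = g x)
    (H : f.stalkMap x =
      Y.presheaf.stalkSpecializes (Inseparable.of_eq e.symm).specializes ≫ g.stalkMap x) :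
    ∃ (U : X.Opens), x ∈ U ∧ U.ι ≫ f = U.ι ≫ g := by
  obtain ⟨_, ⟨S₀ : S.Opens, hS₀, rfl⟩, hxS₀, -⟩ :=
    S.isBasis_affineOpens.exists_subset_of_mem_open (Set.mem_univ (sX x)) isOpen_univ
  have hfxS₀ : f x ∈ sY ⁻¹ᵁ S₀ := by
    change sY (f x) ∈ S₀
    rw [← Scheme.Hom.comp_apply, hf]; exact hxS₀
  obtain ⟨_, ⟨W : Y.Opens, hW, rfl⟩, hfxW, hWS₀⟩ :=
    Y.isBasis_affineOpens.exists_subset_of_mem_open hfxS₀ (sY ⁻¹ᵁ S₀).2
  have hgxW : g x ∈ W := e ▸ hfxW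
  obtain ⟨_, ⟨N : X.Opens, hN, rfl⟩, hxN, hNW⟩ :=
    X.isBasis_affineOpens.exists_subset_of_mem_open
      (show x ∈ ((f ⁻¹ᵁ W ⊓ g ⁻¹ᵁ W : X.Opens) : Set X) from ⟨hfxW, hgxW⟩)
      (f ⁻¹ᵁ W ⊓ g ⁻¹ᵁ W).2
  have e₁ : N ≤ f ⁻¹ᵁ W := fun z hz => (hNW hz).1
  have e₂ : N ≤ g ⁻¹ᵁ W := fun z hz => (hNW hz).2
  have key : f.appLE W N e₁ ≫ X.presheaf.germ N x hxN =
      g.appLE W N e₂ ≫ X.presheaf.germ N x hxN := by
    simp only [Scheme.Hom.appLE, Category.assoc, X.presheaf.germ_res', ← Scheme.Hom.germ_stalkMap, H]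
    simp only [TopCat.Presheaf.germ_stalkSpecializes_assoc, Scheme.Hom.germ_stalkMap]
  let ψ : Γ(S, S₀) ⟶ Γ(Y, W) := sY.appLE S₀ W hWS₀
  have hψ : ψ.hom.FiniteType := sY.finiteType_appLE hS₀ hW hWS₀
  have hψf : ψ ≫ f.appLE W N e₁ = ψ ≫ g.appLE W N e₂ := by
    rw [Scheme.Hom.appLE_comp_appLE, Scheme.Hom.appLE_comp_appLE]
    simp only [hf, hg]
  letI : Algebra Γ(S, S₀) Γ(Y, W) := ψ.hom.toAlgebra
  obtain ⟨t, ht⟩ : ∃ t : Finset Γ(Y, W), Algebra.adjoin Γ(S, S₀) (t : Set Γ(Y, W)) = ⊤ := hψ.out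
  -- shrink
  have hloc : ∀ s : Γ(Y, W), ∃ V : X.Opens, x ∈ V ∧ ∃ (hVN : V ≤ N),
      X.presheaf.map (homOfLE hVN).op (f.appLE W N e₁ s) =
        X.presheaf.map (homOfLE hVN).op (g.appLE W N e₂ s) := by
    intro s
    have h1 : X.presheaf.germ N x hxN (f.appLE W N e₁ s) =
        X.presheaf.germ N x hxN (g.appLE W N e₂ s) :=
      congrArg (fun z : Γ(Y, W) ⟶ X.presheaf.stalk x => z.hom s) key
    obtain ⟨V, hxV, i₁, i₂, h2⟩ := X.presheaf.germ_eq x hxN hxN _ _ h1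
    exact ⟨V, hxV, i₁.le, h2⟩
  choose V hxV hVN hV using hloc
  obtain ⟨_, ⟨N' : X.Opens, hN', rfl⟩, hxN', hN'V⟩ :=
    X.isBasis_affineOpens.exists_subset_of_mem_open
      (show x ∈ ((N ⊓ t.inf V : X.Opens) : Set X) by
        rw [TopologicalSpace.Opens.coe_inf, TopologicalSpace.Opens.coe_finset_inf]
        exact ⟨hxN, by simpa using fun s _ => hxV s⟩)
      (N ⊓ t.inf V).2
  have hN'N : N' ≤ N := fun z hz => (hN'V hz).1
  have hN'Vs : ∀ s ∈ t, N' ≤ V s := fun s hs z hz =>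
    (Finset.inf_le hs : t.inf V ≤ V s) (hN'V hz).2
  refine ⟨N', hxN', ι_comp_eq_of_appLE_eq f g hW hN' (hN'N.trans e₁) (hN'N.trans e₂) ?_⟩
  -- the two maps agree on generators
  let φf : Γ(Y, W) →+* Γ(X, N') := (f.appLE W N' (hN'N.trans e₁)).hom
  let φg : Γ(Y, W) →+* Γ(X, N') := (g.appLE W N' (hN'N.trans e₂)).hom
  have hφf : ∀ s, φf s = X.presheaf.map (homOfLE hN'N).op (f.appLE W N e₁ s) := fun s => by
    change _ = (f.appLE W N e₁ ≫ X.presheaf.map (homOfLE hN'N).op) s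
    rw [Scheme.Hom.appLE_map]
  have hφg : ∀ s, φg s = X.presheaf.map (homOfLE hN'N).op (g.appLE W N e₂ s) := fun s => by
    change _ = (g.appLE W N e₂ ≫ X.presheaf.map (homOfLE hN'N).op) s
    rw [Scheme.Hom.appLE_map]
  let E : Subalgebra Γ(S, S₀) Γ(Y, W) :=
    { (RingHom.eqLocus φf φg).toSubsemiring with
      algebraMap_mem' := fun r => by
        change φf (ψ r) = φg (ψ r)
        rw [hφf, hφg]
        congr 1
        exact congrArg (fun z : Γ(S, S₀) ⟶ Γ(X, N) => z.hom r) hψf }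
  have htE : (t : Set Γ(Y, W)) ⊆ E := by
    intro s hs
    change φf s = φg s
    rw [hφf, hφg]
    have h3 := congrArg (X.presheaf.map (homOfLE (hN'Vs s hs)).op) (hV s)
    have h4 : X.presheaf.map (homOfLE hN'N).op =
        X.presheaf.map (homOfLE (hVN s)).op ≫ X.presheaf.map (homOfLE (hN'Vs s hs)).op := by
      rw [← Functor.map_comp]; rfl
    rw [h4, ConcreteCategory.comp_apply, ConcreteCategory.comp_apply]
    exact h3
  have hE : E = ⊤ := top_le_iff.mp (ht ▸ Algebra.adjoin_le htE)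
  ext s
  have : s ∈ E := hE ▸ Algebra.mem_top
  exact this

/-- Variant with an equality of scheme morphisms. -/
theorem spread_out_unique_of_locallyOfFiniteType' (sX : X ⟶ S) (sY : Y ⟶ S)
    [LocallyOfFiniteType sY] {x : X} (f g : X ⟶ Y) (hf : f ≫ sY = sX) (hg : g ≫ sY = sX)
    (e : X.fromSpecStalk x ≫ f = X.fromSpecStalk x ≫ g) :
    ∃ (U : X.Opens), x ∈ U ∧ U.ι ≫ f = U.ι ≫ g := by
  fapply spread_out_unique_of_locallyOfFiniteType sX sY f g hf hg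
  · simpa using congr($e (IsLocalRing.closedPoint _))
  · apply Spec.map_injective
    rw [← cancel_mono (Y.fromSpecStalk _)]
    simpa [Scheme.SpecMap_stalkSpecializes_fromSpecStalk]

end Groth.Agent.Lib.Helper9.SpreadUniq
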