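import Groth.Agent.Lib.Helper9.VCov4
import Mathlib.AlgebraicGeometry.AffineTransitionLimit

namespace Groth.Agent.Lib.Helper9.StdVLim

open CategoryTheory CategoryTheory.Limits AlgebraicGeometry TopologicalSpace IsLocalRing
open Groth.Agent.Lib.Helper9.VCov

universe u w

/-- the ring map `V ⟶ Γ(P, ⊤)` attached to `π : P ⟶ Spec V`. -/
noncomputable def toΓ {P : Scheme.{u}} (V : CommRingCat.{u}) (π : P ⟶ Spec V) : V ⟶ Γ(P, ⊤) :=
  (Scheme.ΓSpecIso V).inv ≫ π.appTop

/-- the obstruction to lifting the specialization of `Spec V`. -/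
def Bad {P : Scheme.{u}} (V : CommRingCat.{u}) [IsLocalRing V] (π : P ⟶ Spec V) : Prop :=
  ∃ (m v : V) (b : Γ(P, ⊤)), m ∈ maximalIdeal V ∧ v ≠ 0 ∧
    (toΓ V π).hom v * (1 - (toΓ V π).hom m * b) = 0

theorem preimage_basicOpen_toΓ {P : Scheme.{u}} (V : CommRingCat.{u}) (π : P ⟶ Spec V) (v : V) :
    P.basicOpen ((toΓ V π).hom v) = π ⁻¹ᵁ (PrimeSpectrum.basicOpen v) := by
  rw [← basicOpen_eq_of_affine, Scheme.preimage_basicOpen_top]
  rfl

theorem not_bad_of_specializes {P : Scheme.{u}} (V : CommRingCat.{u}) [IsDomain V] [IsLocalRing V]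
    (π : P ⟶ Spec V) {w' w : P} (h : w' ⤳ w) (h1 : π w' = genPt V) (h2 : π w = clPt V) :
    ¬ Bad V π := by
  rintro ⟨m, v, b, hm, hv, hb⟩
  have hw : w ∈ P.basicOpen (1 - (toΓ V π).hom m * b) := by
    have h3 : (⊤ : P.Opens) ≤ P.basicOpen (1 - (toΓ V π).hom m * b) ⊔
        P.basicOpen ((toΓ V π).hom m * b) := by
      have := P.basicOpen_add_le (1 - (toΓ V π).hom m * b) ((toΓ V π).hom m * b)
      rwa [sub_add_cancel, Scheme.basicOpen_one] at this
    rcases h3 (show w ∈ (⊤ : P.Opens) from trivial) with h4 | h4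
    · exact h4
    · exfalso
      rw [Scheme.basicOpen_mul, preimage_basicOpen_toΓ] at h4
      have h5 : π w ∈ PrimeSpectrum.basicOpen m := h4.1
      rw [h2] at h5
      exact h5 hm
  have hw' : w' ∈ P.basicOpen (1 - (toΓ V π).hom m * b) :=
    h.mem_open (P.basicOpen _).2 hw
  have hv' : w' ∈ P.basicOpen ((toΓ V π).hom v) := by
    rw [preimage_basicOpen_toΓ]
    change π w' ∈ PrimeSpectrum.basicOpen v
    rw [h1]
    intro (h6 : v ∈ (⊥ : Ideal V))
    exact hv (by simpa using h6)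
  have : w' ∈ P.basicOpen ((toΓ V π).hom v * (1 - (toΓ V π).hom m * b)) := by
    rw [Scheme.basicOpen_mul]; exact ⟨hv', hw'⟩
  rw [hb, Scheme.basicOpen_zero] at this
  exact this




theorem isoSpec_inv_comp {P : Scheme.{u}} [IsAffine P] (V : CommRingCat.{u}) (π : P ⟶ Spec V) :
    P.isoSpec.inv ≫ π = Spec.map (toΓ V π) := by
  rw [← Scheme.isoSpec_inv_naturality, Scheme.isoSpec_Spec_inv, ← Spec.map_comp]
  rfl

/-- in a valuation ring, elements of the extension of the maximal ideal are single products. -/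
theorem exists_eq_mul_of_mem_map {V B : Type u} [CommRing V] [IsDomain V] [ValuationRing V]
    [CommRing B] (φ : V →+* B) {y : B} (hy : y ∈ Ideal.map φ (maximalIdeal V)) :
    ∃ m ∈ maximalIdeal V, ∃ b : B, y = φ m * b := by
  induction hy using Submodule.span_induction with
  | mem x hx =>
    obtain ⟨m, hm, rfl⟩ := hx
    exact ⟨m, hm, 1, by simp⟩
  | zero => exact ⟨0, Ideal.zero_mem _, 0, by simp⟩
  | add x y _ _ hx hy =>
    obtain ⟨m1, hm1, b1, rfl⟩ := hx
    obtain ⟨m2, hm2, b2, rfl⟩ := hy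
    rcases ValuationRing.dvd_total m1 m2 with ⟨c, rfl⟩ | ⟨c, rfl⟩
    · exact ⟨m1, hm1, b1 + φ c * b2, by rw [map_mul]; ring⟩
    · exact ⟨m2, hm2, φ c * b1 + b2, by rw [map_mul]; ring⟩
  | smul a x _ hx =>
    obtain ⟨m, hm, b, rfl⟩ := hx
    exact ⟨m, hm, a * b, by rw [smul_eq_mul]; ring⟩

/-- the multiplicative set `φ(V∖0)·(1 + 𝔪B)`. -/
def mulSet {V B : Type u} [CommRing V] [IsDomain V] [IsLocalRing V] [CommRing B] (φ : V →+* B) :
    Submonoid B where
  carrier := {x | ∃ v : V, v ≠ 0 ∧ ∃ y ∈ Ideal.map φ (maximalIdeal V), x = φ v * (1 - y)}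
  one_mem' := ⟨1, one_ne_zero, 0, Ideal.zero_mem _, by simp⟩
  mul_mem' := by
    rintro _ _ ⟨v, hv, y, hy, rfl⟩ ⟨v', hv', y', hy', rfl⟩
    refine ⟨v * v', mul_ne_zero hv hv', y + y' - y * y', ?_, by rw [map_mul]; ring⟩
    exact Ideal.sub_mem _ (Ideal.add_mem _ hy hy') (Ideal.mul_mem_left _ _ hy')

theorem exists_specializes_of_not_bad {P : Scheme.{u}} [IsAffine P] (V : CommRingCat.{u})
    [IsDomain V] [ValuationRing V] (π : P ⟶ Spec V) (h : ¬ Bad V π) :
    ∃ w' w : P, w' ⤳ w ∧ π w' = genPt V ∧ π w = clPt V := by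
  let φ : V →+* Γ(P, ⊤) := (toΓ V π).hom
  let T := mulSet φ
  have hT : Disjoint ((⊥ : Ideal Γ(P, ⊤)) : Set Γ(P, ⊤)) T := by
    rw [Set.disjoint_left]
    rintro x (hx : x ∈ (⊥ : Ideal _)) ⟨v, hv, y, hy, hxy⟩
    rw [Ideal.mem_bot] at hx
    obtain ⟨m, hm, b, rfl⟩ := exists_eq_mul_of_mem_map φ hy
    exact h ⟨m, v, b, hm, hv, by rw [← hxy, hx]⟩
  obtain ⟨q', hq', -, hq'T⟩ := Ideal.exists_le_prime_disjoint ⊥ T hT
  rw [Set.disjoint_left] at hq'T
  have hne : q' ⊔ Ideal.map φ (maximalIdeal V) ≠ ⊤ := by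
    intro htop
    have h1 : (1 : Γ(P, ⊤)) ∈ q' ⊔ Ideal.map φ (maximalIdeal V) := htop ▸ Submodule.mem_top
    obtain ⟨a, ha, y, hy, hay⟩ := Submodule.mem_sup.mp h1
    refine hq'T ha ⟨1, one_ne_zero, y, hy, ?_⟩
    rw [map_one, one_mul, ← hay]; ring
  obtain ⟨q, hq, hqq'⟩ := Ideal.exists_le_maximal _ hne
  have hq_prime : q.IsPrime := hq.isPrime
  let x' : Spec Γ(P, ⊤) := (⟨q', hq'⟩ : PrimeSpectrum _)
  let x : Spec Γ(P, ⊤) := (⟨q, hq_prime⟩ : PrimeSpectrum _)
  have hxx : x' ⤳ x := (PrimeSpectrum.le_iff_specializes (⟨q', hq'⟩ : PrimeSpectrum _)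
    ⟨q, hq_prime⟩).mp (le_sup_left.trans hqq')
  refine ⟨P.isoSpec.inv x', P.isoSpec.inv x, hxx.map P.isoSpec.inv.continuous, ?_, ?_⟩
  · rw [← Scheme.Hom.comp_apply, isoSpec_inv_comp]
    apply PrimeSpectrum.ext
    change Ideal.comap φ q' = ⊥
    rw [eq_bot_iff]
    intro v hv
    rw [Ideal.mem_bot]
    by_contra hv0
    exact hq'T (Ideal.mem_comap.mp hv) ⟨v, hv0, 0, Ideal.zero_mem _, by simp⟩
  · rw [← Scheme.Hom.comp_apply, isoSpec_inv_comp]
    apply PrimeSpectrum.ext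
    change Ideal.comap φ q = maximalIdeal V
    apply le_antisymm
    · exact IsLocalRing.le_maximalIdeal (Ideal.IsPrime.ne_top inferInstance)
    · intro m hm
      exact hqq' (Ideal.mem_sup_right (Ideal.mem_map_of_mem φ hm))




theorem toΓ_comp {Q P : Scheme.{u}} (V : CommRingCat.{u}) (f : Q ⟶ P) (π : P ⟶ Spec V) :
    toΓ V (f ≫ π) = toΓ V π ≫ f.appTop := by
  simp [toΓ]

theorem toΓ_comp_apply {Q P : Scheme.{u}} (V : CommRingCat.{u}) (f : Q ⟶ P) (π : P ⟶ Spec V)
    (v : V) : (toΓ V (f ≫ π)).hom v = f.appTop.hom ((toΓ V π).hom v) := by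
  rw [toΓ_comp]; rfl

theorem exists_bad_of_isLimit {V : CommRingCat.{u}} [IsLocalRing V] {I : Type u} [SmallCategory I]
    [IsCofiltered I] (K : I ⥤ Over (Spec V)) [∀ i, IsAffine (K.obj i).left] (c : Cone K)
    (hc : IsLimit ((Over.forget _).mapCone c)) (h : Bad V c.pt.hom) :
    ∃ i, Bad V (K.obj i).hom := by
  obtain ⟨m, v, b, hm, hv, hb⟩ := h
  have : ∀ i, IsAffine ((K ⋙ Over.forget _).obj i) := fun i => by
    dsimp; infer_instance
  obtain ⟨i, (b' : Γ((K.obj i).left, ⊤)), hb'⟩ :=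
    exists_appTop_π_eq_of_isAffine_of_isLimit (K ⋙ Over.forget _) _ hc b
  change (c.π.app i).left.appTop.hom b' = b at hb'
  have key : ∀ v : V, (toΓ V c.pt.hom).hom v =
      (c.π.app i).left.appTop.hom ((toΓ V (K.obj i).hom).hom v) := by
    intro v
    rw [← toΓ_comp_apply]
    congr 3
    exact (Over.w (c.π.app i)).symm
  let x' : Γ((K.obj i).left, ⊤) :=
    (toΓ V (K.obj i).hom).hom v * (1 - (toΓ V (K.obj i).hom).hom m * b')
  have hx' : (c.π.app i).left.appTop.hom x' = 0 := by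
    rw [← hb, key, key, ← hb']
    simp only [x', map_mul, map_sub, map_one]
  obtain ⟨j, f, hj⟩ := exists_appTop_map_eq_zero_of_isAffine_of_isLimit (K ⋙ Over.forget _) _ hc
    i x' hx'
  change (K.map f).left.appTop.hom x' = 0 at hj
  refine ⟨j, m, v, (K.map f).left.appTop.hom b', hm, hv, ?_⟩
  have key2 : ∀ v : V, (toΓ V (K.obj j).hom).hom v =
      (K.map f).left.appTop.hom ((toΓ V (K.obj i).hom).hom v) := by
    intro v
    rw [← toΓ_comp_apply]
    congr 3
    exact (Over.w (K.map f)).symm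
  rw [key2, key2, ← hj]
  simp only [x', map_mul, map_sub, map_one]




theorem hasValLift_singleton_of_forall {X Y : Scheme.{u}} (f : X ⟶ Y)
    (H : ∀ (V : CommRingCat.{u}) [IsDomain V] [ValuationRing V] (g : Spec V ⟶ Y),
      ∃ w' w : ↑(pullback f g), w' ⤳ w ∧ pullback.snd f g w' = genPt V ∧
        pullback.snd f g w = clPt V) :
    HTop.HasValLift (PreZeroHypercover.singleton.{w} f) := by
  intro V _ _ g
  obtain ⟨w', w, hw, hw1, hw2⟩ := H V g
  obtain ⟨W, hW1, hW2, k, hk1, hk2⟩ := exists_valuationRing_of_specializes hw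
  let φ : V ⟶ W := Spec.preimage (k ≫ pullback.snd f g)
  have hφ : Spec.map φ = k ≫ pullback.snd f g := Spec.map_preimage _
  have h1 : Spec.map φ (genPt W) = genPt V := by
    rw [hφ, Scheme.Hom.comp_apply, hk1, hw1]
  have h2 : Spec.map φ (clPt W) = clPt V := by
    rw [hφ, Scheme.Hom.comp_apply, hk2, hw2]
  refine ⟨W, hW1, hW2, φ, ⟨?_, ?_⟩, PUnit.unit, k ≫ pullback.fst f g, ?_⟩
  · have h3 := congrArg PrimeSpectrum.asIdeal h1
    change Ideal.comap φ.hom ⊥ = ⊥ at h3
    rw [injective_iff_map_eq_zero]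
    intro a ha
    have : a ∈ Ideal.comap φ.hom ⊥ := by
      rw [Ideal.mem_comap, ha]; exact Ideal.zero_mem _
    rw [h3] at this
    exact this
  · have h3 := congrArg PrimeSpectrum.asIdeal h2
    change Ideal.comap φ.hom (maximalIdeal W) = maximalIdeal V at h3
    exact ((IsLocalRing.local_hom_TFAE φ.hom).out 0 4).mpr h3
  · change (k ≫ pullback.fst f g) ≫ f = Spec.map φ ≫ g
    rw [Category.assoc, pullback.condition, ← Category.assoc, hφ]

theorem exists_specializes_of_hasValLift_singleton {X Y : Scheme.{u}} (f : X ⟶ Y)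
    (h : HTop.HasValLift (PreZeroHypercover.singleton.{w} f)) (V : CommRingCat.{u}) [IsDomain V]
    [ValuationRing V] (g : Spec V ⟶ Y) :
    ∃ w' w : ↑(pullback f g), w' ⤳ w ∧ pullback.snd f g w' = genPt V ∧
      pullback.snd f g w = clPt V := by
  obtain ⟨W, hW1, hW2, φ, ⟨hφ1, hφ2⟩, j, g', hg'⟩ := h V g
  let g'' : Spec W ⟶ X := g'
  have hg'' : g'' ≫ f = Spec.map φ ≫ g := hg'
  let l : Spec W ⟶ pullback f g := pullback.lift g'' (Spec.map φ) hg''
  have hl : l ≫ pullback.snd f g = Spec.map φ := pullback.lift_snd _ _ _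
  refine ⟨l (genPt W), l (clPt W), (genPt_specializes W _).map l.continuous, ?_, ?_⟩
  · rw [← Scheme.Hom.comp_apply, hl, specMap_genPt φ hφ1]
  · rw [← Scheme.Hom.comp_apply, hl, specMap_closedPoint φ]

attribute [local instance] IsCofiltered.isConnected in
theorem isStandardV_singleton_of_isLimit_iff {Y : Scheme.{u}} [IsAffine Y]
    {I : Type u} [SmallCategory I] [IsCofiltered I] (D : I ⥤ Over Y)
    [∀ i, IsAffine (D.obj i).left]
    (c : Cone D) (hc : IsLimit ((Over.forget Y).mapCone c)) :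
    HTop.IsStandardV (PreZeroHypercover.singleton.{w} c.pt.hom) ↔
      ∀ i, HTop.IsStandardV (PreZeroHypercover.singleton.{w} (D.obj i).hom) := by
  constructor
  · intro h i
    refine ⟨inferInstance, inferInstanceAs (Finite PUnit),
      fun _ => inferInstanceAs (IsAffine (D.obj i).left), ?_⟩
    intro V _ _ g
    obtain ⟨W, hW1, hW2, φ, hφ, j, g', hg'⟩ := h.lift V g
    let g'' : Spec W ⟶ c.pt.left := g'
    have hg'' : g'' ≫ c.pt.hom = Spec.map φ ≫ g := hg'
    refine ⟨W, hW1, hW2, φ, hφ, PUnit.unit, g'' ≫ (c.π.app i).left, ?_⟩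
    change (g'' ≫ (c.π.app i).left) ≫ (D.obj i).hom = Spec.map φ ≫ g
    rw [Category.assoc, Over.w]
    exact hg''
  · intro h
    have : ∀ i, IsAffine ((D ⋙ Over.forget Y).obj i) := fun i => by dsimp; infer_instance
    have hAff : IsAffine c.pt.left := Scheme.isAffine_of_isLimit _ hc
    refine ⟨inferInstance, inferInstanceAs (Finite PUnit), fun _ => hAff, ?_⟩
    apply hasValLift_singleton_of_forall
    intro V _ _ g
    let K : I ⥤ Over (Spec V) := D ⋙ Over.pullback g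
    have hK : ∀ i, IsAffine (K.obj i).left := fun i =>
      inferInstanceAs (IsAffine (pullback (D.obj i).hom g))
    let c' : Cone K := (Over.pullback g).mapCone c
    have hc0 : IsLimit c := isLimitOfReflects (Over.forget Y) hc
    have hc1 : IsLimit c' := isLimitOfPreserves (Over.pullback g) hc0
    have hc2 : IsLimit ((Over.forget _).mapCone c') := isLimitOfPreserves (Over.forget _) hc1
    have : IsAffine (pullback c.pt.hom g) := inferInstance
    by_contra hno
    have hbad : Bad V (pullback.snd c.pt.hom g) := by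
      by_contra hnb
      exact hno (exists_specializes_of_not_bad V _ hnb)
    obtain ⟨i, hi⟩ := exists_bad_of_isLimit K c' hc2 hbad
    obtain ⟨w', w, hw, h1, h2⟩ :=
      exists_specializes_of_hasValLift_singleton (D.obj i).hom (h i).lift V g
    exact not_bad_of_specializes V _ hw h1 h2 hi

end Groth.Agent.Lib.Helper9.StdVLim
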