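import Mathlib
import Groth.Agent.Lib.Helper13.IdemClopen
set_option backward.isDefEq.respectTransparency false
set_option maxHeartbeats 800000
set_option autoImplicit false
set_option linter.unusedSectionVars false
set_option linter.unusedVariables false
universe u
open CategoryTheory CategoryTheory.Limits AlgebraicGeometry Opposite TopologicalSpace

namespace Groth.Agent.Lib.Helper9.SteinConn

/-- flat base change of `O_Y ≅ f_* O_X` on small affine opens -/
theorem bijective_app_of_small {X Y X' Y' : Scheme.{u}} {p : X' ⟶ X} {q : X' ⟶ Y'} {f : X ⟶ Y}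
    {g : Y' ⟶ Y} (H : IsPullback p q f g) [Flat g] [QuasiCompact f] [QuasiSeparated f]
    (hf : ∀ U : Y.Opens, Function.Bijective (f.app U))
    (V : Y.Opens) (hV : IsAffineOpen V) (V' : Y'.Opens) (hV' : IsAffineOpen V') (hVV' : V' ≤ g ⁻¹ᵁ V) :
    Function.Bijective (q.app V') := by
  have hUX : IsCompact ((f ⁻¹ᵁ V : X.Opens) : Set X) :=
    QuasiCompact.isCompact_preimage (f := f) _ V.2 hV.isCompact
  have hUX' : IsQuasiSeparated ((f ⁻¹ᵁ V : X.Opens) : Set X) := by
    apply (isQuasiSeparated_iff_quasiSeparatedSpace _ (f ⁻¹ᵁ V).2).2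
    haveI : IsAffine V.toScheme := hV
    haveI : QuasiSeparated (f ∣_ V) := IsZariskiLocalAtTarget.restrict ‹_› V
    exact quasiSeparatedSpace_of_quasiSeparated (f ∣_ V)
  have hiso := isIso_pushoutSection_of_isQuasiSeparated_of_flat_right H hVV' (le_refl (f ⁻¹ᵁ V)) rfl
    hV hV' hUX hUX'
  haveI : IsIso (f.appLE V (f ⁻¹ᵁ V) (le_refl _)) := by
    rw [← Scheme.Hom.app_eq_appLE]
    exact (ConcreteCategory.isIso_iff_bijective _).2 (hf V)
  have hinr : pushout.inr (f.appLE V (f ⁻¹ᵁ V) (le_refl _)) (g.appLE V V' hVV') ≫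
      pushoutSection H hVV' (le_refl (f ⁻¹ᵁ V)) rfl =
      q.appLE V' (p ⁻¹ᵁ (f ⁻¹ᵁ V) ⊓ q ⁻¹ᵁ V') (by simp) := pushout.inr_desc _ _ _
  haveI : IsIso (q.appLE V' (p ⁻¹ᵁ (f ⁻¹ᵁ V) ⊓ q ⁻¹ᵁ V') (by simp)) := by
    rw [← hinr]; infer_instance
  have hle : q ⁻¹ᵁ V' ≤ p ⁻¹ᵁ (f ⁻¹ᵁ V) := by
    rw [← Scheme.Hom.comp_preimage, H.w, Scheme.Hom.comp_preimage]
    exact q.preimage_mono hVV'
  have heq : p ⁻¹ᵁ (f ⁻¹ᵁ V) ⊓ q ⁻¹ᵁ V' = q ⁻¹ᵁ V' := inf_eq_right.2 hle
  have h2 : q.appLE V' (p ⁻¹ᵁ (f ⁻¹ᵁ V) ⊓ q ⁻¹ᵁ V') (by simp) =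
      q.app V' ≫ X'.presheaf.map (homOfLE (le_of_eq heq)).op := by
    rw [Scheme.Hom.appLE]
  haveI : IsIso (X'.presheaf.map (homOfLE (le_of_eq heq)).op) := by
    have : IsIso (homOfLE (le_of_eq heq)) := ⟨⟨homOfLE (le_of_eq heq.symm), rfl, rfl⟩⟩
    exact inferInstance
  haveI : IsIso (q.app V') := by
    have : IsIso (q.app V' ≫ X'.presheaf.map (homOfLE (le_of_eq heq)).op) := by
      rw [← h2]; infer_instance
    exact IsIso.of_isIso_comp_right (q.app V') (X'.presheaf.map (homOfLE (le_of_eq heq)).op)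
  exact (ConcreteCategory.isIso_iff_bijective _).1 inferInstance


/-- bijectivity of `O_{Y'}(W) → O_{X'}(q⁻¹W)` may be checked on a basis -/
theorem bijective_app_of_basis {X' Y' : Scheme.{u}} (q : X' ⟶ Y') (B : Set Y'.Opens)
    (hB : Opens.IsBasis B) (h : ∀ V ∈ B, Function.Bijective (q.app V)) (W : Y'.Opens) :
    Function.Bijective (q.app W) := by
  let G : TopCat.Sheaf CommRingCat Y' := (TopCat.Sheaf.pushforward CommRingCat q.base).obj X'.sheaf
  let φ : Y'.sheaf ⟶ G := ObjectProperty.homMk q.c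
  have hφ : ∀ V : Y'.Opens, φ.hom.app (op V) = q.app V := fun V => rfl
  have := TopCat.Presheaf.app_bijective_of_stalkFunctor_map_bijective φ W (fun x _ => ?_)
  · exact this
  · constructor
    · apply TopCat.Presheaf.stalkFunctor_map_injective_of_isBasis hB
      intro U hU
      exact (h U hU).1
    · intro t
      obtain ⟨U, hxU, hU, s', rfl⟩ := TopCat.Presheaf.exists_mem_germ_eq_of_isBasis hB G.obj x t
      obtain ⟨s, rfl⟩ := (h U hU).2 s'
      refine ⟨Y'.presheaf.germ U x hxU s, ?_⟩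
      exact TopCat.Presheaf.stalkFunctor_map_germ_apply U x hxU φ.hom s


/-- global flat base change of `O_Y ≅ f_* O_X` -/
theorem bijective_app_of_flat {X Y X' Y' : Scheme.{u}} {p : X' ⟶ X} {q : X' ⟶ Y'} {f : X ⟶ Y}
    {g : Y' ⟶ Y} (H : IsPullback p q f g) [Flat g] [QuasiCompact f] [QuasiSeparated f]
    (hf : ∀ U : Y.Opens, Function.Bijective (f.app U)) (W : Y'.Opens) :
    Function.Bijective (q.app W) := by
  let B : Set Y'.Opens := {V' | IsAffineOpen V' ∧ ∃ V : Y.Opens, IsAffineOpen V ∧ V' ≤ g ⁻¹ᵁ V}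
  have hB : Opens.IsBasis B := by
    rw [Opens.isBasis_iff_nbhd]
    intro U y hy
    obtain ⟨_, ⟨V, hV : IsAffineOpen V, rfl⟩, hgy, -⟩ :=
      Y.isBasis_affineOpens.exists_subset_of_mem_open (Set.mem_univ (g y)) isOpen_univ
    have hy' : y ∈ U ⊓ g ⁻¹ᵁ V := ⟨hy, hgy⟩
    obtain ⟨_, ⟨V', hV' : IsAffineOpen V', rfl⟩, hyV', hsub⟩ :=
      Y'.isBasis_affineOpens.exists_subset_of_mem_open hy' (U ⊓ g ⁻¹ᵁ V).2
    exact ⟨V', ⟨hV', V, hV, fun z hz => (hsub hz).2⟩, hyV', fun z hz => (hsub hz).1⟩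
  apply bijective_app_of_basis q B hB
  rintro V' ⟨hV', V, hV, hVV'⟩
  exact bijective_app_of_small H hf V hV V' hV' hVV'

/-- **Connectedness of base changes along finite étale (flat) morphisms.** -/
theorem connectedSpace_of_bijective {X' Y' : Scheme.{u}} (q : X' ⟶ Y')
    (hq : Function.Bijective (q.appTop)) [ConnectedSpace Y'] : ConnectedSpace X' := by
  haveI : Nonempty X' := by
    by_contra hne
    rw [not_nonempty_iff] at hne
    haveI : Subsingleton Γ(X', ⊤) := by
      have h0 : (⊤ : X'.Opens) = ⊥ := by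
        ext x; exact (hne.false x).elim
      rw [h0]
      exact CommRingCat.subsingleton_of_isTerminal (X'.sheaf.isTerminalOfEmpty)
    haveI : Nontrivial Γ(Y', ⊤) := by
      apply +allowSynthFailures Scheme.component_nontrivial
      exact ⟨⟨Classical.arbitrary Y', trivial⟩⟩
    have h1 : q.appTop (1 : Γ(Y', ⊤)) = q.appTop 0 := Subsingleton.elim _ _
    exact one_ne_zero (hq.1 h1)
  haveI : PreconnectedSpace X' := by
    rw [preconnectedSpace_iff_clopen]
    intro s hs
    let U : X'.Opens := ⟨s, hs.isOpen⟩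
    obtain ⟨e, he, heU⟩ := Helper13.IdemClopen.exists_idempotent_of_isClopen X' U hs.isClosed
    obtain ⟨e', rfl⟩ := hq.2 e
    have he' : IsIdempotentElem e' := by
      apply hq.1
      rw [map_mul]
      exact he
    have hD := Helper13.IdemClopen.isClopen_basicOpen e' he'
    have hpre : q ⁻¹ᵁ Y'.basicOpen e' = U := by
      rw [Scheme.preimage_basicOpen_top]
      exact heU
    have hs' : s = q.base ⁻¹' (Y'.basicOpen e' : Set Y') := by
      have := congrArg (fun O : X'.Opens => (O : Set X')) hpre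
      exact this.symm
    rcases isClopen_iff.1 hD with h | h
    · left; rw [hs', h]; rfl
    · right; rw [hs', h]; rfl
  exact { toNonempty := inferInstance }

end Groth.Agent.Lib.Helper9.SteinConn
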