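import Groth.Prelude.Def_NonAbH2
import Groth.Prelude.Def_ChGrp
import Groth.Agent.Lib.Helper9.Tors1

set_option autoImplicit false
universe u
open CategoryTheory CategoryTheory.Limits AlgebraicGeometry MorphismProperty
open MonoidalCategory CartesianMonoidalCategory MonObj GrpObj

namespace Groth.Agent.Lib.Helper9.Tors

variable {S : Scheme.{u}} {G X : Over S} [GrpObj G]

/-- The trivialisation morphism `G × T ⟶ X × T`, `(g, t) ↦ (g • s t, t)` attached to a `T`-point
`s` of `X`. -/
noncomputable def trivMap (a : AlgGrp.Action G X) {T : Over S} (s : T ⟶ X) : G ⊗ T ⟶ X ⊗ T :=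
  lift ((G ◁ s) ≫ a.act) (snd G T)

/-- The inverse of the trivialisation morphism of a pseudo-torsor. -/
noncomputable def trivInv (a : AlgGrp.Action G X) [IsIso (lift a.act (snd G X))] {T : Over S}
    (s : T ⟶ X) : X ⊗ T ⟶ G ⊗ T :=
  lift ((X ◁ s) ≫ inv (lift a.act (snd G X)) ≫ fst G X) (snd X T)

theorem trivMap_trivInv (a : AlgGrp.Action G X) [IsIso (lift a.act (snd G X))] {T : Over S}
    (s : T ⟶ X) : trivMap a s ≫ trivInv a s = 𝟙 _ := by
  have key : trivMap a s ≫ (X ◁ s) = (G ◁ s) ≫ lift a.act (snd G X) := by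
    apply CartesianMonoidalCategory.hom_ext <;> simp [trivMap]
  apply CartesianMonoidalCategory.hom_ext
  · simp only [trivInv, Category.assoc, lift_fst, Category.id_comp]
    rw [reassoc_of% key]
    simp
  · simp [trivInv, trivMap]

theorem trivInv_trivMap (a : AlgGrp.Action G X) [IsIso (lift a.act (snd G X))] {T : Over S}
    (s : T ⟶ X) : trivInv a s ≫ trivMap a s = 𝟙 _ := by
  have h1 : inv (lift a.act (snd G X)) ≫ snd G X = snd X X := by
    rw [IsIso.inv_comp_eq, lift_snd]
  have h2 : inv (lift a.act (snd G X)) ≫ a.act = fst X X := by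
    rw [IsIso.inv_comp_eq, lift_fst]
  have key : trivInv a s ≫ (G ◁ s) = (X ◁ s) ≫ inv (lift a.act (snd G X)) := by
    apply CartesianMonoidalCategory.hom_ext
    · simp [trivInv]
    · simp [trivInv, h1]
  apply CartesianMonoidalCategory.hom_ext
  · simp only [trivMap, Category.assoc, lift_fst, Category.id_comp]
    rw [reassoc_of% key, h2]
    simp
  · simp [trivInv, trivMap]

/-- A pseudo-torsor with a `T`-point is trivial over `T`. -/
theorem isIso_trivMap (a : AlgGrp.Action G X) (h : NonAbH1.IsPseudoTorsorSch a) {T : Over S}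
    (s : T ⟶ X) : IsIso (trivMap a s) := by
  have : IsIso (lift a.act (snd G X)) := h
  exact ⟨trivInv a s, trivMap_trivInv a s, trivInv_trivMap a s⟩


/-- The base change square of a morphism over `S` along `φ : S' ⟶ S`. -/
theorem isPullback_whiskerRight {X X' : Over S} (f : X ⟶ X') {S' : Scheme.{u}} (φ : S' ⟶ S) :
    IsPullback (pullback.fst X.hom φ) (f ▷ Over.mk φ).left f.left (pullback.fst X'.hom φ) := by
  have hr := (IsPullback.of_hasPullback X'.hom φ).flip
  have e1 : (f ▷ Over.mk φ).left ≫ pullback.snd X'.hom φ = pullback.snd X.hom φ :=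
    Over.whiskerRight_left_snd f
  have ho : IsPullback (pullback.snd X.hom φ) (pullback.fst X.hom φ) φ (f.left ≫ X'.hom) := by
    have := (IsPullback.of_hasPullback X.hom φ).flip
    simpa using this
  rw [← e1] at ho
  exact (IsPullback.of_right ho (Over.whiskerRight_left_fst f) hr).flip

set_option backward.isDefEq.respectTransparency.types false in
/-- A morphism of `S`-schemes which becomes an isomorphism over each member of an fpqc covering
family of `S` is an isomorphism. -/
theorem isIso_of_isIso_whiskerRight {X X' : Over S} (f : X ⟶ X') {R : Presieve S}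
    (hR : R ∈ Scheme.fpqcPrecoverage S)
    (h : ∀ ⦃S' : Scheme.{u}⦄ (φ : S' ⟶ S), R φ → IsIso (f ▷ Over.mk φ)) : IsIso f := by
  suffices IsIso f.left by
    have : IsIso ((Over.forget S).map f) := this
    exact isIso_of_reflects_iso f (Over.forget S)
  obtain ⟨𝒰, rfl⟩ := R.exists_eq_preZeroHypercover
  let 𝒞 : Scheme.Cover Scheme.fpqcPrecoverage S := ⟨𝒰, hR⟩
  let 𝒱 : Scheme.Cover Scheme.fpqcPrecoverage X'.left := 𝒞.pullback₁ X'.hom
  change isomorphisms Scheme f.left
  refine FpqcLoc.of_fpqcCover (P := isomorphisms Scheme) f.left 𝒱 fun i => ?_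
  have hi : IsIso (f ▷ Over.mk (𝒰.f i)) := h _ ⟨i⟩
  have hi' : isomorphisms Scheme (f ▷ Over.mk (𝒰.f i)).left :=
    inferInstanceAs (IsIso ((Over.forget S).map (f ▷ Over.mk (𝒰.f i))))
  exact FpqcLoc.prop_snd_of_isPullback (isPullback_whiskerRight f (𝒰.f i))
    (IsPullback.of_hasPullback f.left (𝒱.f i)) hi'


theorem trivMap_whiskerRight {X' : Over S} (a : AlgGrp.Action G X) (a' : AlgGrp.Action G X')
    (f : X ⟶ X') (hf : AlgGrp.Action.IsEquivariant a a' f) {T : Over S} (s : T ⟶ X) :
    trivMap a s ≫ (f ▷ T) = trivMap a' (s ≫ f) := by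
  have hf' : a.act ≫ f = (G ◁ f) ≫ a'.act := hf
  apply CartesianMonoidalCategory.hom_ext
  · simp [trivMap, hf']
  · simp [trivMap]

/-- An equivariant morphism from an fpqc torsor to a pseudo-torsor is an isomorphism. -/
theorem isIso_of_isEquivariant {X' : Over S} (a : AlgGrp.Action G X) (a' : AlgGrp.Action G X')
    (ha : NonAbH1.IsTorsorFor Scheme.fpqcPrecoverage a) (ha' : NonAbH1.IsPseudoTorsorSch a')
    (f : X ⟶ X') (hf : AlgGrp.Action.IsEquivariant a a' f) : IsIso f := by
  obtain ⟨hps, R, hR, hsec⟩ := ha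
  refine isIso_of_isIso_whiskerRight f hR fun S' φ hφ => ?_
  obtain ⟨s, hs⟩ := hsec φ hφ
  let s' : Over.mk φ ⟶ X := Over.homMk s hs
  have h1 := isIso_trivMap a hps s'
  have h2 := isIso_trivMap a' ha' (s' ≫ f)
  have e := trivMap_whiskerRight a a' f hf s'
  have : f ▷ Over.mk φ = inv (trivMap a s') ≫ trivMap a' (s' ≫ f) := by
    rw [IsIso.eq_inv_comp, e]
  rw [this]
  infer_instance

end Groth.Agent.Lib.Helper9.Tors
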