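import Groth.Agent.Lib.Helper9.Tors2

set_option autoImplicit false
universe u
open CategoryTheory CategoryTheory.Limits AlgebraicGeometry MorphismProperty
open MonoidalCategory CartesianMonoidalCategory MonObj GrpObj

namespace Groth.Agent.Lib.Helper9.Tors

variable {S : Scheme.{u}} {G X : Over S} [GrpObj G]

section Local

variable (a : AlgGrp.Action G X) {T : Over S} (s : T ⟶ X)

theorem lift_trivMap {A : Over S} (g : A ⟶ G) (t : A ⟶ T) :
    lift g t ≫ trivMap a s = lift (lift g (t ≫ s) ≫ a.act) t := by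
  apply CartesianMonoidalCategory.hom_ext <;> simp [trivMap]

variable [IsIso (trivMap a s)]

/-- The "difference" map `X × T ⟶ G`, `(x, t) ↦ g` with `g • s t = x`. -/
noncomputable def dmap : X ⊗ T ⟶ G := inv (trivMap a s) ≫ fst G T

theorem inv_trivMap_snd : inv (trivMap a s) ≫ snd G T = snd X T := by
  rw [IsIso.inv_comp_eq]; simp [trivMap]

theorem lift_inv_trivMap {A : Over S} (x : A ⟶ X) (t : A ⟶ T) :
    lift x t ≫ inv (trivMap a s) = lift (lift x t ≫ dmap a s) t := by
  apply CartesianMonoidalCategory.hom_ext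
  · simp [dmap]
  · simp [inv_trivMap_snd]

theorem dmap_act {A : Over S} (x : A ⟶ X) (t : A ⟶ T) :
    lift (lift x t ≫ dmap a s) (t ≫ s) ≫ a.act = x := by
  have h : lift x t ≫ inv (trivMap a s) ≫ trivMap a s = lift x t := by simp
  rw [← Category.assoc, lift_inv_trivMap, lift_trivMap] at h
  have := congr($h ≫ fst X T)
  simpa using this

theorem dmap_of_act {A : Over S} (g : A ⟶ G) (t : A ⟶ T) :
    lift (lift g (t ≫ s) ≫ a.act) t ≫ dmap a s = g := by
  have h : lift g t ≫ trivMap a s ≫ inv (trivMap a s) = lift g t := by simp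
  rw [← Category.assoc, lift_trivMap, lift_inv_trivMap] at h
  have := congr($h ≫ fst G T)
  simpa using this

theorem dmap_mul {A : Over S} (g : A ⟶ G) (x : A ⟶ X) (t : A ⟶ T) :
    lift (lift g x ≫ a.act) t ≫ dmap a s = g * (lift x t ≫ dmap a s) := by
  conv_lhs => rw [← dmap_act a s x t]
  rw [← AlgGrp.Action.lift_mul_act, dmap_of_act]


/-- The inverse of the base change to `T` of the shear map, built from a trivialisation. -/
noncomputable def shearInv : (X ⊗ X) ⊗ T ⟶ (G ⊗ X) ⊗ T :=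
  lift (lift ((lift (fst _ _ ≫ fst X X) (snd _ _) ≫ dmap a s) *
    (lift (fst _ _ ≫ snd X X) (snd _ _) ≫ dmap a s)⁻¹) (fst _ _ ≫ snd X X)) (snd _ _)

theorem lift_shearInv {A : Over S} (y x : A ⟶ X) (t : A ⟶ T) :
    lift (lift y x) t ≫ shearInv a s =
      lift (lift ((lift y t ≫ dmap a s) * (lift x t ≫ dmap a s)⁻¹) x) t := by
  simp [shearInv, comp_mul, comp_inv, comp_lift_assoc]

omit [IsIso (trivMap a s)] in
theorem lift_shear_whiskerRight {A : Over S} (g : A ⟶ G) (x : A ⟶ X) (t : A ⟶ T) :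
    lift (lift g x) t ≫ ((lift a.act (snd G X)) ▷ T) = lift (lift (lift g x ≫ a.act) x) t := by
  simp

include s in
theorem isIso_shear_whiskerRight : IsIso ((lift a.act (snd G X)) ▷ T) := by
  refine ⟨shearInv a s, ?_, ?_⟩
  · apply AlgGrp.Action.hom_ext_lift₃
    intro A g x t
    rw [← Category.assoc, lift_shear_whiskerRight, lift_shearInv, dmap_mul]
    simp
  · apply AlgGrp.Action.hom_ext_lift₃
    intro A y x t
    rw [← Category.assoc, lift_shearInv, lift_shear_whiskerRight]
    conv_lhs => enter [1, 1, 1, 2]; rw [← dmap_act a s x t]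
    rw [← AlgGrp.Action.lift_mul_act]
    simp [dmap_act]

end Local


/-- fpqc torsors are the actions which are fpqc-locally trivial. -/
theorem isTorsorFor_fpqc_iff (a : AlgGrp.Action G X) :
    NonAbH1.IsTorsorFor Scheme.fpqcPrecoverage a ↔
      ∃ R ∈ Scheme.fpqcPrecoverage S, ∀ ⦃S' : Scheme.{u}⦄ (f : S' ⟶ S), R f →
        ∃ s : Over.mk f ⟶ X, IsIso (trivMap a s) := by
  constructor
  · rintro ⟨hps, R, hR, hsec⟩
    refine ⟨R, hR, fun S' f hf => ?_⟩
    obtain ⟨s, hs⟩ := hsec f hf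
    exact ⟨Over.homMk s hs, isIso_trivMap a hps _⟩
  · rintro ⟨R, hR, h⟩
    refine ⟨?_, R, hR, fun S' f hf => ?_⟩
    · refine isIso_of_isIso_whiskerRight (lift a.act (snd G X)) hR fun S' φ hφ => ?_
      obtain ⟨s, hs⟩ := h φ hφ
      exact isIso_shear_whiskerRight a s
    · obtain ⟨s, -⟩ := h f hf
      exact ⟨s.left, Over.w s⟩

end Groth.Agent.Lib.Helper9.Tors
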