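import Groth.Agent.Lib.Helper9.Tors3
import Groth.Prelude.Def_ActBC

set_option autoImplicit false
universe u
open CategoryTheory CategoryTheory.Limits AlgebraicGeometry MorphismProperty
open MonoidalCategory CartesianMonoidalCategory MonObj GrpObj

namespace Groth.Agent.Lib.Helper9.Tors

variable {S S' : Scheme.{u}} (f : S' ⟶ S) {G X : Over S} [GrpObj G]

theorem whiskerRight_left_eq {Y Y' : Over S} (g : Y ⟶ Y') :
    (g ▷ Over.mk f).left = ((Over.pullback f).map g).left := by
  apply pullback.hom_ext
  · refine (Over.whiskerRight_left_fst g).trans ?_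
    exact (pullback.lift_fst _ _ _).symm
  · refine (Over.whiskerRight_left_snd g).trans ?_
    exact (pullback.lift_snd _ _ _).symm

theorem isIso_whiskerRight_of_isIso_pullback_map {Y Y' : Over S} (g : Y ⟶ Y')
    [h : IsIso ((Over.pullback f).map g)] : IsIso (g ▷ Over.mk f) := by
  have h1 : IsIso ((Over.pullback f).map g).left :=
    inferInstanceAs (IsIso ((Over.forget S').map ((Over.pullback f).map g)))
  rw [← whiskerRight_left_eq] at h1
  have : IsIso ((Over.forget S).map (g ▷ Over.mk f)) := h1
  exact isIso_of_reflects_iso _ (Over.forget S)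

/-- The torsor property descends along a faithfully flat quasi-compact base change. -/
theorem isTorsorFor_of_bc [Flat f] [Surjective f] [QuasiCompact f] (a : AlgGrp.Action G X)
    (h : NonAbH1.IsTorsorFor Scheme.fpqcPrecoverage (a.bc f)) :
    NonAbH1.IsTorsorFor Scheme.fpqcPrecoverage a := by
  obtain ⟨hps, R, hR, hsec⟩ := h
  refine ⟨?_, ?_⟩
  · have key : lift (a.bc f).act (snd _ _) ≫ Functor.LaxMonoidal.μ (Over.pullback f) X X =
        Functor.LaxMonoidal.μ (Over.pullback f) G X ≫
          (Over.pullback f).map (lift a.act (snd G X)) := by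
      rw [← Functor.Monoidal.lift_μ, comp_lift_assoc, Functor.Monoidal.μ_snd,
        AlgGrp.Action.bc_act]
    have h0 : IsIso (lift (a.bc f).act (snd _ _)) := hps
    have h1 : IsIso ((Over.pullback f).map (lift a.act (snd G X))) := by
      have : (Over.pullback f).map (lift a.act (snd G X)) =
          inv (Functor.LaxMonoidal.μ (Over.pullback f) G X) ≫
            lift (a.bc f).act (snd _ _) ≫ Functor.LaxMonoidal.μ (Over.pullback f) X X := by
        rw [IsIso.eq_inv_comp, key]
      rw [this]; infer_instance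
    have h2 := isIso_whiskerRight_of_isIso_pullback_map f (lift a.act (snd G X))
    refine isIso_of_isIso_whiskerRight (lift a.act (snd G X))
      (Scheme.Hom.singleton_mem_fpqcPrecoverage f) ?_
    rintro T φ ⟨⟩
    exact h2
  · obtain ⟨𝒰, rfl⟩ := R.exists_eq_preZeroHypercover
    let E : Precoverage.ZeroHypercover.{0} Scheme.fpqcPrecoverage S :=
      Precoverage.ZeroHypercover.singleton f (Scheme.Hom.singleton_mem_fpqcPrecoverage f)
    let F : ∀ i : E.I₀, Scheme.fpqcPrecoverage.ZeroHypercover (E.X i) := fun _ => ⟨𝒰, hR⟩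
    refine ⟨(E.bind F).presieve₀, (E.bind F).mem₀, ?_⟩
    rintro T g ⟨⟨i, j⟩⟩
    obtain ⟨s, hs⟩ := hsec (𝒰.f j) ⟨j⟩
    refine ⟨s ≫ pullback.fst X.hom f, ?_⟩
    have hs' : s ≫ pullback.snd X.hom f = 𝒰.f j := hs
    change (s ≫ pullback.fst X.hom f) ≫ X.hom = 𝒰.f j ≫ f
    rw [Category.assoc, pullback.condition, reassoc_of% hs']

end Groth.Agent.Lib.Helper9.Tors
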