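import Mathlib
import Groth.Agent.Lib.Helper9.HopfPt

set_option autoImplicit false
set_option linter.style.haveILetI false
set_option linter.unusedSectionVars false
set_option linter.unusedVariables false

universe u

open TensorProduct Coalgebra Bialgebra Groth.Agent.Lib.Helper24.HopfFF

namespace Groth.Agent.Lib.Helper9.TorsAlg

variable (k : Type u) [Field k] (A C : Type u) [CommRing A] [CommRing C] [HopfAlgebra k A]
  [Algebra k C]

/-- the opposite comultiplication -/
noncomputable def comulOp : A →ₐ[k] A ⊗[k] A :=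
  (Algebra.TensorProduct.comm k A A : A ⊗[k] A →ₐ[k] A ⊗[k] A).comp (comulAlgHom k A)

variable {k A C}

/-- the map `Θ : C ⊗ C → C ⊗ A`, `r ⊗ c ↦ (r ⊗ 1) ρ(c)` -/
noncomputable def theta {D : Type u} [CommRing D] [Algebra k D] {B : Type u} [CommRing B]
    [Algebra k B] (ρ : D →ₐ[k] C ⊗[k] B) : C ⊗[k] D →ₐ[C] C ⊗[k] B :=
  Algebra.TensorProduct.lift (Algebra.ofId C (C ⊗[k] B)) ρ (fun _ _ => Commute.all _ _)

theorem theta_tmul {D : Type u} [CommRing D] [Algebra k D] {B : Type u} [CommRing B]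
    [Algebra k B] (ρ : D →ₐ[k] C ⊗[k] B) (r : C) (c : D) :
    theta ρ (r ⊗ₜ[k] c) = (r ⊗ₜ[k] (1 : B)) * ρ c := by
  simp [theta, Algebra.ofId_apply, Algebra.TensorProduct.algebraMap_apply]

variable (k A C) in
/-- a torsor algebra under the Hopf algebra `A` (for the opposite comultiplication) -/
structure TorsorAlg where
  ρ : C →ₐ[k] C ⊗[k] A
  counit : ∀ c, Algebra.TensorProduct.lift (AlgHom.id k C)
    ((Algebra.ofId k C).comp (counitAlgHom k A)) (fun _ _ => Commute.all _ _) (ρ c) = c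
  coassoc : ∀ c, Algebra.TensorProduct.map ρ (AlgHom.id k A) (ρ c) =
    (Algebra.TensorProduct.assoc k k k C A A).symm
      (Algebra.TensorProduct.map (AlgHom.id k C) (comulOp k A) (ρ c))
  bij : Function.Bijective (theta ρ)

/-- `C ⊗ B → C ⊗ A` for a subalgebra `B` of `A`. -/
noncomputable def lC (B : Subalgebra k A) : C ⊗[k] ↥B →ₐ[C] C ⊗[k] A :=
  Algebra.TensorProduct.map (AlgHom.id C C) B.val

theorem lC_tmul (B : Subalgebra k A) (c : C) (b : B) : lC (C := C) B (c ⊗ₜ b) = c ⊗ₜ (b : A) := rfl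

theorem lC_eq_lTensor (B : Subalgebra k A) :
    ⇑(lC (C := C) B) = ⇑(LinearMap.lTensor C B.val.toLinearMap) := by
  funext z
  induction z using TensorProduct.induction_on with
  | zero => simp
  | tmul a b => rfl
  | add z₁ z₂ h₁ h₂ => rw [map_add, map_add, h₁, h₂]

theorem lC_injective (B : Subalgebra k A) : Function.Injective (lC (C := C) B) := by
  rw [lC_eq_lTensor]
  exact Module.Flat.lTensor_preserves_injective_linearMap _ Subtype.val_injective

theorem lC_range_mono {B₁ B₂ : Subalgebra k A} (h : B₁ ≤ B₂) :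
    (lC (C := C) B₁).range ≤ (lC (C := C) B₂).range := by
  rintro _ ⟨z, rfl⟩
  refine ⟨Algebra.TensorProduct.map (AlgHom.id C C) (Subalgebra.inclusion h) z, ?_⟩
  induction z using TensorProduct.induction_on with
  | zero => simp
  | tmul a b => rfl
  | add z₁ z₂ h₁ h₂ => rw [map_add, map_add, map_add, h₁, h₂]

/-- the quotient map `A → A/B` of vector spaces -/
noncomputable abbrev piB (B : Subalgebra k A) : A →ₗ[k] A ⧸ (Subalgebra.toSubmodule B) :=
  (Subalgebra.toSubmodule B).mkQ

theorem mem_lC_range_iff (B : Subalgebra k A) (w : C ⊗[k] A) :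
    w ∈ (lC (C := C) B).range ↔ LinearMap.lTensor C (piB B) w = 0 := by
  have hex : Function.Exact (LinearMap.lTensor C (Subalgebra.toSubmodule B).subtype)
      (LinearMap.lTensor C (piB B)) :=
    lTensor_exact C (LinearMap.exact_subtype_mkQ _) (Submodule.mkQ_surjective _)
  rw [hex w]
  constructor
  · rintro ⟨z, rfl⟩
    refine ⟨z, ?_⟩
    exact (congrFun (lC_eq_lTensor (C := C) B) z).symm
  · rintro ⟨z, rfl⟩
    refine ⟨z, ?_⟩
    exact congrFun (lC_eq_lTensor (C := C) B) z

namespace TorsorAlg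

variable (T : TorsorAlg k A C)

/-- the subalgebra `C_B` of `C`: elements whose coaction lies in `C ⊗ B` -/
noncomputable def CB (B : Subalgebra k A) : Subalgebra k C :=
  Subalgebra.comap T.ρ ((lC (C := C) B).range.restrictScalars k)

theorem mem_CB (B : Subalgebra k A) (c : C) : c ∈ T.CB B ↔ T.ρ c ∈ (lC (C := C) B).range := Iff.rfl

theorem CB_mono {B₁ B₂ : Subalgebra k A} (h : B₁ ≤ B₂) : T.CB B₁ ≤ T.CB B₂ :=
  fun c hc => lC_range_mono h hc

theorem CB_top : T.CB ⊤ = ⊤ := by
  rw [eq_top_iff]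
  rintro c -
  rw [mem_CB]
  have : Function.Surjective (lC (C := C) (⊤ : Subalgebra k A)) := by
    intro w
    induction w using TensorProduct.induction_on with
    | zero => exact ⟨0, map_zero _⟩
    | tmul c a => exact ⟨c ⊗ₜ ⟨a, Algebra.mem_top⟩, rfl⟩
    | add z₁ z₂ h₁ h₂ =>
      obtain ⟨w₁, rfl⟩ := h₁
      obtain ⟨w₂, rfl⟩ := h₂
      exact ⟨w₁ + w₂, map_add _ _ _⟩
  exact this _

end TorsorAlg

end Groth.Agent.Lib.Helper9.TorsAlg
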