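import Mathlib
import Groth.Agent.Lib.Helper9.TorsAlg1

set_option autoImplicit false
set_option linter.style.haveILetI false
set_option linter.unusedSectionVars false
set_option linter.unusedVariables false

universe u

open TensorProduct Coalgebra Bialgebra Groth.Agent.Lib.Helper24.HopfFF

namespace Groth.Agent.Lib.Helper9.TorsAlg

variable {k : Type u} [Field k] {A C : Type u} [CommRing A] [CommRing C] [HopfAlgebra k A]
  [Algebra k C]

namespace TorsorAlg

variable (T : TorsorAlg k A C) (B : Subalgebra k A)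

/-- restricted coaction `C_B → C ⊗ B` -/
noncomputable def rhoB : ↥(T.CB B) →ₐ[k] C ⊗[k] ↥B :=
  ((AlgEquiv.ofInjective ((lC (C := C) B).restrictScalars k) (lC_injective B)).symm :
      _ →ₐ[k] _).comp
    ((T.ρ.comp (T.CB B).val).codRestrict ((lC (C := C) B).restrictScalars k).range
      (fun c => by obtain ⟨w, hw⟩ := c.2; exact ⟨w, hw⟩))

theorem lC_rhoB (c : T.CB B) : lC B (T.rhoB B c) = T.ρ c := by
  have h := (AlgEquiv.ofInjective ((lC (C := C) B).restrictScalars k)
    (lC_injective B)).apply_symm_apply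
    ((T.ρ.comp (T.CB B).val).codRestrict ((lC (C := C) B).restrictScalars k).range
      (fun c => by obtain ⟨w, hw⟩ := c.2; exact ⟨w, hw⟩) c)
  have h2 := congrArg Subtype.val h
  exact h2

/-- `Θ_B : C ⊗ C_B → C ⊗ B` -/
noncomputable def thetaB : C ⊗[k] ↥(T.CB B) →ₐ[C] C ⊗[k] ↥B := theta (T.rhoB B)

/-- `C ⊗ C_B → C ⊗ C` -/
noncomputable def lCC : C ⊗[k] ↥(T.CB B) →ₐ[C] C ⊗[k] C :=
  Algebra.TensorProduct.map (AlgHom.id C C) (T.CB B).val

theorem lCC_tmul (r : C) (c : T.CB B) : T.lCC B (r ⊗ₜ c) = r ⊗ₜ (c : C) := rfl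

theorem lCC_eq_lTensor :
    ⇑(T.lCC B) = ⇑(LinearMap.lTensor C (T.CB B).val.toLinearMap) := by
  funext z
  induction z using TensorProduct.induction_on with
  | zero => simp
  | tmul a b => rfl
  | add z₁ z₂ h₁ h₂ => rw [map_add, map_add, h₁, h₂]

theorem lCC_injective : Function.Injective (T.lCC B) := by
  rw [lCC_eq_lTensor]
  exact Module.Flat.lTensor_preserves_injective_linearMap _ Subtype.val_injective

theorem lC_thetaB (z : C ⊗[k] ↥(T.CB B)) : lC B (T.thetaB B z) = theta T.ρ (T.lCC B z) := by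
  induction z using TensorProduct.induction_on with
  | zero => simp
  | tmul r c =>
    rw [thetaB, theta_tmul, map_mul, lC_rhoB, lCC_tmul, theta_tmul]
    rfl
  | add z₁ z₂ h₁ h₂ => rw [map_add, map_add, map_add, map_add, h₁, h₂]

theorem thetaB_injective : Function.Injective (T.thetaB B) := by
  intro z₁ z₂ h
  apply T.lCC_injective B
  apply T.bij.1
  rw [← lC_thetaB, ← lC_thetaB, h]

section L3

/-- `ψ_B : C → C ⊗ A/B` -/
noncomputable def psiB : C →ₗ[k] C ⊗[k] (A ⧸ (Subalgebra.toSubmodule B)) :=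
  LinearMap.lTensor C (piB B) ∘ₗ T.ρ.toLinearMap

theorem psiB_apply (c : C) : T.psiB B c = LinearMap.lTensor C (piB B) (T.ρ c) := rfl

theorem exact_val_psiB : Function.Exact (T.CB B).val.toLinearMap (T.psiB B) := by
  intro c
  rw [psiB_apply, ← mem_lC_range_iff]
  constructor
  · intro h
    exact ⟨⟨c, h⟩, rfl⟩
  · rintro ⟨c', rfl⟩
    exact c'.2

theorem exact_lCC_psiB :
    Function.Exact (T.lCC B) (LinearMap.lTensor C (T.psiB B)) := by
  rw [lCC_eq_lTensor]
  exact Module.Flat.lTensor_exact C (T.exact_val_psiB B)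

/-- the map `E : C ⊗ A → (C ⊗ A) ⊗ A/B`, `c ⊗ a ↦ (c ⊗ a₂) ⊗ π(a₁)` -/
noncomputable def EB : C ⊗[k] A →ₗ[k] (C ⊗[k] A) ⊗[k] (A ⧸ (Subalgebra.toSubmodule B)) :=
  LinearMap.lTensor (C ⊗[k] A) (piB B) ∘ₗ
    (Algebra.TensorProduct.assoc k k k C A A).symm.toLinearMap ∘ₗ
    (Algebra.TensorProduct.map (AlgHom.id k C) (comulOp k A)).toLinearMap

/-- `Λ_r` -/
noncomputable def LamB (r : C) :
    (C ⊗[k] A) ⊗[k] A →ₗ[k] (C ⊗[k] A) ⊗[k] (A ⧸ (Subalgebra.toSubmodule B)) :=
  TensorProduct.map (LinearMap.mulLeft k (r ⊗ₜ[k] (1 : A))) (piB B)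

/-- `Θ ⊗ id` -/
noncomputable def thetaQ :
    (C ⊗[k] C) ⊗[k] (A ⧸ (Subalgebra.toSubmodule B)) →ₗ[k]
      (C ⊗[k] A) ⊗[k] (A ⧸ (Subalgebra.toSubmodule B)) :=
  LinearMap.rTensor _ ((theta T.ρ).toLinearMap.restrictScalars k)

theorem thetaQ_injective : Function.Injective (T.thetaQ B) :=
  Module.Flat.rTensor_preserves_injective_linearMap _ T.bij.1

theorem step_a (r : C) (w : C ⊗[k] A) :
    T.thetaQ B ((TensorProduct.assoc k C C _).symm (r ⊗ₜ LinearMap.lTensor C (piB B) w)) =
      LamB B r (Algebra.TensorProduct.map T.ρ (AlgHom.id k A) w) := by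
  induction w using TensorProduct.induction_on with
  | zero => simp
  | tmul c a =>
    simp only [LinearMap.lTensor_tmul, TensorProduct.assoc_symm_tmul, thetaQ,
      LinearMap.rTensor_tmul, Algebra.TensorProduct.map_tmul, LamB, TensorProduct.map_tmul]
    simp [theta_tmul]
  | add z₁ z₂ h₁ h₂ =>
    rw [map_add, tmul_add, map_add, map_add, map_add, map_add, h₁, h₂]

theorem step_c (r c : C) (v : A ⊗[k] A) :
    LinearMap.lTensor (C ⊗[k] A) (piB B)
      ((Algebra.TensorProduct.assoc k k k C A A).symm ((r * c) ⊗ₜ v)) =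
    LamB B r ((Algebra.TensorProduct.assoc k k k C A A).symm (c ⊗ₜ v)) := by
  induction v using TensorProduct.induction_on with
  | zero => simp
  | tmul a₁ a₂ =>
    simp [LamB]
  | add z₁ z₂ h₁ h₂ =>
    rw [tmul_add, map_add, map_add, tmul_add, map_add, map_add, h₁, h₂]

theorem step_b (r : C) (w : C ⊗[k] A) :
    EB B ((r ⊗ₜ[k] (1 : A)) * w) =
      LamB B r ((Algebra.TensorProduct.assoc k k k C A A).symm
        (Algebra.TensorProduct.map (AlgHom.id k C) (comulOp k A) w)) := by
  induction w using TensorProduct.induction_on with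
  | zero => simp
  | tmul c a =>
    simp only [Algebra.TensorProduct.tmul_mul_tmul, one_mul, EB, LinearMap.coe_comp,
      Function.comp_apply, AlgHom.toLinearMap_apply, Algebra.TensorProduct.map_tmul,
      AlgHom.coe_id, id_eq, AlgEquiv.toLinearMap_apply]
    exact step_c B r c _
  | add z₁ z₂ h₁ h₂ =>
    rw [mul_add, map_add, map_add, map_add, map_add, h₁, h₂]

theorem step_main (z : C ⊗[k] C) :
    T.thetaQ B ((TensorProduct.assoc k C C _).symm (LinearMap.lTensor C (T.psiB B) z)) =
      EB B (theta T.ρ z) := by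
  induction z using TensorProduct.induction_on with
  | zero => simp
  | tmul r c =>
    rw [LinearMap.lTensor_tmul, psiB_apply, step_a, T.coassoc, ← step_b, theta_tmul]
  | add z₁ z₂ h₁ h₂ =>
    rw [map_add, map_add, map_add, map_add, map_add, h₁, h₂]

theorem step_d (c : C) (v : ↥B ⊗[k] ↥B) :
    LinearMap.lTensor (C ⊗[k] A) (piB B)
      ((Algebra.TensorProduct.assoc k k k C A A).symm
        (c ⊗ₜ (Algebra.TensorProduct.map B.val B.val v))) = 0 := by
  induction v using TensorProduct.induction_on with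
  | zero => simp
  | tmul b₁ b₂ =>
    simp only [Algebra.TensorProduct.map_tmul, Subalgebra.coe_val,
      Algebra.TensorProduct.assoc_symm_tmul, LinearMap.lTensor_tmul]
    have : piB B (b₂ : A) = 0 := by
      rw [Submodule.mkQ_apply, Submodule.Quotient.mk_eq_zero]
      exact b₂.2
    rw [this, tmul_zero]
  | add z₁ z₂ h₁ h₂ =>
    rw [map_add, tmul_add, map_add, map_add, h₁, h₂, add_zero]

theorem EB_lC (hB : IsSub B) (w : C ⊗[k] ↥B) : EB B (lC (C := C) B w) = 0 := by
  induction w using TensorProduct.induction_on with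
  | zero => simp
  | tmul c b =>
    have hcomm : ∀ v : ↥B ⊗[k] ↥B,
        Algebra.TensorProduct.comm k A A (Algebra.TensorProduct.map B.val B.val v) =
          Algebra.TensorProduct.map B.val B.val (Algebra.TensorProduct.comm k ↥B ↥B v) := by
      intro v
      induction v using TensorProduct.induction_on with
      | zero => simp
      | tmul x y => rfl
      | add z₁ z₂ h₁ h₂ => simp only [map_add, h₁, h₂]
    obtain ⟨v, hv⟩ := hB.comul_mem b b.2
    have h1 : comulOp k A (b : A) = Algebra.TensorProduct.map B.val B.val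
        (Algebra.TensorProduct.comm k ↥B ↥B v) := by
      rw [comulOp, AlgHom.comp_apply]
      show Algebra.TensorProduct.comm k A A (comul (R := k) (b : A)) = _
      rw [← hv]
      exact hcomm v
    rw [lC_tmul]
    simp only [EB, LinearMap.coe_comp, Function.comp_apply, AlgHom.toLinearMap_apply,
      Algebra.TensorProduct.map_tmul, AlgHom.coe_id, id_eq, AlgEquiv.toLinearMap_apply]
    rw [h1]
    exact step_d B c _
  | add z₁ z₂ h₁ h₂ =>
    rw [map_add, map_add, h₁, h₂, add_zero]

theorem thetaB_surjective (hB : IsSub B) : Function.Surjective (T.thetaB B) := by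
  intro w
  obtain ⟨z, hz⟩ := T.bij.2 (lC B w)
  have h0 : LinearMap.lTensor C (T.psiB B) z = 0 := by
    apply (TensorProduct.assoc k C C _).symm.injective
    apply T.thetaQ_injective B
    rw [step_main, hz, EB_lC B hB, map_zero, map_zero]
  obtain ⟨z', hz'⟩ := (T.exact_lCC_psiB B z).1 h0
  refine ⟨z', ?_⟩
  apply lC_injective B
  rw [lC_thetaB, hz', hz]

/-- `Θ_B` as an algebra isomorphism -/
noncomputable def thetaBEquiv (hB : IsSub B) : C ⊗[k] ↥(T.CB B) ≃ₐ[C] C ⊗[k] ↥B :=
  AlgEquiv.ofBijective (T.thetaB B) ⟨T.thetaB_injective B, T.thetaB_surjective B hB⟩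

end L3

end TorsorAlg

end Groth.Agent.Lib.Helper9.TorsAlg
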