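import Mathlib
import Groth.Agent.Lib.Helper9.TorsAlg2

set_option autoImplicit false
set_option linter.style.haveILetI false
set_option linter.unusedSectionVars false
set_option linter.unusedVariables false

universe u

open TensorProduct Coalgebra Bialgebra Groth.Agent.Lib.Helper24.HopfFF

namespace Groth.Agent.Lib.Helper9.TorsAlg

variable {k : Type u} [Field k] {A C : Type u} [CommRing A] [CommRing C] [HopfAlgebra k A]
  [Algebra k C]

namespace TorsorAlg

variable (T : TorsorAlg k A C)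

section compat

variable {B B' : Subalgebra k A} (hle : B ≤ B')

/-- `C ⊗ C_B → C ⊗ C_B'` -/
noncomputable def iotaD : C ⊗[k] ↥(T.CB B) →ₐ[C] C ⊗[k] ↥(T.CB B') :=
  Algebra.TensorProduct.map (AlgHom.id C C) (Subalgebra.inclusion (T.CB_mono hle))

/-- `C ⊗ B → C ⊗ B'` -/
noncomputable def iotaB : C ⊗[k] ↥B →ₐ[C] C ⊗[k] ↥B' :=
  Algebra.TensorProduct.map (AlgHom.id C C) (Subalgebra.inclusion hle)

theorem lCC_iotaD (z : C ⊗[k] ↥(T.CB B)) : T.lCC B' (T.iotaD hle z) = T.lCC B z := by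
  induction z using TensorProduct.induction_on with
  | zero => simp
  | tmul r c => rfl
  | add z₁ z₂ h₁ h₂ => rw [map_add, map_add, map_add, h₁, h₂]

theorem lC_iotaB (w : C ⊗[k] ↥B) : lC (C := C) B' (iotaB hle w) = lC B w := by
  induction w using TensorProduct.induction_on with
  | zero => simp
  | tmul r c => rfl
  | add z₁ z₂ h₁ h₂ => rw [map_add, map_add, map_add, h₁, h₂]

theorem thetaB_iotaD (z : C ⊗[k] ↥(T.CB B)) :
    T.thetaB B' (T.iotaD hle z) = iotaB hle (T.thetaB B z) := by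
  apply lC_injective B'
  rw [lC_thetaB, lCC_iotaD, lC_iotaB, lC_thetaB]

end compat

/-- the character `C ⊗ C_B → C` induced by a point `x` of `C_B` -/
noncomputable def chi {B : Subalgebra k A} (x : ↥(T.CB B) →ₐ[k] k) :
    C ⊗[k] ↥(T.CB B) →ₐ[C] C :=
  Algebra.TensorProduct.lift (AlgHom.id C C) ((Algebra.ofId k C).comp x)
    (fun _ _ => Commute.all _ _)

theorem chi_tmul {B : Subalgebra k A} (x : ↥(T.CB B) →ₐ[k] k) (r : C) (d : T.CB B) :
    T.chi x (r ⊗ₜ d) = r * algebraMap k C (x d) := by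
  simp [chi, Algebra.ofId_apply]

section step

variable {B : Subalgebra k A} (hB : IsSub B) (x : ↥(T.CB B) →ₐ[k] k)

/-- `β : C ⊗ B → C` -/
noncomputable def beta : C ⊗[k] ↥B →ₐ[C] C :=
  (T.chi x).comp ((T.thetaBEquiv B hB).symm : C ⊗[k] ↥B →ₐ[C] C ⊗[k] ↥(T.CB B))

theorem beta_thetaB (z : C ⊗[k] ↥(T.CB B)) : T.beta hB x (T.thetaB B z) = T.chi x z := by
  have : (T.thetaBEquiv B hB).symm (T.thetaB B z) = z :=
    (T.thetaBEquiv B hB).symm_apply_apply z
  rw [beta, AlgHom.comp_apply]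
  show T.chi x ((T.thetaBEquiv B hB).symm (T.thetaB B z)) = _
  rw [this]

theorem beta_rhoB (d : T.CB B) : T.beta hB x (T.rhoB B d) = algebraMap k C (x d) := by
  have h : T.thetaB B (1 ⊗ₜ d) = T.rhoB B d := by
    rw [thetaB, theta_tmul]
    show (1 : C ⊗[k] ↥B) * _ = _
    rw [one_mul]
  rw [← h, beta_thetaB, chi_tmul, one_mul]

/-- the algebra map `B → C` -/
noncomputable def phiB : ↥B →ₐ[k] C :=
  ((T.beta hB x).restrictScalars k).comp Algebra.TensorProduct.includeRight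

theorem beta_eq (w : C ⊗[k] ↥B) :
    T.beta hB x w = Algebra.TensorProduct.lift (AlgHom.id C C) (T.phiB hB x)
      (fun _ _ => Commute.all _ _) w := by
  induction w using TensorProduct.induction_on with
  | zero => simp
  | tmul c b =>
    rw [Algebra.TensorProduct.lift_tmul]
    have : c ⊗ₜ[k] b = c • ((1 : C) ⊗ₜ[k] b) := by
      rw [TensorProduct.smul_tmul', smul_eq_mul, mul_one]
    rw [this, map_smul]
    rfl
  | add z₁ z₂ h₁ h₂ => rw [map_add, map_add, h₁, h₂]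

include hB in
theorem map_ker_ne_top [Nontrivial C] {B' : Subalgebra k A} (hle : B ≤ B') :
    Ideal.map (Subalgebra.inclusion (T.CB_mono hle) : ↥(T.CB B) →+* ↥(T.CB B'))
      (RingHom.ker (x : ↥(T.CB B) →+* k)) ≠ ⊤ := by
  letI : Algebra ↥B C := (T.phiB hB x).toRingHom.toAlgebra
  haveI : IsScalarTower k ↥B C := IsScalarTower.of_algebraMap_eq
    (fun r => ((T.phiB hB x).commutes r).symm)
  haveI hff : Module.FaithfullyFlat ↥B A := faithfullyFlat_of_isSub hB
  haveI : Nontrivial (A ⊗[↥B] C) := Module.FaithfullyFlat.lTensor_nontrivial _ _ _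
  let q : C ⊗[k] A →ₐ[k] A ⊗[↥B] C :=
    Algebra.TensorProduct.lift
      ((Algebra.TensorProduct.includeRight : C →ₐ[↥B] A ⊗[↥B] C).restrictScalars k)
      ((Algebra.TensorProduct.includeLeft : A →ₐ[↥B] A ⊗[↥B] C).restrictScalars k)
      (fun _ _ => Commute.all _ _)
  have hq : ∀ w : C ⊗[k] ↥B, q (lC B w) = (1 : A) ⊗ₜ[↥B] (T.beta hB x w) := by
    intro w
    induction w using TensorProduct.induction_on with
    | zero => simp
    | tmul c b =>
      rw [lC_tmul, beta_eq, Algebra.TensorProduct.lift_tmul, Algebra.TensorProduct.lift_tmul]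
      simp only [AlgHom.coe_restrictScalars', Algebra.TensorProduct.includeRight_apply,
        Algebra.TensorProduct.includeLeft_apply, Algebra.TensorProduct.tmul_mul_tmul, one_mul,
        mul_one, AlgHom.coe_id, id_eq]
      have h1 : ((b : A) ⊗ₜ[↥B] c : A ⊗[↥B] C) = (1 : A) ⊗ₜ[↥B] (b • c) := by
        rw [← TensorProduct.smul_tmul]
        congr 1
        rw [Algebra.smul_def, mul_one]
        rfl
      rw [h1, Algebra.smul_def, mul_comm]
      rfl
    | add z₁ z₂ h₁ h₂ => rw [map_add, map_add, map_add, tmul_add, h₁, h₂]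
  let γ : ↥(T.CB B') →+* A ⊗[↥B] C :=
    (q : C ⊗[k] A →+* A ⊗[↥B] C).comp ((T.ρ : C →+* C ⊗[k] A).comp (T.CB B').val.toRingHom)
  have hγ : Ideal.map (Subalgebra.inclusion (T.CB_mono hle) : ↥(T.CB B) →+* ↥(T.CB B'))
      (RingHom.ker (x : ↥(T.CB B) →+* k)) ≤ RingHom.ker γ := by
    rw [Ideal.map_le_iff_le_comap]
    intro d hd
    rw [RingHom.mem_ker] at hd
    rw [Ideal.mem_comap, RingHom.mem_ker]
    show q (T.ρ (d : C)) = 0
    rw [← lC_rhoB, hq, beta_rhoB]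
    have : x d = 0 := hd
    rw [this, map_zero, tmul_zero]
  exact ne_top_of_le_ne_top (RingHom.ker_ne_top γ) hγ

/-- the ideal of `C_{B'}` generated by the kernel of `x` -/
noncomputable abbrev stepIdeal {B' : Subalgebra k A} (hle : B ≤ B') : Ideal ↥(T.CB B') :=
  Ideal.map (Subalgebra.inclusion (T.CB_mono hle) : ↥(T.CB B) →+* ↥(T.CB B'))
    (RingHom.ker (x : ↥(T.CB B) →+* k))

theorem mk_stepIdeal {B' : Subalgebra k A} (hle : B ≤ B') (c : T.CB B) :
    Ideal.Quotient.mk (T.stepIdeal x hle) (Subalgebra.inclusion (T.CB_mono hle) c) =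
      algebraMap k (↥(T.CB B') ⧸ T.stepIdeal x hle) (x c) := by
  have hmem : c - algebraMap k _ (x c) ∈ RingHom.ker (x : ↥(T.CB B) →+* k) := by
    rw [RingHom.mem_ker]
    simp
  have h1 : (Subalgebra.inclusion (T.CB_mono hle) : ↥(T.CB B) →+* ↥(T.CB B'))
      (c - algebraMap k _ (x c)) ∈ T.stepIdeal x hle := Ideal.mem_map_of_mem _ hmem
  have h2 := (Ideal.Quotient.eq_zero_iff_mem (I := T.stepIdeal x hle)).2 h1
  rw [map_sub, map_sub, sub_eq_zero] at h2
  refine (show _ = _ from h2).trans ?_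
  show Ideal.Quotient.mk _ ((Subalgebra.inclusion (T.CB_mono hle))
    (algebraMap k ↥(T.CB B) (x c))) = _
  rw [AlgHom.commutes]
  rfl

include hB in
theorem finiteType_step [Nontrivial C] {B' : Subalgebra k A}
    (hB' : IsSub B') (hle : B ≤ B') (S : Finset A)
    (hS : B' ≤ B ⊔ Algebra.adjoin k (S : Set A)) (hSB' : (S : Set A) ⊆ B') :
    Algebra.FiniteType C (C ⊗[k] (↥(T.CB B') ⧸ T.stepIdeal x hle)) := by
  classical
  let qm : C ⊗[k] ↥(T.CB B') →ₐ[C] C ⊗[k] (↥(T.CB B') ⧸ T.stepIdeal x hle) :=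
    Algebra.TensorProduct.map (AlgHom.id C C) (Ideal.Quotient.mkₐ k (T.stepIdeal x hle))
  let F : C ⊗[k] ↥B' →ₐ[C] C ⊗[k] (↥(T.CB B') ⧸ T.stepIdeal x hle) :=
    qm.comp ((T.thetaBEquiv B' hB').symm : C ⊗[k] ↥B' →ₐ[C] C ⊗[k] ↥(T.CB B'))
  have hqmsurj : Function.Surjective qm := by
    intro w
    induction w using TensorProduct.induction_on with
    | zero => exact ⟨0, map_zero _⟩
    | tmul c d =>
      obtain ⟨d, rfl⟩ := Ideal.Quotient.mk_surjective d
      exact ⟨c ⊗ₜ d, rfl⟩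
    | add z₁ z₂ h₁ h₂ =>
      obtain ⟨w₁, rfl⟩ := h₁
      obtain ⟨w₂, rfl⟩ := h₂
      exact ⟨w₁ + w₂, map_add _ _ _⟩
  have hFsurj : Function.Surjective F :=
    hqmsurj.comp (T.thetaBEquiv B' hB').symm.surjective
  have hqm : ∀ z : C ⊗[k] ↥(T.CB B),
      qm (T.iotaD hle z) =
        (T.chi x z) ⊗ₜ[k] (1 : ↥(T.CB B') ⧸ T.stepIdeal x hle) := by
    intro z
    induction z using TensorProduct.induction_on with
    | zero => rw [map_zero, map_zero, map_zero, zero_tmul]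
    | tmul r d =>
      rw [chi_tmul]
      show r ⊗ₜ[k] (Ideal.Quotient.mk (T.stepIdeal x hle)
        (Subalgebra.inclusion (T.CB_mono hle) d)) = _
      rw [mk_stepIdeal]
      have e1 : algebraMap k (↥(T.CB B') ⧸ T.stepIdeal x hle) (x d) =
          (x d) • (1 : ↥(T.CB B') ⧸ T.stepIdeal x hle) := Algebra.algebraMap_eq_smul_one _
      have e2 : r * algebraMap k C (x d) = (x d) • r := by rw [Algebra.smul_def, mul_comm]
      rw [e1, e2, TensorProduct.tmul_smul, TensorProduct.smul_tmul']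
    | add z₁ z₂ h₁ h₂ => rw [map_add, map_add, map_add, add_tmul, h₁, h₂]
  have hFι : ∀ w : C ⊗[k] ↥B,
      F (iotaB hle w) =
        (T.beta hB x w) ⊗ₜ[k] (1 : ↥(T.CB B') ⧸ T.stepIdeal x hle) := by
    intro w
    obtain ⟨z, rfl⟩ := (T.thetaBEquiv B hB).surjective w
    have h1 : (T.thetaBEquiv B hB) z = T.thetaB B z := rfl
    rw [h1, beta_thetaB, ← thetaB_iotaD, ← hqm]
    show qm ((T.thetaBEquiv B' hB').symm (T.thetaB B' (T.iotaD hle z))) = _
    have h2 : (T.thetaBEquiv B' hB').symm (T.thetaB B' (T.iotaD hle z)) = T.iotaD hle z :=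
      (T.thetaBEquiv B' hB').symm_apply_apply _
    rw [h2]
  let gens : Finset (C ⊗[k] (↥(T.CB B') ⧸ T.stepIdeal x hle)) :=
    S.attach.image (fun s => F ((1 : C) ⊗ₜ[k] (⟨s.1, hSB' s.2⟩ : ↥B')))
  refine ⟨⟨gens, ?_⟩⟩
  set 𝒮 : Subalgebra C (C ⊗[k] (↥(T.CB B') ⧸ T.stepIdeal x hle)) :=
    Algebra.adjoin C (gens : Set (C ⊗[k] (↥(T.CB B') ⧸ T.stepIdeal x hle))) with h𝒮
  have key : B' ≤ ((𝒮.restrictScalars k).comap
      ((F.restrictScalars k).comp Algebra.TensorProduct.includeRight)).map B'.val := by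
    refine hS.trans (sup_le ?_ ?_)
    · intro b hb
      refine ⟨⟨b, hle hb⟩, ?_, rfl⟩
      show F ((1 : C) ⊗ₜ[k] (⟨b, hle hb⟩ : ↥B')) ∈ 𝒮
      have : ((1 : C) ⊗ₜ[k] (⟨b, hle hb⟩ : ↥B')) = iotaB hle ((1 : C) ⊗ₜ[k] (⟨b, hb⟩ : ↥B)) :=
        rfl
      rw [this, hFι]
      have h3 : (T.beta hB x ((1 : C) ⊗ₜ[k] (⟨b, hb⟩ : ↥B))) ⊗ₜ[k]
          (1 : ↥(T.CB B') ⧸ T.stepIdeal x hle) =
          (T.beta hB x ((1 : C) ⊗ₜ[k] (⟨b, hb⟩ : ↥B))) •
            (1 : C ⊗[k] (↥(T.CB B') ⧸ T.stepIdeal x hle)) := by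
        rw [Algebra.TensorProduct.one_def, TensorProduct.smul_tmul', smul_eq_mul, mul_one]
      rw [h3]
      exact 𝒮.smul_mem 𝒮.one_mem _
    · rw [Algebra.adjoin_le_iff]
      intro s hs
      refine ⟨⟨s, hSB' hs⟩, ?_, rfl⟩
      show F ((1 : C) ⊗ₜ[k] (⟨s, hSB' hs⟩ : ↥B')) ∈ 𝒮
      apply Algebra.subset_adjoin
      simp only [gens, Finset.coe_image, Set.mem_image, Finset.mem_coe, Finset.mem_attach,
        true_and]
      exact ⟨⟨s, hs⟩, rfl⟩
  rw [eq_top_iff]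
  rintro w -
  obtain ⟨w, rfl⟩ := hFsurj w
  induction w using TensorProduct.induction_on with
  | zero => rw [map_zero]; exact 𝒮.zero_mem
  | tmul c b =>
    have h1 : c ⊗ₜ[k] b = c • ((1 : C) ⊗ₜ[k] b) := by
      rw [TensorProduct.smul_tmul', smul_eq_mul, mul_one]
    rw [h1, map_smul]
    apply 𝒮.smul_mem
    obtain ⟨b, hb⟩ := b
    obtain ⟨z, hz, hzb⟩ := key hb
    have : z = ⟨b, hb⟩ := Subtype.ext hzb
    rw [← this]
    exact hz
  | add z₁ z₂ h₁ h₂ => rw [map_add]; exact 𝒮.add_mem h₁ h₂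

include hB in
theorem exists_extension_step [IsAlgClosed k] [Nontrivial C] {B' : Subalgebra k A}
    (hB' : IsSub B') (hle : B ≤ B') (S : Finset A)
    (hS : B' ≤ B ⊔ Algebra.adjoin k (S : Set A)) (hSB' : (S : Set A) ⊆ B') :
    ∃ x' : ↥(T.CB B') →ₐ[k] k,
      ∀ c : T.CB B, x' (Subalgebra.inclusion (T.CB_mono hle) c) = x c := by
  have hI : T.stepIdeal x hle ≠ ⊤ := T.map_ker_ne_top hB x hle
  haveI : Nontrivial (↥(T.CB B') ⧸ T.stepIdeal x hle) := Ideal.Quotient.nontrivial_iff.2 hI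
  haveI : Algebra.FiniteType k (↥(T.CB B') ⧸ T.stepIdeal x hle) := by
    haveI : Module.FaithfullyFlat k C := inferInstance
    haveI := T.finiteType_step hB x hB' hle S hS hSB'
    exact Algebra.FiniteType.of_finiteType_tensorProduct_of_faithfullyFlat C
  obtain ⟨z⟩ := HopfPt.exists_algHom_of_finiteType k (↥(T.CB B') ⧸ T.stepIdeal x hle)
  refine ⟨z.comp (Ideal.Quotient.mkₐ k (T.stepIdeal x hle)), fun c => ?_⟩
  show z (Ideal.Quotient.mk _ (Subalgebra.inclusion (T.CB_mono hle) c)) = x c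
  rw [mk_stepIdeal, AlgHom.commutes]
  rfl

end step

end TorsorAlg

end Groth.Agent.Lib.Helper9.TorsAlg
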