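import Mathlib
import Groth.Agent.Lib.Helper9.TorsAlg3

set_option autoImplicit false
set_option linter.style.haveILetI false
set_option linter.unusedSectionVars false
set_option linter.unusedVariables false

universe u

open TensorProduct Coalgebra Bialgebra Groth.Agent.Lib.Helper24.HopfFF

namespace Groth.Agent.Lib.Helper9.TorsAlg

variable {k : Type u} [Field k] {A C : Type u} [CommRing A] [CommRing C] [HopfAlgebra k A]
  [Algebra k C]

theorem isSub_bot : IsSub (⊥ : Subalgebra k A) := by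
  constructor
  · intro b hb
    obtain ⟨r, rfl⟩ := Algebra.mem_bot.1 hb
    refine ⟨algebraMap k _ r, ?_⟩
    exact ((incl₂ (⊥ : Subalgebra k A)).commutes r).trans ((comulAlgHom k A).commutes r).symm
  · intro b hb
    obtain ⟨r, rfl⟩ := Algebra.mem_bot.1 hb
    have : HopfAlgebra.antipode k (algebraMap k A r) = algebraMap k A r := by
      rw [Algebra.algebraMap_eq_smul_one, map_smul, HopfAlgebra.antipode_one]
    rw [this]
    exact Subalgebra.algebraMap_mem _ r

namespace TorsorAlg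

variable (T : TorsorAlg k A C)

theorem lC_bot (w : C ⊗[k] ↥(⊥ : Subalgebra k A)) :
    ∃ c' : C, lC (C := C) (⊥ : Subalgebra k A) w = c' ⊗ₜ[k] (1 : A) := by
  induction w using TensorProduct.induction_on with
  | zero => exact ⟨0, by rw [map_zero, zero_tmul]⟩
  | tmul c b =>
    obtain ⟨b, hb⟩ := b
    obtain ⟨r, rfl⟩ := Algebra.mem_bot.1 hb
    refine ⟨r • c, ?_⟩
    rw [lC_tmul]
    show c ⊗ₜ[k] (algebraMap k A r) = _
    rw [Algebra.algebraMap_eq_smul_one, TensorProduct.tmul_smul, TensorProduct.smul_tmul']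
  | add z₁ z₂ h₁ h₂ =>
    obtain ⟨c₁, h₁⟩ := h₁
    obtain ⟨c₂, h₂⟩ := h₂
    exact ⟨c₁ + c₂, by rw [map_add, h₁, h₂, add_tmul]⟩

theorem CB_bot [Nontrivial C] : T.CB ⊥ ≤ ⊥ := by
  intro c hc
  obtain ⟨w, hw⟩ := (T.mem_CB ⊥ c).1 hc
  obtain ⟨c', hc'⟩ := lC_bot w
  have hw' : T.ρ c = c' ⊗ₜ[k] (1 : A) := by rw [← hc']; exact hw.symm
  have h1 : c = c' := by
    have := T.counit c
    rw [hw', Algebra.TensorProduct.lift_tmul, map_one, mul_one] at this
    exact this.symm
  subst h1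
  -- `Θ (1 ⊗ c) = Θ (c ⊗ 1)`
  have h2 : (1 : C) ⊗ₜ[k] c = c ⊗ₜ[k] (1 : C) := by
    apply T.bij.1
    rw [theta_tmul, theta_tmul, map_one, mul_one, hw']
    show (1 : C ⊗[k] A) * _ = _
    rw [one_mul]
  obtain ⟨g, hg⟩ := LinearMap.exists_leftInverse_of_injective (Algebra.linearMap k C)
    (by
      rw [LinearMap.ker_eq_bot]
      exact FaithfulSMul.algebraMap_injective k C)
  have hg1 : g 1 = 1 := by
    have := congrArg (fun f => f (1 : k)) hg
    simpa using this
  have h3 := congrArg (fun z => TensorProduct.lid k C (LinearMap.rTensor C g z)) h2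
  simp only [LinearMap.rTensor_tmul, TensorProduct.lid_tmul, hg1, one_smul] at h3
  rw [h3, Algebra.mem_bot]
  exact ⟨g c, by rw [Algebra.algebraMap_eq_smul_one]⟩

theorem CB_iSup_le {ι : Type*} [Nonempty ι] (K : ι → Subalgebra k A)
    (dir : Directed (· ≤ ·) K) : T.CB (iSup K) ≤ ⨆ i, T.CB (K i) := by
  have key : ∀ w : C ⊗[k] ↥(iSup K), ∃ i, lC (C := C) (iSup K) w ∈ (lC (C := C) (K i)).range := by
    intro w
    induction w using TensorProduct.induction_on with
    | zero => exact ⟨Classical.arbitrary ι, by rw [map_zero]; exact Subalgebra.zero_mem _⟩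
    | tmul c b =>
      obtain ⟨b, hb⟩ := b
      have hb' : b ∈ ((iSup K : Subalgebra k A) : Set A) := hb
      rw [Subalgebra.coe_iSup_of_directed dir, Set.mem_iUnion] at hb'
      obtain ⟨i, hi⟩ := hb'
      exact ⟨i, c ⊗ₜ ⟨b, hi⟩, rfl⟩
    | add z₁ z₂ h₁ h₂ =>
      obtain ⟨i₁, h₁⟩ := h₁
      obtain ⟨i₂, h₂⟩ := h₂
      obtain ⟨j, hj₁, hj₂⟩ := dir i₁ i₂
      refine ⟨j, ?_⟩
      rw [map_add]
      exact Subalgebra.add_mem _ (lC_range_mono hj₁ h₁) (lC_range_mono hj₂ h₂)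
  intro c hc
  obtain ⟨w, hw⟩ := (T.mem_CB _ c).1 hc
  obtain ⟨i, hi⟩ := key w
  have : c ∈ T.CB (K i) := by
    rw [mem_CB, ← hw]
    exact hi
  exact (le_iSup (fun i => T.CB (K i)) i) this

/-- partial rational points of a torsor algebra, defined on the invariants `C_B` -/
structure TPt where
  B : Subalgebra k A
  hB : IsSub B
  y : ↥(T.CB B) →ₐ[k] k

instance : Preorder (TPt T) where
  le p q := ∃ h : p.B ≤ q.B, ∀ c : T.CB p.B, q.y (Subalgebra.inclusion (T.CB_mono h) c) = p.y c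
  le_refl p := ⟨le_rfl, fun c => rfl⟩
  le_trans p q r := by
    rintro ⟨h1, h1'⟩ ⟨h2, h2'⟩
    refine ⟨h1.trans h2, fun c => ?_⟩
    rw [← h1', ← h2']
    rfl

/-- chains of partial points have upper bounds -/
theorem TPt.exists_ub [IsAlgClosed k] (c : Set (TPt T)) (hc : IsChain (· ≤ ·) c) (p₀ : TPt T) (hp₀ : p₀ ∈ c) :
    ∃ ub : TPt T, ∀ z ∈ c, z ≤ ub := by
  haveI : Nonempty c := ⟨⟨p₀, hp₀⟩⟩
  let K : c → Subalgebra k A := fun p => p.1.B
  let K' : c → Subalgebra k C := fun p => T.CB (K p)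
  have dir : Directed (· ≤ ·) K := by
    intro p q
    rcases hc.total p.2 q.2 with h | h
    · exact ⟨q, h.1, le_rfl⟩
    · exact ⟨p, le_rfl, h.1⟩
  have dir' : Directed (· ≤ ·) K' := by
    intro p q
    obtain ⟨r, h1, h2⟩ := dir p q
    exact ⟨r, T.CB_mono h1, T.CB_mono h2⟩
  let f : ∀ i : c, K' i →ₐ[k] k := fun p => p.1.y
  have hf : ∀ (i j : c) (h : K' i ≤ K' j), f i = (f j).comp (Subalgebra.inclusion h) := by
    intro i j h
    rcases hc.total i.2 j.2 with h' | h'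
    · obtain ⟨h1, h2⟩ := h'
      ext x
      exact (h2 x).symm
    · obtain ⟨h1, h2⟩ := h'
      ext x
      have := h2 (Subalgebra.inclusion h x)
      simp only [AlgHom.comp_apply]
      rw [← this]
      rfl
  have hle : T.CB (iSup K) ≤ iSup K' := T.CB_iSup_le K dir
  refine ⟨⟨iSup K, HopfPt.IsSub.iSup_directed K dir (fun i => i.1.hB),
    Subalgebra.iSupLift K' dir' f hf (T.CB (iSup K)) hle⟩, ?_⟩
  intro z hz
  refine ⟨le_iSup K ⟨z, hz⟩, fun x => ?_⟩
  exact Subalgebra.iSupLift_inclusion (K := K') (dir := dir') (f := f) (hf := hf) (i := ⟨z, hz⟩) x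
    (T.CB_mono (le_iSup K ⟨z, hz⟩))

include T in
/-- **Torsors under affine group schemes over an algebraically closed field are trivial**
(algebraic form): a nonzero torsor algebra has a rational point. -/
theorem exists_point [IsAlgClosed k] [Nontrivial C] : Nonempty (C →ₐ[k] k) := by
  classical
  let y₀ : ↥(T.CB ⊥) →ₐ[k] k :=
    ((Algebra.botEquiv k C : (⊥ : Subalgebra k C) →ₐ[k] k)).comp
      (Subalgebra.inclusion T.CB_bot)
  obtain ⟨m, hxm, hmax⟩ := zorn_le_nonempty_Ici₀ (⟨⊥, isSub_bot, y₀⟩ : TPt T)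
    (fun c _ hc y hy => TPt.exists_ub T c hc y hy) ⟨⊥, isSub_bot, y₀⟩ le_rfl
  have htop : m.B = ⊤ := by
    by_contra hne
    obtain ⟨a, ha⟩ : ∃ a : A, a ∉ m.B := by
      by_contra h
      push Not at h
      exact hne (eq_top_iff.2 fun a _ => h a)
    obtain ⟨S, hS, hfg, hSsub⟩ := exists_fg_isSub_of_finset (k := k) ({a} : Finset A)
    obtain ⟨Tg, hT⟩ := hfg
    have hsub : IsSub (m.B ⊔ S) := m.hB.sup hSsub
    obtain ⟨y', hy'⟩ := T.exists_extension_step m.hB m.y hsub le_sup_left Tg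
      (by rw [hT]) (by
        intro t ht
        exact (le_sup_right : S ≤ m.B ⊔ S) (hT ▸ Algebra.subset_adjoin ht))
    let m' : TPt T := ⟨_, hsub, y'⟩
    have hle : m ≤ m' := ⟨le_sup_left, hy'⟩
    have hle' : m' ≤ m := hmax hle
    apply ha
    apply hle'.1
    exact (le_sup_right : S ≤ m.B ⊔ S) (hS (by simp))
  have hmem : ∀ c : C, c ∈ T.CB m.B := fun c => by rw [htop, CB_top]; trivial
  exact ⟨m.y.comp ((AlgHom.id k C).codRestrict (T.CB m.B) (fun c => hmem c))⟩

end TorsorAlg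

end Groth.Agent.Lib.Helper9.TorsAlg
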