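import Mathlib
import Groth.Agent.Lib.Helper9.TorsAlg4

set_option autoImplicit false
set_option linter.style.haveILetI false
set_option linter.unusedSectionVars false
set_option linter.unusedVariables false

universe u

open TensorProduct Coalgebra Bialgebra Groth.Agent.Lib.Helper24.HopfFF

namespace Groth.Agent.Lib.Helper9.TorsAlg

variable {k : Type u} [Field k] {A C : Type u} [CommRing A] [CommRing C] [HopfAlgebra k A]
  [Algebra k C]

/-- the action of an `R`-point of `Spec A` on an `R`-point of `Spec C` defined by `ρ` -/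
noncomputable def actPt (ρ : C →ₐ[k] C ⊗[k] A) {R : Type u} [CommRing R] [Algebra k R]
    (g : A →ₐ[k] R) (p : C →ₐ[k] R) : C →ₐ[k] R :=
  (Algebra.TensorProduct.lift p g (fun _ _ => Commute.all _ _)).comp ρ

theorem actPt_apply (ρ : C →ₐ[k] C ⊗[k] A) {R : Type u} [CommRing R] [Algebra k R]
    (g : A →ₐ[k] R) (p : C →ₐ[k] R) (c : C) :
    actPt ρ g p c = Algebra.TensorProduct.lift p g (fun _ _ => Commute.all _ _) (ρ c) := rfl

section ofPoints

variable (ρ : C →ₐ[k] C ⊗[k] A)
  (h1 : actPt ρ ((Algebra.ofId k C).comp (counitAlgHom k A)) (AlgHom.id k C) = AlgHom.id k C)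
  (h2 : ∀ (R : Type u) [CommRing R] [Algebra k R] (g h : A →ₐ[k] R) (p : C →ₐ[k] R),
    actPt ρ (WithConv.toConv g * WithConv.toConv h).ofConv p = actPt ρ g (actPt ρ h p))
  (h3 : ∀ (R : Type u) [CommRing R] [Algebra k R] (p q : C →ₐ[k] R),
    ∃! g : A →ₐ[k] R, actPt ρ g p = q)

include h2 in
theorem coassoc_of_points (c : C) :
    Algebra.TensorProduct.map ρ (AlgHom.id k A) (ρ c) =
    (Algebra.TensorProduct.assoc k k k C A A).symm
      (Algebra.TensorProduct.map (AlgHom.id k C) (comulOp k A) (ρ c)) := by
  let p : C →ₐ[k] (C ⊗[k] A) ⊗[k] A :=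
    (Algebra.TensorProduct.includeLeft).comp (Algebra.TensorProduct.includeLeft)
  let h : A →ₐ[k] (C ⊗[k] A) ⊗[k] A :=
    (Algebra.TensorProduct.includeLeft).comp (Algebra.TensorProduct.includeRight)
  let g : A →ₐ[k] (C ⊗[k] A) ⊗[k] A := Algebra.TensorProduct.includeRight
  have key := h2 ((C ⊗[k] A) ⊗[k] A) g h p
  have e1 : actPt ρ h p = (Algebra.TensorProduct.includeLeft).comp ρ := by
    have : Algebra.TensorProduct.lift p h (fun _ _ => Commute.all _ _) =
        (Algebra.TensorProduct.includeLeft : C ⊗[k] A →ₐ[k] (C ⊗[k] A) ⊗[k] A) := by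
      ext <;> simp [p, h]
    rw [actPt, this]
  have e2 : actPt ρ g (actPt ρ h p) = (Algebra.TensorProduct.map ρ (AlgHom.id k A)).comp ρ := by
    rw [e1, actPt]
    congr 1
    apply Algebra.TensorProduct.ext
    · ext x
      simp
    · ext x
      simp [g, Algebra.TensorProduct.one_def]
  have e3 : Algebra.TensorProduct.lift p (WithConv.toConv g * WithConv.toConv h).ofConv
      (fun _ _ => Commute.all _ _) =
      ((Algebra.TensorProduct.assoc k k k C A A).symm :
        C ⊗[k] (A ⊗[k] A) →ₐ[k] (C ⊗[k] A) ⊗[k] A).comp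
        (Algebra.TensorProduct.map (AlgHom.id k C) (comulOp k A)) := by
    apply Algebra.TensorProduct.ext
    · ext c
      simp [p, Algebra.TensorProduct.one_def]
    · ext a
      simp only [AlgHom.coe_comp, Function.comp_apply, Algebra.TensorProduct.includeRight_apply,
        Algebra.TensorProduct.lift_tmul, map_one, one_mul,
        Algebra.TensorProduct.map_tmul, AlgHom.coe_restrictScalars']
      rw [AlgHom.convMul_apply, comulOp, AlgHom.comp_apply]
      show _ = (Algebra.TensorProduct.assoc k k k C A A).symm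
        ((1 : C) ⊗ₜ[k] (Algebra.TensorProduct.comm k A A (comul (R := k) a)))
      generalize comul (R := k) a = v
      induction v using TensorProduct.induction_on with
      | zero => simp
      | tmul a₁ a₂ =>
        simp [g, h, Algebra.TensorProduct.one_def]
      | add z₁ z₂ h₁ h₂ =>
        rw [map_add, map_add, tmul_add, map_add, h₁, h₂]
  have := congrArg (fun f => f c) key
  rw [e2, actPt, e3] at this
  exact this.symm

theorem lift_comp_theta {R : Type u} [CommRing R] [Algebra k R]
    (g : A →ₐ[k] R) (p : C →ₐ[k] R) (z : C ⊗[k] C) :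
    Algebra.TensorProduct.lift p g (fun _ _ => Commute.all _ _) (theta ρ z) =
      Algebra.TensorProduct.lift p (actPt ρ g p) (fun _ _ => Commute.all _ _) z := by
  induction z using TensorProduct.induction_on with
  | zero => simp
  | tmul r c =>
    rw [theta_tmul, map_mul, Algebra.TensorProduct.lift_tmul, Algebra.TensorProduct.lift_tmul,
      map_one, mul_one, actPt_apply]
  | add z₁ z₂ h₁ h₂ => rw [map_add, map_add, map_add, h₁, h₂]

include h3 in
theorem bij_of_points : Function.Bijective (theta ρ) := by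
  -- the inverse
  obtain ⟨g₀, hg₀, -⟩ := h3 (C ⊗[k] C) Algebra.TensorProduct.includeLeft
    Algebra.TensorProduct.includeRight
  let Ψ : C ⊗[k] A →ₐ[k] C ⊗[k] C :=
    Algebra.TensorProduct.lift Algebra.TensorProduct.includeLeft g₀ (fun _ _ => Commute.all _ _)
  have hΨΘ : ∀ z, Ψ (theta ρ z) = z := by
    intro z
    rw [lift_comp_theta, hg₀]
    have : Algebra.TensorProduct.lift (Algebra.TensorProduct.includeLeft : C →ₐ[k] C ⊗[k] C)
        (Algebra.TensorProduct.includeRight : C →ₐ[k] C ⊗[k] C) (fun _ _ => Commute.all _ _) =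
        AlgHom.id k _ := by
      ext <;> simp
    rw [this]
    rfl
  -- `Θ ∘ Ψ = id`
  let f : C ⊗[k] A →ₐ[k] C ⊗[k] A := ((theta ρ).restrictScalars k).comp Ψ
  let g₁ : A →ₐ[k] C ⊗[k] A := f.comp Algebra.TensorProduct.includeRight
  have hfL : f.comp Algebra.TensorProduct.includeLeft = Algebra.TensorProduct.includeLeft := by
    ext c
    simp only [AlgHom.coe_comp, Function.comp_apply, Algebra.TensorProduct.includeLeft_apply,
      AlgHom.coe_restrictScalars', f, Ψ, Algebra.TensorProduct.lift_tmul, map_one, mul_one]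
    rw [theta_tmul, map_one, mul_one]
  have hf : f = Algebra.TensorProduct.lift Algebra.TensorProduct.includeLeft g₁
      (fun _ _ => Commute.all _ _) := by
    apply Algebra.TensorProduct.ext
    · rw [hfL]
      ext c
      simp
    · ext a
      simp [g₁]
  have hfΘ : ∀ z, f (theta ρ z) = theta ρ z := by
    intro z
    show theta ρ (Ψ (theta ρ z)) = _
    rw [hΨΘ]
  have hact : actPt ρ g₁ Algebra.TensorProduct.includeLeft =
      actPt ρ Algebra.TensorProduct.includeRight Algebra.TensorProduct.includeLeft := by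
    ext c
    have h1 := hfΘ ((1 : C) ⊗ₜ[k] c)
    rw [hf, lift_comp_theta, Algebra.TensorProduct.lift_tmul, map_one, one_mul] at h1
    rw [h1, theta_tmul, actPt_apply]
    have : Algebra.TensorProduct.lift (Algebra.TensorProduct.includeLeft : C →ₐ[k] C ⊗[k] A)
        (Algebra.TensorProduct.includeRight : A →ₐ[k] C ⊗[k] A) (fun _ _ => Commute.all _ _) =
        AlgHom.id k _ := by
      ext <;> simp
    rw [this]
    show (1 : C ⊗[k] A) * _ = _
    rw [one_mul]
    rfl
  have hg₁ : g₁ = Algebra.TensorProduct.includeRight :=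
    (h3 (C ⊗[k] A) Algebra.TensorProduct.includeLeft
      (actPt ρ Algebra.TensorProduct.includeRight Algebra.TensorProduct.includeLeft)).unique
      hact rfl
  have hfid : f = AlgHom.id k _ := by
    rw [hf, hg₁]
    ext <;> simp
  refine ⟨Function.LeftInverse.injective hΨΘ, fun w => ⟨Ψ w, ?_⟩⟩
  have := congrArg (fun φ => φ w) hfid
  exact this

/-- a torsor algebra from an action on points -/
noncomputable def ofPoints : TorsorAlg k A C where
  ρ := ρ
  counit c := congrArg (fun f => f c) h1
  coassoc := coassoc_of_points ρ h2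
  bij := bij_of_points ρ h3

end ofPoints

end Groth.Agent.Lib.Helper9.TorsAlg
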