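import Mathlib
import Groth.Prelude.Def_NonAbH2
import Groth.Prelude.Def_ChGrp
import Groth.Agent.Lib.Helper9.TorsAlg5
import Groth.Agent.Lib.Helper9.HopfPt2

set_option autoImplicit false
set_option linter.style.haveILetI false
set_option linter.unusedSectionVars false
set_option linter.unusedVariables false

universe u

open CategoryTheory MonoidalCategory CartesianMonoidalCategory MonObj GrpObj AlgebraicGeometry
open CategoryTheory.Limits

namespace Groth.Agent.Lib.Helper9.TorsAlg

variable {k : Type u} [Field k]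

/-- points of `Spec C` over `k` with values in `R` -/
noncomputable def ptEquiv (C R : Type u) [CommRing C] [CommRing R] [Algebra k C] [Algebra k R] :
    (C →ₐ[k] R) ≃
      ((Spec (.of R)).asOver (Spec (.of k)) ⟶ (Spec (.of C)).asOver (Spec (.of k))) where
  toFun f := (Spec.map (CommRingCat.ofHom f.toRingHom)).asOver _
  invFun f := ⟨(Spec.preimage f.left).hom, by
    suffices CommRingCat.ofHom (algebraMap k C) ≫ Spec.preimage f.left =
      CommRingCat.ofHom (algebraMap k R) from fun r ↦ congr($this r)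
    apply Spec.map_injective
    simpa [-CategoryTheory.comp_over] using! f.w⟩
  left_inv f := by
    apply AlgHom.coe_ringHom_injective
    simp
  right_inv f := by ext1; simp

theorem ptEquiv_left {C R : Type u} [CommRing C] [CommRing R] [Algebra k C] [Algebra k R]
    (f : C →ₐ[k] R) : (ptEquiv C R f).left = Spec.map (CommRingCat.ofHom f.toRingHom) := rfl

theorem ptEquiv_comp {C R R' : Type u} [CommRing C] [CommRing R] [CommRing R'] [Algebra k C]
    [Algebra k R] [Algebra k R'] (f : R →ₐ[k] R') (p : C →ₐ[k] R) :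
    ptEquiv C R' (f.comp p) = ptEquiv R R' f ≫ ptEquiv C R p := by
  ext1
  rw [Over.comp_left, ptEquiv_left, ptEquiv_left, ptEquiv_left]
  have h3 : Spec.map (CommRingCat.ofHom f.toRingHom) ≫ Spec.map (CommRingCat.ofHom p.toRingHom) =
      Spec.map (CommRingCat.ofHom (f.comp p).toRingHom) := by
    rw [← Spec.map_comp, ← CommRingCat.ofHom_comp]
    rfl
  exact h3.symm

theorem mapMulEquiv_eq_ptEquiv {A R : Type u} [CommRing A] [CommRing R] [Bialgebra k A]
    [Algebra k R] (g : A →ₐ[k] R) :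
    Spec.mapMulEquiv (R := k) (S := A) (T := R) (WithConv.toConv g) = ptEquiv A R g := rfl

section pseudo

variable {S : Scheme.{u}} {G X : Over S} [GrpObj G] (a : AlgGrp.Action G X)

/-- in a pseudo-torsor, any two points differ by a unique point of the group -/
theorem existsUnique_of_isPseudoTorsor (h : IsIso (lift a.act (snd G X))) {T : Over S}
    (x y : T ⟶ X) : ∃! t₀ : T ⟶ G, lift t₀ x ≫ a.act = y := by
  let w : T ⟶ G ⊗ X := lift y x ≫ inv (lift a.act (snd G X))
  have hw : w ≫ lift a.act (snd G X) = lift y x := by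
    rw [Category.assoc, IsIso.inv_hom_id, Category.comp_id]
  have hw1 : w ≫ a.act = y := by
    have := congr($hw ≫ fst X X)
    simpa using this
  have hw2 : w ≫ snd G X = x := by
    have := congr($hw ≫ snd X X)
    simpa using this
  have hw3 : w = lift (w ≫ fst G X) x := by
    apply CartesianMonoidalCategory.hom_ext <;> simp [hw2]
  refine ⟨w ≫ fst G X, ?_, fun t' ht' => ?_⟩
  · show lift (w ≫ fst G X) x ≫ a.act = y
    rw [← hw3, hw1]
  · have h1 : lift t' x ≫ lift a.act (snd G X) = lift y x := by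
      apply CartesianMonoidalCategory.hom_ext <;> simp [ht']
    have h2 : lift t' x = w := by
      rw [← cancel_mono (lift a.act (snd G X)), h1, hw]
    rw [← h2, lift_fst]

end pseudo

section main

open TensorProduct

variable {A C : Type u} [CommRing A] [CommRing C] [HopfAlgebra k A] [Algebra k C]
  {P : Over (Spec (CommRingCat.of k))}
  (a : AlgGrp.Action ((Spec (.of A)).asOver (Spec (.of k))) P)
  (φ : (Spec (.of C)).asOver (Spec (.of k)) ≅ P)

/-- the action on points in algebraic terms -/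
noncomputable def actAlg {R : Type u} [CommRing R] [Algebra k R] (g : A →ₐ[k] R)
    (p : C →ₐ[k] R) : C →ₐ[k] R :=
  (ptEquiv C R).symm (lift (ptEquiv A R g) (ptEquiv C R p ≫ φ.hom) ≫ a.act ≫ φ.inv)

theorem ptEquiv_actAlg {R : Type u} [CommRing R] [Algebra k R] (g : A →ₐ[k] R)
    (p : C →ₐ[k] R) :
    ptEquiv C R (actAlg a φ g p) ≫ φ.hom =
      lift (ptEquiv A R g) (ptEquiv C R p ≫ φ.hom) ≫ a.act := by
  simp [actAlg]

theorem actAlg_eq_iff {R : Type u} [CommRing R] [Algebra k R] (g : A →ₐ[k] R)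
    (p q : C →ₐ[k] R) :
    actAlg a φ g p = q ↔
      lift (ptEquiv A R g) (ptEquiv C R p ≫ φ.hom) ≫ a.act = ptEquiv C R q ≫ φ.hom := by
  rw [← ptEquiv_actAlg, cancel_mono, Equiv.apply_eq_iff_eq]

theorem actAlg_comp {R R' : Type u} [CommRing R] [Algebra k R] [CommRing R'] [Algebra k R']
    (f : R →ₐ[k] R') (g : A →ₐ[k] R) (p : C →ₐ[k] R) :
    actAlg a φ (f.comp g) (f.comp p) = f.comp (actAlg a φ g p) := by
  rw [actAlg_eq_iff, ptEquiv_comp, ptEquiv_comp, ptEquiv_comp, Category.assoc, Category.assoc,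
    ptEquiv_actAlg, ← comp_lift_assoc]

/-- the coaction -/
noncomputable def rhoAlg : C →ₐ[k] C ⊗[k] A :=
  actAlg a φ Algebra.TensorProduct.includeRight Algebra.TensorProduct.includeLeft

theorem actAlg_eq_actPt {R : Type u} [CommRing R] [Algebra k R] (g : A →ₐ[k] R)
    (p : C →ₐ[k] R) : actAlg a φ g p = actPt (rhoAlg a φ) g p := by
  rw [actPt, rhoAlg, ← actAlg_comp]
  congr 1
  · ext x; simp
  · ext x; simp

theorem ptEquiv_one {R : Type u} [CommRing R] [Algebra k R] :
    ptEquiv A R ((Algebra.ofId k R).comp (Bialgebra.counitAlgHom k A)) = 1 := by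
  rw [← mapMulEquiv_eq_ptEquiv]
  exact map_one (Spec.mapMulEquiv (R := k) (S := A) (T := R))

theorem ptEquiv_mul {R : Type u} [CommRing R] [Algebra k R] (g h : A →ₐ[k] R) :
    ptEquiv A R (WithConv.toConv g * WithConv.toConv h).ofConv =
      ptEquiv A R g * ptEquiv A R h := by
  rw [← mapMulEquiv_eq_ptEquiv, ← mapMulEquiv_eq_ptEquiv, ← mapMulEquiv_eq_ptEquiv]
  exact map_mul (Spec.mapMulEquiv (R := k) (S := A) (T := R)) _ _

theorem actPt_one : actPt (rhoAlg a φ) ((Algebra.ofId k C).comp (Bialgebra.counitAlgHom k A))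
    (AlgHom.id k C) = AlgHom.id k C := by
  rw [← actAlg_eq_actPt, actAlg_eq_iff, ptEquiv_one, AlgGrp.Action.lift_one_act]

theorem actPt_mul (R : Type u) [CommRing R] [Algebra k R] (g h : A →ₐ[k] R) (p : C →ₐ[k] R) :
    actPt (rhoAlg a φ) (WithConv.toConv g * WithConv.toConv h).ofConv p =
      actPt (rhoAlg a φ) g (actPt (rhoAlg a φ) h p) := by
  rw [← actAlg_eq_actPt, ← actAlg_eq_actPt, ← actAlg_eq_actPt, actAlg_eq_iff, ptEquiv_mul,
    AlgGrp.Action.lift_mul_act, ptEquiv_actAlg, ptEquiv_actAlg]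

theorem actPt_existsUnique (h : IsIso (lift a.act (snd _ P))) (R : Type u) [CommRing R]
    [Algebra k R] (p q : C →ₐ[k] R) : ∃! g : A →ₐ[k] R, actPt (rhoAlg a φ) g p = q := by
  obtain ⟨t₀, ht₀, huniq⟩ := existsUnique_of_isPseudoTorsor a h (ptEquiv C R p ≫ φ.hom)
    (ptEquiv C R q ≫ φ.hom)
  refine ⟨(ptEquiv A R).symm t₀, ?_, fun g hg => ?_⟩
  · show actPt (rhoAlg a φ) ((ptEquiv A R).symm t₀) p = q
    rw [← actAlg_eq_actPt, actAlg_eq_iff, Equiv.apply_symm_apply]
    exact ht₀
  · have hg' : actPt (rhoAlg a φ) g p = q := hg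
    rw [← actAlg_eq_actPt, actAlg_eq_iff] at hg'
    rw [← huniq _ hg', Equiv.symm_apply_apply]

include φ in
/-- a pseudo-torsor `Spec C`, `C ≠ 0`, under an affine group scheme over an algebraically
closed field has a rational point -/
theorem exists_point_spec [IsAlgClosed k] [Nontrivial C] (h : IsIso (lift a.act (snd _ P))) :
    Nonempty (𝟙_ (Over (Spec (CommRingCat.of k))) ⟶ P) := by
  obtain ⟨y⟩ := (ofPoints (rhoAlg a φ) (actPt_one a φ) (actPt_mul a φ)
    (actPt_existsUnique a φ h)).exists_point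
  exact ⟨HopfPt.ptOf y ≫ φ.hom⟩

end main

end Groth.Agent.Lib.Helper9.TorsAlg
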