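import Mathlib
import Groth.Prelude.Def_NonAbH2
import Groth.Prelude.Def_ChGrp
import Groth.Agent.Lib.Helper9.TorsAlg6
import Groth.Agent.S6004

set_option autoImplicit false
set_option linter.style.haveILetI false
set_option linter.unusedSectionVars false
set_option linter.unusedVariables false

universe u

open CategoryTheory MonoidalCategory CartesianMonoidalCategory MonObj GrpObj AlgebraicGeometry
open CategoryTheory.Limits

namespace Groth.Agent.Lib.Helper9.TorsAlg

theorem torsor_hasSection (k : Type u) [Field k] [IsAlgClosed k]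
    (G : Over (Spec (CommRingCat.of k))) [GrpObj G] [IsAffine G.left]
    (P : Over (Spec (CommRingCat.of k))) (a : AlgGrp.Action G P)
    (hP : NonAbH1.IsTorsorFor Scheme.fpqcPrecoverage a) :
    Nonempty (𝟙_ (Over (Spec (CommRingCat.of k))) ⟶ P) := by
  obtain ⟨A, _, hA, φG, hφG⟩ := Groth.Agent.Lib.Helper14.GrpBridge.exists_hopf (.of k) G
  letI : HopfAlgebra k A := hA
  haveI : IsAffineHom G.hom := inferInstance
  haveI : Flat G.hom := by
    have hw : φG.inv.left ≫ Spec.map (CommRingCat.ofHom (algebraMap k A)) = G.hom :=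
      Over.w φG.inv
    rw [← hw]
    haveI : IsIso φG.inv.left := inferInstanceAs (IsIso ((Over.forget _).mapIso φG).inv)
    haveI : Flat (Spec.map (CommRingCat.ofHom (algebraMap k A))) := by
      rw [Flat.SpecMap_iff]
      exact (RingHom.flat_algebraMap_iff).2 inferInstance
    infer_instance
  obtain ⟨haff, -⟩ := Groth.Agent.S6004.result G P a hP
  haveI : IsAffine P.left := isAffine_of_isAffineHom P.hom
  obtain ⟨X, ⟨e⟩⟩ := (essImage_algSpec (R := .of k) (G := P)).2 inferInstance
  let φP : (Spec (.of X.unop)).asOver (Spec (.of k)) ≅ P := e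
  -- `P` is nonempty
  have hne : Nonempty ↥P.left := by
    obtain ⟨hps, R, hR, hsec⟩ := hP
    obtain ⟨𝒰, rfl⟩ := R.exists_eq_preZeroHypercover
    have hm : 𝒰.presieve₀ ∈ Scheme.propQCPrecoverage @Flat (Spec (CommRingCat.of k)) := hR
    obtain ⟨i, y, -⟩ := ((Scheme.presieve₀_mem_precoverage_iff 𝒰).1 hm.2).1
      (IsLocalRing.closedPoint k)
    obtain ⟨s, -⟩ := hsec (𝒰.f i) ⟨i⟩
    exact ⟨s.base y⟩
  haveI : Nontrivial X.unop := by
    rw [← PrimeSpectrum.nonempty_iff_nontrivial]
    obtain ⟨x⟩ := hne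
    haveI : IsIso φP.inv.left := inferInstanceAs (IsIso ((Over.forget _).mapIso φP).inv)
    exact ⟨φP.inv.left.base x⟩
  -- restrict the action to `Spec A`
  let a₀ := a.restrict φG.hom
  have hiso : IsIso (lift a₀.act (snd _ P)) := by
    have h1 : lift a₀.act (snd _ P) = (φG.hom ▷ P) ≫ lift a.act (snd G P) := by
      apply CartesianMonoidalCategory.hom_ext <;> simp [a₀]
    rw [h1]
    haveI : IsIso (lift a.act (snd G P)) := hP.1
    infer_instance
  exact exists_point_spec a₀ φP hiso

end Groth.Agent.Lib.Helper9.TorsAlg
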