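import Mathlib.Algebra.Algebra.Subalgebra.Lattice
import Mathlib.Data.List.Basic
import Mathlib.Data.Finset.Basic

/-!
# Towers of elementary extensions inside an algebra
-/

set_option autoImplicit false

namespace Groth.Agent.Lib.Helper9.Towers

variable {A B : Type*} [CommRing A] [CommRing B] [Algebra A B]

section generic

variable (step : Subalgebra A B → B → Prop)

/-- The index form of a tower (as in the frozen statements). -/
def IsTow (l : List B) : Prop :=
  ∀ i : Fin l.length,
    step (Algebra.adjoin A {b : B | ∃ j : Fin l.length, j < i ∧ b = l.get j}) (l.get i)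

/-- The inductive form of a tower. -/
inductive Tower : List B → Prop
  | nil : Tower []
  | snoc (l : List B) (b : B) : Tower l → step (Algebra.adjoin A {x : B | x ∈ l}) b →
      Tower (l ++ [b])

variable {step}
variable (hmono : ∀ (S S' : Subalgebra A B) (b : B), S ≤ S' → step S b → step S' b)

include hmono in
theorem Tower.isTow {l : List B} (h : Tower step l) : IsTow step l := by
  induction h with
  | nil => exact fun i => i.elim0
  | snoc l b _ hb ih =>
    intro i
    have hlen : (l ++ [b]).length = l.length + 1 := by simp
    by_cases hi : i.val < l.length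
    · have hget : (l ++ [b]).get i = l.get ⟨i.val, hi⟩ := by
        simp only [List.get_eq_getElem]
        exact List.getElem_append_left hi
      rw [hget]
      refine hmono _ _ _ (Algebra.adjoin_mono ?_) (ih ⟨i.val, hi⟩)
      rintro x ⟨j, hj, rfl⟩
      have hj' : j.val < (l ++ [b]).length := by rw [hlen]; exact Nat.lt_succ_of_lt j.isLt
      refine ⟨⟨j.val, hj'⟩, hj, ?_⟩
      simp only [List.get_eq_getElem]
      exact (List.getElem_append_left j.isLt).symm
    · have hi' : i.val = l.length := by
        have h1 : i.val < (l ++ [b]).length := i.isLt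
        have h2 : i.val < l.length + 1 := hlen ▸ h1
        omega
      have hget : (l ++ [b]).get i = b := by
        simp only [List.get_eq_getElem, hi']
        simp
      rw [hget]
      refine hmono _ _ _ (Algebra.adjoin_mono ?_) hb
      intro x hx
      obtain ⟨j, hj, rfl⟩ := List.getElem_of_mem hx
      have hj' : j < (l ++ [b]).length := by rw [hlen]; exact Nat.lt_succ_of_lt hj
      refine ⟨⟨j, hj'⟩, ?_, ?_⟩
      · change j < i.val
        rw [hi']
        exact hj
      · simp only [List.get_eq_getElem]
        exact (List.getElem_append_left hj).symm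

include hmono in
theorem Tower.append {l₁ l₂ : List B} (h₁ : Tower step l₁) (h₂ : Tower step l₂) :
    Tower step (l₁ ++ l₂) := by
  induction h₂ with
  | nil => simpa using h₁
  | snoc l b _ hb ih =>
    rw [← List.append_assoc]
    refine Tower.snoc _ _ ih (hmono _ _ _ (Algebra.adjoin_mono ?_) hb)
    intro x hx
    exact List.mem_append_right _ hx

/-- Elements lying in the algebra generated by some tower. -/
def InTower (step : Subalgebra A B → B → Prop) (b : B) : Prop :=
  ∃ l : List B, Tower step l ∧ b ∈ Algebra.adjoin A {x : B | x ∈ l}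

include hmono in
theorem exists_tower_of_finset (F : Finset B) (hF : ∀ b ∈ F, InTower step b) :
    ∃ l : List B, Tower step l ∧ (↑F : Set B) ⊆ Algebra.adjoin A {x : B | x ∈ l} := by
  classical
  induction F using Finset.induction_on with
  | empty => exact ⟨[], Tower.nil, by simp⟩
  | insert e F' _ ih =>
    obtain ⟨l', hl', hF'⟩ := ih (fun b hb => hF b (Finset.mem_insert_of_mem hb))
    obtain ⟨le, hle, he⟩ := hF e (Finset.mem_insert_self _ _)
    refine ⟨l' ++ le, hl'.append hmono hle, ?_⟩
    intro x hx
    rw [Finset.coe_insert, Set.mem_insert_iff] at hx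
    rcases hx with rfl | hx
    · exact Algebra.adjoin_mono (fun y hy => List.mem_append_right _ hy) he
    · exact Algebra.adjoin_mono (fun y hy => List.mem_append_left _ hy) (hF' hx)

include hmono in
/-- The union of all towers, as a subalgebra. -/
def towerAlg : Subalgebra A B where
  carrier := {b | InTower step b}
  mul_mem' := by
    rintro x y ⟨l₁, h₁, hx⟩ ⟨l₂, h₂, hy⟩
    refine ⟨l₁ ++ l₂, h₁.append hmono h₂, Subalgebra.mul_mem _ ?_ ?_⟩
    · exact Algebra.adjoin_mono (fun z hz => List.mem_append_left _ hz) hx
    · exact Algebra.adjoin_mono (fun z hz => List.mem_append_right _ hz) hy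
  add_mem' := by
    rintro x y ⟨l₁, h₁, hx⟩ ⟨l₂, h₂, hy⟩
    refine ⟨l₁ ++ l₂, h₁.append hmono h₂, Subalgebra.add_mem _ ?_ ?_⟩
    · exact Algebra.adjoin_mono (fun z hz => List.mem_append_left _ hz) hx
    · exact Algebra.adjoin_mono (fun z hz => List.mem_append_right _ hz) hy
  algebraMap_mem' a := ⟨[], Tower.nil, Subalgebra.algebraMap_mem _ a⟩

theorem mem_towerAlg_iff (b : B) : b ∈ towerAlg hmono ↔ InTower step b := Iff.rfl

variable (hfin : ∀ (S : Subalgebra A B) (b : B), step S b →
  ∃ F : Finset B, (↑F : Set B) ⊆ S ∧ step (Algebra.adjoin A (↑F : Set B)) b)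

include hfin in
/-- The union of all towers is closed under the step. -/
theorem mem_towerAlg_of_step {b : B} (hb : step (towerAlg hmono) b) : b ∈ towerAlg hmono := by
  obtain ⟨F, hFS, hFb⟩ := hfin _ b hb
  obtain ⟨l, hl, hFl⟩ := exists_tower_of_finset hmono F (fun x hx => hFS hx)
  refine ⟨l ++ [b], Tower.snoc l b hl (hmono _ _ _ (Algebra.adjoin_le hFl) hFb), ?_⟩
  exact Algebra.subset_adjoin (List.mem_append_right _ (List.mem_singleton_self b))

include hmono in
/-- If every element is in a tower then every finite set lies in an (index form) tower. -/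
theorem exists_isTow_of_forall (h : ∀ b : B, InTower step b) (E : Finset B) :
    ∃ l : List B, (↑E : Set B) ⊆ Algebra.adjoin A {b : B | b ∈ l} ∧ IsTow step l := by
  obtain ⟨l, hl, hE⟩ := exists_tower_of_finset hmono E (fun b _ => h b)
  exact ⟨l, hE, hl.isTow hmono⟩

include hmono in
/-- An index form tower lies in every subalgebra closed under the step. -/
theorem adjoin_le_of_isTow (S : Subalgebra A B) (hS : ∀ b : B, step S b → b ∈ S)
    {l : List B} (hl : IsTow step l) : Algebra.adjoin A {b : B | b ∈ l} ≤ S := by
  have key : ∀ (n : ℕ) (i : Fin l.length), i.val = n → l.get i ∈ S := by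
    intro n
    induction n using Nat.strong_induction_on with
    | _ n ih =>
      intro i hi
      apply hS
      refine hmono _ _ _ (Algebra.adjoin_le ?_) (hl i)
      rintro x ⟨j, hj, rfl⟩
      exact ih j.val (hi ▸ hj) j rfl
  apply Algebra.adjoin_le
  intro x hx
  obtain ⟨j, hj, rfl⟩ := List.getElem_of_mem hx
  exact key j ⟨j, hj⟩ rfl

end generic

end Groth.Agent.Lib.Helper9.Towers
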