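import Groth.Agent.Lib.Helper9.Rad3

set_option backward.isDefEq.respectTransparency false
set_option autoImplicit false
set_option linter.unusedSectionVars false
set_option linter.unusedVariables false
universe u
open CategoryTheory CategoryTheory.Limits AlgebraicGeometry Opposite MorphismProperty

namespace Groth.Agent.Lib.Helper9.UH

/-- universal injectivity descends along surjective morphisms -/
instance descendsAlong_universallyInjective_surjective :
    DescendsAlong @UniversallyInjective @Surjective := by
  rw [universallyInjective_eq_diagonal]
  infer_instance

/-- an etale universally injective morphism is an open immersion -/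
theorem isOpenImmersion_of_etale_of_universallyInjective {X Y : Scheme.{u}} (f : X ⟶ Y) [Etale f]
    [UniversallyInjective f] : IsOpenImmersion f := by
  haveI : Surjective (pullback.diagonal f) := (UniversallyInjective.iff_diagonal f).1 inferInstance
  haveI : IsOpenImmersion (pullback.diagonal f) := inferInstance
  haveI : IsIso (pullback.diagonal f) :=
    (isIso_iff_isOpenImmersion_and_surjective _).2 ⟨inferInstance, inferInstance⟩
  haveI : Mono f := (pullback.isIso_diagonal_iff f).1 inferInstance
  exact IsOpenImmersion.of_flat_of_mono f

/-- an integral, universally injective, surjective morphism is a homeomorphism -/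
theorem isHomeomorph_of_universalHomeo {X Y : Scheme.{u}} (f : X ⟶ Y) [IsIntegralHom f]
    [UniversallyInjective f] [Surjective f] : IsHomeomorph f :=
  isHomeomorph_iff_continuous_isClosedMap_bijective.2
    ⟨f.continuous, f.isClosedMap, ⟨f.injective, f.surjective⟩⟩

end Groth.Agent.Lib.Helper9.UH
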