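import Groth.Agent.Lib.Helper9.UH1

set_option backward.isDefEq.respectTransparency false
set_option maxHeartbeats 800000
set_option autoImplicit false
set_option linter.unusedSectionVars false
set_option linter.unusedVariables false
universe u
open CategoryTheory CategoryTheory.Limits AlgebraicGeometry Opposite MorphismProperty

namespace Groth.Agent.Lib.Helper9.UH

section lift

variable {X Y Y' S : Scheme.{u}} (f : X ⟶ S) [Etale f] (y : Y ⟶ S) (π : Y' ⟶ Y)
  [IsIntegralHom π] [UniversallyInjective π] [Surjective π]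
  (θ : Y' ⟶ X) (hθ : θ ≫ f = π ≫ y)

include hθ in
/-- descent of morphisms to an etale scheme along a universal homeomorphism -/
theorem exists_desc : ∃ φ : Y ⟶ X, φ ≫ f = y ∧ π ≫ φ = θ := by
  -- the etale `Y`-scheme `P = X ×_S Y`
  let q : pullback f y ⟶ Y := pullback.snd f y
  -- its base change `P' = P ×_Y Y'`
  let q' : pullback q π ⟶ Y' := pullback.snd q π
  let ρ : pullback q π ⟶ pullback f y := pullback.fst q π
  haveI : IsIntegralHom ρ := MorphismProperty.pullback_fst (P := @IsIntegralHom) q π inferInstance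
  haveI : UniversallyInjective ρ :=
    MorphismProperty.pullback_fst (P := @UniversallyInjective) q π inferInstance
  haveI : Surjective ρ := MorphismProperty.pullback_fst (P := @Surjective) q π inferInstance
  have hρ : IsHomeomorph ρ := isHomeomorph_of_universalHomeo ρ
  -- the section
  let γ : Y' ⟶ pullback f y := pullback.lift θ π hθ
  have hγq : γ ≫ q = π := pullback.lift_snd _ _ _
  let s' : Y' ⟶ pullback q π := pullback.lift γ (𝟙 Y') (by rw [hγq, Category.id_comp])
  have hs'q' : s' ≫ q' = 𝟙 Y' := pullback.lift_snd _ _ _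
  have hs'ρ : s' ≫ ρ = γ := pullback.lift_fst _ _ _
  haveI : Etale q' := inferInstance
  haveI : IsOpenImmersion (s' ≫ q') := by rw [hs'q']; infer_instance
  haveI : IsOpenImmersion s' :=
    MorphismProperty.of_postcomp (W := @IsOpenImmersion)
      (W' := @LocallyOfFiniteType ⊓ @FormallyUnramified) s' q' ⟨inferInstance, inferInstance⟩
      inferInstance
  -- the open image
  let O : (pullback f y).Opens := ⟨Set.range γ, by
    have : Set.range γ = ρ '' Set.range s' := by
      rw [← hs'ρ, Scheme.Hom.comp_base, TopCat.coe_comp, Set.range_comp]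
    rw [this]
    exact hρ.isOpenMap _ s'.isOpenEmbedding.isOpen_range⟩
  let κ : Y' ⟶ O.toScheme := IsOpenImmersion.lift O.ι γ (by rw [Scheme.Opens.range_ι]; rfl)
  have hκ : κ ≫ O.ι = γ := IsOpenImmersion.lift_fac _ _ _
  have hκs : Function.Surjective κ := by
    intro o
    obtain ⟨y', hy'⟩ : O.ι o ∈ Set.range γ := o.2
    refine ⟨y', O.ι.injective ?_⟩
    rw [← Scheme.Hom.comp_apply, hκ]; exact hy'
  let qO : O.toScheme ⟶ Y := O.ι ≫ q
  have hκq : κ ≫ qO = π := by rw [← Category.assoc, hκ, hγq]
  haveI : Etale qO := inferInstance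
  -- the base change of `qO` along `π` is an isomorphism
  let pr : pullback π qO ⟶ Y' := pullback.fst π qO
  let pr₂ : pullback π qO ⟶ O.toScheme := pullback.snd π qO
  let σ₀ : Y' ⟶ pullback π qO := pullback.lift (𝟙 Y') κ (by rw [Category.id_comp, hκq])
  have hσpr : σ₀ ≫ pr = 𝟙 Y' := pullback.lift_fst _ _ _
  have hσpr₂ : σ₀ ≫ pr₂ = κ := pullback.lift_snd _ _ _
  haveI : Etale pr := inferInstance
  haveI : IsOpenImmersion (σ₀ ≫ pr) := by rw [hσpr]; infer_instance
  haveI : IsOpenImmersion σ₀ :=
    MorphismProperty.of_postcomp (W := @IsOpenImmersion)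
      (W' := @LocallyOfFiniteType ⊓ @FormallyUnramified) σ₀ pr ⟨inferInstance, inferInstance⟩
      inferInstance
  haveI : UniversallyInjective pr₂ :=
    MorphismProperty.pullback_snd (P := @UniversallyInjective) π qO inferInstance
  haveI : Surjective σ₀ := ⟨fun z => by
    obtain ⟨y'', hy''⟩ := hκs (pr₂ z)
    refine ⟨y'', pr₂.injective ?_⟩
    rw [← Scheme.Hom.comp_apply, hσpr₂]; exact hy''⟩
  haveI : IsIso σ₀ := (isIso_iff_isOpenImmersion_and_surjective σ₀).2 ⟨inferInstance, inferInstance⟩
  have hpr : pr = inv σ₀ := by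
    rw [← cancel_epi σ₀, hσpr, IsIso.hom_inv_id]
  haveI : IsIso pr := by rw [hpr]; infer_instance
  -- hence `qO` is universally injective, so an open immersion; it is surjective, so an isomorphism
  haveI : UniversallyInjective qO :=
    MorphismProperty.of_pullback_fst_of_descendsAlong (P := @UniversallyInjective)
      (Q := @Surjective) (f := π) (g := qO) inferInstance (inferInstance : UniversallyInjective pr)
  haveI : IsOpenImmersion qO := isOpenImmersion_of_etale_of_universallyInjective qO
  haveI : Surjective qO := ⟨fun b => by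
    obtain ⟨y', rfl⟩ := π.surjective b
    exact ⟨κ y', by rw [← Scheme.Hom.comp_apply, hκq]⟩⟩
  haveI : IsIso qO := (isIso_iff_isOpenImmersion_and_surjective qO).2 ⟨inferInstance, inferInstance⟩
  refine ⟨inv qO ≫ O.ι ≫ pullback.fst f y, ?_, ?_⟩
  · rw [Category.assoc, Category.assoc, pullback.condition, ← Category.assoc O.ι, IsIso.inv_hom_id_assoc]
  · have : π ≫ inv qO = κ := by rw [← hκq, Category.assoc, IsIso.hom_inv_id, Category.comp_id]
    rw [← Category.assoc, this, ← Category.assoc, hκ]
    exact pullback.lift_fst _ _ _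

end lift

end Groth.Agent.Lib.Helper9.UH
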