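import Groth.Prelude.Def_Flat
import Groth.Prelude.Def_CInt
import Mathlib.AlgebraicGeometry.ZariskisMainTheorem

namespace Groth.Agent.Lib.Helper9.UHSec

open CategoryTheory CategoryTheory.Limits AlgebraicGeometry TopologicalSpace

universe u

/-- a schematically dense open subscheme is dense. -/
theorem dense_of_isSchematicallyDense {X : Scheme.{u}} (U : X.Opens)
    (h : CInt.IsSchematicallyDense U) : Dense (U : Set X) := by
  rw [dense_iff_inter_open]
  intro V hV hne
  by_contra hcon
  rw [Set.not_nonempty_iff_eq_empty] at hcon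
  let V' : X.Opens := ⟨V, hV⟩
  have hbot : V' ⊓ U = ⊥ := by
    ext x
    simp only [Opens.coe_inf, Opens.coe_bot]
    exact iff_of_eq (congrArg (x ∈ ·) hcon)
  have hinj := h V'
  have h0 : Subsingleton Γ(X, V' ⊓ U) := by
    rw [hbot]
    infer_instance
  have h1 : Subsingleton Γ(X, V') := hinj.subsingleton
  obtain ⟨x, hx⟩ := hne
  have : (1 : Γ(X, V')) = 0 := Subsingleton.elim _ _
  have hb : X.basicOpen (1 : Γ(X, V')) = V' := by
    simp
  rw [this, Scheme.basicOpen_zero] at hb
  have : x ∈ (⊥ : X.Opens) := by rw [hb]; exact hx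
  exact this

set_option backward.isDefEq.respectTransparency.types false in
/-- a morphism with a section which is a surjective closed immersion is a universal
homeomorphism. -/
theorem isUnivHomeo_of_section {X S : Scheme.{u}} (f : X ⟶ S) (e : S ⟶ X) (he : e ≫ f = 𝟙 S)
    [IsClosedImmersion e] [Surjective e] : FlatMor.IsUnivHomeo f := by
  intro X' Y' i₁ i₂ f' hpb
  let e' : Y' ⟶ X' := hpb.lift (𝟙 Y') (i₂ ≫ e) (by rw [Category.id_comp, Category.assoc, he,
    Category.comp_id])
  have he' : e' ≫ f' = 𝟙 Y' := hpb.lift_fst _ _ _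
  have he'1 : e' ≫ i₁ = i₂ ≫ e := hpb.lift_snd _ _ _
  have hbig : IsPullback (e' ≫ f') i₂ i₂ (e ≫ f) := by
    rw [he', he]
    exact IsPullback.id_horiz i₂
  have hleft : IsPullback e' i₂ i₁ e := hbig.of_right he'1 hpb
  haveI : IsClosedImmersion e' := MorphismProperty.of_isPullback hleft.flip ‹IsClosedImmersion e›
  haveI : Surjective e' := MorphismProperty.of_isPullback hleft.flip ‹Surjective e›
  have hemb : Topology.IsClosedEmbedding e' := e'.isClosedEmbedding
  have hsurj : Function.Surjective e' := e'.surjective
  have hfe : ∀ y, f' (e' y) = y := by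
    intro y
    have := congrArg (fun g => g.base y) he'
    simpa using this
  change IsHomeomorph f'
  rw [isHomeomorph_iff_exists_inverse]
  refine ⟨f'.continuous, e', ?_, hfe, e'.continuous⟩
  intro x
  obtain ⟨y, rfl⟩ := hsurj x
  rw [hfe]


set_option backward.isDefEq.respectTransparency.types false in
theorem isUnivHomeo_of_schDense_homeo_restrict {X S : Scheme.{u}} (f : X ⟶ S)
    [QuasiCompact f] [IsSeparated f] (U : S.Opens)
    (hdense : CInt.IsSchematicallyDense (f ⁻¹ᵁ U)) (hU : IsHomeomorph (f ∣_ U).base)
    (e : S ⟶ X) (he : e ≫ f = 𝟙 S) :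
    FlatMor.IsUnivHomeo f ∧ (LocallyOfFiniteType f → IsFinite f) := by
  haveI : IsClosedImmersion e := by
    have h1 : IsClosedImmersion (e ≫ f) := by rw [he]; infer_instance
    exact MorphismProperty.of_postcomp (W := @IsClosedImmersion) (W' := @IsSeparated) e f
      ‹IsSeparated f› h1
  have hfe : ∀ s, f (e s) = s := by
    intro s
    have := congrArg (fun g => g.base s) he
    simpa using this
  have hinj : Function.Injective (U.1.restrictPreimage f) := by
    rw [← morphismRestrict_base]
    exact hU.injective
  haveI : Surjective e := by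
    constructor
    have hcl : IsClosed (Set.range e) := e.isClosedEmbedding.isClosed_range
    have hsub : ((f ⁻¹ᵁ U : X.Opens) : Set X) ⊆ Set.range e := by
      intro x hx
      refine ⟨f x, ?_⟩
      have hx' : e (f x) ∈ f ⁻¹ᵁ U := by
        change f (e (f x)) ∈ U
        rw [hfe]
        exact hx
      have := @hinj ⟨e (f x), hx'⟩ ⟨x, hx⟩ (Subtype.ext (by
        simp only [Set.restrictPreimage_coe]
        exact hfe _))
      exact congrArg Subtype.val this
    have hd := (dense_of_isSchematicallyDense _ hdense)
    have : Set.range e = Set.univ := by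
      apply Set.eq_univ_of_univ_subset
      rw [← hd.closure_eq]
      exact closure_minimal hsub hcl
    exact Set.range_eq_univ.mp this
  have huh := isUnivHomeo_of_section f e he
  refine ⟨huh, fun hlft => ?_⟩
  haveI : UniversallyClosed f := by
    rw [universallyClosed_eq]
    intro X' Y' i₁ i₂ f' hpb
    have := huh i₁ i₂ f' hpb
    exact IsHomeomorph.isClosedMap this
  haveI : LocallyOfFiniteType f := hlft
  have hfinj : Function.Injective f := by
    have := huh (𝟙 X) (𝟙 S) f (IsPullback.id_vert f)
    exact IsHomeomorph.injective this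
  haveI : IsProper f := {}
  haveI : LocallyQuasiFinite f := by
    rw [locallyQuasiFinite_iff_isDiscrete_preimage_singleton]
    intro s
    apply Set.Subsingleton.isDiscrete
    intro a ha b hb
    exact hfinj (ha.trans hb.symm)
  exact IsFinite.of_isProper_of_locallyQuasiFinite f

end Groth.Agent.Lib.Helper9.UHSec
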