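import Groth.Prelude.Def_EGA43
import Mathlib.AlgebraicGeometry.PullbackCarrier

namespace Groth.Agent.Lib.Helper9.UnivOpen

open CategoryTheory CategoryTheory.Limits AlgebraicGeometry TopologicalSpace

universe u

theorem isOpenAt_comp {α β γ : Type*} [TopologicalSpace α] [TopologicalSpace β]
    [TopologicalSpace γ] (f : α → β) (g : β → γ) (x : α) (hf : EGA43.IsOpenAt f x)
    (hg : EGA43.IsOpenAt g (f x)) : EGA43.IsOpenAt (g ∘ f) x := by
  intro U hU
  rw [Set.image_comp]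
  exact hg _ (hf U hU)

theorem isOpenAt_of_isOpenMap {α β : Type*} [TopologicalSpace α] [TopologicalSpace β]
    {f : α → β} (hf : IsOpenMap f) (x : α) : EGA43.IsOpenAt f x :=
  fun _ hU => hf.image_mem_nhds hU

theorem isOpenAt_of_isIso {X Y : Scheme.{u}} (e : X ⟶ Y) [IsIso e] (x : X) :
    EGA43.IsOpenAt e.base x :=
  isOpenAt_of_isOpenMap (e.homeomorph.isOpenMap) x

/-- open-at for a morphism of schemes composed -/
theorem isOpenAt_comp_base {X Y Z : Scheme.{u}} (f : X ⟶ Y) (g : Y ⟶ Z) (x : X)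
    (hf : EGA43.IsOpenAt f.base x) (hg : EGA43.IsOpenAt g.base (f.base x)) :
    EGA43.IsOpenAt (f ≫ g).base x :=
  isOpenAt_comp f.base g.base x hf hg

/-- a universally-open-at morphism is open-at along any pullback square -/
theorem isOpenAt_of_isPullback {X Y Y' P : Scheme.{u}} {f : X ⟶ Y} {x : X}
    (hf : EGA43.IsUnivOpenAt f x) {g : Y' ⟶ Y} {p1 : P ⟶ X} {p2 : P ⟶ Y'}
    (sq : IsPullback p1 p2 f g) (x' : P) (hx' : p1.base x' = x) :
    EGA43.IsOpenAt p2.base x' := by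
  have h1 : sq.isoPullback.hom ≫ pullback.fst f g = p1 := sq.isoPullback_hom_fst
  have h2 : sq.isoPullback.hom ≫ pullback.snd f g = p2 := sq.isoPullback_hom_snd
  have h3 := hf Y' g (sq.isoPullback.hom.base x') (by
    rw [← hx']
    exact congrArg (fun φ : P ⟶ X => φ.base x') h1)
  have h4 := isOpenAt_comp_base _ _ x' (isOpenAt_of_isIso sq.isoPullback.hom x') h3
  rwa [h2] at h4

theorem isUnivOpenAt_of_isPullback {X Y Y' P : Scheme.{u}} {f : X ⟶ Y} {x : X}
    (hf : EGA43.IsUnivOpenAt f x) {g : Y' ⟶ Y} {p1 : P ⟶ X} {p2 : P ⟶ Y'}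
    (sq : IsPullback p1 p2 f g) (x' : P) (hx' : p1.base x' = x) :
    EGA43.IsUnivOpenAt p2 x' := by
  intro Y'' h x'' hx''
  have sq2 : IsPullback (pullback.fst p2 h ≫ p1) (pullback.snd p2 h) f (h ≫ g) :=
    (IsPullback.of_hasPullback p2 h).paste_horiz sq
  exact isOpenAt_of_isPullback hf sq2 x'' (by
    show p1.base ((pullback.fst p2 h).base x'') = x
    rw [hx'', hx'])

theorem isUnivOpenAt_isOpenAt {X Y : Scheme.{u}} {f : X ⟶ Y} {x : X}
    (hf : EGA43.IsUnivOpenAt f x) : EGA43.IsOpenAt f.base x :=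
  isOpenAt_of_isPullback hf (IsPullback.id_horiz f) x rfl

end Groth.Agent.Lib.Helper9.UnivOpen
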