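import Groth.Agent.Lib.Helper9.UnivOpen1

namespace Groth.Agent.Lib.Helper9.UnivOpen

open CategoryTheory CategoryTheory.Limits AlgebraicGeometry TopologicalSpace

universe u

theorem isOpenAt_of_comp {α β γ : Type*} [TopologicalSpace α] [TopologicalSpace β]
    [TopologicalSpace γ] {f : α → β} {g : β → γ} (hf : Continuous f) (x : α)
    (h : EGA43.IsOpenAt (g ∘ f) x) : EGA43.IsOpenAt g (f x) := by
  intro U hU
  have h1 : f ⁻¹' U ∈ nhds x := hf.continuousAt hU
  refine Filter.mem_of_superset (h _ h1) ?_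
  rintro _ ⟨a, ha, rfl⟩
  exact ⟨f a, ha, rfl⟩

/-- S4926 -/
theorem isUnivOpenAt_right_of_comp {X Y Z : Scheme.{u}} (f : X ⟶ Y) (g : Y ⟶ Z) (x : X)
    (h : EGA43.IsUnivOpenAt (f ≫ g) x) : EGA43.IsUnivOpenAt g (f.base x) := by
  intro Z' g' y' hy'
  have sqA := IsPullback.of_hasPullback f (pullback.fst g g')
  have sqB := IsPullback.of_hasPullback g g'
  have sq := sqA.paste_vert sqB
  obtain ⟨p, hp1, hp2⟩ := Scheme.Pullback.exists_preimage_pullback (f := f)
    (g := pullback.fst g g') x y' hy'.symm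
  have h1 := isOpenAt_of_isPullback h sq p hp1
  have h2 := isOpenAt_of_comp (f := (pullback.snd f (pullback.fst g g')).base)
    (g := (pullback.snd g g').base) (Scheme.Hom.continuous _) p h1
  have hp2' : (pullback.snd f (pullback.fst g g')).base p = y' := hp2
  rwa [hp2'] at h2

/-- S4925 -/
theorem isUnivOpenAt_comp {X Y Z : Scheme.{u}} (f : X ⟶ Y) (g : Y ⟶ Z) (x : X)
    (hf : EGA43.IsUnivOpenAt f x) (hg : EGA43.IsUnivOpenAt g (f.base x)) :
    EGA43.IsUnivOpenAt (f ≫ g) x := by
  intro Z' g' x' hx'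
  have sqA := IsPullback.of_hasPullback f (pullback.fst g g')
  have sqB := IsPullback.of_hasPullback g g'
  have sq := sqA.paste_vert sqB
  -- transport along the iso
  set e := sq.isoPullback with he
  have e1 : e.inv ≫ pullback.fst f (pullback.fst g g') = pullback.fst (f ≫ g) g' :=
    sq.isoPullback_inv_fst
  have e2 : e.inv ≫ pullback.snd f (pullback.fst g g') ≫ pullback.snd g g' =
      pullback.snd (f ≫ g) g' := sq.isoPullback_inv_snd
  set p := e.inv.base x' with hp
  have hp1 : (pullback.fst f (pullback.fst g g')).base p = x := by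
    rw [← hx']
    exact congrArg (fun φ : pullback (f ≫ g) g' ⟶ X => φ.base x') e1
  have h1 : EGA43.IsOpenAt (pullback.snd f (pullback.fst g g')).base p :=
    hf _ (pullback.fst g g') p hp1
  have hp2 : (pullback.fst g g').base ((pullback.snd f (pullback.fst g g')).base p) = f.base x := by
    rw [← hp1]
    exact (congrArg (fun φ : pullback f (pullback.fst g g') ⟶ Y => φ.base p)
      (pullback.condition (f := f) (g := pullback.fst g g'))).symm
  have h2 : EGA43.IsOpenAt (pullback.snd g g').base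
      ((pullback.snd f (pullback.fst g g')).base p) := hg _ g' _ hp2
  have h3 := isOpenAt_comp_base _ _ p h1 h2
  have h4 := isOpenAt_comp_base e.inv _ x' (isOpenAt_of_isIso e.inv x') h3
  rwa [e2] at h4

/-- S4927 -/
theorem isUnivOpenAt_map_of_baseChange {X Y S S' : Scheme.{u}} (p : X ⟶ S) (q : Y ⟶ S) (f : X ⟶ Y)
    (g : S' ⟶ S) (e₁ : p ≫ 𝟙 S = f ≫ q) (e₂ : g ≫ 𝟙 S = 𝟙 S' ≫ g) (x : X)
    (h : EGA43.IsUnivOpenAt f x)
    (x' : ↥(pullback p g)) (hx' : (pullback.fst p g).base x' = x) :
    EGA43.IsUnivOpenAt (pullback.map p g q g f (𝟙 S') (𝟙 S) e₁ e₂) x' := by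
  have hout : IsPullback (pullback.map p g q g f (𝟙 S') (𝟙 S) e₁ e₂ ≫ pullback.snd q g)
      (pullback.fst p g) g (f ≫ q) := by
    have h0 := (IsPullback.of_hasPullback p g).flip
    have a1 : pullback.map p g q g f (𝟙 S') (𝟙 S) e₁ e₂ ≫ pullback.snd q g = pullback.snd p g :=
      (pullback.lift_snd _ _ _).trans (Category.comp_id _)
    have a2 : f ≫ q = p := by simpa using e₁.symm
    rw [a1, a2]
    exact h0
  have hr := (IsPullback.of_hasPullback q g).flip
  have sq := IsPullback.of_right hout (pullback.lift_fst _ _ _) hr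
  exact isUnivOpenAt_of_isPullback h sq.flip x' hx'

end Groth.Agent.Lib.Helper9.UnivOpen
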