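import Groth.Agent.Lib.Helper9.UnivOpen2
import Mathlib.AlgebraicGeometry.Morphisms.UniversallyClosed
import Mathlib.AlgebraicGeometry.Morphisms.ClosedImmersion

namespace Groth.Agent.Lib.Helper9.UnivOpen

open CategoryTheory CategoryTheory.Limits AlgebraicGeometry TopologicalSpace

universe u

/-- S4941 -/
theorem isOpenAt_of_closed_surjective {X Y Y₁ : Scheme.{u}} (v : Y₁ ⟶ Y)
    (hv : IsClosedMap v.base) [Surjective v] (f : X ⟶ Y) (x : X)
    (h : ∀ x₁ : ↥(pullback f v), (pullback.fst f v).base x₁ = x →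
      EGA43.IsOpenAt (pullback.snd f v).base x₁) :
    EGA43.IsOpenAt f.base x := by
  intro U hU
  obtain ⟨U', hU'U, hU'o, hxU'⟩ := mem_nhds_iff.mp hU
  refine Filter.mem_of_superset ?_ (Set.image_mono hU'U)
  have himg : (pullback.snd f v).base '' ((pullback.fst f v).base ⁻¹' U') =
      v.base ⁻¹' (f.base '' U') :=
    Scheme.image_preimage_eq_of_isPullback (IsPullback.of_hasPullback f v) U'
  set A : Set Y₁ := v.base ⁻¹' (f.base '' U') with hA
  have hfib : ∀ y₁ : Y₁, v.base y₁ = f.base x → A ∈ nhds y₁ := by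
    intro y₁ hy₁
    obtain ⟨x₁, hx₁, hx₁'⟩ := Scheme.Pullback.exists_preimage_pullback (f := f) (g := v) x y₁
      hy₁.symm
    have h1 := h x₁ hx₁ ((pullback.fst f v).base ⁻¹' U')
      ((hU'o.preimage (Scheme.Hom.continuous _)).mem_nhds (by
        show (pullback.fst f v).base x₁ ∈ U'
        rw [hx₁]; exact hxU'))
    rw [himg] at h1
    have hx₁'' : (pullback.snd f v).base x₁ = y₁ := hx₁'
    rwa [hx₁''] at h1
  have hWo : IsOpen (v.base '' (interior A)ᶜ)ᶜ :=
    (hv _ isOpen_interior.isClosed_compl).isOpen_compl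
  have hxW : f.base x ∈ (v.base '' (interior A)ᶜ)ᶜ := by
    rintro ⟨y₁, hy₁, hy₁'⟩
    exact hy₁ (mem_interior_iff_mem_nhds.mpr (hfib y₁ hy₁'))
  refine Filter.mem_of_superset (hWo.mem_nhds hxW) ?_
  intro w hw
  obtain ⟨y₁, rfl⟩ := (inferInstance : Surjective v).surj w
  have : y₁ ∈ interior A := by
    by_contra hc
    exact hw ⟨y₁, hc, rfl⟩
  have h2 : y₁ ∈ A := interior_subset this
  exact h2

/-- double base change: the base change of `snd f g` along `fst g v` is a base change of
`snd f v`. -/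
theorem exists_doubleBC {X Y Y' Y₁ : Scheme.{u}} (f : X ⟶ Y) (g : Y' ⟶ Y) (v : Y₁ ⟶ Y) :
    ∃ r : pullback (pullback.snd f g) (pullback.fst g v) ⟶ pullback f v,
      IsPullback r (pullback.snd (pullback.snd f g) (pullback.fst g v)) (pullback.snd f v)
        (pullback.snd g v) ∧
      r ≫ pullback.fst f v = pullback.fst (pullback.snd f g) (pullback.fst g v) ≫
        pullback.fst f g := by
  have sq1 := IsPullback.of_hasPullback (pullback.snd f g) (pullback.fst g v)
  have sq2 := IsPullback.of_hasPullback f g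
  have sq12 := sq1.paste_horiz sq2
  -- sq12 : IsPullback (fst ≫ fst f g) (snd _ _) f (fst g v ≫ g)
  have hcond : (pullback.fst (pullback.snd f g) (pullback.fst g v) ≫ pullback.fst f g) ≫ f =
      (pullback.snd (pullback.snd f g) (pullback.fst g v) ≫ pullback.snd g v) ≫ v := by
    rw [sq12.w, Category.assoc, pullback.condition]
  refine ⟨pullback.lift _ _ hcond, ?_, pullback.lift_fst _ _ _⟩
  have hbot := (IsPullback.of_hasPullback f v).flip
  have hout : IsPullback (pullback.snd (pullback.snd f g) (pullback.fst g v))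
      (pullback.lift _ _ hcond ≫ pullback.fst f v) (pullback.snd g v ≫ v) f := by
    rw [pullback.lift_fst, ← pullback.condition]
    exact sq12.flip
  exact (IsPullback.of_bot hout (pullback.lift_snd _ _ _).symm hbot).flip

/-- S4942 -/
theorem isUnivOpenAt_of_universallyClosed_surjective {X Y Y₁ : Scheme.{u}} (v : Y₁ ⟶ Y)
    [UniversallyClosed v] [Surjective v] (f : X ⟶ Y) (x : X)
    (h : ∀ x₁ : ↥(pullback f v), (pullback.fst f v).base x₁ = x →
      EGA43.IsUnivOpenAt (pullback.snd f v) x₁) :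
    EGA43.IsUnivOpenAt f x := by
  intro Y' g x' hx'
  obtain ⟨r, sq, hr⟩ := exists_doubleBC f g v
  refine isOpenAt_of_closed_surjective (pullback.fst g v) (Scheme.Hom.isClosedMap _)
    (pullback.snd f g) x' ?_
  intro z hz
  refine isOpenAt_of_isPullback (h (r.base z) ?_) sq z rfl
  have := congrArg (fun φ : pullback (pullback.snd f g) (pullback.fst g v) ⟶ X => φ.base z) hr
  simp only [Scheme.Hom.comp_base, TopCat.comp_app] at this
  rw [this, hz, hx']

end Groth.Agent.Lib.Helper9.UnivOpen
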