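import Groth.Agent.Lib.Helper9.UnivOpen3

namespace Groth.Agent.Lib.Helper9.UnivOpen

open CategoryTheory CategoryTheory.Limits AlgebraicGeometry TopologicalSpace

universe w u

theorem isOpenAt_of_finite_closed_cover {X Y : Scheme.{u}} (f : X ⟶ Y) (x : X) {ι : Type w}
    [Finite ι] (T : ι → Scheme.{u}) (c : ∀ i, T i ⟶ Y) [∀ i, IsClosedImmersion (c i)]
    (hcov : ⋃ i, Set.range (c i).base = Set.univ)
    (h : ∀ i, ∀ z : ↥(pullback f (c i)), (pullback.fst f (c i)).base z = x →
      EGA43.IsOpenAt (pullback.snd f (c i)).base z) :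
    EGA43.IsOpenAt f.base x := by
  intro U hU
  obtain ⟨U', hU'U, hU'o, hxU'⟩ := mem_nhds_iff.mp hU
  refine Filter.mem_of_superset ?_ (Set.image_mono hU'U)
  have key : ∀ i, ∃ W : Set Y, IsOpen W ∧ f.base x ∈ W ∧
      W ∩ Set.range (c i).base ⊆ f.base '' U' := by
    intro i
    by_cases hi : f.base x ∈ Set.range (c i).base
    · obtain ⟨t, ht⟩ := hi
      obtain ⟨z, hz, hz'⟩ := Scheme.Pullback.exists_preimage_pullback (f := f) (g := c i) x t
        ht.symm
      have himg : (pullback.snd f (c i)).base '' ((pullback.fst f (c i)).base ⁻¹' U') =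
          (c i).base ⁻¹' (f.base '' U') :=
        Scheme.image_preimage_eq_of_isPullback (IsPullback.of_hasPullback f (c i)) U'
      have h1 := h i z hz ((pullback.fst f (c i)).base ⁻¹' U')
        ((hU'o.preimage (Scheme.Hom.continuous _)).mem_nhds (by
          show (pullback.fst f (c i)).base z ∈ U'
          rw [hz]; exact hxU'))
      rw [himg] at h1
      have hz'' : (pullback.snd f (c i)).base z = t := hz'
      rw [hz'', (c i).isClosedEmbedding.isInducing.nhds_eq_comap t, Filter.mem_comap] at h1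
      obtain ⟨V, hV, hVsub⟩ := h1
      refine ⟨interior V, isOpen_interior, ?_, ?_⟩
      · rw [← ht]; exact mem_interior_iff_mem_nhds.mpr hV
      · rintro _ ⟨hw, s, rfl⟩
        have h2 : (c i).base s ∈ V := interior_subset hw
        exact hVsub h2
    · refine ⟨(Set.range (c i).base)ᶜ, (c i).isClosedEmbedding.isClosed_range.isOpen_compl, hi, ?_⟩
      rintro w ⟨hw1, hw2⟩
      exact absurd hw2 hw1
  choose W hWo hxW hWsub using key
  refine Filter.mem_of_superset ((isOpen_iInter_of_finite hWo).mem_nhds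
    (Set.mem_iInter.mpr hxW)) ?_
  intro w hw
  have : w ∈ ⋃ i, Set.range (c i).base := hcov ▸ Set.mem_univ w
  obtain ⟨i, hi⟩ := Set.mem_iUnion.mp this
  exact hWsub i ⟨Set.mem_iInter.mp hw i, hi⟩

/-- S4929 -/
theorem isUnivOpenAt_of_finite_closed_cover {X Y : Scheme.{u}} (f : X ⟶ Y) (x : X) {ι : Type w}
    [Finite ι] (T : ι → Scheme.{u}) (g : ∀ i, T i ⟶ Y) [∀ i, IsClosedImmersion (g i)]
    (hcov : ⋃ i, Set.range (g i).base = Set.univ)
    (h : ∀ i, ∀ x' : ↥(pullback f (g i)), (pullback.fst f (g i)).base x' = x →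
      EGA43.IsUnivOpenAt (pullback.snd f (g i)) x') :
    EGA43.IsUnivOpenAt f x := by
  intro Y' g' x' hx'
  refine isOpenAt_of_finite_closed_cover (pullback.snd f g') x' (fun i => pullback g' (g i))
    (fun i => pullback.fst g' (g i)) ?_ ?_
  · rw [Set.eq_univ_iff_forall]
    intro y
    have : g'.base y ∈ ⋃ i, Set.range (g i).base := hcov ▸ Set.mem_univ _
    obtain ⟨i, hi⟩ := Set.mem_iUnion.mp this
    refine Set.mem_iUnion.mpr ⟨i, ?_⟩
    have := Scheme.Pullback.range_fst g' (g i)
    exact this ▸ hi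
  · intro i z hz
    obtain ⟨r, sq, hr⟩ := exists_doubleBC f g' (g i)
    refine isOpenAt_of_isPullback (h i (r.base z) ?_) sq z rfl
    have := congrArg
      (fun φ : pullback (pullback.snd f g') (pullback.fst g' (g i)) ⟶ X => φ.base z) hr
    simp only [Scheme.Hom.comp_base, TopCat.comp_app] at this
    rw [this, hz, hx']

end Groth.Agent.Lib.Helper9.UnivOpen
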