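import Groth.Prelude.Def_HTop
import Mathlib.AlgebraicGeometry.Restrict
import Mathlib.AlgebraicGeometry.AffineScheme

namespace Groth.Agent.Lib.Helper9.VCov

open CategoryTheory CategoryTheory.Limits AlgebraicGeometry TopologicalSpace

universe u

/-- a morphism from the spectrum of a local ring whose closed point lands in an open factors
through that open -/
theorem range_subset_of_closedPoint_mem {T : Scheme.{u}} (R : CommRingCat.{u}) [IsLocalRing R]
    (γ : Spec R ⟶ T) (V : T.Opens) (h : γ.base (IsLocalRing.closedPoint R) ∈ V) :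
    Set.range γ.base ⊆ (V : Set T) := by
  rintro _ ⟨y, rfl⟩
  have hy : y ⤳ IsLocalRing.closedPoint R := IsLocalRing.specializes_closedPoint y
  have := (hy.map γ.base.hom.continuous)
  exact this.mem_open V.2 h

/-- a finite family of affine opens covering an affine open is a standard V covering -/
noncomputable def openFamily {T : Scheme.{u}} (U : T.Opens) {n : ℕ} (V : Fin n → T.Opens)
    (hle : ∀ k, V k ≤ U) : PreZeroHypercover.{0} (U : Scheme.{u}) where
  I₀ := Fin n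
  X k := (V k : Scheme.{u})
  f k := T.homOfLE (hle k)

theorem isStandardV_openFamily {T : Scheme.{u}} (U : T.Opens) (hU : IsAffineOpen U) {n : ℕ}
    (V : Fin n → T.Opens) (hV : ∀ k, IsAffineOpen (V k)) (hle : ∀ k, V k ≤ U)
    (hcov : U ≤ ⨆ k, V k) : HTop.IsStandardV (openFamily U V hle) := by
  refine ⟨hU, inferInstanceAs (Finite (Fin n)), fun k => hV k, ?_⟩
  intro R _ _ γ
  refine ⟨R, inferInstance, inferInstance, 𝟙 R, ⟨Function.injective_id, ?_⟩, ?_⟩
  · exact ⟨fun a ha => ha⟩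
  · have hx : (γ ≫ U.ι).base (IsLocalRing.closedPoint R) ∈ ⨆ k, V k := by
      apply hcov
      have : (γ ≫ U.ι).base (IsLocalRing.closedPoint R) ∈ Set.range U.ι.base := ⟨_, rfl⟩
      rw [Scheme.Opens.range_ι] at this
      exact this
    obtain ⟨k, hk⟩ := Opens.mem_iSup.mp hx
    have hr : Set.range (γ ≫ U.ι).base ⊆ Set.range (V k).ι.base := by
      rw [Scheme.Opens.range_ι]
      exact range_subset_of_closedPoint_mem R (γ ≫ U.ι) (V k) hk
    let l : Spec R ⟶ (V k : Scheme.{u}) := IsOpenImmersion.lift (V k).ι (γ ≫ U.ι) hr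
    have hl : l ≫ (V k).ι = γ ≫ U.ι := IsOpenImmersion.lift_fac _ _ _
    refine ⟨k, l, ?_⟩
    rw [← cancel_mono U.ι]
    show (l ≫ T.homOfLE (hle k)) ≫ U.ι = _
    rw [Category.assoc, Scheme.homOfLE_ι, hl]
    simp


theorem exists_finite_affine_refinement {T T' : Scheme.{u}} (g : T' ⟶ T) (U' : T'.Opens)
    (hU' : IsAffineOpen U') :
    ∃ (n : ℕ) (V : Fin n → T'.Opens) (W : Fin n → T.affineOpens),
      (∀ k, IsAffineOpen (V k)) ∧ (∀ k, V k ≤ U') ∧ U' ≤ ⨆ k, V k ∧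
        ∀ k, V k ≤ g ⁻¹ᵁ (W k : T.Opens) := by
  classical
  have key : ∀ x : U', ∃ (W : T.affineOpens) (f : Γ(T', U')),
      T'.basicOpen f ≤ g ⁻¹ᵁ (W : T.Opens) ∧ x.1 ∈ T'.basicOpen f := by
    intro x
    obtain ⟨W, hW, hxW, -⟩ := (Opens.isBasis_iff_nbhd.mp T.isBasis_affineOpens)
      (show g.base x.1 ∈ (⊤ : T.Opens) from trivial)
    obtain ⟨f, hf1, hf2⟩ := hU'.exists_basicOpen_le (V := g ⁻¹ᵁ W) ⟨x.1, hxW⟩ x.2
    exact ⟨⟨W, hW⟩, f, hf1, hf2⟩
  choose W f hf1 hf2 using key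
  obtain ⟨t, ht⟩ := hU'.isCompact.elim_finite_subcover (fun x : U' => (T'.basicOpen (f x) : Set T'))
    (fun x => (T'.basicOpen (f x)).2) (by
      intro x hx
      exact Set.mem_iUnion.mpr ⟨⟨x, hx⟩, hf2 ⟨x, hx⟩⟩)
  refine ⟨t.card, fun k => T'.basicOpen (f (t.equivFin.symm k).1),
    fun k => W (t.equivFin.symm k).1, fun k => hU'.basicOpen _, fun k => T'.basicOpen_le _, ?_,
    fun k => hf1 _⟩
  intro x hx
  obtain ⟨y, hy⟩ := Set.mem_iUnion.mp (ht hx)
  obtain ⟨hyt, hxy⟩ := Set.mem_iUnion.mp hy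
  refine Opens.mem_iSup.mpr ⟨t.equivFin ⟨y, hyt⟩, ?_⟩
  simpa using hxy

end Groth.Agent.Lib.Helper9.VCov
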