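import Groth.Prelude.Def_HTop
import Groth.Agent.Lib.Helper9.VCov1
import Groth.Agent.S7469
import Groth.Agent.S7470

namespace Groth.Agent.Lib.Helper9.VCov

open CategoryTheory CategoryTheory.Limits AlgebraicGeometry TopologicalSpace

universe u w

theorem isVCover_pullback {T T' : Scheme.{u}} (g : T' ⟶ T) (E : PreZeroHypercover.{w} T)
    (hE : HTop.IsVCover E) : HTop.IsVCover (E.pullback₁ g) := by
  intro U'
  obtain ⟨n, V, W, hV, hle, hcov, hVW⟩ := exists_finite_affine_refinement g U'.1 U'.2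
  choose F hFstd hFref using fun k => hE (W k)
  -- the restricted morphisms
  let gk : ∀ k, ((V k : T'.Opens) : Scheme.{u}) ⟶ ((W k : T.Opens) : Scheme.{u}) := fun k =>
    g.resLE (W k : T.Opens) (V k) (hVW k)
  have hgk : ∀ k, gk k ≫ (W k : T.Opens).ι = (V k).ι ≫ g := fun k => Scheme.Hom.resLE_comp_ι g _
  haveI : ∀ k, IsAffine ((V k : T'.Opens) : Scheme.{u}) := fun k => hV k
  have hstd : ∀ k, HTop.IsStandardV ((F k).pullback₁ (gk k)) := fun k =>
    Groth.Agent.S7469.result (gk k) (F k) (hFstd k)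
  have key : ∀ (k : Fin n) (j : (F k).I₀), ∃ (i : E.I₀)
      (h' : pullback (gk k) ((F k).f j) ⟶ pullback g (E.f i)),
      h' ≫ pullback.fst g (E.f i) =
        (pullback.fst (gk k) ((F k).f j) ≫ T'.homOfLE (hle k)) ≫ U'.1.ι := by
    intro k j
    obtain ⟨i, h, hh⟩ := hFref k j
    have hc : ((pullback.fst (gk k) ((F k).f j) ≫ T'.homOfLE (hle k)) ≫ U'.1.ι) ≫ g =
        (pullback.snd (gk k) ((F k).f j) ≫ h) ≫ E.f i := by
      rw [Category.assoc, Category.assoc, Scheme.homOfLE_ι_assoc, Category.assoc, hh, ← hgk k,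
        ← Category.assoc, ← Category.assoc, pullback.condition]
    exact ⟨i, pullback.lift _ _ hc, pullback.lift_fst _ _ _⟩
  refine ⟨(openFamily U'.1 V hle).bind (fun k => (F k).pullback₁ (gk k)),
    Groth.Agent.S7470.result _ (isStandardV_openFamily U'.1 U'.2 V hV hle hcov) _ hstd, ?_⟩
  rintro ⟨k, j⟩
  exact key k j

end Groth.Agent.Lib.Helper9.VCov
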