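import Groth.Prelude.Def_HTop
import Groth.Agent.Lib.Helper9.VCov2

namespace Groth.Agent.Lib.Helper9.VCov

open CategoryTheory CategoryTheory.Limits AlgebraicGeometry TopologicalSpace

universe u w

/-- on an affine scheme a V covering is refined by a standard V covering of the scheme itself -/
theorem exists_standardV_of_isAffine {T : Scheme.{u}} [IsAffine T] (E : PreZeroHypercover.{w} T)
    (hE : HTop.IsVCover E) :
    ∃ G : PreZeroHypercover.{0} T, HTop.IsStandardV G ∧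
      ∀ l : G.I₀, ∃ (i : E.I₀) (h : G.X l ⟶ E.X i), h ≫ E.f i = G.f l := by
  obtain ⟨G, hG, hGref⟩ := hE ⟨⊤, isAffineOpen_top T⟩
  refine ⟨⟨G.I₀, G.X, fun l => G.f l ≫ (⊤ : T.Opens).ι⟩,
    ⟨inferInstance, hG.finite_index, hG.isAffine_obj, ?_⟩, fun l => hGref l⟩
  intro R _ _ γ
  have : IsIso (⊤ : T.Opens).ι := by rw [← Scheme.topIso_hom]; infer_instance
  obtain ⟨W, hW1, hW2, φ, hφ, l, g', hg'⟩ := hG.lift R (γ ≫ inv (⊤ : T.Opens).ι)
  refine ⟨W, hW1, hW2, φ, hφ, l, g', ?_⟩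
  show g' ≫ G.f l ≫ (⊤ : T.Opens).ι = _
  rw [← Category.assoc, hg']
  simp

theorem bind_aux {T X Y Z W : Scheme.{u}} (h : X ⟶ Y) (f : Z ⟶ Y) (e : Y ⟶ T)
    (r : W ⟶ pullback h f) (g : W ⟶ X) (hr : r ≫ pullback.fst h f = g) :
    (r ≫ pullback.snd h f) ≫ f ≫ e = g ≫ h ≫ e := by
  subst hr
  simp only [Category.assoc]
  rw [← pullback.condition_assoc]

theorem isVCover_bind {T : Scheme.{u}} (E : PreZeroHypercover.{w} T) (hE : HTop.IsVCover E)
    (F : ∀ i, PreZeroHypercover.{w} (E.X i)) (hF : ∀ i, HTop.IsVCover (F i)) :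
    HTop.IsVCover (E.bind F) := by
  intro U
  obtain ⟨F₀, hF₀, hF₀ref⟩ := hE U
  choose i h hh using hF₀ref
  have : ∀ j, IsAffine (F₀.X j) := hF₀.isAffine_obj
  have hpb : ∀ j, HTop.IsVCover ((F (i j)).pullback₁ (h j)) := fun j =>
    isVCover_pullback (h j) (F (i j)) (hF (i j))
  choose G hG hGref using fun j => exists_standardV_of_isAffine _ (hpb j)
  have key : ∀ (j : F₀.I₀) (l : (G j).I₀), ∃ (im : (E.bind F).I₀)
      (h' : (G j).X l ⟶ (E.bind F).X im),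
      h' ≫ (E.bind F).f im = ((G j).f l ≫ F₀.f j) ≫ (U : T.Opens).ι := by
    intro j l
    obtain ⟨m, r, hr⟩ := hGref j l
    refine ⟨⟨i j, m⟩, r ≫ pullback.snd (h j) ((F (i j)).f m), ?_⟩
    show (r ≫ pullback.snd (h j) ((F (i j)).f m)) ≫ (F (i j)).f m ≫ E.f (i j) = _
    have hr' : r ≫ pullback.fst (h j) ((F (i j)).f m) = (G j).f l := hr
    exact (bind_aux (h j) ((F (i j)).f m) (E.f (i j)) r ((G j).f l) hr).trans
      (by rw [hh j, Category.assoc])
  refine ⟨F₀.bind G, Groth.Agent.S7470.result F₀ hF₀ G hG, ?_⟩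
  rintro ⟨j, l⟩
  exact key j l

end Groth.Agent.Lib.Helper9.VCov
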