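import Groth.Agent.Lib.Helper9.VCov4

namespace Groth.Agent.Lib.Helper9.VCov

open CategoryTheory CategoryTheory.Limits AlgebraicGeometry

universe u w1 w2

theorem hasValLift_singleton_congr {X Y : Scheme.{u}} (f : X ⟶ Y)
    (h : HTop.HasValLift (PreZeroHypercover.singleton.{w1} f)) :
    HTop.HasValLift (PreZeroHypercover.singleton.{w2} f) := by
  intro V _ _ g
  obtain ⟨W, a, b, φ, hφ, j, g', hg'⟩ := h V g
  exact ⟨W, a, b, φ, hφ, PUnit.unit, g', hg'⟩

end Groth.Agent.Lib.Helper9.VCov
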