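import Groth.Agent.Lib.Helper9.VCov5
import Groth.Agent.Lib.Helper9.VCov2
import Groth.Prelude.Def_SGA1
import Mathlib.AlgebraicGeometry.Limits
import Mathlib.AlgebraicGeometry.Morphisms.QuasiCompact

namespace Groth.Agent.Lib.Helper9.VCov

open CategoryTheory CategoryTheory.Limits AlgebraicGeometry TopologicalSpace IsLocalRing

universe u w

set_option backward.isDefEq.respectTransparency.types false in
/-- the image of a closed subset of a quasi-compact scheme in an affine scheme is closed as soon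
as it is stable under specialization. -/
theorem isClosed_image_of_stable {P U : Scheme.{u}} [CompactSpace P] [IsAffine U] (π : P ⟶ U)
    (Z : Set P) (hZ : IsClosed Z) (H : StableUnderSpecialization (π '' Z)) :
    IsClosed (π '' Z) := by
  obtain ⟨R, g, hg⟩ := compactSpace_iff_exists.mp ‹CompactSpace P›
  have hstab : StableUnderSpecialization (U.isoSpec.hom '' (π '' Z)) :=
    H.image U.isoSpec.hom.homeomorph.isClosedMap.specializingMap
  have e1 : (g ≫ π ≫ U.isoSpec.hom) '' (g ⁻¹' Z) = U.isoSpec.hom '' (π '' Z) := by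
    simp only [Scheme.Hom.comp_base, TopCat.coe_comp, Set.image_comp,
      Set.image_preimage_eq _ hg]
  have hcl : IsClosed ((g ≫ π ≫ U.isoSpec.hom) '' (g ⁻¹' Z)) := by
    rw [← e1] at hstab
    generalize g ≫ π ≫ U.isoSpec.hom = ψ at hstab ⊢
    obtain ⟨φ, rfl⟩ := Spec.homEquiv.symm.surjective ψ
    exact PrimeSpectrum.isClosed_image_of_stableUnderSpecialization φ.hom _
      (hZ.preimage g.continuous) hstab
  rw [e1] at hcl
  have hinj : Function.Injective U.isoSpec.hom := U.isoSpec.hom.homeomorph.injective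
  have := hcl.preimage U.isoSpec.hom.continuous
  rwa [Set.preimage_image_eq _ hinj] at this

/-- a family with the valuative lifting property lifts specializations (no base change). -/
theorem exists_specializes_of_hasValLift {T : Scheme.{u}} (E : PreZeroHypercover.{w} T)
    (hE : HTop.HasValLift E) {t' t : T} (h : t' ⤳ t) :
    ∃ (j : E.I₀) (x' x : E.X j), x' ⤳ x ∧ E.f j x' = t' ∧ E.f j x = t := by
  obtain ⟨j, w', w, hw, h1, h2⟩ := specLift_of_hasValLift E hE (𝟙 T) h
  refine ⟨j, pullback.snd (𝟙 T) (E.f j) w', pullback.snd (𝟙 T) (E.f j) w,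
    hw.map (pullback.snd (𝟙 T) (E.f j)).continuous, ?_, ?_⟩
  · rw [← Scheme.Hom.comp_apply, ← pullback.condition, Scheme.Hom.comp_apply, h1]; rfl
  · rw [← Scheme.Hom.comp_apply, ← pullback.condition, Scheme.Hom.comp_apply, h2]; rfl

theorem exists_preimage_of_hasValLift {T : Scheme.{u}} (E : PreZeroHypercover.{w} T)
    (hE : HTop.HasValLift E) (t : T) : ∃ (j : E.I₀) (x : E.X j), E.f j x = t := by
  obtain ⟨j, x', x, -, -, hx⟩ := exists_specializes_of_hasValLift E hE (specializes_refl t)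
  exact ⟨j, x, hx⟩

theorem isClosed_of_isStandardV {U : Scheme.{u}} (F : PreZeroHypercover.{0} U)
    (hF : HTop.IsStandardV F) (T : Set U) (hT : ∀ k, IsClosed ((F.f k) ⁻¹' T)) : IsClosed T := by
  have := hF.isAffine
  have := hF.finite_index
  have := hF.isAffine_obj
  let π : ∐ F.X ⟶ U := Sigma.desc F.f
  have hπ : ∀ k, Sigma.ι F.X k ≫ π = F.f k := fun k => Sigma.ι_desc _ _
  have hZ : IsClosed (π ⁻¹' T) := by
    rw [← isOpen_compl_iff]
    have : (π ⁻¹' T)ᶜ = ⋃ k, (Sigma.ι F.X k) '' ((F.f k) ⁻¹' T)ᶜ := by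
      ext z
      simp only [Set.mem_compl_iff, Set.mem_preimage, Set.mem_iUnion, Set.mem_image]
      constructor
      · intro hz
        obtain ⟨k, y, rfl⟩ := (sigmaOpenCover F.X).exists_eq z
        refine ⟨k, y, ?_, rfl⟩
        rw [← hπ k]; exact hz
      · rintro ⟨k, y, hy, rfl⟩
        rw [← hπ k] at hy; exact hy
    rw [this]
    exact isOpen_iUnion fun k => (Sigma.ι F.X k).isOpenEmbedding.isOpenMap _ (hT k).isOpen_compl
  have hsurj : Function.Surjective π := by
    intro t
    obtain ⟨j, x, hx⟩ := exists_preimage_of_hasValLift F hF.lift t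
    exact ⟨Sigma.ι F.X j x, by rw [← Scheme.Hom.comp_apply, hπ j, hx]⟩
  have himg : π '' (π ⁻¹' T) = T := Set.image_preimage_eq T hsurj
  have hstab : StableUnderSpecialization T := by
    intro t' t h ht'
    obtain ⟨j, x', x, hx, h1, h2⟩ := exists_specializes_of_hasValLift F hF.lift h
    have : x' ∈ (F.f j) ⁻¹' T := by change F.f j x' ∈ T; rw [h1]; exact ht'
    have hx2 := hx.mem_closed (hT j) this
    rw [← h2]; exact hx2
  rw [← himg] at hstab ⊢
  exact isClosed_image_of_stable π _ hZ hstab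

theorem isClosed_of_isVCover {Y : Scheme.{u}} (E : PreZeroHypercover.{w} Y)
    (hE : HTop.IsVCover E) (T : Set Y) (hT : ∀ j, IsClosed ((E.f j) ⁻¹' T)) : IsClosed T := by
  rw [TopologicalSpace.IsOpenCover.isClosed_iff_coe_preimage (iSup_affineOpens_eq_top Y)]
  intro U
  obtain ⟨F, hF, hFE⟩ := hE U
  change IsClosed (U.1.ι ⁻¹' T)
  apply isClosed_of_isStandardV F hF
  intro k
  obtain ⟨i, h, hh⟩ := hFE k
  have : (F.f k) ⁻¹' (U.1.ι ⁻¹' T) = h ⁻¹' ((E.f i) ⁻¹' T) := by
    rw [← Set.preimage_comp, ← Set.preimage_comp]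
    change (F.f k ≫ U.1.ι) ⁻¹' T = (h ≫ E.f i) ⁻¹' T
    rw [hh]
  rw [this]
  exact (hT i).preimage h.continuous

/-- S7477 -/
theorem univSubmersive_sigmaDesc_of_isVCover {X : Scheme.{u}} (E : PreZeroHypercover.{u} X)
    (hE : HTop.IsVCover E) : SGA1.UnivSubmersive (Sigma.desc E.f) := by
  intro X' Y' i₁ i₂ f' hpb
  have hE' : HTop.IsVCover (E.pullback₁ i₂) := isVCover_pullback i₂ E hE
  -- maps from the members of the pulled back family
  let m : ∀ j, pullback i₂ (E.f j) ⟶ X' := fun j =>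
    hpb.lift (pullback.fst i₂ (E.f j)) (pullback.snd i₂ (E.f j) ≫ Sigma.ι E.X j) (by
      rw [Category.assoc, Sigma.ι_desc, pullback.condition])
  have hm : ∀ j, m j ≫ f' = pullback.fst i₂ (E.f j) := fun j => hpb.lift_fst _ _ _
  change Topology.IsQuotientMap f'
  rw [Topology.isQuotientMap_iff_isClosed]
  refine ⟨?_, fun T => ⟨fun h => h.preimage f'.continuous, fun h => ?_⟩⟩
  · intro y
    obtain ⟨j, x, hx⟩ := exists_preimage_of_hasValLift _ (hasValLift_of_isVCover _ hE') y
    change E.I₀ at j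
    change ↥(pullback i₂ (E.f j)) at x
    refine ⟨m j x, ?_⟩
    have e : f' (m j x) = (m j ≫ f') x := rfl
    rw [e, hm j]; exact hx
  · apply isClosed_of_isVCover _ hE'
    intro j
    have : ((E.pullback₁ i₂).f j) ⁻¹' T = (m j) ⁻¹' (f' ⁻¹' T) := by
      rw [← Set.preimage_comp]
      change _ = (m j ≫ f') ⁻¹' T
      rw [hm j]; rfl
    rw [this]
    exact h.preimage (m j).continuous

end Groth.Agent.Lib.Helper9.VCov
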