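import Groth.Agent.Lib.Helper9.VCov6
import Mathlib.AlgebraicGeometry.Morphisms.UniversallyOpen

namespace Groth.Agent.Lib.Helper9.VCov

open CategoryTheory CategoryTheory.Limits AlgebraicGeometry TopologicalSpace IsLocalRing

universe u w

/-- a flat jointly surjective family has the valuative lifting property. -/
theorem hasValLift_of_flat_surjective {T : Scheme.{u}} (E : PreZeroHypercover.{w} T)
    (hflat : ∀ j, Flat (E.f j)) (hsurj : ∀ t : T, ∃ (j : E.I₀) (x : E.X j), E.f j x = t) :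
    HTop.HasValLift E := by
  apply hasValLift_of_specLift
  intro Z g z' z h
  obtain ⟨j, x, hx⟩ := hsurj (g z)
  obtain ⟨w, hw1, hw2⟩ := Scheme.Pullback.exists_preimage_pullback (f := g) (g := E.f j) z x hx.symm
  haveI := hflat j
  have hgen : GeneralizingMap (pullback.fst g (E.f j)) := Flat.generalizingMap _
  obtain ⟨w', hw', hw'1⟩ := hgen (a := w) (b := z') (by rw [hw1]; exact h)
  exact ⟨j, w', w, hw', hw'1, hw1⟩

/-- S7467 -/
theorem isStandardV_of_standard_fpqc {T : Scheme.{u}} [IsAffine T] (E : PreZeroHypercover.{w} T)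
    (hfin : Finite E.I₀) (haff : ∀ j, IsAffine (E.X j)) (hflat : ∀ j, Flat (E.f j))
    (hsurj : ∀ t : T, ∃ (j : E.I₀) (x : E.X j), E.f j x = t) : HTop.IsStandardV E :=
  ⟨inferInstance, hfin, haff, hasValLift_of_flat_surjective E hflat hsurj⟩


set_option backward.isDefEq.respectTransparency.types false in
/-- S7473, for general quasi-compact flat jointly surjective families. -/
theorem isVCover_of_flat_quasiCompactCover {T : Scheme.{u}} (E : PreZeroHypercover.{w} T)
    [QuasiCompactCover E] (hflat : ∀ j, Flat (E.f j)) : HTop.IsVCover E := by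
  intro U
  obtain ⟨n, a, V, hV, hU⟩ := QuasiCompactCover.exists_isAffineOpen_of_isCompact E
    (U := U.1) U.2.isCompact
  have hr : ∀ k : Fin n, Set.range ((V k).ι ≫ E.f (a k)) ⊆ Set.range U.1.ι := by
    intro k
    rw [Scheme.Opens.range_ι, ← hU]
    rintro _ ⟨x, rfl⟩
    refine Set.mem_iUnion.mpr ⟨k, x.1, x.2, rfl⟩
  let F : PreZeroHypercover.{0} (U.1 : Scheme.{u}) :=
    { I₀ := Fin n
      X := fun k => (V k : Scheme.{u})
      f := fun k => IsOpenImmersion.lift U.1.ι ((V k).ι ≫ E.f (a k)) (hr k) }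
  have hF : ∀ k, F.f k ≫ U.1.ι = (V k).ι ≫ E.f (a k) := fun k =>
    IsOpenImmersion.lift_fac _ _ _
  refine ⟨F, ?_, fun k => ⟨a k, (V k).ι, (hF k).symm⟩⟩
  haveI : IsAffine (U.1 : Scheme.{u}) := U.2
  refine isStandardV_of_standard_fpqc F (inferInstanceAs (Finite (Fin n))) (fun k => hV k) ?_ ?_
  · intro k
    haveI := hflat (a k)
    have : Flat (F.f k ≫ U.1.ι) := by rw [hF k]; infer_instance
    exact MorphismProperty.of_postcomp (W := @Flat) (W' := @IsOpenImmersion) (F.f k) U.1.ι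
      inferInstance this
  · intro t
    have ht : (U.1.ι t) ∈ ((U.1 : T.Opens) : Set T) := by
      rw [← Scheme.Opens.range_ι]; exact ⟨t, rfl⟩
    rw [← hU] at ht
    obtain ⟨k, x, hx, hxt⟩ := Set.mem_iUnion.mp ht
    refine ⟨k, ⟨x, hx⟩, ?_⟩
    apply U.1.ι.isOpenEmbedding.injective
    have e : U.1.ι (F.f k ⟨x, hx⟩) = (F.f k ≫ U.1.ι) ⟨x, hx⟩ := rfl
    rw [← hxt, e, hF k]
    rfl

/-- S7473 -/
theorem isVCover_of_fpqc {T : Scheme.{u}} (𝒰 : Scheme.Cover Scheme.fpqcPrecoverage T) :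
    HTop.IsVCover 𝒰.toPreZeroHypercover := by
  haveI : QuasiCompactCover 𝒰.toPreZeroHypercover := by
    rw [← Scheme.presieve₀_mem_qcPrecoverage_iff]
    exact 𝒰.mem₀.1
  apply isVCover_of_flat_quasiCompactCover
  intro j
  have h2 : 𝒰.presieve₀ ∈ Scheme.precoverage @Flat T := 𝒰.mem₀.2
  exact ((Scheme.ofArrows_mem_precoverage_iff (P := @Flat)).mp h2).2 j


set_option backward.isDefEq.respectTransparency.types false in
/-- a family obtained by restricting a universally closed surjective morphism to an open cover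
of its source has the valuative lifting property. -/
theorem hasValLift_of_univClosed_surjective {T U : Scheme.{u}} (E : PreZeroHypercover.{w} T)
    (f : U ⟶ T) (ι : ∀ j, E.X j ⟶ U) [UniversallyClosed f] [Surjective f]
    (hι : ∀ j, IsOpenImmersion (ι j)) (hf : ∀ j, ι j ≫ f = E.f j)
    (hcov : ∀ x : U, ∃ j, x ∈ Set.range (ι j)) : HTop.HasValLift E := by
  apply hasValLift_of_specLift
  intro Z g z' z h
  have hcl : IsClosedMap (pullback.fst g f) := (pullback.fst g f).isClosedMap
  obtain ⟨w'₀, hw'₀⟩ := (pullback.fst g f).surjective z'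
  obtain ⟨w₀, hw₀, hw₀z⟩ := hcl.specializingMap (a := w'₀) (b := z) (by rw [hw'₀]; exact h)
  obtain ⟨j, hj⟩ := hcov (pullback.snd g f w₀)
  haveI := hι j
  let q : pullback g (E.f j) ⟶ pullback g f :=
    pullback.map g (E.f j) g f (𝟙 Z) (ι j) (𝟙 T) (by simp) (by simp [hf j])
  have hq : Set.range q = (pullback.snd g f) ⁻¹' Set.range (ι j) := by
    have := Scheme.Pullback.range_map (f := g) (g := E.f j) g f (𝟙 Z) (ι j) (𝟙 T) (by simp)
      (by simp [hf j])
    rw [this]
    have : Set.range (𝟙 Z : Z ⟶ Z) = Set.univ := by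
      ext x; simp
    rw [this]; simp
  have hw₀q : w₀ ∈ Set.range q := by rw [hq]; exact hj
  have hw'₀q : w'₀ ∈ Set.range q := hw₀.mem_open q.isOpenEmbedding.isOpen_range hw₀q
  obtain ⟨w, rfl⟩ := hw₀q
  obtain ⟨w', rfl⟩ := hw'₀q
  have hqf : q ≫ pullback.fst g f = pullback.fst g (E.f j) := by
    dsimp only [q]
    rw [pullback.lift_fst, Category.comp_id]
  refine ⟨j, w', w, (q.isOpenEmbedding.isInducing.specializes_iff).mp hw₀, ?_, ?_⟩
  · rw [← hqf]; exact hw'₀
  · rw [← hqf]; exact hw₀z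

/-- S7468 -/
theorem isStandardV_of_isStandardPh {T : Scheme.{u}} (E : PreZeroHypercover.{w} T)
    (hE : HTop.IsStandardPh E) : HTop.IsStandardV E := by
  obtain ⟨U, f, ι, hp, hs, hι, hf, hcov⟩ := hE.exists_proper
  exact ⟨hE.isAffine, hE.finite_index, hE.isAffine_obj,
    hasValLift_of_univClosed_surjective E f ι hι hf hcov⟩

end Groth.Agent.Lib.Helper9.VCov
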