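import Groth.Agent.Lib.Helper9.VCov7
import Groth.Agent.Lib.Helper9.VCov3

namespace Groth.Agent.Lib.Helper9.VCov

open CategoryTheory CategoryTheory.Limits AlgebraicGeometry TopologicalSpace IsLocalRing

universe u w w'

theorem isVCover_of_hom {T : Scheme.{u}} {E : PreZeroHypercover.{w} T}
    {E' : PreZeroHypercover.{w'} T} (φ : E.Hom E') (hE : HTop.IsVCover E) : HTop.IsVCover E' := by
  intro U
  obtain ⟨F, hF, hr⟩ := hE U
  exact ⟨F, hF, hr.of_hom φ⟩

/-- S8979 -/
theorem isHCover_singleton_of_proper_surjective {X Y : Scheme.{u}} (f : Y ⟶ X) [IsProper f]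
    [Surjective f] [LocallyOfFinitePresentation f] :
    HTop.IsHCover (PreZeroHypercover.singleton.{w} f) := by
  refine ⟨fun _ => ‹_›, isVCover_singleton_of_hasValLift f ?_⟩
  refine hasValLift_of_univClosed_surjective _ f (fun _ => 𝟙 Y) (fun _ => (inferInstance : IsOpenImmersion (𝟙 Y)))
    (fun _ => Category.id_comp _) (fun x => ⟨⟨⟩, x, rfl⟩)

set_option backward.isDefEq.respectTransparency.types false in
/-- S8980 -/
theorem isHCover_iff_isHCover_singleton_sigmaDesc {T : Scheme.{u}} (E : PreZeroHypercover.{u} T)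
    (hE : ∀ i, LocallyOfFinitePresentation (E.f i)) :
    HTop.IsHCover E ↔ HTop.IsHCover (PreZeroHypercover.singleton.{0} (Sigma.desc E.f)) := by
  have hlfp : LocallyOfFinitePresentation (Sigma.desc E.f) := by
    rw [IsZariskiLocalAtSource.iff_of_openCover (P := @LocallyOfFinitePresentation)
      (sigmaOpenCover E.X)]
    intro i
    change LocallyOfFinitePresentation (Sigma.ι E.X i ≫ Sigma.desc E.f)
    rw [Sigma.ι_desc]
    exact hE i
  constructor
  · rintro ⟨-, h⟩
    refine ⟨fun _ => hlfp, isVCover_of_hom (E := E) ?_ h⟩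
    exact { s₀ := fun _ => ⟨⟩, h₀ := fun i => Sigma.ι E.X i, w₀ := fun i => Sigma.ι_desc _ _ }
  · rintro ⟨-, h⟩
    refine ⟨hE, ?_⟩
    have h1 : HTop.IsVCover (PreZeroHypercover.singleton.{u} (Sigma.desc E.f)) :=
      isVCover_of_hom (E := PreZeroHypercover.singleton.{0} (Sigma.desc E.f))
        { s₀ := fun _ => ⟨⟩, h₀ := fun _ => 𝟙 _, w₀ := fun _ => Category.id_comp _ } h
    have h2 : HTop.IsVCover (sigmaOpenCover E.X).toPreZeroHypercover :=
      isVCover_of_flat_quasiCompactCover _ (fun j => by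
        change Flat (Sigma.ι E.X j); infer_instance)
    have h3 := isVCover_bind (PreZeroHypercover.singleton.{u} (Sigma.desc E.f)) h1
      (fun _ => (sigmaOpenCover E.X).toPreZeroHypercover) (fun _ => h2)
    refine isVCover_of_hom ?_ h3
    exact { s₀ := fun p => p.2, h₀ := fun p => 𝟙 _, w₀ := fun p =>
              (Category.id_comp _).trans (Sigma.ι_desc E.f p.2).symm }


set_option backward.isDefEq.respectTransparency.types false in
/-- S7478 -/
theorem isStandardPh_pullback {T T' : Scheme.{u}} [IsAffine T'] (g : T' ⟶ T)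
    (E : PreZeroHypercover.{w} T) (hE : HTop.IsStandardPh E) :
    HTop.IsStandardPh (E.pullback₁ g) := by
  obtain ⟨U, f, ι, hp, hs, hι, hf, hcov⟩ := hE.exists_proper
  haveI := hE.isAffine
  refine ⟨inferInstance, hE.finite_index, fun j => ?_, ?_⟩
  · haveI := hE.isAffine_obj j
    change IsAffine (pullback g (E.f j))
    infer_instance
  · refine ⟨pullback g f, pullback.fst g f,
      fun j => pullback.map g (E.f j) g f (𝟙 T') (ι j) (𝟙 T) (by simp) (by simp [hf j]),
      inferInstance, inferInstance, fun j => ?_, fun j => ?_, fun x => ?_⟩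
    · haveI := hι j
      exact Scheme.pullback_map_isOpenImmersion g (E.f j) g f (𝟙 T') (ι j) (𝟙 T) _ _
    · change pullback.map g (E.f j) g f (𝟙 T') (ι j) (𝟙 T) _ _ ≫ pullback.fst g f =
        pullback.fst g (E.f j)
      rw [pullback.lift_fst, Category.comp_id]
    · obtain ⟨j, hj⟩ := hcov (pullback.snd g f x)
      refine ⟨j, ?_⟩
      change x ∈ Set.range (pullback.map g (E.f j) g f (𝟙 T') (ι j) (𝟙 T) _ _)
      rw [Scheme.Pullback.range_map]
      refine ⟨⟨pullback.fst g f x, rfl⟩, hj⟩

end Groth.Agent.Lib.Helper9.VCov
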