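import Groth.Agent.Lib.Helper9.VCov8
import Mathlib.AlgebraicGeometry.Sites.SheafQuasiCompact

namespace Groth.Agent.Lib.Helper9.VCov

open CategoryTheory CategoryTheory.Limits AlgebraicGeometry TopologicalSpace IsLocalRing

universe u w w' v

theorem hasValLift_of_hom {T : Scheme.{u}} {E : PreZeroHypercover.{w} T}
    {E' : PreZeroHypercover.{w'} T} (φ : E.Hom E') (hE : HTop.HasValLift E) :
    HTop.HasValLift E' := by
  intro V _ _ g
  obtain ⟨W, hW1, hW2, ψ, hψ, j, g', hg'⟩ := hE V g
  exact ⟨W, hW1, hW2, ψ, hψ, φ.s₀ j, g' ≫ φ.h₀ j, by rw [Category.assoc, φ.w₀, hg']⟩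

theorem ofArrows_comp_surjective {T : Scheme.{u}} {ι : Type w} {ι' : Type w'}
    (X : ι → Scheme.{u}) (f : ∀ i, X i ⟶ T) (e : ι' → ι) (he : Function.Surjective e) :
    Presieve.ofArrows (fun k => X (e k)) (fun k => f (e k)) = Presieve.ofArrows X f := by
  funext Y
  ext g
  constructor
  · rintro ⟨k⟩; exact ⟨e k⟩
  · rintro ⟨i⟩
    obtain ⟨k, rfl⟩ := he i
    exact Presieve.ofArrows.mk (Y := fun k => X (e k)) (f := fun k => f (e k)) k

/-- reindexing of a pre-0-hypercover -/
def reindex {T : Scheme.{u}} (E : PreZeroHypercover.{w} T) {ι' : Type w'} (e : ι' → E.I₀) :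
    PreZeroHypercover.{w'} T := ⟨ι', fun k => E.X (e k), fun k => E.f (e k)⟩

theorem presieve₀_reindex {T : Scheme.{u}} (E : PreZeroHypercover.{w} T) {ι' : Type w'}
    (e : ι' → E.I₀) (he : Function.Surjective e) : (reindex E e).presieve₀ = E.presieve₀ :=
  ofArrows_comp_surjective E.X E.f e he

theorem isStandardV_reindex {T : Scheme.{u}} (E : PreZeroHypercover.{w} T) {ι' : Type w'}
    [Finite ι'] (e : ι' → E.I₀) (he : Function.Surjective e) (hE : HTop.IsStandardV E) :
    HTop.IsStandardV (reindex E e) := by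
  refine ⟨hE.isAffine, ‹Finite ι'›, fun k => hE.isAffine_obj _, ?_⟩
  intro V _ _ g
  obtain ⟨W, hW1, hW2, ψ, hψ, j, g', hg'⟩ := hE.lift V g
  obtain ⟨k, rfl⟩ := he j
  exact ⟨W, hW1, hW2, ψ, hψ, k, g', hg'⟩

theorem affX (Y : Scheme.{u}) (i) : IsAffine (Y.affineOneHypercover.X i) :=
  Scheme.isAffine_affineCover Y i

theorem affY (Y : Scheme.{u}) (i j) (k : Y.affineOneHypercover.I₁ i j) :
    IsAffine (Y.affineOneHypercover.Y k) :=
  Scheme.isAffine_affineCover (pullback (Y.affineCover.f i) (Y.affineCover.f j)) k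

theorem isStandardV_pullback₂ {T Z : Scheme.{u}} [IsAffine Z] (h : Z ⟶ T)
    (E : PreZeroHypercover.{w} T) (hE : HTop.IsStandardV E) :
    HTop.IsStandardV (E.pullback₂ h) := by
  have hT : IsAffine T := hE.isAffine
  refine ⟨inferInstance, hE.finite_index, fun j => ?_, ?_⟩
  · have : IsAffine (E.X j) := hE.isAffine_obj j
    change IsAffine (pullback (E.f j) h)
    infer_instance
  · intro V _ _ g'
    obtain ⟨W, hW1, hW2, φ, hφ, j, k, hk⟩ := hE.lift V (g' ≫ h)
    refine ⟨W, hW1, hW2, φ, hφ, j, ?_⟩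
    refine ⟨pullback.lift k (Spec.map φ ≫ g') (by rw [Category.assoc, hk]), ?_⟩
    change pullback.lift _ _ _ ≫ pullback.snd (E.f j) h = _
    rw [pullback.lift_snd]

theorem isVCover_pullback₂ {T Z : Scheme.{u}} (h : Z ⟶ T)
    (E : PreZeroHypercover.{w} T) (hE : HTop.IsVCover E) :
    HTop.IsVCover (E.pullback₂ h) := by
  refine isVCover_of_hom (E := E.pullback₁ h) ?_ (isVCover_pullback h E hE)
  exact
    { s₀ := fun j => j
      h₀ := fun j => (pullbackSymmetry _ _).hom
      w₀ := fun j => by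
        change (pullbackSymmetry h (E.f j)).hom ≫ pullback.snd (E.f j) h = pullback.fst h (E.f j)
        simp }

theorem sieve_pullback_generate {T Z : Scheme.{u}} (h : Z ⟶ T) (E : PreZeroHypercover.{w} T) :
    (Sieve.generate E.presieve₀).pullback h = Sieve.generate (E.pullback₂ h).presieve₀ := by
  rw [← Sieve.pullbackArrows_comm]
  congr 1
  exact (Presieve.ofArrows_pullback h E.X E.f).symm

section

variable (F : Scheme.{u}ᵒᵖ ⥤ Type v)
  (hstd : ∀ (T : Scheme.{u}) (E : PreZeroHypercover.{u} T), HTop.IsStandardV E →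
    Presieve.IsSheafFor F E.presieve₀)

include hstd in
theorem isSheafFor_of_isStandardV {T : Scheme.{u}} (E : PreZeroHypercover.{w} T)
    (hE : HTop.IsStandardV E) : Presieve.IsSheafFor F E.presieve₀ := by
  haveI := hE.finite_index
  obtain ⟨n, ⟨e⟩⟩ := Finite.exists_equiv_fin E.I₀
  have hs : Function.Surjective (fun k : ULift.{u} (Fin n) => e.symm k.down) := by
    intro j; exact ⟨⟨e j⟩, e.symm_apply_apply j⟩
  rw [← presieve₀_reindex E _ hs]
  exact hstd T _ (isStandardV_reindex E _ hs hE)

variable (hzar : Presieve.IsSheaf Scheme.zariskiTopology F)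

include hstd in
theorem isSheafFor_pullback_of_isStandardV_of_isAffine {T Z : Scheme.{u}} [IsAffine Z]
    (h : Z ⟶ T) (E : PreZeroHypercover.{w} T) (hE : HTop.IsStandardV E) :
    Presieve.IsSheafFor F ((Sieve.generate E.presieve₀).pullback h).arrows := by
  rw [sieve_pullback_generate, ← Presieve.isSheafFor_iff_generate]
  exact isSheafFor_of_isStandardV F hstd _ (isStandardV_pullback₂ h E hE)

include hstd hzar in
theorem isSheafFor_pullback_of_isStandardV {T Y : Scheme.{u}} (f : Y ⟶ T)
    (E : PreZeroHypercover.{w} T) (hE : HTop.IsStandardV E) :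
    Presieve.IsSheafFor F ((Sieve.generate E.presieve₀).pullback f).arrows := by
  refine Y.affineOneHypercover.isSheafFor_sieve_of_pullback hzar (fun i => ?_) (fun i j k => ?_)
  · rw [← Sieve.pullback_comp]
    haveI := affX Y i
    exact isSheafFor_pullback_of_isStandardV_of_isAffine F hstd _ E hE
  · rw [← Sieve.pullback_comp]
    haveI := affY Y i j k
    exact (isSheafFor_pullback_of_isStandardV_of_isAffine F hstd _ E hE).isSeparatedFor

include hstd hzar in
theorem isSheafFor_generate_of_isVCover_of_isAffine {T : Scheme.{u}} [IsAffine T]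
    (E : PreZeroHypercover.{w} T) (hE : HTop.IsVCover E) :
    Presieve.IsSheafFor F (Sieve.generate E.presieve₀).arrows := by
  obtain ⟨G, hG, hGE⟩ := exists_standardV_of_isAffine E hE
  have hle : Sieve.generate G.presieve₀ ≤ Sieve.generate E.presieve₀ := by
    rw [Sieve.generate_le_iff]
    rintro Y g ⟨l⟩
    obtain ⟨i, h, hh⟩ := hGE l
    rw [← hh]
    exact ⟨_, h, E.f i, ⟨i⟩, rfl⟩
  apply Presieve.isSheafFor_subsieve_aux (S := Sieve.generate G.presieve₀) F hle
  · rw [← Presieve.isSheafFor_iff_generate]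
    exact isSheafFor_of_isStandardV F hstd G hG
  · intro Y f _
    exact (isSheafFor_pullback_of_isStandardV F hstd hzar f G hG).isSeparatedFor

include hstd hzar in
theorem isSheafFor_pullback_of_isVCover_of_isAffine {T Z : Scheme.{u}} [IsAffine Z]
    (h : Z ⟶ T) (E : PreZeroHypercover.{w} T) (hE : HTop.IsVCover E) :
    Presieve.IsSheafFor F ((Sieve.generate E.presieve₀).pullback h).arrows := by
  rw [sieve_pullback_generate]
  exact isSheafFor_generate_of_isVCover_of_isAffine F hstd hzar _ (isVCover_pullback₂ h E hE)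

include hstd hzar in
theorem isSheafFor_of_isVCover {T : Scheme.{u}}
    (E : PreZeroHypercover.{w} T) (hE : HTop.IsVCover E) :
    Presieve.IsSheafFor F E.presieve₀ := by
  refine T.affineOneHypercover.isSheafFor_of_pullback hzar (fun i => ?_) (fun i j k => ?_)
  · haveI := affX T i
    exact isSheafFor_pullback_of_isVCover_of_isAffine F hstd hzar _ E hE
  · haveI := affY T i j k
    exact (isSheafFor_pullback_of_isVCover_of_isAffine F hstd hzar _ E hE).isSeparatedFor

end

theorem isVCover_of_isStandardV {T : Scheme.{u}} (E : PreZeroHypercover.{w} T)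
    (hE : HTop.IsStandardV E) : HTop.IsVCover E := by
  intro U
  haveI := hE.finite_index
  obtain ⟨n, ⟨e⟩⟩ := Finite.exists_equiv_fin E.I₀
  have hs : Function.Surjective (fun k : Fin n => e.symm k) := e.symm.surjective
  haveI : IsAffine (U.1 : Scheme.{u}) := U.2
  refine ⟨(reindex E (fun k : Fin n => e.symm k)).pullback₁ U.1.ι,
    Groth.Agent.S7469.result _ _ (isStandardV_reindex E _ hs hE),
    fun k => ⟨e.symm k, pullback.snd _ _, pullback.condition.symm⟩⟩

set_option backward.isDefEq.respectTransparency.types false in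
/-- S7474 -/
theorem isVSheaf_iff_zariski_and_standardV (F : Scheme.{u}ᵒᵖ ⥤ Type v) :
    HTop.IsVSheaf F ↔ (Presieve.IsSheaf Scheme.zariskiTopology F ∧
      ∀ (T : Scheme.{u}) (E : PreZeroHypercover.{u} T), HTop.IsStandardV E →
        Presieve.IsSheafFor F E.presieve₀) := by
  constructor
  · intro h
    refine ⟨?_, fun T E hE => h _ ((HTop.presieve₀_mem_vPrecoverage_iff E).mpr
      (isVCover_of_isStandardV E hE))⟩
    rw [Precoverage.isSheaf_toGrothendieck_iff_of_isStableUnderBaseChange]
    intro Y S hS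
    obtain ⟨(𝓤 : Scheme.OpenCover Y), rfl⟩ := Scheme.exists_cover_of_mem_pretopology hS
    apply h
    change 𝓤.toPreZeroHypercover.presieve₀ ∈ _
    rw [HTop.presieve₀_mem_vPrecoverage_iff]
    exact isVCover_of_flat_quasiCompactCover _ (fun j => inferInstance)
  · rintro ⟨hzar, hstd⟩ X R hR
    rw [HTop.vPrecoverage, PreZeroHypercoverFamily.mem_precoverage_iff] at hR
    obtain ⟨E, hE, rfl⟩ := hR
    exact isSheafFor_of_isVCover F hstd hzar E hE

end Groth.Agent.Lib.Helper9.VCov
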