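import Groth.Agent.Lib.Helper9.VSheaf1

namespace Groth.Agent.Lib.Helper9.VCov

open CategoryTheory CategoryTheory.Limits AlgebraicGeometry TopologicalSpace IsLocalRing

universe u w w' v

set_option backward.isDefEq.respectTransparency.types false in
theorem isSheafFor_of_singleton (F : Scheme.{u}ᵒᵖ ⥤ Type v)
    (hzar : Presieve.IsSheaf Scheme.zariskiTopology F)
    (hsing : ∀ (U V : Scheme.{u}) (f : V ⟶ U),
      HTop.IsStandardV (PreZeroHypercover.singleton.{w} f) →
        Presieve.IsSheafFor F (Presieve.singleton f))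
    (T : Scheme.{u}) (E : PreZeroHypercover.{u} T) (hE : HTop.IsStandardV E) :
    Presieve.IsSheafFor F E.presieve₀ := by
  haveI := hE.finite_index
  haveI := hE.isAffine
  haveI := hE.isAffine_obj
  have : PreservesLimitsOfShape (Discrete (E.I₀ × E.I₀)) F :=
    preservesLimitsOfShape_discrete_of_isSheaf_zariskiTopology hzar
  have : PreservesLimitsOfShape (Discrete E.I₀) F :=
    preservesLimitsOfShape_discrete_of_isSheaf_zariskiTopology hzar
  change Presieve.IsSheafFor F (Presieve.ofArrows E.X E.f)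
  rw [← Presieve.isSheafFor_sigmaDesc_iff E.f (coproductIsCoproduct _)
    (FinitaryExtensive.isVanKampen_finiteCoproducts (coproductIsCoproduct _)).isUniversal]
  apply hsing
  refine ⟨inferInstance, inferInstance, fun _ => ?_, ?_⟩
  · change IsAffine (∐ E.X)
    infer_instance
  · refine hasValLift_of_hom (E := E) ?_ hE.lift
    exact { s₀ := fun _ => ⟨⟩, h₀ := fun i => Sigma.ι E.X i, w₀ := fun i => Sigma.ι_desc _ _ }

/-- S7475 -/
theorem isVSheaf_iff_zariski_and_standardV_singleton (F : Scheme.{u}ᵒᵖ ⥤ Type v) :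
    HTop.IsVSheaf F ↔ (Presieve.IsSheaf Scheme.zariskiTopology F ∧
      ∀ (U V : Scheme.{u}) (f : V ⟶ U), HTop.IsStandardV (PreZeroHypercover.singleton.{w} f) →
        Presieve.IsSheafFor F (Presieve.singleton f)) := by
  constructor
  · intro h
    refine ⟨((isVSheaf_iff_zariski_and_standardV F).mp h).1, fun U V f hf => ?_⟩
    rw [← PreZeroHypercover.presieve₀_singleton.{_, _, w} f]
    exact h _ ((HTop.presieve₀_mem_vPrecoverage_iff _).mpr (isVCover_of_isStandardV _ hf))
  · rintro ⟨hzar, hsing⟩
    exact (isVSheaf_iff_zariski_and_standardV F).mpr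
      ⟨hzar, isSheafFor_of_singleton F hzar hsing⟩

end Groth.Agent.Lib.Helper9.VCov
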