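import Groth.Agent.Lib.Helper29.IdealComap
import Groth.Agent.Lib.Helper29.EffCart4
import Groth.Agent.Lib.Helper9.ValData
import Groth.Prelude.Def_W4c6modpairsegaMP

namespace Groth.Agent.Lib.Helper9.ValData

open CategoryTheory CategoryTheory.Limits AlgebraicGeometry IsLocalRing
open Groth.Agent.Lib.Helper29.EffCart

universe u

variable {X : Scheme.{u}}

/-- the morphism `Spec R ⟶ X` attached to a ring map out of the sections on an affine open. -/
noncomputable def toX (W : X.affineOpens) {R : Type u} [CommRing R] (φ : Γ(X, W.1) →+* R) :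
    Spec (CommRingCat.of R) ⟶ X :=
  Spec.map (CommRingCat.ofHom φ) ≫ W.2.fromSpec

theorem top_le_toX_preimage (W : X.affineOpens) {R : Type u} [CommRing R] (φ : Γ(X, W.1) →+* R) :
    (⊤ : (Spec (CommRingCat.of R)).Opens) ≤ toX W φ ⁻¹ᵁ W.1 := by
  intro x _
  change (toX W φ) x ∈ W.1
  rw [toX, Scheme.Hom.comp_apply]
  have : W.2.fromSpec ((Spec.map (CommRingCat.ofHom φ)) x) ∈ Set.range W.2.fromSpec := ⟨_, rfl⟩
  rw [W.2.range_fromSpec] at this
  exact this

theorem toX_appLE (W : X.affineOpens) {R : Type u} [CommRing R] (φ : Γ(X, W.1) →+* R) :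
    (toX W φ).appLE W.1 ⊤ (top_le_toX_preimage W φ) =
      CommRingCat.ofHom φ ≫ (Scheme.ΓSpecIso (CommRingCat.of R)).inv := by
  have e1 : (toX W φ).appLE W.1 ⊤ (top_le_toX_preimage W φ) =
      W.2.fromSpec.appLE W.1 ⊤ (by rw [W.2.fromSpec_preimage_self]) ≫
        (Spec.map (CommRingCat.ofHom φ)).appLE ⊤ ⊤ le_top :=
    (Scheme.Hom.appLE_comp_appLE _ _ _ _ _ _ _).symm
  rw [e1, fromSpec_appLE_top]
  exact (Scheme.ΓSpecIso_inv_naturality (CommRingCat.ofHom φ)).symm

/-- the top affine open of `Spec R`. -/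
noncomputable abbrev topAff (R : Type u) [CommRing R] : (Spec (CommRingCat.of R)).affineOpens :=
  ⟨⊤, isAffineOpen_top _⟩

theorem ideal_comap_toX (I : X.IdealSheafData) (W : X.affineOpens) {R : Type u} [CommRing R]
    (φ : Γ(X, W.1) →+* R) (f : Γ(X, W.1)) (hI : I.ideal W = Ideal.span {f}) :
    (I.comap (toX W φ)).ideal (topAff R) =
      Ideal.span {(Scheme.ΓSpecIso (CommRingCat.of R)).inv.hom (φ f)} := by
  rw [ideal_comap_eq_map I (toX W φ) W (topAff R) (top_le_toX_preimage W φ), hI, Ideal.map_span,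
    Set.image_singleton, toX_appLE]
  rfl

theorem isEffCartierIdeal_of_top {R : Type u} [CommRing R]
    (K : (Spec (CommRingCat.of R)).IdealSheafData) (r : Γ(Spec (CommRingCat.of R), ⊤))
    (hr : r ∈ nonZeroDivisors Γ(Spec (CommRingCat.of R), ⊤))
    (hK : K.ideal (topAff R) = Ideal.span {r}) : BlowUp.IsEffCartierIdeal K :=
  fun _ => ⟨topAff R, trivial, r, hr, hK⟩

theorem mem_interior_iff {R : Type u} [CommRing R]
    (K : (Spec (CommRingCat.of R)).IdealSheafData) (r : R)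
    (hK : K.ideal (topAff R) = Ideal.span {(Scheme.ΓSpecIso (CommRingCat.of R)).inv.hom r})
    (x : Spec (CommRingCat.of R)) :
    x ∈ (ModPair.interior K : Set (Spec (CommRingCat.of R))) ↔ r ∉ x.asIdeal := by
  change x ∈ ((K.support : Set _)ᶜ) ↔ _
  rw [Set.mem_compl_iff, SetLike.mem_coe,
    Scheme.IdealSheafData.mem_support_iff_of_mem (U := topAff R) trivial, hK,
    Scheme.mem_zeroLocus_iff]
  have hb : ∀ s : R, x ∈ (Spec (CommRingCat.of R)).basicOpen
      ((Scheme.ΓSpecIso (CommRingCat.of R)).inv.hom s) ↔ s ∉ x.asIdeal := by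
    intro s
    rw [basicOpen_eq_of_affine]
    rfl
  constructor
  · intro h hrx
    apply h
    intro s hs
    obtain ⟨a, rfl⟩ := Ideal.mem_span_singleton'.mp hs
    rw [Scheme.basicOpen_mul]
    rintro ⟨-, h2⟩
    exact (hb r).mp h2 hrx
  · intro hrx h
    exact h _ (Ideal.subset_span rfl) ((hb r).mpr hrx)

theorem isUnit_of_span_eq_top {R : Type u} [CommRing R] (r : R)
    (h : Ideal.span {(Scheme.ΓSpecIso (CommRingCat.of R)).inv.hom r} = ⊤) : IsUnit r := by
  rw [Ideal.span_singleton_eq_top] at h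
  have := h.map (Scheme.ΓSpecIso (CommRingCat.of R)).hom.hom
  rwa [← CommRingCat.comp_apply, Iso.inv_hom_id] at this

theorem inv_mem_nonZeroDivisors {R : Type u} [CommRing R] [IsDomain R] (r : R) (hr : r ≠ 0) :
    (Scheme.ΓSpecIso (CommRingCat.of R)).inv.hom r ∈
      nonZeroDivisors Γ(Spec (CommRingCat.of R), ⊤) := by
  rw [mem_nonZeroDivisors_iff_right]
  intro z hz
  have h1 := congrArg (Scheme.ΓSpecIso (CommRingCat.of R)).hom.hom hz
  rw [map_mul, map_zero, ← CommRingCat.comp_apply, Iso.inv_hom_id] at h1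
  have h2 : (Scheme.ΓSpecIso (CommRingCat.of R)).hom.hom z = 0 := by
    rcases mul_eq_zero.mp h1 with h | h
    · exact h
    · exact absurd h hr
  have hinj : Function.Injective (Scheme.ΓSpecIso (CommRingCat.of R)).hom.hom :=
    (ConcreteCategory.bijective_of_isIso _).1
  exact hinj (by rw [h2, map_zero])

/-- S19334 -/
theorem modulus_eq_top {X : Scheme.{u}}
    (I : X.IdealSheafData) (hI : BlowUp.IsEffCartierIdeal I)
    (h : ∀ (R : Type u) [CommRing R] [IsDomain R] [ValuationRing R]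
      (p : Spec (CommRingCat.of R) ⟶ X), BlowUp.IsEffCartierIdeal (I.comap p) → I.comap p = ⊤) :
    I = ⊤ := by
  by_contra hne
  have hsupp : I.support ≠ ⊥ := fun h0 => hne ((I.support_eq_bot_iff).mp h0)
  obtain ⟨x, hx⟩ : ∃ x, x ∈ I.support := by
    by_contra hcon
    push Not at hcon
    exact hsupp (TopologicalSpace.Closeds.ext (Set.eq_empty_of_forall_notMem hcon))
  obtain ⟨W, hxW, f, hf, hIW⟩ := hI x
  rw [Scheme.IdealSheafData.mem_support_iff_of_mem hxW, hIW, Scheme.mem_zeroLocus_iff] at hx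
  have hxf : x ∉ X.basicOpen f := hx f (Ideal.subset_span rfl)
  let 𝔭 := W.2.primeIdealOf ⟨x, hxW⟩
  have hfp : f ∈ 𝔭.asIdeal := by
    by_contra hcon
    apply hxf
    have h1 : 𝔭 ∈ W.2.fromSpec ⁻¹ᵁ X.basicOpen f := by
      rw [W.2.fromSpec_preimage_basicOpen]; exact hcon
    have h2 : W.2.fromSpec 𝔭 ∈ X.basicOpen f := h1
    rwa [W.2.fromSpec_primeIdealOf ⟨x, hxW⟩] at h2
  obtain ⟨R, _, _, _, φ, hφf, hφp, -⟩ := exists_valuationRing_data Γ(X, W.1) 𝔭.asIdeal f hf
  have hK := ideal_comap_toX I W φ f hIW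
  have heff := isEffCartierIdeal_of_top (I.comap (toX W φ)) _ (inv_mem_nonZeroDivisors _ hφf) hK
  have htop := h R (toX W φ) heff
  rw [htop] at hK
  have hu : IsUnit (φ f) := isUnit_of_span_eq_top _ hK.symm
  exact (mem_nonunits_iff.mp ((mem_maximalIdeal _).mp (hφp f hfp))) hu

/-- S19335 -/
theorem modulus_eq_of_eq_on_valuationRings {X : Scheme.{u}} (I J : X.IdealSheafData)
    (hI : BlowUp.IsEffCartierIdeal I) (hJ : BlowUp.IsEffCartierIdeal J) (hJI : J ≤ I)
    (h : ∀ (R : Type u) [CommRing R] [IsDomain R] [ValuationRing R]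
      (p : Spec (CommRingCat.of R) ⟶ X), BlowUp.IsEffCartierIdeal (I.comap p) →
        (∀ x : Spec (CommRingCat.of R),
          x ∈ (ModPair.interior (I.comap p) : Set (Spec (CommRingCat.of R))) ↔ x.asIdeal = ⊥) →
        I.comap p = J.comap p) :
    I = J := by
  refine le_antisymm ?_ hJI
  -- a family of affine opens on which both ideals are principal
  have hloc : ∀ x : X, ∃ W : X.affineOpens, x ∈ W.1 ∧
      ∃ f : Γ(X, W.1), f ∈ nonZeroDivisors Γ(X, W.1) ∧ I.ideal W = Ideal.span {f} ∧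
        ∃ g : Γ(X, W.1), J.ideal W = Ideal.span {g} := by
    intro x
    obtain ⟨W₁, hxW₁, g₁, -, hJW₁⟩ := hJ x
    obtain ⟨W, hxW, hWW₁, f, hf, hIW⟩ := exists_affine_principal_nzd_le I hI x W₁.1 hxW₁
    refine ⟨W, hxW, f, hf, hIW, (X.presheaf.map (homOfLE hWW₁).op).hom g₁, ?_⟩
    rw [← J.map_ideal (U := W) (V := W₁) hWW₁, hJW₁, Ideal.map_span, Set.image_singleton]
    rfl
  choose W hxW f hf hIW g hJW using hloc
  refine Scheme.IdealSheafData.le_of_iSup_eq_top W ?_ ?_
  · rw [eq_top_iff]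
    intro x _
    exact TopologicalSpace.Opens.mem_iSup.mpr ⟨x, hxW x⟩
  intro x
  rw [hIW, hJW, Ideal.span_le, Set.singleton_subset_iff, SetLike.mem_coe]
  have hgf : g x ∈ Ideal.span {f x} := by
    rw [← hIW, ← Ideal.span_singleton_le_iff_mem, ← hJW]
    exact hJI (W x)
  obtain ⟨a, ha⟩ := Ideal.mem_span_singleton'.mp hgf
  suffices hu : IsUnit a by
    obtain ⟨b, hb⟩ := hu.exists_left_inv
    rw [Ideal.mem_span_singleton']
    exact ⟨b, by rw [← ha, ← mul_assoc, hb, one_mul]⟩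
  by_contra hnu
  obtain ⟨𝔪, h𝔪, ha𝔪⟩ := exists_max_ideal_of_mem_nonunits (mem_nonunits_iff.mpr hnu)
  have : 𝔪.IsPrime := h𝔪.isPrime
  obtain ⟨R, _, _, _, φ, hφf, hφp, hφP⟩ := exists_valuationRing_data Γ(X, (W x).1) 𝔪 (f x) (hf x)
  have hK := ideal_comap_toX I (W x) φ (f x) (hIW x)
  have hK' := ideal_comap_toX J (W x) φ (g x) (hJW x)
  have heff := isEffCartierIdeal_of_top (I.comap (toX (W x) φ)) _
    (inv_mem_nonZeroDivisors _ hφf) hK
  have hint : ∀ y : Spec (CommRingCat.of R),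
      y ∈ (ModPair.interior (I.comap (toX (W x) φ)) : Set (Spec (CommRingCat.of R))) ↔
        y.asIdeal = ⊥ := by
    intro y
    rw [mem_interior_iff _ (φ (f x)) hK y]
    constructor
    · intro hy
      exact hφP y.asIdeal y.isPrime hy
    · intro hy hmem
      rw [hy, Ideal.mem_bot] at hmem
      exact hφf hmem
  have heq := h R (toX (W x) φ) heff hint
  rw [heq, hK'] at hK
  -- span{e (φ g)} = span{e (φ f)}
  have h1 : (Scheme.ΓSpecIso (CommRingCat.of R)).inv.hom (φ (f x)) ∈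
      Ideal.span {(Scheme.ΓSpecIso (CommRingCat.of R)).inv.hom (φ (g x))} := by
    rw [hK]; exact Ideal.subset_span rfl
  obtain ⟨c, hc⟩ := Ideal.mem_span_singleton'.mp h1
  have h2 := congrArg (Scheme.ΓSpecIso (CommRingCat.of R)).hom.hom hc
  rw [map_mul, ← CommRingCat.comp_apply, ← CommRingCat.comp_apply, Iso.inv_hom_id] at h2
  change (Scheme.ΓSpecIso (CommRingCat.of R)).hom.hom c * φ (g x) = φ (f x) at h2
  rw [← ha, map_mul, ← mul_assoc] at h2
  have h3 : (Scheme.ΓSpecIso (CommRingCat.of R)).hom.hom c * φ a = 1 :=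
    mul_right_cancel₀ hφf (by rw [h2, one_mul])
  have hu : IsUnit (φ a) := IsUnit.of_mul_eq_one _ (by rw [mul_comm]; exact h3)
  exact (mem_nonunits_iff.mp ((mem_maximalIdeal _).mp (hφp a ha𝔪))) hu

end Groth.Agent.Lib.Helper9.ValData
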