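import Mathlib
set_option autoImplicit false
set_option linter.style.haveILetI false
set_option linter.unusedSectionVars false
set_option linter.unusedVariables false
universe v u
open CategoryTheory CategoryTheory.Limits MonoidalCategory CartesianMonoidalCategory MonObj

namespace Groth.Agent.Lib.Helper9.Wd

variable {C : Type u} [Category.{v} C] [CartesianMonoidalCategory C] (X : C)

/-- iterated power `X^m` -/
noncomputable def Pow : ℕ → C
  | 0 => 𝟙_ C
  | m + 1 => X ⊗ Pow m

/-- projections -/
noncomputable def proj : ∀ m : ℕ, Fin m → (Pow X m ⟶ X)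
  | 0, j => Fin.elim0 j
  | m + 1, j => Fin.cases (fst X (Pow X m)) (fun j' => snd X (Pow X m) ≫ proj m j') j

variable {X}

/-- the morphism to the power defined by a tuple -/
noncomputable def tuple {T : C} : ∀ m : ℕ, (Fin m → (T ⟶ X)) → (T ⟶ Pow X m)
  | 0, _ => toUnit T
  | m + 1, x => lift (x 0) (tuple m (fun j => x j.succ))

theorem proj_zero (m : ℕ) : proj X (m + 1) 0 = fst X (Pow X m) := rfl

theorem proj_succ (m : ℕ) (j : Fin m) : proj X (m + 1) j.succ = snd X (Pow X m) ≫ proj X m j := rfl

theorem tuple_succ {T : C} (m : ℕ) (x : Fin (m + 1) → (T ⟶ X)) :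
    tuple (m + 1) x = lift (x 0) (tuple m (fun j => x j.succ)) := rfl

theorem tuple_proj {T : C} : ∀ (m : ℕ) (x : Fin m → (T ⟶ X)) (j : Fin m),
    tuple m x ≫ proj X m j = x j
  | 0, _, j => Fin.elim0 j
  | m + 1, x, j => by
    refine Fin.cases ?_ (fun j' => ?_) j
    · exact lift_fst _ _
    · exact (lift_snd_assoc _ _ _).trans (tuple_proj m _ j')

variable {H : C} [GrpObj H] (f : X ⟶ H)

theorem comp_list_prod {T T' : C} (φ : T ⟶ T') (l : List (T' ⟶ H)) :
    φ ≫ l.prod = (l.map (φ ≫ ·)).prod := by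
  induction l with
  | nil => simp [MonObj.comp_one]
  | cons a l ih => simp [MonObj.comp_mul, ih]

/-- the word in `f` with signs `ε` evaluated on a tuple of points -/
noncomputable def wordOf {T : C} (m : ℕ) (ε : Fin m → Bool) (x : Fin m → (T ⟶ X)) : T ⟶ H :=
  (List.ofFn fun j : Fin m => if ε j then x j ≫ f else (x j ≫ f)⁻¹).prod

theorem wordOf_eq {T : C} (m : ℕ) (ε : Fin m → Bool) (x : Fin m → (T ⟶ X)) :
    wordOf f m ε x = tuple m x ≫ wordOf f m ε (proj X m) := by
  unfold wordOf
  rw [comp_list_prod, List.map_ofFn]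
  congr 1
  congr 1
  funext j
  simp only [Function.comp]
  split_ifs
  · rw [← Category.assoc, tuple_proj]
  · rw [GrpObj.comp_inv, ← Category.assoc, tuple_proj]

end Groth.Agent.Lib.Helper9.Wd
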