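import Mathlib
import Groth.Agent.Lib.Helper9.Wd1
import Groth.Agent.Lib.Helper25.ProConsScheme
import Groth.Agent.Lib.Helper13.LimDescendSurj
set_option autoImplicit false
set_option linter.style.haveILetI false
set_option linter.unusedSectionVars false
set_option linter.unusedVariables false
universe u
open CategoryTheory CategoryTheory.Limits AlgebraicGeometry MonoidalCategory CartesianMonoidalCategory MonObj
open scoped Set.Notation

namespace Groth.Agent.Lib.Helper9.Wd

open Groth.Agent.Lib.Helper25.PC

theorem indC_univ {Z : Type*} [TopologicalSpace Z] : IndC (Set.univ : Set Z) := by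
  intro V hV
  have : (V ↓∩ (Set.univ : Set Z)) = Set.univ := by ext; simp
  rw [this]
  exact @isOpen_univ _ (constructibleTopology V)

theorem proC_univ {Z : Type*} [TopologicalSpace Z] : ProC (Set.univ : Set Z) := by
  intro V hV
  have : (V ↓∩ (Set.univ : Set Z)) = Set.univ := by ext; simp
  rw [this]
  exact @isClosed_univ _ (constructibleTopology V)

variable {S : Scheme.{u}}

theorem lfp_pow (X : Over S) [LocallyOfFinitePresentation X.hom] :
    ∀ m : ℕ, LocallyOfFinitePresentation (Pow X m).hom
  | 0 => by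
    change LocallyOfFinitePresentation (𝟙_ (Over S)).hom
    rw [Over.tensorUnit_hom]
    haveI : IsOpenImmersion (𝟙 S) := inferInstance
    infer_instance
  | m + 1 => by
    haveI := lfp_pow X m
    change LocallyOfFinitePresentation (X ⊗ Pow X m).hom
    rw [Over.tensorObj_hom]
    infer_instance

theorem exists_bound (X H : Over S) [GrpObj H] [LocallyOfFinitePresentation X.hom]
    [LocallyOfFinitePresentation H.hom] [CompactSpace H.left] (f : X ⟶ H)
    (hsurj : ∀ h : H.left, ∃ (n : ℕ) (T : Over S) (p : T.left) (x : Fin n → (T ⟶ X))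
      (ε : Fin n → Bool), (wordOf f n ε x).left.base p = h) :
    ∃ n : ℕ, ∀ h : H.left, ∃ (m : ℕ) (_ : m ≤ n) (T : Over S) (p : T.left) (x : Fin m → (T ⟶ X))
      (ε : Fin m → Bool), (wordOf f m ε x).left.base p = h := by
  let Idx := Σ m : ℕ, (Fin m → Bool)
  let W : ∀ i : Idx, Pow X i.1 ⟶ H := fun i => wordOf f i.1 i.2 (proj X i.1)
  let E : Idx → Set H.left := fun i => Set.range (W i).left.base
  have hE : ∀ i, IndC (E i) := by
    intro i
    haveI := lfp_pow X i.1
    haveI : LocallyOfFinitePresentation ((W i).left ≫ H.hom) := by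
      rw [Over.w (W i)]; infer_instance
    haveI : LocallyOfFinitePresentation (W i).left :=
      Groth.Agent.Lib.Helper13.LimDescend.locallyOfFinitePresentation_of_comp (W i).left H.hom
    have := IndC.image (W i).left (E := Set.univ) indC_univ
    rwa [Set.image_univ] at this
  have hcov : (Set.univ : Set H.left) ⊆ ⋃ i, E i := by
    intro h _
    obtain ⟨n, T, p, x, ε, hp⟩ := hsurj h
    refine Set.mem_iUnion.mpr ⟨⟨n, ε⟩, (tuple n x).left.base p, ?_⟩
    rw [wordOf_eq] at hp
    simpa using hp
  obtain ⟨J, hJ⟩ := exists_finset_subset_iUnion (locSpectral H.left) proC_univ E hE hcov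
  refine ⟨J.sup (fun i => i.1), fun h => ?_⟩
  obtain ⟨i, hi, q, hq⟩ := Set.mem_iUnion₂.mp (hJ (Set.mem_univ h))
  exact ⟨i.1, Finset.le_sup (f := fun i : Idx => i.1) hi, Pow X i.1, q, proj X i.1, i.2, hq⟩

end Groth.Agent.Lib.Helper9.Wd
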