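import Mathlib
import Groth.Agent.Lib.Helper9.Wd1
import Groth.Agent.Lib.Helper24.Homog.KPoints
set_option autoImplicit false
set_option linter.style.haveILetI false
set_option linter.unusedSectionVars false
set_option linter.unusedVariables false
universe v u
open CategoryTheory CategoryTheory.Limits AlgebraicGeometry MonoidalCategory CartesianMonoidalCategory MonObj

namespace Groth.Agent.Lib.Helper9.Wd

section general
variable {C : Type u} [Category.{v} C] [CartesianMonoidalCategory C] {X H : C} [GrpObj H]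
  (f : X ⟶ H)

theorem comp_wordOf {T T' : C} (φ : T ⟶ T') (m : ℕ) (ε : Fin m → Bool) (x : Fin m → (T' ⟶ X)) :
    φ ≫ wordOf f m ε x = wordOf f m ε (fun j => φ ≫ x j) := by
  unfold wordOf
  rw [comp_list_prod, List.map_ofFn]
  congr 1
  congr 1
  funext j
  simp only [Function.comp]
  split_ifs
  · rw [Category.assoc]
  · rw [GrpObj.comp_inv, Category.assoc]

/-- a list of elements of the form `(y ≫ f)^{±1}` is a word -/
theorem exists_wordOf_of_list {T : C} (l : List (T ⟶ H))
    (hl : ∀ a ∈ l, ∃ (y : T ⟶ X) (e : Bool), a = if e then y ≫ f else (y ≫ f)⁻¹) :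
    ∃ (n : ℕ) (y : Fin n → (T ⟶ X)) (ε : Fin n → Bool), l.prod = wordOf f n ε y := by
  have H' : ∀ j : Fin l.length, ∃ (y : T ⟶ X) (e : Bool),
      l.get j = if e then y ≫ f else (y ≫ f)⁻¹ := fun j => hl _ (List.get_mem l j)
  choose y e hye using H'
  refine ⟨l.length, y, e, ?_⟩
  unfold wordOf
  congr 1
  have h1 : (List.ofFn fun j : Fin l.length => if e j then y j ≫ f else (y j ≫ f)⁻¹) =
      List.ofFn (fun j : Fin l.length => l.get j) := by
    congr 1
    funext j
    exact (hye j).symm
  rw [h1, List.ofFn_get]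

end general

section field
variable {k : Type u} [Field k] [IsAlgClosed k]

/-- a rational point whose underlying point is in the image of a morphism locally of finite type
lifts to a rational point -/
theorem exists_rational_lift' {A B : Over (Spec (CommRingCat.of k))} (m : A ⟶ B)
    [LocallyOfFiniteType m.left] (g : 𝟙_ (Over (Spec (CommRingCat.of k))) ⟶ B)
    (p₀ : (𝟙_ (Over (Spec (CommRingCat.of k)))).left)
    (hg : g.left.base p₀ ∈ Set.range m.left.base) :
    ∃ y : 𝟙_ (Over (Spec (CommRingCat.of k))) ⟶ A, y ≫ m = g := by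
  obtain ⟨a₀, ha₀⟩ := hg
  let y₀ : Spec (CommRingCat.of k) ⟶ B.left := g.left
  obtain ⟨p, hp1, hp2⟩ := Scheme.Pullback.exists_preimage_pullback (f := m.left) (g := y₀) a₀ p₀ ha₀
  obtain ⟨s, hs1, -⟩ := Groth.Agent.Lib.Helper24.Homog.exists_Kpoint_mem_open (k := k) (K := k)
    (pullback.snd m.left y₀) ⊤ ⟨p, trivial⟩
  have hs1' : s ≫ pullback.snd m.left y₀ = 𝟙 _ := by
    rw [hs1]
    change Spec.map (CommRingCat.ofHom (RingHom.id k)) = 𝟙 _
    exact Spec.map_id _
  have hg₀ : (s ≫ pullback.fst m.left y₀) ≫ m.left = g.left := by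
    rw [Category.assoc, pullback.condition, ← Category.assoc, hs1', Category.id_comp]
  have hover : (s ≫ pullback.fst m.left y₀) ≫ A.hom =
      (𝟙_ (Over (Spec (CommRingCat.of k)))).hom := by
    rw [← Over.w m, ← Category.assoc, hg₀]
    exact Over.w g
  refine ⟨Over.homMk (s ≫ pullback.fst m.left y₀) hover, ?_⟩
  ext1
  exact hg₀

end field

end Groth.Agent.Lib.Helper9.Wd
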