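import Mathlib
import Groth.Agent.Lib.Helper9.Wd3
set_option autoImplicit false
set_option linter.style.haveILetI false
set_option linter.unusedSectionVars false
set_option linter.unusedVariables false
universe u
open CategoryTheory CategoryTheory.Limits AlgebraicGeometry MonoidalCategory CartesianMonoidalCategory MonObj

namespace Groth.Agent.Lib.Helper9.Wd

theorem lft_pow {S : Scheme.{u}} (X : Over S) [LocallyOfFiniteType X.hom] :
    ∀ m : ℕ, LocallyOfFiniteType (Pow X m).hom
  | 0 => by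
    change LocallyOfFiniteType (𝟙_ (Over S)).hom
    rw [Over.tensorUnit_hom]
    haveI : IsOpenImmersion (𝟙 S) := inferInstance
    infer_instance
  | m + 1 => by
    haveI := lft_pow X m
    change LocallyOfFiniteType (X ⊗ Pow X m).hom
    rw [Over.tensorObj_hom]
    infer_instance

variable {k : Type u} [Field k] [IsAlgClosed k]

theorem rational_words_eq_closure (G X : Over (Spec (CommRingCat.of k))) [GrpObj G]
    [LocallyOfFiniteType G.hom] [LocallyOfFiniteType X.hom] (f : X ⟶ G) :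
    {g : 𝟙_ (Over (Spec (CommRingCat.of k))) ⟶ G | ∃ (n : ℕ) (T : Over (Spec (CommRingCat.of k)))
        (p : T.left) (p₀ : (𝟙_ (Over (Spec (CommRingCat.of k)))).left)
        (x : Fin n → (T ⟶ X)) (ε : Fin n → Bool),
        (wordOf f n ε x).left.base p = g.left.base p₀} =
      ((Subgroup.closure {g : 𝟙_ (Over (Spec (CommRingCat.of k))) ⟶ G |
          ∃ p₀ : (𝟙_ (Over (Spec (CommRingCat.of k)))).left,
            g.left.base p₀ ∈ Set.range f.left.base} :
        Subgroup (𝟙_ (Over (Spec (CommRingCat.of k))) ⟶ G)) :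
        Set (𝟙_ (Over (Spec (CommRingCat.of k))) ⟶ G)) := by
  haveI : Nonempty (𝟙_ (Over (Spec (CommRingCat.of k)))).left :=
    inferInstanceAs (Nonempty (Spec (CommRingCat.of k)))
  obtain ⟨q₀⟩ := ‹Nonempty (𝟙_ (Over (Spec (CommRingCat.of k)))).left›
  haveI : LocallyOfFiniteType (f.left ≫ G.hom) := by rw [Over.w f]; infer_instance
  haveI : LocallyOfFiniteType f.left := locallyOfFiniteType_of_comp f.left G.hom
  have key1 : ∀ g : 𝟙_ (Over (Spec (CommRingCat.of k))) ⟶ G,
      (∃ (n : ℕ) (T : Over (Spec (CommRingCat.of k)))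
        (p : T.left) (p₀ : (𝟙_ (Over (Spec (CommRingCat.of k)))).left)
        (x : Fin n → (T ⟶ X)) (ε : Fin n → Bool),
        (wordOf f n ε x).left.base p = g.left.base p₀) →
      ∃ (n : ℕ) (y : Fin n → (𝟙_ (Over (Spec (CommRingCat.of k))) ⟶ X)) (ε : Fin n → Bool),
        g = wordOf f n ε y := by
    rintro g ⟨n, T, p, p₀, x, ε, h⟩
    rw [wordOf_eq] at h
    have hmem : g.left.base p₀ ∈ Set.range (wordOf f n ε (proj X n)).left.base :=
      ⟨(tuple n x).left.base p, by rw [← h]; simp⟩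
    haveI := lft_pow X n
    haveI : LocallyOfFiniteType ((wordOf f n ε (proj X n)).left ≫ G.hom) := by
      rw [Over.w]; infer_instance
    haveI : LocallyOfFiniteType (wordOf f n ε (proj X n)).left :=
      locallyOfFiniteType_of_comp _ G.hom
    obtain ⟨y, hy⟩ := exists_rational_lift' (wordOf f n ε (proj X n)) g p₀ hmem
    exact ⟨n, fun j => y ≫ proj X n j, ε, by rw [← comp_wordOf, hy]⟩
  have key2 : ∀ (n : ℕ) (y : Fin n → (𝟙_ (Over (Spec (CommRingCat.of k))) ⟶ X))
      (ε : Fin n → Bool), wordOf f n ε y ∈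
        Subgroup.closure {g : 𝟙_ (Over (Spec (CommRingCat.of k))) ⟶ G |
          ∃ p₀ : (𝟙_ (Over (Spec (CommRingCat.of k)))).left,
            g.left.base p₀ ∈ Set.range f.left.base} := by
    intro n y ε
    unfold wordOf
    apply Subgroup.list_prod_mem
    intro a ha
    rw [List.mem_ofFn] at ha
    obtain ⟨j, rfl⟩ := ha
    have hj : y j ≫ f ∈ Subgroup.closure {g : 𝟙_ (Over (Spec (CommRingCat.of k))) ⟶ G |
          ∃ p₀ : (𝟙_ (Over (Spec (CommRingCat.of k)))).left,
            g.left.base p₀ ∈ Set.range f.left.base} :=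
      Subgroup.subset_closure ⟨q₀, (y j).left.base q₀, by simp⟩
    split_ifs
    · exact hj
    · exact Subgroup.inv_mem _ hj
  have key3 : ∀ g ∈ Subgroup.closure {g : 𝟙_ (Over (Spec (CommRingCat.of k))) ⟶ G |
          ∃ p₀ : (𝟙_ (Over (Spec (CommRingCat.of k)))).left,
            g.left.base p₀ ∈ Set.range f.left.base},
      ∃ (n : ℕ) (y : Fin n → (𝟙_ (Over (Spec (CommRingCat.of k))) ⟶ X)) (ε : Fin n → Bool),
        g = wordOf f n ε y := by
    intro g hg
    rw [← Subgroup.mem_toSubmonoid, Subgroup.closure_toSubmonoid] at hg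
    obtain ⟨l, hl, rfl⟩ := Submonoid.exists_list_of_mem_closure hg
    refine exists_wordOf_of_list f l (fun a ha => ?_)
    rcases hl a ha with h1 | h1
    · obtain ⟨p₀, hp⟩ := h1
      obtain ⟨y, hy⟩ := exists_rational_lift' f a p₀ hp
      exact ⟨y, true, by simp [hy]⟩
    · obtain ⟨p₀, hp⟩ := Set.mem_inv.mp h1
      obtain ⟨y, hy⟩ := exists_rational_lift' f a⁻¹ p₀ hp
      exact ⟨y, false, by simp [hy]⟩
  ext g
  constructor
  · intro hg
    obtain ⟨n, y, ε, rfl⟩ := key1 g hg
    exact key2 n y ε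
  · intro hg
    obtain ⟨n, y, ε, rfl⟩ := key3 g hg
    exact ⟨n, 𝟙_ _, q₀, q₀, y, ε, rfl⟩

end Groth.Agent.Lib.Helper9.Wd
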