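import Groth.Agent.Lib.Helper9.UnivHomeoRing4
import Mathlib.RingTheory.TensorProduct.Basic
import Mathlib.RingTheory.Nilpotent.Lemmas

/-!
# The weak normalization of `A` in `B` as the equalizer of `B ⇉ (B ⊗_A B)_red`
-/

set_option autoImplicit false
set_option linter.style.haveILetI false
universe u
open CategoryTheory AlgebraicGeometry MorphismProperty TensorProduct

namespace Groth.Agent.Lib.Helper9.UnivHomeoRing

section
variable (A B : Type u) [CommRing A] [CommRing B] [Algebra A B]

/-- The equalizer of `B ⇉ (B ⊗_A B)_red`. -/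
noncomputable def weakClosure : Subalgebra A B :=
  AlgHom.equalizer
    ((Ideal.Quotient.mkₐ A (nilradical (B ⊗[A] B))).comp Algebra.TensorProduct.includeLeft)
    ((Ideal.Quotient.mkₐ A (nilradical (B ⊗[A] B))).comp Algebra.TensorProduct.includeRight)

theorem mem_weakClosure_iff (b : B) :
    b ∈ weakClosure A B ↔ IsNilpotent (b ⊗ₜ[A] (1 : B) - (1 : B) ⊗ₜ[A] b) := by
  unfold weakClosure
  rw [AlgHom.mem_equalizer, ← mem_nilradical]
  simp only [AlgHom.comp_apply, Algebra.TensorProduct.includeLeft_apply,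
    Algebra.TensorProduct.includeRight_apply, Ideal.Quotient.mkₐ_eq_mk]
  exact Ideal.Quotient.eq

/-- Any subalgebra `C` with `Spec C → Spec A` universally injective lies in the weak closure. -/
theorem le_weakClosure_of_isRadicial (C : Subalgebra A B) (hC : IsRadicial (algebraMap A C)) :
    C ≤ weakClosure A B := by
  intro c hc
  rw [mem_weakClosure_iff, nilpotent_iff_mem_prime]
  intro P hP
  haveI := hP
  let π : B ⊗[A] B →+* P.ResidueField := algebraMap (B ⊗[A] B) P.ResidueField
  let h₁ : B →+* P.ResidueField :=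
    π.comp (Algebra.TensorProduct.includeLeft : B →ₐ[A] B ⊗[A] B).toRingHom
  let h₂ : B →+* P.ResidueField :=
    π.comp (Algebra.TensorProduct.includeRight : B →ₐ[A] B ⊗[A] B).toRingHom
  have h12 : (h₁.comp (algebraMap C B)).comp (algebraMap A C) =
      (h₂.comp (algebraMap C B)).comp (algebraMap A C) := by
    refine RingHom.ext fun a => ?_
    change π ((algebraMap A B a) ⊗ₜ[A] (1 : B)) = π ((1 : B) ⊗ₜ[A] (algebraMap A B a))
    congr 1
    rw [Algebra.algebraMap_eq_smul_one, TensorProduct.smul_tmul]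
  have h3 := hC P.ResidueField _ _ h12
  have h4 : h₁ c = h₂ c := congrArg (fun ψ => ψ ⟨c, hc⟩) (congrArg DFunLike.coe h3)
  have h5 : π (c ⊗ₜ[A] (1 : B) - (1 : B) ⊗ₜ[A] c) = 0 := by
    rw [map_sub, sub_eq_zero]
    exact h4
  exact Ideal.algebraMap_residueField_eq_zero.mp h5

variable [Algebra.IsIntegral A B]

/-- The weak closure is radicial over `A`. -/
theorem isRadicial_weakClosure : IsRadicial (algebraMap A (weakClosure A B)) := by
  intro K _ g₁ g₂ h12
  let E := weakClosure A B
  let ι : K →+* AlgebraicClosure K := algebraMap K (AlgebraicClosure K)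
  haveI : Algebra.IsIntegral E B := Algebra.IsIntegral.tower_top A
  obtain ⟨e₁, he₁⟩ := exists_ringHom_extension (R := E) (S := B) Subtype.val_injective (ι.comp g₁)
  obtain ⟨e₂, he₂⟩ := exists_ringHom_extension (R := E) (S := B) Subtype.val_injective (ι.comp g₂)
  letI : Algebra A (AlgebraicClosure K) := ((ι.comp g₁).comp (algebraMap A E)).toAlgebra
  let e₁' : B →ₐ[A] AlgebraicClosure K := { e₁ with
    commutes' := fun a => by
      change e₁ (algebraMap E B (algebraMap A E a)) = _
      rw [← RingHom.comp_apply, he₁]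
      rfl }
  let e₂' : B →ₐ[A] AlgebraicClosure K := { e₂ with
    commutes' := fun a => by
      change e₂ (algebraMap E B (algebraMap A E a)) = _
      rw [← RingHom.comp_apply, he₂]
      change ι (g₂.comp (algebraMap A E) a) = ι (g₁.comp (algebraMap A E) a)
      rw [h12] }
  let m : B ⊗[A] B →ₐ[A] AlgebraicClosure K := Algebra.TensorProduct.productMap e₁' e₂'
  refine RingHom.ext fun x => ι.injective ?_
  obtain ⟨b, hb⟩ := x
  have hnil := (mem_weakClosure_iff A B b).mp hb
  have hnil' : IsNilpotent (m (b ⊗ₜ[A] (1 : B) - (1 : B) ⊗ₜ[A] b)) := hnil.map m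
  have h0 : m (b ⊗ₜ[A] (1 : B) - (1 : B) ⊗ₜ[A] b) = 0 := hnil'.eq_zero
  rw [map_sub, Algebra.TensorProduct.productMap_apply_tmul,
    Algebra.TensorProduct.productMap_apply_tmul, map_one, map_one, mul_one, one_mul,
    sub_eq_zero] at h0
  have h1 : e₁ b = ι (g₁ ⟨b, hb⟩) := congrArg (fun ψ => ψ ⟨b, hb⟩) (congrArg DFunLike.coe he₁)
  have h2 : e₂ b = ι (g₂ ⟨b, hb⟩) := congrArg (fun ψ => ψ ⟨b, hb⟩) (congrArg DFunLike.coe he₂)
  rw [← h1, ← h2]
  exact h0

/-- `Spec` of the weak closure is universally homeomorphic to `Spec A`. -/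
theorem isUnivHomeo_weakClosure (hinj : Function.Injective (algebraMap A B)) :
    FlatMor.IsUnivHomeo (Spec.map (CommRingCat.ofHom (algebraMap A (weakClosure A B)))) := by
  rw [isUnivHomeo_SpecMap_iff']
  have hcomp : (algebraMap (weakClosure A B) B).comp (algebraMap A (weakClosure A B)) =
      algebraMap A B := rfl
  have hintAB : (algebraMap A B).IsIntegral := Algebra.IsIntegral.isIntegral
  have hint : (algebraMap A (weakClosure A B)).IsIntegral := by
    rw [← hcomp] at hintAB
    exact (isIntegral_of_comp_injective _ _ Subtype.val_injective hintAB).1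
  refine ⟨hint, ?_, isRadicial_weakClosure A B⟩
  have hinjE : Function.Injective (algebraMap A (weakClosure A B)) := by
    intro a a' h
    apply hinj
    exact congrArg (algebraMap (weakClosure A B) B) h
  intro p
  letI := (algebraMap A (weakClosure A B)).toAlgebra
  haveI : Algebra.IsIntegral A (weakClosure A B) := ⟨hint⟩
  have hker : (⊥ : Ideal (weakClosure A B)).comap (algebraMap A (weakClosure A B)) ≤ p.asIdeal := by
    intro x hx
    have h0 : algebraMap A (weakClosure A B) x = 0 := hx
    rw [hinjE (h0.trans (map_zero _).symm)]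
    exact p.asIdeal.zero_mem
  obtain ⟨q, -, hq_prime, hq⟩ :=
    Ideal.exists_ideal_over_prime_of_isIntegral p.asIdeal (⊥ : Ideal (weakClosure A B)) hker
  exact ⟨⟨q, hq_prime⟩, PrimeSpectrum.ext hq⟩

end

end Groth.Agent.Lib.Helper9.UnivHomeoRing
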