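import Mathlib
import Groth.Agent.Lib.Helper9.WeakClosure
set_option autoImplicit false
set_option linter.style.haveILetI false
set_option linter.unusedSectionVars false
set_option linter.unusedVariables false
universe u
open CategoryTheory AlgebraicGeometry MorphismProperty TensorProduct

namespace Groth.Agent.Lib.Helper9.UnivHomeoRing

section transfer
variable {A B : Type u} [CommRing A] [CommRing B] [Algebra A B]

/-- transfer of the universal homeomorphism property along an algebra isomorphism -/
theorem isUnivHomeo_of_algEquiv {E E' : Type u} [CommRing E] [CommRing E'] [Algebra A E]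
    [Algebra A E'] (e : E ≃ₐ[A] E')
    (h : FlatMor.IsUnivHomeo (Spec.map (CommRingCat.ofHom (algebraMap A E)))) :
    FlatMor.IsUnivHomeo (Spec.map (CommRingCat.ofHom (algebraMap A E'))) := by
  rw [isUnivHomeo_SpecMap_iff'] at h ⊢
  obtain ⟨h1, h2, h3⟩ := h
  have hcomp : algebraMap A E' = (e : E →+* E').comp (algebraMap A E) := by
    ext a; simp
  have hcomp' : algebraMap A E = (e.symm : E' →+* E).comp (algebraMap A E') := by
    ext a; simp
  refine ⟨?_, ?_, ?_⟩
  · rw [hcomp]
    exact RingHom.IsIntegral.trans _ _ h1 (RingHom.isIntegral_of_surjective _ e.surjective)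
  · intro p
    obtain ⟨q, hq⟩ := h2 p
    refine ⟨PrimeSpectrum.comap (e.symm : E' →+* E) q, ?_⟩
    rw [← hq, hcomp']
    rfl
  · intro K _ g₁ g₂ h12
    have := h3 K (g₁.comp (e : E →+* E')) (g₂.comp (e : E →+* E')) (by
      rw [RingHom.comp_assoc, RingHom.comp_assoc, ← hcomp, h12])
    ext x
    obtain ⟨y, rfl⟩ := e.surjective x
    exact congrArg (fun ψ => ψ y) (congrArg DFunLike.coe this)

end transfer

section char
variable {A B : Type u} [CommRing A] [CommRing B] [Algebra A B]
  (hinj : Function.Injective (algebraMap A B))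
  (C : Subalgebra A B)
  (hC : FlatMor.IsUnivHomeo (Spec.map (CommRingCat.ofHom (algebraMap A C))))
  (hmax : ∀ D : Subalgebra A B,
    FlatMor.IsUnivHomeo (Spec.map (CommRingCat.ofHom (algebraMap A D))) → D ≤ C)

include hC in
theorem isIntegral_of_mem_max {b : B} (hb : b ∈ C) : IsIntegral A b := by
  rw [isUnivHomeo_SpecMap_iff'] at hC
  have h1 : IsIntegral A (⟨b, hb⟩ : C) := hC.1 ⟨b, hb⟩
  exact h1.map C.val

include hC in
/-- elements of a universally homeomorphic subalgebra lie in the weak closure of the integral
closure -/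
theorem mem_weakClosure_of_mem_max {b : B} (hb : b ∈ C) (hbi : IsIntegral A b) :
    (⟨b, hbi⟩ : integralClosure A B) ∈ weakClosure A (integralClosure A B) := by
  let B₁ := integralClosure A B
  let C₁ : Subalgebra A B₁ := C.comap B₁.val
  have hrad : IsRadicial (algebraMap A C₁) := by
    have hC' := hC
    rw [isUnivHomeo_SpecMap_iff'] at hC'
    obtain ⟨h1, -, h3⟩ := hC'
    intro K _ g₁ g₂ h12
    -- the map `C → C₁`
    let s : C →+* C₁ :=
      { toFun := fun c => ⟨⟨c.1, isIntegral_of_mem_max C hC c.2⟩, c.2⟩
        map_one' := rfl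
        map_mul' := fun _ _ => rfl
        map_zero' := rfl
        map_add' := fun _ _ => rfl }
    have hs : Function.Surjective s := fun x => ⟨⟨x.1.1, x.2⟩, rfl⟩
    have := h3 K (g₁.comp s) (g₂.comp s) (by
      ext a
      have e1 := congrArg (fun ψ => ψ a) (congrArg DFunLike.coe h12)
      exact e1)
    ext x
    obtain ⟨y, rfl⟩ := hs x
    exact congrArg (fun ψ => ψ y) (congrArg DFunLike.coe this)
  have hle := le_weakClosure_of_isRadicial A B₁ C₁ hrad
  exact hle (show (⟨b, hbi⟩ : B₁) ∈ C₁ from hb)

include hinj hmax in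
/-- conversely the weak closure of the integral closure lies in the maximal subalgebra -/
theorem mem_max_of_mem_weakClosure {b : B} (hbi : IsIntegral A b)
    (hb : (⟨b, hbi⟩ : integralClosure A B) ∈ weakClosure A (integralClosure A B)) : b ∈ C := by
  let B₁ := integralClosure A B
  let W := weakClosure A B₁
  let W' : Subalgebra A B := W.map B₁.val
  have hinj₁ : Function.Injective (algebraMap A B₁) := by
    intro a a' h
    apply hinj
    exact congrArg B₁.val h
  have hW : FlatMor.IsUnivHomeo (Spec.map (CommRingCat.ofHom (algebraMap A W))) :=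
    isUnivHomeo_weakClosure A B₁ hinj₁
  let e : W ≃ₐ[A] W' := W.equivMapOfInjective B₁.val Subtype.val_injective
  have hW' := isUnivHomeo_of_algEquiv e hW
  exact hmax W' hW' ⟨⟨b, hbi⟩, hb, rfl⟩

end char

end Groth.Agent.Lib.Helper9.UnivHomeoRing
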