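import Mathlib
import Groth.Agent.Lib.Helper9.WeakClosure2
import Groth.Agent.S7128
set_option autoImplicit false
set_option linter.style.haveILetI false
set_option linter.unusedSectionVars false
set_option linter.unusedVariables false
universe u
open CategoryTheory AlgebraicGeometry MorphismProperty TensorProduct

namespace Groth.Agent.Lib.Helper9.UnivHomeoRing

section bc
variable {A B A' : Type u} [CommRing A] [CommRing B] [CommRing A'] [Algebra A B] [Algebra A A']

theorem algebraMap_tensor_injective [Module.Flat A A']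
    (hinj : Function.Injective (algebraMap A B)) :
    Function.Injective (algebraMap A' (A' ⊗[A] B)) := by
  have h1 : Function.Injective ((Algebra.linearMap A B).lTensor A') :=
    Module.Flat.lTensor_preserves_injective_linearMap _ hinj
  intro x y hxy
  have h2 : (Algebra.linearMap A B).lTensor A' (x ⊗ₜ[A] (1 : A)) =
      (Algebra.linearMap A B).lTensor A' (y ⊗ₜ[A] (1 : A)) := by
    simp only [LinearMap.lTensor_tmul, Algebra.linearMap_apply, map_one]
    exact hxy
  have h3 := h1 h2
  have h4 := congrArg (TensorProduct.rid A A') h3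
  simpa using h4

variable (C : Subalgebra A B)

/-- the image of `A' ⊗ C` in `A' ⊗ B` -/
noncomputable def bcSub : Subalgebra A' (A' ⊗[A] B) :=
  (Algebra.TensorProduct.map (AlgHom.id A' A') C.val).range

theorem isUnivHomeo_bcSub [Module.Flat A A'] (hinj : Function.Injective (algebraMap A B))
    (hC : FlatMor.IsUnivHomeo (Spec.map (CommRingCat.ofHom (algebraMap A C)))) :
    FlatMor.IsUnivHomeo (Spec.map (CommRingCat.ofHom (algebraMap A' (bcSub (A' := A') C)))) := by
  rw [isUnivHomeo_SpecMap_iff'] at hC ⊢
  obtain ⟨h1, h2, h3⟩ := hC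
  let φ : A' ⊗[A] C →ₐ[A'] A' ⊗[A] B := Algebra.TensorProduct.map (AlgHom.id A' A') C.val
  let D : Subalgebra A' (A' ⊗[A] B) := bcSub (A' := A') C
  let ρ : A' ⊗[A] C →ₐ[A'] D := φ.rangeRestrict
  have hρ : Function.Surjective ρ := φ.rangeRestrict_surjective
  haveI : Algebra.IsIntegral A C := ⟨h1⟩
  have hint : (algebraMap A' D).IsIntegral := by
    have hcomp : algebraMap A' D = (ρ : A' ⊗[A] C →+* D).comp (algebraMap A' (A' ⊗[A] C)) := by
      ext a; simp
    rw [hcomp]
    exact RingHom.IsIntegral.trans _ _ (algebraMap_isIntegral_iff.mpr inferInstance)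
      (RingHom.isIntegral_of_surjective _ hρ)
  have hinjD : Function.Injective (algebraMap A' D) := by
    intro x y hxy
    apply algebraMap_tensor_injective (A' := A') hinj
    exact congrArg D.val hxy
  refine ⟨hint, ?_, ?_⟩
  · intro p
    letI := (algebraMap A' D).toAlgebra
    haveI : Algebra.IsIntegral A' D := ⟨hint⟩
    have hker : (⊥ : Ideal D).comap (algebraMap A' D) ≤ p.asIdeal := by
      intro x hx
      have h0 : algebraMap A' D x = 0 := hx
      rw [hinjD (h0.trans (map_zero _).symm)]
      exact p.asIdeal.zero_mem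
    obtain ⟨q, -, hq_prime, hq⟩ :=
      Ideal.exists_ideal_over_prime_of_isIntegral p.asIdeal (⊥ : Ideal D) hker
    exact ⟨⟨q, hq_prime⟩, PrimeSpectrum.ext hq⟩
  · intro K _ g₁ g₂ h12
    -- restrict to `C`
    let ιC : C →+* D := (ρ : A' ⊗[A] C →+* D).comp
      (Algebra.TensorProduct.includeRight : C →ₐ[A] A' ⊗[A] C).toRingHom
    have hA : (g₁.comp ιC).comp (algebraMap A C) = (g₂.comp ιC).comp (algebraMap A C) := by
      ext a
      have e1 := congrArg (fun ψ => ψ (algebraMap A A' a)) (congrArg DFunLike.coe h12)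
      have e2 : ιC (algebraMap A C a) = algebraMap A' D (algebraMap A A' a) := by
        apply Subtype.ext
        change (1 : A') ⊗ₜ[A] ((algebraMap A C a : C) : B) = (algebraMap A A' a) ⊗ₜ[A] (1 : B)
        rw [Algebra.algebraMap_eq_smul_one, Algebra.algebraMap_eq_smul_one]
        simp [TensorProduct.smul_tmul]
      simp only [RingHom.comp_apply]
      rw [e2]
      exact e1
    have hCeq := h3 K _ _ hA
    ext x
    obtain ⟨y, rfl⟩ := hρ x
    induction y using TensorProduct.induction_on with
    | zero => simp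
    | tmul a c =>
      have e1 : ρ (a ⊗ₜ[A] c) = algebraMap A' D a * ιC c := by
        apply Subtype.ext
        change a ⊗ₜ[A] (c : B) = (a ⊗ₜ[A] (1 : B)) * ((1 : A') ⊗ₜ[A] (c : B))
        simp
      rw [e1, map_mul, map_mul]
      have e2 := congrArg (fun ψ => ψ a) (congrArg DFunLike.coe h12)
      have e3 := congrArg (fun ψ => ψ c) (congrArg DFunLike.coe hCeq)
      simp only [RingHom.comp_apply] at e2 e3
      rw [e2, e3]
    | add y z hy hz => rw [map_add, map_add, map_add, hy, hz]

/-- weak closure is transported by algebra isomorphisms -/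
theorem mem_weakClosure_of_algEquiv {R E E' : Type u} [CommRing R] [CommRing E] [CommRing E']
    [Algebra R E] [Algebra R E'] (e : E ≃ₐ[R] E') {x : E} (hx : e x ∈ weakClosure R E') :
    x ∈ weakClosure R E := by
  rw [mem_weakClosure_iff] at hx ⊢
  have := hx.map (Algebra.TensorProduct.map e.symm.toAlgHom e.symm.toAlgHom)
  simpa using this

/-- algebra maps to a reduced ring agree on the weak closure -/
theorem eq_of_mem_weakClosure_of_isReduced {R T S' : Type u} [CommRing R] [CommRing T]
    [CommRing S'] [Algebra R T] [Algebra R S'] [IsReduced S'] (ψ₁ ψ₂ : T →ₐ[R] S') {t : T}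
    (ht : t ∈ weakClosure R T) : ψ₁ t = ψ₂ t := by
  rw [mem_weakClosure_iff] at ht
  have h1 : IsNilpotent ((Algebra.TensorProduct.productMap ψ₁ ψ₂) (t ⊗ₜ[R] 1 - 1 ⊗ₜ[R] t)) :=
    ht.map _
  have := h1.eq_zero
  simpa [sub_eq_zero] using this

variable [Algebra.WeaklyEtale A A']

/-- base change of a reduced ring along a weakly étale algebra is reduced -/
theorem isReduced_tensor_of_weaklyEtale (Q : Type u) [CommRing Q] [Algebra A Q] [IsReduced Q] :
    IsReduced (A' ⊗[A] Q) := by
  haveI : IsReduced (Q ⊗[A] A') := Groth.Agent.S7128.result Q (Q ⊗[A] A')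
  exact isReduced_of_injective (Algebra.TensorProduct.comm A A' Q).toAlgHom
    (Algebra.TensorProduct.comm A A' Q).injective

/-- the key inclusion: the weak closure of `A' ⊗ B₁` is contained in the image of `A' ⊗ W`. -/
theorem mem_range_of_mem_weakClosure_tensor (B₁ : Type u) [CommRing B₁] [Algebra A B₁]
    (t : A' ⊗[A] B₁) (ht : t ∈ weakClosure A' (A' ⊗[A] B₁)) :
    t ∈ LinearMap.range
      ((weakClosure A B₁).val.toLinearMap.lTensor A') := by
  let R := B₁ ⊗[A] B₁
  let Q := R ⧸ nilradical R
  haveI : IsReduced Q := by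
    change IsReduced (R ⧸ nilradical R)
    exact (Ideal.isRadical_iff_quotient_reduced _).mp (Ideal.radical_isRadical _)
  haveI : IsReduced (A' ⊗[A] Q) := isReduced_tensor_of_weaklyEtale Q
  let p₁ : B₁ →ₐ[A] Q :=
    (Ideal.Quotient.mkₐ A (nilradical R)).comp Algebra.TensorProduct.includeLeft
  let p₂ : B₁ →ₐ[A] Q :=
    (Ideal.Quotient.mkₐ A (nilradical R)).comp Algebra.TensorProduct.includeRight
  let ψ₁ : A' ⊗[A] B₁ →ₐ[A'] A' ⊗[A] Q := Algebra.TensorProduct.map (AlgHom.id A' A') p₁
  let ψ₂ : A' ⊗[A] B₁ →ₐ[A'] A' ⊗[A] Q := Algebra.TensorProduct.map (AlgHom.id A' A') p₂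
  have h2 : ψ₁ t = ψ₂ t :=
    eq_of_mem_weakClosure_of_isReduced (R := A') (T := A' ⊗[A] B₁) (S' := A' ⊗[A] Q) ψ₁ ψ₂ ht
  -- the difference as a linear map
  let δ : B₁ →ₗ[A] Q := p₁.toLinearMap - p₂.toLinearMap
  have hδ : δ.lTensor A' t = 0 := by
    have e1 : δ.lTensor A' = p₁.toLinearMap.lTensor A' - p₂.toLinearMap.lTensor A' := by
      ext a b
      simp [δ]
    rw [e1, LinearMap.sub_apply, sub_eq_zero]
    exact h2
  have hex : Function.Exact ((LinearMap.ker δ).subtype.lTensor A') (δ.lTensor A') :=
    Module.Flat.lTensor_exact A' (LinearMap.exact_subtype_ker_map δ)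
  obtain ⟨s, hs⟩ := (hex t).mp hδ
  -- `ker δ` is the weak closure
  have hker : ∀ x : B₁, x ∈ LinearMap.ker δ ↔ x ∈ weakClosure A B₁ := by
    intro x
    rw [LinearMap.mem_ker]
    change p₁ x - p₂ x = 0 ↔ _
    rw [sub_eq_zero]
    unfold weakClosure
    rw [AlgHom.mem_equalizer]
  let κ : LinearMap.ker δ →ₗ[A] weakClosure A B₁ :=
    { toFun := fun x => ⟨x.1, (hker x.1).mp x.2⟩
      map_add' := fun _ _ => rfl
      map_smul' := fun _ _ => rfl }
  refine ⟨κ.lTensor A' s, ?_⟩
  rw [← hs, ← LinearMap.comp_apply, ← LinearMap.lTensor_comp]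
  rfl

/-- **Main theorem**: the maximal universally homeomorphic subalgebra commutes with weakly étale
base changes that preserve integral closures. -/
theorem max_univHomeo_baseChange (hinj : Function.Injective (algebraMap A B))
    (hIC : Function.Bijective (TensorProduct.toIntegralClosure A A' B))
    (hC : FlatMor.IsUnivHomeo (Spec.map (CommRingCat.ofHom (algebraMap A C))))
    (hmax : ∀ D : Subalgebra A B,
      FlatMor.IsUnivHomeo (Spec.map (CommRingCat.ofHom (algebraMap A D))) → D ≤ C)
    (C' : Subalgebra A' (A' ⊗[A] B))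
    (hC' : FlatMor.IsUnivHomeo (Spec.map (CommRingCat.ofHom (algebraMap A' C'))))
    (hmax' : ∀ D : Subalgebra A' (A' ⊗[A] B),
      FlatMor.IsUnivHomeo (Spec.map (CommRingCat.ofHom (algebraMap A' D))) → D ≤ C') :
    (C' : Set (A' ⊗[A] B)) =
      Set.range (Algebra.TensorProduct.map (AlgHom.id A' A') C.val) := by
  have hle : bcSub (A' := A') C ≤ C' := hmax' _ (isUnivHomeo_bcSub C hinj hC)
  apply Set.Subset.antisymm
  · intro c' hc'
    have hinj' : Function.Injective (algebraMap A' (A' ⊗[A] B)) :=
      algebraMap_tensor_injective hinj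
    have hci : IsIntegral A' c' := isIntegral_of_mem_max C' hC' hc'
    have hcw := mem_weakClosure_of_mem_max C' hC' hc' hci
    let B₁ := integralClosure A B
    obtain ⟨t, ht⟩ := hIC.2 ⟨c', hci⟩
    let Θ : (A' ⊗[A] B₁) ≃ₐ[A'] integralClosure A' (A' ⊗[A] B) :=
      AlgEquiv.ofBijective (TensorProduct.toIntegralClosure A A' B) hIC
    have htw : t ∈ weakClosure A' (A' ⊗[A] B₁) := by
      apply mem_weakClosure_of_algEquiv Θ
      change TensorProduct.toIntegralClosure A A' B t ∈ _
      rw [ht]
      exact hcw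
    obtain ⟨s, hs⟩ := mem_range_of_mem_weakClosure_tensor B₁ t htw
    -- `c'` is the image of `t`
    have hc't : c' = Algebra.TensorProduct.map (AlgHom.id A' A') B₁.val t := by
      have := congrArg Subtype.val ht
      exact this.symm
    rw [hc't, ← hs]
    -- induction on `s`
    clear hs ht hc't htw hcw
    induction s using TensorProduct.induction_on with
    | zero => exact ⟨0, by simp⟩
    | tmul a w =>
      have hwC : ((w : B₁) : B) ∈ C :=
        mem_max_of_mem_weakClosure hinj C hmax (b := ((w : B₁) : B)) (w : B₁).2 w.2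
      refine ⟨a ⊗ₜ[A] ⟨((w : B₁) : B), hwC⟩, ?_⟩
      simp
    | add x y hx hy =>
      obtain ⟨x', hx'⟩ := hx
      obtain ⟨y', hy'⟩ := hy
      refine ⟨x' + y', ?_⟩
      rw [map_add, hx', hy', map_add, map_add]
  · rintro _ ⟨y, rfl⟩
    exact hle ⟨y, rfl⟩

end bc

section final
variable {A B A' : Type u} [CommRing A] [CommRing B] [CommRing A'] [Algebra A B] [Algebra A A']

theorem weaklyEtale_of_isLocalization (M : Submonoid A) [IsLocalization M A'] :
    Algebra.WeaklyEtale A A' where
  flat := IsLocalization.flat A' M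
  flat_lmul' := by
    apply RingHom.Flat.of_bijective
    exact IsLocalization.bijective_linearMap_mul' M A'

theorem S14796 (hinj : Function.Injective (algebraMap A B))
    (hA' : (∃ M : Submonoid A, IsLocalization M A') ∨ Algebra.Etale A A')
    (C : Subalgebra A B)
    (hC : FlatMor.IsUnivHomeo (Spec.map (CommRingCat.ofHom (algebraMap A C))))
    (hmax : ∀ D : Subalgebra A B,
      FlatMor.IsUnivHomeo (Spec.map (CommRingCat.ofHom (algebraMap A D))) → D ≤ C)
    (C' : Subalgebra A' (TensorProduct A A' B))
    (hC' : FlatMor.IsUnivHomeo (Spec.map (CommRingCat.ofHom (algebraMap A' C'))))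
    (hmax' : ∀ D : Subalgebra A' (TensorProduct A A' B),
      FlatMor.IsUnivHomeo (Spec.map (CommRingCat.ofHom (algebraMap A' D))) → D ≤ C') :
    (C' : Set (TensorProduct A A' B)) =
      Set.range (Algebra.TensorProduct.map (AlgHom.id A A') C.val) := by
  have key : (C' : Set (A' ⊗[A] B)) =
      Set.range (Algebra.TensorProduct.map (AlgHom.id A' A') C.val) := by
    rcases hA' with ⟨M, hM⟩ | het
    · haveI := weaklyEtale_of_isLocalization (A' := A') M
      exact max_univHomeo_baseChange C hinj
        (TensorProduct.toIntegralClosure_bijective_of_isLocalization M) hC hmax C' hC' hmax'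
    · exact max_univHomeo_baseChange C hinj
        TensorProduct.toIntegralClosure_bijective_of_smooth hC hmax C' hC' hmax'
  rw [key]
  ext x
  constructor
  · rintro ⟨y, rfl⟩
    exact ⟨y, by
      induction y using TensorProduct.induction_on with
      | zero => simp
      | tmul a c => simp
      | add y z hy hz => rw [map_add, map_add, hy, hz]⟩
  · rintro ⟨y, rfl⟩
    exact ⟨y, by
      induction y using TensorProduct.induction_on with
      | zero => simp
      | tmul a c => simp
      | add y z hy hz => rw [map_add, map_add, hy, hz]⟩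

end final

end Groth.Agent.Lib.Helper9.UnivHomeoRing
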