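import Mathlib
set_option autoImplicit false
set_option linter.unusedSectionVars false
set_option linter.unusedVariables false
universe u

open TensorProduct

namespace Groth.Agent.Lib.Helper9.WeilAlg

section
variable {R : Type u} [CommRing R] {B : Type u} [CommRing B] [Algebra R B]
  {ι : Type u} [Fintype ι] [DecidableEq ι] (b : Module.Basis ι R B)

lemma repr_map {Q C : Type u} [CommRing Q] [CommRing C] [Algebra R Q] [Algebra R C]
    (θ : Q →ₐ[R] C) (y : Q ⊗[R] B) (k : ι) :
    (Algebra.TensorProduct.basis C b).repr (Algebra.TensorProduct.map θ (AlgHom.id R B) y) k =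
      θ ((Algebra.TensorProduct.basis Q b).repr y k) := by
  induction y using TensorProduct.induction_on with
  | zero => simp
  | tmul q x =>
    simp [Algebra.TensorProduct.basis_repr_tmul]
  | add y z hy hz =>
    simp only [map_add, Finsupp.coe_add, Pi.add_apply, hy, hz]

lemma sum_repr_tmul {C : Type u} [CommRing C] [Algebra R C] (y : C ⊗[R] B) :
    ∑ k, ((Algebra.TensorProduct.basis C b).repr y k) ⊗ₜ[R] (b k) = y := by
  conv_rhs => rw [← (Algebra.TensorProduct.basis C b).sum_repr y]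
  refine Finset.sum_congr rfl (fun k _ => ?_)
  rw [Algebra.TensorProduct.basis_apply, TensorProduct.smul_tmul', smul_eq_mul, mul_one]

lemma map_eq_sum {Q C : Type u} [CommRing Q] [CommRing C] [Algebra R Q] [Algebra R C]
    (θ : Q →ₐ[R] C) (y : Q ⊗[R] B) :
    Algebra.TensorProduct.map θ (AlgHom.id R B) y =
      ∑ k, θ ((Algebra.TensorProduct.basis Q b).repr y k) ⊗ₜ[R] (b k) := by
  rw [← sum_repr_tmul b (Algebra.TensorProduct.map θ (AlgHom.id R B) y)]
  refine Finset.sum_congr rfl (fun k _ => ?_)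
  rw [repr_map]

lemma repr_sum_tmul {C : Type u} [CommRing C] [Algebra R C] (c : ι → C) (k : ι) :
    (Algebra.TensorProduct.basis C b).repr (∑ i, c i ⊗ₜ[R] b i) k = c k := by
  have h : ∀ i, c i ⊗ₜ[R] b i = c i • (Algebra.TensorProduct.basis C b) i := by
    intro i
    rw [Algebra.TensorProduct.basis_apply, TensorProduct.smul_tmul', smul_eq_mul, mul_one]
  simp only [h, map_sum, map_smul, Module.Basis.repr_self, Finsupp.coe_finsetSum, Finsupp.coe_smul,
    Finset.sum_apply, Pi.smul_apply, Finsupp.single_apply, smul_eq_mul, mul_ite, mul_one, mul_zero,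
    Finset.sum_ite_eq', Finset.mem_univ, if_true]

variable (A : Type u) [CommRing A] [Algebra R A]

/-- the polynomial cover of `A` -/
noncomputable def π : MvPolynomial A R →ₐ[R] A := MvPolynomial.aeval id

lemma π_surjective : Function.Surjective (π (R := R) A) := fun a => ⟨MvPolynomial.X a, by simp [π]⟩

/-- the universal map on the polynomial cover -/
noncomputable def υ₀ : MvPolynomial A R →ₐ[R] MvPolynomial (A × ι) R ⊗[R] B :=
  MvPolynomial.aeval (fun a => ∑ k, (MvPolynomial.X (a, k) : MvPolynomial (A × ι) R) ⊗ₜ[R] b k)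

/-- the coefficient ideal -/
noncomputable def J : Ideal (MvPolynomial (A × ι) R) :=
  Ideal.span {q | ∃ j ∈ RingHom.ker (π (R := R) A), ∃ k : ι,
    q = (Algebra.TensorProduct.basis (MvPolynomial (A × ι) R) b).repr (υ₀ b A j) k}

/-- the Weil restriction algebra -/
abbrev W : Type u := MvPolynomial (A × ι) R ⧸ J b A

noncomputable def mk : MvPolynomial (A × ι) R →ₐ[R] W b A := Ideal.Quotient.mkₐ R (J b A)

lemma mk_surjective : Function.Surjective (mk b A) := Ideal.Quotient.mkₐ_surjective R _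

lemma map_mk_υ₀_eq_zero (j : MvPolynomial A R) (hj : j ∈ RingHom.ker (π (R := R) A)) :
    Algebra.TensorProduct.map (mk b A) (AlgHom.id R B) (υ₀ b A j) = 0 := by
  rw [map_eq_sum b]
  refine Finset.sum_eq_zero (fun k _ => ?_)
  have : mk b A ((Algebra.TensorProduct.basis (MvPolynomial (A × ι) R) b).repr (υ₀ b A j) k) = 0 := by
    apply (Ideal.Quotient.eq_zero_iff_mem).2
    exact Ideal.subset_span ⟨j, hj, k, rfl⟩
  rw [this, TensorProduct.zero_tmul]

/-- the universal map `A → W ⊗ B` -/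
noncomputable def υ : A →ₐ[R] W b A ⊗[R] B :=
  (Ideal.Quotient.liftₐ (RingHom.ker (π (R := R) A))
    ((Algebra.TensorProduct.map (mk b A) (AlgHom.id R B)).comp (υ₀ b A))
    (fun j hj => map_mk_υ₀_eq_zero b A j hj)).comp
    (Ideal.quotientKerAlgEquivOfSurjective (π_surjective A)).symm.toAlgHom

lemma υ_π (p : MvPolynomial A R) :
    υ b A (π A p) = Algebra.TensorProduct.map (mk b A) (AlgHom.id R B) (υ₀ b A p) := by
  have h : (Ideal.quotientKerAlgEquivOfSurjective (π_surjective (R := R) A)).symm (π A p) =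
      Ideal.Quotient.mk _ p := by
    apply (Ideal.quotientKerAlgEquivOfSurjective (π_surjective (R := R) A)).injective
    rw [AlgEquiv.apply_symm_apply]
    rfl
  have h0 : υ b A (π A p) = (Ideal.Quotient.liftₐ (RingHom.ker (π (R := R) A))
    ((Algebra.TensorProduct.map (mk b A) (AlgHom.id R B)).comp (υ₀ b A))
    (fun j hj => map_mk_υ₀_eq_zero b A j hj))
      ((Ideal.quotientKerAlgEquivOfSurjective (π_surjective (R := R) A)).symm (π A p)) := rfl
  rw [h0, h]
  rfl

variable {A}

/-- the polynomial-level classifying map -/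
noncomputable def ψ₀ {C : Type u} [CommRing C] [Algebra R C] (φ : A →ₐ[R] C ⊗[R] B) :
    MvPolynomial (A × ι) R →ₐ[R] C :=
  MvPolynomial.aeval (fun x => (Algebra.TensorProduct.basis C b).repr (φ x.1) x.2)

lemma map_ψ₀_υ₀ {C : Type u} [CommRing C] [Algebra R C] (φ : A →ₐ[R] C ⊗[R] B) :
    (Algebra.TensorProduct.map (ψ₀ b φ) (AlgHom.id R B)).comp (υ₀ b A) = φ.comp (π A) := by
  apply MvPolynomial.algHom_ext
  intro a
  simp only [AlgHom.comp_apply, υ₀, π, MvPolynomial.aeval_X, map_sum, Algebra.TensorProduct.map_tmul,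
    AlgHom.coe_id, id_eq, ψ₀]
  exact sum_repr_tmul b (φ a)

lemma ψ₀_mem {C : Type u} [CommRing C] [Algebra R C] (φ : A →ₐ[R] C ⊗[R] B)
    (q : MvPolynomial (A × ι) R) (hq : q ∈ J b A) : ψ₀ b φ q = 0 := by
  have : J b A ≤ RingHom.ker (ψ₀ b φ) := by
    apply Ideal.span_le.2
    rintro _ ⟨j, hj, k, rfl⟩
    change ψ₀ b φ _ = 0
    rw [← repr_map b]
    have := DFunLike.congr_fun (map_ψ₀_υ₀ b φ) j
    simp only [AlgHom.comp_apply] at this
    rw [this, (RingHom.mem_ker).1 hj, map_zero, map_zero]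
    rfl
  exact this hq

/-- the classifying map -/
noncomputable def ψ {C : Type u} [CommRing C] [Algebra R C] (φ : A →ₐ[R] C ⊗[R] B) :
    W b A →ₐ[R] C :=
  Ideal.Quotient.liftₐ (J b A) (ψ₀ b φ) (ψ₀_mem b φ)

lemma ψ_mk {C : Type u} [CommRing C] [Algebra R C] (φ : A →ₐ[R] C ⊗[R] B)
    (q : MvPolynomial (A × ι) R) : ψ b φ (mk b A q) = ψ₀ b φ q := rfl

theorem map_ψ_υ {C : Type u} [CommRing C] [Algebra R C] (φ : A →ₐ[R] C ⊗[R] B) :
    (Algebra.TensorProduct.map (ψ b φ) (AlgHom.id R B)).comp (υ b A) = φ := by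
  apply AlgHom.ext
  intro a
  obtain ⟨p, rfl⟩ := π_surjective (R := R) A a
  rw [AlgHom.comp_apply, υ_π]
  have h1 : Algebra.TensorProduct.map (ψ b φ) (AlgHom.id R B)
      (Algebra.TensorProduct.map (mk b A) (AlgHom.id R B) (υ₀ b A p)) =
      Algebra.TensorProduct.map (ψ₀ b φ) (AlgHom.id R B) (υ₀ b A p) := by
    rw [← AlgHom.comp_apply, ← Algebra.TensorProduct.map_comp]
    rfl
  rw [h1]
  exact DFunLike.congr_fun (map_ψ₀_υ₀ b φ) p

theorem ψ_unique {C : Type u} [CommRing C] [Algebra R C] (φ : A →ₐ[R] C ⊗[R] B)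
    (ψ' : W b A →ₐ[R] C)
    (h : (Algebra.TensorProduct.map ψ' (AlgHom.id R B)).comp (υ b A) = φ) : ψ' = ψ b φ := by
  have key : ψ'.comp (mk b A) = ψ₀ b φ := by
    apply MvPolynomial.algHom_ext
    rintro ⟨a, k⟩
    have h2 := DFunLike.congr_fun h a
    simp only [AlgHom.comp_apply] at h2
    have h3 : υ b A a = Algebra.TensorProduct.map (mk b A) (AlgHom.id R B)
        (υ₀ b A (MvPolynomial.X a)) := by
      rw [← υ_π]; simp [π]
    rw [h3, ← AlgHom.comp_apply, ← Algebra.TensorProduct.map_comp] at h2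
    simp only [AlgHom.comp_id, υ₀, MvPolynomial.aeval_X, map_sum, Algebra.TensorProduct.map_tmul,
      AlgHom.coe_id, id_eq] at h2
    have h4 := congrArg (fun y => (Algebra.TensorProduct.basis C b).repr y k) h2
    simp only [repr_sum_tmul] at h4
    simp only [ψ₀, MvPolynomial.aeval_X]
    exact h4
  apply AlgHom.ext
  intro w
  obtain ⟨q, rfl⟩ := mk_surjective b A w
  rw [ψ_mk, ← key]
  rfl

end

/-- **Weil restriction algebra**: existence with its universal property. -/
theorem exists_weilAlg (R A B : Type u) [CommRing R] [CommRing A] [CommRing B] [Algebra R A] [Algebra R B]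
    [Module.Finite R B] [Module.Free R B] :
    ∃ (W : Type u) (_ : CommRing W) (_ : Algebra R W) (υ : A →ₐ[R] W ⊗[R] B),
      ∀ (C : Type u) [CommRing C] [Algebra R C] (φ : A →ₐ[R] C ⊗[R] B),
        ∃! ψ : W →ₐ[R] C, (Algebra.TensorProduct.map ψ (AlgHom.id R B)).comp υ = φ := by
  classical
  let b := Module.Free.chooseBasis R B
  refine ⟨W b A, inferInstance, inferInstance, υ b A, ?_⟩
  intro C _ _ φ
  exact ⟨ψ b φ, map_ψ_υ b φ, fun ψ' h => ψ_unique b φ ψ' h⟩

end Groth.Agent.Lib.Helper9.WeilAlg
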