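import Mathlib
import Groth.Prelude.Def_Flatn
set_option backward.isDefEq.respectTransparency false
set_option maxHeartbeats 800000
set_option autoImplicit false
set_option linter.unusedSectionVars false
set_option linter.unusedVariables false
universe u
open CategoryTheory CategoryTheory.Limits AlgebraicGeometry Opposite TopologicalSpace

namespace Groth.Agent.Lib.Helper9.WeilRep

variable {S Z X : Scheme.{u}}

/-- restriction of an object of `Over S` to a member of an open cover -/
abbrev resObj (T : Over S) (𝒰 : Scheme.OpenCover.{u} T.left) (i : 𝒰.I₀) : Over S := Over.mk (𝒰.f i ≫ T.hom)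

abbrev resHom (T : Over S) (𝒰 : Scheme.OpenCover.{u} T.left) (i : 𝒰.I₀) : resObj T 𝒰 i ⟶ T :=
  Over.homMk (𝒰.f i) rfl

/-- Zariski local-to-global principle for representability by a universal element. -/
theorem bijective_of_local (F : (Over S)ᵒᵖ ⥤ Type u) (W : Over S) (ξ : F.obj (op W))
    (P : Over S → Prop)
    (hcov : ∀ T : Over S, ∃ 𝒰 : Scheme.OpenCover.{u} T.left, ∀ i, P (resObj T 𝒰 i))
    (hsep : ∀ (T : Over S) (𝒰 : Scheme.OpenCover.{u} T.left) (a b : F.obj (op T)),
      (∀ i, F.map (resHom T 𝒰 i).op a = F.map (resHom T 𝒰 i).op b) → a = b)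
    (hP : ∀ T : Over S, P T → Function.Bijective (fun t : T ⟶ W => F.map t.op ξ)) :
    ∀ T : Over S, Function.Bijective (fun t : T ⟶ W => F.map t.op ξ) := by
  have hinj : ∀ T : Over S, Function.Injective (fun t : T ⟶ W => F.map t.op ξ) := by
    intro T t₁ t₂ h
    dsimp only at h
    obtain ⟨𝒰, h𝒰⟩ := hcov T
    apply Over.OverMorphism.ext
    apply 𝒰.hom_ext
    intro i
    have h1 : resHom T 𝒰 i ≫ t₁ = resHom T 𝒰 i ≫ t₂ := by
      apply (hP _ (h𝒰 i)).1
      dsimp only
      rw [op_comp, op_comp, F.map_comp, F.map_comp]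
      simp only [types_comp_apply, h]
    exact congrArg (fun k => k.left) h1
  intro T
  refine ⟨hinj T, ?_⟩
  intro a
  obtain ⟨𝒰, h𝒰⟩ := hcov T
  choose t ht using fun i => (hP _ (h𝒰 i)).2 (F.map (resHom T 𝒰 i).op a)
  dsimp only at ht
  have hcompat : ∀ i j, pullback.fst (𝒰.f i) (𝒰.f j) ≫ (t i).left =
      pullback.snd (𝒰.f i) (𝒰.f j) ≫ (t j).left := by
    intro i j
    let Tij : Over S := Over.mk (pullback.fst (𝒰.f i) (𝒰.f j) ≫ 𝒰.f i ≫ T.hom)
    let p₁ : Tij ⟶ resObj T 𝒰 i := Over.homMk (pullback.fst (𝒰.f i) (𝒰.f j)) rfl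
    let p₂ : Tij ⟶ resObj T 𝒰 j := Over.homMk (pullback.snd (𝒰.f i) (𝒰.f j)) (by
      dsimp [Tij]
      rw [← Category.assoc, ← pullback.condition, Category.assoc])
    have hp : p₁ ≫ resHom T 𝒰 i = p₂ ≫ resHom T 𝒰 j := by
      apply Over.OverMorphism.ext
      exact pullback.condition
    have h1 : p₁ ≫ t i = p₂ ≫ t j := by
      apply hinj Tij
      dsimp only
      rw [op_comp, op_comp, F.map_comp, F.map_comp]
      simp only [types_comp_apply, ht]
      rw [← types_comp_apply (F.map _) (F.map _), ← types_comp_apply (F.map _) (F.map _),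
        ← F.map_comp, ← F.map_comp, ← op_comp, ← op_comp, hp]
    exact congrArg (fun k => k.left) h1
  let tl : T.left ⟶ W.left := 𝒰.glueMorphisms (fun i => (t i).left) hcompat
  have htl : ∀ i, 𝒰.f i ≫ tl = (t i).left := fun i => 𝒰.ι_glueMorphisms _ _ i
  have hw : tl ≫ W.hom = T.hom := by
    apply 𝒰.hom_ext
    intro i
    rw [← Category.assoc, htl]
    exact Over.w (t i)
  refine ⟨Over.homMk tl hw, ?_⟩
  dsimp only
  apply hsep T 𝒰
  intro i
  have h2 : resHom T 𝒰 i ≫ Over.homMk tl hw = t i := by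
    apply Over.OverMorphism.ext
    exact htl i
  rw [← ht i, ← h2, op_comp, F.map_comp]
  rfl

/-- the underlying morphism of the base change `T' ×_S Z ⟶ T ×_S Z` -/
lemma morS_map_left (g : Z ⟶ S) (f : X ⟶ S) {T T' : Over S} (φ : T' ⟶ T)
    (a : (Flatn.morS g f).obj (op T)) :
    ((Flatn.morS g f).map φ.op a).left =
      pullback.lift (pullback.fst T'.hom g ≫ φ.left) (pullback.snd T'.hom g)
        (by rw [Category.assoc, Over.w φ, pullback.condition]) ≫ a.left := by
  rw [Flatn.morS_map]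
  rfl

theorem morS_sep (g : Z ⟶ S) (f : X ⟶ S) (T : Over S) (𝒰 : Scheme.OpenCover.{u} T.left)
    (a b : (Flatn.morS g f).obj (op T))
    (h : ∀ i, (Flatn.morS g f).map (resHom T 𝒰 i).op a = (Flatn.morS g f).map (resHom T 𝒰 i).op b) :
    a = b := by
  apply Over.OverMorphism.ext
  apply (Scheme.Pullback.openCoverOfLeft 𝒰 T.hom g).hom_ext
  intro i
  have h1 := congrArg (fun k => k.left) (h i)
  simp only [morS_map_left] at h1
  have h2 : (Scheme.Pullback.openCoverOfLeft 𝒰 T.hom g).f i =
      pullback.lift (pullback.fst (resObj T 𝒰 i).hom g ≫ (resHom T 𝒰 i).left)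
        (pullback.snd (resObj T 𝒰 i).hom g)
        (by rw [Category.assoc, Over.w (resHom T 𝒰 i), pullback.condition]) := by
    apply pullback.hom_ext
    · simp [Scheme.Pullback.openCoverOfLeft]
    · simp [Scheme.Pullback.openCoverOfLeft]
  rw [h2]
  exact h1

end Groth.Agent.Lib.Helper9.WeilRep
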