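import Mathlib
import Groth.Agent.Lib.Helper9.WeilAlg
set_option backward.isDefEq.respectTransparency false
set_option maxHeartbeats 800000
set_option autoImplicit false
set_option linter.unusedSectionVars false
set_option linter.unusedVariables false
universe u
open CategoryTheory CategoryTheory.Limits Opposite TensorProduct

namespace Groth.Agent.Lib.Helper9.WeilRep

/-- universality of a Weil-restriction datum, phrased with abstract pushouts of commutative rings -/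
def IsWeilUniv {R A B Wr D : CommRingCat.{u}} (α : R ⟶ A) (β : R ⟶ B) (ω : R ⟶ Wr)
    (i₁ : Wr ⟶ D) (i₂ : B ⟶ D) (υ : A ⟶ D) : Prop :=
  ∀ (C D' : CommRingCat.{u}) (γ : R ⟶ C) (j₁ : C ⟶ D') (j₂ : B ⟶ D'), IsPushout γ β j₁ j₂ →
    ∀ φ : A ⟶ D', α ≫ φ = γ ≫ j₁ →
      ∃! ψ : Wr ⟶ C, ω ≫ ψ = γ ∧ ∀ d : D ⟶ D', i₁ ≫ d = ψ ≫ j₁ → i₂ ≫ d = j₂ → υ ≫ d = φ

theorem exists_isWeilUniv {R A B : CommRingCat.{u}} (α : R ⟶ A) (β : R ⟶ B)
    (hfree : letI := β.hom.toAlgebra; Module.Finite R B ∧ Module.Free R B) :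
    ∃ (Wc D : CommRingCat.{u}) (ω : R ⟶ Wc) (i₁ : Wc ⟶ D) (i₂ : B ⟶ D) (υ : A ⟶ D),
      IsPushout ω β i₁ i₂ ∧ α ≫ υ = ω ≫ i₁ ∧ IsWeilUniv α β ω i₁ i₂ υ := by
  letI algA : Algebra R A := α.hom.toAlgebra
  letI algB : Algebra R B := β.hom.toAlgebra
  haveI := hfree.1
  haveI := hfree.2
  obtain ⟨W₀, instW, algW, υa, hυ⟩ := WeilAlg.exists_weilAlg R A B
  have hβ : β = CommRingCat.ofHom (algebraMap R B) := rfl
  have hα : α = CommRingCat.ofHom (algebraMap R A) := rfl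
  have sq₀ := CommRingCat.isPushout_tensorProduct R W₀ B
  rw [← hβ] at sq₀
  refine ⟨CommRingCat.of W₀, CommRingCat.of (W₀ ⊗[R] B), CommRingCat.ofHom (algebraMap R W₀),
    CommRingCat.ofHom Algebra.TensorProduct.includeLeftRingHom,
    CommRingCat.ofHom Algebra.TensorProduct.includeRight.toRingHom,
    CommRingCat.ofHom υa.toRingHom, sq₀, ?_, ?_⟩
  · rw [hα]
    ext r
    change υa (algebraMap R A r) = (algebraMap R W₀ r) ⊗ₜ[R] (1 : B)
    rw [υa.commutes]
    rfl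
  · intro C D' γ j₁ j₂ sq' φ hφ
    letI algC : Algebra R C := γ.hom.toAlgebra
    have hγ : γ = CommRingCat.ofHom (algebraMap R C) := rfl
    have sqT := CommRingCat.isPushout_tensorProduct R C B
    rw [← hβ, ← hγ] at sqT
    let θ := sqT.isoIsPushout _ _ sq'
    have hθ1 : CommRingCat.ofHom Algebra.TensorProduct.includeLeftRingHom ≫ θ.hom = j₁ :=
      IsPushout.inl_isoIsPushout_hom _ _ sqT sq'
    have hθ2 : CommRingCat.ofHom (Algebra.TensorProduct.includeRight (R := R) (A := C) (B := B)).toRingHom ≫ θ.hom = j₂ :=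
      IsPushout.inr_isoIsPushout_hom _ _ sqT sq'
    have hθ1' : j₁ ≫ θ.inv = CommRingCat.ofHom Algebra.TensorProduct.includeLeftRingHom :=
      IsPushout.inl_isoIsPushout_inv _ _ sqT sq'
    -- the algebra map `A → C ⊗ B`
    let φa : A →ₐ[R] C ⊗[R] B :=
      { (φ ≫ θ.inv).hom with
        commutes' := fun r => by
          have h1 : α ≫ φ ≫ θ.inv = γ ≫ CommRingCat.ofHom Algebra.TensorProduct.includeLeftRingHom := by
            rw [← Category.assoc, hφ, Category.assoc, hθ1']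
          exact congrArg (fun k => k.hom r) h1 }
    obtain ⟨ψa, hψa, hψu⟩ := hυ C φa
    -- general fact: the map induced on tensor products by an algebra map
    have hmap : ∀ (ψ' : W₀ →ₐ[R] C),
        CommRingCat.ofHom Algebra.TensorProduct.includeLeftRingHom ≫
          (CommRingCat.ofHom (Algebra.TensorProduct.map ψ' (AlgHom.id R B)).toRingHom ≫ θ.hom) =
        CommRingCat.ofHom ψ'.toRingHom ≫ j₁ ∧
        CommRingCat.ofHom (Algebra.TensorProduct.includeRight (R := R) (A := W₀) (B := B)).toRingHom ≫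
          (CommRingCat.ofHom (Algebra.TensorProduct.map ψ' (AlgHom.id R B)).toRingHom ≫ θ.hom) = j₂ := by
      intro ψ'
      constructor
      · rw [← hθ1, ← Category.assoc, ← Category.assoc]
        congr 1
      · rw [← hθ2, ← Category.assoc]
        congr 1
        ext x
        change Algebra.TensorProduct.map ψ' (AlgHom.id R B) (1 ⊗ₜ[R] x) = 1 ⊗ₜ[R] x
        simp
    have hd : ∀ (ψ' : W₀ →ₐ[R] C) (d : CommRingCat.of (W₀ ⊗[R] B) ⟶ D'),
        CommRingCat.ofHom Algebra.TensorProduct.includeLeftRingHom ≫ d = CommRingCat.ofHom ψ'.toRingHom ≫ j₁ →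
        CommRingCat.ofHom (Algebra.TensorProduct.includeRight (R := R) (A := W₀) (B := B)).toRingHom ≫ d = j₂ →
        d = CommRingCat.ofHom (Algebra.TensorProduct.map ψ' (AlgHom.id R B)).toRingHom ≫ θ.hom := by
      intro ψ' d h1 h2
      apply sq₀.hom_ext
      · rw [h1, (hmap ψ').1]
      · rw [h2, (hmap ψ').2]
    have hφa : ∀ (ψ' : W₀ →ₐ[R] C),
        (CommRingCat.ofHom υa.toRingHom ≫
          CommRingCat.ofHom (Algebra.TensorProduct.map ψ' (AlgHom.id R B)).toRingHom ≫ θ.hom = φ) ↔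
        (Algebra.TensorProduct.map ψ' (AlgHom.id R B)).comp υa = φa := by
      intro ψ'
      constructor
      · intro h
        apply AlgHom.ext
        intro a
        have h' : CommRingCat.ofHom υa.toRingHom ≫
          CommRingCat.ofHom (Algebra.TensorProduct.map ψ' (AlgHom.id R B)).toRingHom = φ ≫ θ.inv := by
          rw [← h]; simp
        exact congrArg (fun k => k.hom a) h'
      · intro h
        have h' : CommRingCat.ofHom υa.toRingHom ≫
          CommRingCat.ofHom (Algebra.TensorProduct.map ψ' (AlgHom.id R B)).toRingHom = φ ≫ θ.inv := by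
          ext a
          exact DFunLike.congr_fun h a
        rw [← Category.assoc, h', Category.assoc, Iso.inv_hom_id, Category.comp_id]
    refine ⟨CommRingCat.ofHom ψa.toRingHom, ⟨?_, ?_⟩, ?_⟩
    · rw [hγ]
      ext r
      exact ψa.commutes r
    · intro d h1 h2
      rw [hd ψa d h1 h2]
      exact (hφa ψa).2 hψa
    · rintro ψ' ⟨h1, h2⟩
      let ψ'a : W₀ →ₐ[R] C :=
        { ψ'.hom with
          commutes' := fun r => congrArg (fun k => k.hom r) h1 }
      have h3 : ψ' = CommRingCat.ofHom ψ'a.toRingHom := rfl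
      have h4 := h2 _ (hmap ψ'a).1 (hmap ψ'a).2
      have h5 := hψu ψ'a ((hφa ψ'a).1 h4)
      rw [h3, h5]

theorem IsWeilUniv.transport {R A B Wc D₀ Wr D : CommRingCat.{u}} {α : R ⟶ A} {β : R ⟶ B}
    {ω₀ : R ⟶ Wc} {i₁ : Wc ⟶ D₀} {i₂ : B ⟶ D₀} {υ₀ : A ⟶ D₀}
    (sq₀ : IsPushout ω₀ β i₁ i₂) (hc : α ≫ υ₀ = ω₀ ≫ i₁) (hu : IsWeilUniv α β ω₀ i₁ i₂ υ₀)
    (e : Wr ≅ Wc) {ω : R ⟶ Wr} (hω : ω = ω₀ ≫ e.inv) {i₁' : Wr ⟶ D} {i₂' : B ⟶ D}
    (sq : IsPushout ω β i₁' i₂') :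
    ∃ υ : A ⟶ D, α ≫ υ = ω ≫ i₁' ∧ IsWeilUniv α β ω i₁' i₂' υ := by
  have hw : ω₀ ≫ e.inv ≫ i₁' = β ≫ i₂' := by
    rw [← Category.assoc, ← hω]; exact sq.w
  let k : D₀ ⟶ D := sq₀.desc (e.inv ≫ i₁') i₂' hw
  have hk1 : i₁ ≫ k = e.inv ≫ i₁' := sq₀.inl_desc _ _ _
  have hk2 : i₂ ≫ k = i₂' := sq₀.inr_desc _ _ _
  refine ⟨υ₀ ≫ k, ?_, ?_⟩
  · rw [← Category.assoc, hc, Category.assoc, hk1, hω, Category.assoc]
  · intro C D' γ j₁ j₂ sq' φ hφ
    obtain ⟨ψ₀, ⟨hψ1, hψ2⟩, hψu⟩ := hu C D' γ j₁ j₂ sq' φ hφ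
    refine ⟨e.hom ≫ ψ₀, ⟨?_, ?_⟩, ?_⟩
    · rw [hω, Category.assoc, Iso.inv_hom_id_assoc, hψ1]
    · intro d h1 h2
      rw [Category.assoc]
      apply hψ2
      · rw [← Category.assoc, hk1, Category.assoc, h1, Category.assoc, Iso.inv_hom_id_assoc]
      · rw [← Category.assoc, hk2, h2]
    · rintro ψ' ⟨h1, h2⟩
      have hw' : ω ≫ ψ' ≫ j₁ = β ≫ j₂ := by
        rw [← Category.assoc, h1]; exact sq'.w
      have h3 : e.inv ≫ ψ' = ψ₀ := by
        apply hψu
        refine ⟨?_, ?_⟩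
        · rw [← Category.assoc, ← hω, h1]
        · intro d₀ hd1 hd2
          let d : D ⟶ D' := sq.desc (ψ' ≫ j₁) j₂ hw'
          have hd1' : i₁' ≫ d = ψ' ≫ j₁ := sq.inl_desc _ _ _
          have hd2' : i₂' ≫ d = j₂ := sq.inr_desc _ _ _
          have h4 : k ≫ d = d₀ := by
            apply sq₀.hom_ext
            · rw [← Category.assoc, hk1, Category.assoc, hd1', hd1, Category.assoc]
            · rw [← Category.assoc, hk2, hd2', hd2]
          have h5 := h2 d hd1' hd2'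
          rw [Category.assoc, h4] at h5
          exact h5
      rw [← h3, Iso.hom_inv_id_assoc]

end Groth.Agent.Lib.Helper9.WeilRep
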