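import Mathlib
import Groth.Prelude.Def_Flatn
import Groth.Agent.Lib.Helper9.WeilRep1
import Groth.Agent.Lib.Helper9.WeilRep2
set_option backward.isDefEq.respectTransparency false
set_option maxHeartbeats 800000
set_option autoImplicit false
set_option linter.unusedSectionVars false
set_option linter.unusedVariables false
universe u
open CategoryTheory CategoryTheory.Limits AlgebraicGeometry Opposite TopologicalSpace

namespace Groth.Agent.Lib.Helper9.WeilRep

lemma isoSpec_inv_appTop' (X : Scheme.{u}) [IsAffine X] :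
    X.isoSpec.inv.appTop = (Scheme.ΓSpecIso Γ(X, ⊤)).inv := by
  rw [← cancel_mono X.isoSpec.hom.appTop, ← Scheme.Hom.comp_appTop, Iso.hom_inv_id]
  simp [Scheme.isoSpec]

lemma exists_hom_appTop {Y X : Scheme.{u}} [IsAffine X] (φ : Γ(X, ⊤) ⟶ Γ(Y, ⊤)) :
    ∃ h : Y ⟶ X, h.appTop = φ := by
  refine ⟨Y.toSpecΓ ≫ Spec.map φ ≫ X.isoSpec.inv, ?_⟩
  rw [Scheme.Hom.comp_appTop, Scheme.Hom.comp_appTop, isoSpec_inv_appTop', Scheme.toSpecΓ_appTop]
  have := Scheme.ΓSpecIso_naturality φ
  rw [Category.assoc, this, Iso.inv_hom_id_assoc]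

lemma spec_map_isoSpec_inv_appTop {S : Scheme.{u}} [IsAffine S] {Wc : CommRingCat.{u}}
    (ω₀ : Γ(S, ⊤) ⟶ Wc) :
    (Spec.map ω₀ ≫ S.isoSpec.inv).appTop = ω₀ ≫ (Scheme.ΓSpecIso Wc).inv := by
  rw [Scheme.Hom.comp_appTop, isoSpec_inv_appTop']
  have := Scheme.ΓSpecIso_naturality ω₀
  rw [← cancel_mono (Scheme.ΓSpecIso Wc).hom, Category.assoc, this]
  simp

variable {Z X S : Scheme.{u}}

/-- The criterion at an affine test object: universality on rings gives bijectivity. -/
theorem bijective_of_isWeilUniv [IsAffine Z] [IsAffine X] [IsAffine S] (g : Z ⟶ S) (f : X ⟶ S)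
    (W : Over S) [IsAffine W.left] (ξ : (Flatn.morS g f).obj (op W))
    (hu : IsWeilUniv f.appTop g.appTop W.hom.appTop (pullback.fst W.hom g).appTop
      (pullback.snd W.hom g).appTop ξ.left.appTop)
    (T : Over S) [IsAffine T.left] :
    Function.Bijective (fun t : T ⟶ W => (Flatn.morS g f).map t.op ξ) := by
  have sqT := isPushout_appTop_of_isPullback (IsPullback.of_hasPullback T.hom g)
  have sqW := isPushout_appTop_of_isPullback (IsPullback.of_hasPullback W.hom g)
  -- the base change map of `t`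
  let m : (T ⟶ W) → (pullback T.hom g ⟶ pullback W.hom g) := fun t =>
    pullback.lift (pullback.fst T.hom g ≫ t.left) (pullback.snd T.hom g)
      (by rw [Category.assoc, Over.w t, pullback.condition])
  have hm1 : ∀ t, (pullback.fst W.hom g).appTop ≫ (m t).appTop =
      t.left.appTop ≫ (pullback.fst T.hom g).appTop := by
    intro t
    rw [← Scheme.Hom.comp_appTop, ← Scheme.Hom.comp_appTop]
    congr 1
    exact pullback.lift_fst _ _ _
  have hm2 : ∀ t, (pullback.snd W.hom g).appTop ≫ (m t).appTop = (pullback.snd T.hom g).appTop := by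
    intro t
    rw [← Scheme.Hom.comp_appTop]
    congr 1
    exact pullback.lift_snd _ _ _
  have hΘ : ∀ t : T ⟶ W, ((Flatn.morS g f).map t.op ξ).left.appTop = ξ.left.appTop ≫ (m t).appTop := by
    intro t
    rw [morS_map_left, Scheme.Hom.comp_appTop]
  have hφ : ∀ a : (Flatn.morS g f).obj (op T),
      f.appTop ≫ a.left.appTop = T.hom.appTop ≫ (pullback.fst T.hom g).appTop := by
    intro a
    rw [← Scheme.Hom.comp_appTop, ← Scheme.Hom.comp_appTop]
    congr 1
    have := Over.w a
    change a.left ≫ f = pullback.snd T.hom g ≫ g at this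
    rw [this, pullback.condition]
  -- every `t` satisfies the predicate of the universal property for `Θ t`
  have hpred : ∀ t : T ⟶ W, W.hom.appTop ≫ t.left.appTop = T.hom.appTop ∧
      ∀ d : Γ(pullback W.hom g, ⊤) ⟶ Γ(pullback T.hom g, ⊤),
        (pullback.fst W.hom g).appTop ≫ d = t.left.appTop ≫ (pullback.fst T.hom g).appTop →
        (pullback.snd W.hom g).appTop ≫ d = (pullback.snd T.hom g).appTop →
        ξ.left.appTop ≫ d = ((Flatn.morS g f).map t.op ξ).left.appTop := by
    intro t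
    refine ⟨?_, ?_⟩
    · rw [← Scheme.Hom.comp_appTop, Over.w t]
    · intro d h1 h2
      have : d = (m t).appTop := by
        apply sqW.hom_ext
        · rw [h1, hm1]
        · rw [h2, hm2]
      rw [this, hΘ]
  constructor
  · intro t₁ t₂ h
    dsimp only at h
    obtain ⟨ψ, -, hψu⟩ := hu _ _ _ _ _ sqT ((Flatn.morS g f).map t₁.op ξ).left.appTop (hφ _)
    have e1 := hψu t₁.left.appTop (hpred t₁)
    have e2 := hψu t₂.left.appTop (by rw [h]; exact hpred t₂)
    apply Over.OverMorphism.ext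
    apply ext_of_isAffine
    rw [e1, e2]
  · intro a
    obtain ⟨ψ, ⟨hψ1, hψ2⟩, -⟩ := hu _ _ _ _ _ sqT a.left.appTop (hφ a)
    obtain ⟨tl, htl⟩ := exists_hom_appTop (X := W.left) (Y := T.left) ψ
    have hw : tl ≫ W.hom = T.hom := by
      apply ext_of_isAffine
      rw [Scheme.Hom.comp_appTop, htl, hψ1]
    refine ⟨Over.homMk tl hw, ?_⟩
    dsimp only
    apply Over.OverMorphism.ext
    apply ext_of_isAffine (Y := X)
    rw [hΘ]
    apply hψ2
    · rw [hm1, ← htl]
      rfl
    · rw [hm2]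


/-- **Weil restriction, affine finite free case.** -/
theorem exists_rep_affine [IsAffine Z] [IsAffine X] [IsAffine S] (g : Z ⟶ S) (f : X ⟶ S)
    (hfree : letI := (g.appTop).hom.toAlgebra
      Module.Finite Γ(S, ⊤) Γ(Z, ⊤) ∧ Module.Free Γ(S, ⊤) Γ(Z, ⊤)) :
    ∃ W : Over S, IsAffine W.left ∧ Nonempty ((Flatn.morS g f).RepresentableBy W) := by
  obtain ⟨Wc, D₀, ω₀, i₁, i₂, υ₀, sq₀, hc, hu⟩ := exists_isWeilUniv f.appTop g.appTop hfree
  let W : Over S := Over.mk (Spec.map ω₀ ≫ S.isoSpec.inv)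
  haveI : IsAffine W.left := inferInstanceAs (IsAffine (Spec Wc))
  have hω : W.hom.appTop = ω₀ ≫ (Scheme.ΓSpecIso Wc).inv := spec_map_isoSpec_inv_appTop ω₀
  have sqW := isPushout_appTop_of_isPullback (IsPullback.of_hasPullback W.hom g)
  obtain ⟨υ, hυc, huniv⟩ := hu.transport sq₀ hc (Scheme.ΓSpecIso Wc) hω sqW
  obtain ⟨ξl, hξl⟩ := exists_hom_appTop (X := X) (Y := pullback W.hom g) υ
  have hξw : ξl ≫ f = pullback.snd W.hom g ≫ g := by
    apply ext_of_isAffine
    rw [Scheme.Hom.comp_appTop, hξl, hυc, ← Scheme.Hom.comp_appTop, pullback.condition]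
  let ξ : (Flatn.morS g f).obj (op W) :=
    (Over.homMk ξl hξw : (Over.map g).obj ((Over.pullback g).obj W) ⟶ Over.mk f)
  have hξ : ξ.left.appTop = υ := hξl
  have hbij := bijective_of_local (Flatn.morS g f) W ξ (fun T => IsAffine T.left)
    (fun T => ⟨T.left.affineCover, fun i => inferInstanceAs (IsAffine (T.left.affineCover.X i))⟩)
    (morS_sep g f)
    (fun T hT => by
      haveI := hT
      exact bijective_of_isWeilUniv g f W ξ (by rw [hξ]; exact huniv) T)
  refine ⟨W, inferInstance, ⟨{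
    homEquiv := fun {T} => Equiv.ofBijective _ (hbij T)
    homEquiv_comp := ?_ }⟩⟩
  intro T T' φ t
  change (Flatn.morS g f).map (φ ≫ t).op ξ = (Flatn.morS g f).map φ.op ((Flatn.morS g f).map t.op ξ)
  rw [op_comp, Functor.map_comp]
  rfl

end Groth.Agent.Lib.Helper9.WeilRep
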