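import Groth.Agent.Lib.Helper9.DescSec7

set_option backward.isDefEq.respectTransparency false
set_option maxHeartbeats 800000
set_option autoImplicit false
set_option linter.unusedSectionVars false
set_option linter.unusedVariables false
universe u
open CategoryTheory CategoryTheory.Limits AlgebraicGeometry Opposite

namespace Groth.Agent.Lib.Helper9.DescSec

open Groth.Agent.Lib.Helper9.DescFF

variable {S : Scheme.{u}} {ι : Type u} {X : ι → Scheme.{u}} {f : ∀ i, X i ⟶ S}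
  {D : Desc.SchDDFam f}

theorem secOfPt_congr {T : Scheme.{u}} {i : ι} {d d' : T ⟶ (D.obj i).left} (hd : d = d')
    (t : T ⟶ S) (ht : (d ≫ (D.obj i).hom) ≫ f i = t) (ht' : (d' ≫ (D.obj i).hom) ≫ f i = t) :
    secOfPt d t ht = secOfPt d' t ht' := by
  subst hd; rfl

/-- a section is determined by its value at one point -/
theorem Sec.eq_secOfPt {T : Scheme.{u}} {t : T ⟶ S} (τ : Sec D t) {i : ι} (x : T ⟶ X i)
    (h : x ≫ f i = 𝟙 T ≫ t) :
    τ = secOfPt (τ.pt (𝟙 T) x h) t (by rw [Sec.pt_hom, h, Category.id_comp]) := by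
  apply Sec.ext_pt
  intro j
  have e0 : (pullback.snd (f j) t ≫ x) ≫ f i = (pullback.snd (f j) t ≫ 𝟙 T) ≫ t := by
    rw [Category.assoc, h, Category.assoc]
  have e1 : pullback.snd (f j) t ≫ τ.pt (𝟙 T) x h =
      τ.pt (pullback.snd (f j) t ≫ 𝟙 T) (pullback.snd (f j) t ≫ x) e0 :=
    Sec.comp_pt τ _ _ _ h e0
  have hh : ((pullback.snd (f j) t ≫ τ.pt (𝟙 T) x h) ≫ (D.obj i).hom) ≫ f i =
      pullback.fst (f j) t ≫ f j := by
    rw [Category.assoc (pullback.snd (f j) t), Sec.pt_hom, Category.assoc, h, Category.id_comp,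
      pullback.condition]
  rw [secOfPt_pt _ _ _ _ _ _ hh]
  have hh' : ((τ.pt (pullback.snd (f j) t ≫ 𝟙 T) (pullback.snd (f j) t ≫ x) e0) ≫
      (D.obj i).hom) ≫ f i = pullback.fst (f j) t ≫ f j := by
    rw [← e1]; exact hh
  rw [tr_congr D e1 rfl hh hh']
  rw [Sec.pt_tr τ _ _ e0 _ (by rw [Category.comp_id, pullback.condition]) hh']
  exact Sec.pt_congr τ (Category.comp_id _).symm rfl _ _

theorem secOfPt_pull {T : Scheme.{u}} {i : ι} (d : T ⟶ (D.obj i).left) (t : T ⟶ S)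
    (ht : (d ≫ (D.obj i).hom) ≫ f i = t) {T' : Scheme.{u}} (g : T' ⟶ T) (t' : T' ⟶ S)
    (hg : g ≫ t = t') :
    (secOfPt d t ht).pull g t' hg = secOfPt (g ≫ d) t' (by
      rw [Category.assoc, Category.assoc, ← Category.assoc d, ht, hg]) := by
  apply Sec.ext_pt
  intro j
  have hh : (((pullback.snd (f j) t' ≫ g) ≫ d) ≫ (D.obj i).hom) ≫ f i =
      pullback.fst (f j) t' ≫ f j := by
    simp only [Category.assoc]
    rw [← Category.assoc d, ht, hg, pullback.condition]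
  rw [Sec.pull_pt _ _ _ _ _ _ _ (by rw [pullback.condition, Category.assoc, hg]),
    secOfPt_pt _ _ _ _ _ _ hh]
  have hh2 : ((pullback.snd (f j) t' ≫ g ≫ d) ≫ (D.obj i).hom) ≫ f i =
      pullback.fst (f j) t' ≫ f j := by
    simp only [Category.assoc] at hh ⊢; exact hh
  rw [secOfPt_pt _ _ _ _ _ _ hh2]
  exact tr_congr D (Category.assoc _ _ _) rfl _ _

theorem secOfPt_pt_self {T : Scheme.{u}} {i : ι} (d : T ⟶ (D.obj i).left) (t : T ⟶ S)
    (ht : (d ≫ (D.obj i).hom) ≫ f i = t) (x : T ⟶ X i) (hx : d ≫ (D.obj i).hom = x)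
    (h : x ≫ f i = 𝟙 T ≫ t) : (secOfPt d t ht).pt (𝟙 T) x h = d := by
  have hh : ((𝟙 T ≫ d) ≫ (D.obj i).hom) ≫ f i = x ≫ f i := by
    rw [Category.id_comp, hx]
  rw [secOfPt_pt _ _ _ _ _ _ hh]
  rw [tr_congr D (Category.id_comp d) rfl hh (by rw [hx])]
  exact tr_self D d x hx _

end Groth.Agent.Lib.Helper9.DescSec
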