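import Groth.Agent.Lib.Helper9.ZarRef1

set_option backward.isDefEq.respectTransparency false
set_option maxHeartbeats 800000
set_option autoImplicit false
set_option linter.unusedSectionVars false
set_option linter.unusedVariables false
universe u
open CategoryTheory CategoryTheory.Limits AlgebraicGeometry Opposite

namespace Groth.Agent.Lib.Helper9.DescSec

open Groth.Agent.Lib.Helper9.DescFF

section bcpull

variable {S S' : Scheme.{u}} {ι : Type u} {X X' : ι → Scheme.{u}}
  {f : ∀ i, X i ⟶ S} {f' : ∀ i, X' i ⟶ S'}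
  {p : S' ⟶ S} {p' : ∀ i, X' i ⟶ X i} (w : ∀ i, p' i ≫ f i = f' i ≫ p)
  (hpb : ∀ i, IsPullback (p' i) (f' i) (f i) p)
  {D : Desc.SchDDFam f} {T : Scheme.{u}} {t : T ⟶ S'}

include hpb in
theorem bc_pull (σ : Sec D (t ≫ p)) {T' : Scheme.{u}} (g : T' ⟶ T) (t' : T' ⟶ S')
    (hg : g ≫ t = t') (hg' : g ≫ (t ≫ p) = t' ≫ p) :
    (bc w σ).pull g t' hg = bc w (σ.pull g (t' ≫ p) hg') := by
  have h1 := bcInv_pull w hpb (bc w σ) g t' hg hg'
  rw [bcInv_bc] at h1
  rw [h1, bc_bcInv]

end bcpull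

section local_rep

variable {S S' : Scheme.{u}} {ι : Type u} {X : ι → Scheme.{u}} {f : ∀ i, X i ⟶ S}
  (D : Desc.SchDDFam f) (p : S' ⟶ S)
  {A : Type u} (idx : A → ι) (q : ∀ a, X (idx a) ⟶ S') [∀ a, IsOpenImmersion (q a)]
  (hq : ∀ a, q a ≫ p = f (idx a))
  (hsurj : ∀ s : S', ∃ a, s ∈ Set.range (q a))

/-- the base-changed descent datum -/
noncomputable abbrev pbD : Desc.SchDDFam (fun i => pullback.snd (f i) p) :=
  pullD (p' := fun i => pullback.fst (f i) p) (fun i => pullback.condition) D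

theorem hpbStd (i : ι) : IsPullback (pullback.fst (f i) p) (pullback.snd (f i) p) (f i) p :=
  IsPullback.of_hasPullback (f i) p

include hq in
theorem taut_aux (a : A) :
    ((𝟙 (D.obj (idx a)).left ≫ (D.obj (idx a)).hom) ≫ f (idx a)) =
      ((D.obj (idx a)).hom ≫ q a) ≫ p := by
  rw [Category.id_comp, Category.assoc, hq]

/-- the local universal sections -/
noncomputable def tautSec (a : A) : Sec (pbD D p) ((D.obj (idx a)).hom ≫ q a) :=
  bc (fun i => pullback.condition) (secOfPt (𝟙 (D.obj (idx a)).left) _ (taut_aux D p idx q hq a))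

theorem isUnivOn_tautSec (a : A) :
    IsUnivOn (q a) (pbD D p) (D.obj (idx a)) (tautSec D p idx q hq a) := by
  intro T t τ
  have hpb := hpbStd (f := f) p
  let τ₀ : Sec D ((t ≫ q a) ≫ p) := bcInv (fun i => pullback.condition) hpb τ
  have h0 : t ≫ f (idx a) = 𝟙 T ≫ (t ≫ q a) ≫ p := by
    rw [Category.id_comp, Category.assoc, hq]
  have key : ∀ (g : T ⟶ (D.obj (idx a)).left) (hg : g ≫ (D.obj (idx a)).hom = t),
      (tautSec D p idx q hq a).pull g (t ≫ q a) (by rw [← hg, Category.assoc]) =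
        bc (fun i => pullback.condition)
          (secOfPt g ((t ≫ q a) ≫ p) (by rw [hg, Category.assoc, hq])) := by
    intro g hg
    unfold tautSec
    rw [bc_pull _ hpb _ g (t ≫ q a) (by rw [← hg, Category.assoc])
      (by rw [← hg]; simp only [Category.assoc])]
    congr 1
    rw [secOfPt_pull]
    exact secOfPt_congr (Category.comp_id g) _ _ _
  refine ⟨τ₀.pt (𝟙 T) t h0, ⟨Sec.pt_hom _ _ _ _, ?_⟩, ?_⟩
  · rw [key _ (Sec.pt_hom _ _ _ _)]
    have := Sec.eq_secOfPt τ₀ t h0
    rw [← this]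
    exact bc_bcInv _ hpb τ
  · rintro g' ⟨hg'1, hg'2⟩
    rw [key g' hg'1] at hg'2
    have h3 : secOfPt g' ((t ≫ q a) ≫ p) (by rw [hg'1, Category.assoc, hq]) = τ₀ := by
      have := congrArg (bcInv (fun i => pullback.condition) hpb) hg'2
      rw [bcInv_bc] at this
      exact this
    rw [← secOfPt_pt_self g' ((t ≫ q a) ≫ p) (by rw [hg'1, Category.assoc, hq]) t hg'1 h0]
    exact congrArg (fun σ => Sec.pt σ (𝟙 T) t h0) h3

include hsurj hq in
/-- Zariski-local representability over a base `S' ⟶ S`: if `S'` is covered by open immersions from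
members of the family, the functor of sections of `D` over `S'`-schemes is representable. -/
theorem exists_isUnivOn_of_cover :
    ∃ (Y : Over S') (σ : Sec D (Y.hom ≫ p)), IsUnivOn p D Y σ := by
  obtain ⟨U₀, σ₀, h₀⟩ := exists_isUniv_of_local (D := pbD D p) q (fun a => D.obj (idx a))
    (fun a => tautSec D p idx q hq a) (fun a => isUnivOn_tautSec D p idx q hq a) hsurj
  exact ⟨U₀, bcInv (fun i => pullback.condition) (hpbStd p) σ₀,
    isUnivOn_of_isUniv _ (hpbStd p) U₀ σ₀ h₀⟩

end local_rep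

end Groth.Agent.Lib.Helper9.DescSec
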