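import Groth.Agent.Lib.Helper9.ZarRef2

set_option backward.isDefEq.respectTransparency false
set_option maxHeartbeats 800000
set_option autoImplicit false
set_option linter.unusedSectionVars false
set_option linter.unusedVariables false
universe u
open CategoryTheory CategoryTheory.Limits AlgebraicGeometry Opposite

namespace Groth.Agent.Lib.Helper9.DescSec

open Groth.Agent.Lib.Helper9.DescFF

section repfam

variable {S : Scheme.{u}} {ι : Type u} {X : ι → Scheme.{u}} {f : ∀ i, X i ⟶ S}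
  {D : Desc.SchDDFam f}

/-- changing the target of a pulled-back section along an equality -/
theorem Sec.pull_eq_of_pull_eq {T₁ T₂ T : Scheme.{u}} {t₁ : T₁ ⟶ S} {t₂ : T₂ ⟶ S}
    (σ₁ : Sec D t₁) (σ₂ : Sec D t₂) (a : T ⟶ T₁) (b : T ⟶ T₂) (t t' : T ⟶ S)
    (h₁ : a ≫ t₁ = t) (h₂ : b ≫ t₂ = t) (h₁' : a ≫ t₁ = t') (h₂' : b ≫ t₂ = t')
    (h : σ₁.pull a t h₁ = σ₂.pull b t h₂) : σ₁.pull a t' h₁' = σ₂.pull b t' h₂' := by
  have : t = t' := h₁.symm.trans h₁'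
  subst this
  exact h

variable {κ : Type u} {V : κ → Scheme.{u}} (v : ∀ j, V j ⟶ S)
  (Y : ∀ j, Over (V j)) (σ : ∀ j, Sec D ((Y j).hom ≫ v j))
  (hu : ∀ j, IsUnivOn (v j) D (Y j) (σ j))

/-- the section classified by a point -/
noncomputable def secOfLift (j : κ) {T : Scheme.{u}} {x : T ⟶ V j} (y : Desc.Lifts (Y j) x)
    (t : T ⟶ S) (ht : x ≫ v j = t) : Sec D t :=
  (σ j).pull y.1 t (by rw [← ht, ← Category.assoc, y.2])

include hu in
theorem lifts_ext (j : κ) {T : Scheme.{u}} {x : T ⟶ V j} (y y' : Desc.Lifts (Y j) x)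
    (h : secOfLift v Y σ j y (x ≫ v j) rfl = secOfLift v Y σ j y' (x ≫ v j) rfl) : y = y' := by
  obtain ⟨g, _, hguniq⟩ := hu j T x (secOfLift v Y σ j y' (x ≫ v j) rfl)
  apply Subtype.ext
  rw [hguniq y.1 ⟨y.2, h⟩, hguniq y'.1 ⟨y'.2, rfl⟩]

include hu in
theorem exists_lift (j : κ) {T : Scheme.{u}} (x : T ⟶ V j) (τ : Sec D (x ≫ v j)) :
    ∃ y : Desc.Lifts (Y j) x, secOfLift v Y σ j y (x ≫ v j) rfl = τ := by
  obtain ⟨g, ⟨hg1, hg2⟩, _⟩ := hu j T x τ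
  exact ⟨⟨g, hg1⟩, hg2⟩

/-- the point classifying a section -/
noncomputable def liftOfSec (j : κ) {T : Scheme.{u}} (x : T ⟶ V j) (τ : Sec D (x ≫ v j)) :
    Desc.Lifts (Y j) x := (exists_lift v Y σ hu j x τ).choose

theorem secOfLift_liftOfSec (j : κ) {T : Scheme.{u}} (x : T ⟶ V j) (τ : Sec D (x ≫ v j)) :
    secOfLift v Y σ j (liftOfSec v Y σ hu j x τ) (x ≫ v j) rfl = τ :=
  (exists_lift v Y σ hu j x τ).choose_spec

theorem secOfLift_congr (j : κ) {T : Scheme.{u}} {x : T ⟶ V j} (y : Desc.Lifts (Y j) x)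
    (t t' : T ⟶ S) (ht : x ≫ v j = t) (ht' : x ≫ v j = t') (htt : t = t') :
    secOfLift v Y σ j y t' ht' = (secOfLift v Y σ j y t ht).pull (𝟙 T) t' (by
      rw [Category.id_comp, htt]) := by
  subst htt
  rw [Sec.pull_id]

/-- the transition bijections -/
noncomputable def phiFun {T : Scheme.{u}} {j j' : κ} (x₀ : T ⟶ V j) (x₁ : T ⟶ V j')
    (h : x₀ ≫ v j = x₁ ≫ v j') (y : Desc.Lifts (Y j) x₀) : Desc.Lifts (Y j') x₁ :=
  liftOfSec v Y σ hu j' x₁ (secOfLift v Y σ j y (x₁ ≫ v j') h)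

theorem secOfLift_phiFun {T : Scheme.{u}} {j j' : κ} (x₀ : T ⟶ V j) (x₁ : T ⟶ V j')
    (h : x₀ ≫ v j = x₁ ≫ v j') (y : Desc.Lifts (Y j) x₀) (t : T ⟶ S) (ht : x₁ ≫ v j' = t) :
    secOfLift v Y σ j' (phiFun v Y σ hu x₀ x₁ h y) t ht = secOfLift v Y σ j y t (h.trans ht) := by
  subst ht
  exact secOfLift_liftOfSec v Y σ hu j' x₁ _

theorem phiFun_phiFun {T : Scheme.{u}} {j j' j'' : κ} (x₀ : T ⟶ V j) (x₁ : T ⟶ V j')
    (x₂ : T ⟶ V j'') (h₀₁ : x₀ ≫ v j = x₁ ≫ v j') (h₁₂ : x₁ ≫ v j' = x₂ ≫ v j'')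
    (y : Desc.Lifts (Y j) x₀) :
    phiFun v Y σ hu x₁ x₂ h₁₂ (phiFun v Y σ hu x₀ x₁ h₀₁ y) =
      phiFun v Y σ hu x₀ x₂ (h₀₁.trans h₁₂) y := by
  apply lifts_ext v Y σ hu
  rw [secOfLift_phiFun, secOfLift_phiFun, secOfLift_phiFun]

theorem phiFun_self {T : Scheme.{u}} {j : κ} (x : T ⟶ V j) (y : Desc.Lifts (Y j) x) :
    phiFun v Y σ hu x x rfl y = y := by
  apply lifts_ext v Y σ hu
  rw [secOfLift_phiFun]

theorem secOfLift_comp (j : κ) {T T' : Scheme.{u}} (g : T' ⟶ T) {x : T ⟶ V j} {x' : T' ⟶ V j}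
    (y : Desc.Lifts (Y j) x) (y' : Desc.Lifts (Y j) x') (hy : y'.1 = g ≫ y.1)
    (t : T ⟶ S) (ht : x ≫ v j = t) (t' : T' ⟶ S) (ht' : x' ≫ v j = t') (hg : g ≫ t = t') :
    secOfLift v Y σ j y' t' ht' = (secOfLift v Y σ j y t ht).pull g t' hg := by
  unfold secOfLift
  rw [Sec.pull_pull _ _ _ _ _ _ _ (by
    rw [Category.assoc, ← Category.assoc y.1, y.2, ht, hg])]
  exact Sec.pull_congr _ hy _ _ _

/-- the descent datum relative to `v` defined by a family of representing objects -/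
noncomputable def repDD : Desc.SchDDFam v where
  obj := Y
  φ T j j' x₀ x₁ h :=
    { toFun := phiFun v Y σ hu x₀ x₁ h
      invFun := phiFun v Y σ hu x₁ x₀ h.symm
      left_inv := fun y => by rw [phiFun_phiFun, phiFun_self]
      right_inv := fun y => by rw [phiFun_phiFun, phiFun_self] }
  φ_natural T T' g j j' x₀ x₁ h y₀ y₁ hy₀ hy₁ h' y y' hy := by
    change (phiFun v Y σ hu y₀ y₁ h' y').1 = g ≫ (phiFun v Y σ hu x₀ x₁ h y).1
    let z : Desc.Lifts (Y j') y₁ := ⟨g ≫ (phiFun v Y σ hu x₀ x₁ h y).1, by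
      rw [Category.assoc, (phiFun v Y σ hu x₀ x₁ h y).2, hy₁]⟩
    have : phiFun v Y σ hu y₀ y₁ h' y' = z := by
      apply lifts_ext v Y σ hu
      rw [secOfLift_phiFun]
      rw [secOfLift_comp v Y σ j' g (phiFun v Y σ hu x₀ x₁ h y) z rfl (x₁ ≫ v j') rfl
        (y₁ ≫ v j') rfl (by rw [← hy₁, Category.assoc])]
      rw [secOfLift_phiFun]
      exact secOfLift_comp v Y σ j g y y' hy _ _ _ _ _
    rw [this]
  φ_self T j x y := phiFun_self v Y σ hu x y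
  φ_comp T j j' j'' x₀ x₁ x₂ h₀₁ h₁₂ y := phiFun_phiFun v Y σ hu x₀ x₁ x₂ h₀₁ h₁₂ y

end repfam

end Groth.Agent.Lib.Helper9.DescSec
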