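import Groth.Agent.Lib.Helper9.ZarRef3

set_option backward.isDefEq.respectTransparency false
set_option maxHeartbeats 800000
set_option autoImplicit false
set_option linter.unusedSectionVars false
set_option linter.unusedVariables false
universe u
open CategoryTheory CategoryTheory.Limits AlgebraicGeometry Opposite

namespace Groth.Agent.Lib.Helper9.DescSec

open Groth.Agent.Lib.Helper9.DescFF

section isoPull

variable {S : Scheme.{u}} {ι : Type u} {X : ι → Scheme.{u}} {f : ∀ i, X i ⟶ S}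
  {D : Desc.SchDDFam f}
  {κ : Type u} {V : κ → Scheme.{u}} (v : ∀ j, V j ⟶ S)
  (Y : ∀ j, Over (V j)) (σ : ∀ j, Sec D ((Y j).hom ≫ v j))
  (hu : ∀ j, IsUnivOn (v j) D (Y j) (σ j))
  {α : ι → κ} (g : ∀ i, X i ⟶ V (α i)) (w : ∀ i, g i ≫ v (α i) = f i ≫ 𝟙 S)

include w in
theorem gw' (i : ι) : g i ≫ v (α i) = f i := by rw [w, Category.comp_id]

include w in
theorem beta_aux (i : ι) :
    pullback.snd (Y (α i)).hom (g i) ≫ f i =
      pullback.fst (Y (α i)).hom (g i) ≫ (Y (α i)).hom ≫ v (α i) := by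
  rw [← gw' v g w i, pullback.condition_assoc]

/-- evaluation of the universal section -/
noncomputable def beta (i : ι) : pullback (Y (α i)).hom (g i) ⟶ (D.obj i).left :=
  (σ (α i)).pt (pullback.fst _ _) (pullback.snd _ _) (beta_aux v Y g w i)

theorem beta_hom (i : ι) : beta v Y σ g w i ≫ (D.obj i).hom = pullback.snd _ _ :=
  Sec.pt_hom _ _ _ _

theorem comp_beta (i : ι) {T : Scheme.{u}} (y : T ⟶ pullback (Y (α i)).hom (g i))
    (h : (y ≫ pullback.snd _ _) ≫ f i = (y ≫ pullback.fst _ _) ≫ (Y (α i)).hom ≫ v (α i)) :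
    y ≫ beta v Y σ g w i = (σ (α i)).pt (y ≫ pullback.fst _ _) (y ≫ pullback.snd _ _) h :=
  Sec.comp_pt _ _ _ _ _ _

/-- value of the section classified by a lift -/
theorem secOfLift_pt (j : κ) {T : Scheme.{u}} {x : T ⟶ V j} (y : Desc.Lifts (Y j) x)
    (t : T ⟶ S) (ht : x ≫ v j = t) {T' : Scheme.{u}} (a : T' ⟶ T) {i : ι} (x' : T' ⟶ X i)
    (h : x' ≫ f i = a ≫ t) (h' : x' ≫ f i = (a ≫ y.1) ≫ (Y j).hom ≫ v j) :
    (secOfLift v Y σ j y t ht).pt a x' h = (σ j).pt (a ≫ y.1) x' h' :=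
  Sec.pull_pt _ _ _ _ _ _ _ _

/-- the comparison morphism from the pulled-back descent datum -/
noncomputable def betaHom : (Desc.pullDDFam w).obj (repDD v Y σ hu) ⟶ D where
  hom i := Over.homMk (beta v Y σ g w i) (beta_hom v Y σ g w i)
  comm := by
    intro T i i' x₀ x₁ h y z hz
    let y1 : T ⟶ pullback (Y (α i)).hom (g i) := y.1
    have hz' : z.1 = y1 ≫ beta v Y σ g w i := hz
    have hy2 : y1 ≫ pullback.snd (Y (α i)).hom (g i) = x₀ := y.2
    rw [phi_eq_tr]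
    -- the transported point on the `Y` side
    let y0 : Desc.Lifts (Y (α i)) (x₀ ≫ g i) :=
      Desc.liftsPullbackEquiv ((repDD v Y σ hu).obj (α i)) (g i) x₀ y
    have hy0 : y0.1 = y1 ≫ pullback.fst (Y (α i)).hom (g i) := rfl
    have hcomp : (x₀ ≫ g i) ≫ v (α i) = (x₁ ≫ g i') ≫ v (α i') := Desc.pull_compat w x₀ x₁ h
    let z' : Desc.Lifts (Y (α i')) (x₁ ≫ g i') := phiFun v Y σ hu (x₀ ≫ g i) (x₁ ≫ g i') hcomp y0
    have hR : (((Desc.pullDDFam w).obj (repDD v Y σ hu)).φ x₀ x₁ h y).1 =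
        pullback.lift z'.1 x₁ z'.2 := rfl
    change _ = (((Desc.pullDDFam w).obj (repDD v Y σ hu)).φ x₀ x₁ h y).1 ≫ beta v Y σ g w i'
    rw [hR, comp_beta v Y σ g w i' _ (by
      rw [pullback.lift_snd, pullback.lift_fst, ← Category.assoc, z'.2, Category.assoc,
        gw' v g w i'])]
    -- right-hand side
    have hx1 : x₁ ≫ f i' = 𝟙 T ≫ (x₁ ≫ g i') ≫ v (α i') := by
      rw [Category.id_comp, Category.assoc, gw' v g w i']
    have e1 := secOfLift_pt v Y σ (α i') z' ((x₁ ≫ g i') ≫ v (α i')) rfl (𝟙 T) x₁ hx1 (by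
      rw [Category.id_comp, ← Category.assoc, z'.2, Category.assoc, gw' v g w i'])
    have e2 : secOfLift v Y σ (α i') z' ((x₁ ≫ g i') ≫ v (α i')) rfl =
        secOfLift v Y σ (α i) y0 ((x₁ ≫ g i') ≫ v (α i')) hcomp :=
      secOfLift_phiFun v Y σ hu _ _ hcomp y0 _ rfl
    have hA : x₁ ≫ f i' = (𝟙 T ≫ y0.1) ≫ (Y (α i)).hom ≫ v (α i) := by
      rw [Category.id_comp, ← Category.assoc, y0.2, Category.assoc, gw' v g w i, h]
    have e3 := secOfLift_pt v Y σ (α i) y0 ((x₁ ≫ g i') ≫ v (α i')) hcomp (𝟙 T) x₁ hx1 hA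
    have eR : (σ (α i')).pt (pullback.lift z'.1 x₁ z'.2 ≫ pullback.fst _ _)
        (pullback.lift z'.1 x₁ z'.2 ≫ pullback.snd _ _) (by
          rw [pullback.lift_snd, pullback.lift_fst, ← Category.assoc, z'.2, Category.assoc,
            gw' v g w i']) = (σ (α i)).pt (𝟙 T ≫ y0.1) x₁ hA := by
      rw [← e3, ← e2, e1]
      exact Sec.pt_congr _ (by rw [pullback.lift_fst, Category.id_comp]) (pullback.lift_snd _ _ _) _ _
    rw [eR]
    -- left-hand side
    have h0 : (y1 ≫ pullback.snd (Y (α i)).hom (g i)) ≫ f i =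
        (y1 ≫ pullback.fst (Y (α i)).hom (g i)) ≫ (Y (α i)).hom ≫ v (α i) := by
      rw [Category.assoc, Category.assoc, beta_aux v Y g w i]
    have e4 : z.1 = (σ (α i)).pt (y1 ≫ pullback.fst (Y (α i)).hom (g i))
        (y1 ≫ pullback.snd (Y (α i)).hom (g i)) h0 :=
      hz'.trans (comp_beta v Y σ g w i y1 h0)
    have hh : (((σ (α i)).pt (y1 ≫ pullback.fst (Y (α i)).hom (g i))
        (y1 ≫ pullback.snd (Y (α i)).hom (g i)) h0) ≫
        (D.obj i).hom) ≫ f i = x₁ ≫ f i' := by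
      rw [Sec.pt_hom, hy2]; exact h
    rw [tr_congr D e4 rfl _ hh]
    rw [Sec.pt_tr _ _ _ h0 x₁ (by
      rw [← h, ← hy2]; exact h0) hh]
    exact Sec.pt_congr _ (by rw [hy0, Category.id_comp]) rfl _ _

end isoPull

end Groth.Agent.Lib.Helper9.DescSec
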