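import Groth.Agent.Lib.Helper9.ZarRef4

set_option backward.isDefEq.respectTransparency false
set_option maxHeartbeats 800000
set_option autoImplicit false
set_option linter.unusedSectionVars false
set_option linter.unusedVariables false
universe u
open CategoryTheory CategoryTheory.Limits AlgebraicGeometry Opposite

namespace Groth.Agent.Lib.Helper9.DescSec

open Groth.Agent.Lib.Helper9.DescFF

section isoPull

variable {S : Scheme.{u}} {ι : Type u} {X : ι → Scheme.{u}} {f : ∀ i, X i ⟶ S}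
  {D : Desc.SchDDFam f}
  {κ : Type u} {V : κ → Scheme.{u}} (v : ∀ j, V j ⟶ S)
  (Y : ∀ j, Over (V j)) (σ : ∀ j, Sec D ((Y j).hom ≫ v j))
  (hu : ∀ j, IsUnivOn (v j) D (Y j) (σ j))
  {α : ι → κ} (g : ∀ i, X i ⟶ V (α i)) (w : ∀ i, g i ≫ v (α i) = f i ≫ 𝟙 S)

include w in
theorem taut_aux' (i : ι) :
    ((𝟙 (D.obj i).left ≫ (D.obj i).hom) ≫ f i) = ((D.obj i).hom ≫ g i) ≫ v (α i) := by
  rw [Category.id_comp, Category.assoc, gw' v g w i]

/-- the point of `Y (α i)` classifying the tautological section of `D.obj i` -/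
noncomputable def ell (i : ι) : Desc.Lifts (Y (α i)) ((D.obj i).hom ≫ g i) :=
  liftOfSec v Y σ hu (α i) ((D.obj i).hom ≫ g i)
    (secOfPt (𝟙 (D.obj i).left) _ (taut_aux' v g w i))

theorem secOfLift_ell (i : ι) :
    secOfLift v Y σ (α i) (ell v Y σ hu g w i) (((D.obj i).hom ≫ g i) ≫ v (α i)) rfl =
      secOfPt (𝟙 (D.obj i).left) _ (taut_aux' v g w i) :=
  secOfLift_liftOfSec v Y σ hu (α i) _ _

/-- the inverse comparison map -/
noncomputable def gamma (i : ι) : (D.obj i).left ⟶ pullback (Y (α i)).hom (g i) :=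
  pullback.lift (ell v Y σ hu g w i).1 (D.obj i).hom (ell v Y σ hu g w i).2

theorem gamma_beta (i : ι) : gamma v Y σ hu g w i ≫ beta v Y σ g w i = 𝟙 _ := by
  have h1 : (gamma v Y σ hu g w i ≫ pullback.snd (Y (α i)).hom (g i)) ≫ f i =
      (gamma v Y σ hu g w i ≫ pullback.fst (Y (α i)).hom (g i)) ≫ (Y (α i)).hom ≫ v (α i) := by
    rw [Category.assoc, Category.assoc, beta_aux v Y g w i]
  rw [comp_beta v Y σ g w i _ h1]
  have hx : (D.obj i).hom ≫ f i = 𝟙 _ ≫ ((D.obj i).hom ≫ g i) ≫ v (α i) := by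
    rw [Category.id_comp, Category.assoc, gw' v g w i]
  have h2 : (D.obj i).hom ≫ f i =
      (𝟙 _ ≫ (ell v Y σ hu g w i).1) ≫ (Y (α i)).hom ≫ v (α i) := by
    rw [Category.id_comp, ← Category.assoc, (ell v Y σ hu g w i).2, Category.assoc,
      gw' v g w i]
  have e1 := secOfLift_pt v Y σ (α i) (ell v Y σ hu g w i) _ rfl (𝟙 _) (D.obj i).hom hx h2
  have e2 : (σ (α i)).pt (gamma v Y σ hu g w i ≫ pullback.fst (Y (α i)).hom (g i))
      (gamma v Y σ hu g w i ≫ pullback.snd (Y (α i)).hom (g i)) h1 =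
      (σ (α i)).pt (𝟙 _ ≫ (ell v Y σ hu g w i).1) (D.obj i).hom h2 :=
    Sec.pt_congr _ (by rw [Category.id_comp]; exact pullback.lift_fst _ _ _)
      (pullback.lift_snd _ _ _) _ _
  rw [e2, ← e1]
  have e3 := congrArg (fun τ => Sec.pt τ (𝟙 _) (D.obj i).hom hx) (secOfLift_ell v Y σ hu g w i)
  refine e3.trans ?_
  exact secOfPt_pt_self _ _ _ _ (Category.id_comp _) hx

theorem beta_gamma (i : ι) : beta v Y σ g w i ≫ gamma v Y σ hu g w i = 𝟙 _ := by
  apply pullback.hom_ext
  · rw [Category.assoc, Category.id_comp]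
    unfold gamma
    rw [pullback.lift_fst]
    -- compare two lifts over `snd ≫ g i`
    let P := pullback (Y (α i)).hom (g i)
    let x : P ⟶ V (α i) := pullback.snd (Y (α i)).hom (g i) ≫ g i
    let a : Desc.Lifts (Y (α i)) x := ⟨beta v Y σ g w i ≫ (ell v Y σ hu g w i).1, by
      rw [Category.assoc, (ell v Y σ hu g w i).2, ← Category.assoc, beta_hom]⟩
    let b : Desc.Lifts (Y (α i)) x := ⟨pullback.fst (Y (α i)).hom (g i), pullback.condition⟩
    have hab : a = b := by
      apply lifts_ext v Y σ hu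
      have hg : beta v Y σ g w i ≫ (((D.obj i).hom ≫ g i) ≫ v (α i)) = x ≫ v (α i) := by
        rw [← Category.assoc, ← Category.assoc, beta_hom]
      rw [secOfLift_comp v Y σ (α i) (beta v Y σ g w i) (ell v Y σ hu g w i) a rfl _ rfl
        (x ≫ v (α i)) rfl hg, secOfLift_ell, secOfPt_pull]
      have hsx : pullback.snd (Y (α i)).hom (g i) ≫ f i = 𝟙 P ≫ x ≫ v (α i) := by
        rw [Category.id_comp, Category.assoc, gw' v g w i]
      have e := Sec.eq_secOfPt (secOfLift v Y σ (α i) b (x ≫ v (α i)) rfl)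
        (pullback.snd (Y (α i)).hom (g i)) hsx
      rw [e]
      apply secOfPt_congr
      rw [Category.comp_id]
      have hb : pullback.snd (Y (α i)).hom (g i) ≫ f i =
          (𝟙 P ≫ b.1) ≫ (Y (α i)).hom ≫ v (α i) := by
        rw [Category.id_comp]; exact beta_aux v Y g w i
      rw [secOfLift_pt v Y σ (α i) b _ rfl (𝟙 P) _ hsx hb]
      exact Sec.pt_congr _ (Category.id_comp _).symm rfl _ _
    exact congrArg Subtype.val hab
  · rw [Category.assoc, Category.id_comp]
    unfold gamma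
    rw [pullback.lift_snd, beta_hom]

include hu in
theorem isIso_beta (i : ι) : IsIso (beta v Y σ g w i) :=
  ⟨gamma v Y σ hu g w i, beta_gamma v Y σ hu g w i, gamma_beta v Y σ hu g w i⟩

theorem isIso_betaHom : IsIso (betaHom v Y σ hu g w) :=
  isIso_of_isIso_left _ (fun i => isIso_beta v Y σ hu g w i)

end isoPull

end Groth.Agent.Lib.Helper9.DescSec
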